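import Mathlib
import Cfsg.Statements.S4403
import Cfsg.Agent.Lib.PCore
import Cfsg.Agent.Lib.LocalCore
import Cfsg.Agent.Lib.PComp2

set_option autoImplicit false
open Cfsg
open scoped Pointwise commutatorElement

namespace Cfsg.Agent.S4403

open Cfsg.Agent.Lib.PCore Cfsg.Agent.Lib.LocalCore

section Gen

variable {K : Type*} [Group K] [Finite K]

/-- In a cyclic group, an element whose `p`-th power is trivial lies in any subgroup generated by
an element of order `p`. -/
theorem mem_zpowers_of_order {Q : Type*} [Group Q] [Finite Q] [IsCyclic Q] {p : ℕ} (hp : p.Prime)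
    {z z' : Q} (hz : orderOf z = p) (hz' : z' ^ p = 1) : z' ∈ Subgroup.zpowers z := by
  classical
  have := Fintype.ofFinite Q
  have h1 : (Finset.univ.filter (fun a : Q => a ∈ Subgroup.zpowers z)) ⊆
      Finset.univ.filter (fun a : Q => a ^ p = 1) := by
    intro a ha
    simp only [Finset.mem_filter, Finset.mem_univ, true_and] at ha ⊢
    obtain ⟨k, rfl⟩ := ha
    rw [← zpow_natCast, zpow_comm, zpow_natCast, ← hz, pow_orderOf_eq_one, one_zpow]
  have h2 : (Finset.univ.filter (fun a : Q => a ^ p = 1)).card ≤
      (Finset.univ.filter (fun a : Q => a ∈ Subgroup.zpowers z)).card := by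
    have h3 := IsCyclic.card_pow_eq_one_le (α := Q) hp.pos
    have h4 : (Finset.univ.filter (fun a : Q => a ∈ Subgroup.zpowers z)).card = p := by
      rw [← hz, ← Nat.card_zpowers z, Nat.card_eq_fintype_card, Fintype.card_subtype]
    omega
  have h5 := Finset.eq_of_subset_of_card_le h1 h2
  have h6 : z' ∈ Finset.univ.filter (fun a : Q => a ^ p = 1) := by simp [hz']
  rw [← h5] at h6
  simpa using h6

/-- Transfer: a central `p`-element of a perfect group with an abelian Sylow `p`-subgroup is
trivial. -/
theorem central_eq_one {X : Type*} [Group X] [Finite X] (p : ℕ) [Fact p.Prime]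
    (hperf : commutator X = ⊤) (T : Sylow p X) (hT : IsMulCommutative (T : Subgroup X))
    {z : X} (hz : z ∈ Subgroup.center X) (hzT : z ∈ (T : Subgroup X)) : z = 1 := by
  have : (T : Subgroup X).FiniteIndex := inferInstance
  let _ : CommGroup (T : Subgroup X) := { (inferInstance : Group (T : Subgroup X)) with
    mul_comm := hT.is_comm.comm }
  let V : X →* (T : Subgroup X) := MonoidHom.transfer (MonoidHom.id (T : Subgroup X))
  have hV : ∀ x : X, V x = 1 := by
    intro x
    have hx : x ∈ commutator X := by rw [hperf]; trivial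
    have hle : commutator X ≤ V.ker := by
      rw [commutator_def, Subgroup.commutator_le]
      intro a _ b _
      rw [MonoidHom.mem_ker, map_commutatorElement, commutatorElement_eq_one_iff_commute.mpr]
      exact mul_comm _ _
    exact hle hx
  have hkey : ∀ (k : ℕ) (g₀ : X), g₀⁻¹ * z ^ k * g₀ ∈ (T : Subgroup X) →
      g₀⁻¹ * z ^ k * g₀ = z ^ k := by
    intro k g₀ _
    have : z ^ k ∈ Subgroup.center X := Subgroup.pow_mem _ hz k
    rw [Subgroup.mem_center_iff] at this
    rw [mul_assoc, ← this g₀, inv_mul_cancel_left]
  have h1 := MonoidHom.transfer_eq_pow (MonoidHom.id (T : Subgroup X)) z hkey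
  have h2 : z ^ (T : Subgroup X).index = 1 := by
    have h3 := hV z
    have h4 : V z = _ := h1
    rw [h3] at h4
    have := congrArg Subtype.val h4
    simpa using this.symm
  have hinj := (T.2.powEquiv' T.not_dvd_index).injective
  have h5 : (⟨z, hzT⟩ : (T : Subgroup X)) = 1 := by
    apply hinj
    apply Subtype.ext
    simpa using h2
  exact congrArg Subtype.val h5

variable (p : ℕ) [Fact p.Prime]

/-- All Sylow subgroups are cyclic if one is. -/
theorem sylow_cyclic (P : Sylow p K) (hP : IsCyclic (P : Subgroup K)) (Q : Sylow p K) :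
    IsCyclic (Q : Subgroup K) :=
  isCyclic_of_surjective (P.equiv Q) (P.equiv Q).surjective

/-- Commuting elements in a group with cyclic Sylow `p`-subgroups. -/
theorem mem_zpowers_of_commute (P : Sylow p K) (hP : IsCyclic (P : Subgroup K)) {z z' : K}
    (hz : orderOf z = p) (hz' : orderOf z' = p) (hc : Commute z z') :
    z' ∈ Subgroup.zpowers z := by
  have hp := (Fact.out : p.Prime)
  have h1 : IsPGroup p (Subgroup.zpowers z) := by
    rw [IsPGroup.iff_card, Nat.card_zpowers, hz]
    exact ⟨1, (pow_one p).symm⟩
  have h2 : IsPGroup p (Subgroup.zpowers z') := by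
    rw [IsPGroup.iff_card, Nat.card_zpowers, hz']
    exact ⟨1, (pow_one p).symm⟩
  have h3 : Subgroup.zpowers z' ≤ Subgroup.normalizer ((Subgroup.zpowers z : Subgroup K) : Set K) := by
    rw [Subgroup.zpowers_le, Subgroup.mem_normalizer_iff]
    intro h
    constructor
    · rintro ⟨k, rfl⟩
      refine ⟨k, ?_⟩
      have : Commute (z ^ k) z' := by
        simpa using hc.zpow_left k
      change z ^ k = z' * z ^ k * z'⁻¹
      rw [← this.eq, mul_inv_cancel_right]
    · rintro ⟨k, hk⟩
      have : Commute (z ^ k) z' := by
        simpa using hc.zpow_left k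
      refine ⟨k, ?_⟩
      have h4 : z' * h * z'⁻¹ = z ^ k := hk.symm
      have h5 : h = z'⁻¹ * z ^ k * z' := by rw [← h4]; group
      rw [h5]
      simp only
      rw [mul_assoc, this.eq, inv_mul_cancel_left]
  have h4 : IsPGroup p ((Subgroup.zpowers z ⊔ Subgroup.zpowers z' : Subgroup K)) :=
    h1.to_sup_of_normal_left' h2 h3
  obtain ⟨Q, hQ⟩ := h4.exists_le_sylow
  have hcyc := sylow_cyclic p P hP Q
  have hzQ : z ∈ (Q : Subgroup K) := hQ (Subgroup.mem_sup_left (Subgroup.mem_zpowers z))
  have hzQ' : z' ∈ (Q : Subgroup K) := hQ (Subgroup.mem_sup_right (Subgroup.mem_zpowers z'))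
  have h5 : (⟨z', hzQ'⟩ : (Q : Subgroup K)) ∈ Subgroup.zpowers (⟨z, hzQ⟩ : (Q : Subgroup K)) := by
    apply mem_zpowers_of_order hp
    · rw [Subgroup.orderOf_mk]; exact hz
    · apply Subtype.ext
      simp only [Subgroup.coe_pow, Subgroup.coe_one]
      rw [← hz', pow_orderOf_eq_one]
  obtain ⟨k, hk⟩ := h5
  refine ⟨k, ?_⟩
  have := congrArg Subtype.val hk
  simpa using this

/-- A central `p`-element of a perfect subgroup is trivial when Sylow `p`-subgroups are cyclic. -/
theorem central_in_perfect (P : Sylow p K) (hP : IsCyclic (P : Subgroup K)) (L : Subgroup K)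
    (hperf : commutator L = ⊤) {z : L} (hz : z ∈ Subgroup.center L) (hzp : z ^ p = 1) : z = 1 := by
  have hp := (Fact.out : p.Prime)
  by_cases hz1 : z = 1
  · exact hz1
  have ho : orderOf z = p := orderOf_eq_prime hzp hz1
  have h1 : IsPGroup p (Subgroup.zpowers z) := by
    rw [IsPGroup.iff_card, Nat.card_zpowers, ho]
    exact ⟨1, (pow_one p).symm⟩
  obtain ⟨T, hT⟩ := h1.exists_le_sylow
  have hT2 : IsPGroup p ((T : Subgroup L).map L.subtype) := T.2.map L.subtype
  obtain ⟨Q, hQ⟩ := hT2.exists_le_sylow
  have hcyc := sylow_cyclic p P hP Q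
  have hcomm : IsMulCommutative (T : Subgroup L) := by
    refine ⟨⟨fun a b => ?_⟩⟩
    have ha : (a : L).1 ∈ (Q : Subgroup K) := hQ ⟨a.1, a.2, rfl⟩
    have hb : (b : L).1 ∈ (Q : Subgroup K) := hQ ⟨b.1, b.2, rfl⟩
    have hcc := (IsCyclic.isMulCommutative (α := (Q : Subgroup K))).is_comm
    have := hcc.comm ⟨_, ha⟩ ⟨_, hb⟩
    apply Subtype.ext
    apply Subtype.ext
    have h9 := congrArg Subtype.val this
    exact h9
  exact central_eq_one p hperf T hcomm hz (hT (Subgroup.mem_zpowers z))

/-- Lemma: an element acting on `⟨x⟩` as a power congruent to `1` mod `p`: some `p`-power of it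
centralises `x`. -/
theorem exists_pow_commute {x w : K} {u : ℕ} (m : ℕ) (hx : orderOf x = p ^ m)
    (hw : w * x * w⁻¹ = x ^ u) (hu : (p : ℤ) ∣ (u : ℤ) - 1) :
    Commute (w ^ p ^ m) x := by
  have hconj : ∀ j : ℕ, w ^ j * x * (w ^ j)⁻¹ = x ^ u ^ j := by
    intro j
    induction j with
    | zero => simp
    | succ j ih =>
      have h1 : w ^ (j + 1) * x * (w ^ (j + 1))⁻¹ = w * (w ^ j * x * (w ^ j)⁻¹) * w⁻¹ := by
        rw [pow_succ']; group
      rw [h1, ih, pow_succ', pow_mul]
      have h2 : w * x ^ u ^ j * w⁻¹ = (w * x * w⁻¹) ^ u ^ j := by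
        rw [conj_pow]
      rw [h2, hw]
  have h1 := hconj (p ^ m)
  have h2 : ((p : ℤ) ^ (m + 1)) ∣ ((u : ℤ)) ^ p ^ m - 1 ^ p ^ m := by
    exact_mod_cast dvd_sub_pow_of_dvd_sub (R := ℤ) (p := p) (a := (u : ℤ)) (b := 1) hu m
  have h3 : ((orderOf x : ℕ) : ℤ) ∣ ((u ^ p ^ m : ℕ) : ℤ) - 1 := by
    rw [hx]
    push_cast
    rw [one_pow] at h2
    exact (pow_dvd_pow (p : ℤ) (Nat.le_succ m)).trans h2
  have h4 : x ^ u ^ p ^ m = x := by
    have h5 : x ^ (u ^ p ^ m) = x ^ 1 := by
      rw [pow_eq_pow_iff_modEq, Nat.modEq_iff_dvd]
      have := h3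
      rw [← dvd_neg] at this
      simpa using this
    simpa using h5
  rw [h4] at h1
  -- `w^{p^m} x (w^{p^m})⁻¹ = x`
  exact mul_inv_eq_iff_eq_mul.mp h1

end Gen

/-- **S4403**. -/
theorem result {K : Type*} [Group K] [Finite K] (p : ℕ) [Fact p.Prime] (hp : p ∣ Nat.card K) (hO : Cfsg.pPrimeCore p K = ⊥)
    (P : Sylow p K) (hP : IsCyclic ↥(P : Subgroup K)) :
    ((P : Subgroup K).Normal ∧ Subgroup.centralizer ((P : Subgroup K) : Set K) = (P : Subgroup K) ∧
      (∀ (_ : (P : Subgroup K).Normal), IsCyclic (K ⧸ (P : Subgroup K))) ∧ (P : Subgroup K).index ∣ p - 1) ∨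
    (IsSimpleGroup ↥(Cfsg.generalizedFittingSubgroup K) ∧ ¬ IsMulCommutative ↥(Cfsg.generalizedFittingSubgroup K) ∧
      ¬ p ∣ (Cfsg.generalizedFittingSubgroup K).index) := by
  have hpp := (Fact.out : p.Prime)
  by_cases hE : ∃ L : Subgroup K, IsComponent L
  · right
    obtain ⟨L, hL⟩ := hE
    -- components have order divisible by `p`
    have hdvd : ∀ L : Subgroup K, IsComponent L → ∃ z ∈ L, orderOf z = p := by
      intro L hL
      have hd : p ∣ Nat.card L := by
        by_contra hnd
        have hc : (Nat.card L).Coprime p :=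
          ((Nat.Prime.coprime_iff_not_dvd hpp).mpr hnd).symm
        have := Cfsg.Agent.Lib.PComp2.le_pPrimeCore_of_subnormal hL.1 hc
        rw [hO] at this
        exact comp_ne_bot hL (le_bot_iff.mp this)
      obtain ⟨z, hz⟩ := exists_prime_orderOf_dvd_card' p hd
      exact ⟨z.1, z.2, by rw [← hz]; exact Subgroup.orderOf_coe z⟩
    have hcentral : ∀ L : Subgroup K, IsComponent L → ∀ y ∈ L, y ^ p = 1 →
        (∀ l ∈ L, Commute y l) → y = 1 := by
      intro L hL y hy hyp hcomm
      have h1 : (⟨y, hy⟩ : L) ∈ Subgroup.center L := by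
        rw [Subgroup.mem_center_iff]
        rintro ⟨l, hl⟩
        exact Subtype.ext (hcomm l hl).symm
      have h2 := central_in_perfect p P hP L (comp_qs hL).1.commutator_eq_top h1
        (Subtype.ext (by simpa using hyp))
      exact congrArg Subtype.val h2
    obtain ⟨z, hzL, hz⟩ := hdvd L hL
    -- `O_p(K) = 1`
    have hF : Cfsg.fittingSubgroup K = ⊥ := by
      rw [fittingSubgroup_eq_pCore_of_pPrimeCore_eq_bot p hO]
      by_contra hne
      obtain ⟨y, hy⟩ : ∃ y : Cfsg.pCore p K, orderOf y = p := by
        have hnt : Nontrivial (Cfsg.pCore p K) := Subgroup.nontrivial_iff_ne_bot _ |>.mpr hne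
        obtain ⟨n, hn⟩ := isPGroup_pCore (G := K) p |>.exists_card_eq
        have hd : p ∣ Nat.card (Cfsg.pCore p K) := by
          rw [hn]
          have hn0 : n ≠ 0 := by
            rintro rfl
            have := Finite.one_lt_card (α := Cfsg.pCore p K)
            rw [hn] at this
            simp at this
          exact dvd_pow_self p hn0
        exact exists_prime_orderOf_dvd_card' p hd
      have hy' : orderOf (y : K) = p := (Subgroup.orderOf_coe y).trans hy
      have hcomm : ∀ l ∈ L, Commute (y : K) l := by
        intro l hl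
        have h1 := comp_commute_pCore p hL
        exact (commutator_eq_bot_iff_elementwise.mp h1 l hl y y.2).symm
      have hmem := mem_zpowers_of_commute p P hP hz hy' (hcomm z hzL).symm
      have hyL : (y : K) ∈ L := (Subgroup.zpowers_le.mpr hzL) hmem
      have := hcentral L hL y hyL (by
        have h7 := pow_orderOf_eq_one (y : K)
        rwa [hy'] at h7) hcomm
      rw [this, orderOf_one] at hy'
      exact hpp.one_lt.ne hy'
    -- uniqueness of the component
    have hunique : ∀ L' : Subgroup K, IsComponent L' → L' = L := by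
      intro L' hL'
      by_contra hne
      obtain ⟨y, hyL', hy⟩ := hdvd L' hL'
      have h1 := comp_commute_of_ne hL hL' (Ne.symm hne)
      have hc : Commute z y := commutator_eq_bot_iff_elementwise.mp h1 z hzL y hyL'
      have hmem := mem_zpowers_of_commute p P hP hz hy hc
      have hyL : y ∈ L := (Subgroup.zpowers_le.mpr hzL) hmem
      have hcomm : ∀ l ∈ L', Commute y l := fun l hl =>
        (commutator_eq_bot_iff_elementwise.mp h1 y hyL l hl)
      have := hcentral L' hL' y hyL' (by rw [← hy, pow_orderOf_eq_one]) hcomm
      rw [this, orderOf_one] at hy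
      exact hpp.one_lt.ne hy
    have hlayer : layer K = L := by
      apply le_antisymm
      · exact sSup_le fun L' hL' => (hunique L' hL').le
      · exact comp_le_layer hL
    have hstar : generalizedFittingSubgroup K = L := by
      rw [generalizedFittingSubgroup, hlayer, hF, sup_bot_eq]
    rw [hstar]
    have hLn : L.Normal := hlayer ▸ (inferInstance : (layer K).Normal)
    -- trivial centre
    have hZ : Subgroup.center L = ⊥ := by
      have hchar : ((Subgroup.center L).map L.subtype).Normal := ⟨by
        rintro _ ⟨a, ha, rfl⟩ g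
        have ha' : a ∈ Subgroup.center L := ha
        refine ⟨⟨g * a * g⁻¹, hLn.conj_mem a a.2 g⟩, ?_, rfl⟩
        change _ ∈ Subgroup.center L
        rw [Subgroup.mem_center_iff]
        rintro ⟨l, hl⟩
        apply Subtype.ext
        have h1 := Subgroup.mem_center_iff.mp ha'
          ⟨g⁻¹ * l * g, by simpa using hLn.conj_mem l hl g⁻¹⟩
        have h2 : (g⁻¹ * l * g) * (a : K) = a * (g⁻¹ * l * g) := congrArg Subtype.val h1
        change l * (g * a * g⁻¹) = (g * a * g⁻¹) * l
        calc l * (g * a * g⁻¹) = g * ((g⁻¹ * l * g) * a) * g⁻¹ := by group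
          _ = g * (a * (g⁻¹ * l * g)) * g⁻¹ := by rw [h2]
          _ = _ := by group⟩
      have hnil : Group.IsNilpotent ((Subgroup.center L).map L.subtype) := by
        have hab : IsMulCommutative ((Subgroup.center L).map L.subtype) := by
          refine ⟨⟨?_⟩⟩
          rintro ⟨_, a, ha, rfl⟩ ⟨_, b, hb, rfl⟩
          apply Subtype.ext
          have h9 := congrArg Subtype.val (Subgroup.mem_center_iff.mp ha b).symm
          exact h9
        let _ : CommGroup ((Subgroup.center L).map L.subtype) :=
          { (inferInstance : Group ((Subgroup.center L).map L.subtype)) with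
            mul_comm := hab.is_comm.comm }
        exact CommGroup.isNilpotent
      have hle := le_fittingSubgroup hchar hnil
      rw [hF, le_bot_iff] at hle
      exact (Subgroup.map_eq_bot_iff_of_injective _ L.subtype_injective).mp hle
    refine ⟨?_, comp_not_comm hL, ?_⟩
    · have hs := (comp_qs hL).2
      have hbij : Function.Bijective (QuotientGroup.mk' (Subgroup.center L)) := by
        refine ⟨?_, QuotientGroup.mk'_surjective _⟩
        rw [injective_iff_map_eq_one]
        intro a ha
        have h3 : a ∈ (QuotientGroup.mk' (Subgroup.center L)).ker := ha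
        rw [QuotientGroup.ker_mk', hZ] at h3
        exact h3
      exact (MulEquiv.ofBijective _ hbij).isSimpleGroup
    · -- `P ≤ L`
      have hPL : (P : Subgroup K) ≤ L := by
        by_contra hnPL
        obtain ⟨x, hx⟩ := hP.exists_generator
        have hxgen : Subgroup.zpowers (x : K) = (P : Subgroup K) := by
          apply le_antisymm
          · rw [Subgroup.zpowers_le]; exact x.2
          · intro y hy
            obtain ⟨k, hk⟩ := hx ⟨y, hy⟩
            refine ⟨k, ?_⟩
            have := congrArg Subtype.val hk
            simpa using this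
        have hxL : (x : K) ∉ L := by
          intro h
          apply hnPL
          rw [← hxgen, Subgroup.zpowers_le]
          exact h
        have hPcomm : ∀ a ∈ (P : Subgroup K), ∀ b ∈ (P : Subgroup K), a * b = b * a := by
          intro a ha b hb
          have hcc := (IsCyclic.isMulCommutative (α := (P : Subgroup K))).is_comm
          have h9 := congrArg Subtype.val (hcc.comm ⟨a, ha⟩ ⟨b, hb⟩)
          exact h9
        obtain ⟨m, hm⟩ := P.2.exists_card_eq
        have hxo : orderOf (x : K) = p ^ m := by
          rw [Subgroup.orderOf_coe, orderOf_eq_card_of_forall_mem_zpowers hx, hm]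
        let X : Subgroup K := L ⊔ (P : Subgroup K)
        let P' : Sylow p X := P.subtype le_sup_right
        have hmemP' : ∀ a : X, a ∈ (P' : Subgroup X) ↔ (a : K) ∈ (P : Subgroup K) := by
          intro a
          rw [Sylow.coe_subtype, Subgroup.mem_subgroupOf]
        by_cases hB : Subgroup.normalizer ((P' : Subgroup X) : Set X) ≤
            Subgroup.centralizer ((P' : Subgroup X) : Set X)
        · have hker := MonoidHom.not_dvd_card_ker_transferSylow P' hB
          let τ := MonoidHom.transferSylow P' hB
          let φ : L →* (P' : Subgroup X) := τ.comp (Subgroup.inclusion (le_sup_left : L ≤ X))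
          have hle : commutator L ≤ φ.ker := by
            rw [commutator_def, Subgroup.commutator_le]
            intro a _ b _
            rw [MonoidHom.mem_ker, map_commutatorElement,
              commutatorElement_eq_one_iff_commute]
            apply Subtype.ext
            apply Subtype.ext
            exact hPcomm _ ((hmemP' _).mp (φ a).2) _ ((hmemP' _).mp (φ b).2)
          rw [(comp_qs hL).1.commutator_eq_top, top_le_iff] at hle
          have hzk : (⟨z, Subgroup.mem_sup_left hzL⟩ : X) ∈ τ.ker := by
            have h1 : (⟨z, hzL⟩ : L) ∈ φ.ker := by rw [hle]; trivial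
            exact h1
          apply hker
          have h2 : orderOf (⟨⟨z, Subgroup.mem_sup_left hzL⟩, hzk⟩ : τ.ker) = p := by
            rw [Subgroup.orderOf_mk, Subgroup.orderOf_mk]; exact hz
          have h3 := orderOf_dvd_natCard (⟨⟨z, Subgroup.mem_sup_left hzL⟩, hzk⟩ : τ.ker)
          rw [h2] at h3
          exact h3
        · obtain ⟨w, hwN, hwC⟩ := SetLike.not_le_iff_exists.mp hB
          -- `w = l y`
          have hw_mem : (w : K) ∈ ((L : Set K) * ((P : Subgroup K) : Set K)) := by
            rw [← Subgroup.normal_mul]; exact w.2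
          obtain ⟨l, hl, y, hy, hwly⟩ := Set.mem_mul.mp hw_mem
          have hwx : (w : K) * x * (w : K)⁻¹ ∈ (P : Subgroup K) := by
            have hxX : (x : K) ∈ X := Subgroup.mem_sup_right x.2
            have h1 := (Subgroup.mem_normalizer_iff.mp hwN ⟨x, hxX⟩).mp ((hmemP' _).mpr x.2)
            exact (hmemP' _).mp h1
          obtain ⟨u, hu⟩ : ∃ u : ℕ, (x : K) ^ u = (w : K) * x * (w : K)⁻¹ := by
            have h2 : (w : K) * x * (w : K)⁻¹ ∈ Subgroup.zpowers (x : K) := by
              rw [hxgen]; exact hwx
            rw [← mem_powers_iff_mem_zpowers] at h2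
            exact h2
          -- `x^(u-1) ∈ L`
          have hcomm_y : (y : K) * x * y⁻¹ = x := by
            rw [hPcomm _ hy _ x.2, mul_inv_cancel_right]
          have hcomL : (x : K) ^ u * (x : K)⁻¹ ∈ L := by
            rw [hu, ← hwly]
            have : l * y * (x : K) * (l * y)⁻¹ * (x : K)⁻¹ =
                l * (((y : K) * x * y⁻¹) * l⁻¹ * (x : K)⁻¹) := by group
            rw [this, hcomm_y]
            exact L.mul_mem hl (hLn.conj_mem l⁻¹ (L.inv_mem hl) x)
          have hdiv : (p : ℤ) ∣ (u : ℤ) - 1 := by
            by_contra hnd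
            have hpi : Prime (p : ℤ) := Nat.prime_iff_prime_int.mp hpp
            have hco : IsCoprime ((p : ℤ) ^ m) ((u : ℤ) - 1) :=
              ((hpi.coprime_iff_not_dvd).mpr hnd).pow_left
            obtain ⟨a, b, hab⟩ := hco
            apply hxL
            have h5 : (x : K) ^ (a * (p : ℤ) ^ m + b * ((u : ℤ) - 1)) = x := by
              rw [hab, zpow_one]
            rw [← h5, zpow_add, mul_comm a, zpow_mul]
            have h6 : (x : K) ^ ((p : ℤ) ^ m) = 1 := by
              have := pow_orderOf_eq_one (x : K)
              rw [hxo] at this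
              exact_mod_cast this
            rw [h6, one_zpow, one_mul, mul_comm b, zpow_mul]
            apply L.zpow_mem
            have h7 : (x : K) ^ ((u : ℤ) - 1) = (x : K) ^ u * (x : K)⁻¹ := by
              rw [zpow_sub, zpow_natCast, zpow_one]
            rw [h7]
            exact hcomL
          have hpm := exists_pow_commute p m hxo hu.symm hdiv
          -- `w^c ∈ P`
          have hwN' : (w : K) ∈ Subgroup.normalizer ((P : Subgroup K) : Set K) := by
            rw [Subgroup.mem_normalizer_iff]
            intro h
            constructor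
            · intro hh
              have hhX : h ∈ X := Subgroup.mem_sup_right hh
              have h1 := (Subgroup.mem_normalizer_iff.mp hwN ⟨h, hhX⟩).mp ((hmemP' _).mpr hh)
              exact (hmemP' _).mp h1
            · intro hh
              -- h = w⁻¹ (w h w⁻¹) w
              have hX : (w : K) * h * (w : K)⁻¹ ∈ X := Subgroup.mem_sup_right hh
              have hX2 : h ∈ X := by
                have h3 : h = (w : K)⁻¹ * ((w : K) * h * (w : K)⁻¹) * w := by group
                rw [h3]
                exact X.mul_mem (X.mul_mem (X.inv_mem w.2) hX) w.2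
              have h1 := (Subgroup.mem_normalizer_iff.mp hwN ⟨h, hX2⟩).mpr ((hmemP' _).mpr hh)
              exact (hmemP' _).mp h1
          let N := Subgroup.normalizer ((P : Subgroup K) : Set K)
          let c := ((P : Subgroup K).subgroupOf N).index
          have hc : ¬ p ∣ c := fun h =>
            P.not_dvd_index (h.trans (Subgroup.relIndex_dvd_index_of_le Subgroup.le_normalizer))
          have hwc : (w : K) ^ c ∈ (P : Subgroup K) := by
            have h3 := Subgroup.pow_index_mem ((P : Subgroup K).subgroupOf N) (⟨w, hwN'⟩ : N)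
            rw [Subgroup.mem_subgroupOf] at h3
            simpa using h3
          have hcomm1 : Commute ((w : K) ^ c) x := hPcomm _ hwc _ x.2
          have hpi : Prime (p : ℤ) := Nat.prime_iff_prime_int.mp hpp
          have hco : IsCoprime (c : ℤ) ((p : ℤ) ^ m) := by
            apply IsCoprime.pow_right
            apply IsCoprime.symm
            rw [hpi.coprime_iff_not_dvd]
            intro h
            exact hc (Int.natCast_dvd_natCast.mp h)
          obtain ⟨a, b, hab⟩ := hco
          have hcw : Commute (w : K) x := by
            have e : (w : K) = ((w : K) ^ c) ^ a * ((w : K) ^ p ^ m) ^ b := by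
              have h5 : (w : K) ^ (a * (c : ℤ) + b * (p : ℤ) ^ m) = w := by rw [hab, zpow_one]
              rw [← zpow_natCast, ← zpow_natCast, ← zpow_mul, ← zpow_mul, ← zpow_add]
              push_cast
              rw [mul_comm (c : ℤ), mul_comm ((p : ℤ) ^ m)]
              exact h5.symm
            rw [e]
            exact (hcomm1.zpow_left a).mul_left (hpm.zpow_left b)
          apply hwC
          rw [Subgroup.mem_centralizer_iff]
          intro h hh
          have hh' := (hmemP' h).mp hh
          rw [← hxgen] at hh'
          obtain ⟨k, hk⟩ := hh'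
          apply Subtype.ext
          change (h : K) * w = w * h
          have h7 : Commute (w : K) ((x : K) ^ k) := hcw.zpow_right k
          have hk' : (x : K) ^ k = h := hk
          rw [hk'] at h7
          exact h7.eq.symm
      exact fun h => P.not_dvd_index (h.trans (Subgroup.index_dvd_of_le hPL))
  · left
    have hlayer : layer K = ⊥ := by
      rw [layer, sSup_eq_bot]
      intro a ha
      exact absurd ⟨a, ha⟩ hE
    have hF := fittingSubgroup_eq_pCore_of_pPrimeCore_eq_bot p hO
    have hstar : generalizedFittingSubgroup K = pCore p K := by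
      rw [generalizedFittingSubgroup, hlayer, bot_sup_eq, hF]
    have hC := centralizer_generalizedFitting_le (G := K)
    rw [hstar] at hC
    have hQP : pCore p K ≤ (P : Subgroup K) := pCore_le_sylow p P
    have hQc : IsCyclic (pCore p K) :=
      isCyclic_of_injective (Subgroup.inclusion hQP) (Subgroup.inclusion_injective hQP)
    have hQn : (pCore p K).Normal := by
      have := pCore_characteristic (G := K) p
      exact Subgroup.normal_of_characteristic _
    have hAut : ∀ a b : MulAut (pCore p K), a * b = b * a := by
      intro a b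
      apply (IsCyclic.mulAutMulEquiv (pCore p K)).injective
      rw [map_mul, map_mul, mul_comm]
    have hcommQ : ∀ g h : K, ⁅g, h⁆ ∈ pCore p K := by
      intro g h
      apply hC
      rw [Subgroup.mem_centralizer_iff]
      intro q hq
      have h1 : MulAut.conjNormal (H := pCore p K) ⁅g, h⁆ = 1 := by
        rw [map_commutatorElement, commutatorElement_eq_one_iff_commute]
        exact hAut _ _
      have h2 := congrArg (fun f : MulAut (pCore p K) => ((f ⟨q, hq⟩ : pCore p K) : K)) h1
      simp only [MulAut.conjNormal_apply, MulAut.one_apply] at h2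
      exact (eq_mul_inv_iff_mul_eq.mp h2.symm)
    have hPn : (P : Subgroup K).Normal := ⟨by
      intro a ha g
      have : g * a * g⁻¹ = ⁅g, a⁆ * a := by
        simp [commutatorElement_def]
      rw [this]
      exact Subgroup.mul_mem _ (hQP (hcommQ g a)) ha⟩
    have hPQ : (P : Subgroup K) = pCore p K := le_antisymm (le_pCore hPn P.2) hQP
    have hPcomm : ∀ a ∈ (P : Subgroup K), ∀ b ∈ (P : Subgroup K), a * b = b * a := by
      intro a ha b hb
      have hcc := (IsCyclic.isMulCommutative (α := (P : Subgroup K))).is_comm
      have h9 := congrArg Subtype.val (hcc.comm ⟨a, ha⟩ ⟨b, hb⟩)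
      exact h9
    have hCent : Subgroup.centralizer ((P : Subgroup K) : Set K) = (P : Subgroup K) := by
      apply le_antisymm
      · rw [hPQ]; exact hC
      · intro a ha
        rw [Subgroup.mem_centralizer_iff]
        intro b hb
        exact hPcomm _ hb _ ha
    have hker : (MulAut.conjNormal (H := (P : Subgroup K))).ker = (P : Subgroup K) := by
      ext a
      rw [MonoidHom.mem_ker]
      constructor
      · intro h
        have : a ∈ Subgroup.centralizer ((P : Subgroup K) : Set K) := by
          rw [Subgroup.mem_centralizer_iff]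
          intro b hb
          have h2 := congrArg (fun f : MulAut (P : Subgroup K) => ((f ⟨b, hb⟩ : (P : Subgroup K)) : K)) h
          simp only [MulAut.conjNormal_apply, MulAut.one_apply] at h2
          exact (eq_mul_inv_iff_mul_eq.mp h2.symm)
        rwa [hCent] at this
      · intro h
        ext b
        simp only [MulAut.conjNormal_apply, MulAut.one_apply]
        rw [hPcomm a h _ b.2, mul_inv_cancel_right]
    -- injection
    let ψ : K ⧸ (P : Subgroup K) →* MulAut (P : Subgroup K) :=
      QuotientGroup.lift (P : Subgroup K) (MulAut.conjNormal (H := (P : Subgroup K)))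
        hker.ge
    have hψ : Function.Injective ψ := by
      rw [injective_iff_map_eq_one]
      intro q
      induction q using QuotientGroup.induction_on with
      | H a =>
        intro h
        have h1 : a ∈ (MulAut.conjNormal (H := (P : Subgroup K))).ker := h
        rw [hker] at h1
        exact (QuotientGroup.eq_one_iff a).mpr h1
    have hcard : (P : Subgroup K).index ∣ Nat.card (MulAut (P : Subgroup K)) := by
      rw [Subgroup.index]
      exact Subgroup.card_dvd_of_injective ψ hψ
    obtain ⟨n, hn⟩ := P.2.exists_card_eq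
    have hdiv : (P : Subgroup K).index ∣ p - 1 := by
      rw [IsCyclic.card_mulAut, hn] at hcard
      rcases Nat.eq_zero_or_pos n with h0 | h0
      · subst h0
        simp only [pow_zero, Nat.totient_one, Nat.dvd_one] at hcard
        rw [hcard]
        exact one_dvd _
      · rw [Nat.totient_prime_pow hpp h0] at hcard
        have hco : Nat.Coprime (P : Subgroup K).index (p ^ (n - 1)) :=
          Nat.Coprime.pow_right _ (((Nat.Prime.coprime_iff_not_dvd hpp).mpr P.not_dvd_index).symm)
        exact hco.dvd_of_dvd_mul_left hcard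
    refine ⟨hPn, hCent, ?_, hdiv⟩
    intro _
    by_cases hp2 : p = 2
    · subst hp2
      have h1 : (P : Subgroup K).index = 1 := by simpa using hdiv
      have h2 : Subsingleton (K ⧸ (P : Subgroup K)) := by
        rw [Subgroup.index_eq_one] at h1
        rw [h1]
        exact QuotientGroup.subsingleton_quotient_top
      infer_instance
    · have hcyc : IsCyclic (ZMod (Nat.card (P : Subgroup K)))ˣ := by
        rw [hn]
        exact ZMod.isCyclic_units_of_prime_pow p hpp hp2 n
      exact isCyclic_of_injective ((IsCyclic.mulAutMulEquiv (P : Subgroup K)).toMonoidHom.comp ψ)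
        ((IsCyclic.mulAutMulEquiv (P : Subgroup K)).injective.comp hψ)

end Cfsg.Agent.S4403
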