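import Mathlib
import Cfsg.Statements.S0728

set_option autoImplicit false
open Cfsg

namespace Cfsg.Agent.S0728

open Finset

variable {α : Type*} [Fintype α] [DecidableEq α]

lemma sharp_fix (G : Subgroup (Equiv.Perm α)) (hsharp : ∀ x : Fin 3 ↪ α, MulAction.stabilizer G x = ⊥)
    (g : Equiv.Perm α) (hg : g ∈ G) (p q r : α) (hpq : p ≠ q) (hpr : p ≠ r) (hqr : q ≠ r)
    (h1 : g p = p) (h2 : g q = q) (h3 : g r = r) : g = 1 := by
  let x : Fin 3 ↪ α := ⟨![p, q, r], by
    intro i j h
    fin_cases i <;> fin_cases j <;> simp_all⟩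
  have hm : (⟨g, hg⟩ : G) ∈ MulAction.stabilizer G x := by
    rw [MulAction.mem_stabilizer_iff]
    ext i
    fin_cases i
    · exact h1
    · exact h2
    · exact h3
  rw [hsharp x, Subgroup.mem_bot] at hm
  exact congrArg Subtype.val hm

lemma two_trans (G : Subgroup (Equiv.Perm α)) (h3 : MulAction.IsMultiplyPretransitive G α 3)
    (h6 : 6 ≤ Fintype.card α) : MulAction.IsMultiplyPretransitive G α 2 :=
  MulAction.isMultiplyPretransitive_of_le' (n := 3) (by omega) (by
    rw [ENat.card_eq_coe_fintype_card]; exact_mod_cast (by omega : 3 ≤ Fintype.card α))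

/-- In a sharply triply transitive group of even degree at least 6 (degree `q + 1`, `q` odd), a two-point stabiliser has at most one subgroup of order 3. -/
theorem result {α : Type*} [Fintype α] [DecidableEq α] (heven : Even (Fintype.card α)) (h6 : 6 ≤ Fintype.card α) (G : Subgroup (Equiv.Perm α)) (h3 : MulAction.IsMultiplyPretransitive G α 3) (hsharp : ∀ x : Fin 3 ↪ α, MulAction.stabilizer G x = ⊥) {a b : α} (hab : a ≠ b) (A B : Subgroup G) (hA : A ≤ MulAction.stabilizer G a ⊓ MulAction.stabilizer G b) (hB : B ≤ MulAction.stabilizer G a ⊓ MulAction.stabilizer G b) (hA3 : Nat.card A = 3) (hB3 : Nat.card B = 3) : A = B := by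
  classical
  set n := Fintype.card α with hn
  have hsh := sharp_fix G hsharp
  have h2 := two_trans G h3 h6
  -- order three elements
  set T : Finset (Equiv.Perm α) := univ.filter (fun g => g ∈ G ∧ g ≠ 1 ∧ g ^ 3 = 1) with hT
  -- a generator of A
  have hnt : Nontrivial A := by
    rw [← Finite.one_lt_card_iff_nontrivial, hA3]; omega
  obtain ⟨y, hy⟩ := exists_ne (1 : A)
  have hy3 : y ^ 3 = 1 := by rw [← hA3]; exact pow_card_eq_one'
  set g0 : Equiv.Perm α := ((y : G) : Equiv.Perm α) with hg0
  have hg0G : g0 ∈ G := ((y : G)).2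
  have hg01 : g0 ≠ 1 := by
    intro h
    apply hy
    apply Subtype.ext
    apply Subtype.ext
    exact h
  have hg03 : g0 ^ 3 = 1 := by
    have := congrArg (fun z : A => (((z : G) : Equiv.Perm α))) hy3
    simpa using this
  have hmemA := hA y.2
  rw [Subgroup.mem_inf, MulAction.mem_stabilizer_iff, MulAction.mem_stabilizer_iff] at hmemA
  have hg0a : g0 a = a := hmemA.1
  have hg0b : g0 b = b := hmemA.2
  -- fixed points
  have hfixle : ∀ g ∈ G, g ≠ 1 → (univ.filter (fun x => g x = x)).card ≤ 2 := by
    intro g hg hg1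
    by_contra hcon
    push Not at hcon
    obtain ⟨p, hp, q, hq, r, hr, hpq, hpr, hqr⟩ := Finset.two_lt_card.1 hcon
    simp only [mem_filter, mem_univ, true_and] at hp hq hr
    exact hg1 (hsh g hg p q r hpq hpr hqr hp hq hr)
  have hcompl : ∀ g : Equiv.Perm α, g ^ 3 = 1 →
      (univ.filter (fun x => g x = x)).card % 3 = n % 3 := by
    intro g hg
    have : Fact (Nat.Prime 3) := ⟨Nat.prime_three⟩
    have key := Equiv.Perm.card_compl_support_modEq (p := 3) (n := 1) (σ := g) (by simpa using hg)
    have he : (g.support)ᶜ = univ.filter (fun x => g x = x) := by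
      ext x; simp [Equiv.Perm.mem_support]
    rw [he] at key
    exact key
  have hg0fix : (univ.filter (fun x => g0 x = x)).card = 2 := by
    have hle := hfixle g0 hg0G hg01
    have hsub : ({a, b} : Finset α) ⊆ univ.filter (fun x => g0 x = x) := by
      intro z hz
      simp only [mem_insert, mem_singleton] at hz
      simp only [mem_filter, mem_univ, true_and]
      rcases hz with rfl | rfl
      · exact hg0a
      · exact hg0b
    have := Finset.card_le_card hsub
    rw [Finset.card_pair hab] at this
    omega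
  have hn3 : n % 3 = 2 := by
    have := hcompl g0 hg03
    rw [hg0fix] at this
    omega
  have hTfix : ∀ g ∈ T, (univ.filter (fun x => g x = x)).card = 2 := by
    intro g hg
    rw [hT, mem_filter] at hg
    have h1 := hfixle g hg.2.1 hg.2.2.1
    have h4 := hcompl g hg.2.2.2
    omega
  have hTsupp : ∀ g ∈ T, g.support.card = n - 2 := by
    intro g hg
    have h4 := hTfix g hg
    have h5 := Finset.card_filter_add_card_filter_not (s := (univ : Finset α)) (fun x => g x = x)
    rw [card_univ] at h5
    have he : g.support = univ.filter (fun x => ¬ g x = x) := by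
      ext x; simp [Equiv.Perm.mem_support]
    rw [he]
    omega
  -- first count: injection to triples
  set D3 : Finset (Σ _ : α × α, α) := (univ : Finset α).offDiag.sigma
    (fun p => univ \ {p.1, p.2}) with hD3
  have hD3card : D3.card = (n * n - n) * (n - 2) := by
    rw [hD3, Finset.card_sigma]
    have : ∀ p ∈ (univ : Finset α).offDiag, (univ \ ({p.1, p.2} : Finset α)).card = n - 2 := by
      intro p hp
      rw [mem_offDiag] at hp
      rw [Finset.card_sdiff_of_subset (subset_univ _), card_univ, Finset.card_pair hp.2.2]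
    rw [Finset.sum_congr rfl this, Finset.sum_const, smul_eq_mul, Finset.offDiag_card, card_univ]
  set W : Finset (Σ _ : Equiv.Perm α, α) := T.sigma (fun g => g.support) with hW
  have hWcard : W.card = T.card * (n - 2) := by
    rw [hW, Finset.card_sigma, Finset.sum_congr rfl hTsupp, Finset.sum_const, smul_eq_mul]
  have hWle : W.card ≤ D3.card := by
    refine Finset.card_le_card_of_injOn
      (fun w => ⟨(w.2, w.1 w.2), w.1 (w.1 w.2)⟩) ?_ ?_
    · rintro ⟨g, x⟩ hw
      simp only [hW, coe_sigma, Set.mem_sigma_iff, mem_coe] at hw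
      have hg3 : g ^ 3 = 1 := (mem_filter.1 hw.1).2.2.2
      have hx : g x ≠ x := Equiv.Perm.mem_support.1 hw.2
      simp only [hD3, coe_sigma, Set.mem_sigma_iff, mem_coe, mem_offDiag, mem_univ, true_and,
        mem_sdiff, mem_insert, mem_singleton, not_or]
      refine ⟨hx.symm, ?_, ?_⟩
      · intro h
        apply hx
        have h3' : g (g (g x)) = x := by
          have := congrArg (fun p : Equiv.Perm α => p x) hg3
          simpa [pow_succ, Equiv.Perm.mul_apply] using this
        rw [h] at h3'
        exact h3'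
      · intro h
        exact hx (g.injective h)
    · rintro ⟨g, x⟩ hw ⟨g', x'⟩ hw' he
      simp only [hW, coe_sigma, Set.mem_sigma_iff, mem_coe] at hw hw'
      simp only [Sigma.mk.injEq, Prod.mk.injEq, heq_eq_eq] at he
      obtain ⟨⟨rfl, h1⟩, h2⟩ := he
      have hgG : g ∈ G := (mem_filter.1 hw.1).2.1
      have hgG' : g' ∈ G := (mem_filter.1 hw'.1).2.1
      have hg3 : g ^ 3 = 1 := (mem_filter.1 hw.1).2.2.2
      have hg3' : g' ^ 3 = 1 := (mem_filter.1 hw'.1).2.2.2
      have hx : g x ≠ x := Equiv.Perm.mem_support.1 hw.2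
      have h3' : g (g (g x)) = x := by
        have := congrArg (fun p : Equiv.Perm α => p x) hg3
        simpa [pow_succ, Equiv.Perm.mul_apply] using this
      have h3'' : g' (g' (g' x)) = x := by
        have := congrArg (fun p : Equiv.Perm α => p x) hg3'
        simpa [pow_succ, Equiv.Perm.mul_apply] using this
      have e1 : (g'⁻¹ * g) x = x := by
        simp only [Equiv.Perm.mul_apply]; rw [h1]; simp
      have e2 : (g'⁻¹ * g) (g x) = g x := by
        simp only [Equiv.Perm.mul_apply]
        rw [Equiv.Perm.inv_eq_iff_eq, h2, h1]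
      have e3 : (g'⁻¹ * g) (g (g x)) = g (g x) := by
        simp only [Equiv.Perm.mul_apply]
        rw [Equiv.Perm.inv_eq_iff_eq, h3', h2, h3'']
      have hne1 : x ≠ g (g x) := by
        intro h
        apply hx
        have h7 : g x = g (g (g x)) := congrArg g h
        rw [h3'] at h7
        exact h7
      have hne2 : g x ≠ g (g x) := fun h => hx (g.injective h).symm
      have := hsh _ (G.mul_mem (G.inv_mem hgG') hgG) x (g x) (g (g x)) hx.symm hne1 hne2 e1 e2 e3
      rw [inv_mul_eq_one] at this
      simp only [Sigma.mk.injEq, heq_eq_eq, and_true]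
      exact this.symm
  have hnn : 0 < n * n - n := by
    have : n * n ≥ 6 * n := Nat.mul_le_mul_right n h6
    omega
  have hTle : T.card ≤ n * n - n := by
    rw [hWcard, hD3card] at hWle
    exact Nat.le_of_mul_le_mul_right hWle (by omega)
  -- second count
  set Tab : Finset (Equiv.Perm α) := T.filter (fun g => g a = a ∧ g b = b) with hTab
  have hdc := Finset.sum_card_bipartiteAbove_eq_sum_card_bipartiteBelow
    (s := T) (t := (univ : Finset α).offDiag)
    (fun (g : Equiv.Perm α) (p : α × α) => g p.1 = p.1 ∧ g p.2 = p.2)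
  have habove : ∀ g ∈ T, ((univ : Finset α).offDiag.bipartiteAbove
      (fun (g : Equiv.Perm α) (p : α × α) => g p.1 = p.1 ∧ g p.2 = p.2) g).card = 2 := by
    intro g hg
    have h4 := hTfix g hg
    have he : (univ : Finset α).offDiag.bipartiteAbove
      (fun (g : Equiv.Perm α) (p : α × α) => g p.1 = p.1 ∧ g p.2 = p.2) g =
        (univ.filter (fun x => g x = x)).offDiag := by
      ext ⟨p, q⟩
      simp [bipartiteAbove, mem_offDiag]
      tauto
    rw [he, Finset.offDiag_card, h4]
  have hbelow : ∀ p ∈ (univ : Finset α).offDiag, Tab.card ≤ (T.bipartiteBelow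
      (fun (g : Equiv.Perm α) (p : α × α) => g p.1 = p.1 ∧ g p.2 = p.2) p).card := by
    intro p hp
    rw [mem_offDiag] at hp
    obtain ⟨c, hc1, hc2⟩ := (MulAction.is_two_pretransitive_iff).1 h2 hab hp.2.2
    have hc1' : (c : Equiv.Perm α) a = p.1 := hc1
    have hc2' : (c : Equiv.Perm α) b = p.2 := hc2
    refine Finset.card_le_card_of_injOn (fun g => (c : Equiv.Perm α) * g * (c : Equiv.Perm α)⁻¹) ?_ ?_
    · intro g hg
      simp only [hTab, coe_filter, Set.mem_ofPred_eq, hT, mem_filter, mem_univ, true_and] at hg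
      obtain ⟨⟨hgG, hg1, hg3⟩, hga, hgb⟩ := hg
      simp only [bipartiteBelow, coe_filter, Set.mem_ofPred_eq, hT, mem_filter, mem_univ, true_and]
      refine ⟨⟨G.mul_mem (G.mul_mem c.2 hgG) (G.inv_mem c.2), ?_, ?_⟩, ?_, ?_⟩
      · intro h
        apply hg1
        have : g = (c : Equiv.Perm α)⁻¹ * ((c : Equiv.Perm α) * g * (c : Equiv.Perm α)⁻¹) * c := by
          group
        rw [this, h]; group
      · have : ((c : Equiv.Perm α) * g * (c : Equiv.Perm α)⁻¹) ^ 3 =
            (c : Equiv.Perm α) * g ^ 3 * (c : Equiv.Perm α)⁻¹ := by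
          simp only [pow_succ, pow_zero, one_mul]
          group
        rw [this, hg3]; group
      · simp only [Equiv.Perm.mul_apply]
        have h9 : (c : Equiv.Perm α)⁻¹ p.1 = a := by rw [Equiv.Perm.inv_eq_iff_eq]; exact hc1'.symm
        rw [h9, hga, hc1']
      · simp only [Equiv.Perm.mul_apply]
        have h9 : (c : Equiv.Perm α)⁻¹ p.2 = b := by rw [Equiv.Perm.inv_eq_iff_eq]; exact hc2'.symm
        rw [h9, hgb, hc2']
    · intro g _ g' _ he
      exact mul_left_cancel (mul_right_cancel he)
  have hTabcard : Tab.card ≤ 2 := by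
    have h4 : (n * n - n) * Tab.card ≤ T.card * 2 := by
      calc (n * n - n) * Tab.card = ∑ _p ∈ (univ : Finset α).offDiag, Tab.card := by
            rw [Finset.sum_const, smul_eq_mul, Finset.offDiag_card, card_univ]
        _ ≤ ∑ p ∈ (univ : Finset α).offDiag, (T.bipartiteBelow
            (fun (g : Equiv.Perm α) (p : α × α) => g p.1 = p.1 ∧ g p.2 = p.2) p).card :=
            Finset.sum_le_sum hbelow
        _ = ∑ g ∈ T, ((univ : Finset α).offDiag.bipartiteAbove
            (fun (g : Equiv.Perm α) (p : α × α) => g p.1 = p.1 ∧ g p.2 = p.2) g).card := hdc.symm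
        _ = T.card * 2 := by
            rw [Finset.sum_congr rfl habove, Finset.sum_const, smul_eq_mul]
    have h5 : (n * n - n) * Tab.card ≤ (n * n - n) * 2 :=
      le_trans h4 (Nat.mul_le_mul_right 2 hTle)
    exact Nat.le_of_mul_le_mul_left h5 hnn
  -- conclusion
  have hg0T : g0 ∈ Tab := by
    simp only [hTab, hT, mem_filter, mem_univ, true_and]
    exact ⟨⟨hg0G, hg01, hg03⟩, hg0a, hg0b⟩
  have hg0iT : g0⁻¹ ∈ Tab := by
    simp only [hTab, hT, mem_filter, mem_univ, true_and]
    refine ⟨⟨G.inv_mem hg0G, inv_ne_one.2 hg01, ?_⟩, ?_, ?_⟩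
    · rw [inv_pow, hg03, inv_one]
    · rw [Equiv.Perm.inv_eq_iff_eq]; exact hg0a.symm
    · rw [Equiv.Perm.inv_eq_iff_eq]; exact hg0b.symm
  have hgne : g0 ≠ g0⁻¹ := by
    intro h
    apply hg01
    have h2' : g0 * g0 = 1 := by
      nth_rewrite 2 [h]; exact mul_inv_cancel g0
    have h3' : g0 ^ 3 = g0 := by
      rw [pow_succ, pow_two, h2', one_mul]
    rw [← h3', hg03]
  have hsub : ∀ g ∈ Tab, g = g0 ∨ g = g0⁻¹ := by
    intro g hg
    by_contra hcon
    push Not at hcon
    have : 2 < Tab.card := Finset.two_lt_card.2 ⟨g0, hg0T, g0⁻¹, hg0iT, g, hg, hgne,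
      hcon.1.symm, hcon.2.symm⟩
    omega
  have hBA : B ≤ A := by
    intro x hx
    by_cases hx1 : x = 1
    · rw [hx1]; exact A.one_mem
    have hmemB := hB hx
    rw [Subgroup.mem_inf, MulAction.mem_stabilizer_iff, MulAction.mem_stabilizer_iff] at hmemB
    have hx3 : x ^ 3 = 1 := by
      have : (⟨x, hx⟩ : B) ^ 3 = 1 := by rw [← hB3]; exact pow_card_eq_one'
      exact congrArg Subtype.val this
    have hxT : (x : Equiv.Perm α) ∈ Tab := by
      simp only [hTab, hT, mem_filter, mem_univ, true_and]
      refine ⟨⟨x.2, fun h => hx1 (Subtype.ext h), ?_⟩, hmemB.1, hmemB.2⟩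
      have := congrArg (fun z : G => (z : Equiv.Perm α)) hx3
      simpa using this
    rcases hsub _ hxT with h | h
    · have : x = y := Subtype.ext h
      rw [this]; exact y.2
    · have : x = (y : G)⁻¹ := Subtype.ext (by rw [h]; rfl)
      rw [this]; exact A.inv_mem y.2
  exact (Subgroup.eq_of_le_of_card_ge hBA (by rw [hA3, hB3])).symm

end Cfsg.Agent.S0728
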