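import Mathlib
import Cfsg.Statements.S0985
-- import your own Cfsg.Agent.* helpers here

set_option autoImplicit false
open Cfsg

namespace Cfsg.Agent.S0985

theorem card_modEq_of_orbit_dvd {H X : Type*} [Group H] [MulAction H X] [Finite X] (m : ℕ) (x₀ : X)
    (hfix : ∀ h : H, h • x₀ = x₀) (hdvd : ∀ x : X, x ≠ x₀ → m ∣ Nat.card (MulAction.orbit H x)) :
    Nat.card X ≡ 1 [MOD m] := by
  classical
  haveI : Fintype (MulAction.orbitRel.Quotient H X) := Fintype.ofFinite _
  have e := MulAction.selfEquivSigmaOrbits H X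
  have h1 : Nat.card X = ∑ ω : MulAction.orbitRel.Quotient H X, Nat.card (MulAction.orbit H (Quotient.out ω)) := by
    rw [Nat.card_congr e, Nat.card_sigma]
  let ω₀ : MulAction.orbitRel.Quotient H X := Quotient.mk'' x₀
  have hout : Quotient.out ω₀ = x₀ := by
    have h2 : Quotient.out ω₀ ∈ MulAction.orbit H x₀ :=
      MulAction.orbitRel_apply.1 (Quotient.mk_out (s := MulAction.orbitRel H X) x₀)
    obtain ⟨g, hg⟩ := h2
    rw [← hg]
    exact hfix g
  have hω₀ : Nat.card (MulAction.orbit H (Quotient.out ω₀)) = 1 := by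
    rw [hout]
    have : MulAction.orbit H x₀ = {x₀} := by
      ext y
      constructor
      · rintro ⟨g, rfl⟩
        exact hfix g
      · intro hy
        rw [Set.mem_singleton_iff.1 hy]
        exact MulAction.mem_orbit_self _
    rw [this]
    simp
  have hω : ∀ ω ∈ Finset.univ.erase ω₀, m ∣ Nat.card (MulAction.orbit H (Quotient.out ω)) := by
    intro ω hω
    have hne : ω ≠ ω₀ := (Finset.mem_erase.1 hω).1
    apply hdvd
    intro hx
    apply hne
    rw [← Quotient.out_eq' ω, hx]
  rw [h1, ← Finset.add_sum_erase _ _ (Finset.mem_univ ω₀), hω₀]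
  have hd := Finset.dvd_sum hω
  calc 1 + _ ≡ 1 + 0 [MOD m] := Nat.ModEq.add_left 1 ((Nat.modEq_zero_iff_dvd).2 hd)
    _ = 1 := by simp


/-- If the number of Sylow p-subgroups of a finite group is not congruent to 1 modulo p^k, then there are two distinct Sylow p-subgroups P and R such that the index of P ∩ R in P is at most p^(k-1). -/
theorem result {G : Type*} [Group G] [Finite G] (p k : ℕ) [Fact p.Prime] (h : ¬ Nat.card (Sylow p G) ≡ 1 [MOD p ^ k]) : ∃ P R : Sylow p G, P ≠ R ∧ ((R : Subgroup G).subgroupOf (P : Subgroup G)).index ≤ p ^ (k - 1) := by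
  classical
  by_contra hcon
  push Not at hcon
  obtain ⟨P⟩ := (inferInstance : Nonempty (Sylow p G))
  apply h
  have hk : k ≠ 0 := by
    rintro rfl
    apply h
    simp [Nat.modEq_one]
  refine card_modEq_of_orbit_dvd (H := ↥(P : Subgroup G)) _ P ?_ ?_
  · intro u
    have : (u : G) • P = P := by
      rw [Sylow.smul_eq_iff_mem_normalizer]
      exact Subgroup.le_normalizer u.2
    exact this
  · intro R hR
    have hst : MulAction.stabilizer ↥(P : Subgroup G) R = (R : Subgroup G).subgroupOf (P : Subgroup G) := by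
      ext u
      rw [MulAction.mem_stabilizer_iff, Subgroup.mem_subgroupOf]
      constructor
      · intro hu
        have hu' : (u : G) • R = R := hu
        rw [Sylow.smul_eq_iff_mem_normalizer] at hu'
        have h2 : (u : G) ∈ (P : Subgroup G) ⊓ (R : Subgroup G) := by
          rw [← P.isPGroup'.inf_normalizer_sylow R]
          exact ⟨u.2, hu'⟩
        exact h2.2
      · intro hu
        have : (u : G) • R = R := by
          rw [Sylow.smul_eq_iff_mem_normalizer]
          exact Subgroup.le_normalizer hu
        exact this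
    have hcard : Nat.card (MulAction.orbit ↥(P : Subgroup G) R) = ((R : Subgroup G).subgroupOf (P : Subgroup G)).index := by
      rw [← hst, MulAction.index_stabilizer]
      rfl
    rw [hcard]
    have hgt := hcon P R (Ne.symm hR)
    have hdvd : ((R : Subgroup G).subgroupOf (P : Subgroup G)).index ∣ Nat.card ↥(P : Subgroup G) :=
      Subgroup.index_dvd_card _
    obtain ⟨n, hn⟩ := IsPGroup.iff_card.1 P.isPGroup'
    rw [hn] at hdvd
    obtain ⟨i, hi, hidx⟩ := (Nat.dvd_prime_pow (Fact.out : p.Prime)).1 hdvd
    rw [hidx] at hgt ⊢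
    have hlt : k - 1 < i := (Nat.pow_lt_pow_iff_right (Fact.out : p.Prime).one_lt).1 hgt
    exact pow_dvd_pow p (by omega)

end Cfsg.Agent.S0985
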