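import Mathlib
import Cfsg.Statements.S4303
import Cfsg.Agent.Lib.Glauberman2
import Cfsg.Agent.Lib.SylowNum
import Cfsg.Agent.Lib.PCore
import Cfsg.Agent.Lib.CoprimeInv

set_option autoImplicit false
open Cfsg

open scoped Pointwise

universe u

namespace Cfsg.Agent.S4303

open Cfsg.Agent.Lib.PCore (mem_conj_smul_iff)

/-- Fibres of `f` have equal size if they are permuted transitively. -/
theorem card_eq_mul_fiber {X Y : Type*} [Finite X] [Finite Y] (f : X → Y) (y₀ : Y)
    (h : ∀ y : Y, ∃ e : X ≃ X, ∀ x, f (e x) = y₀ ↔ f x = y) :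
    Nat.card X = Nat.card Y * Nat.card {x // f x = y₀} := by
  classical
  have : Fintype Y := Fintype.ofFinite Y
  have h1 : ∀ y, Nat.card {x // f x = y} = Nat.card {x // f x = y₀} := by
    intro y
    obtain ⟨e, he⟩ := h y
    apply Nat.card_congr
    exact e.subtypeEquiv (fun x => (he x).symm)
  have h2 : X ≃ Σ y, {x // f x = y} := (Equiv.sigmaFiberEquiv f).symm
  rw [Nat.card_congr h2, Nat.card_sigma]
  simp [h1, Nat.card_eq_fintype_card]

variable {G : Type*} [Group G] [Finite G] {p : ℕ} [hp : Fact p.Prime]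

/-- Sylows of `G` inside `L` are the Sylows of `L`, if `L` contains a Sylow. -/
theorem card_sylow_le_eq (L : Subgroup G) (P : Sylow p G) (hP : (P : Subgroup G) ≤ L) :
    Nat.card {Q : Sylow p G // (Q : Subgroup G) ≤ L} = Nat.card (Sylow p L) := by
  classical
  let F : {Q : Sylow p G // (Q : Subgroup G) ≤ L} → Sylow p L := fun Q => Q.1.subtype Q.2
  have hinj : Function.Injective F := by
    intro Q R h
    apply Subtype.ext
    exact Sylow.subtype_injective h
  have hsurj : Function.Surjective F := by
    intro R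
    set R' : Subgroup G := (R : Subgroup L).map L.subtype with hR'
    have hR'p : IsPGroup p R' := R.isPGroup'.map L.subtype
    obtain ⟨Q, hQ⟩ := hR'p.exists_le_sylow
    have hc1 : Nat.card R' = Nat.card (R : Subgroup L) :=
      Nat.card_congr ((R : Subgroup L).equivMapOfInjective L.subtype L.subtype_injective).toEquiv.symm
    have hc2 : Nat.card (R : Subgroup L) = Nat.card ((P.subtype hP : Sylow p L) : Subgroup L) :=
      Nat.card_congr (Sylow.equiv R (P.subtype hP)).toEquiv
    have hc3 : Nat.card ((P.subtype hP : Sylow p L) : Subgroup L) = Nat.card (P : Subgroup G) := by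
      rw [Sylow.coe_subtype]
      exact Nat.card_congr (Subgroup.subgroupOfEquivOfLe hP).toEquiv
    have hc4 : Nat.card (Q : Subgroup G) = Nat.card (P : Subgroup G) :=
      Nat.card_congr (Sylow.equiv Q P).toEquiv
    have hEq : R' = (Q : Subgroup G) := by
      apply Subgroup.eq_of_le_of_card_ge hQ
      rw [hc4, hc1, hc2, hc3]
    have hQL : (Q : Subgroup G) ≤ L := by
      rw [← hEq]; exact Subgroup.map_subtype_le _
    refine ⟨⟨Q, hQL⟩, ?_⟩
    apply Sylow.ext
    show (Q : Subgroup G).subgroupOf L = (R : Subgroup L)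
    rw [← hEq, hR']
    ext x
    simp [Subgroup.mem_subgroupOf]
  exact Nat.card_congr (Equiv.ofBijective F ⟨hinj, hsurj⟩)

theorem map_conj_smul' {H : Type*} [Group H] (π : G →* H) (g : G) (K : Subgroup G) :
    (MulAut.conj g • K).map π = MulAut.conj (π g) • K.map π := by
  ext y
  rw [mem_conj_smul_iff]
  constructor
  · rintro ⟨x, hx, rfl⟩
    have hx' : x ∈ MulAut.conj g • K := hx
    rw [mem_conj_smul_iff] at hx'
    exact ⟨g⁻¹ * x * g, hx', by simp⟩
  · rintro ⟨x, hx, hxy⟩
    refine ⟨g * x * g⁻¹, ?_, ?_⟩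
    · show g * x * g⁻¹ ∈ MulAut.conj g • K
      rw [mem_conj_smul_iff]
      simpa [mul_assoc] using hx
    · simp only [map_mul, map_inv]
      rw [hxy]; simp [mul_assoc]

/-- `n_p(G) = n_p(G/N) n_p(PN)`. -/
theorem card_sylow_eq_quot (N : Subgroup G) [N.Normal] (P : Sylow p G) :
    Nat.card (Sylow p G) =
      Nat.card (Sylow p (G ⧸ N)) * Nat.card (Sylow p ↥((P : Subgroup G) ⊔ N)) := by
  classical
  let π : G →* G ⧸ N := QuotientGroup.mk' N
  have hπ : Function.Surjective π := QuotientGroup.mk'_surjective N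
  let f : Sylow p G → Sylow p (G ⧸ N) := fun Q => Q.mapSurjective hπ
  have hf : ∀ (g : G) (Q : Sylow p G), ((f (g • Q) : Sylow p (G ⧸ N)) : Subgroup (G ⧸ N)) =
      MulAut.conj (π g) • ((f Q : Sylow p (G ⧸ N)) : Subgroup (G ⧸ N)) := by
    intro g Q
    simp only [f, Sylow.coe_mapSurjective]
    rw [Sylow.coe_subgroup_smul, map_conj_smul']
  have hfe : ∀ (g : G) (Q R : Sylow p G), f (g • Q) = f (g • R) ↔ f Q = f R := by
    intro g Q R
    rw [Sylow.ext_iff, Sylow.ext_iff, hf, hf]
    exact smul_left_cancel_iff _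
  have h1 := card_eq_mul_fiber f (f P) (by
    intro y
    obtain ⟨Q₀, rfl⟩ := Sylow.mapSurjective_surjective hπ p y
    obtain ⟨g, hg⟩ := MulAction.exists_smul_eq G Q₀ P
    refine ⟨MulAction.toPerm g, fun x => ?_⟩
    show f (g • x) = f P ↔ f x = f Q₀
    rw [← hg]
    exact hfe g x Q₀)
  rw [h1]
  congr 1
  rw [← card_sylow_le_eq ((P : Subgroup G) ⊔ N) P le_sup_left]
  apply Nat.card_congr
  apply Equiv.subtypeEquivRight
  intro Q
  have hker : π.ker = N := QuotientGroup.ker_mk' N
  constructor
  · intro h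
    have h2 : (Q : Subgroup G).map π = (P : Subgroup G).map π := by
      have := congrArg (fun R : Sylow p (G ⧸ N) => (R : Subgroup (G ⧸ N))) h
      simpa [f, Sylow.coe_mapSurjective] using this
    have h3 : (Q : Subgroup G) ≤ ((P : Subgroup G).map π).comap π := by
      rw [← h2]; exact Subgroup.le_comap_map _ _
    rw [Subgroup.comap_map_eq, hker] at h3
    exact h3
  · intro h
    have h2 : (Q : Subgroup G).map π ≤ (P : Subgroup G).map π := by
      have h3 := Subgroup.map_mono (f := π) h
      rw [Subgroup.map_sup] at h3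
      have h4 : N.map π = ⊥ := (Subgroup.map_eq_bot_iff _).mpr hker.ge
      rw [h4, sup_bot_eq] at h3
      exact h3
    apply Sylow.ext
    simp only [f, Sylow.coe_mapSurjective]
    exact (f Q).is_maximal' (P.isPGroup'.map π) h2 |>.symm


/-- `P ∩ N` as a Sylow of `N`. -/
noncomputable def sylowInf (N : Subgroup G) [N.Normal] (S : Sylow p G) : Sylow p N :=
  (Cfsg.Agent.Lib.SylowNum.exists_sylow_subgroupOf N S).choose

theorem coe_sylowInf (N : Subgroup G) [N.Normal] (S : Sylow p G) :
    ((sylowInf N S : Sylow p N) : Subgroup N) = (S : Subgroup G).subgroupOf N :=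
  (Cfsg.Agent.Lib.SylowNum.exists_sylow_subgroupOf N S).choose_spec

theorem sylowInf_smul (N : Subgroup G) [N.Normal] (c : N) (S : Sylow p G) :
    ((sylowInf N ((c : G) • S) : Sylow p N) : Subgroup N) =
      MulAut.conj c • ((sylowInf N S : Sylow p N) : Subgroup N) := by
  rw [coe_sylowInf, coe_sylowInf]
  ext x
  rw [Subgroup.mem_subgroupOf, mem_conj_smul_iff, Subgroup.mem_subgroupOf, Sylow.coe_subgroup_smul,
    mem_conj_smul_iff]
  simp

/-- `n_p(G) = n_p(N) n_p(N_G(P ∩ N))`. -/
theorem card_sylow_eq_normal (N : Subgroup G) [hN : N.Normal] (P : Sylow p G) :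
    Nat.card (Sylow p G) =
      Nat.card (Sylow p N) *
        Nat.card (Sylow p ↥(Subgroup.normalizer (((P : Subgroup G) ⊓ N : Subgroup G) : Set G))) := by
  classical
  set Q : Subgroup G := (P : Subgroup G) ⊓ N with hQ
  set L := Subgroup.normalizer (Q : Set G) with hL
  let f : Sylow p G → Sylow p N := fun S => sylowInf N S
  have h1 := card_eq_mul_fiber f (f P) (by
    intro y
    obtain ⟨c, hc⟩ := MulAction.exists_smul_eq N y (f P)
    refine ⟨MulAction.toPerm (c : G), fun x => ?_⟩
    show f ((c : G) • x) = f P ↔ f x = y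
    rw [← hc, Sylow.ext_iff, Sylow.ext_iff]
    have h2 : ((f ((c : G) • x) : Sylow p N) : Subgroup N) =
        MulAut.conj c • ((f x : Sylow p N) : Subgroup N) := sylowInf_smul N c x
    rw [h2, Sylow.coe_subgroup_smul]
    exact smul_left_cancel_iff _)
  rw [h1]
  congr 1
  have hPL : (P : Subgroup G) ≤ L := by
    intro a ha
    rw [hL, Subgroup.mem_normalizer_iff]
    intro x
    constructor
    · rintro ⟨hx1, hx2⟩
      refine ⟨?_, hN.conj_mem _ hx2 a⟩
      exact (P : Subgroup G).mul_mem ((P : Subgroup G).mul_mem ha hx1) ((P : Subgroup G).inv_mem ha)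
    · rintro ⟨hx1, hx2⟩
      have e : x = a⁻¹ * (a * x * a⁻¹) * a := by group
      constructor
      · rw [e]
        exact (P : Subgroup G).mul_mem ((P : Subgroup G).mul_mem ((P : Subgroup G).inv_mem ha) hx1) ha
      · have := hN.conj_mem _ hx2 a⁻¹
        have e2 : a⁻¹ * (a * x * a⁻¹) * a⁻¹⁻¹ = x := by group
        rwa [e2] at this
  rw [← card_sylow_le_eq L P hPL]
  apply Nat.card_congr
  apply Equiv.subtypeEquivRight
  intro S
  have hcoe : ∀ S : Sylow p G, ((f S : Sylow p N) : Subgroup N) = (S : Subgroup G).subgroupOf N :=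
    fun S => coe_sylowInf N S
  constructor
  · intro h
    have h2 : (S : Subgroup G).subgroupOf N = (P : Subgroup G).subgroupOf N := by
      rw [← hcoe, ← hcoe, h]
    have h3 : (S : Subgroup G) ⊓ N = Q := by
      ext x
      constructor
      · rintro ⟨hx1, hx2⟩
        have : (⟨x, hx2⟩ : N) ∈ (S : Subgroup G).subgroupOf N := Subgroup.mem_subgroupOf.mpr hx1
        rw [h2] at this
        exact ⟨Subgroup.mem_subgroupOf.mp this, hx2⟩
      · rintro ⟨hx1, hx2⟩
        have : (⟨x, hx2⟩ : N) ∈ (P : Subgroup G).subgroupOf N := Subgroup.mem_subgroupOf.mpr hx1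
        rw [← h2] at this
        exact ⟨Subgroup.mem_subgroupOf.mp this, hx2⟩
    intro a ha
    rw [hL, Subgroup.mem_normalizer_iff]
    intro x
    rw [← h3]
    constructor
    · rintro ⟨hx1, hx2⟩
      refine ⟨?_, hN.conj_mem _ hx2 a⟩
      exact (S : Subgroup G).mul_mem ((S : Subgroup G).mul_mem ha hx1) ((S : Subgroup G).inv_mem ha)
    · rintro ⟨hx1, hx2⟩
      have e : x = a⁻¹ * (a * x * a⁻¹) * a := by group
      constructor
      · rw [e]
        exact (S : Subgroup G).mul_mem ((S : Subgroup G).mul_mem ((S : Subgroup G).inv_mem ha) hx1) ha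
      · have := hN.conj_mem _ hx2 a⁻¹
        have e2 : a⁻¹ * (a * x * a⁻¹) * a⁻¹⁻¹ = x := by group
        rwa [e2] at this
  · intro h
    -- Q ≤ S
    have hQp : IsPGroup p Q := P.isPGroup'.to_le inf_le_left
    have hsup : IsPGroup p ((S : Subgroup G) ⊔ Q : Subgroup G) :=
      IsPGroup.to_sup_of_normal_right' S.isPGroup' hQp h
    have hle : (S : Subgroup G) = (S : Subgroup G) ⊔ Q := (S.is_maximal' hsup le_sup_left).symm
    have hQS : Q ≤ S := by
      rw [hle]; exact le_sup_right
    -- compare inside N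
    have h4 : ((f P : Sylow p N) : Subgroup N) ≤ (S : Subgroup G).subgroupOf N := by
      rw [hcoe]
      intro x hx
      exact Subgroup.mem_subgroupOf.mpr (hQS ⟨Subgroup.mem_subgroupOf.mp hx, x.2⟩)
    have h5 : IsPGroup p ((S : Subgroup G).subgroupOf N) := by
      rw [← hcoe]; exact (f S).isPGroup'
    have h6 := (f P).is_maximal' h5 h4
    apply Sylow.ext
    rw [hcoe S]
    exact h6

/-- If the `q`-parts of a natural number `m` are all `≡ 1`, fine. The coprime case. -/
theorem coprime_case (N : Subgroup G) [hN : N.Normal] (P : Sylow p G)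
    (hcop : (Nat.card N).Coprime p) (hsup : (P : Subgroup G) ⊔ N = ⊤)
    (q : ℕ) (hq : q.Prime) (hqm : q ∣ Nat.card (Sylow p G)) :
    (q ^ (Nat.card (Sylow p G)).factorization q) % p = 1 := by
  classical
  have hq' : Fact q.Prime := ⟨hq⟩
  set T := Subgroup.normalizer ((P : Subgroup G) : Set G) with hT
  set m := Nat.card (Sylow p G) with hm
  have hmT : m = T.index := Sylow.card_eq_index_normalizer P
  have hPT : (P : Subgroup G) ≤ T := Subgroup.le_normalizer
  have hTN : T ⊔ N = ⊤ := by
    rw [eq_top_iff, ← hsup]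
    exact sup_le_sup_right hPT N
  set C : Subgroup G := T ⊓ N with hC
  -- order of `N`
  have hNcard : Nat.card N = m * Nat.card C := by
    have h1 := Cfsg.Agent.Lib.CoprimeInv.card_sup_mul_card_inf (H := T) (N := N)
      (by rw [Subgroup.normalizer_eq_top]; exact le_top)
    rw [hTN] at h1
    have h2 : T.index * Nat.card T = Nat.card G := Subgroup.index_mul_card T
    have h3 : Nat.card (⊤ : Subgroup G) = Nat.card G := Subgroup.card_top
    rw [h3, ← h2, ← hmT] at h1
    have h4 : 0 < Nat.card T := Nat.card_pos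
    have h5 : (m * Nat.card C) * Nat.card T = Nat.card N * Nat.card T := by
      rw [mul_comm (Nat.card N)]
      linarith
    exact (Nat.eq_of_mul_eq_mul_right h4 h5).symm
  have hCN : C ≤ N := inf_le_right
  have hqN : q ∣ Nat.card N := by rw [hNcard]; exact Dvd.dvd.mul_right hqm _
  have hqp : q ≠ p := by
    rintro rfl
    have := Nat.Coprime.eq_one_of_dvd hcop.symm hqN
    exact hq.one_lt.ne' this
  have hPN : Disjoint (P : Subgroup G) N := by
    apply Subgroup.disjoint_of_coprime_natCard
    obtain ⟨k, hk⟩ := IsPGroup.iff_card.mp P.isPGroup'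
    rw [hk]
    exact Nat.Coprime.pow_left _ hcop.symm
  -- C centralizes P
  have hCcent : ∀ c ∈ C, ∀ a ∈ (P : Subgroup G), a * c = c * a := by
    intro c hc a ha
    obtain ⟨hc1, hc2⟩ := hc
    have h1 : c * a * c⁻¹ ∈ (P : Subgroup G) := (Subgroup.mem_normalizer_iff.mp hc1 a).mp ha
    have h2 : c * a * c⁻¹ * a⁻¹ ∈ (P : Subgroup G) := (P : Subgroup G).mul_mem h1 ((P : Subgroup G).inv_mem ha)
    have h3 : c * (a * c⁻¹ * a⁻¹) ∈ N := N.mul_mem hc2 (hN.conj_mem _ (N.inv_mem hc2) a)
    have h4 : c * a * c⁻¹ * a⁻¹ ∈ N := by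
      have e : c * a * c⁻¹ * a⁻¹ = c * (a * c⁻¹ * a⁻¹) := by group
      rw [e]; exact h3
    have h5 : c * a * c⁻¹ * a⁻¹ = 1 := (Subgroup.disjoint_def.mp hPN) h2 h4
    have h6 : c * a * c⁻¹ = a := mul_inv_eq_one.mp h5
    have h7 : c * a = a * c := mul_inv_eq_iff_eq_mul.mp h6
    exact h7.symm
  -- D a Sylow of C
  obtain ⟨D₀⟩ : Nonempty (Sylow q C) := inferInstance
  set D : Subgroup G := (D₀ : Subgroup C).map C.subtype with hD
  have hDp : IsPGroup q D := D₀.isPGroup'.map C.subtype
  have hDC : D ≤ C := Subgroup.map_subtype_le _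
  have hPnormN : (P : Subgroup G) ≤ Subgroup.normalizer (N : Set G) := by
    rw [Subgroup.normalizer_eq_top]; exact le_top
  have hcopPN : (Nat.card (P : Subgroup G)).Coprime (Nat.card N) := by
    obtain ⟨k, hk⟩ := IsPGroup.iff_card.mp P.isPGroup'
    rw [hk]
    exact Nat.Coprime.pow_left _ hcop.symm
  have hPsolv : Group.IsSolvable (P : Subgroup G) := by
    have := P.isPGroup'.isNilpotent
    infer_instance
  have hPnormD : (P : Subgroup G) ≤ Subgroup.normalizer (D : Set G) := by
    intro a ha
    rw [Subgroup.mem_normalizer_iff]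
    intro x
    by_cases hx : x ∈ C
    · have hcomm := hCcent x hx a ha
      have e : a * x * a⁻¹ = x := by rw [hcomm]; group
      rw [e]
    · constructor
      · intro h; exact absurd (hDC h) hx
      · intro h
        exfalso
        apply hx
        have h2 := hDC h
        have hcomm := hCcent _ h2 a ha
        have e : a * (a * x * a⁻¹) = (a * x * a⁻¹) * a := hcomm
        have e2 : a * x * a⁻¹ = x := by
          calc a * x * a⁻¹ = a⁻¹ * (a * (a * x * a⁻¹)) := by group
            _ = a⁻¹ * ((a * x * a⁻¹) * a) := by rw [e]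
            _ = x := by group
        rw [e2] at h2
        exact h2
  obtain ⟨R₀, hDR, hPR⟩ := Cfsg.Agent.Lib.Glauberman2.exists_invariant_sylow_containing
    hPnormN hcopPN (Or.inl hPsolv) q (hDC.trans hCN) hDp hPnormD
  set R : Subgroup G := (R₀ : Subgroup N).map N.subtype with hR
  have hRN : R ≤ N := Subgroup.map_subtype_le _
  have hRp : IsPGroup q R := R₀.isPGroup'.map N.subtype
  -- the conjugation action of P on R
  let act : MulAction (P : Subgroup G) R :=
    { smul := fun a r => ⟨(a : G) * (r : G) * (a : G)⁻¹,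
        (Subgroup.mem_normalizer_iff.mp (hPR a.2) r).mp r.2⟩
      one_smul := fun r => by
        apply Subtype.ext
        show ((1 : (P : Subgroup G)) : G) * (r : G) * ((1 : (P : Subgroup G)) : G)⁻¹ = r
        simp
      mul_smul := fun a b r => by
        apply Subtype.ext
        show ((a * b : (P : Subgroup G)) : G) * (r : G) * ((a * b : (P : Subgroup G)) : G)⁻¹ =
          (a : G) * ((b : G) * (r : G) * (b : G)⁻¹) * (a : G)⁻¹
        simp only [Subgroup.coe_mul]
        group }
  have hsmul : ∀ (a : (P : Subgroup G)) (r : R), ((a • r : R) : G) = (a : G) * (r : G) * (a : G)⁻¹ :=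
    fun _ _ => rfl
  have hmod := P.isPGroup'.card_modEq_card_fixedPoints R
  set E : Subgroup G := R ⊓ Subgroup.centralizer ((P : Subgroup G) : Set G) with hE
  have hEN : E ≤ N := inf_le_left.trans hRN
  have hEC : E ≤ C := by
    intro x hx
    refine Subgroup.mem_inf.mpr ⟨?_, hEN hx⟩
    rw [hT, Subgroup.mem_normalizer_iff]
    intro a
    have hcomm : ∀ a ∈ (P : Subgroup G), a * x = x * a := fun a ha =>
      Subgroup.mem_centralizer_iff.mp (Subgroup.mem_inf.mp hx).2 a ha
    constructor
    · intro ha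
      have e : x * a * x⁻¹ = a := by rw [← hcomm a ha]; group
      rw [e]; exact ha
    · intro ha
      have h8 := hcomm _ ha
      have e : x * a * x⁻¹ = a := by
        have h9 : (x * a * x⁻¹) * x = x * (x * a * x⁻¹) := h8
        have h10 : x * a = x * (x * a * x⁻¹) := by
          calc x * a = (x * a * x⁻¹) * x := by group
            _ = x * (x * a * x⁻¹) := h9
        exact (mul_left_cancel h10).symm
      rw [e] at ha; exact ha
  have hcardfix : Nat.card (MulAction.fixedPoints (P : Subgroup G) R) = Nat.card E := by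
    apply Nat.card_congr
    refine ⟨fun r => ⟨r.1.1, Subgroup.mem_inf.mpr ⟨r.1.2, ?_⟩⟩,
      fun e => ⟨⟨e.1, (Subgroup.mem_inf.mp e.2).1⟩, ?_⟩, ?_, ?_⟩
    · rw [Subgroup.mem_centralizer_iff]
      intro a ha
      have h8 := r.2 ⟨a, ha⟩
      have h9 := congrArg Subtype.val h8
      rw [hsmul] at h9
      exact mul_inv_eq_iff_eq_mul.mp h9
    · intro a
      apply Subtype.ext
      rw [hsmul]
      have h8 := Subgroup.mem_centralizer_iff.mp (Subgroup.mem_inf.mp e.2).2 a a.2
      show (a : G) * (e : G) * (a : G)⁻¹ = e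
      rw [h8]; group
    · intro r; rfl
    · intro e; rfl
  rw [hcardfix] at hmod
  -- E = D
  have hDE : D ≤ E := by
    refine le_inf hDR ?_
    rw [Subgroup.le_centralizer_iff]
    intro a ha
    rw [Subgroup.mem_centralizer_iff]
    intro d hd
    exact (hCcent d (hDC hd) a ha).symm
  have hEq : D = E := by
    have h11 : IsPGroup q (E.subgroupOf C) := by
      have h12 : IsPGroup q E := hRp.to_le inf_le_left
      have := h12.comap_of_injective C.subtype C.subtype_injective
      exact this
    have h13 : (D₀ : Subgroup C) ≤ E.subgroupOf C := by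
      intro x hx
      exact Subgroup.mem_subgroupOf.mpr (hDE ⟨x, hx, rfl⟩)
    have h14 := D₀.is_maximal' h11 h13
    apply le_antisymm hDE
    intro x hx
    have h15 : (⟨x, hEC hx⟩ : C) ∈ E.subgroupOf C := Subgroup.mem_subgroupOf.mpr hx
    rw [h14] at h15
    exact ⟨_, h15, rfl⟩
  -- counting
  have hcE : Nat.card E = q ^ (Nat.card C).factorization q := by
    rw [← hEq, hD]
    have h16 : Nat.card ((D₀ : Subgroup C).map C.subtype) = Nat.card (D₀ : Subgroup C) :=
      Nat.card_congr ((D₀ : Subgroup C).equivMapOfInjective C.subtype C.subtype_injective).toEquiv.symm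
    rw [h16]
    exact D₀.card_eq_multiplicity
  have hcR : Nat.card R = q ^ (Nat.card N).factorization q := by
    have h16 : Nat.card ((R₀ : Subgroup N).map N.subtype) = Nat.card (R₀ : Subgroup N) :=
      Nat.card_congr ((R₀ : Subgroup N).equivMapOfInjective N.subtype N.subtype_injective).toEquiv.symm
    rw [hR, h16]
    exact R₀.card_eq_multiplicity
  have hm0 : m ≠ 0 := Nat.card_pos.ne'
  have hC0 : Nat.card C ≠ 0 := Nat.card_pos.ne'
  have hfac : (Nat.card N).factorization q = m.factorization q + (Nat.card C).factorization q := by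
    rw [hNcard, Nat.factorization_mul hm0 hC0]
    rfl
  have hmain : Nat.card R = q ^ m.factorization q * Nat.card E := by
    rw [hcR, hcE, hfac, pow_add]
  rw [hmain] at hmod
  -- cancel
  have hEcop : Nat.Coprime (Nat.card E) p := by
    rw [hcE]
    exact Nat.Coprime.pow_left _ ((Nat.coprime_primes hq hp.out).mpr hqp)
  have h17 : q ^ m.factorization q * Nat.card E ≡ 1 * Nat.card E [MOD p] := by
    rw [one_mul]; exact hmod
  have h18 := Nat.ModEq.cancel_right_of_coprime (by rwa [Nat.gcd_comm]) h17
  have h19 : 1 % p = 1 := Nat.mod_eq_of_lt hp.out.one_lt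
  rw [← h19]
  exact h18

end Cfsg.Agent.S4303

namespace Cfsg.Agent.S4303

/-- Numbers that are products of prime powers `≡ 1 (mod p)` and Sylow numbers of simple groups. -/
def Good (p n : ℕ) : Prop :=
  ∃ l : List ℕ, l.prod = n ∧ ∀ m ∈ l, (IsPrimePow m ∧ m % p = 1) ∨
    ∃ (S : Type u) (_ : Group S) (_ : Finite S), IsSimpleGroup S ∧ m = Nat.card (Sylow p S)

theorem good_one (p : ℕ) : Good.{u} p 1 := ⟨[], rfl, by simp⟩

theorem good_mul {p a b : ℕ} (ha : Good.{u} p a) (hb : Good.{u} p b) : Good.{u} p (a * b) := by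
  obtain ⟨l₁, h₁, h₁'⟩ := ha
  obtain ⟨l₂, h₂, h₂'⟩ := hb
  refine ⟨l₁ ++ l₂, by rw [List.prod_append, h₁, h₂], fun m hm => ?_⟩
  rcases List.mem_append.mp hm with h | h
  · exact h₁' m h
  · exact h₂' m h

theorem good_of_factors {p m : ℕ} (hm0 : m ≠ 0)
    (h : ∀ q : ℕ, q.Prime → q ∣ m → (q ^ m.factorization q) % p = 1) : Good.{u} p m := by
  have h1 : Good.{u} p (m.primeFactors.prod fun q => q ^ m.factorization q) := by
    apply Finset.prod_induction _ (Good.{u} p) (fun a b => good_mul) (good_one p)
    intro q hq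
    have hqp := Nat.prime_of_mem_primeFactors hq
    have hqd := Nat.dvd_of_mem_primeFactors hq
    refine ⟨[q ^ m.factorization q], by simp, fun x hx => ?_⟩
    rw [List.mem_singleton] at hx
    subst hx
    left
    refine ⟨?_, h q hqp hqd⟩
    apply hqp.isPrimePow.pow
    exact (hqp.factorization_pos_of_dvd hm0 hqd).ne'
  have h2 : (m.primeFactors.prod fun q => q ^ m.factorization q) = m :=
    Nat.factorization_prod_pow_eq_self hm0
  rwa [h2] at h1

variable {p : ℕ} [hp : Fact p.Prime]

theorem card_sylow_of_isPGroup {H : Type*} [Group H] [Finite H] (hH : IsPGroup p H) :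
    Nat.card (Sylow p H) = 1 := by
  have hall : ∀ R : Sylow p H, (R : Subgroup H) = ⊤ := by
    intro R
    have h1 : IsPGroup p (⊤ : Subgroup H) := hH.of_equiv Subgroup.topEquiv.symm
    exact (R.is_maximal' h1 le_top).symm
  have hsub : Subsingleton (Sylow p H) := ⟨fun a b => Sylow.ext ((hall a).trans (hall b).symm)⟩
  have hne : Nonempty (Sylow p H) := inferInstance
  exact Nat.card_eq_one_iff_unique.mpr ⟨hsub, hne⟩

theorem good_sylow (p : ℕ) [hp : Fact p.Prime] :
    ∀ (n : ℕ) (G : Type u) [Group G] [Finite G], Nat.card G = n →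
      Good.{u} p (Nat.card (Sylow p G)) := by
  intro n
  induction n using Nat.strong_induction_on with
  | _ n ih =>
    intro G _ _ hn
    classical
    by_cases hsimple : IsSimpleGroup G
    · exact ⟨[Nat.card (Sylow p G)], by simp, fun m hm => by
        rw [List.mem_singleton] at hm
        right
        exact ⟨G, inferInstance, inferInstance, hsimple, hm⟩⟩
    by_cases hnt : Nontrivial G
    swap
    · have hss : Subsingleton G := not_nontrivial_iff_subsingleton.mp hnt
      have hcard : IsPGroup p G := fun g => ⟨0, by simp [Subsingleton.elim g 1]⟩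
      rw [card_sylow_of_isPGroup hcard]
      exact good_one p
    have hex : ∃ N : Subgroup G, N.Normal ∧ N ≠ ⊥ ∧ N ≠ ⊤ := by
      by_contra hcon
      apply hsimple
      refine { eq_bot_or_eq_top_of_normal := fun N hN => ?_ }
      by_contra hc
      push Not at hc
      exact hcon ⟨N, hN, hc.1, hc.2⟩
    obtain ⟨N, hN, hbot, htop⟩ := hex
    have hcG : 0 < Nat.card G := Nat.card_pos
    have hsub : ∀ K : Subgroup G, K ≠ ⊤ → Nat.card K < n := by
      intro K hK
      rw [← hn]
      by_contra hc
      push Not at hc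
      apply hK
      apply Subgroup.eq_top_of_card_eq
      exact le_antisymm (Subgroup.card_le_card_group K) hc
    have hquot : ∀ K : Subgroup G, K.Normal → K ≠ ⊥ → Nat.card (G ⧸ K) < n := by
      intro K hK hKb
      have h1 : Nat.card (G ⧸ K) * Nat.card K = Nat.card G := by
        rw [mul_comm]; exact K.card_mul_index
      have h2 : 1 < Nat.card K := by
        have h3 : Nat.card K ≠ 1 := fun h => hKb (Subgroup.card_eq_one.mp h)
        have h4 : 0 < Nat.card K := Nat.card_pos
        omega
      rw [← hn, ← h1]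
      have h5 : 0 < Nat.card (G ⧸ K) := Nat.card_pos
      nlinarith
    obtain ⟨P⟩ : Nonempty (Sylow p G) := inferInstance
    set Q : Subgroup G := (P : Subgroup G) ⊓ N with hQ
    by_cases hL : Subgroup.normalizer (Q : Set G) = ⊤
    · have hQn : Q.Normal := Subgroup.normalizer_eq_top_iff.mp hL
      by_cases hQb : Q = ⊥
      · -- `N` has order prime to `p`.
        have hcop : (Nat.card N).Coprime p := by
          have h1 : ((sylowInf N P : Sylow p N) : Subgroup N) = ⊥ := by
            rw [coe_sylowInf, eq_bot_iff]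
            intro x hx
            have h2 : (x : G) ∈ Q := ⟨Subgroup.mem_subgroupOf.mp hx, x.2⟩
            rw [hQb, Subgroup.mem_bot] at h2
            exact Subgroup.mem_bot.mpr (Subtype.ext h2)
          have h3 := (sylowInf N P).not_dvd_index
          rw [h1, Subgroup.index_bot] at h3
          exact ((Nat.Prime.coprime_iff_not_dvd hp.out).mpr h3).symm
        rw [card_sylow_eq_quot N P]
        by_cases hPN : (P : Subgroup G) ⊔ N = ⊤
        · rw [← card_sylow_eq_quot N P]
          apply good_of_factors Nat.card_pos.ne'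
          intro q hq hqm
          exact coprime_case N P hcop hPN q hq hqm
        · exact good_mul (ih _ (hquot N hN hbot) _ rfl) (ih _ (hsub _ hPN) _ rfl)
      · have hQG : (P : Subgroup G) ⊔ Q = P := sup_eq_left.mpr inf_le_left
        rw [card_sylow_eq_quot Q P]
        have h1 : Nat.card (Sylow p ↥((P : Subgroup G) ⊔ Q)) = 1 := by
          apply card_sylow_of_isPGroup
          rw [hQG]
          exact P.isPGroup'
        rw [h1, mul_one]
        exact ih _ (hquot Q hQn hQb) _ rfl
    · rw [card_sylow_eq_normal N P]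
      exact good_mul (ih _ (hsub N htop) _ rfl) (ih _ (hsub _ hL) _ rfl)

end Cfsg.Agent.S4303

namespace Cfsg.Agent.S4303

/-- For a finite group `G` and a prime `p`, the number of Sylow `p`-subgroups of `G` is a product of natural numbers each of which is either a prime power congruent to 1 modulo `p` or the number of Sylow `p`-subgroups of some finite simple group. -/
theorem result {G : Type u} [Group G] [Finite G]
    (p : ℕ) [Fact p.Prime] :
    ∃ l : List ℕ, l.prod = Nat.card (Sylow p G) ∧
      ∀ m ∈ l, (IsPrimePow m ∧ m % p = 1) ∨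
        ∃ (S : Type u) (_ : Group S) (_ : Finite S), IsSimpleGroup S ∧ m = Nat.card (Sylow p S) :=
  good_sylow p _ G rfl

end Cfsg.Agent.S4303
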