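import Mathlib
import Cfsg.Statements.S1010
import Cfsg.Agent.S4303
import Cfsg.Agent.Lib.SmallGroups3
import Cfsg.Agent.Lib.SingularCount

set_option autoImplicit false
set_option linter.unusedSectionVars false
set_option linter.style.haveILetI false
open Cfsg
open scoped Pointwise

namespace Cfsg.Agent.S1010

open Cfsg.Agent.Lib.PCore (mem_conj_smul_iff)

section Core

variable {S : Type*} [Group S] [Finite S] [hp5 : Fact (Nat.Prime 5)]

theorem smul_self_of_mem (R : Sylow 5 S) {a : S} (ha : a ∈ (R : Subgroup S)) : a • R = R := by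
  rw [Sylow.smul_eq_iff_mem_normalizer]
  exact Subgroup.le_normalizer ha

theorem mem_of_smul_eq (R x : Sylow 5 S) {a : S} (ha : a ∈ (R : Subgroup S)) (h : a • x = x) :
    a ∈ (x : Subgroup S) := by
  rw [Sylow.smul_eq_iff_mem_normalizer] at h
  have h1 := R.isPGroup'.inf_normalizer_sylow x
  have h2 : a ∈ (R : Subgroup S) ⊓ Subgroup.normalizer ((x : Subgroup S) : Set S) :=
    Subgroup.mem_inf.mpr ⟨ha, h⟩
  have h3 := h1.le h2
  exact (Subgroup.mem_inf.mp h3).2

theorem stabilizer_eq (R x : Sylow 5 S) :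
    MulAction.stabilizer (R : Subgroup S) x = (x : Subgroup S).subgroupOf R := by
  ext a
  rw [MulAction.mem_stabilizer_iff, Subgroup.mem_subgroupOf]
  constructor
  · intro h
    exact mem_of_smul_eq R x a.2 h
  · intro h
    exact smul_self_of_mem x h

theorem card_orbit_eq (R x : Sylow 5 S) :
    Nat.card (MulAction.orbit (R : Subgroup S) x) = (x : Subgroup S).relIndex R := by
  rw [Nat.card_coe_set_eq, ← MulAction.index_stabilizer, stabilizer_eq]
  rfl

theorem orbit_ne (R x : Sylow 5 S) (hne : x ≠ R) {y : Sylow 5 S}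
    (hy : y ∈ MulAction.orbit (R : Subgroup S) x) : y ≠ R := by
  obtain ⟨a, rfl⟩ := hy
  intro h
  apply hne
  have h1 : (a : S) • x = R := h
  have h2 : (a : S)⁻¹ • R = R := smul_self_of_mem R (inv_mem a.2)
  have h3 : x = (a : S)⁻¹ • ((a : S) • x) := (inv_smul_smul _ _).symm
  rw [h1] at h3
  exact h3.trans h2

theorem ncard_ne (h21 : Nat.card (Sylow 5 S) = 21) (R : Sylow 5 S) :
    ({y : Sylow 5 S | y ≠ R} : Set _).ncard = 20 := by
  have h1 : ({y : Sylow 5 S | y ≠ R} : Set _) = ({R} : Set _)ᶜ := by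
    ext y; simp
  rw [h1, Set.ncard_compl, Set.ncard_singleton, h21]

theorem relIndex_eq_five (h21 : Nat.card (Sylow 5 S) = 21) (R x : Sylow 5 S) (hne : x ≠ R) :
    (x : Subgroup S).relIndex R = 5 := by
  have h1 : (x : Subgroup S).relIndex R ≤ 20 := by
    rw [← card_orbit_eq, Nat.card_coe_set_eq, ← ncard_ne h21 R]
    apply Set.ncard_le_ncard _ (Set.toFinite _)
    intro y hy
    exact orbit_ne R x hne hy
  obtain ⟨k, hk⟩ := IsPGroup.iff_card.mp R.isPGroup'
  have h2 : (x : Subgroup S).relIndex R ∣ 5 ^ k := by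
    rw [← hk]; exact Subgroup.relIndex_dvd_card _ _
  obtain ⟨b, -, hb⟩ := (Nat.dvd_prime_pow (by norm_num : Nat.Prime 5)).mp h2
  have hb0 : b ≠ 0 := by
    rintro rfl
    rw [pow_zero] at hb
    have h3 : (R : Subgroup S) ≤ x := Subgroup.relIndex_eq_one.mp hb
    exact hne (Sylow.ext (R.is_maximal' x.isPGroup' h3))
  have hb1 : b = 1 := by
    by_contra hb2
    have h4 : 2 ≤ b := by omega
    have h5 : 5 ^ 2 ≤ 5 ^ b := Nat.pow_le_pow_right (by norm_num) h4
    rw [hb] at h1
    omega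
  rw [hb, hb1]; norm_num

theorem card_orbit_five (h21 : Nat.card (Sylow 5 S) = 21) (R x : Sylow 5 S) (hne : x ≠ R) :
    (MulAction.orbit (R : Subgroup S) x).ncard = 5 := by
  rw [← Nat.card_coe_set_eq, card_orbit_eq, relIndex_eq_five h21 R x hne]

/-- A set of at least five points off `R` contains two points in the same `R`-orbit. -/
theorem exists_same_orbit (h21 : Nat.card (Sylow 5 S) = 21) (R : Sylow 5 S) (T : Set (Sylow 5 S))
    (hT : ∀ x ∈ T, x ≠ R) (hT5 : 5 ≤ T.ncard) :
    ∃ x ∈ T, ∃ y ∈ T, x ≠ y ∧ ∃ a ∈ (R : Subgroup S), a • x = y := by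
  classical
  by_contra hcon
  push Not at hcon
  haveI : Fintype (Sylow 5 S) := Fintype.ofFinite _
  have hdisj : ∀ x ∈ T.toFinset, ∀ y ∈ T.toFinset, x ≠ y →
      Disjoint (MulAction.orbit (R : Subgroup S) x).toFinset
        (MulAction.orbit (R : Subgroup S) y).toFinset := by
    intro x hx y hy hxy
    rw [Set.disjoint_toFinset]
    rcases MulAction.orbit.eq_or_disjoint (G := (R : Subgroup S)) x y with h | h
    · exfalso
      have hv : y ∈ MulAction.orbit (R : Subgroup S) x := by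
        rw [h]; exact MulAction.mem_orbit_self y
      obtain ⟨a, ha⟩ := hv
      exact hcon x (Set.mem_toFinset.mp hx) y (Set.mem_toFinset.mp hy) hxy a a.2 ha
    · exact h
  have hcard := Finset.card_biUnion hdisj
  have hsub : T.toFinset.biUnion (fun x => (MulAction.orbit (R : Subgroup S) x).toFinset) ⊆
      ({y : Sylow 5 S | y ≠ R} : Set _).toFinset := by
    intro y hy
    obtain ⟨x, hx, hyx⟩ := Finset.mem_biUnion.mp hy
    rw [Set.mem_toFinset] at hx hyx ⊢
    exact orbit_ne R x (hT x hx) hyx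
  have h1 := Finset.card_le_card hsub
  rw [hcard] at h1
  have h2 : ∀ x ∈ T.toFinset, (MulAction.orbit (R : Subgroup S) x).toFinset.card = 5 := by
    intro x hx
    have h3 := card_orbit_five h21 R x (hT x (Set.mem_toFinset.mp hx))
    rw [Set.ncard_eq_toFinset_card'] at h3
    exact h3
  rw [Finset.sum_congr rfl h2, Finset.sum_const, smul_eq_mul, ← Set.ncard_eq_toFinset_card',
    ← Set.ncard_eq_toFinset_card', ncard_ne h21 R] at h1
  omega

theorem card_inf_mul_five (h21 : Nat.card (Sylow 5 S) = 21) (A B : Sylow 5 S) (hne : B ≠ A) :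
    Nat.card ((A : Subgroup S) ⊓ (B : Subgroup S) : Subgroup S) * 5 = Nat.card (A : Subgroup S) := by
  have h1 := Cfsg.Agent.Lib.SylowNum.card_mul_relIndex ((A : Subgroup S) ⊓ (B : Subgroup S))
    (A : Subgroup S) inf_le_left
  rw [Subgroup.inf_relIndex_left, relIndex_eq_five h21 A B hne] at h1
  exact h1

theorem five_dvd_card (h21 : Nat.card (Sylow 5 S) = 21) (A B : Sylow 5 S) (hne : B ≠ A) :
    5 ∣ Nat.card (A : Subgroup S) := by
  rw [← card_inf_mul_five h21 A B hne]
  exact Dvd.intro_left _ rfl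

/-- Conjugation within `R` fixes `R ⊓ x`. -/
theorem inf_smul_eq (h21 : Nat.card (Sylow 5 S) = 21) (R x : Sylow 5 S) (hne : x ≠ R)
    {a : S} (ha : a ∈ (R : Subgroup S)) :
    (R : Subgroup S) ⊓ ((a • x : Sylow 5 S) : Subgroup S) = (R : Subgroup S) ⊓ (x : Subgroup S) := by
  have hnorm : ((x : Subgroup S).subgroupOf (R : Subgroup S)).Normal := by
    apply Subgroup.normal_of_index_eq_minFac_card
    have h1 : ((x : Subgroup S).subgroupOf (R : Subgroup S)).index = 5 := relIndex_eq_five h21 R x hne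
    rw [h1]
    obtain ⟨k, hk⟩ := IsPGroup.iff_card.mp R.isPGroup'
    have h2 : 5 ∣ Nat.card (R : Subgroup S) := five_dvd_card h21 R x hne
    rw [hk] at h2 ⊢
    have hk0 : k ≠ 0 := by
      rintro rfl
      norm_num at h2
    rw [Nat.Prime.pow_minFac (by norm_num : Nat.Prime 5) hk0]
  have hconj : ∀ (c : S), c ∈ (R : Subgroup S) → ∀ y ∈ (R : Subgroup S) ⊓ (x : Subgroup S),
      c * y * c⁻¹ ∈ (x : Subgroup S) := by
    intro c hc y hy
    have hyR := (Subgroup.mem_inf.mp hy).1
    have hyx := (Subgroup.mem_inf.mp hy).2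
    have h3 : (⟨y, hyR⟩ : (R : Subgroup S)) ∈ (x : Subgroup S).subgroupOf (R : Subgroup S) :=
      Subgroup.mem_subgroupOf.mpr hyx
    have h4 := hnorm.conj_mem _ h3 ⟨c, hc⟩
    exact Subgroup.mem_subgroupOf.mp h4
  ext y
  rw [Subgroup.mem_inf, Subgroup.mem_inf, Sylow.coe_subgroup_smul, mem_conj_smul_iff]
  constructor
  · rintro ⟨h1, h2⟩
    refine ⟨h1, ?_⟩
    have h3 : a⁻¹ * y * a ∈ (R : Subgroup S) ⊓ (x : Subgroup S) :=
      Subgroup.mem_inf.mpr ⟨(R : Subgroup S).mul_mem ((R : Subgroup S).mul_mem (inv_mem ha) h1) ha, h2⟩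
    have h4 := hconj a ha _ h3
    have e : a * (a⁻¹ * y * a) * a⁻¹ = y := by group
    rwa [e] at h4
  · rintro ⟨h1, h2⟩
    refine ⟨h1, ?_⟩
    have h4 := hconj a⁻¹ (inv_mem ha) y (Subgroup.mem_inf.mpr ⟨h1, h2⟩)
    simpa using h4

/-- The action on the Sylow subgroups is faithful in a simple group. -/
theorem faithful_of_simple [IsSimpleGroup S] (h21 : Nat.card (Sylow 5 S) = 21) (g : S)
    (hg : ∀ x : Sylow 5 S, g • x = x) : g = 1 := by
  let φ : S →* Equiv.Perm (Sylow 5 S) := MulAction.toPermHom S (Sylow 5 S)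
  have hker : φ.ker ≠ ⊤ := by
    intro htop
    obtain ⟨R⟩ : Nonempty (Sylow 5 S) := inferInstance
    have hall : ∀ x : Sylow 5 S, x = R := by
      intro x
      obtain ⟨c, rfl⟩ := MulAction.exists_smul_eq S R x
      have : c ∈ φ.ker := by rw [htop]; trivial
      have h1 : φ c = 1 := this
      have h2 : φ c R = R := by rw [h1]; rfl
      exact h2
    have hss : Subsingleton (Sylow 5 S) := ⟨fun a b => (hall a).trans (hall b).symm⟩
    have : Nat.card (Sylow 5 S) = 1 := Nat.card_of_subsingleton R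
    omega
  have hbot : φ.ker = ⊥ := by
    rcases (inferInstance : φ.ker.Normal).eq_bot_or_eq_top with h | h
    · exact h
    · exact absurd h hker
  have hmem : g ∈ φ.ker := by
    show φ g = 1
    ext x : 1
    exact hg x
  rw [hbot] at hmem
  exact Subgroup.mem_bot.mp hmem

theorem aux_le (h21 : Nat.card (Sylow 5 S) = 21) (R₂ x y : Sylow 5 S) (K₁ : Subgroup S)
    (hxy : y ≠ x) (hx : x ≠ R₂) (hKx : K₁ ≤ x) (hKy : K₁ ≤ y)
    (hcK : Nat.card K₁ * 5 = Nat.card (x : Subgroup S))
    {b : S} (hb : b ∈ (R₂ : Subgroup S)) (hbxy : b • x = y) : K₁ ≤ R₂ := by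
  have h1 : (R₂ : Subgroup S) ⊓ (y : Subgroup S) = (R₂ : Subgroup S) ⊓ (x : Subgroup S) := by
    rw [← hbxy]; exact inf_smul_eq h21 R₂ x hx hb
  have c1 := card_inf_mul_five h21 x y hxy
  have c2 := card_inf_mul_five h21 R₂ x hx
  have c3 : Nat.card (R₂ : Subgroup S) = Nat.card (x : Subgroup S) := Nat.card_congr (Sylow.equiv R₂ x).toEquiv
  have e1 : K₁ = (x : Subgroup S) ⊓ (y : Subgroup S) :=
    Subgroup.eq_of_le_of_card_ge (le_inf hKx hKy) (by omega)
  have e2 : (R₂ : Subgroup S) ⊓ (x : Subgroup S) = (x : Subgroup S) ⊓ (y : Subgroup S) :=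
    Subgroup.eq_of_le_of_card_ge (le_inf inf_le_right (h1 ▸ inf_le_right)) (by omega)
  rw [e1, ← e2]
  exact inf_le_left

theorem exists_ne (h21 : Nat.card (Sylow 5 S) = 21) (P : Sylow 5 S) : ∃ R₁ : Sylow 5 S, R₁ ≠ P := by
  by_contra hc
  push Not at hc
  have hss : Subsingleton (Sylow 5 S) := ⟨fun a b => (hc a).trans (hc b).symm⟩
  have : Nat.card (Sylow 5 S) = 1 := Nat.card_of_subsingleton P
  omega

/-- Sylow `5`-subgroups have order `5`. -/
theorem card_sylow_eq_five [IsSimpleGroup S] (h21 : Nat.card (Sylow 5 S) = 21) (P : Sylow 5 S) :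
    Nat.card (P : Subgroup S) = 5 := by
  classical
  obtain ⟨R₁, hR₁⟩ := exists_ne h21 P
  obtain ⟨k, hk⟩ := IsPGroup.iff_card.mp P.isPGroup'
  have h5 : 5 ∣ Nat.card (P : Subgroup S) := five_dvd_card h21 P R₁ hR₁
  by_contra hne5
  -- |P| ≥ 25
  have hk2 : 2 ≤ k := by
    by_contra hk2
    have : k = 0 ∨ k = 1 := by omega
    rcases this with rfl | rfl
    · rw [hk] at h5; norm_num at h5
    · rw [hk] at hne5; norm_num at hne5
  set K₁ : Subgroup S := (P : Subgroup S) ⊓ (R₁ : Subgroup S) with hK₁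
  have hcK : Nat.card K₁ * 5 = Nat.card (P : Subgroup S) := card_inf_mul_five h21 P R₁ hR₁
  have hKne : K₁ ≠ ⊥ := by
    intro h
    rw [h, Subgroup.card_bot, hk] at hcK
    have : 5 ^ 2 ∣ 5 ^ k := pow_dvd_pow 5 hk2
    rw [← hcK] at this
    norm_num at this
  obtain ⟨u, huK, hu1⟩ := (Subgroup.bot_or_exists_ne_one K₁).resolve_left hKne
  have hexR₂ : ∃ R₂ : Sylow 5 S, u • R₂ ≠ R₂ := by
    by_contra hc
    push Not at hc
    exact hu1 (faithful_of_simple h21 u hc)
  obtain ⟨R₂, hR₂⟩ := hexR₂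
  have huR₂ : u ∉ (R₂ : Subgroup S) := fun h => hR₂ (smul_self_of_mem R₂ h)
  have hKR₂ : ¬ K₁ ≤ (R₂ : Subgroup S) := fun h => huR₂ (h huK)
  -- the `P`-orbit of `R₁`: five points, all containing `K₁`.
  set T : Set (Sylow 5 S) := MulAction.orbit (P : Subgroup S) R₁ with hT
  have hTK : ∀ x ∈ T, K₁ ≤ (x : Subgroup S) := by
    rintro x ⟨a, rfl⟩
    have h1 := inf_smul_eq h21 P R₁ hR₁ a.2
    have h2 : K₁ = (P : Subgroup S) ⊓ (((a : S) • R₁ : Sylow 5 S) : Subgroup S) := h1.symm
    show K₁ ≤ (((a : S) • R₁ : Sylow 5 S) : Subgroup S)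
    rw [h2]
    exact inf_le_right
  have hTR₂ : ∀ x ∈ T, x ≠ R₂ := fun x hx h => hKR₂ (h ▸ hTK x hx)
  obtain ⟨x, hx, y, hy, hxy, b, hb, hbx⟩ := exists_same_orbit h21 R₂ T hTR₂
    (by rw [hT, card_orbit_five h21 P R₁ hR₁])
  have hcx : Nat.card K₁ * 5 = Nat.card (x : Subgroup S) := by
    rw [hcK]; exact Nat.card_congr (Sylow.equiv P x).toEquiv
  exact hKR₂ (aux_le h21 R₂ x y K₁ hxy.symm (hTR₂ x hx) (hTK x hx) (hTK y hy) hcx hb hbx)

theorem inf_eq_bot [IsSimpleGroup S] (h21 : Nat.card (Sylow 5 S) = 21) (A B : Sylow 5 S)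
    (hne : B ≠ A) : (A : Subgroup S) ⊓ (B : Subgroup S) = ⊥ := by
  have h1 := card_inf_mul_five h21 A B hne
  rw [card_sylow_eq_five h21 A] at h1
  have h2 : Nat.card ((A : Subgroup S) ⊓ (B : Subgroup S) : Subgroup S) = 1 := by omega
  exact Subgroup.eq_bot_of_card_eq _ h2


/-- An acting `p`-group: invariant sets have size congruent to the number of fixed points in them. -/
theorem ncard_modEq_of_invariant {A X : Type*} [Group A] [MulAction A X] [Finite X] {p : ℕ}
    [Fact p.Prime] (hA : IsPGroup p A) (T : Set X) (hT : ∀ g : A, ∀ t ∈ T, g • t ∈ T) :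
    T.ncard ≡ (T ∩ MulAction.fixedPoints A X).ncard [MOD p] := by
  let T' : SubMulAction A X := ⟨T, fun c _ hx => hT c _ hx⟩
  have h1 := hA.card_modEq_card_fixedPoints T'
  have h2 : Nat.card T' = T.ncard := Nat.card_coe_set_eq T
  have h3 : Nat.card (MulAction.fixedPoints A T') = (T ∩ MulAction.fixedPoints A X).ncard := by
    rw [← Nat.card_coe_set_eq (T ∩ MulAction.fixedPoints A X)]
    apply Nat.card_congr
    refine ⟨fun x => ⟨x.1.1, x.1.2, fun g => ?_⟩, fun x => ⟨⟨x.1, x.2.1⟩, fun g => ?_⟩, ?_, ?_⟩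
    · exact congrArg Subtype.val (x.2 g)
    · exact Subtype.ext (x.2.2 g)
    · intro x; rfl
    · intro x; rfl
  rw [h2, h3] at h1
  exact h1

/-- The `P_A`-fixed points are just `A`. -/
theorem mem_fixedPoints_iff (A x : Sylow 5 S) :
    x ∈ MulAction.fixedPoints (A : Subgroup S) (Sylow 5 S) ↔ x = A := by
  constructor
  · intro h
    have h1 : (A : Subgroup S) ≤ x := fun a ha => mem_of_smul_eq A x ha (h ⟨a, ha⟩)
    exact Sylow.ext (A.is_maximal' x.isPGroup' h1)
  · rintro rfl a
    exact smul_self_of_mem x a.2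

theorem ncard_mod_five (A : Sylow 5 S) (T : Set (Sylow 5 S)) (hA : A ∈ T)
    (hT : ∀ g ∈ (A : Subgroup S), ∀ t ∈ T, g • t ∈ T) : T.ncard % 5 = 1 := by
  have h1 := ncard_modEq_of_invariant (A := (A : Subgroup S)) A.isPGroup' T (fun g t ht => hT g g.2 t ht)
  have h2 : T ∩ MulAction.fixedPoints (A : Subgroup S) (Sylow 5 S) = {A} := by
    ext x
    rw [Set.mem_inter_iff, mem_fixedPoints_iff, Set.mem_singleton_iff]
    constructor
    · exact fun h => h.2
    · rintro rfl
      exact ⟨hA, rfl⟩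
  rw [h2, Set.ncard_singleton] at h1
  exact h1

theorem isPGroup_zpowers {y : S} {q : ℕ} [hq : Fact q.Prime] (hy : orderOf y = q) :
    IsPGroup q (Subgroup.zpowers y) := by
  rw [IsPGroup.iff_card, Nat.card_zpowers, hy]
  exact ⟨1, by simp⟩

/-- An element of prime order: invariant sets have size congruent to the number of fixed points. -/
theorem ncard_modEq_fixedBy {y : S} {q : ℕ} [hq : Fact q.Prime] (hy : orderOf y = q)
    (T : Set (Sylow 5 S)) (hT : ∀ t ∈ T, y • t ∈ T) (hT' : ∀ t ∈ T, y⁻¹ • t ∈ T) :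
    T.ncard ≡ (T ∩ MulAction.fixedBy (Sylow 5 S) y).ncard [MOD q] := by
  have hinv : ∀ g : Subgroup.zpowers y, ∀ t ∈ T, g • t ∈ T := by
    rintro ⟨g, k, rfl⟩ t ht
    show y ^ k • t ∈ T
    induction k using Int.induction_on generalizing t with
    | zero => simpa using ht
    | succ i ih =>
      rw [zpow_add_one, mul_smul]
      exact ih _ (hT t ht)
    | pred i ih =>
      rw [zpow_sub_one, mul_smul]
      exact ih _ (hT' t ht)
  have h1 := ncard_modEq_of_invariant (A := Subgroup.zpowers y) (isPGroup_zpowers hy) T hinv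
  have h2 : MulAction.fixedPoints (Subgroup.zpowers y) (Sylow 5 S) =
      MulAction.fixedBy (Sylow 5 S) y := by
    ext x
    constructor
    · intro h
      exact h ⟨y, Subgroup.mem_zpowers y⟩
    · rintro h ⟨g, k, rfl⟩
      have h3 : y • x = x := h
      show y ^ k • x = x
      have h4 : y ∈ MulAction.stabilizer S x := h3
      exact zpow_mem h4 k
  rwa [h2] at h1


open Cfsg.Agent.Lib.SingularCount (orderOf_conj')

/-- `w` normalizing a Sylow subgroup of prime order `p`, with order prime to `p - 1`, centralizes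
it. -/
theorem mem_centralizer_of_coprime {p : ℕ} [Fact p.Prime] (Q : Sylow p S)
    (hQ : Nat.card (Q : Subgroup S) = p) {w : S}
    (hw : w ∈ Subgroup.normalizer ((Q : Subgroup S) : Set S)) (hco : (orderOf w).Coprime (p - 1)) :
    w ∈ Subgroup.centralizer ((Q : Subgroup S) : Set S) := by
  haveI hc : IsCyclic (Q : Subgroup S) := isCyclic_of_prime_card hQ
  let φ := (Q : Subgroup S).normalizerMonoidHom
  have h1 : orderOf (φ ⟨w, hw⟩) ∣ p - 1 := by
    have := orderOf_dvd_natCard (φ ⟨w, hw⟩)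
    rwa [IsCyclic.card_mulAut, hQ, Nat.totient_prime Fact.out] at this
  have h2 : orderOf (φ ⟨w, hw⟩) ∣ orderOf w := by
    have := orderOf_map_dvd φ ⟨w, hw⟩
    rwa [Subgroup.orderOf_mk] at this
  have h3 : orderOf (φ ⟨w, hw⟩) = 1 := Nat.eq_one_of_dvd_coprimes hco h2 h1
  have h4 : (⟨w, hw⟩ : Subgroup.normalizer ((Q : Subgroup S) : Set S)) ∈ φ.ker :=
    orderOf_eq_one_iff.mp h3
  rw [Subgroup.normalizerMonoidHom_ker] at h4
  exact Subgroup.mem_subgroupOf.mp h4

theorem mem_centralizer_of_fix [IsSimpleGroup S] (h21 : Nat.card (Sylow 5 S) = 21) {y : S}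
    (c : Sylow 5 S) (hyc : y • c = c) (hco : (orderOf y).Coprime 4) :
    y ∈ Subgroup.centralizer ((c : Subgroup S) : Set S) :=
  mem_centralizer_of_coprime c (card_sylow_eq_five h21 c) (Sylow.smul_eq_iff_mem_normalizer.mp hyc) hco

theorem fixedBy_invariant {y : S} (c : Sylow 5 S)
    (hyC : y ∈ Subgroup.centralizer ((c : Subgroup S) : Set S)) {g : S}
    (hg : g ∈ (c : Subgroup S)) {d : Sylow 5 S} (hd : y • d = d) : y • (g • d) = g • d := by
  have h : g * y = y * g := (Subgroup.mem_centralizer_iff.mp hyC) g hg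
  rw [smul_smul, ← h, mul_smul, hd]

/-- Elements of prime order fixing a point. -/
theorem fixedBy_prime [IsSimpleGroup S] (h21 : Nat.card (Sylow 5 S) = 21) {y : S} {q : ℕ}
    (hq : q.Prime) (hq2 : q ≠ 2) (hq5 : q ≠ 5) (hy : orderOf y = q) (c : Sylow 5 S)
    (hyc : y • c = c) : q = 3 ∧ (MulAction.fixedBy (Sylow 5 S) y).ncard = 6 := by
  haveI : Fact q.Prime := ⟨hq⟩
  set F := MulAction.fixedBy (Sylow 5 S) y with hF
  have hco : (orderOf y).Coprime 4 := by
    rw [hy]
    exact Nat.Coprime.pow_right 2 ((Nat.coprime_primes hq Nat.prime_two).mpr hq2)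
  have hyC := mem_centralizer_of_fix h21 c hyc hco
  have h5 : F.ncard % 5 = 1 :=
    ncard_mod_five c F hyc (fun g hg t ht => fixedBy_invariant c hyC hg ht)
  have hmq : (Set.univ : Set (Sylow 5 S)).ncard ≡ (Set.univ ∩ F).ncard [MOD q] :=
    ncard_modEq_fixedBy hy Set.univ (by simp) (by simp)
  rw [Set.univ_inter, Set.ncard_univ, h21] at hmq
  have hle : F.ncard ≤ 21 := by
    rw [← h21, ← Set.ncard_univ]
    exact Set.ncard_le_ncard (Set.subset_univ _) (Set.toFinite _)
  have hne : F.ncard ≠ 21 := by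
    intro h
    have hFu : F = Set.univ := Set.eq_of_subset_of_ncard_le (Set.subset_univ _)
      (by rw [Set.ncard_univ, h21, h]) (Set.toFinite _)
    have hy1 : y = 1 := faithful_of_simple h21 y (fun x => by
      have hx : x ∈ F := by rw [hFu]; trivial
      exact hx)
    rw [hy1, orderOf_one] at hy
    exact hq.one_lt.ne hy
  have hdvd : q ∣ 21 - F.ncard := (Nat.modEq_iff_dvd' hle).mp hmq.symm
  have hcases : F.ncard = 1 ∨ F.ncard = 6 ∨ F.ncard = 11 ∨ F.ncard = 16 := by omega
  rcases hcases with h | h | h | h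
  · rw [h] at hdvd
    exfalso
    have hqle : q ≤ 20 := Nat.le_of_dvd (by norm_num) hdvd
    interval_cases q <;> first | omega | (norm_num at hq)
  · rw [h] at hdvd
    refine ⟨?_, h⟩
    have hqle : q ≤ 15 := Nat.le_of_dvd (by norm_num) hdvd
    interval_cases q <;> first | omega | (norm_num at hq)
  · rw [h] at hdvd
    exfalso
    have hqle : q ≤ 10 := Nat.le_of_dvd (by norm_num) hdvd
    interval_cases q <;> first | omega | (norm_num at hq)
  · rw [h] at hdvd
    exfalso
    have hqle : q ≤ 5 := Nat.le_of_dvd (by norm_num) hdvd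
    interval_cases q <;> first | omega | (norm_num at hq)

theorem coprime_three_four {y : S} (hy : orderOf y = 3) : (orderOf y).Coprime 4 := by
  rw [hy]; norm_num

/-- The fixed points of an element of order `3` fixing `c` form a "line" through `c`. -/
theorem line_eq [IsSimpleGroup S] (h21 : Nat.card (Sylow 5 S) = 21) {y : S} (hy : orderOf y = 3)
    {c d : Sylow 5 S} (hyc : y • c = c) (hyd : y • d = d) (hne : d ≠ c) :
    MulAction.fixedBy (Sylow 5 S) y = insert c (MulAction.orbit (c : Subgroup S) d) := by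
  have hyC := mem_centralizer_of_fix h21 c hyc (coprime_three_four hy)
  have h6 := (fixedBy_prime h21 Nat.prime_three (by norm_num) (by norm_num) hy c hyc).2
  symm
  apply Set.eq_of_subset_of_ncard_le
  · intro x hx
    rcases hx with rfl | ⟨g, rfl⟩
    · exact hyc
    · exact fixedBy_invariant c hyC g.2 hyd
  · rw [h6, Set.ncard_insert_of_notMem (fun h => orbit_ne c d hne h rfl) (Set.toFinite _),
      card_orbit_five h21 c d hne]
  · exact Set.toFinite _

/-- Two points determine a line. -/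
theorem fixedBy_eq_of_two [IsSimpleGroup S] (h21 : Nat.card (Sylow 5 S) = 21) {y y' : S}
    (hy : orderOf y = 3) (hy' : orderOf y' = 3) {c d : Sylow 5 S} (hyc : y • c = c)
    (hyd : y • d = d) (hyc' : y' • c = c) (hyd' : y' • d = d) (hne : d ≠ c) :
    MulAction.fixedBy (Sylow 5 S) y = MulAction.fixedBy (Sylow 5 S) y' := by
  rw [line_eq h21 hy hyc hyd hne, line_eq h21 hy' hyc' hyd' hne]

/-- Points collinear with `a`. -/
def lineSet (a : Sylow 5 S) : Set (Sylow 5 S) :=
  {d | d = a ∨ ∃ y : S, orderOf y = 3 ∧ y • a = a ∧ y • d = d}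

theorem smul_mem_lineSet {a d : Sylow 5 S} (g : S) (hd : d ∈ lineSet a) : g • d ∈ lineSet (g • a) := by
  rcases hd with rfl | ⟨y, hy, hya, hyd⟩
  · exact Or.inl rfl
  · refine Or.inr ⟨g * y * g⁻¹, by rwa [orderOf_conj'], ?_, ?_⟩
    · rw [smul_smul, inv_mul_cancel_right, mul_smul, hya]
    · rw [smul_smul, inv_mul_cancel_right, mul_smul, hyd]

theorem smul_mem_lineSet_of_fix {a d : Sylow 5 S} {g : S} (hg : g • a = a) (hd : d ∈ lineSet a) :
    g • d ∈ lineSet a := by
  have := smul_mem_lineSet g hd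
  rwa [hg] at this

theorem lineSet_size [IsSimpleGroup S] (h21 : Nat.card (Sylow 5 S) = 21) {y : S}
    (hy : orderOf y = 3) {c : Sylow 5 S} (hyc : y • c = c) :
    (lineSet c).ncard = 6 ∨ (lineSet c).ncard = 21 := by
  haveI : Fact (Nat.Prime 3) := ⟨Nat.prime_three⟩
  have h6 := (fixedBy_prime h21 Nat.prime_three (by norm_num) (by norm_num) hy c hyc).2
  have h5 : (lineSet c).ncard % 5 = 1 :=
    ncard_mod_five c (lineSet c) (Or.inl rfl)
      (fun g hg t ht => smul_mem_lineSet_of_fix (smul_self_of_mem c hg) ht)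
  have hyinv : y⁻¹ • c = c := by rw [inv_smul_eq_iff]; exact hyc.symm
  have h3 := ncard_modEq_fixedBy hy (lineSet c) (fun t ht => smul_mem_lineSet_of_fix hyc ht)
    (fun t ht => smul_mem_lineSet_of_fix hyinv ht)
  have hsub : MulAction.fixedBy (Sylow 5 S) y ⊆ lineSet c :=
    fun x hx => Or.inr ⟨y, hy, hyc, hx⟩
  rw [Set.inter_eq_right.mpr hsub, h6] at h3
  have hle : (lineSet c).ncard ≤ 21 := by
    rw [← h21, ← Set.ncard_univ]
    exact Set.ncard_le_ncard (Set.subset_univ _) (Set.toFinite _)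
  have h3' : (lineSet c).ncard % 3 = 0 := h3
  omega

/-- No element of order `3` fixes a point. -/
theorem no_order_three [IsSimpleGroup S] (h21 : Nat.card (Sylow 5 S) = 21) {y₀ : S}
    (hy₀ : orderOf y₀ = 3) (a : Sylow 5 S) (hya : y₀ • a = a) : False := by
  classical
  have h06 := (fixedBy_prime h21 Nat.prime_three (by norm_num) (by norm_num) hy₀ a hya).2
  have hex : ∀ c : Sylow 5 S, ∃ y : S, orderOf y = 3 ∧ y • c = c := by
    intro c
    obtain ⟨g, rfl⟩ := MulAction.exists_smul_eq S a c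
    refine ⟨g * y₀ * g⁻¹, by rwa [orderOf_conj'], ?_⟩
    rw [smul_smul, inv_mul_cancel_right, mul_smul, hya]
  by_cases hfull : ∃ c : Sylow 5 S, lineSet c = Set.univ
  · -- Every two points are collinear.
    obtain ⟨c, hc⟩ := hfull
    have hne : MulAction.fixedBy (Sylow 5 S) y₀ ≠ Set.univ := by
      intro h
      rw [h, Set.ncard_univ, h21] at h06
      omega
    obtain ⟨u, hu⟩ : ∃ u, u ∉ MulAction.fixedBy (Sylow 5 S) y₀ := by
      by_contra hcon
      push Not at hcon
      exact hne (Set.eq_univ_of_forall hcon)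
    obtain ⟨g, rfl⟩ := MulAction.exists_smul_eq S c u
    have hall : ∀ x, x ∈ lineSet (g • c) := by
      intro x
      have h1 : g⁻¹ • x ∈ lineSet c := by rw [hc]; trivial
      have h2 := smul_mem_lineSet g h1
      rwa [smul_inv_smul] at h2
    obtain ⟨x, hx, x', hx', hxx', b, hb, hbx⟩ := exists_same_orbit h21 (g • c)
      (MulAction.fixedBy (Sylow 5 S) y₀) (fun x hx h => hu (h ▸ hx)) (by rw [h06]; norm_num)
    rcases hall x with h | ⟨y, hy, hyu, hyx⟩
    · exact hu (h ▸ hx)
    · have hyC := mem_centralizer_of_fix h21 (g • c) hyu (coprime_three_four hy)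
      have hyx' : y • x' = x' := by
        rw [← hbx]
        exact fixedBy_invariant (g • c) hyC hb hyx
      have h1 := fixedBy_eq_of_two h21 hy hy₀ hyx hyx' hx hx' hxx'.symm
      apply hu
      rw [← h1]
      exact hyu
  · -- The lines form a block system.
    push Not at hfull
    have h6 : ∀ c : Sylow 5 S, (lineSet c).ncard = 6 := by
      intro c
      obtain ⟨y, hy, hyc⟩ := hex c
      rcases lineSet_size h21 hy hyc with h | h
      · exact h
      · exfalso
        apply hfull c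
        exact Set.eq_of_subset_of_ncard_le (Set.subset_univ _)
          (by rw [Set.ncard_univ, h21, h]) (Set.toFinite _)
    have hline : ∀ (c : Sylow 5 S) (y : S), orderOf y = 3 → y • c = c →
        MulAction.fixedBy (Sylow 5 S) y = lineSet c := by
      intro c y hy hyc
      apply Set.eq_of_subset_of_ncard_le
      · exact fun x hx => Or.inr ⟨y, hy, hyc, hx⟩
      · rw [h6, (fixedBy_prime h21 Nat.prime_three (by norm_num) (by norm_num) hy c hyc).2]
      · exact Set.toFinite _
    have hsmul : ∀ g : S, g • MulAction.fixedBy (Sylow 5 S) y₀ =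
        MulAction.fixedBy (Sylow 5 S) (g * y₀ * g⁻¹) := by
      intro g
      ext x
      rw [Set.mem_smul_set_iff_inv_smul_mem, MulAction.mem_fixedBy, MulAction.mem_fixedBy,
        mul_smul, mul_smul]
      constructor
      · intro h
        rw [h, smul_inv_smul]
      · intro h
        exact (smul_eq_iff_eq_inv_smul g).mp h
    have hblock : MulAction.IsBlock S (MulAction.fixedBy (Sylow 5 S) y₀) := by
      rw [MulAction.isBlock_iff_smul_eq_of_nonempty]
      rintro g ⟨u, hu1, hu2⟩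
      rw [hsmul] at hu1 ⊢
      rw [hline u _ (by rwa [orderOf_conj']) hu1, hline u y₀ hy₀ hu2]
    have hd := hblock.ncard_dvd_card ⟨a, hya⟩
    rw [h06, h21] at hd
    norm_num at hd


/-- No element of prime order other than `2`, `5` fixes a point. -/
theorem no_fix [IsSimpleGroup S] (h21 : Nat.card (Sylow 5 S) = 21) {y : S} {q : ℕ}
    (hq : q.Prime) (hq2 : q ≠ 2) (hq5 : q ≠ 5) (hy : orderOf y = q) (c : Sylow 5 S)
    (hyc : y • c = c) : False := by
  obtain ⟨rfl, -⟩ := fixedBy_prime h21 hq hq2 hq5 hy c hyc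
  exact no_order_three h21 hy c hyc

/-- An element of prime order `≠ 2, 5` does not commute with an element of order `5`. -/
theorem no_commuting_five [IsSimpleGroup S] (h21 : Nat.card (Sylow 5 S) = 21) {y w : S} {q : ℕ}
    (hq : q.Prime) (hq2 : q ≠ 2) (hq5 : q ≠ 5) (hy : orderOf y = q) (hw : orderOf w = 5)
    (hc : Commute y w) : False := by
  obtain ⟨Q, hQ⟩ := Cfsg.Agent.Lib.SmallGroups2.exists_sylow_mem_of_orderOf hw
  have hne1 : w ≠ 1 := by
    intro h
    rw [h, orderOf_one] at hw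
    omega
  have h1 := Cfsg.Agent.Lib.SmallGroups2.zpowers_eq_of_mem_of_ne_one (by norm_num : Nat.Prime 5)
    (card_sylow_eq_five h21 Q) hQ hne1
  have hyC : y ∈ Subgroup.centralizer ((Q : Subgroup S) : Set S) := by
    rw [Subgroup.mem_centralizer_iff]
    intro u hu
    have hu' : u ∈ Subgroup.zpowers w := by rw [h1]; exact hu
    obtain ⟨k, rfl⟩ := Subgroup.mem_zpowers_iff.mp hu'
    exact (hc.zpow_right k).symm
  exact no_fix h21 hq hq2 hq5 hy Q
    (Sylow.smul_eq_iff_mem_normalizer.mpr (Subgroup.centralizer_le_normalizer _ hyC))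

theorem not_dvd_of_mul {a b p : ℕ} (hp : p.Prime) (h1 : ¬ p ∣ a) (h2 : ¬ p ∣ b) : ¬ p ∣ a * b :=
  fun h => (hp.dvd_mul.mp h).elim h1 h2

/-- `|N(P)| = 5 * 2 ^ k`. -/
theorem exists_card_normalizer [IsSimpleGroup S] (h21 : Nat.card (Sylow 5 S) = 21) (P : Sylow 5 S) :
    ∃ k : ℕ, Nat.card (Subgroup.normalizer ((P : Subgroup S) : Set S)) = 5 * 2 ^ k := by
  set H := Subgroup.normalizer ((P : Subgroup S) : Set S) with hH
  have hP5 := card_sylow_eq_five h21 P
  have hPH : (P : Subgroup S) ≤ H := Subgroup.le_normalizer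
  have h5 : 5 ∣ Nat.card H := by
    rw [← hP5]; exact Subgroup.card_dvd_of_le hPH
  obtain ⟨m, hm⟩ := h5
  have hm5 : ¬ 5 ∣ m := by
    rintro ⟨m', hm'⟩
    have h1 : 5 ^ 2 ∣ Nat.card S := by
      have h2 : Nat.card H ∣ Nat.card S := Subgroup.card_subgroup_dvd_card H
      rw [hm, hm'] at h2
      exact Dvd.dvd.trans ⟨m', by ring⟩ h2
    have h2 := Sylow.pow_dvd_card_of_pow_dvd_card P h1
    rw [hP5] at h2
    norm_num at h2
  have hm0 : m ≠ 0 := by
    rintro rfl
    have : 0 < Nat.card H := Nat.card_pos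
    omega
  have hm' : ∀ {q : ℕ}, q.Prime → q ∣ m → q = 2 := by
    intro q hq hqm
    by_contra hq2
    have hq5 : q ≠ 5 := by
      rintro rfl
      exact hm5 hqm
    haveI : Fact q.Prime := ⟨hq⟩
    obtain ⟨w, hw⟩ := exists_prime_orderOf_dvd_card' (G := H) q (by rw [hm]; exact Dvd.dvd.mul_left hqm 5)
    have hw1 : orderOf (w : S) = q := by rw [Subgroup.orderOf_coe]; exact hw
    exact no_fix h21 hq hq2 hq5 hw1 P (Sylow.smul_eq_iff_mem_normalizer.mpr w.2)
  exact ⟨_, by rw [hm, ← Nat.eq_prime_pow_of_unique_prime_dvd hm0 hm']⟩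

theorem count_arith {n a7 a3 a5 b s c h : ℕ} (hS : n = 21 * h) (h7 : 6 * n ≤ 14 * a7)
    (h3 : 2 * n ≤ 6 * a3) (hs : 4 * c ≤ 5 * s) (hs21 : 21 * s ≤ a5) (hB : s + b = h)
    (hHC : h ≤ 4 * c) : n ≤ a7 + a3 + a5 + b := by
  omega

/-- The main theorem for simple groups. -/
theorem no_simple [IsSimpleGroup S] (h21 : Nat.card (Sylow 5 S) = 21) : False := by
  classical
  haveI hp7 : Fact (Nat.Prime 7) := ⟨by norm_num⟩
  haveI hp3 : Fact (Nat.Prime 3) := ⟨Nat.prime_three⟩
  haveI hp2 : Fact (Nat.Prime 2) := ⟨Nat.prime_two⟩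
  obtain ⟨P⟩ : Nonempty (Sylow 5 S) := inferInstance
  have hG : ¬ IsMulCommutative S := by
    intro hc
    have hn : (P : Subgroup S).Normal := by
      constructor
      intro n hn g
      have : g * n * g⁻¹ = n := by
        have h1 : g * n = n * g := hc.is_comm.comm g n
        rw [h1]; group
      rwa [this]
    haveI := Sylow.unique_of_normal P hn
    have : Nat.card (Sylow 5 S) = 1 := Nat.card_unique
    omega
  obtain ⟨k, hk⟩ := exists_card_normalizer h21 P
  have hcard : Nat.card S = 105 * 2 ^ k := by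
    rw [← Cfsg.Agent.Lib.SmallGroups2.card_normalizer_mul_card_sylow P, hk, h21]
    ring
  have h2pow : ∀ p : ℕ, p.Prime → p ≠ 2 → ¬ p ∣ 2 ^ k := by
    intro p hp hp2 hd
    exact hp2 ((Nat.prime_dvd_prime_iff_eq hp Nat.prime_two).mp (hp.dvd_of_dvd_pow hd))
  have hR : ∀ R : Sylow 7 S, Nat.card (R : Subgroup S) = 7 := by
    intro R
    have h1 : Nat.card S = 7 ^ 1 * (15 * 2 ^ k) := by rw [hcard]; ring
    have h2 := Cfsg.Agent.Lib.SmallGroups2.sylow_card_of_card_eq h1
      (not_dvd_of_mul (by norm_num) (by norm_num) (h2pow 7 (by norm_num) (by norm_num))) R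
    simpa using h2
  have hY : ∀ Y : Sylow 3 S, Nat.card (Y : Subgroup S) = 3 := by
    intro Y
    have h1 : Nat.card S = 3 ^ 1 * (35 * 2 ^ k) := by rw [hcard]; ring
    have h2 := Cfsg.Agent.Lib.SmallGroups2.sylow_card_of_card_eq h1
      (not_dvd_of_mul (by norm_num) (by norm_num) (h2pow 3 (by norm_num) (by norm_num))) Y
    simpa using h2
  -- `5 ∤ |N(R)|`
  have h5N : ∀ R : Sylow 7 S, ¬ 5 ∣ Nat.card (Subgroup.normalizer ((R : Subgroup S) : Set S)) := by
    intro R h5
    haveI : Fact (Nat.Prime 5) := hp5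
    obtain ⟨w, hw⟩ := exists_prime_orderOf_dvd_card' (G := Subgroup.normalizer ((R : Subgroup S) : Set S)) 5 h5
    have hw1 : orderOf (w : S) = 5 := by rw [Subgroup.orderOf_coe]; exact hw
    have hwC := mem_centralizer_of_coprime R (hR R) w.2 (by rw [hw1]; norm_num)
    obtain ⟨r, hr⟩ := exists_prime_orderOf_dvd_card' (G := (R : Subgroup S)) 7 (by rw [hR R])
    have hr1 : orderOf (r : S) = 7 := by rw [Subgroup.orderOf_coe]; exact hr
    exact no_commuting_five h21 (by norm_num) (by norm_num) (by norm_num) hr1 hw1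
      ((Subgroup.mem_centralizer_iff.mp hwC) r r.2)
  -- `3 ∤ |N(R)|`
  have h3N : ∀ R : Sylow 7 S, ¬ 3 ∣ Nat.card (Subgroup.normalizer ((R : Subgroup S) : Set S)) := by
    intro R h3
    have h7 : 7 ∣ Nat.card (Subgroup.normalizer ((R : Subgroup S) : Set S)) := by
      have := Subgroup.card_dvd_of_le (Subgroup.le_normalizer (H := (R : Subgroup S)))
      rwa [hR R] at this
    have h21' : 21 ∣ Nat.card (Subgroup.normalizer ((R : Subgroup S) : Set S)) :=
      Nat.Coprime.mul_dvd_of_dvd_of_dvd (by norm_num : Nat.Coprime 3 7) h3 h7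
    obtain ⟨w, hw⟩ := h21'
    have hmul := Cfsg.Agent.Lib.SmallGroups2.card_normalizer_mul_card_sylow R
    have hmod : Nat.card (Sylow 7 S) % 7 = 1 := Cfsg.Agent.Lib.SmallGroups2.card_sylow_mod (G := S) (p := 7)
    set n := Nat.card (Sylow 7 S) with hn
    rw [hw, hcard] at hmul
    have h1 : w * n = 5 * 2 ^ k := by
      have : 21 * (w * n) = 21 * (5 * 2 ^ k) := by
        calc 21 * (w * n) = 21 * w * n := by ring
          _ = 105 * 2 ^ k := hmul
          _ = 21 * (5 * 2 ^ k) := by ring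
      exact Nat.eq_of_mul_eq_mul_left (by norm_num) this
    have hw5 : ¬ 5 ∣ w := fun h => h5N R (by rw [hw]; exact Dvd.dvd.mul_left h 21)
    have hn5 : 5 ∣ n := by
      have : 5 ∣ w * n := by rw [h1]; exact Dvd.intro _ rfl
      exact ((by norm_num : Nat.Prime 5).dvd_mul.mp this).resolve_left hw5
    obtain ⟨v, hv⟩ := hn5
    have h2 : v ∣ 2 ^ k := by
      refine ⟨w, ?_⟩
      have : 5 * (v * w) = 5 * 2 ^ k := by rw [← h1, hv]; ring
      have h3 := Nat.eq_of_mul_eq_mul_left (by norm_num) this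
      exact h3.symm
    obtain ⟨j, -, rfl⟩ := (Nat.dvd_prime_pow Nat.prime_two).mp h2
    rw [hv] at hmod
    have h4 : 5 * 2 ^ j % 7 ≠ 1 := by
      have h5 : ∀ j : ℕ, 2 ^ j % 7 = 1 ∨ 2 ^ j % 7 = 2 ∨ 2 ^ j % 7 = 4 := by
        intro j
        induction j with
        | zero => left; norm_num
        | succ i ih =>
          rw [pow_succ]
          omega
      have := h5 j
      omega
    exact h4 hmod
  -- index data
  obtain ⟨R⟩ : Nonempty (Sylow 7 S) := inferInstance
  obtain ⟨Y⟩ : Nonempty (Sylow 3 S) := inferInstance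
  have h7S : 7 ∣ Nat.card S := by
    rw [hcard]; exact Dvd.dvd.mul_right (by norm_num) _
  have h3S : 3 ∣ Nat.card S := by
    rw [hcard]; exact Dvd.dvd.mul_right (by norm_num) _
  have f7 : (Subgroup.centralizer ((R : Subgroup S) : Set S)).relIndex
      (Subgroup.normalizer ((R : Subgroup S) : Set S)) = 2 := by
    have h1 := Cfsg.Agent.Lib.SmallGroups2.relIndex_dvd_of_prime_card R (hR R)
    have h2 : (Subgroup.centralizer ((R : Subgroup S) : Set S)).relIndex
        (Subgroup.normalizer ((R : Subgroup S) : Set S)) ≠ 1 := fun h =>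
      Cfsg.Agent.Lib.SmallGroups2.not_normalizer_le_centralizer hG h7S R (Subgroup.relIndex_eq_one.mp h)
    have h3 : ¬ 3 ∣ (Subgroup.centralizer ((R : Subgroup S) : Set S)).relIndex
        (Subgroup.normalizer ((R : Subgroup S) : Set S)) := fun h =>
      h3N R (h.trans (Subgroup.relIndex_dvd_card _ _))
    set f := (Subgroup.centralizer ((R : Subgroup S) : Set S)).relIndex
        (Subgroup.normalizer ((R : Subgroup S) : Set S))
    have hle : f ≤ 6 := Nat.le_of_dvd (by norm_num) h1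
    interval_cases f <;> omega
  have f3 : (Subgroup.centralizer ((Y : Subgroup S) : Set S)).relIndex
      (Subgroup.normalizer ((Y : Subgroup S) : Set S)) = 2 := by
    have h1 := Cfsg.Agent.Lib.SmallGroups2.relIndex_dvd_of_prime_card Y (hY Y)
    have h2 : (Subgroup.centralizer ((Y : Subgroup S) : Set S)).relIndex
        (Subgroup.normalizer ((Y : Subgroup S) : Set S)) ≠ 1 := fun h =>
      Cfsg.Agent.Lib.SmallGroups2.not_normalizer_le_centralizer hG h3S Y (Subgroup.relIndex_eq_one.mp h)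
    set f := (Subgroup.centralizer ((Y : Subgroup S) : Set S)).relIndex
        (Subgroup.normalizer ((Y : Subgroup S) : Set S))
    have hle : f ≤ 2 := Nat.le_of_dvd (by norm_num) h1
    interval_cases f <;> omega
  -- an involution
  have h2S : 2 ∣ Nat.card S := by
    have h1 : 2 ∣ Nat.card (Subgroup.normalizer ((R : Subgroup S) : Set S)) := by
      have := Subgroup.relIndex_dvd_card (Subgroup.centralizer ((R : Subgroup S) : Set S))
        (Subgroup.normalizer ((R : Subgroup S) : Set S))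
      rwa [f7] at this
    exact h1.trans (Subgroup.card_subgroup_dvd_card _)
  obtain ⟨t, ht⟩ := exists_prime_orderOf_dvd_card' (G := S) 2 h2S
  -- the sets
  set H := Subgroup.normalizer ((P : Subgroup S) : Set S) with hH
  set C := Subgroup.centralizer ((P : Subgroup S) : Set S) with hC
  set A₇ : Set S := {g | 7 ∣ orderOf g} with hA₇
  set A₃ : Set S := {g | 3 ∣ orderOf g} with hA₃
  set A₅ : Set S := {g | 5 ∣ orderOf g} with hA₅
  set B : Set S := (H : Set S) \ A₅ with hB
  have hs := Cfsg.Agent.Lib.SingularCount.pred_mul_card_le P (card_sylow_eq_five h21 P)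
  have hs21 := Cfsg.Agent.Lib.SingularCount.card_sylow_mul_ncard_sing_le P (card_sylow_eq_five h21 P)
  rw [h21] at hs21
  have h7b := Cfsg.Agent.Lib.SingularCount.pred_mul_card_le_singular R (hR R)
  rw [f7] at h7b
  have h3b := Cfsg.Agent.Lib.SingularCount.pred_mul_card_le_singular Y (hY Y)
  rw [f3] at h3b
  -- `H ∩ A₅ = sing P`
  have hHA : (H : Set S) ∩ A₅ = Cfsg.Agent.Lib.SingularCount.sing P := by
    ext g
    constructor
    · rintro ⟨hg, hg5⟩
      refine ⟨?_, hg5⟩
      obtain ⟨m, hm⟩ := Cfsg.Agent.Lib.SingularCount.exists_pow_orderOf_eq (p := 5) hg5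
      have hgm : g ^ m ∈ (P : Subgroup S) :=
        Cfsg.Agent.Lib.SmallGroups3.mem_of_orderOf_of_mem_normalizer P hm (pow_mem hg m)
      have hne1 : g ^ m ≠ 1 := by
        intro h
        rw [h, orderOf_one] at hm
        omega
      have h1 := Cfsg.Agent.Lib.SmallGroups2.zpowers_eq_of_mem_of_ne_one (by norm_num : Nat.Prime 5)
        (card_sylow_eq_five h21 P) hgm hne1
      rw [Subgroup.mem_centralizer_iff]
      intro u hu
      have hu' : u ∈ Subgroup.zpowers (g ^ m) := by rw [h1]; exact hu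
      obtain ⟨k', rfl⟩ := Subgroup.mem_zpowers_iff.mp hu'
      exact ((Commute.refl g).pow_left m).zpow_left k'
    · rintro ⟨h1, h2⟩
      exact ⟨Subgroup.centralizer_le_normalizer _ h1, h2⟩
  have hBcard : (Cfsg.Agent.Lib.SingularCount.sing P).ncard + B.ncard = Nat.card H := by
    rw [← hHA, hB, Set.ncard_inter_add_ncard_sdiff_eq_ncard _ _ (Set.toFinite _)]
    exact (Nat.card_coe_set_eq _).symm
  -- `|H| ≤ 4 |C|`
  have hHC : Nat.card H ≤ 4 * Nat.card C := by
    have h1 := Cfsg.Agent.Lib.SmallGroups2.relIndex_dvd_of_prime_card P (card_sylow_eq_five h21 P)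
    have h2 := Cfsg.Agent.Lib.SylowNum.card_mul_relIndex C H (Subgroup.centralizer_le_normalizer _)
    have h3 : C.relIndex H ≤ 4 := Nat.le_of_dvd (by norm_num) h1
    rw [← h2, mul_comm]
    exact Nat.mul_le_mul_right _ h3
  -- disjointness
  have d73 : Disjoint A₇ A₃ := by
    rw [Set.disjoint_left]
    intro g h7 h3
    obtain ⟨R', hR'⟩ := Cfsg.Agent.Lib.SingularCount.exists_sylow_mem_centralizer R (hR R) h7
    obtain ⟨m, hm⟩ := Cfsg.Agent.Lib.SingularCount.exists_pow_orderOf_eq (p := 3) h3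
    have h1 : g ^ m ∈ Subgroup.normalizer ((R' : Subgroup S) : Set S) :=
      Subgroup.centralizer_le_normalizer _ (pow_mem hR' m)
    apply h3N R'
    have h2 := Subgroup.orderOf_dvd_natCard _ h1
    rwa [hm] at h2
  have d75 : Disjoint A₇ A₅ := by
    rw [Set.disjoint_left]
    intro g h7 h5
    obtain ⟨m, hm⟩ := Cfsg.Agent.Lib.SingularCount.exists_pow_orderOf_eq (p := 7) h7
    obtain ⟨m', hm'⟩ := Cfsg.Agent.Lib.SingularCount.exists_pow_orderOf_eq (p := 5) h5
    exact no_commuting_five h21 (by norm_num) (by norm_num) (by norm_num) hm hm'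
      ((Commute.refl g).pow_pow m m')
  have d35 : Disjoint A₃ A₅ := by
    rw [Set.disjoint_left]
    intro g h3 h5
    obtain ⟨m, hm⟩ := Cfsg.Agent.Lib.SingularCount.exists_pow_orderOf_eq (p := 3) h3
    obtain ⟨m', hm'⟩ := Cfsg.Agent.Lib.SingularCount.exists_pow_orderOf_eq (p := 5) h5
    exact no_commuting_five h21 (by norm_num) (by norm_num) (by norm_num) hm hm'
      ((Commute.refl g).pow_pow m m')
  have d7H : Disjoint A₇ (H : Set S) := by
    rw [Set.disjoint_left]
    intro g h7 hg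
    obtain ⟨m, hm⟩ := Cfsg.Agent.Lib.SingularCount.exists_pow_orderOf_eq (p := 7) h7
    exact no_fix h21 (by norm_num) (by norm_num) (by norm_num) hm P
      (Sylow.smul_eq_iff_mem_normalizer.mpr (pow_mem hg m))
  have d3H : Disjoint A₃ (H : Set S) := by
    rw [Set.disjoint_left]
    intro g h3 hg
    obtain ⟨m, hm⟩ := Cfsg.Agent.Lib.SingularCount.exists_pow_orderOf_eq (p := 3) h3
    exact no_fix h21 (by norm_num) (by norm_num) (by norm_num) hm P
      (Sylow.smul_eq_iff_mem_normalizer.mpr (pow_mem hg m))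
  have d5B : Disjoint A₅ B := by
    rw [Set.disjoint_left]
    intro g h5 hg
    exact hg.2 h5
  have hBH : B ⊆ (H : Set S) := Set.sdiff_subset
  -- the count
  have hU : A₇ ∪ A₃ ∪ A₅ ∪ B = Set.univ := by
    apply Set.eq_of_subset_of_ncard_le (Set.subset_univ _) _ (Set.toFinite _)
    rw [Set.ncard_union_eq _ (Set.toFinite _) (Set.toFinite _),
      Set.ncard_union_eq _ (Set.toFinite _) (Set.toFinite _),
      Set.ncard_union_eq d73 (Set.toFinite _) (Set.toFinite _), Set.ncard_univ]
    · have hS : Nat.card S = 21 * Nat.card H := by rw [hcard, hk]; ring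
      exact count_arith hS h7b h3b hs hs21 hBcard hHC
    · rw [Set.disjoint_union_left]
      exact ⟨d75, d35⟩
    · rw [Set.disjoint_union_left, Set.disjoint_union_left]
      exact ⟨⟨d7H.mono_right hBH, d3H.mono_right hBH⟩, d5B⟩
  -- all involutions lie in `H`
  have hinv : ∀ g : S, orderOf g = 2 → g ∈ H := by
    intro g hg
    have h1 : g ∈ A₇ ∪ A₃ ∪ A₅ ∪ B := by rw [hU]; trivial
    rcases h1 with ((h | h) | h) | h
    · have h2 : 7 ∣ orderOf g := h
      rw [hg] at h2
      norm_num at h2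
    · have h2 : 3 ∣ orderOf g := h
      rw [hg] at h2
      norm_num at h2
    · have h2 : 5 ∣ orderOf g := h
      rw [hg] at h2
      norm_num at h2
    · exact h.1
  have htcore : t ∈ H.normalCore := by
    intro g
    exact hinv _ (by rw [Cfsg.Agent.Lib.SingularCount.orderOf_conj']; exact ht)
  have hne : H.normalCore ≠ ⊥ := by
    intro h
    rw [h, Subgroup.mem_bot] at htcore
    rw [htcore, orderOf_one] at ht
    omega
  have htop : H.normalCore = ⊤ :=
    (Subgroup.normalCore_normal H).eq_bot_or_eq_top.resolve_left hne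
  have hHtop : H = ⊤ := by
    rw [eq_top_iff, ← htop]
    exact Subgroup.normalCore_le H
  obtain ⟨R₁, hR₁⟩ := exists_ne h21 P
  obtain ⟨g, hg⟩ := MulAction.exists_smul_eq S P R₁
  have hgH : g ∈ H := by rw [hHtop]; trivial
  exact hR₁ (hg ▸ Sylow.smul_eq_iff_mem_normalizer.mpr hgH)

end Core

/-- No finite group has exactly twenty-one Sylow 5-subgroups. -/
theorem result {G : Type*} [Group G] [Finite G] : Nat.card (Sylow 5 G) ≠ 21 := by
  intro h21
  haveI hp5 : Fact (Nat.Prime 5) := ⟨by norm_num⟩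
  obtain ⟨l, hprod, hl⟩ := Cfsg.Agent.S4303.result (G := G) 5
  have hall : ∀ m ∈ l, m = 1 := by
    intro m hm
    have hdvd : m ∣ 21 := by
      rw [← h21, ← hprod]; exact List.dvd_prod hm
    have hmem : m ∈ Nat.divisors 21 := Nat.mem_divisors.mpr ⟨hdvd, by norm_num⟩
    have hd : Nat.divisors 21 = {1, 3, 7, 21} := by decide
    rw [hd] at hmem
    simp only [Finset.mem_insert, Finset.mem_singleton] at hmem
    rcases hl m hm with ⟨hpp, hmod⟩ | ⟨S, _, _, hS, hc⟩
    · rcases hmem with rfl | rfl | rfl | rfl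
      · rfl
      · norm_num at hmod
      · norm_num at hmod
      · exfalso
        have : ¬ IsPrimePow 21 := by
          rw [isPrimePow_nat_iff_bounded]
          decide
        exact this hpp
    · have hmod : m % 5 = 1 := by
        rw [hc]
        have := Cfsg.Agent.Lib.SmallGroups2.card_sylow_mod (G := S) (p := 5)
        rw [this]
      rcases hmem with rfl | rfl | rfl | rfl
      · rfl
      · norm_num at hmod
      · norm_num at hmod
      · exact (no_simple (S := S) hc.symm).elim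
  have h1 : l.prod = 1 := List.prod_eq_one hall
  rw [h1] at hprod
  omega

end Cfsg.Agent.S1010
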