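import Mathlib
import Cfsg.Statements.S1019
-- import your own Cfsg.Agent.* helpers here

set_option autoImplicit false
open Cfsg

namespace Cfsg.Agent.S1019

theorem fixedBy_card_eq_of_conj {G : Type*} [Group G] (H : Subgroup G) (x c : G) :
    Nat.card (MulAction.fixedBy (G ⧸ H) (c * x * c⁻¹)) = Nat.card (MulAction.fixedBy (G ⧸ H) x) := by
  refine Nat.card_congr ⟨fun q => ⟨c⁻¹ • q.1, ?_⟩, fun q => ⟨c • q.1, ?_⟩, ?_, ?_⟩
  · have h := q.2
    rw [MulAction.mem_fixedBy] at h ⊢
    calc x • c⁻¹ • q.1 = c⁻¹ • (c * x * c⁻¹) • q.1 := by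
          rw [smul_smul, smul_smul]; congr 1; group
      _ = c⁻¹ • q.1 := by rw [h]
  · have h := q.2
    rw [MulAction.mem_fixedBy] at h ⊢
    calc (c * x * c⁻¹) • c • q.1 = c • x • q.1 := by
          rw [smul_smul, smul_smul]; congr 1; group
      _ = c • q.1 := by rw [h]
  · intro q; apply Subtype.ext; simp
  · intro q; apply Subtype.ext; simp

theorem coset_conj_card_eq {G : Type*} [Group G] (H : Subgroup G) (x g : G) :
    Nat.card {y : G // IsConj x y ∧ y • (QuotientGroup.mk g : G ⧸ H) = QuotientGroup.mk g} =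
      Nat.card {y : G // IsConj x y ∧ y ∈ H} := by
  have key : ∀ y : G, y • (QuotientGroup.mk g : G ⧸ H) = QuotientGroup.mk g ↔ g⁻¹ * y * g ∈ H := by
    intro y
    rw [MulAction.Quotient.smul_mk, QuotientGroup.eq]
    simp [mul_assoc]
    constructor
    · intro h
      have : (y * g)⁻¹ * g = g⁻¹ * y⁻¹ * g := by group
      have h' : g⁻¹ * y⁻¹ * g ∈ H := by simpa [mul_assoc] using h
      have := H.inv_mem h'
      simpa [mul_assoc] using this
    · intro h
      have := H.inv_mem h
      simpa [mul_assoc] using this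
  refine Nat.card_congr ⟨fun y => ⟨g⁻¹ * y.1 * g, ?_, ?_⟩, fun y => ⟨g * y.1 * g⁻¹, ?_, ?_⟩, ?_, ?_⟩
  · refine y.2.1.trans ?_
    rw [isConj_iff]
    exact ⟨g⁻¹, by group⟩
  · exact (key y.1).1 y.2.2
  · refine y.2.1.trans ?_
    rw [isConj_iff]
    exact ⟨g, rfl⟩
  · rw [key]
    have : g⁻¹ * (g * y.1 * g⁻¹) * g = y.1 := by group
    rw [this]; exact y.2.2
  · intro y; apply Subtype.ext; simp [mul_assoc]
  · intro y; apply Subtype.ext; simp [mul_assoc]


/-- Let H be a subgroup of a finite group G and x an element of H. In the action of G on the left cosets of H, the number of cosets fixed by x, multiplied by the size of the conjugacy class of x, equals the index of H multiplied by the number of conjugates of x that lie in H. -/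
theorem result {G : Type*} [Group G] [Finite G] (H : Subgroup G) (x : G) (hx : x ∈ H) : Nat.card (MulAction.fixedBy (G ⧸ H) x) * Nat.card {g : G // IsConj x g} = H.index * Nat.card {g : G // IsConj x g ∧ g ∈ H} := by
  classical
  haveI : Fintype (G ⧸ H) := Fintype.ofFinite _
  -- double count pairs (q, y)
  let S := Σ q : G ⧸ H, {y : G // IsConj x y ∧ y • q = q}
  let S' := Σ y : {g : G // IsConj x g}, MulAction.fixedBy (G ⧸ H) y.1
  have e : S ≃ S' :=
    { toFun := fun a => ⟨⟨a.2.1, a.2.2.1⟩, ⟨a.1, a.2.2.2⟩⟩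
      invFun := fun b => ⟨b.2.1, ⟨b.1.1, b.1.2, b.2.2⟩⟩
      left_inv := fun a => rfl
      right_inv := fun b => rfl }
  have h1 : Nat.card S = H.index * Nat.card {g : G // IsConj x g ∧ g ∈ H} := by
    rw [Nat.card_sigma]
    have : ∀ q : G ⧸ H, Nat.card {y : G // IsConj x y ∧ y • q = q} =
        Nat.card {g : G // IsConj x g ∧ g ∈ H} := by
      intro q
      induction q using QuotientGroup.induction_on with
      | H g => exact coset_conj_card_eq H x g
    simp_rw [this]
    rw [Finset.sum_const, Finset.card_univ, smul_eq_mul, Subgroup.index, Nat.card_eq_fintype_card (α := G ⧸ H)]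
  have h2 : Nat.card S' = Nat.card (MulAction.fixedBy (G ⧸ H) x) * Nat.card {g : G // IsConj x g} := by
    haveI : Fintype {g : G // IsConj x g} := Fintype.ofFinite _
    rw [Nat.card_sigma]
    have : ∀ y : {g : G // IsConj x g}, Nat.card (MulAction.fixedBy (G ⧸ H) y.1) =
        Nat.card (MulAction.fixedBy (G ⧸ H) x) := by
      rintro ⟨y, hy⟩
      obtain ⟨c, rfl⟩ := isConj_iff.1 hy
      exact fixedBy_card_eq_of_conj H x c
    simp_rw [this]
    rw [Finset.sum_const, Finset.card_univ, smul_eq_mul, mul_comm, Nat.card_eq_fintype_card (α := {g : G // IsConj x g})]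
  rw [← h2, ← h1]
  exact (Nat.card_congr e).symm

end Cfsg.Agent.S1019
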