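import Mathlib
import Cfsg.Statements.S0741

set_option autoImplicit false
open Cfsg

namespace Cfsg.Agent.S0741

open Finset

section
variable {G Ω : Type*} [Group G] [MulAction G Ω] [Fintype G] [Fintype Ω] [DecidableEq G]
  [DecidableEq Ω]

/-- Elements swapping `x, y` inject in a given two-point stabiliser. -/
lemma card_swappers_le (h2 : MulAction.IsMultiplyPretransitive G Ω 2) {a b x y : Ω}
    (hab : a ≠ b) (hxy : x ≠ y) :
    (univ.filter (fun u : G => u • x = y ∧ u • y = x)).card ≤
      Nat.card ↥(MulAction.stabilizer G a ⊓ MulAction.stabilizer G b) := by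
  classical
  rcases (univ.filter (fun u : G => u • x = y ∧ u • y = x)).eq_empty_or_nonempty with he | ⟨u0, hu0⟩
  · rw [he]; simp
  · rw [mem_filter] at hu0
    obtain ⟨-, hu01, hu02⟩ := hu0
    obtain ⟨g, hg1, hg2⟩ := (MulAction.is_two_pretransitive_iff).1 h2 hxy hab
    have hg1' : g⁻¹ • a = x := by rw [← hg1, inv_smul_smul]
    have hg2' : g⁻¹ • b = y := by rw [← hg2, inv_smul_smul]
    have hu01' : u0⁻¹ • y = x := by rw [← hu01, inv_smul_smul]
    have hu02' : u0⁻¹ • x = y := by rw [← hu02, inv_smul_smul]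
    have hmem : ∀ u ∈ univ.filter (fun u : G => u • x = y ∧ u • y = x),
        g * u0⁻¹ * u * g⁻¹ ∈ MulAction.stabilizer G a ⊓ MulAction.stabilizer G b := by
      intro u hu
      rw [mem_filter] at hu
      obtain ⟨-, hu1, hu2⟩ := hu
      rw [Subgroup.mem_inf, MulAction.mem_stabilizer_iff, MulAction.mem_stabilizer_iff]
      refine ⟨?_, ?_⟩
      · rw [mul_smul, mul_smul, mul_smul, hg1', hu1, hu01', hg1]
      · rw [mul_smul, mul_smul, mul_smul, hg2', hu2, hu02', hg2]
    rw [Nat.card_eq_fintype_card, ← card_univ]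
    refine Finset.card_le_card_of_injOn
      (fun u => if hu : u ∈ univ.filter (fun u : G => u • x = y ∧ u • y = x) then
        ⟨g * u0⁻¹ * u * g⁻¹, hmem u hu⟩ else 1) (fun _ _ => mem_univ _) ?_
    intro u hu v hv huv
    simp only [mem_coe] at hu hv
    simp only [dif_pos hu, dif_pos hv] at huv
    have := congrArg Subtype.val huv
    simpa using this

end

/-- If the two-point stabilisers of a finite Zassenhaus group of degree `n + 1` have even order `d`, then `2d ≥ n - 1`. -/
theorem result {G Ω : Type*} [Group G] [Finite G] [MulAction G Ω] [Fintype Ω] (hZ : Cfsg.IsZassenhausGroup G Ω) {a b : Ω} (hab : a ≠ b) (heven : Even (Nat.card ↥(MulAction.stabilizer G a ⊓ MulAction.stabilizer G b))) : Fintype.card Ω - 2 ≤ 2 * Nat.card ↥(MulAction.stabilizer G a ⊓ MulAction.stabilizer G b) := by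
  classical
  letI := Fintype.ofFinite G
  obtain ⟨hF, h2, h3, -, -⟩ := hZ
  set d := Nat.card ↥(MulAction.stabilizer G a ⊓ MulAction.stabilizer G b) with hd
  -- an involution for each pair
  have : Fact (Nat.Prime 2) := ⟨Nat.prime_two⟩
  obtain ⟨J, hJ⟩ := exists_prime_orderOf_dvd_card' 2 (even_iff_two_dvd.1 heven)
  have hJ' : orderOf (J : G) = 2 := by rw [Subgroup.orderOf_coe]; exact hJ
  have hJJ : (J : G) * J = 1 := by rw [← pow_two, ← hJ']; exact pow_orderOf_eq_one _
  have hJ1 : (J : G) ≠ 1 := by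
    intro h; rw [h, orderOf_one] at hJ'; omega
  have hJa : (J : G) • a = a := J.2.1
  have hJb : (J : G) • b = b := J.2.2
  set Fx : G → Finset Ω := fun u => univ.filter (fun z => u • z = z) with hFx
  have hFx_le : ∀ u : G, u ≠ 1 → (Fx u).card ≤ 2 := by
    intro u hu
    by_contra hcon
    push Not at hcon
    obtain ⟨p, hp, q, hq, r, hr, hpq, hpr, hqr⟩ := Finset.two_lt_card.1 hcon
    simp only [hFx, mem_filter, mem_univ, true_and] at hp hq hr
    exact hu (h3 u p q r hpq hqr hpr hp hq hr)
  have hinv : ∀ x y : Ω, x ≠ y → ∃ u : G, u * u = 1 ∧ (Fx u).card = 2 ∧ u • x = x ∧ u • y = y := by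
    intro x y hxy
    obtain ⟨g, hg1, hg2⟩ := (MulAction.is_two_pretransitive_iff).1 h2 hxy hab
    refine ⟨g⁻¹ * J * g, ?_, ?_, ?_, ?_⟩
    · have : g⁻¹ * J * g * (g⁻¹ * J * g) = g⁻¹ * (J * J) * g := by group
      rw [this, hJJ]; group
    · have hne : g⁻¹ * J * g ≠ 1 := by
        intro h
        apply hJ1
        have : (J : G) = g * (g⁻¹ * J * g) * g⁻¹ := by group
        rw [this, h]; group
      have hle := hFx_le _ hne
      have hsub : ({x, y} : Finset Ω) ⊆ Fx (g⁻¹ * J * g) := by
        intro z hz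
        simp only [mem_insert, mem_singleton] at hz
        simp only [hFx, mem_filter, mem_univ, true_and]
        rcases hz with rfl | rfl
        · rw [mul_smul, mul_smul, hg1, hJa, ← hg1, inv_smul_smul]
        · rw [mul_smul, mul_smul, hg2, hJb, ← hg2, inv_smul_smul]
      have := Finset.card_le_card hsub
      rw [Finset.card_pair hxy] at this
      omega
    · rw [mul_smul, mul_smul, hg1, hJa, ← hg1, inv_smul_smul]
    · rw [mul_smul, mul_smul, hg2, hJb, ← hg2, inv_smul_smul]
  set Inv : Finset G := univ.filter (fun u => u * u = 1 ∧ (Fx u).card = 2) with hInv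
  set Pairs : Finset (Ω × Ω) := univ.filter (fun p => p.1 ≠ p.2) with hPairs
  -- lower bound for the involutions
  choose! f hf1 hf2 hf3 hf4 using (fun p : Ω × Ω => fun (hp : p.1 ≠ p.2) => hinv p.1 p.2 hp)
  have hlow : Pairs.card ≤ 2 * Inv.card := by
    refine Finset.card_le_mul_card_image_of_maps_to (f := f) ?_ 2 ?_
    · intro p hp
      have hp' : p.1 ≠ p.2 := (mem_filter.1 hp).2
      exact mem_filter.2 ⟨mem_univ _, hf1 p hp', hf2 p hp'⟩
    · intro u hu
      have hu2 : (Fx u).card = 2 := (mem_filter.1 hu).2.2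
      have hsub : Pairs.filter (fun p => f p = u) ⊆ (Fx u).offDiag := by
        intro p hp
        rw [mem_filter, hPairs, mem_filter] at hp
        obtain ⟨⟨-, hp1⟩, hp2⟩ := hp
        rw [mem_offDiag]
        refine ⟨?_, ?_, hp1⟩
        · simp only [hFx, mem_filter, mem_univ, true_and]
          rw [← hp2]; exact hf3 p hp1
        · simp only [hFx, mem_filter, mem_univ, true_and]
          rw [← hp2]; exact hf4 p hp1
      have := Finset.card_le_card hsub
      rw [Finset.offDiag_card, hu2] at this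
      simpa using this
  -- double counting
  have hdc := Finset.sum_card_bipartiteAbove_eq_sum_card_bipartiteBelow
    (s := Inv) (t := Pairs) (fun (u : G) (p : Ω × Ω) => u • p.1 = p.2)
  have habove : ∀ u ∈ Inv, (Pairs.bipartiteAbove (fun (u : G) (p : Ω × Ω) => u • p.1 = p.2) u).card
      = Fintype.card Ω - 2 := by
    intro u hu
    have hu2 : (Fx u).card = 2 := (mem_filter.1 hu).2.2
    have he : Pairs.bipartiteAbove (fun (u : G) (p : Ω × Ω) => u • p.1 = p.2) u =
        (univ.filter (fun z => ¬ u • z = z)).image (fun z => (z, u • z)) := by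
      ext ⟨p, q⟩
      simp only [bipartiteAbove, hPairs, mem_filter, mem_univ, true_and, mem_image, Prod.mk.injEq]
      constructor
      · rintro ⟨hne, rfl⟩
        exact ⟨p, fun h => hne h.symm, rfl, rfl⟩
      · rintro ⟨z, hz, rfl, rfl⟩
        exact ⟨fun h => hz h.symm, rfl⟩
    rw [he, Finset.card_image_of_injective _ (fun z w h => (Prod.mk.inj h).1)]
    have := Finset.card_filter_add_card_filter_not (s := (univ : Finset Ω)) (fun z => u • z = z)
    rw [card_univ] at this
    have h4 : (univ.filter (fun z => u • z = z)).card = 2 := hu2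
    omega
  have hbelow : ∀ p ∈ Pairs, (Inv.bipartiteBelow (fun (u : G) (p : Ω × Ω) => u • p.1 = p.2) p).card
      ≤ d := by
    intro p hp
    have hp' : p.1 ≠ p.2 := (mem_filter.1 hp).2
    refine le_trans (Finset.card_le_card ?_) (card_swappers_le (G := G) h2 (x := p.1) (y := p.2) hab hp')
    intro u hu
    simp only [bipartiteBelow, mem_filter] at hu
    obtain ⟨hu1, hu2⟩ := hu
    have hu3 : u * u = 1 := (mem_filter.1 hu1).2.1
    refine mem_filter.2 ⟨mem_univ _, hu2, ?_⟩
    rw [← hu2, ← mul_smul, hu3, one_smul]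
  have h5 : Inv.card * (Fintype.card Ω - 2) ≤ Pairs.card * d := by
    calc Inv.card * (Fintype.card Ω - 2)
        = ∑ u ∈ Inv, (Pairs.bipartiteAbove (fun (u : G) (p : Ω × Ω) => u • p.1 = p.2) u).card := by
          rw [Finset.sum_congr rfl habove, Finset.sum_const, smul_eq_mul]
      _ = ∑ p ∈ Pairs, (Inv.bipartiteBelow (fun (u : G) (p : Ω × Ω) => u • p.1 = p.2) p).card := hdc
      _ ≤ ∑ p ∈ Pairs, d := Finset.sum_le_sum hbelow
      _ = Pairs.card * d := by rw [Finset.sum_const, smul_eq_mul]
  have hPos : 0 < Pairs.card := Finset.card_pos.2 ⟨(a, b), mem_filter.2 ⟨mem_univ _, hab⟩⟩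
  have h6 : Pairs.card * (Fintype.card Ω - 2) ≤ Pairs.card * (2 * d) := by
    calc Pairs.card * (Fintype.card Ω - 2) ≤ (2 * Inv.card) * (Fintype.card Ω - 2) :=
          Nat.mul_le_mul_right _ hlow
      _ = 2 * (Inv.card * (Fintype.card Ω - 2)) := by ring
      _ ≤ 2 * (Pairs.card * d) := Nat.mul_le_mul_left _ h5
      _ = Pairs.card * (2 * d) := by ring
  exact Nat.le_of_mul_le_mul_left h6 hPos

end Cfsg.Agent.S0741
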