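import Mathlib
import Cfsg.Statements.S0882
import Cfsg.Agent.Lib.ZassInv

set_option autoImplicit false
open Cfsg

namespace Cfsg.Agent.S0882

open Cfsg.Agent.Lib.ZassInv

/-- Let G be a finite simple Zassenhaus group on Ω with n = h + 1 points whose two-point stabilizer E has odd order e with 2e < h - 1. Then any two involutions of G are conjugate, and the number of involutions is e * (h + 1) if h is even and e * h if h is odd. -/
theorem result {G Ω : Type*} [Group G] [Finite G] [MulAction G Ω] [Fintype Ω] (hZ : Cfsg.IsZassenhausGroup G Ω) {a b : Ω} (hab : a ≠ b) [IsSimpleGroup G] (h e : ℕ) (hh : Fintype.card Ω = h + 1) (he : Nat.card ↥(MulAction.stabilizer G a ⊓ MulAction.stabilizer G b : Subgroup G) = e) (hodd : Odd e) (hlt : 2 * e < h - 1) : (∀ x y : G, orderOf x = 2 → orderOf y = 2 → IsConj x y) ∧ Nat.card {x : G // orderOf x = 2} = (if Even h then e * (h + 1) else e * h) := by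
  have hI := oddInv_of_simple hZ hab (by rw [he]; exact hodd)
  refine ⟨fun x y hx hy => all_conj hZ hI hx hy, ?_⟩
  split_ifs with hev
  · have hN : Odd (Fintype.card Ω) := by rw [hh]; exact hev.add_one
    have h1 := card_involutions_mul hZ hI 1 (fun t ht => (fix_card hZ hI t ht).1 hN) hab
    rw [hh, he] at h1
    simp only [Nat.add_sub_cancel] at h1
    have hpos : 0 < h := by omega
    have h2 : Nat.card {x : G // orderOf x = 2} * h = (e * (h + 1)) * h := by
      rw [h1]; ring
    exact Nat.eq_of_mul_eq_mul_right hpos h2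
  · have hN : Even (Fintype.card Ω) := by
      rw [hh]; exact (Nat.not_even_iff_odd.mp hev).add_one
    have h1 := card_involutions_mul hZ hI 0 (fun t ht => (fix_card hZ hI t ht).2 hN) hab
    rw [hh, he] at h1
    simp only [Nat.add_sub_cancel, Nat.sub_zero] at h1
    have h2 : Nat.card {x : G // orderOf x = 2} * (h + 1) = (e * h) * (h + 1) := by
      rw [h1]; ring
    exact Nat.eq_of_mul_eq_mul_right (Nat.succ_pos h) h2

end Cfsg.Agent.S0882
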