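import Mathlib
import Cfsg.Statements.S0884
import Cfsg.Agent.Lib.ZassClasses9
import Cfsg.Agent.Lib.ZassInv2
import Cfsg.Agent.S0882

set_option autoImplicit false
open Cfsg

namespace Cfsg.Agent.S0884

open MulAction

/-- Let G be a finite simple Zassenhaus group on Ω with h + 1 points whose two-point stabilizer E has odd order e with 2e < h - 1, and let H be the subgroup of the stabilizer of a consisting of the identity and the elements fixing no point other than a (given here as a subgroup of the stabilizer of order one less than the number of points whose non-identity elements fix only a; it is the Frobenius kernel of the stabilizer). Then at least e conjugacy classes of G contain no element of H. -/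
theorem result {G Ω : Type*} [Group G] [Finite G] [MulAction G Ω] [Fintype Ω] (hZ : Cfsg.IsZassenhausGroup G Ω) {a b : Ω} (hab : a ≠ b) [IsSimpleGroup G] (h e : ℕ) (hh : Fintype.card Ω = h + 1) (he : Nat.card ↥(MulAction.stabilizer G a ⊓ MulAction.stabilizer G b : Subgroup G) = e) (hodd : Odd e) (hlt : 2 * e < h - 1) (H : Subgroup G) (hHa : H ≤ MulAction.stabilizer G a) (hHcard : Nat.card H + 1 = Fintype.card Ω) (hHfix : ∀ u ∈ H, u ≠ 1 → ∀ c : Ω, u • c = c → c = a) : e ≤ Nat.card {C : ConjClasses G // ∀ g : G, ConjClasses.mk g = C → g ∉ H} := by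
  classical
  have := Fintype.ofFinite G
  have : Fintype (ConjClasses G) := Fintype.ofFinite _
  have hI := Cfsg.Agent.Lib.ZassInv.oddInv_of_simple hZ hab (by rw [he]; exact hodd)
  have hK := Cfsg.Agent.Lib.ZassInv2.isKernelAt_of_fix hZ a H hHa hHcard hHfix
  have hcardT := (Cfsg.Agent.S0882.result hZ hab h e hh he hodd hlt).2
  set S : Finset (ConjClasses G) :=
    Finset.univ.filter (fun C => ∀ g : G, ConjClasses.mk g = C → g ∉ H) with hS
  have hSc : Nat.card {C : ConjClasses G // ∀ g : G, ConjClasses.mk g = C → g ∉ H} = S.card := by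
    rw [Nat.card_eq_fintype_card, Fintype.card_subtype]
  rw [hSc]
  set T : Finset G := Finset.univ.filter (fun x => orderOf x = 2) with hT
  have hTc : T.card = if Even h then e * (h + 1) else e * h := by
    rw [← hcardT, Nat.card_eq_fintype_card, Fintype.card_subtype]
  have hGc : Fintype.card G = (h + 1) * h * e := by
    rw [← Nat.card_eq_fintype_card, Cfsg.Agent.Lib.ZassH.card_group hZ hab, hh, he]
    simp
  have inv2 : ∀ t : G, orderOf t = 2 → t * t = 1 := fun t ht => by
    rw [← pow_two, ← ht]; exact pow_orderOf_eq_one _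
  -- bad pairs
  have hbad : ∀ x y : G, orderOf x = 2 → orderOf y = 2 → ConjClasses.mk (x * y) ∉ S →
      x = y ∨ ∃ c : Ω, x • c = c ∧ y • c = c := by
    intro x y hx hy hC
    simp only [hS, Finset.mem_filter, Finset.mem_univ, true_and] at hC
    push Not at hC
    obtain ⟨g, hg, hgH⟩ := hC
    have hconj : IsConj (x * y) g := (ConjClasses.mk_eq_mk_iff_isConj.mp hg).symm
    obtain ⟨t, ht⟩ := isConj_iff.mp hconj
    by_cases hg1 : g = 1
    · left
      subst hg1
      have h1 : x * y = 1 := by
        have : t * (x * y) * t⁻¹ = 1 := ht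
        have h2 : t * (x * y) = t := by
          have := congrArg (· * t) this
          simpa using this
        simpa using h2
      have hxx := inv2 x hx
      have h3 : x * y = x * x := by rw [h1, hxx]
      exact (mul_left_cancel h3).symm
    · right
      set x' := t * x * t⁻¹ with hx'
      set y' := t * y * t⁻¹ with hy'
      have hx'o : orderOf x' = 2 := by
        rw [hx', ← MulAut.conj_apply, MulEquiv.orderOf_eq]; exact hx
      have hy'o : orderOf y' = 2 := by
        rw [hy', ← MulAut.conj_apply, MulEquiv.orderOf_eq]; exact hy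
      have hxy' : x' * y' = g := by
        rw [← ht, hx', hy']; group
      have hgo := Cfsg.Agent.Lib.ZassInv2.orderOf_prod hZ hI hab hK hgH hg1 hx'o hy'o hxy'
      have hgg := inv2 g hgo
      have hxx' := inv2 x' hx'o
      have hyy' := inv2 y' hy'o
      have hcomm : x' * y' = y' * x' := by
        have h1 : x' * y' * (x' * y') = 1 := by rw [hxy', hgg]
        calc x' * y' = x' * y' * (x' * y' * (y' * x')) := by
              have : x' * y' * (y' * x') = 1 := by
                calc x' * y' * (y' * x') = x' * (y' * y') * x' := by group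
                  _ = 1 := by rw [hyy', mul_one, hxx']
              rw [this, mul_one]
          _ = (x' * y' * (x' * y')) * (y' * x') := by group
          _ = y' * x' := by rw [h1, one_mul]
      have hfix : ∀ z : G, z * g = g * z → z • a = a := by
        intro z hz
        apply hHfix g hgH hg1
        rw [← mul_smul, ← hz, mul_smul, mem_stabilizer_iff.mp (hHa hgH)]
      have hx'a : x' • a = a := hfix x' (by
        rw [← hxy', ← mul_assoc, hxx', one_mul, hcomm, mul_assoc, hxx', mul_one])
      have hy'a : y' • a = a := hfix y' (by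
        rw [← hxy', ← mul_assoc y', ← hcomm])
      refine ⟨t⁻¹ • a, ?_, ?_⟩
      · calc x • t⁻¹ • a = (t⁻¹ * x') • a := by rw [smul_smul]; congr 1; rw [hx']; group
          _ = t⁻¹ • a := by rw [mul_smul, hx'a]
      · calc y • t⁻¹ • a = (t⁻¹ * y') • a := by rw [smul_smul]; congr 1; rw [hy']; group
          _ = t⁻¹ • a := by rw [mul_smul, hy'a]
  set P : Finset (G × G) := Finset.univ.filter (fun p => orderOf p.1 = 2 ∧ orderOf p.2 = 2 ∧
      ConjClasses.mk (p.1 * p.2) ∈ S) with hP
  have hPc : P.card ≤ Fintype.card G * S.card := Cfsg.Agent.Lib.ZassClasses9.card_pairs_le S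
  set B : Finset (G × G) := Finset.univ.filter (fun p => orderOf p.1 = 2 ∧ orderOf p.2 = 2 ∧
      ConjClasses.mk (p.1 * p.2) ∉ S) with hB
  have hTT : T.card * T.card ≤ P.card + B.card := by
    rw [← Finset.card_product]
    refine (Finset.card_le_card ?_).trans (Finset.card_union_le _ _)
    intro p hp
    simp only [Finset.mem_product, hT, Finset.mem_filter, Finset.mem_univ, true_and] at hp
    simp only [Finset.mem_union, hP, hB, Finset.mem_filter, Finset.mem_univ, true_and]
    by_cases hm : ConjClasses.mk (p.1 * p.2) ∈ S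
    · exact Or.inl ⟨hp.1, hp.2, hm⟩
    · exact Or.inr ⟨hp.1, hp.2, hm⟩
  have he0 : 0 < e := hodd.pos
  by_cases hev : Even h
  · -- odd number of points
    have hN : Odd (Fintype.card Ω) := by rw [hh]; exact hev.add_one
    have hfc : ∀ x : G, orderOf x = 2 → Nat.card (fixedBy Ω x) = 1 := fun x hx =>
      (Cfsg.Agent.Lib.ZassInv.fix_card hZ hI x hx).1 hN
    have hV : ∀ c : Ω, (Finset.univ.filter (fun t : G => orderOf t = 2 ∧ t • c = c)).card = e := by
      intro c
      obtain ⟨d, hcd⟩ : ∃ d : Ω, c ≠ d := by
        by_cases hc : c = a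
        · exact ⟨b, by rw [hc]; exact hab⟩
        · exact ⟨a, hc⟩
      have h1 := Cfsg.Agent.Lib.ZassInv2.card_inv_at hZ hI hN hcd
      rw [Cfsg.Agent.Lib.ZassInv.card_stab_eq hZ hcd hab, he, Nat.card_eq_fintype_card,
        Fintype.card_subtype] at h1
      exact h1
    have hBc : B.card ≤ e * T.card := by
      refine Finset.card_le_mul_card_image_of_maps_to (f := Prod.fst) ?_ _ ?_
      · intro p hp
        have hp' : orderOf p.1 = 2 ∧ orderOf p.2 = 2 ∧ ConjClasses.mk (p.1 * p.2) ∉ S := by
          simpa [hB] using hp
        simpa [hT] using hp'.1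
      · intro x hx
        have hxo : orderOf x = 2 := by simpa [hT] using hx
        have hne : Nonempty (fixedBy Ω x) := by
          have : 0 < Nat.card (fixedBy Ω x) := by rw [hfc x hxo]; exact one_pos
          exact (Nat.card_pos_iff.mp this).1
        obtain ⟨⟨c, hc⟩⟩ := hne
        have hc' : x • c = c := hc
        rw [← hV c]
        refine Finset.card_le_card_of_injOn Prod.snd ?_ ?_
        · intro p hp
          have hp' : (orderOf p.1 = 2 ∧ orderOf p.2 = 2 ∧ ConjClasses.mk (p.1 * p.2) ∉ S) ∧
              p.1 = x := by simpa [hB] using hp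
          obtain ⟨⟨h1, h2, h3⟩, rfl⟩ := hp'
          simp only [Finset.coe_filter, Finset.mem_univ, true_and]
          refine ⟨h2, ?_⟩
          rcases hbad _ _ h1 h2 h3 with h4 | ⟨c', h4, h5⟩
          · rw [← h4]; exact hc'
          · have hsub : Subsingleton (fixedBy Ω p.1) := by
              have := hfc p.1 h1
              exact (Nat.card_eq_one_iff_unique.mp this).1
            have : c' = c := by
              have := hsub.elim ⟨c', h4⟩ ⟨c, hc⟩
              exact congrArg Subtype.val this
            rw [← this]; exact h5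
        · intro p hp q hq hpq
          have hp' : p.1 = x := (Finset.mem_filter.mp (Finset.mem_coe.mp hp)).2
          have hq' : q.1 = x := (Finset.mem_filter.mp (Finset.mem_coe.mp hq)).2
          exact Prod.ext (hp'.trans hq'.symm) hpq
    rw [if_pos hev] at hTc
    rw [hTc] at hTT hBc
    rw [hGc] at hPc
    by_contra hcon
    push Not at hcon
    have hpos : 0 < h := by omega
    have h1 : e * (h + 1) * (e * (h + 1)) ≤ (h + 1) * h * e * S.card + e * (e * (h + 1)) := by omega
    have h2 : (e * (h + 1)) * (e * h) ≤ (e * (h + 1)) * (h * S.card) := by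
      nlinarith
    have h3 : e * h ≤ h * S.card := Nat.le_of_mul_le_mul_left h2 (by positivity)
    have h4 : e ≤ S.card := by
      have : h * e ≤ h * S.card := by rwa [mul_comm h e]
      exact Nat.le_of_mul_le_mul_left this hpos
    omega
  · -- even number of points
    have hN : Even (Fintype.card Ω) := by
      rw [hh]; exact (Nat.not_even_iff_odd.mp hev).add_one
    have hfc : ∀ x : G, orderOf x = 2 → ∀ c : Ω, x • c ≠ c := by
      intro x hx c hc
      have h1 := (Cfsg.Agent.Lib.ZassInv.fix_card hZ hI x hx).2 hN
      have : IsEmpty (fixedBy Ω x) := by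
        rw [Nat.card_eq_zero] at h1
        rcases h1 with h1 | h1
        · exact h1
        · exact absurd (Finite.of_fintype _) (by simpa using h1)
      exact this.false ⟨c, hc⟩
    have hBc : B.card ≤ 1 * T.card := by
      refine Finset.card_le_mul_card_image_of_maps_to (f := Prod.fst) ?_ _ ?_
      · intro p hp
        have hp' : orderOf p.1 = 2 ∧ orderOf p.2 = 2 ∧ ConjClasses.mk (p.1 * p.2) ∉ S := by
          simpa [hB] using hp
        simpa [hT] using hp'.1
      · intro x hx
        rw [Finset.card_le_one]
        intro p hp q hq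
        have hp' : (orderOf p.1 = 2 ∧ orderOf p.2 = 2 ∧ ConjClasses.mk (p.1 * p.2) ∉ S) ∧
            p.1 = x := by simpa [hB] using hp
        have hq' : (orderOf q.1 = 2 ∧ orderOf q.2 = 2 ∧ ConjClasses.mk (q.1 * q.2) ∉ S) ∧
            q.1 = x := by simpa [hB] using hq
        obtain ⟨⟨h1, h2, h3⟩, h1'⟩ := hp'
        obtain ⟨⟨h4, h5, h6⟩, h4'⟩ := hq'
        have h7 : p.1 = p.2 := by
          rcases hbad _ _ h1 h2 h3 with h7 | ⟨c, h7, -⟩
          · exact h7
          · exact absurd h7 (hfc _ h1 c)
        have h8 : q.1 = q.2 := by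
          rcases hbad _ _ h4 h5 h6 with h8 | ⟨c, h8, -⟩
          · exact h8
          · exact absurd h8 (hfc _ h4 c)
        exact Prod.ext (h1'.trans h4'.symm) (by rw [← h7, ← h8, h1', h4'])
    rw [if_neg hev] at hTc
    rw [hTc] at hTT hBc
    rw [hGc] at hPc
    by_contra hcon
    push Not at hcon
    have hpos : 0 < h := by omega
    have h1 : e * h * (e * h) ≤ (h + 1) * h * e * S.card + 1 * (e * h) := by omega
    have h2 : (e * h) * (e * h) ≤ (e * h) * ((h + 1) * S.card + 1) := by
      nlinarith
    have h3 : e * h ≤ (h + 1) * S.card + 1 := Nat.le_of_mul_le_mul_left h2 (by positivity)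
    have h4 : S.card + 1 ≤ e := hcon
    have h5 : (h + 1) * (S.card + 1) ≤ (h + 1) * e := Nat.mul_le_mul_left _ h4
    have h6 : h < e + 1 := by nlinarith
    omega

end Cfsg.Agent.S0884
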