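import Mathlib
import Cfsg.Statements.S0742
import Cfsg.Agent.Lib.ZassAbD19
import Cfsg.Agent.Lib.ZassP
import Cfsg.Agent.S0741

set_option autoImplicit false
open Cfsg

namespace Cfsg.Agent.S0742

open Finset Cfsg.Agent.S0741

/-- In a Zassenhaus group with `2 d = |Ω| - 2`, `d` even, all elements interchanging two points are
involutions. -/
theorem swap_invol {G Ω : Type*} [Group G] [Finite G] [MulAction G Ω] [Fintype Ω]
    (hZ : Cfsg.IsZassenhausGroup G Ω) {a b : Ω} (hab : a ≠ b)
    (heven : Even (Nat.card ↥(MulAction.stabilizer G a ⊓ MulAction.stabilizer G b)))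
    (hd : 2 * Nat.card ↥(MulAction.stabilizer G a ⊓ MulAction.stabilizer G b) = Fintype.card Ω - 2)
    (s : G) (hsa : s • a = b) (hsb : s • b = a) : s * s = 1 := by
  classical
  letI := Fintype.ofFinite G
  obtain ⟨hF, h2, h3, -, -⟩ := hZ
  set d := Nat.card ↥(MulAction.stabilizer G a ⊓ MulAction.stabilizer G b) with hd'
  -- an involution for each pair
  have : Fact (Nat.Prime 2) := ⟨Nat.prime_two⟩
  obtain ⟨J, hJ⟩ := exists_prime_orderOf_dvd_card' 2 (even_iff_two_dvd.1 heven)
  have hJ' : orderOf (J : G) = 2 := by rw [Subgroup.orderOf_coe]; exact hJ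
  have hJJ : (J : G) * J = 1 := by rw [← pow_two, ← hJ']; exact pow_orderOf_eq_one _
  have hJ1 : (J : G) ≠ 1 := by
    intro h; rw [h, orderOf_one] at hJ'; omega
  have hJa : (J : G) • a = a := J.2.1
  have hJb : (J : G) • b = b := J.2.2
  set Fx : G → Finset Ω := fun u => univ.filter (fun z => u • z = z) with hFx
  have hFx_le : ∀ u : G, u ≠ 1 → (Fx u).card ≤ 2 := by
    intro u hu
    by_contra hcon
    push Not at hcon
    obtain ⟨p, hp, q, hq, r, hr, hpq, hpr, hqr⟩ := Finset.two_lt_card.1 hcon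
    simp only [hFx, mem_filter, mem_univ, true_and] at hp hq hr
    exact hu (h3 u p q r hpq hqr hpr hp hq hr)
  have hinv : ∀ x y : Ω, x ≠ y → ∃ u : G, u * u = 1 ∧ (Fx u).card = 2 ∧ u • x = x ∧ u • y = y := by
    intro x y hxy
    obtain ⟨g, hg1, hg2⟩ := (MulAction.is_two_pretransitive_iff).1 h2 hxy hab
    refine ⟨g⁻¹ * J * g, ?_, ?_, ?_, ?_⟩
    · have : g⁻¹ * J * g * (g⁻¹ * J * g) = g⁻¹ * (J * J) * g := by group
      rw [this, hJJ]; group
    · have hne : g⁻¹ * J * g ≠ 1 := by
        intro h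
        apply hJ1
        have : (J : G) = g * (g⁻¹ * J * g) * g⁻¹ := by group
        rw [this, h]; group
      have hle := hFx_le _ hne
      have hsub : ({x, y} : Finset Ω) ⊆ Fx (g⁻¹ * J * g) := by
        intro z hz
        simp only [mem_insert, mem_singleton] at hz
        simp only [hFx, mem_filter, mem_univ, true_and]
        rcases hz with rfl | rfl
        · rw [mul_smul, mul_smul, hg1, hJa, ← hg1, inv_smul_smul]
        · rw [mul_smul, mul_smul, hg2, hJb, ← hg2, inv_smul_smul]
      have := Finset.card_le_card hsub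
      rw [Finset.card_pair hxy] at this
      omega
    · rw [mul_smul, mul_smul, hg1, hJa, ← hg1, inv_smul_smul]
    · rw [mul_smul, mul_smul, hg2, hJb, ← hg2, inv_smul_smul]
  set Inv : Finset G := univ.filter (fun u => u * u = 1 ∧ (Fx u).card = 2) with hInv
  set Pairs : Finset (Ω × Ω) := univ.filter (fun p => p.1 ≠ p.2) with hPairs
  -- lower bound for the involutions
  choose! f hf1 hf2 hf3 hf4 using (fun p : Ω × Ω => fun (hp : p.1 ≠ p.2) => hinv p.1 p.2 hp)
  have hlow : Pairs.card ≤ 2 * Inv.card := by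
    refine Finset.card_le_mul_card_image_of_maps_to (f := f) ?_ 2 ?_
    · intro p hp
      have hp' : p.1 ≠ p.2 := (mem_filter.1 hp).2
      exact mem_filter.2 ⟨mem_univ _, hf1 p hp', hf2 p hp'⟩
    · intro u hu
      have hu2 : (Fx u).card = 2 := (mem_filter.1 hu).2.2
      have hsub : Pairs.filter (fun p => f p = u) ⊆ (Fx u).offDiag := by
        intro p hp
        rw [mem_filter, hPairs, mem_filter] at hp
        obtain ⟨⟨-, hp1⟩, hp2⟩ := hp
        rw [mem_offDiag]
        refine ⟨?_, ?_, hp1⟩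
        · simp only [hFx, mem_filter, mem_univ, true_and]
          rw [← hp2]; exact hf3 p hp1
        · simp only [hFx, mem_filter, mem_univ, true_and]
          rw [← hp2]; exact hf4 p hp1
      have := Finset.card_le_card hsub
      rw [Finset.offDiag_card, hu2] at this
      simpa using this
  -- double counting
  have hdc := Finset.sum_card_bipartiteAbove_eq_sum_card_bipartiteBelow
    (s := Inv) (t := Pairs) (fun (u : G) (p : Ω × Ω) => u • p.1 = p.2)
  have habove : ∀ u ∈ Inv, (Pairs.bipartiteAbove (fun (u : G) (p : Ω × Ω) => u • p.1 = p.2) u).card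
      = Fintype.card Ω - 2 := by
    intro u hu
    have hu2 : (Fx u).card = 2 := (mem_filter.1 hu).2.2
    have he : Pairs.bipartiteAbove (fun (u : G) (p : Ω × Ω) => u • p.1 = p.2) u =
        (univ.filter (fun z => ¬ u • z = z)).image (fun z => (z, u • z)) := by
      ext ⟨p, q⟩
      simp only [bipartiteAbove, hPairs, mem_filter, mem_univ, true_and, mem_image, Prod.mk.injEq]
      constructor
      · rintro ⟨hne, rfl⟩
        exact ⟨p, fun h => hne h.symm, rfl, rfl⟩
      · rintro ⟨z, hz, rfl, rfl⟩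
        exact ⟨fun h => hz h.symm, rfl⟩
    rw [he, Finset.card_image_of_injective _ (fun z w h => (Prod.mk.inj h).1)]
    have := Finset.card_filter_add_card_filter_not (s := (univ : Finset Ω)) (fun z => u • z = z)
    rw [card_univ] at this
    have h4 : (univ.filter (fun z => u • z = z)).card = 2 := hu2
    omega
  have hbelow : ∀ p ∈ Pairs, (Inv.bipartiteBelow (fun (u : G) (p : Ω × Ω) => u • p.1 = p.2) p).card
      ≤ d := by
    intro p hp
    have hp' : p.1 ≠ p.2 := (mem_filter.1 hp).2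
    refine le_trans (Finset.card_le_card ?_) (card_swappers_le (G := G) h2 (x := p.1) (y := p.2) hab hp')
    intro u hu
    simp only [bipartiteBelow, mem_filter] at hu
    obtain ⟨hu1, hu2⟩ := hu
    have hu3 : u * u = 1 := (mem_filter.1 hu1).2.1
    refine mem_filter.2 ⟨mem_univ _, hu2, ?_⟩
    rw [← hu2, ← mul_smul, hu3, one_smul]
  have h5 : Inv.card * (Fintype.card Ω - 2) =
      ∑ p ∈ Pairs, (Inv.bipartiteBelow (fun (u : G) (p : Ω × Ω) => u • p.1 = p.2) p).card := by
    rw [← hdc, Finset.sum_congr rfl habove, Finset.sum_const, smul_eq_mul]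
  have hp₀ : (a, b) ∈ Pairs := mem_filter.2 ⟨mem_univ _, hab⟩
  have h6 : d ≤ (Inv.bipartiteBelow (fun (u : G) (p : Ω × Ω) => u • p.1 = p.2) (a, b)).card := by
    by_contra hcon
    push Not at hcon
    have h7 : ∑ p ∈ Pairs, (Inv.bipartiteBelow (fun (u : G) (p : Ω × Ω) => u • p.1 = p.2) p).card <
        ∑ _p ∈ Pairs, d := Finset.sum_lt_sum hbelow ⟨_, hp₀, hcon⟩
    rw [← h5, Finset.sum_const, smul_eq_mul, ← hd] at h7
    have h8 : Pairs.card * d ≤ (2 * Inv.card) * d := Nat.mul_le_mul_right _ hlow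
    have h9 : Inv.card * (2 * d) = (2 * Inv.card) * d := by ring
    omega
  have h7 := card_swappers_le (G := G) h2 (x := a) (y := b) hab hab
  have hsub : Inv.bipartiteBelow (fun (u : G) (p : Ω × Ω) => u • p.1 = p.2) (a, b) ⊆
      univ.filter (fun u : G => u • a = b ∧ u • b = a) := by
    intro u hu
    simp only [bipartiteBelow, mem_filter] at hu
    obtain ⟨hu1, hu2⟩ := hu
    have hu3 : u * u = 1 := (mem_filter.1 hu1).2.1
    refine mem_filter.2 ⟨mem_univ _, hu2, ?_⟩
    rw [← hu2, ← mul_smul, hu3, one_smul]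
  have heq := Finset.eq_of_subset_of_card_le hsub (h7.trans h6)
  have hs : s ∈ Inv.bipartiteBelow (fun (u : G) (p : Ω × Ω) => u • p.1 = p.2) (a, b) := by
    rw [heq]
    exact mem_filter.2 ⟨mem_univ _, hsa, hsb⟩
  simp only [bipartiteBelow, mem_filter] at hs
  exact (mem_filter.1 hs.1).2.1

/-- A finite Zassenhaus group of degree `n + 1` with two-point stabilisers of even order `d` satisfying `2d ≤ n - 1` has `n = p^f` for an odd prime `p` and is isomorphic to `PSL(2, p^f)`. -/
theorem result {G Ω : Type*} [Group G] [Finite G] [MulAction G Ω] [Fintype Ω] (hZ : Cfsg.IsZassenhausGroup G Ω) {a b : Ω} (hab : a ≠ b) (heven : Even (Nat.card ↥(MulAction.stabilizer G a ⊓ MulAction.stabilizer G b))) (hd : 2 * Nat.card ↥(MulAction.stabilizer G a ⊓ MulAction.stabilizer G b) ≤ Fintype.card Ω - 2) : ∃ (p f : ℕ) (K : Type) (_ : Field K) (_ : Fintype K), p.Prime ∧ p ≠ 2 ∧ Fintype.card K = p ^ f ∧ Fintype.card Ω = p ^ f + 1 ∧ Nonempty (G ≃* Matrix.ProjectiveSpecialLinearGroup (Fin 2) K) :=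 by
  classical
  have h1 := Cfsg.Agent.S0741.result hZ hab heven
  have h2 : 2 * Nat.card ↥(MulAction.stabilizer G a ⊓ MulAction.stabilizer G b) =
      Fintype.card Ω - 2 := le_antisymm hd h1
  obtain ⟨F, hF⟩ := Cfsg.Agent.Lib.ZassCore.exists_kernel hZ a
  obtain ⟨hcomm, p, f, hp, hexp, hcard⟩ := Cfsg.Agent.Lib.ZassP.elementary hZ hab hF h1
  have hn := Cfsg.Agent.Lib.ZassAbL19.card_F_add_one hZ hab.symm hF
  have h3le := Cfsg.Agent.Lib.Zassenhaus.three_le_card hZ
  have h2d : 2 * Nat.card ↥(MulAction.stabilizer G a ⊓ MulAction.stabilizer G b) + 1 = Nat.card F := by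
    omega
  obtain ⟨K, hK, hK', hcK, hiso⟩ := Cfsg.Agent.Lib.ZassAbD19.psl_of_hyp hZ hab hF hcomm h2d
    (fun s hsa hsb => swap_invol hZ hab heven h2 s hsa hsb)
  refine ⟨p, f, K, hK, hK', hp, ?_, by rw [hcK]; exact hcard, by rw [← hn]; exact congrArg (· + 1) hcard, hiso⟩
  rintro rfl
  have hd0 : 0 < Nat.card ↥(MulAction.stabilizer G a ⊓ MulAction.stabilizer G b) := Nat.card_pos
  rcases Nat.eq_zero_or_pos f with rfl | hf
  · rw [pow_zero] at hcard
    omega
  · have : 2 ∣ 2 ^ f := dvd_pow_self 2 hf.ne'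
    omega

end Cfsg.Agent.S0742
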