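import Mathlib
import Cfsg.Statements.S0344
import Cfsg.Agent.Lib.SharpClosure
import Cfsg.Agent.Lib.ZassEven
import Cfsg.Agent.S0741
import Cfsg.Agent.S0742
-- import your own Cfsg.Agent.* helpers here

set_option autoImplicit false
set_option linter.style.haveILetI false
open Cfsg

namespace Cfsg.Agent.S0344

/-- A finite simple Zassenhaus group with a two-point stabiliser of even order is isomorphic to `PSL₂(F)` for a finite
field `F` with more than three elements. -/
theorem result {G Ω : Type*} [Group G] [Finite G] [MulAction G Ω] [Finite Ω]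
    (hZ : Cfsg.IsZassenhausGroup G Ω) [IsSimpleGroup G]
    {a b : Ω} (hab : a ≠ b) (heven : Even (Nat.card ↥(MulAction.stabilizer G a ⊓ MulAction.stabilizer G b))) :
    ∃ (F : Type) (_ : Field F) (_ : Fintype F), 3 < Fintype.card F ∧ Nonempty (G ≃* Matrix.ProjectiveSpecialLinearGroup (Fin 2) F) := by
  classical
  haveI : Fintype Ω := Fintype.ofFinite Ω
  obtain ⟨hfaith, h2, h3, hfix, -⟩ := id hZ
  haveI := hfaith
  set H : Subgroup G := MulAction.stabilizer G a ⊓ MulAction.stabilizer G b with hH
  have hmemH : ∀ g : G, g ∈ H ↔ g • a = a ∧ g • b = b := by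
    intro g
    rw [hH, Subgroup.mem_inf, MulAction.mem_stabilizer_iff, MulAction.mem_stabilizer_iff]
  have hdpos : 0 < Nat.card H := Nat.card_pos
  obtain ⟨d', hd'⟩ := heven
  have hd2 : 2 ≤ Nat.card H := by omega
  have hbound : Fintype.card Ω - 2 ≤ 2 * Nat.card H :=
    Cfsg.Agent.S0741.result hZ hab (by rw [← hH]; exact ⟨d', hd'⟩)
  -- two-transitivity in elementary form
  have h2' : ∀ {a b c d : Ω}, a ≠ b → c ≠ d → ∃ g : G, g • a = c ∧ g • b = d := by
    intro a b c d hab hcd
    let x : Fin 2 ↪ Ω := ⟨![a, b], by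
      intro i j hij
      fin_cases i <;> fin_cases j <;> simp_all⟩
    let y : Fin 2 ↪ Ω := ⟨![c, d], by
      intro i j hij
      fin_cases i <;> fin_cases j <;> simp_all⟩
    obtain ⟨g, hg⟩ := h2.exists_smul_eq x y
    exact ⟨g, congrArg (fun f : Fin 2 ↪ Ω => f 0) hg, congrArg (fun f : Fin 2 ↪ Ω => f 1) hg⟩
  -- the points other than `a`, `b`
  let X := {c : Ω // c ≠ a ∧ c ≠ b}
  have hXcard : Nat.card X + 2 = Nat.card Ω := by
    have h4 : Fintype.card {c : Ω // c ≠ a ∧ c ≠ b} = ((Finset.univ.erase a).erase b).card := by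
      rw [Fintype.card_subtype]
      congr 1
      ext c
      simp [and_comm]
    have h5 : Fintype.card {c : Ω // c ≠ a ∧ c ≠ b} + 2 = Fintype.card Ω := by
      rw [h4, Finset.card_erase_of_mem (by simp [hab.symm]), Finset.card_erase_of_mem (by simp),
        Finset.card_univ]
      have h6 : 2 ≤ Fintype.card Ω := by
        have := Fintype.card_le_of_injective (![a, b] : Fin 2 → Ω) (by
          intro i j hij
          fin_cases i <;> fin_cases j <;> simp_all)
        simpa using this
      omega
    rw [Nat.card_eq_fintype_card, Nat.card_eq_fintype_card]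
    exact h5
  letI : MulAction H X :=
    { smul := fun h c => ⟨(h : G) • c.1, fun h5 => c.2.1 (by
          have h6 : (h : G) • c.1 = (h : G) • a := by rw [h5, ((hmemH _).1 h.2).1]
          exact smul_left_cancel _ h6), fun h5 => c.2.2 (by
          have h6 : (h : G) • c.1 = (h : G) • b := by rw [h5, ((hmemH _).1 h.2).2]
          exact smul_left_cancel _ h6)⟩
      one_smul := fun c => Subtype.ext (one_smul G c.1)
      mul_smul := fun g h c => Subtype.ext (mul_smul (g : G) (h : G) c.1) }
  have hfree : ∀ x : X, MulAction.stabilizer H x = ⊥ := by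
    intro x
    rw [eq_bot_iff]
    intro h hh
    rw [MulAction.mem_stabilizer_iff] at hh
    have h6 : (h : G) • (x : Ω) = x := congrArg Subtype.val hh
    have h7 := h3 (h : G) a b x hab (Ne.symm x.2.2) (Ne.symm x.2.1) ((hmemH _).1 h.2).1
      ((hmemH _).1 h.2).2 h6
    exact Subtype.ext h7
  have hprod : Nat.card X = Nat.card (Quotient (MulAction.orbitRel H X)) * Nat.card H := by
    rw [Nat.card_congr (MulAction.selfEquivOrbitsQuotientProd hfree), Nat.card_prod]
  set m := Nat.card (Quotient (MulAction.orbitRel H X)) with hm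
  have hΩ : Fintype.card Ω = Nat.card Ω := Nat.card_eq_fintype_card.symm
  have hm2 : m ≤ 2 := by
    have h8 : m * Nat.card H ≤ 2 * Nat.card H := by
      rw [← hprod]
      omega
    exact Nat.le_of_mul_le_mul_right h8 hdpos
  by_cases hcase : 2 ≤ m
  · -- the main case
    have hle : 2 * Nat.card H ≤ Fintype.card Ω - 2 := by
      have h8 : 2 * Nat.card H ≤ m * Nat.card H := Nat.mul_le_mul_right _ hcase
      omega
    obtain ⟨p, f, K, iK, iK', hp, hp2, hKc, hΩc, hiso⟩ :=
      Cfsg.Agent.S0742.result hZ hab (by rw [← hH]; exact ⟨d', hd'⟩) hle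
    refine ⟨K, iK, iK', ?_, hiso⟩
    rw [hKc]
    have h8 : 2 * Nat.card H ≤ m * Nat.card H := Nat.mul_le_mul_right _ hcase
    omega
  · exfalso
    have hm0 : m ≠ 0 := by
      intro h0
      -- `X` is empty, so `G` is sharply doubly transitive; but there is a non-identity two-point element
      have hX0 : Nat.card X = 0 := by rw [hprod, h0, zero_mul]
      obtain ⟨g, hg, a', b', hab', ha', hb'⟩ := hfix
      obtain ⟨c, hc⟩ : ∃ c : Ω, g • c ≠ c := by
        by_contra hcon
        push Not at hcon
        apply hg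
        exact eq_of_smul_eq_smul (α := Ω) (fun x => by rw [hcon x, one_smul])
      have hca : c ≠ a' := fun h => hc (by rw [h, ha'])
      have hcb : c ≠ b' := fun h => hc (by rw [h, hb'])
      have h9 : 3 ≤ Nat.card Ω := by
        rw [Nat.card_eq_fintype_card]
        have h10 := Finset.card_le_univ ({a', b', c} : Finset Ω)
        rwa [Finset.card_eq_three.mpr ⟨a', b', c, hab', hca.symm, hcb.symm, rfl⟩] at h10
      omega
    have hm1 : m = 1 := by omega
    have hcardX : Nat.card X = Nat.card H := by rw [hprod, hm1, one_mul]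
    -- transitivity on `X`
    have htrans : ∀ x y : X, ∃ h : H, (h : G) • (x : Ω) = y := by
      intro x y
      -- the orbit map is injective hence surjective
      have hinj : Function.Injective (fun h : H => (h • x : X)) := by
        intro h h' hh
        have h6 : (h'⁻¹ * h) ∈ MulAction.stabilizer H x := by
          rw [MulAction.mem_stabilizer_iff, mul_smul]
          have hh' : h • x = h' • x := hh
          exact inv_smul_eq_iff.mpr hh'
        rw [hfree x, Subgroup.mem_bot] at h6
        exact (inv_mul_eq_one.mp h6).symm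
      have hbij : Function.Bijective (fun h : H => (h • x : X)) :=
        (Nat.bijective_iff_injective_and_card _).2 ⟨hinj, hcardX.symm⟩
      obtain ⟨h, hh⟩ := hbij.2 y
      exact ⟨h, congrArg Subtype.val hh⟩
    -- sharp triple transitivity
    have hS : Cfsg.Agent.Lib.SharpWrap.Sharp3 G Ω := by
      constructor
      · intro a₁ b₁ c₁ a₂ b₂ c₂ h₁ h₂ h₃ h₄ h₅ h₆
        obtain ⟨g₁, hg₁a, hg₁b⟩ := h2' h₁ hab
        obtain ⟨g₂, hg₂a, hg₂b⟩ := h2' h₄ hab
        have hc₁a : g₁ • c₁ ≠ a := fun h => h₂ (by
          have : g₁ • c₁ = g₁ • a₁ := by rw [h, hg₁a]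
          exact (smul_left_cancel _ this).symm)
        have hc₁b : g₁ • c₁ ≠ b := fun h => h₃ (by
          have : g₁ • c₁ = g₁ • b₁ := by rw [h, hg₁b]
          exact (smul_left_cancel _ this).symm)
        have hc₂a : g₂ • c₂ ≠ a := fun h => h₅ (by
          have : g₂ • c₂ = g₂ • a₂ := by rw [h, hg₂a]
          exact (smul_left_cancel _ this).symm)
        have hc₂b : g₂ • c₂ ≠ b := fun h => h₆ (by
          have : g₂ • c₂ = g₂ • b₂ := by rw [h, hg₂b]
          exact (smul_left_cancel _ this).symm)
        obtain ⟨t, ht⟩ := htrans ⟨_, hc₁a, hc₁b⟩ ⟨_, hc₂a, hc₂b⟩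
        have hta := ((hmemH _).1 t.2).1
        have htb := ((hmemH _).1 t.2).2
        refine ⟨g₂⁻¹ * (t : G) * g₁, ?_, ?_, ?_⟩
        · rw [mul_smul, mul_smul, hg₁a, hta, inv_smul_eq_iff, hg₂a]
        · rw [mul_smul, mul_smul, hg₁b, htb, inv_smul_eq_iff, hg₂b]
        · rw [mul_smul, mul_smul, inv_smul_eq_iff]
          exact ht
      · intro g x y z hxy hyz hxz hx hy hz
        exact h3 g x y z hxy hyz hxz hx hy hz
    have hevenΩ : Even (Nat.card Ω) := by
      rw [← hXcard, hcardX]
      exact ⟨d' + 1, by omega⟩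
    by_cases h6 : 6 ≤ Nat.card Ω
    · exact Cfsg.Agent.Lib.SharpClosure.false_of_simple hS hevenΩ h6
    · have h4 : Nat.card Ω = 4 := by
        have hd4 : Nat.card H = 2 := by omega
        omega
      exact Cfsg.Agent.Lib.ZassEven.false_of_four hS h4

end Cfsg.Agent.S0344
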