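import Mathlib
import Cfsg.Statements.S3908
import Cfsg.Agent.Lib.UniqueSub

set_option autoImplicit false
open Cfsg

namespace Cfsg.Agent.S3908

variable {G : Type*} [Group G] [Finite G]

/-- The key step: a `p`-subgroup `P` with two subgroups of order `p` has exponent `p`, when abelian
subgroups of equal order are conjugate. -/
theorem exp_of_two (hB : ∀ A B : Subgroup G, IsMulCommutative ↥A → IsMulCommutative ↥B →
      Nat.card ↥A = Nat.card ↥B → ∃ g : G, B = A.map (MulAut.conj g).toMonoidHom)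
    (p : ℕ) [Fact p.Prime] (P : Subgroup G) (hP : IsPGroup p P)
    (H K : Subgroup P) (hH : Nat.card H = p) (hK : Nat.card K = p) (hne : H ≠ K) :
    ∀ x ∈ P, x ^ p = 1 := by
  have hpp := (Fact.out : p.Prime)
  -- a central element of order `p`
  have hnt : Nontrivial P := by
    by_contra hn
    rw [not_nontrivial_iff_subsingleton] at hn
    have : Nat.card H = 1 := Nat.card_eq_one_iff_unique.mpr ⟨inferInstance, ⟨1⟩⟩
    rw [hH] at this
    exact hpp.one_lt.ne' this
  have hcnt : Nontrivial (Subgroup.center P) := hP.center_nontrivial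
  obtain ⟨n, hn⟩ := (hP.to_subgroup (Subgroup.center P)).exists_card_eq
  have hdvd : p ∣ Nat.card (Subgroup.center P) := by
    rw [hn]
    have hn0 : n ≠ 0 := by
      rintro rfl
      have := Finite.one_lt_card (α := Subgroup.center P)
      rw [hn] at this
      simp at this
    exact dvd_pow_self p hn0
  obtain ⟨c, hc⟩ := exists_prime_orderOf_dvd_card' p hdvd
  have hc' : orderOf (c : P) = p := (Subgroup.orderOf_coe c).trans hc
  set C : Subgroup P := Subgroup.zpowers (c : P) with hCdef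
  have hCc : Nat.card C = p := by rw [hCdef, Nat.card_zpowers, hc']
  have hCcen : C ≤ Subgroup.center P := by
    rw [hCdef, Subgroup.zpowers_le]; exact c.2
  -- choose `H₀ ≠ C` of order `p`
  obtain ⟨H₀, hH₀, hH₀C⟩ : ∃ H₀ : Subgroup P, Nat.card H₀ = p ∧ H₀ ≠ C := by
    by_cases h : H = C
    · exact ⟨K, hK, fun h2 => hne (h.trans h2.symm)⟩
    · exact ⟨H, hH, h⟩
  have hH₀cyc : IsCyclic H₀ := isCyclic_of_prime_card (p := p) hH₀
  have hdisj : H₀ ⊓ C = ⊥ := by
    have hle : Nat.card ((H₀ ⊓ C : Subgroup P)) ∣ p := by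
      rw [← hCc]
      exact Subgroup.card_dvd_of_le inf_le_right
    rcases (Nat.dvd_prime hpp).mp hle with h1 | h2
    · exact Subgroup.card_eq_one.mp h1
    · exfalso
      apply hH₀C
      have hc1 : H₀ ⊓ C = H₀ := Subgroup.eq_of_le_of_card_ge inf_le_left (by rw [h2, hH₀])
      have hc2 : H₀ ⊓ C = C := Subgroup.eq_of_le_of_card_ge inf_le_right (by rw [h2, hCc])
      rw [← hc1, hc2]
  have hCn : C.Normal := ⟨by
    intro n hn g
    have := Subgroup.mem_center_iff.mp (hCcen hn) g
    rw [this, mul_inv_cancel_right]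
    exact hn⟩
  have hEdec : ∀ e ∈ H₀ ⊔ C, ∃ h ∈ H₀, ∃ z ∈ C, e = h * z := by
    intro e he
    obtain ⟨h, hh, z, hz, rfl⟩ := Subgroup.mem_sup_of_normal_right.mp he
    exact ⟨h, hh, z, hz, rfl⟩
  have hHexp : ∀ h ∈ H₀, h ^ p = 1 := by
    intro h hh
    have := pow_card_eq_one' (x := (⟨h, hh⟩ : H₀))
    rw [hH₀] at this
    exact congrArg Subtype.val this
  have hCexp : ∀ h ∈ C, h ^ p = 1 := by
    intro h hh
    have := pow_card_eq_one' (x := (⟨h, hh⟩ : C))
    rw [hCc] at this
    exact congrArg Subtype.val this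
  have hEexp : ∀ e ∈ H₀ ⊔ C, e ^ p = 1 := by
    intro e he
    obtain ⟨h, hh, z, hz, rfl⟩ := hEdec e he
    have hcomm : Commute h z := Subgroup.mem_center_iff.mp (hCcen hz) h
    rw [hcomm.mul_pow, hHexp h hh, hCexp z hz, one_mul]
  have hEcomm : ∀ e ∈ H₀ ⊔ C, ∀ e' ∈ H₀ ⊔ C, e * e' = e' * e := by
    intro e he e' he'
    obtain ⟨h, hh, z, hz, rfl⟩ := hEdec e he
    obtain ⟨h', hh', z', hz', rfl⟩ := hEdec e' he'
    have hcc : h * h' = h' * h := by
      have hcomm := (IsCyclic.isMulCommutative (α := H₀)).is_comm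
      exact congrArg Subtype.val (hcomm.comm ⟨h, hh⟩ ⟨h', hh'⟩)
    have h1 : z * h' = h' * z := (Subgroup.mem_center_iff.mp (hCcen hz) h').symm
    have h2 : z' * h = h * z' := (Subgroup.mem_center_iff.mp (hCcen hz') h).symm
    have h3 : z * z' = z' * z := (Subgroup.mem_center_iff.mp (hCcen hz) z').symm
    calc h * z * (h' * z') = (h * h') * (z * z') := by
          rw [mul_assoc, ← mul_assoc z, h1, mul_assoc, mul_assoc]
      _ = (h' * h) * (z' * z) := by rw [hcc, h3]
      _ = h' * z' * (h * z) := by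
          rw [mul_assoc, ← mul_assoc h, ← h2, mul_assoc, mul_assoc]
  have hEcard : Nat.card (H₀ ⊔ C : Subgroup P) = p ^ 2 := by
    have h1 := Subgroup.relIndex_mul_relIndex (⊥ : Subgroup P) C (H₀ ⊔ C) bot_le le_sup_right
    rw [Subgroup.relIndex_bot_left, Subgroup.relIndex_bot_left, Subgroup.relIndex_sup_right,
      ← Subgroup.inf_relIndex_right, inf_comm, hdisj, Subgroup.relIndex_bot_left, hCc, hH₀] at h1
    rw [← h1, sq]
  -- now conjugate
  let E : Subgroup G := (H₀ ⊔ C).map P.subtype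
  have hEcardG : Nat.card E = p ^ 2 := by
    have : Nat.card E = Nat.card (H₀ ⊔ C : Subgroup P) :=
      (Nat.card_congr ((H₀ ⊔ C).equivMapOfInjective P.subtype P.subtype_injective).toEquiv).symm
    rw [this, hEcard]
  have hEcommG : IsMulCommutative E := by
    refine ⟨⟨?_⟩⟩
    rintro ⟨_, a, ha, rfl⟩ ⟨_, b, hb, rfl⟩
    apply Subtype.ext
    have h9 := congrArg Subtype.val (hEcomm a ha b hb)
    exact h9
  intro x hx
  by_contra hx1
  obtain ⟨k, hk⟩ := hP ⟨x, hx⟩
  have hxo : orderOf x ∣ p ^ k := by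
    apply orderOf_dvd_of_pow_eq_one
    exact congrArg Subtype.val hk
  obtain ⟨j, _, hj⟩ := (Nat.dvd_prime_pow hpp).mp hxo
  have hj2 : 2 ≤ j := by
    by_contra hlt
    apply hx1
    have : orderOf x ∣ p := by
      rw [hj]
      exact pow_dvd_pow p (by omega : j ≤ 1) |>.trans (by simp)
    exact orderOf_dvd_iff_pow_eq_one.mp this
  have hyo : orderOf (x ^ p ^ (j - 2)) = p ^ 2 := by
    rw [orderOf_pow_of_dvd (pow_ne_zero _ hpp.ne_zero) (by rw [hj]; exact pow_dvd_pow p (by omega)), hj]
    rw [Nat.pow_div (by omega) hpp.pos]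
    congr 1
    omega
  obtain ⟨g, hg⟩ := hB E (Subgroup.zpowers (x ^ p ^ (j - 2))) hEcommG inferInstance
    (by rw [hEcardG, Nat.card_zpowers, hyo])
  have hy : x ^ p ^ (j - 2) ∈ E.map (MulAut.conj g).toMonoidHom := by
    rw [← hg]; exact Subgroup.mem_zpowers _
  obtain ⟨_, ⟨e, he, rfl⟩, hey⟩ := hy
  have h5 : (x ^ p ^ (j - 2)) ^ p = 1 := by
    rw [← hey]
    simp only [MulEquiv.coe_toMonoidHom, MulAut.conj_apply, Subgroup.coe_subtype, conj_pow]
    have := hEexp e he
    have h6 : (e : G) ^ p = 1 := by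
      have := congrArg Subtype.val this
      simpa using this
    rw [h6]; group
  have h7 := orderOf_dvd_of_pow_eq_one h5
  rw [hyo] at h7
  have := Nat.le_of_dvd hpp.pos h7
  have h8 : p ^ 2 = p * p := sq p
  have := hpp.one_lt
  nlinarith

/-- Let G be a finite group in which any two abelian subgroups of the same order are conjugate. Then a Sylow 2-subgroup of G is cyclic, elementary abelian or generalized quaternion, and for an odd prime p a Sylow p-subgroup of G is cyclic or has exponent dividing p. -/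
theorem result {G : Type*} [Group G] [Finite G] (hB : ∀ A B : Subgroup G, IsMulCommutative ↥A → IsMulCommutative ↥B → Nat.card ↥A = Nat.card ↥B → ∃ g : G, B = A.map (MulAut.conj g).toMonoidHom) :
    (∀ P : Sylow 2 G, IsCyclic ↥(P : Subgroup G) ∨ Cfsg.IsElementaryAbelian 2 (P : Subgroup G) ∨ ∃ k : ℕ, Nonempty (↥(P : Subgroup G) ≃* QuaternionGroup (2 ^ k))) ∧
    ∀ (p : ℕ) [Fact p.Prime], p ≠ 2 → ∀ P : Sylow p G, IsCyclic ↥(P : Subgroup G) ∨ ∀ x ∈ (P : Subgroup G), x ^ p = 1 := by
  constructor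
  · intro P
    by_cases huniq : ∀ H K : Subgroup (P : Subgroup G), Nat.card H = 2 → Nat.card K = 2 → H = K
    · rcases Cfsg.Agent.Lib.UniqueSub.main (G := (P : Subgroup G)) 2 P.2 huniq with h | ⟨_, n, hn⟩
      · exact Or.inl h
      · exact Or.inr (Or.inr ⟨n, hn⟩)
    · right; left
      push Not at huniq
      obtain ⟨H, K, hH, hK, hne⟩ := huniq
      have hexp := exp_of_two hB 2 (P : Subgroup G) P.2 H K hH hK hne
      refine ⟨⟨⟨?_⟩⟩, hexp⟩
      rintro ⟨a, ha⟩ ⟨b, hb⟩
      apply Subtype.ext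
      change a * b = b * a
      have h1 := hexp a ha
      have h2 := hexp b hb
      have h3 := hexp (a * b) (Subgroup.mul_mem _ ha hb)
      rw [sq] at h1 h2 h3
      have ha' : a⁻¹ = a := inv_eq_of_mul_eq_one_left h1
      have hb' : b⁻¹ = b := inv_eq_of_mul_eq_one_left h2
      have := inv_eq_of_mul_eq_one_left h3
      rw [mul_inv_rev, ha', hb'] at this
      exact this.symm
  · intro p _ hp2 P
    by_cases huniq : ∀ H K : Subgroup (P : Subgroup G), Nat.card H = p → Nat.card K = p → H = K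
    · rcases Cfsg.Agent.Lib.UniqueSub.main (G := (P : Subgroup G)) p P.2 huniq with h | ⟨h, _⟩
      · exact Or.inl h
      · exact absurd h hp2
    · right
      push Not at huniq
      obtain ⟨H, K, hH, hK, hne⟩ := huniq
      exact exp_of_two hB p (P : Subgroup G) P.2 H K hH hK hne

end Cfsg.Agent.S3908
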