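import Mathlib
import Cfsg.Statements.S3909

set_option autoImplicit false
open Cfsg

namespace Cfsg.Agent.S3909

variable {G : Type*} [Group G] [Finite G]

/-- If `x` has the order of some abelian subgroup of the normal subgroup `M`, then `x ∈ M`. -/
theorem mem_of_abelian_subgroup
    (hB : ∀ A B : Subgroup G, IsMulCommutative ↥A → IsMulCommutative ↥B → Nat.card ↥A = Nat.card ↥B → ∃ g : G, B = A.map (MulAut.conj g).toMonoidHom)
    (M : Subgroup G) [hM : M.Normal] (A : Subgroup G) (hAM : A ≤ M) (hAb : IsMulCommutative ↥A) (x : G)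
    (hx : Nat.card ↥A = orderOf x) : x ∈ M := by
  have hcomm : IsMulCommutative ↥(Subgroup.zpowers x) := inferInstance
  obtain ⟨g, hg⟩ := hB A (Subgroup.zpowers x) hAb hcomm (by rw [hx, Nat.card_zpowers])
  have hxmem : x ∈ Subgroup.zpowers x := Subgroup.mem_zpowers x
  rw [hg] at hxmem
  obtain ⟨a, ha, rfl⟩ := hxmem
  exact hM.conj_mem a (hAM ha) g

/-- Let G be a finite group in which any two abelian subgroups of the same order are conjugate. Let M be a normal subgroup of G. If M contains an element of the same order as a ∈ G, then a ∈ M; and if M is elementary abelian of order p^t with p prime and t ≥ 2, then M is the unique Sylow p-subgroup of G. -/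
theorem result {G : Type*} [Group G] [Finite G] (hB : ∀ A B : Subgroup G, IsMulCommutative ↥A → IsMulCommutative ↥B → Nat.card ↥A = Nat.card ↥B → ∃ g : G, B = A.map (MulAut.conj g).toMonoidHom) (M : Subgroup G) [M.Normal] :
    (∀ a : G, (∃ m ∈ M, orderOf m = orderOf a) → a ∈ M) ∧
    ∀ (p t : ℕ) [Fact p.Prime], 2 ≤ t → Nat.card ↥M = p ^ t → Cfsg.IsElementaryAbelian p M → ∀ P : Sylow p G, (P : Subgroup G) = M := by
  refine ⟨?_, ?_⟩
  · rintro a ⟨m, hm, hma⟩
    refine mem_of_abelian_subgroup hB M (Subgroup.zpowers m) ?_ inferInstance a ?_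
    · rw [Subgroup.zpowers_le]
      exact hm
    · rw [Nat.card_zpowers, hma]
  · intro p t _ ht hcard hel P
    have hpp : p.Prime := Fact.out
    obtain ⟨hab, hexp⟩ := hel
    have hMp : IsPGroup p ↥M := IsPGroup.of_card hcard
    -- `M ≤ P`
    have hMP : M ≤ (P : Subgroup G) := by
      obtain ⟨Q, hQ⟩ := hMp.exists_le_sylow
      obtain ⟨g, rfl⟩ := MulAction.exists_smul_eq G Q P
      intro x hx
      rw [Sylow.coe_subgroup_smul, Subgroup.mem_pointwise_smul_iff_inv_smul_mem]
      have h1 : g⁻¹ * x * g ∈ M := by
        have := (inferInstance : M.Normal).conj_mem x hx g⁻¹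
        simpa using this
      apply hQ
      simpa [MulAut.smul_def, MulAut.conj_apply] using h1
    refine le_antisymm ?_ hMP
    -- every `p`-element lies in `M`, by induction on its order
    have key : ∀ k : ℕ, ∀ x ∈ (P : Subgroup G), orderOf x = p ^ k → x ∈ M := by
      intro k
      induction k with
      | zero =>
        intro x _ hx
        rw [pow_zero, orderOf_eq_one_iff] at hx
        rw [hx]
        exact M.one_mem
      | succ k ih =>
        intro x hxP hx
        have hxp : x ^ p ∈ M := by
          refine ih (x ^ p) ((P : Subgroup G).pow_mem hxP p) ?_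
          rw [orderOf_pow_of_dvd hpp.ne_zero (hx ▸ dvd_pow_self p (Nat.succ_ne_zero k)), hx, pow_succ]
          exact Nat.mul_div_cancel _ hpp.pos
        have hx2 : x ^ (p ^ 2) = 1 := by
          rw [pow_two, pow_mul]
          exact hexp _ hxp
        obtain ⟨j, hj, hxj⟩ := (Nat.dvd_prime_pow hpp).mp (orderOf_dvd_of_pow_eq_one hx2)
        -- a subgroup of `M` of order `p ^ j`
        have hdvd : p ^ j ∣ Nat.card ↥M := by
          rw [hcard]
          exact pow_dvd_pow p (hj.trans ht)
        obtain ⟨K, hK⟩ := Sylow.exists_subgroup_card_pow_prime p hdvd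
        let A : Subgroup G := K.map M.subtype
        have hAM : A ≤ M := Subgroup.map_subtype_le K
        have hAcard : Nat.card ↥A = orderOf x := by
          have : Nat.card ↥A = Nat.card ↥K := Nat.card_congr (K.equivMapOfInjective _ M.subtype_injective).symm.toEquiv
          rw [this, hK, hxj]
        have hAb : IsMulCommutative ↥A := by
          refine ⟨⟨?_⟩⟩
          rintro ⟨a, ha⟩ ⟨b, hb⟩
          apply Subtype.ext
          have ha' := hAM ha
          have hb' := hAM hb
          have := hab.is_comm.comm (⟨a, ha'⟩ : ↥M) ⟨b, hb'⟩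
          show a * b = b * a
          exact congrArg (fun v : ↥M => (v : G)) this
        exact mem_of_abelian_subgroup hB M A hAM hAb x hAcard
    intro x hx
    obtain ⟨k, hk⟩ := (IsPGroup.iff_orderOf.mp P.isPGroup') ⟨x, hx⟩
    exact key k x hx (by rwa [Subgroup.orderOf_mk] at hk)

end Cfsg.Agent.S3909
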