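import Mathlib
import Cfsg.Statements.S3911
import Cfsg.Agent.S3908
import Cfsg.Agent.Lib.FpfGeneral
import Cfsg.Agent.Lib.PCore
-- import your own Cfsg.Agent.* helpers here

set_option autoImplicit false
open Cfsg

namespace Cfsg.Agent.S3911


open Cfsg.Agent.Lib.PCore

variable {G : Type*} [Group G] [Finite G]

/-- The hypothesis: abelian subgroups of equal order are conjugate. -/
def HB (G : Type*) [Group G] : Prop :=
  ∀ A B : Subgroup G, IsMulCommutative ↥A → IsMulCommutative ↥B → Nat.card ↥A = Nat.card ↥B →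
    ∃ g : G, B = A.map (MulAut.conj g).toMonoidHom

/-- Under `HB`, a normal subgroup of order divisible by `p` contains all elements of order `p`. -/
theorem mem_of_order_prime (hB : HB G) (M : Subgroup G) [hMn : M.Normal] {p : ℕ} [Fact p.Prime]
    (hp : p ∣ Nat.card M) {y : G} (hy : orderOf y = p) : y ∈ M := by
  obtain ⟨x, hx⟩ := exists_prime_orderOf_dvd_card' p hp
  have hx' : orderOf (x : G) = p := (Subgroup.orderOf_coe x).trans hx
  obtain ⟨g, hg⟩ := hB (Subgroup.zpowers (x : G)) (Subgroup.zpowers y) inferInstance inferInstance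
    (by rw [Nat.card_zpowers, Nat.card_zpowers, hx', hy])
  have h1 : y ∈ (Subgroup.zpowers (x : G)).map (MulAut.conj g).toMonoidHom :=
    hg ▸ Subgroup.mem_zpowers y
  obtain ⟨z, hz, rfl⟩ := h1
  have h2 : z ∈ M := (Subgroup.zpowers_le.mpr x.2) hz
  simpa using hMn.conj_mem _ h2 g

/-- Minimal lift of a subgroup of `G ⧸ M`. -/
structure MinLift (M : Subgroup G) [M.Normal] (A : Subgroup (G ⧸ M)) (L : Subgroup G) : Prop where
  map_eq : L.map (QuotientGroup.mk' M) = A
  min : ∀ L' ≤ L, L'.map (QuotientGroup.mk' M) = A → L' = L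

theorem exists_minLift (M : Subgroup G) [M.Normal] (A : Subgroup (G ⧸ M)) :
    ∃ L : Subgroup G, MinLift M A L := by
  have hne : ({L : Subgroup G | L.map (QuotientGroup.mk' M) = A}).Nonempty :=
    ⟨A.comap (QuotientGroup.mk' M),
      Subgroup.map_comap_eq_self_of_surjective (QuotientGroup.mk'_surjective M) A⟩
  obtain ⟨L, hL, hmin⟩ := wellFounded_lt.has_min _ hne
  refine ⟨L, hL, fun L' hle hL' => ?_⟩
  by_contra hne'
  exact hmin L' hL' (lt_of_le_of_ne hle hne')

variable {M : Subgroup G} [hMn : M.Normal] {A : Subgroup (G ⧸ M)} {L : Subgroup G}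

theorem MinLift.eq_top_of_sup (h : MinLift M A L) {K T : Subgroup L}
    (hT : T.map L.subtype ≤ M) (hKT : K ⊔ T = ⊤) : K = ⊤ := by
  set f : L →* G ⧸ M := (QuotientGroup.mk' M).comp L.subtype with hf
  have hTf : T.map f = ⊥ := by
    rw [hf, ← Subgroup.map_map, Subgroup.map_eq_bot_iff, QuotientGroup.ker_mk']
    exact hT
  have htop : (⊤ : Subgroup L).map f = A := by
    rw [hf, ← Subgroup.map_map, ← MonoidHom.range_eq_map, Subgroup.range_subtype]
    exact h.map_eq
  have hK : K.map f = A := by
    rw [← htop, ← hKT, Subgroup.map_sup, hTf, sup_bot_eq]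
  have hK' : (K.map L.subtype).map (QuotientGroup.mk' M) = A := by
    rw [Subgroup.map_map]; exact hK
  have hle : K.map L.subtype ≤ L := Subgroup.map_subtype_le K
  have heq := h.min _ hle hK'
  apply Subgroup.map_injective L.subtype_injective
  rw [heq, ← MonoidHom.range_eq_map, Subgroup.range_subtype]

theorem comm_image (hA : IsMulCommutative ↥A) (h : MinLift M A L) (x y : L) :
    (x : G) * (y : G) * (x : G)⁻¹ * (y : G)⁻¹ ∈ M := by
  have hx : QuotientGroup.mk' M (x : G) ∈ A := h.map_eq ▸ Subgroup.mem_map_of_mem _ x.2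
  have hy : QuotientGroup.mk' M (y : G) ∈ A := h.map_eq ▸ Subgroup.mem_map_of_mem _ y.2
  have hc : QuotientGroup.mk' M (x : G) * QuotientGroup.mk' M (y : G)
      = QuotientGroup.mk' M (y : G) * QuotientGroup.mk' M (x : G) := by
    have := hA.is_comm.comm (⟨_, hx⟩ : A) (⟨_, hy⟩ : A)
    exact congrArg Subtype.val this
  rw [← QuotientGroup.ker_mk' M, MonoidHom.mem_ker]
  simp only [map_mul, map_inv, hc]
  group

theorem MinLift.isNilpotent (hA : IsMulCommutative ↥A) (h : MinLift M A L) :
    Group.IsNilpotent L := by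
  have htfae := Group.isNilpotent_of_finite_tfae (G := L)
  refine (htfae.out 0 2).mpr ?_
  intro U hU
  have hD : (M.subgroupOf L) ≤ U := by
    by_contra hnot
    have hsup : U ⊔ M.subgroupOf L = ⊤ := hU.2 _ (lt_of_le_of_ne le_sup_left (fun he => hnot (by
      rw [he]; exact le_sup_right)))
    refine hU.1 (h.eq_top_of_sup (T := M.subgroupOf L) ?_ hsup)
    rintro _ ⟨x, hx, rfl⟩
    exact hx
  refine ⟨fun u hu g => ?_⟩
  have h1 : g * u * g⁻¹ * u⁻¹ ∈ M.subgroupOf L := by
    rw [Subgroup.mem_subgroupOf]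
    exact comm_image hA h g u
  have h2 := U.mul_mem (hD h1) hu
  simpa using h2

theorem MinLift.not_dvd_of_sylow_le (h : MinLift M A L) (hnil : Group.IsNilpotent L) (p : ℕ)
    [Fact p.Prime] (S : Sylow p L) (hS : (S : Subgroup L).map L.subtype ≤ M) :
    ¬ p ∣ Nat.card L := by
  have htfae := Group.isNilpotent_of_finite_tfae (G := L)
  have hnorm : ∀ (q : ℕ), Fact q.Prime → ∀ Q : Sylow q L, (Q : Subgroup L).Normal :=
    (htfae.out 0 3).mp hnil
  have hsup : pPrimeCore p L ⊔ (S : Subgroup L) = ⊤ := by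
    apply eq_top_of_forall_sylow_le
    intro q _
    by_cases hq : q = p
    · subst hq
      exact ⟨S, le_sup_right⟩
    · obtain ⟨Q⟩ : Nonempty (Sylow q L) := inferInstance
      refine ⟨Q, le_trans (le_pPrimeCore (hnorm q inferInstance Q) ?_) le_sup_left⟩
      obtain ⟨k, hk⟩ := IsPGroup.iff_card.mp Q.isPGroup'
      rw [hk]
      exact Nat.Coprime.pow_left _ ((Nat.coprime_primes (Fact.out) (Fact.out)).mpr hq)
  have htop := h.eq_top_of_sup hS hsup
  intro hdvd
  apply not_dvd_card_pPrimeCore (G := L) p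
  rw [htop]
  simpa using hdvd

/-- Commutativity from the Sylow subgroups in a nilpotent group. -/
theorem comm_of_sylow {X : Type*} [Group X] [Finite X] (hnil : Group.IsNilpotent X)
    (h : ∀ (p : ℕ) [Fact p.Prime] (S : Sylow p X), ∀ x ∈ (S : Subgroup X), ∀ y ∈ (S : Subgroup X),
      x * y = y * x) (x y : X) : x * y = y * x := by
  have htfae := Group.isNilpotent_of_finite_tfae (G := X)
  have hnorm : ∀ (q : ℕ), Fact q.Prime → ∀ Q : Sylow q X, (Q : Subgroup X).Normal :=
    (htfae.out 0 3).mp hnil
  have hc : Subgroup.center X = ⊤ := by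
    apply eq_top_of_forall_sylow_le
    intro p _
    obtain ⟨S⟩ : Nonempty (Sylow p X) := inferInstance
    refine ⟨S, fun s hs => ?_⟩
    rw [Subgroup.mem_center_iff]
    intro z
    have hz : Subgroup.centralizer {s} = ⊤ := by
      apply eq_top_of_forall_sylow_le
      intro q _
      by_cases hq : q = p
      · subst hq
        refine ⟨S, fun y hy => ?_⟩
        rw [Subgroup.mem_centralizer_singleton_iff]
        exact h q S y hy s hs
      · obtain ⟨Q⟩ : Nonempty (Sylow q X) := inferInstance
        refine ⟨Q, fun y hy => ?_⟩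
        rw [Subgroup.mem_centralizer_singleton_iff]
        exact Subgroup.commute_of_normal_of_disjoint _ _ (hnorm q inferInstance Q)
          (hnorm p inferInstance S)
          (IsPGroup.disjoint_of_ne q p hq _ _ Q.isPGroup' S.isPGroup') y s hy hs
    have hz' : z ∈ Subgroup.centralizer {s} := hz ▸ Subgroup.mem_top z
    rw [Subgroup.mem_centralizer_singleton_iff] at hz'
    exact hz'
  have hx : x ∈ Subgroup.center X := hc ▸ Subgroup.mem_top x
  exact (Subgroup.mem_center_iff.mp hx y).symm

/-- Image of a subgroup and the order formula. -/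
theorem card_eq_map_mul_inf (L : Subgroup G) :
    Nat.card L = Nat.card (L.map (QuotientGroup.mk' M)) * Nat.card (L ⊓ M : Subgroup G) := by
  have h1 := Subgroup.relIndex_ker L (QuotientGroup.mk' M)
  rw [QuotientGroup.ker_mk'] at h1
  rw [← h1, ← Subgroup.inf_relIndex_right M L, inf_comm M L]
  have := Subgroup.relIndex_mul_relIndex (⊥ : Subgroup G) (L ⊓ M) L bot_le inf_le_left
  rw [Subgroup.relIndex_bot_left, Subgroup.relIndex_bot_left] at this
  rw [← this, mul_comm]


/-- Dichotomy for `p`-subgroups when `p ∣ |M|`. -/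
theorem dichotomy (hB : HB G) (hM : Odd (Nat.card M)) {p : ℕ} [Fact p.Prime] (hp : p ∣ Nat.card M)
    (X : Subgroup G) (hX : IsPGroup p X) :
    X ≤ M ∨ ∃ P : Sylow p G, X ≤ (P : Subgroup G) ∧ IsCyclic (P : Subgroup G) := by
  have hne2 : p ≠ 2 := by
    rintro rfl
    exact (Nat.not_even_iff_odd.mpr hM) (even_iff_two_dvd.mpr hp)
  obtain ⟨P, hP⟩ := hX.exists_le_sylow
  rcases (Cfsg.Agent.S3908.result hB).2 p hne2 P with hc | he
  · exact Or.inr ⟨P, hP, hc⟩
  · left
    intro x hx
    by_cases h1 : x = 1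
    · subst h1; exact M.one_mem
    · exact mem_of_order_prime hB M hp (orderOf_eq_prime (he x (hP hx)) h1)

theorem sylow_comm (hB : HB G) (hM : Odd (Nat.card M)) (hA : IsMulCommutative ↥A)
    (h : MinLift M A L) (p : ℕ) [Fact p.Prime] (S : Sylow p L) :
    ∀ x ∈ (S : Subgroup L), ∀ y ∈ (S : Subgroup L), x * y = y * x := by
  intro x hx y hy
  have hnil := h.isNilpotent hA
  set X := (S : Subgroup L).map L.subtype with hXdef
  have hX : IsPGroup p X := S.isPGroup'.map L.subtype
  by_cases hp : p ∣ Nat.card M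
  · rcases dichotomy hB hM hp X hX with hle | ⟨P, hP, hc⟩
    · have hnd := h.not_dvd_of_sylow_le hnil p S hle
      have hbot : (S : Subgroup L) = ⊥ := by
        apply eq_bot_of_isPGroup_of_coprime S.isPGroup'
        refine Nat.Coprime.symm ?_
        apply (Nat.Prime.coprime_iff_not_dvd (Fact.out)).mpr
        exact fun hd => hnd (hd.trans (Subgroup.card_subgroup_dvd_card _))
      rw [hbot, Subgroup.mem_bot] at hx hy
      rw [hx, hy]
    · have hxP : (x : G) ∈ (P : Subgroup G) := hP (Subgroup.mem_map_of_mem _ hx)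
      have hyP : (y : G) ∈ (P : Subgroup G) := hP (Subgroup.mem_map_of_mem _ hy)
      have := (IsCyclic.isMulCommutative (α := (P : Subgroup G))).is_comm.comm (⟨x, hxP⟩ : (P : Subgroup G)) ⟨y, hyP⟩
      have h4 : (x : G) * (y : G) = (y : G) * (x : G) := congrArg Subtype.val this
      exact Subtype.ext h4
  · have hbot : X ⊓ M = ⊥ := by
      apply eq_bot_of_isPGroup_of_coprime (hX.to_le inf_le_left)
      refine Nat.Coprime.symm ?_
      apply (Nat.Prime.coprime_iff_not_dvd (Fact.out)).mpr
      exact fun hd => hp (hd.trans (Subgroup.card_dvd_of_le inf_le_right))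
    have hc : (x : G) * (y : G) * (x : G)⁻¹ * (y : G)⁻¹ ∈ X ⊓ M := by
      refine ⟨?_, comm_image hA h x y⟩
      refine ⟨x * y * x⁻¹ * y⁻¹, ?_, by simp⟩
      exact (S : Subgroup L).mul_mem ((S : Subgroup L).mul_mem ((S : Subgroup L).mul_mem hx hy)
        ((S : Subgroup L).inv_mem hx)) ((S : Subgroup L).inv_mem hy)
    rw [hbot, Subgroup.mem_bot] at hc
    apply Subtype.ext
    have h3 : (x : G) * (y : G) = (y : G) * (x : G) := by
      have : (x : G) * (y : G) * (x : G)⁻¹ * (y : G)⁻¹ * ((y : G) * (x : G)) = (y : G) * (x : G) := by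
        rw [hc, one_mul]
      rw [← this]; group
    simpa using h3

theorem fact_le_inf_sylow (M : Subgroup G) [M.Normal] {p : ℕ} [hp : Fact p.Prime] (P : Sylow p G) :
    (Nat.card M).factorization p ≤ (Nat.card ((P : Subgroup G) ⊓ M : Subgroup G)).factorization p := by
  have h1 := card_eq_map_mul_inf (M := M) (P : Subgroup G)
  have h2 := P.card_eq_multiplicity
  have h3 := Subgroup.card_eq_card_quotient_mul_card_subgroup M
  have hne1 : Nat.card (G ⧸ M) ≠ 0 := Nat.card_pos.ne'
  have hne2 : Nat.card M ≠ 0 := Nat.card_pos.ne'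
  have hne3 : Nat.card ((P : Subgroup G).map (QuotientGroup.mk' M)) ≠ 0 := Nat.card_pos.ne'
  have hne4 : Nat.card ((P : Subgroup G) ⊓ M : Subgroup G) ≠ 0 := Nat.card_pos.ne'
  have h4 : (Nat.card G).factorization p
      = (Nat.card (G ⧸ M)).factorization p + (Nat.card M).factorization p := by
    conv_lhs => rw [h3, Nat.factorization_mul hne1 hne2]
    rfl
  have h5 : (Nat.card (P : Subgroup G)).factorization p = (Nat.card G).factorization p := by
    rw [h2, hp.out.factorization_pow]; simp
  have h6 : (Nat.card (P : Subgroup G)).factorization p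
      = (Nat.card ((P : Subgroup G).map (QuotientGroup.mk' M))).factorization p
        + (Nat.card ((P : Subgroup G) ⊓ M : Subgroup G)).factorization p := by
    conv_lhs => rw [h1, Nat.factorization_mul hne3 hne4]
    rfl
  have h7 : (Nat.card ((P : Subgroup G).map (QuotientGroup.mk' M))).factorization p
      ≤ (Nat.card (G ⧸ M)).factorization p :=
    (Nat.factorization_le_iff_dvd hne3 hne1).mpr (Subgroup.card_subgroup_dvd_card _) p
  omega

/-- Subgroups of a cyclic `p`-group are totally ordered. -/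
theorem cyclic_total {C : Type*} [Group C] [Finite C] [IsCyclic C] {p : ℕ} [hp : Fact p.Prime]
    (hC : IsPGroup p C) (X Y : Subgroup C) : X ≤ Y ∨ Y ≤ X := by
  have key : ∀ X Y : Subgroup C, Nat.card X ∣ Nat.card Y → X ≤ Y := by
    intro X Y hd
    obtain ⟨a, ha⟩ := IsPGroup.iff_card.mp (hC.to_subgroup X)
    rw [ha] at hd
    obtain ⟨K, hK⟩ := Sylow.exists_subgroup_card_pow_prime (G := Y) p hd
    have h1 : K.map Y.subtype = X := by
      apply Cfsg.Agent.Lib.FpfGeneral.eq_of_card_eq_of_isCyclic
      rw [ha, ← hK]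
      exact Nat.card_congr (K.equivMapOfInjective _ Y.subtype_injective).toEquiv.symm
    rw [← h1]
    exact Subgroup.map_subtype_le K
  obtain ⟨a, ha⟩ := IsPGroup.iff_card.mp (hC.to_subgroup X)
  obtain ⟨b, hb⟩ := IsPGroup.iff_card.mp (hC.to_subgroup Y)
  rcases le_total a b with hab | hab
  · left; apply key; rw [ha, hb]; exact pow_dvd_pow p hab
  · right; apply key; rw [ha, hb]; exact pow_dvd_pow p hab

theorem fact_D (hB : HB G) (hM : Odd (Nat.card M)) (hA : IsMulCommutative ↥A)
    (h : MinLift M A L) (p : ℕ) (hp : p.Prime) :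
    (Nat.card (L ⊓ M : Subgroup G)).factorization p
      = if p ∣ Nat.card A then (Nat.card M).factorization p else 0 := by
  haveI : Fact p.Prime := ⟨hp⟩
  have hnil := h.isNilpotent hA
  obtain ⟨S⟩ : Nonempty (Sylow p L) := inferInstance
  set X := (S : Subgroup L).map L.subtype with hXdef
  have hX : IsPGroup p X := S.isPGroup'.map L.subtype
  have hcardL : Nat.card L = Nat.card A * Nat.card (L ⊓ M : Subgroup G) := by
    rw [card_eq_map_mul_inf (M := M) L, h.map_eq]
  have hneD : Nat.card (L ⊓ M : Subgroup G) ≠ 0 := Nat.card_pos.ne'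
  have hneM : Nat.card M ≠ 0 := Nat.card_pos.ne'
  split_ifs with hpn
  · have hdvd : p ∣ Nat.card L := hcardL ▸ dvd_mul_of_dvd_left hpn _
    have hXM : ¬ X ≤ M := fun hle => h.not_dvd_of_sylow_le hnil p S hle hdvd
    apply le_antisymm
    · exact (Nat.factorization_le_iff_dvd hneD hneM).mpr (Subgroup.card_dvd_of_le inf_le_right) p
    · by_cases hpM : p ∣ Nat.card M
      · rcases dichotomy hB hM hpM X hX with hle | ⟨P, hP, hc⟩
        · exact absurd hle hXM
        · have hinf : (P : Subgroup G) ⊓ M ≤ X := by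
            rcases cyclic_total (C := (P : Subgroup G)) P.isPGroup'
              (((P : Subgroup G) ⊓ M).subgroupOf P) (X.subgroupOf P) with hl | hl
            · intro x hx
              have := @hl ⟨x, hx.1⟩ (by rw [Subgroup.mem_subgroupOf]; exact hx)
              rw [Subgroup.mem_subgroupOf] at this
              exact this
            · exfalso
              apply hXM
              intro x hx
              have := @hl ⟨x, hP hx⟩ (by simpa [Subgroup.mem_subgroupOf] using hx)
              rw [Subgroup.mem_subgroupOf] at this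
              exact this.2
          have hXL : X ≤ L := Subgroup.map_subtype_le _
          have hle : (P : Subgroup G) ⊓ M ≤ L ⊓ M := le_inf (hinf.trans hXL) inf_le_right
          calc (Nat.card M).factorization p
              ≤ (Nat.card ((P : Subgroup G) ⊓ M : Subgroup G)).factorization p :=
                fact_le_inf_sylow M P
            _ ≤ _ := (Nat.factorization_le_iff_dvd Nat.card_pos.ne' hneD).mpr
                (Subgroup.card_dvd_of_le hle) p
      · rw [Nat.factorization_eq_zero_of_not_dvd hpM]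
        exact Nat.zero_le _
  · apply Nat.factorization_eq_zero_of_not_dvd
    intro hpD
    have hdvd : p ∣ Nat.card L := hpD.trans (Subgroup.card_dvd_of_le inf_le_left)
    have hle : X ≤ M := by
      intro x hx
      have hxL : x ∈ L := Subgroup.map_subtype_le _ hx
      have hx' : QuotientGroup.mk' M x ∈ A := h.map_eq ▸ Subgroup.mem_map_of_mem _ hxL
      obtain ⟨k, hk⟩ := IsPGroup.iff_orderOf.mp hX ⟨x, hx⟩
      have h1 : orderOf (QuotientGroup.mk' M x) ∣ p ^ k := by
        rw [← hk, Subgroup.orderOf_mk]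
        exact orderOf_map_dvd _ _
      have h2 : orderOf (QuotientGroup.mk' M x) ∣ Nat.card A := by
        have := Subgroup.orderOf_dvd_natCard A hx'
        exact this
      have h3 : (Nat.card A).Coprime (p ^ k) :=
        Nat.Coprime.pow_right _ (((Nat.Prime.coprime_iff_not_dvd hp).mpr hpn).symm)
      have h4 : orderOf (QuotientGroup.mk' M x) = 1 := Nat.eq_one_of_dvd_coprimes h3 h2 h1
      rw [orderOf_eq_one_iff] at h4
      rw [← QuotientGroup.ker_mk' M]
      exact h4
    exact h.not_dvd_of_sylow_le hnil p S hle hdvd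


/-- Let G be a finite group in which any two abelian subgroups of the same order are conjugate. If M is a normal subgroup of G of odd order, then any two abelian subgroups of G/M of the same order are conjugate in G/M. -/
theorem result {G : Type*} [Group G] [Finite G] (hB : ∀ A B : Subgroup G, IsMulCommutative ↥A → IsMulCommutative ↥B → Nat.card ↥A = Nat.card ↥B → ∃ g : G, B = A.map (MulAut.conj g).toMonoidHom) (M : Subgroup G) [M.Normal] (hM : Odd (Nat.card ↥M)) :
    ∀ A B : Subgroup (G ⧸ M), IsMulCommutative ↥A → IsMulCommutative ↥B → Nat.card ↥A = Nat.card ↥B →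
      ∃ g : G ⧸ M, B = A.map (MulAut.conj g).toMonoidHom := by
  intro A B hA hB' hcard
  obtain ⟨LA, hLA⟩ := exists_minLift M A
  obtain ⟨LB, hLB⟩ := exists_minLift M B
  have hcommA : IsMulCommutative LA := ⟨⟨fun x y =>
    comm_of_sylow (hLA.isNilpotent hA) (fun p _ S => sylow_comm hB hM hA hLA p S) x y⟩⟩
  have hcommB : IsMulCommutative LB := ⟨⟨fun x y =>
    comm_of_sylow (hLB.isNilpotent hB') (fun p _ S => sylow_comm hB hM hB' hLB p S) x y⟩⟩
  have hD : Nat.card (LA ⊓ M : Subgroup G) = Nat.card (LB ⊓ M : Subgroup G) := by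
    apply Nat.eq_of_factorization_eq Nat.card_pos.ne' Nat.card_pos.ne'
    intro p
    by_cases hp : p.Prime
    · rw [fact_D hB hM hA hLA p hp, fact_D hB hM hB' hLB p hp, hcard]
    · rw [Nat.factorization_eq_zero_of_not_prime _ hp, Nat.factorization_eq_zero_of_not_prime _ hp]
  have hL : Nat.card LA = Nat.card LB := by
    rw [card_eq_map_mul_inf (M := M) LA, card_eq_map_mul_inf (M := M) LB, hLA.map_eq, hLB.map_eq, hD,
      hcard]
  obtain ⟨g, hg⟩ := hB LA LB hcommA hcommB hL
  refine ⟨QuotientGroup.mk' M g, ?_⟩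
  rw [← hLB.map_eq, ← hLA.map_eq, hg, Subgroup.map_map, Subgroup.map_map]
  congr 1

end Cfsg.Agent.S3911
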