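import Mathlib
import Cfsg.Statements.S3912
import Cfsg.Agent.S3911
import Cfsg.Agent.S3908
import Cfsg.Agent.Lib.FpfGeneral
import Cfsg.Agent.Lib.PCore
import Cfsg.Agent.Lib.MinNorm
-- import your own Cfsg.Agent.* helpers here

set_option autoImplicit false
open Cfsg

namespace Cfsg.Agent.S3912


open Cfsg.Agent.Lib.PCore Cfsg.Agent.S3911 Cfsg.Agent.Lib.FpfGeneral

theorem comm_map {X Y : Type*} [Group X] [Group Y] (f : X →* Y) (A : Subgroup X)
    (hA : IsMulCommutative A) : IsMulCommutative (A.map f) := ⟨⟨by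
  rintro ⟨_, x, hx, rfl⟩ ⟨_, y, hy, rfl⟩
  apply Subtype.ext
  have h1 := hA.is_comm.comm ⟨x, hx⟩ ⟨y, hy⟩
  have h2 : x * y = y * x := congrArg Subtype.val h1
  show f x * f y = f y * f x
  rw [← map_mul, ← map_mul, h2]⟩⟩

theorem HB_of_equiv {X Y : Type*} [Group X] [Group Y] (e : X ≃* Y) (h : HB X) : HB Y := by
  intro A B hA hB' hcard
  have hinj : Function.Injective (e.symm.toMonoidHom) := e.symm.injective
  obtain ⟨g, hg⟩ := h (A.map e.symm.toMonoidHom) (B.map e.symm.toMonoidHom) (comm_map _ _ hA)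
    (comm_map _ _ hB') (by
      rw [Subgroup.card_map_of_injective hinj, Subgroup.card_map_of_injective hinj, hcard])
  refine ⟨e g, ?_⟩
  have h1 : B = (B.map e.symm.toMonoidHom).map e.toMonoidHom := by
    rw [Subgroup.map_map]
    have : e.toMonoidHom.comp e.symm.toMonoidHom = MonoidHom.id Y := by ext; simp
    rw [this, Subgroup.map_id]
  rw [h1, hg, Subgroup.map_map, Subgroup.map_map]
  congr 1
  ext x
  simp

/-- Variant of `mem_of_order_prime` for any order. -/
theorem mem_of_orderOf_eq {X : Type*} [Group X] (hB : HB X) (M : Subgroup X) [hMn : M.Normal]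
    {x y : X} (hx : x ∈ M) (hxy : orderOf y = orderOf x) : y ∈ M := by
  obtain ⟨g, hg⟩ := hB (Subgroup.zpowers x) (Subgroup.zpowers y) inferInstance inferInstance
    (by rw [Nat.card_zpowers, Nat.card_zpowers, hxy])
  have h1 : y ∈ (Subgroup.zpowers x).map (MulAut.conj g).toMonoidHom :=
    hg ▸ Subgroup.mem_zpowers y
  obtain ⟨z, hz, rfl⟩ := h1
  have h2 : z ∈ M := (Subgroup.zpowers_le.mpr hx) hz
  simpa using hMn.conj_mem _ h2 g

theorem zpowers_eq_of_cyclic {X : Type*} [Group X] (C : Subgroup X) [Finite C] [IsCyclic C] {u v : X}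
    (hu : u ∈ C) (hv : v ∈ C) (h : orderOf u = orderOf v) :
    Subgroup.zpowers u = Subgroup.zpowers v := by
  have h1 := eq_of_card_eq_of_isCyclic (Subgroup.zpowers (⟨u, hu⟩ : C))
    (Subgroup.zpowers (⟨v, hv⟩ : C)) (by
      rw [Nat.card_zpowers, Nat.card_zpowers, ← Subgroup.orderOf_coe, ← Subgroup.orderOf_coe]
      exact h)
  have h2 := congrArg (Subgroup.map C.subtype) h1
  rwa [MonoidHom.map_zpowers, MonoidHom.map_zpowers] at h2

section Quat

open QuaternionGroup

variable {k : ℕ}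

local notation "Q" => QuaternionGroup (2 ^ k)

theorem Q_mem_a (w : Q) (hw : w ∈ Subgroup.zpowers (a 1 : Q)) : ∃ i, w = a i := by
  obtain ⟨m, rfl⟩ := hw
  show ∃ i, (a 1 : Q) ^ m = a i
  cases m with
  | ofNat n => exact ⟨n, by simp [a_one_pow]⟩
  | negSucc n =>
    refine ⟨-((n + 1 : ℕ) : ZMod (2 * 2 ^ k)), ?_⟩
    rw [zpow_negSucc, a_one_pow]
    apply inv_eq_of_mul_eq_one_right
    rw [a_mul_a, add_neg_cancel]
    rfl

theorem Q_a_mem (i : ZMod (2 * 2 ^ k)) : (a i : Q) ∈ Subgroup.zpowers (a 1 : Q) := by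
  have : NeZero (2 * 2 ^ k) := ⟨by positivity⟩
  refine ⟨(i.val : ℤ), ?_⟩
  show (a 1 : Q) ^ ((i.val : ℤ)) = a i
  rw [zpow_natCast, a_one_pow, ZMod.natCast_zmod_val]

theorem Q_order8 (hk : 2 ≤ k) : ∃ g : Q, orderOf g = 8 := by
  refine ⟨(a 1 : Q) ^ (2 ^ (k - 2)), ?_⟩
  obtain ⟨j, rfl⟩ : ∃ j, k = j + 2 := ⟨k - 2, by omega⟩
  have h1 : orderOf (a 1 : QuaternionGroup (2 ^ (j + 2))) = 2 * 2 ^ (j + 2) := orderOf_a_one
  rw [orderOf_pow_of_dvd (by positivity) (by rw [h1]; simp only [Nat.add_sub_cancel]; exact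
    ⟨8, by ring⟩), h1]
  simp only [Nat.add_sub_cancel]
  have : 2 * 2 ^ (j + 2) = 2 ^ j * 8 := by ring
  rw [this, Nat.mul_div_cancel_left _ (by positivity)]

theorem Q_mem_of_order8 (g : Q) (hg : orderOf g = 8) : g ∈ Subgroup.zpowers (a 1 : Q) := by
  have : NeZero (2 ^ k) := ⟨by positivity⟩
  rcases g with i | i
  · exact Q_a_mem i
  · rw [orderOf_xa] at hg
    omega

theorem Q_zpowers_unique (g₁ g₂ : Q) (h₁ : orderOf g₁ = 8) (h₂ : orderOf g₂ = 8) :
    Subgroup.zpowers (g₁ ^ 2) = Subgroup.zpowers (g₂ ^ 2) := by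
  have : NeZero (2 ^ k) := ⟨by positivity⟩
  have : Finite (Subgroup.zpowers (a 1 : Q)) := inferInstance
  apply zpowers_eq_of_cyclic (Subgroup.zpowers (a 1 : Q))
  · exact Subgroup.pow_mem _ (Q_mem_of_order8 g₁ h₁) 2
  · exact Subgroup.pow_mem _ (Q_mem_of_order8 g₂ h₂) 2
  · rw [orderOf_pow_of_dvd (by norm_num) (by rw [h₁]; norm_num),
      orderOf_pow_of_dvd (by norm_num) (by rw [h₂]; norm_num), h₁, h₂]

theorem Q_xa_not_mem (g : Q) (hg : orderOf g = 8) (i : ZMod (2 * 2 ^ k)) :
    (xa i : Q) ∉ Subgroup.zpowers (g ^ 2) := by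
  intro hx
  have h1 : Subgroup.zpowers (g ^ 2) ≤ Subgroup.zpowers (a 1 : Q) := by
    rw [Subgroup.zpowers_le]
    exact Subgroup.pow_mem _ (Q_mem_of_order8 g hg) 2
  obtain ⟨j, hj⟩ := Q_mem_a _ (h1 hx)
  cases hj

theorem Q_sq_eq_one (g : Q) (hg : g ^ 2 = 1) : g = 1 ∨ g = a ((2 ^ k : ℕ) : ZMod (2 * 2 ^ k)) := by
  have : NeZero (2 ^ k) := ⟨by positivity⟩
  have : NeZero (2 * 2 ^ k) := ⟨by positivity⟩
  rcases g with i | i
  · rw [pow_two, a_mul_a, one_def] at hg
    have h1 : i + i = 0 := a.inj hg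
    have h2 : ((i.val + i.val : ℕ) : ZMod (2 * 2 ^ k)) = 0 := by
      push_cast; rw [ZMod.natCast_zmod_val]; exact h1
    rw [ZMod.natCast_eq_zero_iff] at h2
    have h3 : i.val < 2 * 2 ^ k := ZMod.val_lt i
    obtain ⟨c, hc⟩ := h2
    have hpos : 0 < 2 ^ k := by positivity
    have hc' : c = 0 ∨ c = 1 := by
      have : c < 2 := by
        by_contra hcc
        have : 2 ≤ c := by omega
        have : 2 * 2 ^ k * 2 ≤ 2 * 2 ^ k * c := Nat.mul_le_mul_left _ this
        omega
      omega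
    rcases hc' with rfl | rfl
    · left
      have : i.val = 0 := by omega
      rw [one_def, ZMod.val_eq_zero] at *
      rw [this]
    · right
      have h4 : i.val = 2 ^ k := by omega
      have h5 : ((i.val : ℕ) : ZMod (2 * 2 ^ k)) = i := ZMod.natCast_zmod_val i
      have h6 : ((2 ^ k : ℕ) : ZMod (2 * 2 ^ k)) = i :=
        (congrArg (Nat.cast : ℕ → ZMod (2 * 2 ^ k)) h4).symm.trans h5
      rw [h6]
  · exfalso
    have h1 := orderOf_dvd_of_pow_eq_one hg
    rw [orderOf_xa] at h1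
    omega

theorem Q_xa_sq_ne (i : ZMod (2 * 2 ^ k)) : (xa i : Q) ^ 2 ≠ 1 := by
  have : NeZero (2 ^ k) := ⟨by positivity⟩
  intro hg
  have h1 := orderOf_dvd_of_pow_eq_one hg
  rw [orderOf_xa] at h1
  omega

/-- A normal copy of a generalized quaternion group of order at least `16` contradicts `HB`. -/
theorem no_normal_Q {X : Type*} [Group X] (hB : HB X) (hk : 2 ≤ k) (F : Q →* X)
    (hF : Function.Injective F) (hn : F.range.Normal) : False := by
  have : NeZero (2 ^ k) := ⟨by positivity⟩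
  obtain ⟨g, hg⟩ := Q_order8 (k := k) hk
  set D : Subgroup X := Subgroup.zpowers ((F g) ^ 2) with hD
  have hDconj : ∀ t : X, D.map (MulAut.conj t).toMonoidHom = D := by
    intro t
    have hmem : t * F g * t⁻¹ ∈ F.range := hn.conj_mem _ ⟨g, rfl⟩ t
    obtain ⟨g', hg'⟩ := hmem
    have hord : orderOf g' = 8 := by
      rw [← orderOf_injective F hF g', hg', ← hg, ← orderOf_injective F hF g]
      have := orderOf_injective (MulAut.conj t).toMonoidHom (MulAut.conj t).injective (F g)
      simpa using this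
    have h1 := Q_zpowers_unique g' g hord hg
    have h2 := congrArg (Subgroup.map F) h1
    rw [MonoidHom.map_zpowers, MonoidHom.map_zpowers, map_pow, map_pow, hg'] at h2
    rw [hD, MonoidHom.map_zpowers, ← h2]
    congr 1
    simp [pow_two]
  have hy : orderOf (F (xa 0 : Q)) = orderOf ((F g) ^ 2) := by
    rw [orderOf_injective F hF, ← map_pow, orderOf_injective F hF, orderOf_xa,
      orderOf_pow_of_dvd (by norm_num) (by rw [hg]; norm_num), hg]
  obtain ⟨t, ht⟩ := hB D (Subgroup.zpowers (F (xa 0 : Q))) inferInstance inferInstance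
    (by rw [Nat.card_zpowers, Nat.card_zpowers, hy])
  rw [hDconj t] at ht
  have h3 : F (xa 0 : Q) ∈ D := ht ▸ Subgroup.mem_zpowers _
  rw [hD, ← map_pow, ← MonoidHom.map_zpowers] at h3
  obtain ⟨w, hw, hwF⟩ := h3
  have := hF hwF
  subst this
  exact Q_xa_not_mem g hg 0 hw

/-- A Sylow 2-subgroup of a solvable `HB`-group with trivial `O_{2'}` which is generalized
quaternion of order at least 8 is normal. -/
theorem range_normal {X : Type*} [Group X] [Finite X] [Group.IsSolvable X] (hB : HB X)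
    (h2 : pPrimeCore 2 X = ⊥) (P : Sylow 2 X) (F : Q →* X)
    (hF : Function.Injective F) (hrange : F.range = (P : Subgroup X)) : F.range.Normal := by
  have : NeZero (2 ^ k) := ⟨by positivity⟩
  have : NeZero (2 * 2 ^ k) := ⟨by positivity⟩
  have : Fact (Nat.Prime 2) := ⟨Nat.prime_two⟩
  set R := pCore 2 X with hRdef
  have hRP : R ≤ F.range := by rw [hrange]; exact pCore_le_sylow 2 P
  have hRp : IsPGroup 2 R := isPGroup_pCore 2
  have hclaim1 : ∃ r ∈ R, orderOf r = 4 := by
    by_contra hcon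
    push Not at hcon
    have hR : ∀ r ∈ R, r ^ 2 = 1 := by
      intro r hr
      obtain ⟨j, hj⟩ := IsPGroup.iff_orderOf.mp hRp ⟨r, hr⟩
      rw [Subgroup.orderOf_mk] at hj
      by_cases hj2 : 2 ≤ j
      · exfalso
        obtain ⟨i, rfl⟩ : ∃ i, j = i + 2 := ⟨j - 2, by omega⟩
        apply hcon (r ^ (2 ^ i)) (Subgroup.pow_mem _ hr _)
        rw [orderOf_pow_of_dvd (by positivity) (by rw [hj]; exact ⟨4, by ring⟩), hj]
        have : 2 ^ (i + 2) = 2 ^ i * 4 := by ring
        rw [this, Nat.mul_div_cancel_left _ (by positivity)]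
      · have : orderOf r ∣ 2 := by
          rw [hj]
          have : j ≤ 1 := by omega
          calc 2 ^ j ∣ 2 ^ 1 := pow_dvd_pow 2 this
            _ = 2 := by norm_num
        exact orderOf_dvd_iff_pow_eq_one.mp this
    set z : Q := a ((2 ^ k : ℕ) : ZMod (2 * 2 ^ k)) with hz
    have hR2 : ∀ r ∈ R, r = 1 ∨ r = F z := by
      intro r hr
      obtain ⟨w, rfl⟩ := hRP hr
      have h1 : w ^ 2 = 1 := by
        apply hF
        rw [map_pow, map_one]
        exact hR _ hr
      rcases Q_sq_eq_one w h1 with rfl | rfl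
      · left; simp
      · right; rfl
    have hcen : ∀ r ∈ R, ∀ t : X, t * r * t⁻¹ = r := by
      intro r hr t
      have h1 := (inferInstance : R.Normal).conj_mem r hr t
      rcases hR2 r hr with rfl | hrz
      · simp
      · rcases hR2 _ h1 with h3 | h3
        · have h4 : r = 1 := by
            rw [mul_inv_eq_one] at h3
            simpa using h3
          rw [h3, h4]
        · rw [h3, hrz]
    have htop : Subgroup.centralizer (R : Set X) = ⊤ := by
      rw [eq_top_iff]
      intro t _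
      rw [Subgroup.mem_centralizer_iff]
      intro r hr
      have := hcen r hr t
      rw [mul_inv_eq_iff_eq_mul] at this
      exact this.symm
    have hle := centralizer_pCore_le (G := X) 2 h2
    rw [htop] at hle
    have hmem : F (xa 0 : Q) ∈ R := hle (Subgroup.mem_top _)
    have h1 := hR _ hmem
    apply Q_xa_sq_ne (k := k) (0 : ZMod (2 * 2 ^ k))
    apply hF
    rw [map_pow, map_one, h1]
  obtain ⟨r, hr, hr4⟩ := hclaim1
  have hclaim2 : ∀ y : X, orderOf y = 4 → y ∈ R := fun y hy =>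
    mem_of_orderOf_eq hB R hr (by rw [hy, hr4])
  have hxa : ∀ i : ZMod (2 * 2 ^ k), F (xa i : Q) ∈ R := fun i =>
    hclaim2 _ (by rw [orderOf_injective F hF, orderOf_xa])
  have ha1 : F (a 1 : Q) ∈ R := by
    have h1 : (a 1 : Q) = (xa 0 : Q)⁻¹ * xa 1 := by
      rw [eq_inv_mul_iff_mul_eq, xa_mul_a, zero_add]
    rw [h1, map_mul, map_inv]
    exact R.mul_mem (R.inv_mem (hxa 0)) (hxa 1)
  have hall : F.range ≤ R := by
    rintro _ ⟨w, rfl⟩
    rcases w with i | i
    · have h1 : (a i : Q) = (a 1 : Q) ^ i.val := by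
        rw [a_one_pow, ZMod.natCast_zmod_val]
      show F (a i) ∈ R
      rw [h1, map_pow]
      exact R.pow_mem ha1 _
    · exact hxa i
  have heq : F.range = R := le_antisymm hall hRP
  rw [heq]
  infer_instance

/-- No generalized quaternion Sylow `2`-subgroup of order at least `16`. -/
theorem no_Q {G : Type*} [Group G] [Finite G] [hsol : Group.IsSolvable G] (hB : HB G)
    (P : Sylow 2 G) (hk : 2 ≤ k) (φ : (P : Subgroup G) ≃* Q) : False := by
  have : Fact (Nat.Prime 2) := ⟨Nat.prime_two⟩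
  set K := pPrimeCore 2 G with hK
  have hodd : Odd (Nat.card K) := by
    apply Nat.Coprime.odd_of_right
    exact card_pPrimeCore_coprime 2
  have hB' : HB (G ⧸ K) := Cfsg.Agent.S3911.result hB K hodd
  have h2 : pPrimeCore 2 (G ⧸ K) = ⊥ := pPrimeCore_quotient_pPrimeCore 2
  have hsurj := QuotientGroup.mk'_surjective K
  set F : Q →* G ⧸ K := (QuotientGroup.mk' K).comp ((P : Subgroup G).subtype.comp φ.symm.toMonoidHom)
    with hFdef
  have hPK : (P : Subgroup G) ⊓ K = ⊥ := by
    apply eq_bot_of_isPGroup_of_coprime (P.isPGroup'.to_le inf_le_left)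
    refine Nat.Coprime.coprime_dvd_left (Subgroup.card_dvd_of_le inf_le_right) ?_
    exact card_pPrimeCore_coprime 2
  have hF : Function.Injective F := by
    rw [injective_iff_map_eq_one]
    intro w hw
    have h1 : ((φ.symm w : (P : Subgroup G)) : G) ∈ K := by
      rw [← QuotientGroup.ker_mk' K]
      exact hw
    have h2 : ((φ.symm w : (P : Subgroup G)) : G) ∈ (P : Subgroup G) ⊓ K := ⟨(φ.symm w).2, h1⟩
    rw [hPK, Subgroup.mem_bot] at h2
    have h3 : φ.symm w = 1 := Subtype.ext h2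
    simpa using h3
  have hrange : F.range = ((P.mapSurjective hsurj : Sylow 2 (G ⧸ K)) : Subgroup (G ⧸ K)) := by
    rw [Sylow.coe_mapSurjective]
    ext x
    constructor
    · rintro ⟨w, rfl⟩
      exact ⟨_, (φ.symm w).2, rfl⟩
    · rintro ⟨y, hy, rfl⟩
      exact ⟨φ ⟨y, hy⟩, by simp [hFdef]⟩
  have : Group.IsSolvable (G ⧸ K) := inferInstance
  exact no_normal_Q hB' hk F hF (range_normal hB' h2 _ F hF hrange)

end Quat


section Lift

variable {G : Type*} [Group G] [Finite G]
variable {N : Subgroup G} [hNn : N.Normal] {A : Subgroup (G ⧸ N)} {L : Subgroup G}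

theorem comm_of_coprime (hA : IsMulCommutative A) (h : MinLift N A L) (X : Subgroup L)
    (hc : (Nat.card X).Coprime (Nat.card N)) : ∀ x ∈ X, ∀ y ∈ X, x * y = y * x := by
  intro x hx y hy
  set c : L := x * y * x⁻¹ * y⁻¹ with hcdef
  have hcX : c ∈ X := X.mul_mem (X.mul_mem (X.mul_mem hx hy) (X.inv_mem hx)) (X.inv_mem hy)
  have h1 : orderOf c ∣ Nat.card X := Subgroup.orderOf_dvd_natCard X hcX
  have hcN : (c : G) ∈ N := comm_image hA h x y
  have h2 : orderOf (c : G) ∣ Nat.card N := Subgroup.orderOf_dvd_natCard N hcN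
  have h3 : orderOf (c : G) = orderOf c := Subgroup.orderOf_coe c
  have h4 : orderOf c = 1 := Nat.eq_one_of_dvd_coprimes hc h1 (h3 ▸ h2)
  rw [orderOf_eq_one_iff] at h4
  have h5 : x * y * x⁻¹ * y⁻¹ * (y * x) = y * x := by rw [← hcdef, h4, one_mul]
  rw [← h5]
  group

theorem comm_of_two (hA : IsMulCommutative A) (h : MinLift N A L) (hN2 : IsPGroup 2 N)
    (hS : ∀ S : Sylow 2 L, ∀ x ∈ (S : Subgroup L), ∀ y ∈ (S : Subgroup L), x * y = y * x) :
    IsMulCommutative L :=
  ⟨⟨fun x y => comm_of_sylow (h.isNilpotent hA) (fun p _ S => by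
    by_cases hp : p = 2
    · subst hp; exact hS S
    · refine comm_of_coprime hA h S ?_
      obtain ⟨a, ha⟩ := IsPGroup.iff_card.mp S.isPGroup'
      obtain ⟨b, hb⟩ := IsPGroup.iff_card.mp hN2
      rw [ha, hb]
      exact Nat.Coprime.pow _ _ ((Nat.coprime_primes Fact.out Nat.prime_two).mpr hp)) x y⟩⟩

theorem le_of_not_dvd (h : MinLift N A L) {p : ℕ} [hp : Fact p.Prime] (X : Subgroup G) (hXL : X ≤ L)
    (hX : IsPGroup p X) (hpA : ¬ p ∣ Nat.card A) : X ≤ N := by
  intro x hx
  have hx' : QuotientGroup.mk' N x ∈ A := h.map_eq ▸ Subgroup.mem_map_of_mem _ (hXL hx)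
  obtain ⟨k, hk⟩ := IsPGroup.iff_orderOf.mp hX ⟨x, hx⟩
  have h1 : orderOf (QuotientGroup.mk' N x) ∣ p ^ k := by
    rw [← hk, Subgroup.orderOf_mk]
    exact orderOf_map_dvd _ _
  have h2 : orderOf (QuotientGroup.mk' N x) ∣ Nat.card A := Subgroup.orderOf_dvd_natCard A hx'
  have h3 : (Nat.card A).Coprime (p ^ k) :=
    Nat.Coprime.pow_right _ (((Nat.Prime.coprime_iff_not_dvd hp.out).mpr hpA).symm)
  have h4 : orderOf (QuotientGroup.mk' N x) = 1 := Nat.eq_one_of_dvd_coprimes h3 h2 h1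
  rw [orderOf_eq_one_iff] at h4
  rw [← QuotientGroup.ker_mk' N]
  exact h4

theorem card_L (h : MinLift N A L) :
    Nat.card L = Nat.card A * Nat.card (L ⊓ N : Subgroup G) := by
  rw [card_eq_map_mul_inf (M := N) L, h.map_eq]

theorem card_inf_H (hA : IsMulCommutative A) (h : MinLift N A L) (hN2 : IsPGroup 2 N)
    (hH : ∀ X : Subgroup G, IsPGroup 2 X → X ≤ N ∨ N ≤ X) :
    Nat.card (L ⊓ N : Subgroup G) = if 2 ∣ Nat.card A then Nat.card N else 1 := by
  have : Fact (Nat.Prime 2) := ⟨Nat.prime_two⟩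
  have hnil := h.isNilpotent hA
  obtain ⟨S⟩ : Nonempty (Sylow 2 L) := inferInstance
  set X := (S : Subgroup L).map L.subtype with hXdef
  have hX : IsPGroup 2 X := S.isPGroup'.map L.subtype
  have hXL : X ≤ L := Subgroup.map_subtype_le _
  split_ifs with h2
  · have hd : 2 ∣ Nat.card L := (card_L h) ▸ dvd_mul_of_dvd_left h2 _
    rcases hH X hX with hle | hle
    · exact absurd hd (h.not_dvd_of_sylow_le hnil 2 S hle)
    · rw [inf_eq_right.mpr (hle.trans hXL)]
  · have hle := le_of_not_dvd h X hXL hX h2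
    have hnd := h.not_dvd_of_sylow_le hnil 2 S hle
    have hbot : L ⊓ N = ⊥ := by
      apply eq_bot_of_isPGroup_of_coprime (hN2.to_le inf_le_right)
      refine Nat.Coprime.symm ?_
      apply (Nat.Prime.coprime_iff_not_dvd Nat.prime_two).mpr
      exact fun hd => hnd (hd.trans (Subgroup.card_dvd_of_le inf_le_left))
    rw [hbot]
    simp

theorem exists_hyperplane {C : Type*} [Group C] [Finite C] (hc : ∀ x y : C, x * y = y * x)
    (T : Subgroup C) (hT : ∀ t ∈ T, t ^ 2 = 1) (a : C) (ha : a ≠ 1) :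
    ∃ U : Subgroup C, U ≤ T ∧ a ∉ U ∧ T ≤ U ⊔ Subgroup.zpowers a := by
  have hne : {U : Subgroup C | U ≤ T ∧ a ∉ U}.Nonempty := ⟨⊥, bot_le, by simpa using ha⟩
  obtain ⟨U, ⟨hU1, hU2⟩, hmax⟩ := wellFounded_gt.has_min _ hne
  refine ⟨U, hU1, hU2, fun y hy => ?_⟩
  by_cases hyU : y ∈ U
  · exact Subgroup.mem_sup_left hyU
  · have hlt : U < U ⊔ Subgroup.zpowers y := lt_of_le_of_ne le_sup_left (fun he => hyU (by
      rw [he]; exact Subgroup.mem_sup_right (Subgroup.mem_zpowers y)))
    have hV : U ⊔ Subgroup.zpowers y ≤ T := sup_le hU1 (Subgroup.zpowers_le.mpr hy)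
    have hmem : a ∈ U ⊔ Subgroup.zpowers y := by
      by_contra hcon
      exact hmax _ ⟨hV, hcon⟩ hlt
    have hnorm : (Subgroup.zpowers y).Normal := ⟨fun n hn g => by
      rw [hc g n, mul_assoc, mul_inv_cancel, mul_one]; exact hn⟩
    rw [Subgroup.mem_sup_of_normal_right] at hmem
    obtain ⟨u, hu, w, hw, huw⟩ := hmem
    have hy2 : y ^ (2 : ℤ) = 1 := by exact_mod_cast hT y hy
    have hw' : w = 1 ∨ w = y := by
      obtain ⟨m, rfl⟩ := hw
      show y ^ m = 1 ∨ y ^ m = y
      rcases Int.even_or_odd' m with ⟨r, rfl | rfl⟩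
      · left
        rw [zpow_mul, hy2, one_zpow]
      · right
        rw [zpow_add, zpow_mul, hy2, one_zpow, one_mul, zpow_one]
    rcases hw' with rfl | rfl
    · exfalso
      rw [mul_one] at huw
      exact hU2 (huw ▸ hu)
    · have : w = u⁻¹ * a := by
        rw [← huw]; group
      rw [this]
      have hnorm2 : (Subgroup.zpowers a).Normal := ⟨fun n hn g => by
        rw [hc g n, mul_assoc, mul_inv_cancel, mul_one]; exact hn⟩
      exact Subgroup.mul_mem _ (Subgroup.mem_sup_left (U.inv_mem hu))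
        (Subgroup.mem_sup_right (Subgroup.mem_zpowers a))

theorem inf_eq_bot_of_exp (hA : IsMulCommutative A) (h : MinLift N A L)
    (hN : ∀ x ∈ N, x ^ 2 = 1) (hLc : ∀ x y : L, x * y = y * x)
    (hS : ∀ S : Sylow 2 L, ∀ s ∈ (S : Subgroup L), s ^ 2 = 1) : L ⊓ N = ⊥ := by
  have : Fact (Nat.Prime 2) := ⟨Nat.prime_two⟩
  have hnil := h.isNilpotent hA
  have hnorm : ∀ (q : ℕ), Fact q.Prime → ∀ Q : Sylow q L, (Q : Subgroup L).Normal :=
    ((Group.isNilpotent_of_finite_tfae (G := L)).out 0 3).mp hnil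
  rw [eq_bot_iff]
  rintro a0 ⟨ha0L, ha0N⟩
  rw [Subgroup.mem_bot]
  by_contra hne
  set a : L := ⟨a0, ha0L⟩ with hadef
  have ha1 : a ≠ 1 := fun he => hne (congrArg Subtype.val he)
  have ha2 : a ^ 2 = 1 := Subtype.ext (hN a0 ha0N)
  obtain ⟨S⟩ : Nonempty (Sylow 2 L) := inferInstance
  have haS : a ∈ (S : Subgroup L) := by
    have hp : IsPGroup 2 (Subgroup.zpowers a) := by
      rw [IsPGroup.iff_card, Nat.card_zpowers]
      refine ⟨1, ?_⟩
      rw [pow_one]
      exact orderOf_eq_prime ha2 ha1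
    obtain ⟨S', hS'⟩ := hp.exists_le_sylow
    have huniq := Sylow.unique_of_normal S (hnorm 2 inferInstance S)
    have : S' = S := Subsingleton.elim _ _
    rw [← this]
    exact hS' (Subgroup.mem_zpowers a)
  obtain ⟨U, hUT, haU, hTU⟩ := exists_hyperplane hLc S (hS S) a ha1
  set K := pPrimeCore 2 L with hK
  have hsup : (U ⊔ K) ⊔ Subgroup.zpowers a = ⊤ := by
    apply eq_top_of_forall_sylow_le
    intro q _
    by_cases hq : q = 2
    · subst hq
      refine ⟨S, hTU.trans (sup_le (le_sup_left.trans le_sup_left) le_sup_right)⟩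
    · obtain ⟨Q⟩ : Nonempty (Sylow q L) := inferInstance
      refine ⟨Q, le_trans (le_pPrimeCore (hnorm q inferInstance Q) ?_)
        (le_sup_right.trans le_sup_left)⟩
      obtain ⟨k, hk⟩ := IsPGroup.iff_card.mp Q.isPGroup'
      rw [hk]
      exact Nat.Coprime.pow_left _ ((Nat.coprime_primes (Fact.out) (Fact.out)).mpr hq)
  have htop := h.eq_top_of_sup (T := Subgroup.zpowers a) (by
    rw [MonoidHom.map_zpowers, Subgroup.zpowers_le]
    exact ha0N) hsup
  have hmem : a ∈ U ⊔ K := htop ▸ Subgroup.mem_top a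
  rw [Subgroup.mem_sup_of_normal_right] at hmem
  obtain ⟨u, hu, k, hk, huk⟩ := hmem
  have hkS : k ∈ (S : Subgroup L) := by
    have : k = u⁻¹ * a := by rw [← huk]; group
    rw [this]
    exact Subgroup.mul_mem _ (Subgroup.inv_mem _ (hUT hu)) haS
  have hk2 : orderOf k ∣ 2 := orderOf_dvd_of_pow_eq_one (hS S k hkS)
  have hk3 : orderOf k ∣ Nat.card K := Subgroup.orderOf_dvd_natCard K hk
  have hk4 : orderOf k = 1 :=
    Nat.eq_one_of_dvd_coprimes (card_pPrimeCore_coprime (G := L) 2) hk3 hk2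
  rw [orderOf_eq_one_iff] at hk4
  rw [hk4, mul_one] at huk
  exact haU (huk ▸ hu)

/-- The decomposition of a minimal lift into its Sylow `2`-part and its odd part. -/
theorem decomp (hA : IsMulCommutative A) (h : MinLift N A L) (hN2 : IsPGroup 2 N) (S : Sylow 2 L) :
    (S : Subgroup L).map L.subtype ⊔ (pPrimeCore 2 L).map L.subtype = L ∧
    (∀ x ∈ (S : Subgroup L).map L.subtype, ∀ y ∈ (pPrimeCore 2 L).map L.subtype, x * y = y * x) ∧
    IsMulCommutative ((pPrimeCore 2 L).map L.subtype) ∧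
    Nat.card L = Nat.card S * Nat.card (pPrimeCore 2 L) := by
  have : Fact (Nat.Prime 2) := ⟨Nat.prime_two⟩
  have hnil := h.isNilpotent hA
  have hnorm : ∀ (q : ℕ), Fact q.Prime → ∀ Q : Sylow q L, (Q : Subgroup L).Normal :=
    ((Group.isNilpotent_of_finite_tfae (G := L)).out 0 3).mp hnil
  set K := pPrimeCore 2 L with hK
  have hSn : (S : Subgroup L).Normal := hnorm 2 inferInstance S
  have hsup : K ⊔ (S : Subgroup L) = ⊤ := by
    apply eq_top_of_forall_sylow_le
    intro q _
    by_cases hq : q = 2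
    · subst hq
      exact ⟨S, le_sup_right⟩
    · obtain ⟨Q⟩ : Nonempty (Sylow q L) := inferInstance
      refine ⟨Q, le_trans (le_pPrimeCore (hnorm q inferInstance Q) ?_) le_sup_left⟩
      obtain ⟨k, hk⟩ := IsPGroup.iff_card.mp Q.isPGroup'
      rw [hk]
      exact Nat.Coprime.pow_left _ ((Nat.coprime_primes (Fact.out) (Fact.out)).mpr hq)
  have hKodd : (Nat.card K).Coprime 2 := card_pPrimeCore_coprime 2
  have hScard : ∃ a, Nat.card S = 2 ^ a := IsPGroup.iff_card.mp S.isPGroup'
  have hcop : (Nat.card K).Coprime (Nat.card S) := by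
    obtain ⟨a, ha⟩ := hScard
    rw [ha]
    exact Nat.Coprime.pow_right _ hKodd
  have hdisj : Disjoint (S : Subgroup L) K := by
    rw [disjoint_iff]
    apply eq_bot_of_isPGroup_of_coprime (S.isPGroup'.to_le inf_le_left)
    exact Nat.Coprime.coprime_dvd_left (Subgroup.card_dvd_of_le inf_le_right) hKodd
  refine ⟨?_, ?_, ?_, ?_⟩
  · rw [← Subgroup.map_sup, sup_comm, hsup, ← MonoidHom.range_eq_map, Subgroup.range_subtype]
  · rintro _ ⟨x, hx, rfl⟩ _ ⟨y, hy, rfl⟩
    have := Subgroup.commute_of_normal_of_disjoint _ _ hSn inferInstance hdisj x y hx hy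
    exact congrArg Subtype.val this.eq
  · refine ⟨⟨?_⟩⟩
    rintro ⟨_, x, hx, rfl⟩ ⟨_, y, hy, rfl⟩
    apply Subtype.ext
    have hc : (Nat.card K).Coprime (Nat.card N) := by
      obtain ⟨b, hb⟩ := IsPGroup.iff_card.mp hN2
      rw [hb]
      exact Nat.Coprime.pow_right _ hKodd
    have h5 := comm_of_coprime hA h K hc x hx y hy
    have h6 : (x : G) * (y : G) = (y : G) * (x : G) := congrArg Subtype.val h5
    exact h6
  · apply Nat.dvd_antisymm
    · have h1 := card_sup_dvd (S : Subgroup L) K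
      rw [sup_comm, hsup] at h1
      simpa using h1
    · rw [mul_comm]
      apply Nat.Coprime.mul_dvd_of_dvd_of_dvd hcop
      · exact Subgroup.card_subgroup_dvd_card _
      · exact Subgroup.card_subgroup_dvd_card _

end Lift


section Final

variable {G : Type*} [Group G] [Finite G]
variable {N : Subgroup G} [hNn : N.Normal]

theorem conj_of_lift {A B : Subgroup (G ⧸ N)} {LA LB : Subgroup G}
    (hLA : LA.map (QuotientGroup.mk' N) = A) (hLB : LB.map (QuotientGroup.mk' N) = B) {g : G}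
    (hg : LB = LA.map (MulAut.conj g).toMonoidHom) :
    ∃ g : G ⧸ N, B = A.map (MulAut.conj g).toMonoidHom := by
  refine ⟨QuotientGroup.mk' N g, ?_⟩
  rw [← hLB, ← hLA, hg, Subgroup.map_map, Subgroup.map_map]
  congr 1

/-- Two minimal lifts containing full Sylow 2-subgroups are conjugate. -/
theorem conj_of_full (hB : HB G) {A B : Subgroup (G ⧸ N)} {LA LB : Subgroup G}
    (hA : IsMulCommutative A) (hA' : IsMulCommutative B) (hLA : MinLift N A LA)
    (hLB : MinLift N B LB) (hN2 : IsPGroup 2 N) (hcard : Nat.card LA = Nat.card LB)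
    (SA : Sylow 2 LA) (SB : Sylow 2 LB) (hSA : Nat.card SA = 2 ^ (Nat.card G).factorization 2)
    (hSB : Nat.card SB = 2 ^ (Nat.card G).factorization 2) :
    ∃ g : G, LB = LA.map (MulAut.conj g).toMonoidHom := by
  have : Fact (Nat.Prime 2) := ⟨Nat.prime_two⟩
  obtain ⟨hsupA, hcommA, hYA, hcA⟩ := decomp hA hLA hN2 SA
  obtain ⟨hsupB, hcommB, hYB, hcB⟩ := decomp hA' hLB hN2 SB
  set XA := (SA : Subgroup LA).map LA.subtype with hXA
  set XB := (SB : Subgroup LB).map LB.subtype with hXB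
  set YA := (pPrimeCore 2 LA).map LA.subtype with hYAdef
  set YB := (pPrimeCore 2 LB).map LB.subtype with hYBdef
  have hcardXA : Nat.card XA = Nat.card SA := Subgroup.card_map_of_injective LA.subtype_injective
  have hcardXB : Nat.card XB = Nat.card SB := Subgroup.card_map_of_injective LB.subtype_injective
  have hcardYA : Nat.card YA = Nat.card (pPrimeCore 2 LA) :=
    Subgroup.card_map_of_injective LA.subtype_injective
  have hcardYB : Nat.card YB = Nat.card (pPrimeCore 2 LB) :=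
    Subgroup.card_map_of_injective LB.subtype_injective
  have hYcard : Nat.card YA = Nat.card YB := by
    rw [hcardYA, hcardYB]
    have h1 : Nat.card SA * Nat.card (pPrimeCore 2 LA) = Nat.card SB * Nat.card (pPrimeCore 2 LB) := by
      rw [← hcA, ← hcB, hcard]
    rw [hSA, hSB] at h1
    exact Nat.eq_of_mul_eq_mul_left (by positivity) h1
  obtain ⟨g, hg⟩ := hB YA YB hYA hYB hYcard
  set X1 := XA.map (MulAut.conj g).toMonoidHom with hX1
  set C := Subgroup.centralizer (YB : Set G) with hC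
  have hX1C : X1 ≤ C := by
    rintro _ ⟨x, hx, rfl⟩
    rw [hC, Subgroup.mem_centralizer_iff]
    intro y hy
    have hy' : y ∈ YA.map (MulAut.conj g).toMonoidHom := hg ▸ hy
    obtain ⟨y0, hy0, rfl⟩ := hy'
    have := hcommA x hx y0 hy0
    simp only [MulEquiv.coe_toMonoidHom, MulAut.conj_apply]
    calc g * y0 * g⁻¹ * (g * x * g⁻¹) = g * (y0 * x) * g⁻¹ := by group
      _ = g * (x * y0) * g⁻¹ := by rw [this]
      _ = g * x * g⁻¹ * (g * y0 * g⁻¹) := by group
  have hXBC : XB ≤ C := by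
    intro x hx
    rw [hC, Subgroup.mem_centralizer_iff]
    intro y hy
    exact (hcommB x hx y hy).symm
  have hcardX1 : Nat.card X1 = 2 ^ (Nat.card G).factorization 2 := by
    rw [hX1, Subgroup.card_map_of_injective (MulAut.conj g).injective, hcardXA, hSA]
  let P1 : Sylow 2 G := Sylow.ofCard X1 hcardX1
  let P2 : Sylow 2 G := Sylow.ofCard XB (by rw [hcardXB, hSB])
  have hP1 : (P1 : Subgroup G) = X1 := rfl
  have hP2 : (P2 : Subgroup G) = XB := rfl
  obtain ⟨c, hc⟩ := MulAction.exists_smul_eq C (P1.subtype (hP1 ▸ hX1C)) (P2.subtype (hP2 ▸ hXBC))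
  have h1 : (c : G) • P1 = P2 := by
    have h0 := hc
    rw [Sylow.smul_subtype] at h0
    have h2 := congrArg (fun S : Sylow 2 C => (S : Subgroup C)) h0
    simp only [Sylow.coe_subtype] at h2
    rw [Subgroup.subgroupOf_inj, inf_eq_left.mpr (Sylow.smul_le (hP1 ▸ hX1C) c),
      inf_eq_left.mpr (hP2 ▸ hXBC)] at h2
    exact Sylow.ext h2
  have hcX : XB = X1.map (MulAut.conj (c : G)).toMonoidHom := by
    ext z
    rw [← hP2, ← h1, Sylow.coe_subgroup_smul, mem_conj_smul_iff, Subgroup.mem_map]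
    constructor
    · intro hz
      refine ⟨_, hz, ?_⟩
      simp only [MulEquiv.coe_toMonoidHom, MulAut.conj_apply]
      group
    · rintro ⟨x, hx, rfl⟩
      have hx' : x ∈ (P1 : Subgroup G) := hx
      simpa [mul_assoc] using hx'
  have hYBc : YB.map (MulAut.conj (c : G)).toMonoidHom = YB := by
    ext z
    constructor
    · rintro ⟨y, hy, rfl⟩
      have h1 := (Subgroup.mem_centralizer_iff.mp c.2) y hy
      have h2 : (c : G) * y * (c : G)⁻¹ = y := by
        rw [← h1]; group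
      simpa [h2] using hy
    · intro hz
      refine ⟨z, hz, ?_⟩
      have h1 := (Subgroup.mem_centralizer_iff.mp c.2) z hz
      simp only [MulEquiv.coe_toMonoidHom, MulAut.conj_apply]
      rw [← h1]; group
  refine ⟨c * g, ?_⟩
  have h3 : (MulAut.conj ((c : G) * g)).toMonoidHom
      = (MulAut.conj (c : G)).toMonoidHom.comp (MulAut.conj g).toMonoidHom := by
    ext x; simp [mul_assoc]
  rw [h3, ← Subgroup.map_map]
  conv_lhs => rw [← hsupB]
  conv_rhs => rw [← hsupA]
  rw [Subgroup.map_sup, Subgroup.map_sup, ← hg, hYBc, ← hX1, hcX]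

end Final


section Step

theorem nat_card_Q (n : ℕ) [NeZero n] : Nat.card (QuaternionGroup n) = 4 * n := by
  rw [Nat.card_eq_fintype_card, QuaternionGroup.card]

universe u

variable {G : Type u} [Group G] [Finite G]

theorem sq_comm {X : Type*} [Group X] {S : Subgroup X} (h : ∀ s ∈ S, s ^ 2 = 1) :
    ∀ x ∈ S, ∀ y ∈ S, x * y = y * x := by
  intro x hx y hy
  have h1 : (x * y) ^ 2 = 1 := h _ (S.mul_mem hx hy)
  have h2 : x ^ 2 = 1 := h x hx
  have h3 : y ^ 2 = 1 := h y hy
  rw [pow_two] at h1 h2 h3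
  have hxi : x⁻¹ = x := inv_eq_of_mul_eq_one_left h2
  have hyi : y⁻¹ = y := inv_eq_of_mul_eq_one_left h3
  have hxyi : (x * y)⁻¹ = x * y := inv_eq_of_mul_eq_one_left h1
  calc x * y = (x * y)⁻¹ := hxyi.symm
    _ = y⁻¹ * x⁻¹ := mul_inv_rev x y
    _ = y * x := by rw [hxi, hyi]

theorem hfin_aux (hB : HB G) {N : Subgroup G} [N.Normal] {A B : Subgroup (G ⧸ N)} {LA LB : Subgroup G}
    (hLA : MinLift N A LA) (hLB : MinLift N B LB) (hcA : IsMulCommutative LA)
    (hcB : IsMulCommutative LB) (hcard : Nat.card LA = Nat.card LB) :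
    ∃ g : G ⧸ N, B = A.map (MulAut.conj g).toMonoidHom := by
  obtain ⟨g, hg⟩ := hB LA LB hcA hcB hcard
  exact conj_of_lift hLA.map_eq hLB.map_eq hg

theorem cyclic_case (hB : HB G) {N : Subgroup G} [N.Normal] (hNp : IsPGroup 2 N)
    (hNP : ∀ P : Sylow 2 G, N ≤ (P : Subgroup G))
    (hcyc : ∀ P : Sylow 2 G, IsCyclic (P : Subgroup G)) : HB (G ⧸ N) := by
  have : Fact (Nat.Prime 2) := ⟨Nat.prime_two⟩
  intro A B hA hA' hcard
  obtain ⟨LA, hLA⟩ := exists_minLift N A
  obtain ⟨LB, hLB⟩ := exists_minLift N B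
  have hH : ∀ X : Subgroup G, IsPGroup 2 X → X ≤ N ∨ N ≤ X := by
    intro X hX
    obtain ⟨P, hP⟩ := hX.exists_le_sylow
    have := hcyc P
    rcases cyclic_total (C := (P : Subgroup G)) P.isPGroup' (X.subgroupOf P) (N.subgroupOf P)
      with hl | hl
    · left
      intro x hx
      have := @hl ⟨x, hP hx⟩ (by rw [Subgroup.mem_subgroupOf]; exact hx)
      rw [Subgroup.mem_subgroupOf] at this
      exact this
    · right
      intro x hx
      have := @hl ⟨x, hNP P hx⟩ (by rw [Subgroup.mem_subgroupOf]; exact hx)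
      rw [Subgroup.mem_subgroupOf] at this
      exact this
  have hS : ∀ (L : Subgroup G) (S : Sylow 2 L), ∀ x ∈ (S : Subgroup L), ∀ y ∈ (S : Subgroup L),
      x * y = y * x := by
    intro L S x hx y hy
    obtain ⟨P, hP⟩ := (S.isPGroup'.map L.subtype).exists_le_sylow
    have := hcyc P
    have hxP : (x : G) ∈ (P : Subgroup G) := hP (Subgroup.mem_map_of_mem _ hx)
    have hyP : (y : G) ∈ (P : Subgroup G) := hP (Subgroup.mem_map_of_mem _ hy)
    have h3 := (IsCyclic.isMulCommutative (α := (P : Subgroup G))).is_comm.comm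
      (⟨x, hxP⟩ : (P : Subgroup G)) ⟨y, hyP⟩
    have h4 : (x : G) * (y : G) = (y : G) * (x : G) := congrArg Subtype.val h3
    exact Subtype.ext h4
  have hcommA := comm_of_two hA hLA hNp (hS LA)
  have hcommB := comm_of_two hA' hLB hNp (hS LB)
  refine hfin_aux hB hLA hLB hcommA hcommB ?_
  rw [card_L hLA, card_L hLB, card_inf_H hA hLA hNp hH, card_inf_H hA' hLB hNp hH, hcard]

theorem el_case (hB : HB G) {N : Subgroup G} [N.Normal] (hN2 : ∀ x ∈ N, x ^ 2 = 1)
    (hNp : IsPGroup 2 N) (he : ∀ P : Sylow 2 G, ∀ x ∈ (P : Subgroup G), x ^ 2 = 1) :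
    HB (G ⧸ N) := by
  have : Fact (Nat.Prime 2) := ⟨Nat.prime_two⟩
  intro A B hA hA' hcard
  obtain ⟨LA, hLA⟩ := exists_minLift N A
  obtain ⟨LB, hLB⟩ := exists_minLift N B
  have hS : ∀ (L : Subgroup G) (S : Sylow 2 L), ∀ s ∈ (S : Subgroup L), s ^ 2 = 1 := by
    intro L S s hs
    obtain ⟨P, hP⟩ := (S.isPGroup'.map L.subtype).exists_le_sylow
    exact Subtype.ext (he P _ (hP (Subgroup.mem_map_of_mem _ hs)))
  have hcommA := comm_of_two hA hLA hNp (fun S => sq_comm (hS LA S))
  have hcommB := comm_of_two hA' hLB hNp (fun S => sq_comm (hS LB S))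
  refine hfin_aux hB hLA hLB hcommA hcommB ?_
  rw [card_L hLA, card_L hLB, inf_eq_bot_of_exp hA hLA hN2 hcommA.is_comm.comm (hS LA),
    inf_eq_bot_of_exp hA' hLB hN2 hcommB.is_comm.comm (hS LB), hcard]

theorem comm_of_card_ne {X : Type*} [Group X] (S : Subgroup X) [Finite S] (hp : IsPGroup 2 S)
    (hd : Nat.card S ∣ 8) (hne : Nat.card S ≠ 8) : IsMulCommutative S := by
  have : Fact (Nat.Prime 2) := ⟨Nat.prime_two⟩
  obtain ⟨j, hj⟩ := IsPGroup.iff_card.mp hp
  have hj3 : j ≤ 3 := by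
    have h8 : (8 : ℕ) = 2 ^ 3 := by norm_num
    rw [hj, h8] at hd
    exact (Nat.pow_dvd_pow_iff_le_right (by norm_num)).mp hd
  have hj4 : j ≠ 3 := by
    rintro rfl
    apply hne
    rw [hj]
    norm_num
  have hj5 : j = 0 ∨ j = 1 ∨ j = 2 := by omega
  rcases hj5 with rfl | rfl | rfl
  · rw [pow_zero] at hj
    haveI : Subsingleton S := (Nat.card_eq_one_iff_unique.mp hj).1
    exact ⟨⟨fun a b => Subsingleton.elim _ _⟩⟩
  · rw [pow_one] at hj
    have := isCyclic_of_prime_card (p := 2) hj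
    exact IsCyclic.isMulCommutative
  · exact IsPGroup.isMulCommutative_of_card_eq_prime_sq hj

theorem q8_case (hB : HB G) {N : Subgroup G} [N.Normal] (hN2 : ∀ x ∈ N, x ^ 2 = 1) (hNne : N ≠ ⊥)
    (hNp : IsPGroup 2 N) (hNP : ∀ P : Sylow 2 G, N ≤ (P : Subgroup G))
    (hq : ∀ P : Sylow 2 G, Nonempty ((P : Subgroup G) ≃* QuaternionGroup (2 ^ 1))) :
    HB (G ⧸ N) := by
  have : Fact (Nat.Prime 2) := ⟨Nat.prime_two⟩
  intro A B hA hA' hcard
  obtain ⟨LA, hLA⟩ := exists_minLift N A
  obtain ⟨LB, hLB⟩ := exists_minLift N B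
  have hH : ∀ X : Subgroup G, IsPGroup 2 X → X ≤ N ∨ N ≤ X := by
    intro X hX
    obtain ⟨P, hP⟩ := hX.exists_le_sylow
    obtain ⟨φ⟩ := hq P
    by_cases hXb : X = ⊥
    · left; rw [hXb]; exact bot_le
    · right
      have hinv : ∀ x ∈ (P : Subgroup G), x ^ 2 = 1 → x = 1 ∨ x = (φ.symm (QuaternionGroup.a ((2 ^ 1 : ℕ) : ZMod (2 * 2 ^ 1))) : G) := by
        intro x hx hx2
        have h1 : (φ ⟨x, hx⟩) ^ 2 = 1 := by
          rw [← map_pow]
          have : (⟨x, hx⟩ : (P : Subgroup G)) ^ 2 = 1 := Subtype.ext hx2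
          rw [this, map_one]
        rcases Q_sq_eq_one _ h1 with h2 | h2
        · left
          have : (⟨x, hx⟩ : (P : Subgroup G)) = 1 := by simpa using h2
          exact congrArg Subtype.val this
        · right
          rw [← h2]
          simp
      have hcardX : Nat.card X ≠ 1 := fun h => hXb (Subgroup.card_eq_one.mp h)
      obtain ⟨j, hj⟩ := IsPGroup.iff_card.mp hX
      have hj0 : j ≠ 0 := by
        rintro rfl
        exact hcardX (by simpa using hj)
      have hd : 2 ∣ Nat.card X := by rw [hj]; exact dvd_pow_self 2 hj0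
      obtain ⟨x, hx⟩ := exists_prime_orderOf_dvd_card' (G := X) 2 hd
      have hx2 : (x : G) ^ 2 = 1 := by
        have h1 := pow_orderOf_eq_one x
        rw [hx] at h1
        exact congrArg Subtype.val h1
      have hx1 : (x : G) ≠ 1 := by
        intro h1
        have h2 : x = 1 := Subtype.ext h1
        rw [h2, orderOf_one] at hx
        omega
      have hz : (φ.symm (QuaternionGroup.a ((2 ^ 1 : ℕ) : ZMod (2 * 2 ^ 1))) : G) ∈ X := by
        rcases hinv x (hP x.2) hx2 with h1 | h1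
        · exact absurd h1 hx1
        · rw [← h1]; exact x.2
      intro n hn
      rcases hinv n (hNP P hn) (hN2 n hn) with h1 | h1
      · rw [h1]; exact X.one_mem
      · rw [h1]; exact hz
  have hcardL : Nat.card LA = Nat.card LB := by
    rw [card_L hLA, card_L hLB, card_inf_H hA hLA hNp hH, card_inf_H hA' hLB hNp hH, hcard]
  obtain ⟨P0⟩ : Nonempty (Sylow 2 G) := inferInstance
  obtain ⟨φ0⟩ := hq P0
  have hP8 : 2 ^ (Nat.card G).factorization 2 = 8 := by
    rw [← P0.card_eq_multiplicity, Nat.card_congr φ0.toEquiv, nat_card_Q]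
    norm_num
  obtain ⟨SA⟩ : Nonempty (Sylow 2 LA) := inferInstance
  obtain ⟨SB⟩ : Nonempty (Sylow 2 LB) := inferInstance
  have hSAB : Nat.card SA = Nat.card SB := by
    rw [SA.card_eq_multiplicity, SB.card_eq_multiplicity, hcardL]
  by_cases h8 : Nat.card SA = 8
  · obtain ⟨g, hg⟩ := conj_of_full hB hA hA' hLA hLB hNp hcardL SA SB (by rw [h8, hP8])
      (by rw [← hSAB, h8, hP8])
    exact conj_of_lift hLA.map_eq hLB.map_eq hg
  · have hcS : ∀ (L : Subgroup G) (S S' : Sylow 2 L), Nat.card S ≠ 8 → ∀ x ∈ (S' : Subgroup L),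
        ∀ y ∈ (S' : Subgroup L), x * y = y * x := by
      intro L S S' hne x hx y hy
      have hcc : Nat.card S' = Nat.card S := by
        rw [S.card_eq_multiplicity, S'.card_eq_multiplicity]
      obtain ⟨P, hP⟩ := (S'.isPGroup'.map L.subtype).exists_le_sylow
      have hdvd : Nat.card S' ∣ 8 := by
        rw [← hP8, ← P.card_eq_multiplicity]
        have h1 := Subgroup.card_dvd_of_le hP
        rwa [Subgroup.card_map_of_injective L.subtype_injective] at h1
      have hcomm := comm_of_card_ne (S' : Subgroup L) S'.isPGroup' hdvd (by rw [hcc]; exact hne)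
      have h3 := hcomm.is_comm.comm (⟨x, hx⟩ : (S' : Subgroup L)) ⟨y, hy⟩
      exact congrArg Subtype.val h3
    have hcommA := comm_of_two hA hLA hNp (fun S' => hcS LA SA S' h8)
    have hcommB := comm_of_two hA' hLB hNp (fun S' => hcS LB SB S' (by rw [← hSAB]; exact h8))
    exact hfin_aux hB hLA hLB hcommA hcommB hcardL

theorem one_step (hB : HB G) [Group.IsSolvable G] (N : Subgroup G) [N.Normal] (hN : N ≠ ⊥)
    (hN2 : ∀ x ∈ N, x ^ 2 = 1) : HB (G ⧸ N) := by
  have : Fact (Nat.Prime 2) := ⟨Nat.prime_two⟩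
  have hNp : IsPGroup 2 N := Cfsg.Agent.Lib.MinNorm.isPGroup_of_exponent hN2
  have hNP : ∀ P : Sylow 2 G, N ≤ (P : Subgroup G) := fun P =>
    (le_pCore inferInstance hNp).trans (pCore_le_sylow 2 P)
  obtain ⟨P0⟩ : Nonempty (Sylow 2 G) := inferInstance
  rcases (Cfsg.Agent.S3908.result hB).1 P0 with hc | he | ⟨k, ⟨φ⟩⟩
  · apply cyclic_case hB hNp hNP
    intro P
    exact isCyclic_of_surjective (Sylow.equiv P0 P).toMonoidHom (Sylow.equiv P0 P).surjective
  · apply el_case hB hN2 hNp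
    intro P x hx
    have h1 := he.2 _ ((Sylow.equiv P P0) ⟨x, hx⟩).2
    have h2 : ((Sylow.equiv P P0) ⟨x, hx⟩) ^ 2 = 1 := Subtype.ext h1
    rw [← map_pow] at h2
    have h3 := (map_eq_one_iff _ (Sylow.equiv P P0).injective).mp h2
    exact congrArg Subtype.val h3
  · rcases Nat.lt_or_ge k 2 with hk | hk
    · interval_cases k
      · apply cyclic_case hB hNp hNP
        intro P
        have hcQ : IsCyclic (QuaternionGroup (2 ^ 0)) := by
          apply isCyclic_of_orderOf_eq_card (QuaternionGroup.xa 0)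
          rw [QuaternionGroup.orderOf_xa, nat_card_Q]
          norm_num
        have e := (Sylow.equiv P P0).trans φ
        exact isCyclic_of_surjective e.symm.toMonoidHom e.symm.surjective
      · apply q8_case hB hN2 hN hNp hNP
        intro P
        exact ⟨(Sylow.equiv P P0).trans φ⟩
    · exact (no_Q hB P0 hk φ).elim

theorem main_ind : ∀ (n : ℕ) (G : Type u) [Group G] [Finite G] [Group.IsSolvable G] (_ : HB G)
    (M : Subgroup G) [M.Normal], Nat.card G = n → HB (G ⧸ M) := by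
  intro n
  induction n using Nat.strong_induction_on with
  | _ n ih =>
    intro G _ _ _ hB M _ hn
    by_cases hM : M = ⊥
    · subst hM
      exact HB_of_equiv (QuotientGroup.quotientBot (G := G)).symm hB
    · obtain ⟨r, N, hr, hNn, hNne, hNM, -, hNe⟩ :=
        Cfsg.Agent.Lib.MinNorm.exists_abelian_exponent_normal_le M inferInstance hM
      have : Fact r.Prime := ⟨hr⟩
      have hNp : IsPGroup r N := Cfsg.Agent.Lib.MinNorm.isPGroup_of_exponent hNe
      have hstep : HB (G ⧸ N) := by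
        by_cases hr2 : r = 2
        · subst hr2
          exact one_step hB N hNne hNe
        · apply Cfsg.Agent.S3911.result hB N
          obtain ⟨a, ha⟩ := IsPGroup.iff_card.mp hNp
          rw [ha]
          exact Odd.pow (hr.odd_of_ne_two hr2)
      have hlt : Nat.card (G ⧸ N) < n := by
        rw [← hn, Subgroup.card_eq_card_quotient_mul_card_subgroup N]
        have h1 : 1 < Nat.card N := by
          have h2 : Nat.card N ≠ 1 := fun h => hNne (Subgroup.card_eq_one.mp h)
          have h3 : Nat.card N ≠ 0 := Nat.card_pos.ne'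
          omega
        have h4 : 0 < Nat.card (G ⧸ N) := Nat.card_pos
        nlinarith
      have hMn : (M.map (QuotientGroup.mk' N)).Normal :=
        Subgroup.Normal.map inferInstance _ (QuotientGroup.mk'_surjective N)
      have hih := ih _ hlt (G ⧸ N) hstep (M.map (QuotientGroup.mk' N)) rfl
      exact HB_of_equiv (QuotientGroup.quotientQuotientEquivQuotient N M hNM) hih

end Step


/-- Let G be a finite solvable group in which any two abelian subgroups of the same order are conjugate. Then every quotient of G has the same property: any two abelian subgroups of the quotient of the same order are conjugate. -/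
theorem result {G : Type*} [Group G] [Finite G] (hB : ∀ A B : Subgroup G, IsMulCommutative ↥A → IsMulCommutative ↥B → Nat.card ↥A = Nat.card ↥B → ∃ g : G, B = A.map (MulAut.conj g).toMonoidHom) (hsol : Group.IsSolvable G) (M : Subgroup G) [M.Normal] :
    ∀ A B : Subgroup (G ⧸ M), IsMulCommutative ↥A → IsMulCommutative ↥B → Nat.card ↥A = Nat.card ↥B →
      ∃ g : G ⧸ M, B = A.map (MulAut.conj g).toMonoidHom := by
  have := hsol
  exact main_ind _ G hB M rfl

end Cfsg.Agent.S3912
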