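-- Involvement of `S₄`: `S₃` involved in `N(T)/C(T)` for a `2`-subgroup `T`.
import Mathlib
import Cfsg.Agent.Lib.KleinS4
import Cfsg.Agent.Lib.InvolvesAPI
import Cfsg.Agent.Lib.QdChief
import Cfsg.Agent.Lib.Frat

set_option autoImplicit false
set_option linter.style.haveILetI false
set_option linter.unusedSectionVars false
open Cfsg

namespace Cfsg.Agent.S2759

open Equiv Subgroup Cfsg.Agent.Lib.InvolvesAPI
open scoped Pointwise

/-! ### Elementary abelian step -/

section stepA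

variable {L : Type*} [Group L] [Finite L]

/-- A nontrivial subgroup of exponent two on which the `2`-element `t` acts has a nontrivial
fixed element. -/
theorem exists_fixed (W : Subgroup L) (t : L) (l : ℕ) (hW : ∀ x ∈ W, x * x = 1)
    (htW : ∀ x ∈ W, t * x * t⁻¹ ∈ W) (ht : t ^ 2 ^ l = 1) (u : L) (hu : u ∈ W) (hu1 : u ≠ 1) :
    ∃ v ∈ W, v ≠ 1 ∧ t * v * t⁻¹ = v := by
  classical
  haveI : Fact (Nat.Prime 2) := ⟨Nat.prime_two⟩
  haveI : Fintype W := Fintype.ofFinite W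
  let f : Function.End W := fun x => ⟨t * x * t⁻¹, htW x x.2⟩
  have hfk : ∀ (k : ℕ) (x : W), ((f ^ k) x : L) = t ^ k * x * (t ^ k)⁻¹ := by
    intro k
    induction k with
    | zero => intro x; simp; rfl
    | succ k ih =>
      intro x
      rw [pow_succ']
      show t * ((f ^ k) x : L) * t⁻¹ = _
      rw [ih x]
      group
  have hf : f ^ 2 ^ l = 1 := by
    funext x
    apply Subtype.ext
    rw [hfk, ht]
    simp
    rfl
  have h1 := Equiv.Perm.card_fixedPoints_modEq (p := 2) (n := l) hf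
  have h2 : 2 ∣ Fintype.card W := by
    have h3 : orderOf (⟨u, hu⟩ : W) = 2 := by
      apply orderOf_eq_prime
      · apply Subtype.ext
        simpa [pow_two] using hW u hu
      · intro h
        exact hu1 (congrArg Subtype.val h)
    rw [← h3, ← Nat.card_eq_fintype_card]
    exact orderOf_dvd_natCard _
  have h4 : 2 ∣ Fintype.card (Function.fixedPoints f) := by
    have := h1
    unfold Nat.ModEq at this
    omega
  have h5 : Fintype.card (Function.fixedPoints f) ≠ 1 := by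
    intro h
    rw [h] at h4
    omega
  have h6 : (⟨1, W.one_mem⟩ : W) ∈ Function.fixedPoints f := by
    show f _ = _
    apply Subtype.ext
    simp [f]
  haveI : Nonempty (Function.fixedPoints f) := ⟨⟨_, h6⟩⟩
  obtain ⟨x, hx⟩ : ∃ x : Function.fixedPoints f, x ≠ ⟨_, h6⟩ := by
    by_contra hcon
    push Not at hcon
    apply h5
    rw [Fintype.card_eq_one_iff]
    exact ⟨⟨_, h6⟩, hcon⟩
  refine ⟨x.1, x.1.2, ?_, ?_⟩
  · intro h
    apply hx
    apply Subtype.ext
    apply Subtype.ext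
    exact h
  · exact congrArg Subtype.val x.2

/-- Step A: exponent two. -/
theorem stepA (V : Subgroup L) (d t : L) (l : ℕ)
    (hV : ∀ x ∈ V, x * x = 1)
    (hdV : ∀ x ∈ V, d * x * d⁻¹ ∈ V) (htV : ∀ x ∈ V, t * x * t⁻¹ ∈ V)
    (ht2 : t ^ 2 ^ l = 1) (htd : t * d * t⁻¹ = d⁻¹)
    (hd3 : ∀ x ∈ V, d * (d * (d * x * d⁻¹) * d⁻¹) * d⁻¹ = x)
    (hnot : ∃ x ∈ V, d * x * d⁻¹ ≠ x) : Involves (Perm (Fin 4)) L := by
  have hcomm : ∀ x ∈ V, ∀ y ∈ V, x * y = y * x := by
    intro x hx y hy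
    have h1 := hV _ (V.mul_mem hx hy)
    have h2 := hV x hx
    have h3 := hV y hy
    calc x * y = x * (x * y * (x * y)) * y := by rw [h1]; simp
      _ = (x * x) * y * x * (y * y) := by group
      _ = y * x := by rw [h2, h3]; simp
  have hinv : ∀ x ∈ V, x⁻¹ = x := fun x hx => inv_eq_of_mul_eq_one_left (hV x hx)
  -- the kernel of the norm
  let nm : L → L := fun x => x * (d * x * d⁻¹) * (d * (d * x * d⁻¹) * d⁻¹)
  have hd1' : ∀ x ∈ V, d * x * d⁻¹ ∈ V := hdV
  have hd2' : ∀ x ∈ V, d * (d * x * d⁻¹) * d⁻¹ ∈ V := fun x hx => hdV _ (hdV x hx)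
  have hnm_mul : ∀ x ∈ V, ∀ y ∈ V, nm (x * y) = nm x * nm y := by
    intro x hx y hy
    have hx1 := hd1' x hx
    have hx2 := hd2' x hx
    have hy1 := hd1' y hy
    have hy2 := hd2' y hy
    have e1 : d * (x * y) * d⁻¹ = (d * x * d⁻¹) * (d * y * d⁻¹) := by group
    have e2 : d * ((d * x * d⁻¹) * (d * y * d⁻¹)) * d⁻¹
        = (d * (d * x * d⁻¹) * d⁻¹) * (d * (d * y * d⁻¹) * d⁻¹) := by group
    show x * y * (d * (x * y) * d⁻¹) * (d * (d * (x * y) * d⁻¹) * d⁻¹)
      = (x * (d * x * d⁻¹) * (d * (d * x * d⁻¹) * d⁻¹))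
        * (y * (d * y * d⁻¹) * (d * (d * y * d⁻¹) * d⁻¹))
    rw [e1, e2]
    generalize d * x * d⁻¹ = x1 at *
    generalize d * y * d⁻¹ = y1 at *
    generalize d * x1 * d⁻¹ = x2 at *
    generalize d * y1 * d⁻¹ = y2 at *
    calc x * y * (x1 * y1) * (x2 * y2) = x * (y * x1) * y1 * (x2 * y2) := by group
      _ = x * (x1 * y) * y1 * (x2 * y2) := by rw [hcomm y hy x1 hx1]
      _ = x * x1 * (y * y1 * x2) * y2 := by group
      _ = x * x1 * (x2 * (y * y1)) * y2 := by
        rw [hcomm (y * y1) (V.mul_mem hy hy1) x2 hx2]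
      _ = x * x1 * x2 * (y * y1 * y2) := by group
  have hnm_V : ∀ x ∈ V, nm x ∈ V := fun x hx =>
    V.mul_mem (V.mul_mem hx (hd1' x hx)) (hd2' x hx)
  let W : Subgroup L :=
    { carrier := {x | x ∈ V ∧ nm x = 1}
      one_mem' := ⟨V.one_mem, by simp [nm]⟩
      mul_mem' := by
        rintro x y ⟨hx, hx'⟩ ⟨hy, hy'⟩
        exact ⟨V.mul_mem hx hy, by rw [hnm_mul x hx y hy, hx', hy', one_mul]⟩
      inv_mem' := by
        rintro x ⟨hx, hx'⟩
        rw [hinv x hx]
        exact ⟨hx, hx'⟩ }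
  have hWV : ∀ x ∈ W, x ∈ V := fun x hx => hx.1
  have hWn : ∀ x ∈ W, nm x = 1 := fun x hx => hx.2
  have hdinv : ∀ x ∈ V, d⁻¹ * x * d = d * (d * x * d⁻¹) * d⁻¹ := by
    intro x hx
    conv_lhs => rw [← hd3 x hx]
    group
  have htd' : t * d⁻¹ * t⁻¹ = d := by
    have h1 : (t * d * t⁻¹)⁻¹ = t * d⁻¹ * t⁻¹ := by group
    rw [← h1, htd, inv_inv]
  have hdt : ∀ x : L, d * (t * x * t⁻¹) * d⁻¹ = t * (d⁻¹ * x * d) * t⁻¹ := by
    intro x
    have h1 : d * t = t * d⁻¹ := by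
      calc d * t = (t * d⁻¹ * t⁻¹) * t := by rw [htd']
        _ = t * d⁻¹ := by group
    calc d * (t * x * t⁻¹) * d⁻¹ = (d * t) * x * (d * t)⁻¹ := by group
      _ = (t * d⁻¹) * x * (t * d⁻¹)⁻¹ := by rw [h1]
      _ = _ := by group
  -- `W` is invariant
  have hdW : ∀ x ∈ W, d * x * d⁻¹ ∈ W := by
    intro x hx
    refine ⟨hdV x hx.1, ?_⟩
    have hx0 := hx.1
    have hn := hWn x hx
    have h3 := hd3 x hx0
    have hx1 := hd1' x hx0
    have hx2 := hd2' x hx0
    show (d * x * d⁻¹) * (d * (d * x * d⁻¹) * d⁻¹) * (d * (d * (d * x * d⁻¹) * d⁻¹) * d⁻¹) = 1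
    rw [h3]
    have hn' : x * (d * x * d⁻¹) * (d * (d * x * d⁻¹) * d⁻¹) = 1 := hn
    generalize d * x * d⁻¹ = x1 at *
    generalize d * x1 * d⁻¹ = x2 at *
    calc x1 * x2 * x = x * (x1 * x2) := hcomm _ (V.mul_mem hx1 hx2) _ hx0
      _ = x * x1 * x2 := by group
      _ = 1 := hn'
  have htW : ∀ x ∈ W, t * x * t⁻¹ ∈ W := by
    intro x hx
    refine ⟨htV x hx.1, ?_⟩
    have hx0 := hx.1
    have hn : x * (d * x * d⁻¹) * (d * (d * x * d⁻¹) * d⁻¹) = 1 := hWn x hx
    have hx1 := hd1' x hx0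
    have hx2 := hd2' x hx0
    show (t * x * t⁻¹) * (d * (t * x * t⁻¹) * d⁻¹) * (d * (d * (t * x * t⁻¹) * d⁻¹) * d⁻¹) = 1
    have e1 : d * (t * x * t⁻¹) * d⁻¹ = t * (d * (d * x * d⁻¹) * d⁻¹) * t⁻¹ := by
      rw [hdt, hdinv x hx0]
    have e2 : d * (t * (d * (d * x * d⁻¹) * d⁻¹) * t⁻¹) * d⁻¹ = t * (d * x * d⁻¹) * t⁻¹ := by
      rw [hdt]
      congr 2
      group
    rw [e1, e2]
    have h5 : x * (d * (d * x * d⁻¹) * d⁻¹) * (d * x * d⁻¹) = 1 := by
      rw [mul_assoc, hcomm _ hx2 _ hx1, ← mul_assoc]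
      exact hn
    calc t * x * t⁻¹ * (t * (d * (d * x * d⁻¹) * d⁻¹) * t⁻¹) * (t * (d * x * d⁻¹) * t⁻¹)
        = t * (x * (d * (d * x * d⁻¹) * d⁻¹) * (d * x * d⁻¹)) * t⁻¹ := by group
      _ = 1 := by rw [h5]; group
  have hW2 : ∀ x ∈ W, x * x = 1 := fun x hx => hV x hx.1
  -- `W` is nontrivial
  obtain ⟨u, hu, hdu⟩ := hnot
  have hw1 : u * (d * u * d⁻¹) ≠ 1 := by
    intro h
    apply hdu
    have h2 := hV u hu
    calc d * u * d⁻¹ = u * u * (d * u * d⁻¹) := by rw [h2, one_mul]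
      _ = u * (u * (d * u * d⁻¹)) := by group
      _ = u := by rw [h, mul_one]
  have hw : u * (d * u * d⁻¹) ∈ W := by
    have hu1 := hd1' u hu
    have hu2 := hd2' u hu
    refine ⟨V.mul_mem hu hu1, ?_⟩
    show (u * (d * u * d⁻¹)) * (d * (u * (d * u * d⁻¹)) * d⁻¹)
      * (d * (d * (u * (d * u * d⁻¹)) * d⁻¹) * d⁻¹) = 1
    have e1 : d * (u * (d * u * d⁻¹)) * d⁻¹ = (d * u * d⁻¹) * (d * (d * u * d⁻¹) * d⁻¹) := by group
    have e2 : d * ((d * u * d⁻¹) * (d * (d * u * d⁻¹) * d⁻¹)) * d⁻¹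
        = (d * (d * u * d⁻¹) * d⁻¹) * (d * (d * (d * u * d⁻¹) * d⁻¹) * d⁻¹) := by group
    rw [e1, e2, hd3 u hu]
    have h1 := hV _ hu1
    have h2 := hV _ hu2
    have h3 := hV u hu
    calc u * (d * u * d⁻¹) * ((d * u * d⁻¹) * (d * (d * u * d⁻¹) * d⁻¹))
          * ((d * (d * u * d⁻¹) * d⁻¹) * u)
        = u * ((d * u * d⁻¹) * (d * u * d⁻¹)) * ((d * (d * u * d⁻¹) * d⁻¹)
          * (d * (d * u * d⁻¹) * d⁻¹)) * u := by group
      _ = 1 := by rw [h1, h2]; simp [h3]
  obtain ⟨v, hvW, hv1, htv⟩ := exists_fixed W t l hW2 htW ht2 _ hw hw1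
  -- the four-group
  set e := d * v * d⁻¹ with he
  have hvV := hvW.1
  have heW : e ∈ W := hdW v hvW
  have heV : e ∈ V := heW.1
  have hnv : v * e * (d * e * d⁻¹) = 1 := hWn v hvW
  have hfV : d * e * d⁻¹ ∈ V := hdV e heV
  have hf : d * e * d⁻¹ = e * v := by
    have h1 : v * e * (e * v) = 1 := by
      calc v * e * (e * v) = v * (e * e) * v := by group
        _ = 1 := by rw [hV e heV, mul_one, hV v hvV]
    have h2 : v * e * (d * e * d⁻¹) = v * e * (e * v) := by rw [hnv, h1]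
    exact mul_left_cancel h2
  have hne : v ≠ e := by
    intro h
    apply hv1
    have h2 : d * e * d⁻¹ = v := by
      rw [← h, ← he]
      exact h.symm
    have h3 : v * v * v = 1 := by
      have h4 := hnv
      rw [h2, ← h] at h4
      exact h4
    have h5 := hV v hvV
    rw [h5, one_mul] at h3
    exact h3
  have he1 : e ≠ 1 := by
    intro h
    apply hv1
    have : d * v * d⁻¹ = 1 := h
    have h2 : v = d⁻¹ * (d * v * d⁻¹) * d := by group
    rw [h2, this]
    group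
  have hve : v * e = e * v := hcomm v hvV e heV
  have hte : t * e * t⁻¹ = e * v := by
    calc t * e * t⁻¹ = (t * d * t⁻¹) * (t * v * t⁻¹) * (t * d * t⁻¹)⁻¹ := by rw [he]; group
      _ = d⁻¹ * v * d := by rw [htd, htv, inv_inv]
      _ = d * e * d⁻¹ := by rw [hdinv v hvV]
      _ = e * v := hf
  have hdinve : d⁻¹ * e * d = v := by rw [he]; group
  have hdinvv : d⁻¹ * v * d = e * v := by rw [hdinv v hvV]; exact hf
  refine Cfsg.Agent.Lib.KleinS4.involves_of_klein t (d * t * d⁻¹) v e (hV v hvV) (hV e heV) hv1 he1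
    hve hne htv hte ?_ ?_
  · calc d * t * d⁻¹ * e * (d * t * d⁻¹)⁻¹ = d * (t * (d⁻¹ * e * d) * t⁻¹) * d⁻¹ := by group
      _ = e := by rw [hdinve, htv]
  · calc d * t * d⁻¹ * v * (d * t * d⁻¹)⁻¹ = d * (t * (d⁻¹ * v * d) * t⁻¹) * d⁻¹ := by group
      _ = d * ((t * e * t⁻¹) * (t * v * t⁻¹)) * d⁻¹ := by rw [hdinvv]; group
      _ = d * (e * v * v) * d⁻¹ := by rw [hte, htv]
      _ = d * e * d⁻¹ := by rw [mul_assoc e, hV v hvV, mul_one]
      _ = e * v := hf

end stepA

/-! ### Induction on the order of the `2`-group -/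

section stepB

variable {G : Type*} [Group G] [Finite G]

/-- The subgroup generated by squares. -/
def sqSub (T : Subgroup G) : Subgroup G := closure {x | ∃ y ∈ T, y * y = x}

theorem sqSub_le (T : Subgroup G) : sqSub T ≤ T := by
  refine (closure_le _).mpr ?_
  rintro _ ⟨y, hy, rfl⟩
  exact T.mul_mem hy hy

theorem conj_mem_sqSub (T : Subgroup G) (g : G) (hg : ∀ x ∈ T, g * x * g⁻¹ ∈ T) :
    ∀ x ∈ sqSub T, g * x * g⁻¹ ∈ sqSub T := by
  intro x hx
  induction hx using closure_induction with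
  | mem x hx =>
    obtain ⟨y, hy, rfl⟩ := hx
    apply Subgroup.subset_closure
    exact ⟨g * y * g⁻¹, hg y hy, by group⟩
  | one => simp [(sqSub T).one_mem]
  | mul a b _ _ ha hb =>
    have : g * (a * b) * g⁻¹ = (g * a * g⁻¹) * (g * b * g⁻¹) := by group
    rw [this]
    exact (sqSub T).mul_mem ha hb
  | inv a _ ha =>
    have : g * a⁻¹ * g⁻¹ = (g * a * g⁻¹)⁻¹ := by group
    rw [this]
    exact (sqSub T).inv_mem ha

theorem sqSub_lt (T : Subgroup G) (hT : IsPGroup 2 T) (hne : T ≠ ⊥) : sqSub T ≠ T := by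
  haveI : Fact (Nat.Prime 2) := ⟨Nat.prime_two⟩
  intro h
  haveI : Nontrivial T := (Subgroup.nontrivial_iff_ne_bot T).mpr hne
  obtain ⟨M, hM, -⟩ := (eq_top_or_exists_le_coatom (⊥ : Subgroup T)).resolve_left bot_ne_top
  have h1 := Cfsg.Agent.Lib.Frat.commutator_and_pow_mem_of_isCoatom hT hM
  apply hM.1
  rw [eq_top_iff]
  rintro ⟨x, hx⟩ -
  have h2 : sqSub T ≤ M.map T.subtype := by
    refine (closure_le _).mpr ?_
    rintro _ ⟨y, hy, rfl⟩
    refine ⟨⟨y, hy⟩ ^ 2, h1.2 _, ?_⟩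
    simp [pow_two]
  have hx' : x ∈ sqSub T := by rw [h]; exact hx
  obtain ⟨m, hm, hmx⟩ := h2 hx'
  have : m = ⟨x, hx⟩ := Subtype.ext hmx
  rwa [← this]

/-- If an element whose cube acts trivially acts trivially on a subgroup `B` and on `T/B`, `T` a
`2`-group, then it acts trivially on `T`. -/
theorem trivial_of_trivial_on_section (T B : Subgroup G) (hT : IsPGroup 2 T) (hBT : B ≤ T) (d : G)
    (hd3 : ∀ x ∈ T, d * (d * (d * x * d⁻¹) * d⁻¹) * d⁻¹ = x)
    (hdB : ∀ x ∈ B, d * x * d⁻¹ = x) (x : G) (hx : x ∈ T) (hc : d * x * d⁻¹ * x⁻¹ ∈ B) :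
    d * x * d⁻¹ = x := by
  set c := d * x * d⁻¹ * x⁻¹ with hcdef
  have h1 : d * x * d⁻¹ = c * x := by rw [hcdef]; group
  have h2 : d * c * d⁻¹ = c := hdB c hc
  have h3 : d * (d * x * d⁻¹) * d⁻¹ = c * (c * x) := by
    rw [h1]
    calc d * (c * x) * d⁻¹ = (d * c * d⁻¹) * (d * x * d⁻¹) := by group
      _ = c * (c * x) := by rw [h2, h1]
  have h4 : d * (d * (d * x * d⁻¹) * d⁻¹) * d⁻¹ = c * (c * (c * x)) := by
    rw [h3]
    calc d * (c * (c * x)) * d⁻¹ = (d * c * d⁻¹) * ((d * c * d⁻¹) * (d * x * d⁻¹)) := by group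
      _ = c * (c * (c * x)) := by rw [h2, h1]
  have h5 : c ^ 3 = 1 := by
    have h6 := hd3 x hx
    rw [h4] at h6
    have h7 : c * (c * (c * x)) = c ^ 3 * x := by simp [pow_succ, mul_assoc]
    rw [h7] at h6
    exact mul_eq_right.mp h6
  obtain ⟨k, hk⟩ := hT ⟨c, hBT hc⟩
  have hk' : c ^ 2 ^ k = 1 := by
    have := congrArg Subtype.val hk
    simpa using this
  have h8 : orderOf c ∣ 3 := orderOf_dvd_of_pow_eq_one h5
  have h9 : orderOf c ∣ 2 ^ k := orderOf_dvd_of_pow_eq_one hk'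
  have h10 : orderOf c = 1 := by
    have hcop : Nat.Coprime 3 (2 ^ k) := Nat.Coprime.pow_right k (by norm_num)
    exact Nat.eq_one_of_dvd_coprimes hcop h8 h9
  have h11 : c = 1 := orderOf_eq_one_iff.mp h10
  rw [h1, h11, one_mul]

/-- Step B: induction on the order of the `2`-group. -/
theorem stepB (d t : G) (l : ℕ) (ht2 : t ^ 2 ^ l = 1) (htd : t * d * t⁻¹ = d⁻¹) :
    ∀ (n : ℕ) (T : Subgroup G), Nat.card T = n → IsPGroup 2 T → (∀ x ∈ T, d * x * d⁻¹ ∈ T) →
      (∀ x ∈ T, t * x * t⁻¹ ∈ T) → (∀ x ∈ T, d * (d * (d * x * d⁻¹) * d⁻¹) * d⁻¹ = x) →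
      (∃ x ∈ T, d * x * d⁻¹ ≠ x) → Involves (Perm (Fin 4)) G := by
  intro n
  induction n using Nat.strong_induction_on with
  | _ n ih =>
    intro T hn hT hdT htT hd3 hnot
    set B := sqSub T with hBdef
    have hBT : B ≤ T := sqSub_le T
    have hBd := conj_mem_sqSub T d hdT
    have hBt := conj_mem_sqSub T t htT
    have hT1 : T ≠ ⊥ := by
      rintro rfl
      obtain ⟨x, hx, hx'⟩ := hnot
      rw [Subgroup.mem_bot] at hx
      rw [hx] at hx'
      simp at hx'
    have hBne : B ≠ T := sqSub_lt T hT hT1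
    by_cases hB : ∃ x ∈ B, d * x * d⁻¹ ≠ x
    · have hlt : Nat.card B < n := by
        rw [← hn]
        have h1 : B < T := lt_of_le_of_ne hBT hBne
        exact Set.ncard_lt_ncard (s := (B : Set G)) (t := (T : Set G)) h1 (Set.toFinite _)
      exact ih _ hlt B rfl (hT.to_le hBT) hBd hBt (fun x hx => hd3 x (hBT hx)) hB
    · push Not at hB
      set N := normalizer (B : Set G) with hNdef
      have hNd : d ∈ N := Cfsg.Agent.Lib.QdChief.mem_normalizer_of_forward hBd
      have hNt : t ∈ N := Cfsg.Agent.Lib.QdChief.mem_normalizer_of_forward hBt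
      have hNT : ∀ x ∈ T, x ∈ N := by
        intro x hx
        apply Cfsg.Agent.Lib.QdChief.mem_normalizer_of_forward
        apply conj_mem_sqSub T x
        intro y hy
        exact T.mul_mem (T.mul_mem hx hy) (T.inv_mem hx)
      haveI hBn : (B.subgroupOf N).Normal := Subgroup.normal_in_normalizer
      let q : N →* N ⧸ B.subgroupOf N := QuotientGroup.mk' _
      have hq : Function.Surjective q := QuotientGroup.mk'_surjective _
      let V : Subgroup (N ⧸ B.subgroupOf N) := (T.subgroupOf N).map q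
      have hqB : ∀ x : N, (x : G) ∈ B → q x = 1 := by
        intro x hx
        exact (QuotientGroup.eq_one_iff x).mpr hx
      have hVmem : ∀ z ∈ V, ∃ (x : G) (hx : x ∈ T), z = q ⟨x, hNT x hx⟩ := by
        rintro _ ⟨x, hx, rfl⟩
        exact ⟨x, hx, rfl⟩
      have hmemV : ∀ (x : G) (hx : x ∈ T), q ⟨x, hNT x hx⟩ ∈ V := fun x hx => ⟨⟨x, hNT x hx⟩, hx, rfl⟩
      let dd : N := ⟨d, hNd⟩
      let tt : N := ⟨t, hNt⟩
      have hconj : ∀ (g : N) (x : G) (hx : x ∈ T) (hgx : (g : G) * x * (g : G)⁻¹ ∈ T),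
          q g * q ⟨x, hNT x hx⟩ * (q g)⁻¹ = q ⟨(g : G) * x * (g : G)⁻¹, hNT _ hgx⟩ := by
        intro g x hx hgx
        rw [← map_inv, ← map_mul, ← map_mul]
        rfl
      have hfin : Involves (Perm (Fin 4)) (N ⧸ B.subgroupOf N) := by
        refine stepA V (q dd) (q tt) l ?_ ?_ ?_ ?_ ?_ ?_ ?_
        · intro z hz
          obtain ⟨x, hx, rfl⟩ := hVmem z hz
          rw [← map_mul]
          apply hqB
          apply Subgroup.subset_closure
          exact ⟨x, hx, rfl⟩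
        · intro z hz
          obtain ⟨x, hx, rfl⟩ := hVmem z hz
          rw [hconj dd x hx (hdT x hx)]
          exact hmemV _ (hdT x hx)
        · intro z hz
          obtain ⟨x, hx, rfl⟩ := hVmem z hz
          rw [hconj tt x hx (htT x hx)]
          exact hmemV _ (htT x hx)
        · rw [← map_pow]
          have : tt ^ 2 ^ l = 1 := by
            apply Subtype.ext
            simpa [tt] using ht2
          rw [this, map_one]
        · have h : tt * dd * tt⁻¹ = dd⁻¹ := by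
            apply Subtype.ext
            simpa [tt, dd] using htd
          rw [← map_inv, ← map_mul, ← map_mul, h, map_inv]
        · intro z hz
          obtain ⟨x, hx, rfl⟩ := hVmem z hz
          rw [hconj dd x hx (hdT x hx), hconj dd _ (hdT x hx) (hdT _ (hdT x hx)),
            hconj dd _ (hdT _ (hdT x hx)) (hdT _ (hdT _ (hdT x hx)))]
          congr 1
          apply Subtype.ext
          exact hd3 x hx
        · by_contra hcon
          push Not at hcon
          obtain ⟨x, hx, hx'⟩ := hnot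
          apply hx'
          refine trivial_of_trivial_on_section T B hT hBT d hd3 hB x hx ?_
          have h1 := hcon _ (hmemV x hx)
          rw [hconj dd x hx (hdT x hx)] at h1
          have h2 := QuotientGroup.eq.mp h1
          have h4 : (d * x * d⁻¹)⁻¹ * x ∈ B := h2
          have h5 : x * ((d * x * d⁻¹)⁻¹ * x) * x⁻¹ ∈ B := by
            have := (Subgroup.mem_normalizer_iff.mp (hNT x hx) _).mp h4
            exact this
          have h6 : (x * ((d * x * d⁻¹)⁻¹ * x) * x⁻¹)⁻¹ = d * x * d⁻¹ * x⁻¹ := by group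
          rw [← h6]
          exact B.inv_mem h5
      exact involves_of_le (K := N) (Involves.trans hfin (involves_of_surj_top q hq))

/-- Step D: from a `3`-element inverted by a `2`-element and acting non-trivially on `T`. -/
theorem stepD (T : Subgroup G) (hT : IsPGroup 2 T) (y t : G) (k l : ℕ) (hy3 : y ^ 3 ^ k = 1)
    (ht2 : t ^ 2 ^ l = 1) (hty : t * y * t⁻¹ = y⁻¹) (hyT : ∀ x ∈ T, y * x * y⁻¹ ∈ T)
    (htT : ∀ x ∈ T, t * x * t⁻¹ ∈ T) (hnot : ∃ x ∈ T, y * x * y⁻¹ ≠ x) :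
    Involves (Perm (Fin 4)) G := by
  classical
  -- the least power acting trivially
  let P : ℕ → Prop := fun j => ∀ x ∈ T, y ^ 3 ^ j * x * (y ^ 3 ^ j)⁻¹ = x
  have hP : ∃ j, P j := ⟨k, fun x _ => by simp [hy3]⟩
  let j := Nat.find hP
  have hj : P j := Nat.find_spec hP
  have hj0 : j ≠ 0 := by
    intro h0
    obtain ⟨x, hx, hx'⟩ := hnot
    apply hx'
    have := hj x hx
    rw [h0] at this
    simpa using this
  obtain ⟨i, hi⟩ : ∃ i, j = i + 1 := Nat.exists_eq_succ_of_ne_zero hj0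
  have hPi : ¬ P i := Nat.find_min hP (by
    show i < j
    omega)
  set d := y ^ 3 ^ i with hd
  have hdT' : ∀ (m : ℕ), ∀ x ∈ T, y ^ m * x * (y ^ m)⁻¹ ∈ T := by
    intro m
    induction m with
    | zero => intro x hx; simpa using hx
    | succ m ih =>
      intro x hx
      have h1 : y ^ (m + 1) * x * (y ^ (m + 1))⁻¹ = y * (y ^ m * x * (y ^ m)⁻¹) * y⁻¹ := by
        rw [pow_succ']; group
      rw [h1]
      exact hyT _ (ih x hx)
  have htd : t * d * t⁻¹ = d⁻¹ := by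
    rw [hd, ← conj_pow, hty, inv_pow]
  have hdT : ∀ x ∈ T, d * x * d⁻¹ ∈ T := hdT' _
  have hd3 : ∀ x ∈ T, d * (d * (d * x * d⁻¹) * d⁻¹) * d⁻¹ = x := by
    intro x hx
    have h1 := hj x hx
    have h2 : y ^ 3 ^ j = d * d * d := by
      rw [hi, pow_succ, pow_mul, ← hd, pow_succ, pow_two]
    rw [h2] at h1
    calc d * (d * (d * x * d⁻¹) * d⁻¹) * d⁻¹ = d * d * d * x * (d * d * d)⁻¹ := by group
      _ = x := h1
  have hnot' : ∃ x ∈ T, d * x * d⁻¹ ≠ x := by
    by_contra hcon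
    push Not at hcon
    exact hPi hcon
  exact stepB d t l ht2 htd _ T rfl hT hdT htT hd3 hnot'

end stepB

/-! ### The minimal subgroup mapping onto `S₃` -/

section stepC

variable {E : Type*} [Group E] [Finite E]

/-- Sylow `p`-subgroups of normal subgroups, in a group minimal with a surjection. -/
theorem normal_of_frattini (π : E →* Perm (Fin 3))
    (hmin : ∀ F : Subgroup E, F.map π = ⊤ → F = ⊤) (p : ℕ) [Fact p.Prime] (N : Subgroup E)
    [N.Normal] (P : Sylow p N)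
    (hN : ∀ F : Subgroup E, (P : Subgroup N).map N.subtype ≤ F → F ⊔ N = ⊤ → F.map π = ⊤) :
    ((P : Subgroup N).map N.subtype).Normal := by
  have h1 := Sylow.normalizer_sup_eq_top P
  have h2 := hmin _ (hN _ Subgroup.le_normalizer h1)
  exact Subgroup.normalizer_eq_top_iff.mp h2

theorem isPGroup_zpowers_of_pow {X : Type*} [Group X] (p a : ℕ) (g : X) (h : g ^ p ^ a = 1) :
    IsPGroup p (zpowers g) := by
  rintro ⟨x, hx⟩
  obtain ⟨m, rfl⟩ := mem_zpowers_iff.mp hx
  refine ⟨a, Subtype.ext ?_⟩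
  show (g ^ m) ^ p ^ a = 1
  rw [← zpow_natCast, zpow_comm, zpow_natCast, h, one_zpow]

theorem exists_part (p : ℕ) (hp : p.Prime) (x : E) : ∃ b a : ℕ, ¬ p ∣ b ∧ (x ^ b) ^ p ^ a = 1 := by
  obtain ⟨a, b, hb, hab⟩ := Nat.exists_eq_pow_mul_and_not_dvd (n := orderOf x)
    (orderOf_pos x).ne' p hp.ne_one
  refine ⟨b, a, hb, ?_⟩
  rw [← pow_mul, mul_comm, ← hab, pow_orderOf_eq_one]

theorem exists_pair (π : E →* Perm (Fin 3)) (hπ : Function.Surjective π)
    (hmin : ∀ F : Subgroup E, F.map π = ⊤ → F = ⊤) :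
    ∃ (y t : E) (k l : ℕ), y ^ 3 ^ k = 1 ∧ t ^ 2 ^ l = 1 ∧ π y ≠ 1 ∧ t * y * t⁻¹ = y⁻¹ := by
  classical
  haveI f2 : Fact (Nat.Prime 2) := ⟨Nat.prime_two⟩
  haveI f3 : Fact (Nat.Prime 3) := ⟨Nat.prime_three⟩
  -- the kernel and the preimage of `A₃`
  let K : Subgroup E := π.ker
  let M : Subgroup E := (Equiv.Perm.sign.comp π).ker
  haveI : K.Normal := MonoidHom.normal_ker π
  haveI : M.Normal := MonoidHom.normal_ker _
  have hKM : ∀ x ∈ K, x ∈ M := by
    intro x hx
    have h1 : π x = 1 := hx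
    show Equiv.Perm.sign (π x) = 1
    rw [h1, map_one]
  -- a `3`-element outside the kernel
  obtain ⟨x, hx⟩ := hπ (finRotate 3)
  obtain ⟨b, a, hb, hab⟩ := exists_part 3 Nat.prime_three x
  set z := x ^ b with hz
  have hπz1 : π z = finRotate 3 ^ b := by rw [hz, map_pow, hx]
  have hπz : π z ≠ 1 := by
    rw [hπz1]
    intro h
    have h1 : orderOf (finRotate 3) ∣ b := orderOf_dvd_of_pow_eq_one h
    have h2 : orderOf (finRotate 3) = 3 := by
      haveI : Fact (Nat.Prime 3) := f3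
      exact orderOf_eq_prime (by decide) (by decide)
    rw [h2] at h1
    exact hb h1
  have hzM : z ∈ M := by
    show Equiv.Perm.sign (π z) = 1
    rw [hπz1, map_pow]
    have h1 : Equiv.Perm.sign (finRotate 3) = 1 := by decide
    rw [h1, one_pow]
  let z' : M := ⟨z, hzM⟩
  have hz'p : IsPGroup 3 (zpowers z') := by
    refine isPGroup_zpowers_of_pow 3 a z' (Subtype.ext ?_)
    simpa [z'] using hab
  obtain ⟨P₃, hP₃⟩ := hz'p.exists_le_sylow
  set S := (P₃ : Subgroup M).map M.subtype with hS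
  have hSp : IsPGroup 3 S := P₃.2.map _
  have hzS : z ∈ S := ⟨z', hP₃ (mem_zpowers z'), rfl⟩
  haveI hSn : S.Normal := by
    refine normal_of_frattini π hmin 3 M P₃ ?_
    intro F hF hsup
    rw [eq_top_iff]
    intro σ _
    obtain ⟨w, rfl⟩ := hπ σ
    have hw : w ∈ F ⊔ M := by rw [hsup]; trivial
    have hw' : w ∈ (F : Set E) * (M : Set E) := by
      rw [← Subgroup.mul_normal]
      exact hw
    obtain ⟨f, hf, m, hm, rfl⟩ := Set.mem_mul.mp hw'
    rw [map_mul]
    refine (F.map π).mul_mem ⟨f, hf, rfl⟩ ?_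
    have hzF : z ∈ F := hF hzS
    have hm' : Equiv.Perm.sign (π m) = 1 := hm
    have hz' : Equiv.Perm.sign (π z) = 1 := hzM
    have key : ∀ a g : Perm (Fin 3), Equiv.Perm.sign a = 1 → Equiv.Perm.sign g = 1 → g ≠ 1 →
        a = 1 ∨ a = g ∨ a = g * g := by decide
    rcases key _ _ hm' hz' hπz with h | h | h
    · rw [h]; exact (F.map π).one_mem
    · rw [h]; exact ⟨z, hzF, rfl⟩
    · rw [h]; exact (F.map π).mul_mem ⟨z, hzF, rfl⟩ ⟨z, hzF, rfl⟩
  -- a `2`-element mapping to a transposition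
  obtain ⟨x₂, hx₂⟩ := hπ (swap 0 1)
  obtain ⟨b₂, l, hb₂, hl⟩ := exists_part 2 Nat.prime_two x₂
  set t := x₂ ^ b₂ with ht
  have hπt : π t = swap 0 1 := by
    rw [ht, map_pow, hx₂]
    have hodd : Odd b₂ := by
      rw [← Nat.not_even_iff_odd, even_iff_two_dvd]
      exact hb₂
    obtain ⟨c, rfl⟩ := hodd
    rw [pow_succ, pow_mul]
    have h1 : (swap (0 : Fin 3) 1) ^ 2 = 1 := by decide
    rw [h1, one_pow, one_mul]
  have htt : π (t * t) = 1 := by
    rw [map_mul, hπt]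
    decide
  let t2 : K := ⟨t * t, htt⟩
  have ht2p : IsPGroup 2 (zpowers t2) := by
    refine isPGroup_zpowers_of_pow 2 l t2 (Subtype.ext ?_)
    show (t * t) ^ 2 ^ l = 1
    rw [← pow_two, ← pow_mul, mul_comm, pow_mul, hl, one_pow]
  obtain ⟨P₂, hP₂⟩ := ht2p.exists_le_sylow
  set S₂ := (P₂ : Subgroup K).map K.subtype with hS₂
  have hS₂p : IsPGroup 2 S₂ := P₂.2.map _
  have htS₂ : t * t ∈ S₂ := ⟨t2, hP₂ (mem_zpowers t2), rfl⟩
  haveI hS₂n : S₂.Normal := by
    refine normal_of_frattini π hmin 2 K P₂ ?_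
    intro F _ hsup
    rw [eq_top_iff]
    intro σ _
    obtain ⟨w, rfl⟩ := hπ σ
    have hw : w ∈ F ⊔ K := by rw [hsup]; trivial
    have hw' : w ∈ (F : Set E) * (K : Set E) := by
      rw [← Subgroup.mul_normal]
      exact hw
    obtain ⟨f, hf, m, hm, rfl⟩ := Set.mem_mul.mp hw'
    have hm' : π m = 1 := hm
    rw [map_mul, hm', mul_one]
    exact ⟨f, hf, rfl⟩
  have hdisj : Disjoint S₂ S := IsPGroup.disjoint_of_ne 2 3 (by norm_num) S₂ S hS₂p hSp
  have hcomm : Commute (t * t) z := Subgroup.commute_of_normal_of_disjoint _ _ hS₂n hSn hdisj _ _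
    htS₂ hzS
  -- the element inverted by `t`
  set y := z⁻¹ * (t * z * t⁻¹) with hy
  have hyS : y ∈ S := S.mul_mem (S.inv_mem hzS) (hSn.conj_mem z hzS t)
  obtain ⟨k, hk⟩ := hSp ⟨y, hyS⟩
  have hk' : y ^ 3 ^ k = 1 := by
    have := congrArg Subtype.val hk
    simpa using this
  refine ⟨y, t, k, l, hk', hl, ?_, ?_⟩
  · rw [hy, map_mul, map_inv, map_mul, map_mul, map_inv, hπt]
    have hzs : Equiv.Perm.sign (π z) = 1 := hzM
    have key : ∀ g : Perm (Fin 3), Equiv.Perm.sign g = 1 → g ≠ 1 →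
        g⁻¹ * (swap 0 1 * g * (swap 0 1)⁻¹) ≠ 1 := by decide
    exact key _ hzs hπz
  · have h1 : t * t * z * (t * t)⁻¹ = z := by
      rw [hcomm.eq]; group
    have h2 : t * (t * z * t⁻¹) * t⁻¹ = z := by
      calc t * (t * z * t⁻¹) * t⁻¹ = t * t * z * (t * t)⁻¹ := by group
        _ = z := h1
    calc t * y * t⁻¹ = (t * z⁻¹ * t⁻¹) * (t * (t * z * t⁻¹) * t⁻¹) := by rw [hy]; group
      _ = (t * z⁻¹ * t⁻¹) * z := by rw [h2]
      _ = y⁻¹ := by rw [hy]; group

end stepC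

section backward

variable {G : Type*} [Group G] [Finite G]

theorem backward (T : Subgroup G) (hT : IsPGroup 2 T)
    (h : Involves (Perm (Fin 3)) (↥(normalizer (T : Set G)) ⧸
      (centralizer (T : Set G)).subgroupOf (normalizer (T : Set G)))) :
    Involves (Perm (Fin 4)) G := by
  classical
  obtain ⟨J, f, hf⟩ := exists_surj_of_involves h
  let q := QuotientGroup.mk' ((centralizer (T : Set G)).subgroupOf (normalizer (T : Set G)))
  let E₀ : Subgroup (normalizer (T : Set G)) := J.comap q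
  let π₀ : E₀ →* Perm (Fin 3) := f.comp (q.subgroupComap J)
  have hπ₀ : Function.Surjective π₀ :=
    hf.comp (q.subgroupComap_surjective_of_surjective J (QuotientGroup.mk'_surjective _))
  obtain ⟨F, hF⟩ := exists_minimal_of_wellFoundedLT (fun F : Subgroup E₀ => F.map π₀ = ⊤)
    ⟨⊤, by rw [← MonoidHom.range_eq_map]; exact MonoidHom.range_eq_top.mpr hπ₀⟩
  have hF1 : F.map π₀ = ⊤ := hF.1
  let π : F →* Perm (Fin 3) := π₀.comp F.subtype
  have hπ : Function.Surjective π := by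
    intro σ
    have hσ : σ ∈ F.map π₀ := by rw [hF1]; trivial
    obtain ⟨x, hx, rfl⟩ := hσ
    exact ⟨⟨x, hx⟩, rfl⟩
  have hmin : ∀ F' : Subgroup F, F'.map π = ⊤ → F' = ⊤ := by
    intro F' hF'
    have h1 : (F'.map F.subtype).map π₀ = ⊤ := by
      rw [Subgroup.map_map]
      exact hF'
    have h2 : F ≤ F'.map F.subtype := hF.2 h1 (Subgroup.map_subtype_le F')
    rw [eq_top_iff]
    rintro x -
    obtain ⟨x', hx', hxx⟩ := h2 x.2
    have : x' = x := Subtype.ext hxx
    rwa [← this]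
  obtain ⟨y, t, k, l, hy3, ht2, hπy, hty⟩ := exists_pair π hπ hmin
  let cg : F →* G := (normalizer (T : Set G)).subtype.comp (E₀.subtype.comp F.subtype)
  have hnorm : ∀ (g : F), ∀ x ∈ T, cg g * x * (cg g)⁻¹ ∈ T := by
    intro g x hx
    have h1 : cg g ∈ normalizer (T : Set G) := (g : E₀).1.2
    exact (Subgroup.mem_normalizer_iff.mp h1 x).mp hx
  refine stepD T hT (cg y) (cg t) k l ?_ ?_ ?_ (hnorm y) (hnorm t) ?_
  · rw [← map_pow, hy3, map_one]
  · rw [← map_pow, ht2, map_one]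
  · rw [← map_inv, ← map_mul, ← map_mul, hty, map_inv]
  · by_contra hcon
    push Not at hcon
    apply hπy
    have h1 : (y : E₀).1 ∈ (centralizer (T : Set G)).subgroupOf (normalizer (T : Set G)) := by
      rw [Subgroup.mem_subgroupOf, Subgroup.mem_centralizer_iff]
      intro x hx
      have h2 := hcon x hx
      show x * cg y = cg y * x
      calc x * cg y = (cg y * x * (cg y)⁻¹) * cg y := by rw [h2]
        _ = cg y * x := by group
    have h3 : q (y : E₀).1 = 1 := (QuotientGroup.eq_one_iff _).mpr h1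
    show f (q.subgroupComap J (y : E₀)) = 1
    have h4 : q.subgroupComap J (y : E₀) = 1 := Subtype.ext h3
    rw [h4, map_one]

end backward

/-! ### The forward direction -/

section forward

/-- The three pairings of four points. -/
def pr : Fin 4 → Fin 4 → Fin 3
  | 0, 1 | 1, 0 | 2, 3 | 3, 2 => 0
  | 0, 2 | 2, 0 | 1, 3 | 3, 1 => 1
  | 0, 3 | 3, 0 | 1, 2 | 2, 1 => 2
  | _, _ => 0

/-- The action on pairings. -/
def fn (σ : Perm (Fin 4)) (i : Fin 3) : Fin 3 := pr (σ 0) (σ i.succ)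

theorem fn_mul (σ τ : Perm (Fin 4)) (i : Fin 3) : fn (σ * τ) i = fn σ (fn τ i) := by
  revert σ τ i
  decide +kernel

theorem fn_one (i : Fin 3) : fn 1 i = i := by
  revert i
  decide +kernel

/-- The surjection `S₄ → S₃`. -/
def psi : Perm (Fin 4) →* Perm (Fin 3) where
  toFun σ :=
    { toFun := fn σ
      invFun := fn σ⁻¹
      left_inv := fun i => by
        rw [← fn_mul, inv_mul_cancel, fn_one]
      right_inv := fun i => by
        rw [← fn_mul, mul_inv_cancel, fn_one] }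
  map_one' := by
    ext i
    exact congrArg _ (fn_one i)
  map_mul' σ τ := by
    ext i
    exact congrArg _ (fn_mul σ τ i)

theorem psi_apply (σ : Perm (Fin 4)) (i : Fin 3) : psi σ i = fn σ i := rfl

theorem psi_eq_one_iff (σ : Perm (Fin 4)) : psi σ = 1 ↔ ∀ i, fn σ i = i := by
  constructor
  · intro h i
    rw [← psi_apply, h]
    rfl
  · intro h
    ext i
    rw [psi_apply, h]
    rfl

theorem psi_surjective : Function.Surjective psi := by
  have key : ∀ τ : Perm (Fin 3), ∃ σ : Perm (Fin 4), ∀ i, fn σ i = τ i := by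
    decide +kernel
  intro τ
  obtain ⟨σ, hσ⟩ := key τ
  refine ⟨σ, ?_⟩
  ext i
  rw [psi_apply, hσ]

theorem psi_ker_sq (σ : Perm (Fin 4)) (h : psi σ = 1) : σ * σ = 1 := by
  rw [psi_eq_one_iff] at h
  revert σ
  decide +kernel

theorem psi_cent (σ : Perm (Fin 4)) (h : ∀ v, psi v = 1 → σ * v = v * σ) : psi σ = 1 := by
  simp only [psi_eq_one_iff] at h ⊢
  revert σ
  decide +kernel

variable {G : Type*} [Group G] [Finite G]

theorem forward (h : Involves (Perm (Fin 4)) G) :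
    ∃ T : Subgroup G, IsPGroup 2 T ∧ Involves (Perm (Fin 3)) (↥(normalizer (T : Set G)) ⧸
      (centralizer (T : Set G)).subgroupOf (normalizer (T : Set G))) := by
  classical
  obtain ⟨K, φ, hφ⟩ := exists_surj_of_involves h
  haveI f2 : Fact (Nat.Prime 2) := ⟨Nat.prime_two⟩
  let L : Subgroup K := (psi.comp φ).ker
  haveI hLn : L.Normal := MonoidHom.normal_ker _
  obtain ⟨P⟩ : Nonempty (Sylow 2 L) := inferInstance
  let T₀ : Subgroup K := (P : Subgroup L).map L.subtype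
  let T : Subgroup G := T₀.map K.subtype
  have hT : IsPGroup 2 T := (P.2.map _).map _
  -- the image of `T₀`
  have hV : ∀ v, psi v = 1 → ∃ u ∈ T₀, φ u = v := by
    intro v hv
    let φ' : L →* psi.ker := (φ.comp L.subtype).codRestrict psi.ker (fun x => x.2)
    have hφ' : Function.Surjective φ' := by
      rintro ⟨w, hw⟩
      obtain ⟨k, rfl⟩ := hφ w
      exact ⟨⟨k, hw⟩, rfl⟩
    let P' : Sylow 2 psi.ker := P.mapSurjective hφ'
    have hker : IsPGroup 2 psi.ker := by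
      rintro ⟨x, hx⟩
      refine ⟨1, Subtype.ext ?_⟩
      show x ^ 2 ^ 1 = 1
      rw [pow_one, pow_two]
      exact psi_ker_sq x hx
    have htop : (⊤ : Subgroup psi.ker) = P' :=
      P'.is_maximal' (hker.to_subgroup ⊤) le_top
    have hv' : (⟨v, hv⟩ : psi.ker) ∈ (P' : Subgroup psi.ker) := by
      rw [← htop]; trivial
    obtain ⟨l, hl, hlv⟩ := hv'
    exact ⟨l, ⟨l, hl, rfl⟩, congrArg Subtype.val hlv⟩
  -- the Frattini argument
  have hfr : normalizer (T₀ : Set K) ⊔ L = ⊤ := Sylow.normalizer_sup_eq_top P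
  let N₀ : Subgroup K := normalizer (T₀ : Set K)
  have hN : ∀ x : N₀, ((x : K) : G) ∈ normalizer (T : Set G) := by
    intro x
    apply Cfsg.Agent.Lib.QdChief.mem_normalizer_of_forward
    rintro _ ⟨u, hu, rfl⟩
    have h1 := (Subgroup.mem_normalizer_iff.mp x.2 u).mp hu
    exact ⟨_, h1, rfl⟩
  let α : N₀ →* normalizer (T : Set G) := MonoidHom.mk' (fun x => ⟨x.1.1, hN x⟩) (fun _ _ => rfl)
  let β := (QuotientGroup.mk' ((centralizer (T : Set G)).subgroupOf
    (normalizer (T : Set G)))).comp α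
  let ψ₀ : N₀ →* Perm (Fin 3) := psi.comp (φ.comp N₀.subtype)
  have hψ₀ : Function.Surjective ψ₀ := by
    intro τ
    obtain ⟨σ, rfl⟩ := psi_surjective τ
    obtain ⟨w, rfl⟩ := hφ σ
    have hw : w ∈ N₀ ⊔ L := by
      have : N₀ ⊔ L = ⊤ := hfr
      rw [this]
      trivial
    have hw' : w ∈ (N₀ : Set K) * (L : Set K) := by
      rw [← Subgroup.mul_normal]
      exact hw
    obtain ⟨n, hn, m, hm, rfl⟩ := Set.mem_mul.mp hw'
    refine ⟨⟨n, hn⟩, ?_⟩
    have hm' : psi (φ m) = 1 := hm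
    show psi (φ n) = psi (φ (n * m))
    rw [map_mul, map_mul, hm', mul_one]
  have hker : β.ker ≤ ψ₀.ker := by
    intro x hx
    have h1 : α x ∈ (centralizer (T : Set G)).subgroupOf (normalizer (T : Set G)) :=
      (QuotientGroup.eq_one_iff _).mp hx
    have h2 : ((x : K) : G) ∈ centralizer (T : Set G) := h1
    show psi (φ (x : K)) = 1
    apply psi_cent
    intro v hv
    obtain ⟨u, hu, rfl⟩ := hV v hv
    have h3 : (u : G) * ((x : K) : G) = ((x : K) : G) * (u : G) :=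
      (Subgroup.mem_centralizer_iff.mp h2) (u : G) ⟨u, hu, rfl⟩
    have h4 : u * (x : K) = (x : K) * u := Subtype.ext h3
    rw [← map_mul, ← map_mul, h4]
  let γ : N₀ ⧸ β.ker →* Perm (Fin 3) := QuotientGroup.lift β.ker ψ₀ (fun x hx => hker hx)
  let g : β.range →* Perm (Fin 3) :=
    γ.comp (QuotientGroup.quotientKerEquivRange β).symm.toMonoidHom
  have hg : Function.Surjective g := by
    intro τ
    obtain ⟨x, rfl⟩ := hψ₀ τ
    refine ⟨QuotientGroup.quotientKerEquivRange β (x : N₀ ⧸ β.ker), ?_⟩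
    show γ ((QuotientGroup.quotientKerEquivRange β).symm
      (QuotientGroup.quotientKerEquivRange β (x : N₀ ⧸ β.ker))) = ψ₀ x
    rw [MulEquiv.symm_apply_apply]
    rfl
  exact ⟨T, hT, involves_of_surj β.range g hg⟩

end forward

/-- For a finite group G, the symmetric group of degree 4 is involved in G if and only if there is a 2-subgroup T of G such that the symmetric group of degree 3 is involved in N(T)/C(T). -/
theorem result {G : Type*} [Group G] [Finite G] : Cfsg.Involves (Equiv.Perm (Fin 4)) G ↔ ∃ T : Subgroup G, IsPGroup 2 ↥T ∧ Cfsg.Involves (Equiv.Perm (Fin 3)) (↥(Subgroup.normalizer (T : Set G)) ⧸ (Subgroup.centralizer (T : Set G)).subgroupOf (Subgroup.normalizer (T : Set G))) :=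
  ⟨forward, fun ⟨T, hT, h⟩ => backward T hT h⟩

end Cfsg.Agent.S2759
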