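import Mathlib
import Cfsg.Statements.S3779
import Cfsg.Agent.Lib.Kegel
import Cfsg.Agent.Lib.LCSLie
import Cfsg.Agent.Lib.KKTensor

set_option autoImplicit false
set_option linter.unusedSectionVars false
set_option linter.style.haveILetI false
open Cfsg

namespace Cfsg.Agent.S3779

open Cfsg.Agent.Lib.LCSLie Cfsg.Agent.Lib.KKTensor Cfsg.Agent.Lib.Kegel
open scoped commutatorElement

section Aux

variable {G : Type*} [Group G]

theorem mem_lcs (k : ℕ) : ∀ g ∈ Gam G k, ι k g ∈ Lcs (LL G) k := by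
  induction k with
  | zero => intro g _; exact AddSubgroup.mem_top _
  | succ k ih =>
    intro g hg
    have h : ∀ g : G, g ∈ Subgroup.closure {z : G | ∃ a ∈ Gam G k, ∃ b ∈ (⊤ : Subgroup G), ⁅a, b⁆ = z} →
        g ∈ Gam G (k + 1) ∧ ι (k + 1) g ∈ Lcs (LL G) (k + 1) := by
      intro g hg'
      induction hg' using Subgroup.closure_induction with
      | mem z hz =>
        obtain ⟨a, ha, b, hb, rfl⟩ := hz
        refine ⟨comm_mem_top ha b, ?_⟩
        have h1 := lie_ι (a := k) (b := 0) ha (Subgroup.mem_top b)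
        have h2 : ι (k + 1) ⁅a, b⁆ = ⁅ι k a, ι 0 b⁆ := h1.symm
        rw [h2]
        exact AddSubgroup.subset_closure ⟨_, ih a ha, _, rfl⟩
      | one =>
        rw [ι_one]
        exact ⟨one_mem _, zero_mem _⟩
      | mul x y _ _ hx hy =>
        rw [ι_mul hx.1 hy.1]
        exact ⟨mul_mem hx.1 hy.1, add_mem hx.2 hy.2⟩
      | inv x _ hx =>
        rw [ι_inv hx.1]
        exact ⟨inv_mem hx.1, neg_mem hx.2⟩
    exact (h g hg).2

theorem gam_eq_bot_of_lcs [Group.IsNilpotent G] (h : ℕ) (hL : Lcs (LL G) h = ⊥) : Gam G h = ⊥ := by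
  have h1 : Gam G h ≤ Gam G (h + 1) := by
    intro g hg
    have h2 := mem_lcs h g hg
    rw [hL] at h2
    exact (ι_eq_zero_iff hg).1 (by simpa using h2)
  have h2 : ∀ m, Gam G (h + m) ≤ Gam G (h + m + 1) := by
    intro m
    induction m with
    | zero => exact h1
    | succ m ih => exact Subgroup.commutator_mono ih le_rfl
  have h3 : ∀ m, Gam G h ≤ Gam G (h + m) := by
    intro m
    induction m with
    | zero => exact le_rfl
    | succ m ih => exact ih.trans (h2 m)
  obtain ⟨c, hc⟩ := (Subgroup.nilpotent_iff_lowerCentralSeries (G := G)).1 inferInstance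
  refine le_bot_iff.1 ((h3 c).trans ?_)
  rw [← hc]
  exact Subgroup.lowerCentralSeries_antitone _ (Nat.le_add_left c h)

end Aux

section Main

variable {G : Type*} [Group G] [Finite G]

theorem iter_ι (α : MulAut G) (i : ℕ) {k : ℕ} {g : G} (hg : g ∈ Gam G k) :
    (mapL (α : G →* G))^[i] (ι k g) = ι k ((α ^ i) g) := by
  induction i with
  | zero => simp
  | succ i ih =>
    rw [Function.iterate_succ_apply', ih, pow_succ', MulAut.mul_apply]
    exact mapL_ι _ (map_gam ((α ^ i : MulAut G) : G →* G) hg)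

theorem gam_pow_mem (α : MulAut G) (i : ℕ) {k : ℕ} {g : G} (hg : g ∈ Gam G k) : (α ^ i) g ∈ Gam G k :=
  map_gam ((α ^ i : MulAut G) : G →* G) hg

theorem nm_mem_gam (α : MulAut G) (n : ℕ) {k : ℕ} {g : G} (hg : g ∈ Gam G k) : nm α n g ∈ Gam G k := by
  induction n with
  | zero => rw [nm_zero]; exact one_mem _
  | succ n ih =>
    rw [nm_succ]
    exact mul_mem ih (gam_pow_mem α n hg)

theorem sum_ι (α : MulAut G) (n : ℕ) {k : ℕ} {g : G} (hg : g ∈ Gam G k) :
    ∑ i ∈ Finset.range n, ι k ((α ^ i) g) = ι k (nm α n g) := by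
  induction n with
  | zero => simp [nm_zero, ι_one]
  | succ n ih =>
    rw [Finset.sum_range_succ, ih, nm_succ, ι_mul (nm_mem_gam α n hg) (gam_pow_mem α n hg)]

theorem card_smul (x : LL G) : Nat.card G • x = 0 := by
  induction x using LL.ind with
  | h0 => simp
  | hι k g hg =>
    have h : ∀ n : ℕ, n • ι k g = ι k (g ^ n) := by
      intro n
      induction n with
      | zero => simp [ι_one]
      | succ n ih => rw [succ_nsmul, ih, pow_succ, ι_mul (pow_mem hg n) hg]
    rw [h, pow_card_eq_one', ι_one]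
  | hadd x y hx hy => rw [smul_add, hx, hy, add_zero]

theorem coprime_card {p : ℕ} (hp : p.Prime) (α : MulAut G) (hα : α ^ p = 1) (hfpf : ∀ g : G, α g = g → g = 1) :
    Nat.Coprime p (Nat.card G) := by
  classical
  haveI := Fintype.ofFinite G
  haveI : Fact p.Prime := ⟨hp⟩
  let f : Function.End G := ⇑α
  have hf : f ^ p ^ 1 = 1 := by
    have : ∀ n : ℕ, f ^ n = ⇑(α ^ n) := by
      intro n
      induction n with
      | zero => rfl
      | succ n ih =>
        rw [pow_succ', ih, pow_succ']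
        rfl
    rw [pow_one, this, hα]
    rfl
  have h1 := Equiv.Perm.card_fixedPoints_modEq hf
  have h2 : Fintype.card (Function.fixedPoints f) = 1 := by
    rw [Fintype.card_eq_one_iff]
    refine ⟨⟨1, map_one α⟩, ?_⟩
    rintro ⟨g, hg⟩
    exact Subtype.ext (hfpf g hg)
  rw [h2] at h1
  rw [Nat.card_eq_fintype_card]
  refine (Nat.Prime.coprime_iff_not_dvd hp).2 ?_
  intro hd
  have h3 : Fintype.card G % p = 0 := Nat.mod_eq_zero_of_dvd hd
  have h4 : Fintype.card G % p = 1 % p := h1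
  rw [h3, Nat.mod_eq_of_lt hp.one_lt] at h4
  omega

/-- The hypotheses of the Lie ring theorem. -/
theorem lie_hyps {p : ℕ} (hp : p.Prime) (α : MulAut G) (hα : α ^ p = 1) (hfpf : ∀ g : G, α g = g → g = 1) :
    (∀ x, (mapL (α : G →* G))^[p] x = x) ∧ (∀ x, ∑ i ∈ Finset.range p, (mapL (α : G →* G))^[i] x = 0) ∧
    ∃ p' : ℤ, ∀ x : LL G, (p' * p) • x = x := by
  have hit : ∀ (i : ℕ) (x y : LL G), (mapL (α : G →* G))^[i] (x + y)
      = (mapL (α : G →* G))^[i] x + (mapL (α : G →* G))^[i] y := by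
    intro i x y
    exact iterate_map_add _ i x y
  have hit0 : ∀ (i : ℕ), (mapL (α : G →* G))^[i] (0 : LL G) = 0 := by
    intro i
    exact iterate_map_zero _ i
  refine ⟨?_, ?_, ?_⟩
  · intro x
    induction x using LL.ind with
    | h0 => exact hit0 p
    | hι k g hg => rw [iter_ι α p hg, hα]; rfl
    | hadd x y hx hy => rw [hit, hx, hy]
  · intro x
    induction x using LL.ind with
    | h0 => simp only [hit0, Finset.sum_const_zero]
    | hι k g hg =>
      simp only [iter_ι α _ hg]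
      rw [sum_ι α p hg, isSplit_of_fpf α hfpf hα g, ι_one]
    | hadd x y hx hy => simp only [hit, Finset.sum_add_distrib, hx, hy, add_zero]
  · have hc := coprime_card hp α hα hfpf
    have h1 := Nat.gcd_eq_gcd_ab p (Nat.card G)
    rw [hc.gcd_eq_one] at h1
    refine ⟨Nat.gcdA p (Nat.card G), ?_⟩
    intro x
    have e : (Nat.gcdA p (Nat.card G) * (p : ℤ)) = 1 - (Nat.card G : ℤ) * Nat.gcdB p (Nat.card G) := by
      push_cast at h1
      linarith
    rw [e, sub_smul, one_smul, mul_smul, natCast_zsmul]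
    rw [smul_comm, card_smul]
    simp

end Main

/-- Let G be a finite group with an automorphism of prime order p fixing only the identity. Then G is nilpotent; if p = 2 then G is abelian, if p = 3 then G has class at most 2, and in general the class of G is at most ξ = 1 + (p−1) + (p−1)² + ⋯ + (p−1)^(n−1) with n = 2^(p−1) − 1 (the Higman–Kreknin–Kostrikin bound). -/
theorem result {G : Type*} [Group G] [Finite G] {p : ℕ} (hp : p.Prime) (α : MulAut G) (hα : orderOf α = p) (hfpf : ∀ g : G, α g = g → g = 1) : (p = 2 → (⊤ : Subgroup G).lowerCentralSeries 1 = ⊥) ∧ (p = 3 → (⊤ : Subgroup G).lowerCentralSeries 2 = ⊥) ∧ (⊤ : Subgroup G).lowerCentralSeries (Finset.sum (Finset.range (2 ^ (p - 1) - 1)) (fun i => (p - 1) ^ i)) = ⊥ := by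
  have hα1 : α ^ p = 1 := by rw [← hα]; exact pow_orderOf_eq_one α
  haveI : Fact p.Prime := ⟨hp⟩
  haveI : Group.IsNilpotent G := nilpotent_of_fpf α hfpf hp hα1
  obtain ⟨h1, h2, p', h3⟩ := lie_hyps hp α hα1 hfpf
  have hmain : (⊤ : Subgroup G).lowerCentralSeries (Finset.sum (Finset.range (2 ^ (p - 1) - 1)) (fun i => (p - 1) ^ i)) = ⊥ :=
    gam_eq_bot_of_lcs _ (lcs_hkk (mapL (α : G →* G)) (mapL_lie _) h1 h2 p' h3)
  refine ⟨?_, ?_, hmain⟩
  · rintro rfl
    simpa using hmain
  · rintro rfl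
    exact gam_eq_bot_of_lcs _ (lcs_three (mapL (α : G →* G)) (mapL_lie _) h1 h2 p' h3)

end Cfsg.Agent.S3779
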