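import Mathlib
import Cfsg.Statements.S4337
import Cfsg.Agent.Lib.SwapOrbits
import Cfsg.Agent.Lib.BurnsidePQ
-- import your own Cfsg.Agent.* helpers here

set_option autoImplicit false
open Cfsg

namespace Cfsg.Agent.S4337

open Cfsg.Agent.Lib.SwapOrbits

theorem perm_solvable {α : Type*} [Finite α] (h : Nat.card α ≤ 4) : Group.IsSolvable (Equiv.Perm α) := by
  classical
  have := Fintype.ofFinite α
  refine Cfsg.Agent.Lib.BurnsidePQ.isSolvable_of_card_eq 2 3 Nat.prime_two Nat.prime_three _ _ rfl ?_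
  rw [Nat.card_eq_fintype_card, Fintype.card_perm]
  rw [Nat.card_eq_fintype_card] at h
  have h1 : Fintype.card α ≤ 4 := h
  interval_cases Fintype.card α
  · exact ⟨0, 0, by norm_num [Nat.factorial]⟩
  · exact ⟨0, 0, by norm_num [Nat.factorial]⟩
  · exact ⟨1, 0, by norm_num [Nat.factorial]⟩
  · exact ⟨1, 1, by norm_num [Nat.factorial]⟩
  · exact ⟨3, 1, by norm_num [Nat.factorial]⟩


/-- In a finite symmetric group, any three transpositions generate a solvable subgroup. -/
theorem result (n : ℕ) (a b c : Equiv.Perm (Fin n))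
    (ha : a.IsSwap) (hb : b.IsSwap) (hc : c.IsSwap) :
    Group.IsSolvable (Subgroup.closure ({a, b, c} : Set (Equiv.Perm (Fin n)))) := by
  classical
  let t : Fin 3 → Equiv.Perm (Fin n) := ![a, b, c]
  have ht : ∀ i, (t i).IsSwap := by
    intro i
    fin_cases i
    · exact ha
    · exact hb
    · exact hc
  have hrange : Set.range t = {a, b, c} := by
    ext x
    simp [t, eq_comm]
    tauto
  rw [← hrange]
  set H := Subgroup.closure (Set.range t) with hH
  -- each orbit action has solvable image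
  have hbd := card_orbit_closure_le t ht
  have hsol : ∀ x : Fin n, Group.IsSolvable (Equiv.Perm (MulAction.orbit H x)) := fun x =>
    perm_solvable (hbd x)
  have hex : ∀ x : Fin n, ∃ m : ℕ, derivedSeries (Equiv.Perm (MulAction.orbit H x)) m = ⊥ :=
    fun x => (hsol x).solvable
  choose m hm using hex
  obtain ⟨M, hM⟩ : ∃ M, ∀ x, m x ≤ M := ⟨∑ x, m x, fun x => Finset.single_le_sum (fun _ _ => Nat.zero_le _) (Finset.mem_univ x)⟩
  refine ⟨⟨M, ?_⟩⟩
  rw [eq_bot_iff]
  intro g hg
  rw [Subgroup.mem_bot]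
  apply Subtype.ext
  ext x
  -- g acts trivially on the orbit of x
  let φ : H →* Equiv.Perm (MulAction.orbit H x) := MulAction.toPermHom H (MulAction.orbit H x)
  have h1 : φ g ∈ derivedSeries (Equiv.Perm (MulAction.orbit H x)) M :=
    map_derivedSeries_le_derivedSeries φ M ⟨g, hg, rfl⟩
  have h2 : φ g ∈ derivedSeries (Equiv.Perm (MulAction.orbit H x)) (m x) :=
    derivedSeries_antitone _ (hM x) h1
  rw [hm x, Subgroup.mem_bot] at h2
  have h3 : φ g ⟨x, MulAction.mem_orbit_self x⟩ = ⟨x, MulAction.mem_orbit_self x⟩ := by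
    rw [h2]; rfl
  have h4 := congrArg Subtype.val h3
  have h5 : ((g : H) : Equiv.Perm (Fin n)) x = x := h4
  show (((g : H) : Equiv.Perm (Fin n)) x : ℕ) = x
  rw [h5]

end Cfsg.Agent.S4337
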