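import Mathlib
import Cfsg.Statements.S3620
import Cfsg.Agent.Lib.JordanSet
import Cfsg.Agent.Lib.Marggraff

set_option autoImplicit false
set_option linter.all false
open Cfsg

namespace Cfsg.Agent.S3620

open MulAction SubMulAction Cfsg.Agent.Lib
open scoped Pointwise

theorem ap_inv {Ω : Type*} (c : Equiv.Perm Ω) (y : Ω) : c (c⁻¹ y) = y := by simp

theorem inv_ap {Ω : Type*} (c : Equiv.Perm Ω) (y : Ω) : c⁻¹ (c y) = y := by simp

/-- The commutator of two permutations whose supports meet in exactly one point is a 3-cycle. -/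
theorem three_cycle {Ω : Type*} [Fintype Ω] [DecidableEq Ω] (a b : Equiv.Perm Ω) (A B : Set Ω) (x : Ω)
    (ha : ∀ y, y ∉ A → a y = y) (hb : ∀ y, y ∉ B → b y = y) (hAB : ∀ y, y ∈ A → y ∈ B → y = x)
    (hax : a x ≠ x) (hbx : b x ≠ x) : (a * b * a⁻¹ * b⁻¹ : Equiv.Perm Ω).IsThreeCycle := by
  have key : ∀ (c : Equiv.Perm Ω) (C : Set Ω), (∀ y, y ∉ C → c y = y) →
      (∀ y ∈ C, c y ∈ C) ∧ (∀ y ∈ C, c⁻¹ y ∈ C) ∧ (∀ y, y ∉ C → c⁻¹ y = y) := by
    intro c C hc
    refine ⟨?_, ?_, ?_⟩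
    · intro y hy
      by_contra h
      have h1 := hc _ h
      have h2 : c y = y := c.injective h1
      rw [h2] at h
      exact h hy
    · intro y hy
      by_contra h
      have h1 := hc _ h
      rw [ap_inv] at h1
      rw [← h1] at h
      exact h hy
    · intro y hy
      rw [Equiv.Perm.inv_eq_iff_eq]
      exact (hc y hy).symm
  obtain ⟨hA1, hA2, hA3⟩ := key a A ha
  obtain ⟨hB1, hB2, hB3⟩ := key b B hb
  have hxA : x ∈ A := by
    by_contra h
    exact hax (ha x h)
  have hxB : x ∈ B := by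
    by_contra h
    exact hbx (hb x h)
  have haxB : a x ∉ B := fun h => hax (hAB _ (hA1 x hxA) h)
  have hbxA : b x ∉ A := fun h => hbx (hAB _ h (hB1 x hxB))
  have hne : b x ≠ a x := fun h => hbxA (h ▸ hA1 x hxA)
  have himp : a * b * a⁻¹ * b⁻¹ = Equiv.swap (b x) (a x) * Equiv.swap (b x) x := by
    ext y
    simp only [Equiv.Perm.mul_apply]
    by_cases hyx : y = x
    · subst hyx
      have h1 : b⁻¹ y ≠ y := by
        intro h
        rw [Equiv.Perm.inv_eq_iff_eq] at h
        exact hbx h.symm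
      have h2 : b⁻¹ y ∉ A := fun h => h1 (hAB _ h (hB2 y hxB))
      rw [hA3 _ h2, ap_inv, Equiv.swap_apply_right, Equiv.swap_apply_left]
    by_cases hyax : y = a x
    · subst hyax
      rw [hB3 _ haxB, inv_ap, ha _ hbxA,
        Equiv.swap_apply_of_ne_of_ne hne.symm hax, Equiv.swap_apply_right]
    by_cases hybx : y = b x
    · subst hybx
      have h1 : a⁻¹ x ≠ x := by
        intro h
        rw [Equiv.Perm.inv_eq_iff_eq] at h
        exact hax h.symm
      have h2 : a⁻¹ x ∉ B := fun h => h1 (hAB _ (hA2 x hxA) h)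
      rw [inv_ap, hb _ h2, ap_inv, Equiv.swap_apply_left,
        Equiv.swap_apply_of_ne_of_ne hbx.symm hax.symm]
    · rw [Equiv.swap_apply_of_ne_of_ne hybx hyx, Equiv.swap_apply_of_ne_of_ne hybx hyax]
      by_cases hyB : y ∈ B
      · have hyA : y ∉ A := fun h => hyx (hAB _ h hyB)
        have h1 : b⁻¹ y ∈ B := hB2 y hyB
        have h2 : b⁻¹ y ≠ x := by
          intro h
          rw [Equiv.Perm.inv_eq_iff_eq] at h
          exact hybx h
        have h3 : b⁻¹ y ∉ A := fun h => h2 (hAB _ h h1)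
        rw [hA3 _ h3, ap_inv, ha _ hyA]
      · rw [hB3 _ hyB]
        by_cases hyA : y ∈ A
        · have h1 : a⁻¹ y ∈ A := hA2 y hyA
          have h2 : a⁻¹ y ≠ x := by
            intro h
            rw [Equiv.Perm.inv_eq_iff_eq] at h
            exact hyax h
          have h3 : a⁻¹ y ∉ B := fun h => h2 (hAB _ h1 h)
          rw [hb _ h3, ap_inv]
        · rw [hA3 _ hyA, hb _ hyB, ha _ hyA]
  rw [himp]
  exact Equiv.Perm.isThreeCycle_swap_mul_swap_same hne hbx hax

/-- A quasiprimitive group with a small Jordan set is primitive. -/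
theorem prim_of_quasi {G Ω : Type*} [Group G] [Finite G] [MulAction G Ω] [Fintype Ω] [DecidableEq Ω]
    (hqp : ∀ N : Subgroup G, N.Normal → N ≠ ⊥ → MulAction.IsPretransitive ↥N Ω)
    (Γ : Set Ω) (hΓ1 : 1 < Γ.ncard) (hΓ2 : 2 * Γ.ncard < Fintype.card Ω)
    (hJ : MulAction.IsPretransitive ↥(fixingSubgroup G Γᶜ) ↥(SubMulAction.ofFixingSubgroup G Γᶜ)) :
    IsPreprimitive G Ω := by
  classical
  obtain ⟨a, ha, c, hc, hac⟩ := (Set.one_lt_ncard (Set.toFinite _)).mp hΓ1
  haveI htr := JordanSet.pretransitive_of_quasi hqp hJ ha hc hac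
  have hJ' : ∀ a b, a ∈ Γ → b ∈ Γ → ∃ h : G, (∀ x, x ∉ Γ → h • x = x) ∧ h • a = b := by
    intro a b ha hb
    obtain ⟨h, hh, hab⟩ := JordanSet.exists_move hJ ha hb
    exact ⟨h, fun x hx => JordanSet.fix_of_mem hh hx, hab⟩
  haveI : Nontrivial Ω := ⟨a, c, hac⟩
  by_contra hnp
  have hcoat : ¬ IsCoatom (stabilizer G a) :=
    fun h => hnp ((isCoatom_stabilizer_iff_preprimitive G a).mp h)
  have hne : stabilizer G a ≠ ⊤ := by
    intro h
    obtain ⟨g, hg⟩ := exists_smul_eq G a c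
    have h1 : g ∈ stabilizer G a := by rw [h]; trivial
    rw [mem_stabilizer_iff] at h1
    exact hac (h1.symm.trans hg)
  obtain ⟨M, hM, hle⟩ := (eq_top_or_exists_le_coatom (stabilizer G a)).resolve_left hne
  have hMne : ¬ M ≤ stabilizer G a := by
    intro h
    have : stabilizer G a = M := le_antisymm hle h
    exact hcoat (this ▸ hM)
  obtain ⟨m, hmM, hmS⟩ := SetLike.not_le_iff_exists.mp hMne
  letI : Fintype (G ⧸ M) := Fintype.ofFinite _
  -- the projection
  choose f hf using (fun x : Ω => exists_smul_eq G a x)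
  let π : Ω → G ⧸ M := fun x => ((f x : G) : G ⧸ M)
  have hπ1 : ∀ g : G, π (g • a) = (g : G ⧸ M) := by
    intro g
    have h1 : f (g • a) • a = g • a := hf _
    have h2 : g⁻¹ * f (g • a) ∈ stabilizer G a := by
      rw [mem_stabilizer_iff, mul_smul, h1, inv_smul_smul]
    exact (QuotientGroup.eq.mpr (hle h2)).symm
  have hπ2 : ∀ (g : G) (x : Ω), π (g • x) = g • π x := by
    intro g x
    have h1 : g • x = (g * f x) • a := by rw [mul_smul, hf]
    rw [h1, hπ1]
    rfl
  have hπsurj : ∀ ξ : G ⧸ M, ∃ x, π x = ξ := by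
    intro ξ
    induction ξ using QuotientGroup.induction_on with
    | H g => exact ⟨g • a, hπ1 g⟩
  haveI hXnt : Nontrivial (G ⧸ M) := by
    obtain ⟨g, hg⟩ : ∃ g, g ∉ M := by
      by_contra hcon
      push Not at hcon
      exact hM.1 (eq_top_iff.mpr fun g _ => hcon g)
    refine ⟨⟨(g : G ⧸ M), ((1 : G) : G ⧸ M), ?_⟩⟩
    intro h
    apply hg
    have := QuotientGroup.eq.mp h.symm
    simpa using this
  haveI hXprim : IsPreprimitive G (G ⧸ M) := by
    apply (isCoatom_stabilizer_iff_preprimitive G ((1 : G) : G ⧸ M)).mp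
    rw [MulAction.stabilizer_quotient]
    exact hM
  let π' : Ω →[G] (G ⧸ M) := ⟨π, hπ2⟩
  have hblock : ∀ x, IsBlock G (π ⁻¹' {π x}) := by
    intro x
    exact (IsBlock.singleton (G := G) (a := π x)).preimage π'
  -- no fibre contains `Γ`
  have hnofibre : ∀ x, ¬ Γ ⊆ π ⁻¹' {π x} := by
    intro x hsub
    have h1 := JordanSet.eq_univ_of_subset hqp (hblock x) hJ ha hc hac hsub
    obtain ⟨ξ, η, hξη⟩ := hXnt
    obtain ⟨y, hy⟩ := hπsurj ξ
    obtain ⟨z, hz⟩ := hπsurj η
    have hy' : y ∈ π ⁻¹' {π x} := by rw [h1]; trivial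
    have hz' : z ∈ π ⁻¹' {π x} := by rw [h1]; trivial
    apply hξη
    rw [← hy, ← hz]
    exact (Set.mem_singleton_iff.mp hy').trans (Set.mem_singleton_iff.mp hz').symm
  have hS : ∀ x ∈ Γ, ∀ y, π y = π x → y ∈ Γ := by
    intro x hx y hxy
    by_contra hy
    exact hnofibre x (JordanSet.subset_of_mem_of_mem (hblock x) hJ hx rfl hxy hy)
  -- two fibres in `Γ`
  obtain ⟨x₃, hx₃, hx₃'⟩ : ∃ x₃ ∈ Γ, π x₃ ≠ π a := by
    by_contra hcon
    push Not at hcon
    exact hnofibre a hcon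
  let Γb : Set (G ⧸ M) := π '' Γ
  have hmemΓb : ∀ x, π x ∈ Γb ↔ x ∈ Γ := by
    intro x
    constructor
    · rintro ⟨w, hw, hwx⟩
      exact hS w hw x hwx.symm
    · intro hx
      exact ⟨x, hx, rfl⟩
  have hJb : ∀ ξ η, ξ ∈ Γb → η ∈ Γb → ∃ h : G, (∀ ζ, ζ ∉ Γb → h • ζ = ζ) ∧ h • ξ = η := by
    rintro _ _ ⟨x, hx, rfl⟩ ⟨y, hy, rfl⟩
    obtain ⟨h, hh, hxy⟩ := hJ' x y hx hy
    refine ⟨h, ?_, ?_⟩
    · intro ζ hζ
      obtain ⟨z, rfl⟩ := hπsurj ζ
      rw [← hπ2, hh z (fun h1 => hζ ((hmemΓb z).mpr h1))]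
    · rw [← hπ2, hxy]
  have hΓb1 : 1 < Γb.ncard := by
    rw [Set.one_lt_ncard (Set.toFinite _)]
    exact ⟨π x₃, ⟨x₃, hx₃, rfl⟩, π a, ⟨a, ha, rfl⟩, hx₃'⟩
  -- counting fibres
  have hΓb2 : 2 * Γb.ncard < Fintype.card (G ⧸ M) := by
    let fib : G ⧸ M → Finset Ω := fun ξ => Finset.univ.filter (fun x => π x = ξ)
    have hfibcard : ∀ ξ, (fib ξ).card = (fib (π a)).card := by
      intro ξ
      obtain ⟨x, rfl⟩ := hπsurj ξ
      have hxa : π x = f x • π a := by rw [← hπ2, hf]
      have h1 : fib (π x) = (fib (π a)).image (fun y => f x • y) := by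
        ext y
        simp only [fib, Finset.mem_filter, Finset.mem_univ, true_and, Finset.mem_image]
        constructor
        · intro hy
          refine ⟨(f x)⁻¹ • y, ?_, by simp⟩
          rw [hπ2, hy, hxa, inv_smul_smul]
        · rintro ⟨u, hu, rfl⟩
          rw [hπ2, hu, hxa]
      rw [h1, Finset.card_image_of_injective _ (MulAction.injective _)]
    have hb : 0 < (fib (π a)).card :=
      Finset.card_pos.mpr ⟨a, Finset.mem_filter.mpr ⟨Finset.mem_univ _, rfl⟩⟩
    have htot : Fintype.card Ω = Fintype.card (G ⧸ M) * (fib (π a)).card := by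
      rw [← Finset.card_univ, Finset.card_eq_sum_card_fiberwise
        (f := π) (t := Finset.univ) (fun x _ => Finset.mem_univ _)]
      rw [Finset.sum_congr rfl (fun ξ _ => hfibcard ξ), Finset.sum_const, smul_eq_mul,
        Finset.card_univ]
    have hΓtot : Γ.ncard = Γb.ncard * (fib (π a)).card := by
      have h1 : Γ.ncard = Γ.toFinset.card := by
        rw [← Set.ncard_coe_finset, Set.coe_toFinset]
      have h2 : Γb.ncard = Γb.toFinset.card := by
        rw [← Set.ncard_coe_finset, Set.coe_toFinset]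
      rw [h1, h2, Finset.card_eq_sum_card_fiberwise (f := π) (t := Γb.toFinset)
        (fun x hx => by
          rw [Finset.mem_coe, Set.mem_toFinset] at hx
          rw [Finset.mem_coe, Set.mem_toFinset]
          exact (hmemΓb x).mpr hx)]
      have h3 : ∀ ξ ∈ Γb.toFinset, (Γ.toFinset.filter (fun x => π x = ξ)).card =
          (fib (π a)).card := by
        intro ξ hξ
        rw [← hfibcard ξ]
        congr 1
        ext y
        simp only [fib, Finset.mem_filter, Set.mem_toFinset, Finset.mem_univ, true_and]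
        constructor
        · exact fun h => h.2
        · intro hy
          refine ⟨?_, hy⟩
          rw [Set.mem_toFinset] at hξ
          rw [← hmemΓb, hy]
          exact hξ
      rw [Finset.sum_congr rfl h3, Finset.sum_const, smul_eq_mul]
    rw [htot, hΓtot, ← mul_assoc] at hΓ2
    exact Nat.lt_of_mul_lt_mul_right hΓ2
  -- the translate
  obtain ⟨g, hg⟩ := Marggraff.exists_translate_single (G := G) (Ω := G ⧸ M) hJb hΓb1 hΓb2
    (x := π a) ⟨a, ha, rfl⟩
  have hmemgΓb : ∀ x, π x ∈ g • Γb ↔ x ∈ g • Γ := by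
    intro x
    rw [Set.mem_smul_set_iff_inv_smul_mem, Set.mem_smul_set_iff_inv_smul_mem, ← hπ2, hmemΓb]
  have hinter : ∀ x, x ∈ Γ → x ∈ g • Γ → π x = π a := by
    intro x hx hx'
    have : π x ∈ Γb ∩ g • Γb := ⟨(hmemΓb x).mpr hx, (hmemgΓb x).mpr hx'⟩
    rw [hg] at this
    exact this
  have hag : a ∈ g • Γ := by
    rw [← hmemgΓb]
    have : π a ∈ Γb ∩ g • Γb := by rw [hg]; rfl
    exact this.2
  -- second point of the fibre
  let x₂ := m • a
  have hπx₂ : π x₂ = π a := by
    have h1 : π x₂ = (m : G ⧸ M) := hπ1 m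
    have h2 : π a = ((1 : G) : G ⧸ M) := by
      have := hπ1 1
      rwa [one_smul] at this
    rw [h1, h2]
    exact (QuotientGroup.eq.mpr (by simpa using hmM)).symm
  have hx₂Γ : x₂ ∈ Γ := hS a ha x₂ hπx₂
  have hx₂ne : x₂ ≠ a := hmS
  obtain ⟨u, hu, hua⟩ := hJ' a x₂ ha hx₂Γ
  -- a point of `g • Γ` in another fibre
  obtain ⟨y, hyg, hyne⟩ : ∃ y ∈ g • Γ, π y ≠ π a := by
    by_contra hcon
    push Not at hcon
    have h1 := hcon (g • x₃) (Set.smul_mem_smul_set hx₃)
    have h2 := hcon (g • a) (Set.smul_mem_smul_set ha)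
    rw [hπ2] at h1 h2
    exact hx₃' (MulAction.injective g (h1.trans h2.symm))
  have hyΓ : y ∉ Γ := fun h => hyne (hinter y h hyg)
  have hag' : g⁻¹ • a ∈ Γ := Set.mem_smul_set_iff_inv_smul_mem.mp hag
  have hyg' : g⁻¹ • y ∈ Γ := Set.mem_smul_set_iff_inv_smul_mem.mp hyg
  obtain ⟨h', hh', hh'a⟩ := hJ' _ _ hag' hyg'
  let v : G := g * h' * g⁻¹
  have hv : ∀ x, x ∉ g • Γ → v • x = x := by
    intro x hx
    have h1 : g⁻¹ • x ∉ Γ := fun h => hx (Set.mem_smul_set_iff_inv_smul_mem.mpr h)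
    simp only [v, mul_smul]
    rw [hh' _ h1, smul_inv_smul]
  have hva : v • a = y := by
    simp only [v, mul_smul]
    rw [hh'a, smul_inv_smul]
  -- they commute on the quotient
  have hcomm : ∀ ζ : G ⧸ M, u • v • ζ = v • u • ζ := by
    have hd : Equiv.Perm.Disjoint (MulAction.toPerm u : Equiv.Perm (G ⧸ M)) (MulAction.toPerm v) := by
      intro ζ
      obtain ⟨z, rfl⟩ := hπsurj ζ
      by_cases hz : z ∈ Γ
      · by_cases hz' : z ∈ g • Γ
        · left
          show u • π z = π z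
          rw [hinter z hz hz', ← hπ2, hua, hπx₂]
        · right
          show v • π z = π z
          rw [← hπ2, hv z hz']
      · left
        show u • π z = π z
        rw [← hπ2, hu z hz]
    intro ζ
    have := hd.commute
    have h2 := DFunLike.congr_fun this.eq ζ
    exact h2
  let K : Subgroup G := (MulAction.toPermHom G (G ⧸ M)).ker
  have hcK : u * v * u⁻¹ * v⁻¹ ∈ K := by
    rw [MonoidHom.mem_ker]
    ext ζ
    simp only [MulAction.toPermHom_apply, MulAction.toPerm_apply, Equiv.Perm.one_apply, mul_smul]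
    have h1 := hcomm (u⁻¹ • v⁻¹ • ζ)
    rw [smul_inv_smul, smul_inv_smul] at h1
    exact h1
  have hcne : u * v * u⁻¹ * v⁻¹ ≠ 1 := by
    intro h
    have huv : u * v = v * u := by
      calc u * v = (u * v * u⁻¹ * v⁻¹) * (v * u) := by group
        _ = v * u := by rw [h, one_mul]
    have h1 : (u * v) • a = (v * u) • a := by rw [huv]
    simp only [mul_smul] at h1
    rw [hva, hu y hyΓ, hua, ← hva] at h1
    exact hx₂ne (MulAction.injective v h1).symm
  have hKne : K ≠ ⊥ := by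
    intro h
    have := hcK
    rw [h, Subgroup.mem_bot] at this
    exact hcne this
  have htrK := hqp K (MonoidHom.normal_ker _) hKne
  obtain ⟨k, hk⟩ := htrK.exists_smul_eq a x₃
  have hk' : (k : G) • a = x₃ := hk
  apply hx₃'
  rw [← hk', hπ2]
  have h1 : MulAction.toPermHom G (G ⧸ M) (k : G) = 1 := k.2
  have h2 := DFunLike.congr_fun h1 (π a)
  exact h2

/-- Let G act faithfully on a finite set in such a way that every non-trivial normal subgroup of G is transitive (G is quasiprimitive). Let Γ be a subset with more than one point and fewer than half of the points, such that the pointwise stabilizer of the complement of Γ acts transitively on Γ. Then G induces every even permutation of the set (G is the alternating or the symmetric group). -/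
theorem result {G Ω : Type*} [Group G] [Finite G] [MulAction G Ω] [FaithfulSMul G Ω] [Fintype Ω] [DecidableEq Ω]
    (hqp : ∀ N : Subgroup G, N.Normal → N ≠ ⊥ → MulAction.IsPretransitive ↥N Ω)
    (Γ : Set Ω) (hΓ1 : 1 < Γ.ncard) (hΓ2 : 2 * Γ.ncard < Fintype.card Ω)
    (hJ : MulAction.IsPretransitive ↥(fixingSubgroup G Γᶜ) ↥(SubMulAction.ofFixingSubgroup G Γᶜ)) :
    ∀ σ : Equiv.Perm Ω, Equiv.Perm.sign σ = 1 → ∃ x : G, (MulAction.toPerm x : Equiv.Perm Ω) = σ := by
  classical
  haveI hprim := prim_of_quasi hqp Γ hΓ1 hΓ2 hJ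
  obtain ⟨a, ha, c, hc, hac⟩ := (Set.one_lt_ncard (Set.toFinite _)).mp hΓ1
  have hJ' : ∀ a b, a ∈ Γ → b ∈ Γ → ∃ h : G, (∀ x, x ∉ Γ → h • x = x) ∧ h • a = b := by
    intro a b ha hb
    obtain ⟨h, hh, hab⟩ := JordanSet.exists_move hJ ha hb
    exact ⟨h, fun x hx => JordanSet.fix_of_mem hh hx, hab⟩
  obtain ⟨g, hg⟩ := Marggraff.exists_translate_single (G := G) hJ' hΓ1 hΓ2 ha
  have hag : a ∈ g • Γ := by
    have : a ∈ Γ ∩ g • Γ := by rw [hg]; rfl
    exact this.2
  obtain ⟨d, hd, hda⟩ : ∃ d ∈ g • Γ, d ≠ a := by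
    by_contra hcon
    push Not at hcon
    have h1 := hcon (g • a) (Set.smul_mem_smul_set ha)
    have h2 := hcon (g • c) (Set.smul_mem_smul_set hc)
    exact hac (MulAction.injective g (h1.trans h2.symm))
  obtain ⟨u, hu, hua⟩ := hJ' a c ha hc
  have hag' : g⁻¹ • a ∈ Γ := Set.mem_smul_set_iff_inv_smul_mem.mp hag
  have hdg' : g⁻¹ • d ∈ Γ := Set.mem_smul_set_iff_inv_smul_mem.mp hd
  obtain ⟨h', hh', hh'a⟩ := hJ' _ _ hag' hdg'
  let v : G := g * h' * g⁻¹
  have hv : ∀ x, x ∉ g • Γ → v • x = x := by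
    intro x hx
    have h1 : g⁻¹ • x ∉ Γ := fun h => hx (Set.mem_smul_set_iff_inv_smul_mem.mpr h)
    simp only [v, mul_smul]
    rw [hh' _ h1, smul_inv_smul]
  have hva : v • a = d := by
    simp only [v, mul_smul]
    rw [hh'a, smul_inv_smul]
  have h3 := three_cycle (MulAction.toPerm u : Equiv.Perm Ω) (MulAction.toPerm v) Γ (g • Γ) a hu hv
    (by
      intro y hy hy'
      have : y ∈ Γ ∩ g • Γ := ⟨hy, hy'⟩
      rw [hg] at this
      exact this)
    (by
      show u • a ≠ a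
      rw [hua]
      exact hac.symm)
    (by
      show v • a ≠ a
      rw [hva]
      exact hda)
  let R : Subgroup (Equiv.Perm Ω) := (MulAction.toPermHom G Ω).range
  have hτ : (MulAction.toPerm u : Equiv.Perm Ω) * MulAction.toPerm v * (MulAction.toPerm u)⁻¹ *
      (MulAction.toPerm v)⁻¹ ∈ R :=
    ⟨u * v * u⁻¹ * v⁻¹, by rw [map_mul, map_mul, map_mul, map_inv, map_inv]; rfl⟩
  let φ : G → R := (MulAction.toPermHom G Ω).rangeRestrict
  let F : Ω →ₑ[φ] Ω := ⟨id, fun _ _ => rfl⟩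
  have hprimR : IsPreprimitive R Ω := IsPreprimitive.of_surjective (f := F) Function.surjective_id
  have hle := Equiv.Perm.alternatingGroup_le_of_isPreprimitive_of_isThreeCycle_mem hprimR h3 hτ
  intro σ hσ
  obtain ⟨x, hx⟩ := hle (Equiv.Perm.mem_alternatingGroup.mpr hσ)
  exact ⟨x, hx⟩

end Cfsg.Agent.S3620
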