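import Mathlib
import Cfsg.Statements.S2119

set_option autoImplicit false
open Cfsg

namespace Cfsg.Agent.S2119

open Equiv Equiv.Perm

section General

variable {α : Type*} [DecidableEq α]

/-- The cycle `a → b → c → a`. -/
def cyc (a b c : α) : Perm α := swap a b * swap b c

theorem cyc_a {a b c : α} (ab : a ≠ b) (ac : a ≠ c) : cyc a b c a = b := by
  simp [cyc, swap_apply_of_ne_of_ne ab ac]

theorem cyc_b {a b c : α} (ac : a ≠ c) (bc : b ≠ c) : cyc a b c b = c := by
  simp [cyc, swap_apply_of_ne_of_ne ac.symm bc.symm]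

theorem cyc_c {a b c : α} : cyc a b c c = a := by
  simp [cyc]

theorem cyc_other {a b c t : α} (ta : t ≠ a) (tb : t ≠ b) (tc : t ≠ c) : cyc a b c t = t := by
  simp [cyc, swap_apply_of_ne_of_ne, *]

theorem eq_cyc {a b c : α} (ab : a ≠ b) (ac : a ≠ c) (bc : b ≠ c) (y : Perm α)
    (h1 : y a = b) (h2 : y b = c) (h3 : y c = a) (h : ∀ t, t ≠ a → t ≠ b → t ≠ c → y t = t) :
    y = cyc a b c := by
  ext t
  by_cases ha : t = a
  · subst ha; rw [h1, cyc_a ab ac]
  by_cases hb : t = b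
  · subst hb; rw [h2, cyc_b ac bc]
  by_cases hc : t = c
  · subst hc; rw [h3, cyc_c]
  rw [h t ha hb hc, cyc_other ha hb hc]

theorem cyc_rot {a b c : α} (ab : a ≠ b) (ac : a ≠ c) (bc : b ≠ c) : cyc a b c = cyc b c a :=
  eq_cyc bc ab.symm ac.symm _ (cyc_b ac bc) cyc_c (cyc_a ab ac)
    (fun _ h1 h2 h3 => cyc_other h3 h1 h2)

theorem conj_cyc (g : Perm α) (a b c : α) : g * cyc a b c * g⁻¹ = cyc (g a) (g b) (g c) := by
  unfold cyc
  have h1 : g * (swap a b * swap b c) * g⁻¹ = (g * swap a b * g⁻¹) * (g * swap b c * g⁻¹) := by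
    group
  rw [h1, swap_apply_apply, swap_apply_apply]

theorem cyc_mul_cyc_sq {a b c e : α} (ab : a ≠ b) (ac : a ≠ c) (ae : a ≠ e) (bc : b ≠ c) (be : b ≠ e)
    (ce : c ≠ e) (t : α) : (cyc a b c * cyc a b e * (cyc a b c * cyc a b e)) t = t := by
  have xa := cyc_a ab ac
  have xb := cyc_b ac bc
  have xc : cyc a b c c = a := cyc_c
  have ya := cyc_a ab ae
  have yb := cyc_b ae be
  have ye : cyc a b e e = a := cyc_c
  have xe : cyc a b c e = e := cyc_other ae.symm be.symm ce.symm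
  have yc : cyc a b e c = c := cyc_other ac.symm bc.symm ce
  simp only [Perm.coe_mul, Function.comp_apply]
  by_cases ha : t = a
  · subst ha; simp [ya, xa, yb, xb, yc, xc]
  by_cases hb : t = b
  · subst hb; simp [ya, xa, yb, xb, yc, xc, ye, xe]
  by_cases hc : t = c
  · subst hc; simp [ya, xa, yb, xb, yc, xc, ye, xe]
  by_cases he : t = e
  · subst he; simp [ya, xa, yb, xb, yc, xc, ye, xe]
  have h1 := cyc_other (a := a) (b := b) (c := c) ha hb hc
  have h2 := cyc_other (a := a) (b := b) (c := e) ha hb he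
  simp [h1, h2]

theorem cyc_mul_cyc_ne {a b c e : α} (ab : a ≠ b) (ac : a ≠ c) (ae : a ≠ e) (bc : b ≠ c) (be : b ≠ e)
    (ce : c ≠ e) : cyc a b c * cyc a b e ≠ 1 := by
  intro h
  have := congrArg (fun g : Perm α => g a) h
  simp only [Perm.coe_mul, Function.comp_apply, Perm.coe_one, id_eq] at this
  rw [cyc_a ab ae, cyc_b ac bc] at this
  exact ac this.symm

theorem orderOf_cyc_mul_cyc {a b c e : α} (ab : a ≠ b) (ac : a ≠ c) (ae : a ≠ e) (bc : b ≠ c)
    (be : b ≠ e) (ce : c ≠ e) : orderOf (cyc a b c * cyc a b e) = 2 := by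
  apply orderOf_eq_prime
  · rw [pow_two]
    ext t
    rw [cyc_mul_cyc_sq ab ac ae bc be ce t]
    rfl
  · exact cyc_mul_cyc_ne ab ac ae bc be ce

omit [DecidableEq α] in
set_option maxHeartbeats 4000000 in
theorem pair_lemma {a b c p q r : α} (ab : a ≠ b) (ac : a ≠ c) (bc : b ≠ c)
    (pq : p ≠ q) (pr : p ≠ r) (qr : q ≠ r) (x y : Perm α)
    (hxa : x a = b) (hxb : x b = c) (hxc : x c = a) (hx : ∀ t, t ≠ a → t ≠ b → t ≠ c → x t = t)
    (hyp : y p = q) (hyq : y q = r) (hyr : y r = p) (hy : ∀ t, t ≠ p → t ≠ q → t ≠ r → y t = t)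
    (hxy : ∀ t, x (y (x (y t))) = t) (hne : ¬ ∀ t, x (y t) = t) :
    ((p = a ∧ q = b) ∨ (p = b ∧ q = c) ∨ (p = c ∧ q = a)
      ∨ (q = a ∧ r = b) ∨ (q = b ∧ r = c) ∨ (q = c ∧ r = a)
      ∨ (r = a ∧ p = b) ∨ (r = b ∧ p = c) ∨ (r = c ∧ p = a)) := by
  have h1 := hxy a
  have h2 := hxy b
  have h3 := hxy c
  have h4 := hxy p
  have h5 := hxy q
  have h6 := hxy r
  obtain ⟨w, hw⟩ := not_forall.mp hne
  have hp : p = a ∨ p = b ∨ p = c ∨ (p ≠ a ∧ p ≠ b ∧ p ≠ c) := by tauto
  have hq : q = a ∨ q = b ∨ q = c ∨ (q ≠ a ∧ q ≠ b ∧ q ≠ c) := by tauto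
  have hr : r = a ∨ r = b ∨ r = c ∨ (r ≠ a ∧ r ≠ b ∧ r ≠ c) := by tauto
  have hw' : w = p ∨ w = q ∨ w = r ∨ (w ≠ p ∧ w ≠ q ∧ w ≠ r) := by tauto
  rcases hp with rfl | rfl | rfl | hp <;> rcases hq with rfl | rfl | rfl | hq <;>
    rcases hr with rfl | rfl | rfl | hr <;>
    first | (exfalso; done) | (rcases hw' with rfl | rfl | rfl | hw' <;> grind)

/-- The final normal form, when a common arc has been found. -/
theorem pair_normal {a b c e : α} (ab : a ≠ b) (ac : a ≠ c) (bc : b ≠ c) (ae : a ≠ e) (be : b ≠ e)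
    (hord : orderOf (cyc a b c * cyc a b e) = 2) : c ≠ e := by
  rintro rfl
  have h := pow_orderOf_eq_one (cyc a b c * cyc a b c)
  rw [hord] at h
  have := congrArg (fun g : Perm α => g a) h
  simp only [pow_two, Perm.coe_mul, Function.comp_apply, Perm.coe_one, id_eq] at this
  rw [cyc_a ab ac, cyc_b ac bc, cyc_c, cyc_a ab ac] at this
  exact ab this.symm

variable [Fintype α]

theorem exists_cyc_of_isThreeCycle {x : Perm α} (hx : IsThreeCycle x) :
    ∃ a b c : α, a ≠ b ∧ a ≠ c ∧ b ≠ c ∧ x = cyc a b c := by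
  have h1 : x ≠ 1 := hx.ne_one
  obtain ⟨a, ha⟩ : ∃ a, x a ≠ a := by
    by_contra h
    push Not at h
    exact h1 (Equiv.ext h)
  have hmem : a ∈ x.support := Perm.mem_support.mpr ha
  have hnd := hx.nodup_iff_mem_support.mpr hmem
  simp only [List.nodup_cons, List.mem_cons, List.not_mem_nil, or_false, not_or, List.nodup_nil,
    and_true, not_false_eq_true] at hnd
  exact ⟨a, x a, x (x a), hnd.1.1, hnd.1.2, hnd.2, hx.eq_swap_mul_swap_iff_mem_support.mpr hmem⟩

theorem pair_structure {x y : Perm α} (hx : IsThreeCycle x) (hy : IsThreeCycle y)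
    (hord : orderOf (x * y) = 2) :
    ∃ a b c e : α, a ≠ b ∧ a ≠ c ∧ b ≠ c ∧ a ≠ e ∧ b ≠ e ∧ c ≠ e ∧ x = cyc a b c ∧ y = cyc a b e := by
  obtain ⟨a, b, c, ab, ac, bc, rfl⟩ := exists_cyc_of_isThreeCycle hx
  obtain ⟨p, q, r, pq, pr, qr, rfl⟩ := exists_cyc_of_isThreeCycle hy
  have hxy : ∀ t, cyc a b c (cyc p q r (cyc a b c (cyc p q r t))) = t := by
    intro t
    have h := pow_orderOf_eq_one (cyc a b c * cyc p q r)
    rw [hord, pow_two] at h
    have := congrArg (fun g : Perm α => g t) h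
    simpa using this
  have hne : ¬ ∀ t, cyc a b c (cyc p q r t) = t := by
    intro h
    have h1 : cyc a b c * cyc p q r = 1 := by
      ext t
      exact h t
    rw [h1, orderOf_one] at hord
    omega
  have key := pair_lemma ab ac bc pq pr qr (cyc a b c) (cyc p q r)
    (cyc_a ab ac) (cyc_b ac bc) cyc_c (fun _ h1 h2 h3 => cyc_other h1 h2 h3)
    (cyc_a pq pr) (cyc_b pr qr) cyc_c (fun _ h1 h2 h3 => cyc_other h1 h2 h3) hxy hne
  -- the rotations of the two cycles
  have rx1 : cyc a b c = cyc b c a := cyc_rot ab ac bc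
  have rx2 : cyc a b c = cyc c a b := by
    rw [rx1]; exact cyc_rot bc ab.symm ac.symm
  have ry1 : cyc p q r = cyc q r p := cyc_rot pq pr qr
  have ry2 : cyc p q r = cyc r p q := by
    rw [ry1]; exact cyc_rot qr pq.symm pr.symm
  rcases key with ⟨rfl, rfl⟩ | ⟨rfl, rfl⟩ | ⟨rfl, rfl⟩ | ⟨rfl, rfl⟩ | ⟨rfl, rfl⟩ | ⟨rfl, rfl⟩ |
    ⟨rfl, rfl⟩ | ⟨rfl, rfl⟩ | ⟨rfl, rfl⟩
  · exact ⟨_, _, _, _, ab, ac, bc, pr, qr, pair_normal ab ac bc pr qr hord, rfl, rfl⟩
  · rw [rx1] at hord
    exact ⟨_, _, _, _, bc, ab.symm, ac.symm, pr, qr, pair_normal bc ab.symm ac.symm pr qr hord, rx1, rfl⟩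
  · rw [rx2] at hord
    exact ⟨_, _, _, _, ac.symm, bc.symm, ab, pr, qr, pair_normal ac.symm bc.symm ab pr qr hord, rx2, rfl⟩
  · rw [ry1] at hord
    exact ⟨_, _, _, _, ab, ac, bc, pq.symm, pr.symm, pair_normal ab ac bc pq.symm pr.symm hord, rfl, ry1⟩
  · rw [rx1, ry1] at hord
    exact ⟨_, _, _, _, bc, ab.symm, ac.symm, pq.symm, pr.symm,
      pair_normal bc ab.symm ac.symm pq.symm pr.symm hord, rx1, ry1⟩
  · rw [rx2, ry1] at hord
    exact ⟨_, _, _, _, ac.symm, bc.symm, ab, pq.symm, pr.symm,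
      pair_normal ac.symm bc.symm ab pq.symm pr.symm hord, rx2, ry1⟩
  · rw [ry2] at hord
    exact ⟨_, _, _, _, ab, ac, bc, qr.symm, pq, pair_normal ab ac bc qr.symm pq hord, rfl, ry2⟩
  · rw [rx1, ry2] at hord
    exact ⟨_, _, _, _, bc, ab.symm, ac.symm, qr.symm, pq,
      pair_normal bc ab.symm ac.symm qr.symm pq hord, rx1, ry2⟩
  · rw [rx2, ry2] at hord
    exact ⟨_, _, _, _, ac.symm, bc.symm, ab, qr.symm, pq,
      pair_normal ac.symm bc.symm ab qr.symm pq hord, rx2, ry2⟩

omit [Fintype α] in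
theorem cyc_isThreeCycle [Fintype α] {a b c : α} (ab : a ≠ b) (ac : a ≠ c) (bc : b ≠ c) :
    IsThreeCycle (cyc a b c) := by
  unfold cyc
  rw [swap_comm a b]
  exact isThreeCycle_swap_mul_swap_same ab.symm bc ac

/-- Triple lemma: the common arc is shared by all members of a clique. -/
theorem triple_lemma {a b c e : α} (ab : a ≠ b) (ac : a ≠ c) (bc : b ≠ c) (ae : a ≠ e) (be : b ≠ e)
    (ce : c ≠ e) {z : Perm α} (hz : IsThreeCycle z) (hxz : orderOf (cyc a b c * z) = 2)
    (hyz : orderOf (cyc a b e * z) = 2) : ∃ r, r ≠ a ∧ r ≠ b ∧ z = cyc a b r := by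
  have hx : IsThreeCycle (cyc a b c) := cyc_isThreeCycle ab ac bc
  have hy : IsThreeCycle (cyc a b e) := cyc_isThreeCycle ab ae be
  obtain ⟨a1, b1, c1, e1, h1, h2, h3, h4, h5, h6, hx1, hz1⟩ := pair_structure hx hz hxz
  obtain ⟨a2, b2, c2, e2, h1', h2', h3', h4', h5', h6', hy2, hz2⟩ := pair_structure hy hz hyz
  -- function values
  have fx1 : cyc a b c a = b := cyc_a ab ac
  have fx2 : cyc a b c b = c := cyc_b ac bc
  have fx3 : cyc a b c c = a := cyc_c
  have fx4 : ∀ t, t ≠ a → t ≠ b → t ≠ c → cyc a b c t = t := fun _ h1 h2 h3 => cyc_other h1 h2 h3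
  have fy1 : cyc a b e a = b := cyc_a ab ae
  have fy2 : cyc a b e b = e := cyc_b ae be
  have fy3 : cyc a b e e = a := cyc_c
  have fy4 : ∀ t, t ≠ a → t ≠ b → t ≠ e → cyc a b e t = t := fun _ h1 h2 h3 => cyc_other h1 h2 h3
  have z1 : z a1 = b1 := by rw [hz1]; exact cyc_a h1 h4
  have z2 : z b1 = e1 := by rw [hz1]; exact cyc_b h4 h5
  have z3 : z e1 = a1 := by rw [hz1]; exact cyc_c
  have z4 : ∀ t, t ≠ a1 → t ≠ b1 → t ≠ e1 → z t = t := by
    intro t h1 h2 h3; rw [hz1]; exact cyc_other h1 h2 h3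
  have z5 : z a2 = b2 := by rw [hz2]; exact cyc_a h1' h4'
  have z6 : z b2 = e2 := by rw [hz2]; exact cyc_b h4' h5'
  have z7 : z e2 = a2 := by rw [hz2]; exact cyc_c
  have z8 : ∀ t, t ≠ a2 → t ≠ b2 → t ≠ e2 → z t = t := by
    intro t h1 h2 h3; rw [hz2]; exact cyc_other h1 h2 h3
  have x1 : cyc a b c a1 = b1 := by rw [hx1]; exact cyc_a h1 h2
  have x2 : cyc a b c b1 = c1 := by rw [hx1]; exact cyc_b h2 h3
  have x3 : cyc a b c c1 = a1 := by rw [hx1]; exact cyc_c
  have y1 : cyc a b e a2 = b2 := by rw [hy2]; exact cyc_a h1' h2'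
  have y2 : cyc a b e b2 = c2 := by rw [hy2]; exact cyc_b h2' h3'
  have y3 : cyc a b e c2 = a2 := by rw [hy2]; exact cyc_c
  have zinj : ∀ s t, z s = z t → s = t := fun s t h => z.injective h
  have ha1 : a1 = a ∨ a1 = b ∨ a1 = c := by
    by_contra h
    push Not at h
    exact h1 (by rw [← x1]; exact (fx4 a1 h.1 h.2.1 h.2.2).symm)
  have ha2 : a2 = a ∨ a2 = b ∨ a2 = e := by
    by_contra h
    push Not at h
    exact h1' (by rw [← y1]; exact (fy4 a2 h.1 h.2.1 h.2.2).symm)
  have key : a1 = a ∧ b1 = b := by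
    clear hx1 hy2 hz1 hz2 hxz hyz hx hy
    rcases ha1 with rfl | rfl | rfl <;> rcases ha2 with rfl | rfl | rfl <;> grind
  obtain ⟨rfl, rfl⟩ := key
  exact ⟨e1, h4.symm, h5.symm, hz1⟩

theorem numeric_aux (m : ℕ) : ∀ k, 2 ≤ k → (1 ≤ m ∨ 3 ≤ k) →
    2 * (m.factorial * 3 ^ k * k.factorial) < 3 * (m + 3 * k - 3).factorial := by
  intro k hk
  induction k, hk using Nat.le_induction with
  | base =>
    intro h
    have h1 : 1 ≤ m := by omega
    have h2 : m + 3 * 2 - 3 = m + 3 := by omega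
    rw [h2, Nat.factorial_succ (m + 2), Nat.factorial_succ (m + 1), Nat.factorial_succ m]
    have h3 : 0 < m.factorial := Nat.factorial_pos m
    have h4 : 24 ≤ (m + 2 + 1) * ((m + 1 + 1) * (m + 1)) := by
      have h5 : 4 ≤ m + 2 + 1 := by omega
      have h6 : 3 ≤ m + 1 + 1 := by omega
      have h7 : 2 ≤ m + 1 := by omega
      calc 24 = 4 * (3 * 2) := by norm_num
        _ ≤ _ := Nat.mul_le_mul h5 (Nat.mul_le_mul h6 h7)
    have h5 : (Nat.factorial 2) = 2 := rfl
    rw [h5]
    calc 2 * (m.factorial * 3 ^ 2 * 2) = 36 * m.factorial := by ring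
      _ < 3 * 24 * m.factorial := by omega
      _ ≤ 3 * ((m + 2 + 1) * ((m + 1 + 1) * (m + 1))) * m.factorial := by
          apply Nat.mul_le_mul_right
          omega
      _ = _ := by ring
  | succ k hk ih =>
    intro _
    by_cases hm : 1 ≤ m ∨ 3 ≤ k
    · have ih' := ih hm
      have h2 : m + 3 * (k + 1) - 3 = (m + 3 * k - 3) + 3 := by omega
      rw [h2, Nat.factorial_succ (m + 3 * k - 3 + 2), Nat.factorial_succ (m + 3 * k - 3 + 1),
        Nat.factorial_succ (m + 3 * k - 3), Nat.factorial_succ k, pow_succ]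
      set N := m + 3 * k - 3 with hN
      have hN3 : N + 3 = m + 3 * k := by omega
      have h3 : 3 * (k + 1) ≤ (N + 2 + 1) * ((N + 1 + 1) * (N + 1)) := by
        have h4 : 3 * k ≤ N + 2 + 1 := by omega
        have h5 : 2 ≤ N + 1 + 1 := by omega
        have h6 : 1 ≤ N + 1 := by omega
        have h7 : 2 ≤ (N + 1 + 1) * (N + 1) := by nlinarith
        nlinarith
      calc 2 * (m.factorial * (3 ^ k * 3) * ((k + 1) * k.factorial))
          = (3 * (k + 1)) * (2 * (m.factorial * 3 ^ k * k.factorial)) := by ring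
        _ < (3 * (k + 1)) * (3 * N.factorial) := by
            apply Nat.mul_lt_mul_of_pos_left ih'
            omega
        _ ≤ ((N + 2 + 1) * ((N + 1 + 1) * (N + 1))) * (3 * N.factorial) := by
            exact Nat.mul_le_mul_right _ h3
        _ = 3 * ((N + 2 + 1) * ((N + 1 + 1) * ((N + 1) * N.factorial))) := by ring
    · have hk2 : k = 2 := by omega
      have hm0 : m = 0 := by omega
      subst hk2 hm0
      decide

theorem numeric (n k : ℕ) (hk : 2 ≤ k) (h3 : 3 * k ≤ n) (h7 : 7 ≤ n) :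
    2 * ((n - 3 * k).factorial * 3 ^ k * k.factorial) < 3 * (n - 3).factorial := by
  have := numeric_aux (n - 3 * k) k hk (by omega)
  have h2 : n - 3 * k + 3 * k - 3 = n - 3 := by omega
  rwa [h2] at this

theorem card_centralizer_perm_of_threeCycle {x : Perm α} (hx : IsThreeCycle x) :
    Nat.card (Subgroup.centralizer {x}) = (Fintype.card α - 3).factorial * 3 := by
  rw [Equiv.Perm.nat_card_centralizer, hx.cycleType]
  simp

theorem card_centralizer_perm_of_replicate {x : Perm α} {k : ℕ} (hk : 1 ≤ k)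
    (hx : x.cycleType = Multiset.replicate k 3) :
    Nat.card (Subgroup.centralizer {x}) =
      (Fintype.card α - 3 * k).factorial * 3 ^ k * k.factorial := by
  rw [Equiv.Perm.nat_card_centralizer, hx]
  have h : (Multiset.replicate k 3).toFinset = {3} := by
    ext t
    simp only [Multiset.mem_toFinset, Multiset.mem_replicate, Finset.mem_singleton]
    constructor
    · exact fun h => h.2
    · exact fun h => ⟨by omega, h⟩
  rw [h]
  simp [mul_comm 3 k]

theorem card_centralizer_alt_le (x : alternatingGroup α) :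
    Nat.card (Subgroup.centralizer {x}) ≤ Nat.card (Subgroup.centralizer {(x : Perm α)}) := by
  have hinj : Function.Injective (fun g : Subgroup.centralizer {x} =>
      (⟨(g.1 : Perm α), by
        rw [Subgroup.mem_centralizer_singleton_iff]
        have := Subgroup.mem_centralizer_singleton_iff.mp g.2
        exact congrArg Subtype.val this⟩ : Subgroup.centralizer {(x : Perm α)})) := by
    intro g h hgh
    apply Subtype.ext
    apply Subtype.ext
    have := congrArg (fun t : Subgroup.centralizer {(x : Perm α)} => (t : Perm α)) hgh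
    exact this
  exact Nat.card_le_card_of_injective _ hinj

theorem card_centralizer_perm_le (hcard : 2 ≤ Fintype.card α) (x : alternatingGroup α) :
    Nat.card (Subgroup.centralizer {(x : Perm α)}) ≤ 2 * Nat.card (Subgroup.centralizer {x}) := by
  have h1 := Subgroup.card_mul_index ((alternatingGroup α).subgroupOf (Subgroup.centralizer {(x : Perm α)}))
  have hidx : (alternatingGroup α).index = 2 := by
    haveI : Nontrivial α := Fintype.one_lt_card_iff_nontrivial.mp (by omega)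
    exact alternatingGroup.index_eq_two
  have h2 : ((alternatingGroup α).subgroupOf (Subgroup.centralizer {(x : Perm α)})).index ≤ 2 := by
    have := Subgroup.relIndex_dvd_index_of_normal (alternatingGroup α) (Subgroup.centralizer {(x : Perm α)})
    rw [hidx] at this
    exact Nat.le_of_dvd (by norm_num) this
  have h3 : Nat.card ((alternatingGroup α).subgroupOf (Subgroup.centralizer {(x : Perm α)})) ≤
      Nat.card (Subgroup.centralizer {x}) := by
    have hinj : Function.Injective (fun g : (alternatingGroup α).subgroupOf (Subgroup.centralizer {(x : Perm α)}) =>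
      (⟨⟨(g.1.1 : Perm α), g.2⟩, by
        rw [Subgroup.mem_centralizer_singleton_iff]
        apply Subtype.ext
        exact Subgroup.mem_centralizer_singleton_iff.mp g.1.2⟩ : Subgroup.centralizer {x})) := by
      intro g h hgh
      apply Subtype.ext
      apply Subtype.ext
      have := congrArg (fun t : Subgroup.centralizer {x} => ((t.1 : alternatingGroup α) : Perm α)) hgh
      exact this
    exact Nat.card_le_card_of_injective _ hinj
  rw [mul_comm 2]
  rw [← h1]
  exact Nat.mul_le_mul h3 h2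

theorem card_centralizer_map_le {G : Type*} [Group G] [Finite G] (φ : MulAut G) (x : G) :
    Nat.card (Subgroup.centralizer {x}) ≤ Nat.card (Subgroup.centralizer {φ x}) := by
  have hinj : Function.Injective (fun g : Subgroup.centralizer {x} =>
      (⟨φ g.1, by
        rw [Subgroup.mem_centralizer_singleton_iff]
        have := Subgroup.mem_centralizer_singleton_iff.mp g.2
        rw [← map_mul, ← map_mul, this]⟩ : Subgroup.centralizer {φ x})) := by
    intro g h hgh
    apply Subtype.ext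
    exact φ.injective (congrArg Subtype.val hgh)
  exact Nat.card_le_card_of_injective _ hinj

/-- Automorphisms send three-cycles to three-cycles. -/
theorem isThreeCycle_map (h4 : 4 ≤ Fintype.card α) (h6 : Fintype.card α ≠ 6)
    (φ : MulAut (alternatingGroup α)) (x : alternatingGroup α) (hx : IsThreeCycle (x : Perm α)) :
    IsThreeCycle ((φ x : alternatingGroup α) : Perm α) := by
  have hord : orderOf ((φ x : alternatingGroup α) : Perm α) = 3 := by
    rw [Subgroup.orderOf_coe, MulEquiv.orderOf_eq, ← Subgroup.orderOf_coe]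
    exact hx.orderOf
  obtain ⟨k, hk⟩ := cycleType_prime_order (σ := ((φ x : alternatingGroup α) : Perm α)) (by rw [hord]; norm_num)
  rw [hord] at hk
  rcases Nat.eq_zero_or_pos k with rfl | hkpos
  · exact hk
  exfalso
  have hsum := sum_cycleType_le ((φ x : alternatingGroup α) : Perm α)
  rw [hk, Multiset.sum_replicate] at hsum
  simp only [smul_eq_mul] at hsum
  have h7 : 7 ≤ Fintype.card α := by omega
  have hnum := numeric (Fintype.card α) (k + 1) (by omega) (by omega) h7
  have h1 := card_centralizer_perm_le (by omega) x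
  have h2 := card_centralizer_map_le φ x
  have h3 := card_centralizer_alt_le (φ x)
  rw [card_centralizer_perm_of_threeCycle hx] at h1
  rw [card_centralizer_perm_of_replicate (by omega) hk] at h3
  have h8 : 3 * (Fintype.card α - 3).factorial = (Fintype.card α - 3).factorial * 3 := mul_comm _ _
  omega

theorem exists_not_mem (s : Finset α) (h : s.card < Fintype.card α) : ∃ j, j ∉ s := by
  by_contra hc
  push Not at hc
  have h1 : s = Finset.univ := Finset.eq_univ_iff_forall.mpr hc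
  rw [h1, Finset.card_univ] at h
  omega

theorem exists_ne3 (h4 : 4 ≤ Fintype.card α) (a b c : α) : ∃ j, j ≠ a ∧ j ≠ b ∧ j ≠ c := by
  have h1 : ({a, b, c} : Finset α).card ≤ 3 := Finset.card_le_three
  obtain ⟨j, hj⟩ := exists_not_mem ({a, b, c} : Finset α) (by omega)
  simp only [Finset.mem_insert, Finset.mem_singleton, not_or] at hj
  exact ⟨j, hj.1, hj.2.1, hj.2.2⟩

/-- The cycles `(p0 p1 i)` generate the alternating group. -/
theorem alternatingGroup_le_of_cyc_mem (h4 : 4 ≤ Fintype.card α) (p0 p1 : α) (h01 : p0 ≠ p1)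
    (H : Subgroup (Perm α)) (hH : ∀ i, i ≠ p0 → i ≠ p1 → cyc p0 p1 i ∈ H) :
    alternatingGroup α ≤ H := by
  rw [← closure_three_cycles_eq_alternating, Subgroup.closure_le]
  intro σ hσ
  obtain ⟨a, b, c, ab, ac, bc, rfl⟩ := exists_cyc_of_isThreeCycle hσ
  have htrans : ∀ a, ∃ g ∈ H, g a = p0 := by
    intro a
    by_cases ha0 : a = p0
    · exact ⟨1, H.one_mem, ha0⟩
    by_cases ha1 : a = p1
    · obtain ⟨i, hi0, hi1, -⟩ := exists_ne3 h4 p0 p1 p0
      refine ⟨(cyc p0 p1 i)⁻¹, H.inv_mem (hH i hi0 hi1), ?_⟩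
      rw [ha1, Perm.inv_eq_iff_eq]
      exact (cyc_a h01 hi0.symm).symm
    · exact ⟨_, hH a ha0 ha1, cyc_c⟩
  have htrans2 : ∀ b, b ≠ p0 → ∃ g ∈ H, g p0 = p0 ∧ g b = p1 := by
    intro b hb0
    by_cases hb1 : b = p1
    · exact ⟨1, H.one_mem, rfl, hb1⟩
    obtain ⟨j, hj0, hj1, hjb⟩ := exists_ne3 h4 p0 p1 b
    have hy : cyc p1 b j ∈ H := by
      have := H.mul_mem (H.mul_mem (hH b hb0 hb1) (hH j hj0 hj1)) (H.inv_mem (hH b hb0 hb1))
      rw [conj_cyc, cyc_a h01 (Ne.symm hb0), cyc_b (Ne.symm hb0) (Ne.symm hb1),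
        cyc_other hj0 hj1 hjb] at this
      exact this
    refine ⟨(cyc p1 b j)⁻¹, H.inv_mem hy, ?_, ?_⟩
    · rw [Perm.inv_eq_iff_eq]; exact (cyc_other h01 (Ne.symm hb0) (Ne.symm hj0)).symm
    · rw [Perm.inv_eq_iff_eq]; exact (cyc_a (Ne.symm hb1) (Ne.symm hj1)).symm
  obtain ⟨g1, hg1, hg1a⟩ := htrans a
  obtain ⟨g2, hg2, hg2a, hg2b⟩ := htrans2 (g1 b) (by
    rw [← hg1a]; exact fun h => ab (g1.injective h).symm)
  have hg : g2 * g1 ∈ H := H.mul_mem hg2 hg1
  have h1 : (g2 * g1) a = p0 := by simp [hg1a, hg2a]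
  have h2 : (g2 * g1) b = p1 := by simp [hg2b]
  have h3 : (g2 * g1) c ≠ p0 := fun h => ac ((g2 * g1).injective (h1.trans h.symm))
  have h5 : (g2 * g1) c ≠ p1 := fun h => bc ((g2 * g1).injective (h2.trans h.symm))
  have h6 := hH _ h3 h5
  have hconj := conj_cyc (g2 * g1) a b c
  rw [h1, h2] at hconj
  have h7 : cyc a b c = (g2 * g1)⁻¹ * cyc p0 p1 ((g2 * g1) c) * (g2 * g1) := by
    rw [← hconj]; group
  show cyc a b c ∈ H
  rw [h7]
  exact H.mul_mem (H.mul_mem (H.inv_mem hg) h6) hg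

theorem conjNormal_injective (h4 : 4 ≤ Fintype.card α) :
    Function.Injective (MulAut.conjNormal : Perm α →* MulAut (alternatingGroup α)) := by
  rw [injective_iff_map_eq_one]
  intro π hπ
  by_contra hne
  obtain ⟨a, ha⟩ : ∃ a, π a ≠ a := by
    by_contra h
    push Not at h
    exact hne (Equiv.ext h)
  obtain ⟨c, hca, hcb, -⟩ := exists_ne3 h4 a (π a) a
  obtain ⟨d, hda, hdb, hdc⟩ := exists_ne3 h4 a (π a) c
  let σ : alternatingGroup α := ⟨cyc a c d, (cyc_isThreeCycle hca.symm hda.symm hdc.symm).mem_alternatingGroup⟩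
  have h1 : (MulAut.conjNormal π) σ = σ := by rw [hπ]; rfl
  have h2 : π * cyc a c d * π⁻¹ = cyc a c d := by
    have := congrArg (fun g : alternatingGroup α => (g : Perm α)) h1
    simpa [MulAut.conjNormal_apply, σ] using this
  have h3 := congrArg (fun g : Perm α => g (π a)) h2
  have h5 : π⁻¹ (π a) = a := by simp
  simp only [Perm.coe_mul, Function.comp_apply, h5] at h3
  rw [cyc_a hca.symm hda.symm, cyc_other ha hcb.symm hdb.symm] at h3
  exact hca (π.injective h3)

theorem conjNormal_surjective (h4 : 4 ≤ Fintype.card α) (h6 : Fintype.card α ≠ 6) :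
    Function.Surjective (MulAut.conjNormal : Perm α →* MulAut (alternatingGroup α)) := by
  intro φ
  obtain ⟨p0, p1, h01⟩ := Fintype.exists_pair_of_one_lt_card (by omega : 1 < Fintype.card α)
  have hXmem : ∀ i, i ≠ p0 → i ≠ p1 → cyc p0 p1 i ∈ alternatingGroup α := fun i h0 h1 =>
    (cyc_isThreeCycle h01 (Ne.symm h0) (Ne.symm h1)).mem_alternatingGroup
  let X : ∀ i, i ≠ p0 → i ≠ p1 → alternatingGroup α := fun i h0 h1 => ⟨cyc p0 p1 i, hXmem i h0 h1⟩
  let d : ∀ i, i ≠ p0 → i ≠ p1 → Perm α := fun i h0 h1 => ((φ (X i h0 h1) : alternatingGroup α) : Perm α)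
  have hd3 : ∀ i h0 h1, IsThreeCycle (d i h0 h1) := fun i h0 h1 =>
    isThreeCycle_map h4 h6 φ _ (cyc_isThreeCycle h01 (Ne.symm h0) (Ne.symm h1))
  have hord : ∀ i h0 h1 j h0' h1', i ≠ j → orderOf (d i h0 h1 * d j h0' h1') = 2 := by
    intro i h0 h1 j h0' h1' hij
    have h2 : d i h0 h1 * d j h0' h1' = ((φ (X i h0 h1 * X j h0' h1') : alternatingGroup α) : Perm α) := by
      rw [map_mul]; rfl
    rw [h2, Subgroup.orderOf_coe, MulEquiv.orderOf_eq, ← Subgroup.orderOf_coe]
    exact orderOf_cyc_mul_cyc h01 (Ne.symm h0) (Ne.symm h0') (Ne.symm h1) (Ne.symm h1') (hij)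
  obtain ⟨i0, hi00, hi01, -⟩ := exists_ne3 h4 p0 p1 p0
  obtain ⟨i1, hi10, hi11, hi1i0⟩ := exists_ne3 h4 p0 p1 i0
  obtain ⟨a, b, c, e, ab, ac, bc, ae, be, ce, hx, hy⟩ :=
    pair_structure (hd3 i0 hi00 hi01) (hd3 i1 hi10 hi11) (hord i0 hi00 hi01 i1 hi10 hi11 (Ne.symm hi1i0))
  have hex : ∀ i (h0 : i ≠ p0) (h1 : i ≠ p1), ∃ r, r ≠ a ∧ r ≠ b ∧ d i h0 h1 = cyc a b r := by
    intro i h0 h1
    by_cases h2 : i = i0
    · subst h2
      exact ⟨c, ac.symm, bc.symm, hx⟩
    by_cases h3 : i = i1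
    · subst h3
      exact ⟨e, ae.symm, be.symm, hy⟩
    apply triple_lemma ab ac bc ae be ce (hd3 i h0 h1)
    · rw [← hx]; exact hord i0 hi00 hi01 i h0 h1 (Ne.symm h2)
    · rw [← hy]; exact hord i1 hi10 hi11 i h0 h1 (Ne.symm h3)
  choose r hra hrb hrd using hex
  let f : α → α := fun t => if h0 : t = p0 then a else if h1 : t = p1 then b else r t h0 h1
  have hf0 : f p0 = a := by simp [f]
  have hf1 : f p1 = b := by simp [f, h01.symm]
  have hfi : ∀ i (h0 : i ≠ p0) (h1 : i ≠ p1), f i = r i h0 h1 := by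
    intro i h0 h1
    simp [f, h0, h1]
  have hrinj : ∀ i h0 h1 j h0' h1', r i h0 h1 = r j h0' h1' → i = j := by
    intro i h0 h1 j h0' h1' hij
    have h2 : d i h0 h1 = d j h0' h1' := by rw [hrd i h0 h1, hrd j h0' h1', hij]
    have h3 : φ (X i h0 h1) = φ (X j h0' h1') := Subtype.ext h2
    have h4 := φ.injective h3
    have h5 : cyc p0 p1 i = cyc p0 p1 j := congrArg Subtype.val h4
    have h6 := congrArg (fun g : Perm α => g p1) h5
    simpa [cyc_b (Ne.symm h0) (Ne.symm h1), cyc_b (Ne.symm h0') (Ne.symm h1')] using h6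
  have hfinj : Function.Injective f := by
    intro s t hst
    by_cases hs0 : s = p0
    · rw [hs0, hf0] at hst
      by_cases ht0 : t = p0
      · rw [hs0, ht0]
      by_cases ht1 : t = p1
      · rw [ht1, hf1] at hst; exact absurd hst ab
      · rw [hfi t ht0 ht1] at hst; exact absurd hst.symm (hra _ _ _)
    by_cases hs1 : s = p1
    · rw [hs1, hf1] at hst
      by_cases ht0 : t = p0
      · rw [ht0, hf0] at hst; exact absurd hst.symm ab
      by_cases ht1 : t = p1
      · rw [hs1, ht1]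
      · rw [hfi t ht0 ht1] at hst; exact absurd hst.symm (hrb _ _ _)
    rw [hfi s hs0 hs1] at hst
    by_cases ht0 : t = p0
    · rw [ht0, hf0] at hst; exact absurd hst (hra _ _ _)
    by_cases ht1 : t = p1
    · rw [ht1, hf1] at hst; exact absurd hst (hrb _ _ _)
    · rw [hfi t ht0 ht1] at hst; exact hrinj s hs0 hs1 t ht0 ht1 hst
  let π : Perm α := Equiv.ofBijective f (Finite.injective_iff_bijective.mp hfinj)
  have hπ : ∀ t, π t = f t := fun t => rfl
  refine ⟨π, ?_⟩
  let E : Subgroup (alternatingGroup α) :=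
    MonoidHom.eqLocus (MulAut.conjNormal π).toMonoidHom φ.toMonoidHom
  have hle := alternatingGroup_le_of_cyc_mem h4 p0 p1 h01 (E.map (alternatingGroup α).subtype) (by
    intro i h0 h1
    refine ⟨X i h0 h1, ?_, rfl⟩
    show (MulAut.conjNormal π) (X i h0 h1) = φ (X i h0 h1)
    apply Subtype.ext
    rw [MulAut.conjNormal_apply]
    show π * cyc p0 p1 i * π⁻¹ = d i h0 h1
    rw [conj_cyc, hrd i h0 h1, hπ, hπ, hπ, hf0, hf1, hfi i h0 h1])
  apply MulEquiv.ext
  intro g
  obtain ⟨g', hg', hgg'⟩ := hle g.2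
  have : g' = g := Subtype.ext hgg'
  subst this
  exact hg'

end General

/-- Automorphisms of the alternating groups: for n ≥ 4 with n ≠ 6, every automorphism of the alternating group of degree n is conjugation by a unique permutation, i.e. conjugation induces an isomorphism from the symmetric group of degree n onto the automorphism group of the alternating group (so the outer automorphism group has order 2). -/
theorem result (n : ℕ) (hn : 4 ≤ n) (h6 : n ≠ 6) : Function.Bijective (MulAut.conjNormal : Equiv.Perm (Fin n) →* MulAut ↥(alternatingGroup (Fin n))) := by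
  have h1 : Fintype.card (Fin n) = n := Fintype.card_fin n
  exact ⟨conjNormal_injective (by omega), conjNormal_surjective (by omega) (by omega)⟩

end Cfsg.Agent.S2119
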