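import Mathlib
import Cfsg.Agent.Lib.FusionCentralElt2
import Cfsg.Agent.Lib.FusionJLocal2
import Cfsg.Agent.Lib.FusionLocalPow
import Cfsg.Statements.S5193

set_option autoImplicit false
open Cfsg

namespace Cfsg.Agent.S5193

open Cfsg.Agent.Lib.FusionCore Cfsg.Agent.Lib.FusionCentralElt Cfsg.FusionSystem Cfsg.Agent.Lib.FusionJLocal Cfsg.Agent.Lib.FusionCentralElt2

universe u

theorem hW2' {p : ℕ} (Q R : Type u) [Group Q] [Group R] [Finite Q] (_ : IsPGroup p Q) (φ : Q ≃* R) :
    (thompsonSubgroupA Q).map φ.toMonoidHom = thompsonSubgroupA R :=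
  Cfsg.Agent.Lib.FusionGT.thompsonA_map φ

theorem hWZ' {p : ℕ} (Q : Type u) [Group Q] [Finite Q] (_ : IsPGroup p Q) :
    Subgroup.center Q ≤ thompsonSubgroupA Q := by
  intro z hz
  obtain ⟨A, hA⟩ := Cfsg.Agent.Lib.AbReplace.exists_mem_max (S := Q)
  have h1 : Subgroup.zpowers z ≤ A := by
    refine Cfsg.Agent.Lib.AbReplace.le_of_centralizes hA ?_ ?_
    · rintro _ ⟨m, rfl⟩ _ ⟨n, rfl⟩
      simp only
      rw [← zpow_add, ← zpow_add, add_comm]
    · rintro a - _ ⟨n, rfl⟩
      simp only
      have hc : Commute a z := Subgroup.mem_center_iff.1 hz a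
      exact (hc.zpow_right n).eq
  have h2 : A ≤ thompsonSubgroupA Q := le_sSup hA
  exact h2 (h1 (Subgroup.mem_zpowers z))

theorem main {Ω : Type u} [Group Ω] {S : Subgroup Ω} [Finite S] (p : ℕ) [Fact p.Prime] (hS : IsPGroup p S) (F : Cfsg.FusionSystem S) (hF : F.IsSaturated p) (N : Cfsg.FusionSystem (Cfsg.FusionSystem.normalizerIn S (Cfsg.thompsonSubgroupAOf S))) (hN : F.IsNormalizerSystem (Cfsg.thompsonSubgroupAOf S) N) : Subgroup.closure ((fun z : Ω => z ^ p) '' ((S ⊓ Subgroup.centralizer (S : Set Ω) : Subgroup Ω) : Set Ω)) ⊓ N.center ≤ F.center ∧ (p ≠ 2 ∨ F.IsSectionFree p (Equiv.Perm (Fin 4)) → N.center = F.center) := by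
  have hW2 := hW2' (p := p)
  have hWZ := hWZ' (p := p)
  change F.IsNormalizerSystem ((thompsonSubgroupA ↥S).map S.subtype) N at hN
  constructor
  · have hpow : ∀ y ∈ Subgroup.closure ((fun z => z ^ p) '' ((S ⊓ Subgroup.centralizer (S : Set Ω) : Subgroup Ω) : Set Ω)),
        ∃ w, IsZ S w ∧ y = w ^ p := by
      intro y hy
      induction hy using Subgroup.closure_induction with
      | mem x hx =>
        obtain ⟨z, hz, rfl⟩ := hx
        exact ⟨z, ⟨hz.1, Subgroup.mem_centralizer_iff.1 hz.2⟩, rfl⟩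
      | one => exact ⟨1, ⟨S.one_mem, fun g _ => by simp⟩, by simp⟩
      | mul a b _ _ ha hb =>
        obtain ⟨w₁, h1, rfl⟩ := ha
        obtain ⟨w₂, h2, rfl⟩ := hb
        refine ⟨w₁ * w₂, ⟨S.mul_mem h1.1 h2.1, fun g hg => ?_⟩, ?_⟩
        · calc g * (w₁ * w₂) = (g * w₁) * w₂ := by group
            _ = (w₁ * g) * w₂ := by rw [h1.2 g hg]
            _ = w₁ * (g * w₂) := by group
            _ = w₁ * (w₂ * g) := by rw [h2.2 g hg]
            _ = _ := by group
        · have hc : Commute w₁ w₂ := (h2.2 w₁ h1.1)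
          rw [hc.mul_pow]
      | inv a _ ha =>
        obtain ⟨w, h, rfl⟩ := ha
        refine ⟨w⁻¹, ⟨S.inv_mem h.1, fun g hg => ?_⟩, by simp⟩
        have hc : Commute g w := h.2 g hg
        exact (hc.inv_right).eq
    rintro y ⟨hy1, hyN⟩
    obtain ⟨w, hw, rfl⟩ := hpow y hy1
    have hcent : F.IsCentral (Subgroup.zpowers (w ^ p)) := by
      refine isCentral_of_forall hF (Subgroup.zpowers_le.2 (S.pow_mem hw.1 p)) ?_
      intro x hx R f hf hxR
      have hxN : x ∈ N.center := (Subgroup.zpowers_le.2 hyN) hx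
      obtain ⟨n, rfl⟩ := Subgroup.mem_zpowers_iff.1 hx
      have hxe : (w ^ p) ^ n = (w ^ n) ^ p := by
        rw [← zpow_natCast, ← zpow_natCast, ← zpow_mul, ← zpow_mul, mul_comm]
      have hZn : IsZ S (w ^ n) := by
        refine ⟨S.zpow_mem hw.1 n, fun g hg => ?_⟩
        have hc : Commute g w := hw.2 g hg
        exact (hc.zpow_right n).eq
      rw [hxe] at hxN hxR ⊢
      have h3 : ∀ γ ∈ F.autGroup ((thompsonSubgroupA ↥S).map S.subtype), afn γ ((w ^ n) ^ p) = (w ^ n) ^ p :=
        (of_mem_center (W := fun (Q : Type u) [Group Q] => thompsonSubgroupA Q) hW2 hWZ hS hF hN hxN).2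
      have h4 := fixed_all (W := fun (Q : Type u) [Group Q] => thompsonSubgroupA Q) hS hF hW2 hWZ hZn p h3
        (fun L _ _ P v h5 h6 h7 h8 => Cfsg.Agent.Lib.FusionLocalPow.local_pow (fun (Q : Type u) [Group Q] => thompsonSubgroupA Q) hW2
          (fun G _ _ P hn => hq_thompson G P hn) _ L rfl P v h5 h6 h7 h8)
        R f hf _ hxR
      exact h4.2 rfl
    have hle : Subgroup.zpowers (w ^ p) ≤ F.center := le_sSup hcent
    exact hle (Subgroup.mem_zpowers _)
  · intro hfree
    have hSN := S_le_norm (W := fun (Q : Type u) [Group Q] => thompsonSubgroupA Q) hW2 hS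
    have hNs : N.IsSaturated p :=
      Cfsg.Agent.Lib.FusionSatNorm.saturated_normalizer hS hF (fullyNormalized_W (W := fun (Q : Type u) [Group Q] => thompsonSubgroupA Q) hW2 hS) hN
    have hfix : ∀ x ∈ N.center, ∀ (R : Subgroup Ω) (f : Ω → Ω), Maps F R f → x ∈ R → f x = x := by
      intro x hx R f hf hxR
      obtain ⟨h1, h2⟩ := of_mem_center (W := fun (Q : Type u) [Group Q] => thompsonSubgroupA Q) hW2 hWZ hS hF hN hx
      have h3 : ∀ γ ∈ F.autGroup ((thompsonSubgroupA ↥S).map S.subtype), afn γ (x ^ 1) = x ^ 1 := by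
        intro γ hγ
        rw [pow_one]
        exact h2 γ hγ
      have h4 := fixed_all' (W := fun (Q : Type u) [Group Q] => thompsonSubgroupA Q) hS hF hW2 hWZ h1 1 h3
        (fun Q hQn hQc E hE L _ ι hM _ P v hv hvP hvc hg g => by
          simp only [pow_one] at hg ⊢
          refine Cfsg.Agent.Lib.FusionJLocal2.local_J _ L rfl ?_ (P : Subgroup L) v
            (Cfsg.Agent.Lib.AlperinControl.isSyl_of_sylow P) hv hvc hg g
          rcases hfree with h | h
          · exact Or.inl h
          · exact Or.inr (h Q hQn hQc E hE L ι hM))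
        R f hf x hxR
      rw [pow_one] at h4
      exact h4.2 rfl
    apply le_antisymm
    · refine le_sSup (isCentral_of_forall hF ?_ hfix)
      intro x hx
      exact (of_mem_center (W := fun (Q : Type u) [Group Q] => thompsonSubgroupA Q) hW2 hWZ hS hF hN hx).1.1
    · refine sSup_le (fun Q hQ => le_sSup ?_)
      refine (Cfsg.Agent.Lib.FusionCore3.isCentral_iff_conjElt hNs).2 ⟨hQ.1.trans hSN, fun x hx y hy => ?_⟩
      refine ((Cfsg.Agent.Lib.FusionCore3.isCentral_iff_conjElt hF).1 hQ).2 x hx y ?_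
      obtain ⟨φ, hφ, rfl⟩ := hy
      rw [hN _] at hφ
      exact ⟨φ, hφ.1, rfl⟩

/-- Glauberman's Theorem for fusion systems. Let F be a saturated fusion system over a finite p-group S, let J(S) be the subgroup generated by the abelian subgroups of S of largest order, and let N be the normalizer fusion system of J(S) in F (a fusion system over N_S(J(S)) = S). Then every p-th power of an element of Z(S) that lies in the centre of N lies in the centre of F; and if p is odd, or if the symmetric group of degree 4 is not involved in any model of the normalizer system of a fully normalized F-centric subgroup (F is S₄-free), then the centre of N equals the centre of F. -/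
theorem result {Ω : Type*} [Group Ω] {S : Subgroup Ω} [Finite S] (p : ℕ) [Fact p.Prime] (hS : IsPGroup p S) (F : Cfsg.FusionSystem S) (hF : F.IsSaturated p) (N : Cfsg.FusionSystem (Cfsg.FusionSystem.normalizerIn S (Cfsg.thompsonSubgroupAOf S))) (hN : F.IsNormalizerSystem (Cfsg.thompsonSubgroupAOf S) N) : Subgroup.closure ((fun z : Ω => z ^ p) '' ((S ⊓ Subgroup.centralizer (S : Set Ω) : Subgroup Ω) : Set Ω)) ⊓ N.center ≤ F.center ∧ (p ≠ 2 ∨ F.IsSectionFree p (Equiv.Perm (Fin 4)) → N.center = F.center) := by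
  exact main p hS F hF N hN
end Cfsg.Agent.S5193
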