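import Mathlib
import Cfsg.Agent.S5193
import Cfsg.Agent.Lib.FusionTrfApps
import Cfsg.Agent.Lib.FusionCentralQuot
import Cfsg.Statements.S5195

set_option autoImplicit false
open Cfsg

namespace Cfsg.Agent.S5195

open Cfsg.Agent.Lib.FusionCore Cfsg.Agent.Lib.FusionCore2 Cfsg.Agent.Lib.FusionCentralElt Cfsg.FusionSystem
open Cfsg.Agent.Lib.FusionGT Cfsg.Agent.Lib.FusionCentralQuot Cfsg.Agent.Lib.FusionJLocal

universe u

variable {p : ℕ} [hp : Fact p.Prime]

/-- The normalizer system of `J(S)` has no `p'`-automorphisms when `Aut_F(J(S))` is a `p`-group. -/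
theorem not_hasN_J {Ω : Type u} [Group Ω] {S : Subgroup Ω} [Finite S] (hS : IsPGroup p S) {F : Cfsg.FusionSystem S}
    (hA : IsPGroup p (F.autGroup (Cfsg.thompsonSubgroupAOf S))) : ¬ HasN F p (Cfsg.thompsonSubgroupAOf S) := by
  rintro ⟨X, χ, hN⟩
  obtain ⟨J, hJ⟩ : ∃ J, J = Cfsg.thompsonSubgroupAOf S := ⟨_, rfl⟩
  rw [← hJ] at hN hA
  have hJS : J ≤ S := by
    rw [hJ]
    exact Subgroup.map_subtype_le _
  have hJX : J ≤ X := hN.le
  have hXS : X ≤ S := hN.maps.le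
  -- the restriction to `J`
  have hm := hN.maps.restrict hJX
  have himg : img (afn χ) J = J := img_eq_of_card hm hJS hJS hN.pres le_rfl
  obtain ⟨k, hk⟩ := hA ⟨hm.toAut himg, hm.toAut_mem himg⟩
  have hk' : (hm.toAut himg) ^ p ^ k = 1 := congrArg Subtype.val hk
  have hd : orderOf (hm.toAut himg) ∣ orderOf χ :=
    orderOf_dvd_of_restrict hJX (fun x hx => (hm.afn_toAut himg hx).symm)
  have hone : hm.toAut himg = 1 := by
    have h1 : orderOf (hm.toAut himg) = 1 := by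
      have hco : (orderOf χ).Coprime (p ^ k) := Nat.Coprime.pow_right k hN.cop
      exact Nat.eq_one_of_dvd_coprimes hco hd (orderOf_dvd_of_pow_eq_one hk')
    exact orderOf_eq_one_iff.1 h1
  have hfix : ∀ q ∈ J, afn χ q = q := by
    intro q hq
    rw [← hm.afn_toAut himg hq, hone, afn_one hq]
  -- centricity of `J` in `S`
  have hcentric : ∀ c ∈ S, (∀ q ∈ J, q * c = c * q) → c ∈ J := by
    intro c hc hcq
    obtain ⟨A, hA⟩ := Cfsg.Agent.Lib.AbReplace.exists_mem_max (S := ↥S)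
    have hA' := MA.of_mem hA
    have hle : Subgroup.zpowers (⟨c, hc⟩ : ↥S) ≤ A := by
      refine Cfsg.Agent.Lib.AbReplace.le_of_centralizes hA ?_ ?_
      · rintro _ ⟨m, rfl⟩ _ ⟨n, rfl⟩
        simp only
        rw [← zpow_add, ← zpow_add, add_comm]
      · rintro a ha _ ⟨n, rfl⟩
        simp only
        have h1 : (a : Ω) ∈ J := by
          rw [hJ]
          exact hA'.le_JJ ⟨a, ha, rfl⟩
        have h2 : Commute a (⟨c, hc⟩ : ↥S) := Subtype.ext (hcq a h1)
        exact (h2.zpow_right n).eq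
    have h3 := hle (Subgroup.mem_zpowers _)
    rw [hJ]
    exact hA'.le_JJ ⟨_, h3, rfl⟩
  refine hN.ne (Cfsg.Agent.Lib.FusionGT.eq_one_of_sections hJX (hS.to_le hJS) hN.cop (fun x hx => ?_) hfix)
  -- `x⁻¹ χ(x)` centralizes `J`
  have hxN := hN.le_norm hx
  have hχx := hN.maps.mem hx
  refine hcentric _ (S.mul_mem (S.inv_mem (hXS hx)) hχx) (fun q hq => ?_)
  have h1 : x * q * x⁻¹ ∈ J := (Subgroup.mem_normalizer_iff.1 hxN.2 q).1 hq
  have h2 := hfix _ h1
  rw [hN.maps.map_mul (X.mul_mem hx (hJX hq)) (X.inv_mem hx), hN.maps.map_mul hx (hJX hq), hN.maps.map_inv hx,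
    hfix q hq] at h2
  -- `χ(x) q χ(x)⁻¹ = x q x⁻¹`
  have e : q * (x⁻¹ * afn χ x) = x⁻¹ * (x * q * x⁻¹) * afn χ x := by group
  rw [e, ← h2]
  group

theorem main : ∀ (n : ℕ) {Ω : Type u} [Group Ω] {S : Subgroup Ω} [Finite S], IsPGroup p S →
    ∀ (F : Cfsg.FusionSystem S), F.IsSaturated p → (p ≠ 2 ∨ F.IsSectionFree p (Equiv.Perm (Fin 4))) →
    (∀ Q : Subgroup Ω, Q ≤ S → Q ≠ ⊥ → (Q.subgroupOf S).Characteristic → IsPGroup p (F.autGroup Q)) →
    Nat.card S = n → ∀ P : Subgroup Ω, F.Hom P = (Cfsg.innerFusionSystem S).Hom P := by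
  intro n
  induction n using Nat.strong_induction_on with
  | _ n ih =>
  intro Ω _ S _ hS F hF hfree h hn
  by_contra hne
  obtain ⟨X, χ, hm, hχ1, hc⟩ := hasAut_of_not_inner hS hF hne
  -- the nontrivial case
  have hS1 : S ≠ ⊥ := by
    rintro rfl
    apply hχ1
    apply afn_ext
    intro x hx
    rw [afn_one hx]
    have h1 := hm.mem hx
    have h2 := hm.le hx
    rw [Subgroup.mem_bot] at h1 h2
    rw [h1, h2]
  -- the centre of `S`
  obtain ⟨Z, hZdef⟩ : ∃ Z, Z = S ⊓ Subgroup.centralizer (S : Set Ω) := ⟨_, rfl⟩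
  have hZS : Z ≤ S := by
    rw [hZdef]
    exact inf_le_left
  have hZmem : ∀ x, x ∈ Z ↔ x ∈ S ∧ ∀ g ∈ S, g * x = x * g := by
    intro x
    rw [hZdef]
    constructor
    · rintro ⟨h1, h2⟩
      exact ⟨h1, fun g hg => Subgroup.mem_centralizer_iff.1 h2 g hg⟩
    · rintro ⟨h1, h2⟩
      exact ⟨h1, Subgroup.mem_centralizer_iff.2 h2⟩
  -- Step 1: `N_F(J(S))` is inner
  have hJS : Cfsg.thompsonSubgroupAOf S ≤ S := Subgroup.map_subtype_le _
  obtain ⟨N, hN₀⟩ := exists_normalizerSystem (F := F) hJS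
  have hW2 := Cfsg.Agent.S5193.hW2'.{u} (p := p)
  have hSN : S ≤ normalizerIn S (Cfsg.thompsonSubgroupAOf S) :=
    S_le_norm (W := fun (Q : Type u) [Group Q] => thompsonSubgroupA Q) hW2 hS
  have hJf : F.IsFullyNormalized (Cfsg.thompsonSubgroupAOf S) :=
    fullyNormalized_W (W := fun (Q : Type u) [Group Q] => thompsonSubgroupA Q) hW2 hS
  have hNs : N.IsSaturated p := Cfsg.Agent.Lib.FusionSatNorm.saturated_normalizer hS hF hJf hN₀
  have hZJ : ∀ x ∈ Z, x ∈ Cfsg.thompsonSubgroupAOf S := by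
    intro x hx
    obtain ⟨hxS, hxc⟩ := (hZmem x).1 hx
    refine ⟨⟨x, hxS⟩, Cfsg.Agent.S5193.hWZ' (p := p) _ hS ?_, rfl⟩
    rw [Subgroup.mem_center_iff]
    intro t
    exact Subtype.ext (hxc t t.2)
  have hZ1 : Z ≠ ⊥ := by
    haveI : Nontrivial ↥S := (Subgroup.nontrivial_iff_ne_bot S).2 hS1
    haveI := hS.center_nontrivial
    obtain ⟨⟨z, hz⟩, hz1⟩ := exists_ne (1 : Subgroup.center ↥S)
    intro hbot
    have h1 : (z : Ω) ∈ Z :=
      (hZmem _).2 ⟨z.2, fun g hg => congrArg Subtype.val (Subgroup.mem_center_iff.1 hz ⟨g, hg⟩)⟩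
    rw [hbot, Subgroup.mem_bot] at h1
    exact hz1 (Subtype.ext (Subtype.ext h1))
  have hJ1 : Cfsg.thompsonSubgroupAOf S ≠ ⊥ := by
    intro hbot
    apply hZ1
    rw [eq_bot_iff]
    intro x hx
    have := hZJ x hx
    rwa [hbot] at this
  have hJchar : ((Cfsg.thompsonSubgroupAOf S).subgroupOf S).Characteristic := by
    have e : (Cfsg.thompsonSubgroupAOf S).subgroupOf S = thompsonSubgroupA ↥S :=
      Subgroup.comap_map_eq_self_of_injective S.subtype_injective _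
    rw [e, Subgroup.characteristic_iff_map_eq]
    exact fun φ => thompsonA_map φ
  have hAJ := h _ hJS hJ1 hJchar
  have hTS : normalizerIn S (Cfsg.thompsonSubgroupAOf S) ≤ S := inf_le_left
  haveI : Finite ↥(normalizerIn S (Cfsg.thompsonSubgroupAOf S)) := finite_of_le hTS
  have hNin : ∀ P : Subgroup Ω, N.Hom P = (Cfsg.innerFusionSystem (normalizerIn S (Cfsg.thompsonSubgroupAOf S))).Hom P := by
    by_contra h'
    exact not_hasN_J hS hAJ ((hasAut_iff_hasN hJS hN₀).1 (hasAut_of_not_inner (hS.to_le hTS) hNs h'))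
  -- Step 2: `Z(S)` is central
  have hcenter := (Cfsg.Agent.S5193.result p hS F hF N hN₀).2 hfree
  have hZN : Z ≤ N.center := by
    refine le_sSup ((Cfsg.Agent.Lib.FusionCore3.isCentral_iff_conjElt hNs).2 ⟨hZS.trans hSN, fun x hx y hy => ?_⟩)
    obtain ⟨φ, hφ, rfl⟩ := hy
    rw [hNin] at hφ
    obtain ⟨-, g, hg, hgφ⟩ := hφ
    rw [hgφ]
    have h1 := ((hZmem x).1 hx).2 g hg.1
    show g * x * g⁻¹ = x
    rw [h1]
    group
  have hZc : F.IsCentral Z := by
    refine (Cfsg.Agent.Lib.FusionCore3.isCentral_iff_conjElt hF).2 ⟨hZS, fun x hx y hy => ?_⟩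
    have h1 : x ∈ F.center := by
      rw [← hcenter]
      exact hZN hx
    exact ((Cfsg.Agent.Lib.FusionCore3.isCentral_iff_conjElt hF).1 Cfsg.Agent.Lib.FusionTrfApps.isCentral_center).2
      x h1 y hy
  have hsc := stronglyClosed_central hZc
  -- Step 3: the factor system
  obtain ⟨K, hK⟩ : ∃ K, K = Z.subgroupOf S := ⟨_, rfl⟩
  have hKmem : ∀ s : ↥S, s ∈ K ↔ (s : Ω) ∈ Z := by
    intro s
    rw [hK]
    exact Subgroup.mem_subgroupOf
  have hKcenter : K = Subgroup.center ↥S := by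
    ext s
    rw [hKmem, hZmem, Subgroup.mem_center_iff]
    constructor
    · rintro ⟨-, h2⟩ g
      exact Subtype.ext (h2 g g.2)
    · intro h2
      exact ⟨s.2, fun g hg => congrArg Subtype.val (h2 ⟨g, hg⟩)⟩
  haveI hKn : K.Normal := by
    rw [hKcenter]
    infer_instance
  let θ : ↥S →* (↥S ⧸ K) := QuotientGroup.mk' K
  have hk : ∀ s : ↥S, θ s = 1 ↔ (s : Ω) ∈ Z := by
    intro s
    rw [← hKmem]
    exact QuotientGroup.eq_one_iff s
  have hr : θ.range = ⊤ := MonoidHom.range_eq_top.2 (QuotientGroup.mk'_surjective K)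
  obtain ⟨F', hfac⟩ := Cfsg.Agent.Lib.FusionFactor.exists_factorSystem F hsc hk hr
  have hkerA : Cfsg.Agent.Lib.FusionQuotSat.kerAlong θ = Z := by
    ext x
    constructor
    · rintro ⟨s, hs, rfl⟩
      exact (hk s).1 hs
    · intro hx
      exact ⟨⟨x, hZS hx⟩, (hk _).2 hx, rfl⟩
  have hsc' : F.StronglyClosed (Cfsg.Agent.Lib.FusionQuotSat.kerAlong θ) := by
    rw [hkerA]
    exact hsc
  have hmor := Cfsg.Agent.Lib.FusionStrongClosed.isSurjectiveMorphism_of_isFactorSystem hS hF hsc hfac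
  have hF' := Cfsg.Agent.Lib.FusionQuotSat.isSaturated_of_surjective hS hF hmor hsc'
  have hS' : IsPGroup p ↥(⊤ : Subgroup (↥S ⧸ K)) := (hS.to_quotient K).to_subgroup ⊤
  have hcard : Nat.card ↥(⊤ : Subgroup (↥S ⧸ K)) < n := by
    rw [Subgroup.card_top, ← hn, Subgroup.card_eq_card_quotient_mul_card_subgroup K]
    have h1 : K ≠ ⊥ := by
      intro hbot
      apply hZ1
      rw [eq_bot_iff]
      intro x hx
      have h2 : (⟨x, hZS hx⟩ : ↥S) ∈ K := (hKmem _).2 hx
      rw [hbot, Subgroup.mem_bot] at h2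
      exact congrArg Subtype.val h2
    have h2 : 1 < Nat.card K := (Subgroup.one_lt_card_iff_ne_bot K).2 h1
    have h3 : 0 < Nat.card (↥S ⧸ K) := Nat.card_pos
    nlinarith
  -- Step 4: the hypothesis for the factor system
  have h' : ∀ Q' : Subgroup (↥S ⧸ K), Q' ≤ ⊤ → Q' ≠ ⊥ → (Q'.subgroupOf ⊤).Characteristic →
      IsPGroup p (F'.autGroup Q') := by
    intro Q' hQ'S hQ'1 hQ'c
    refine isPGroup_autGroup_factor hfac hQ'S (h _ (Cfsg.Agent.Lib.FusionFactor.preimageAlong_le θ Q') ?_ ?_)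
    · intro hbot
      apply hQ'1
      rw [eq_bot_iff]
      intro y hy
      obtain ⟨s, hs, rfl⟩ := exists_qf hfac (hQ'S hy)
      have h1 : s ∈ Cfsg.FusionSystem.preimageAlong θ Q' := mem_pre.2 ⟨hs, hy⟩
      rw [hbot, Subgroup.mem_bot] at h1
      rw [h1, Subgroup.mem_bot, Cfsg.Agent.Lib.FusionGT.qf_of_mem θ S.one_mem]
      exact map_one θ
    · rw [Subgroup.characteristic_iff_comap_eq]
      intro φ
      have hφK : K.map φ.toMonoidHom = K := by
        rw [hKcenter]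
        exact Subgroup.characteristic_iff_map_eq.1 inferInstance φ
      let φb : (↥S ⧸ K) ≃* (↥S ⧸ K) := QuotientGroup.congr K K φ hφK
      have hφb : ∀ s : ↥S, φb (θ s) = θ (φ s) := fun s => rfl
      let ψ : ↥(⊤ : Subgroup (↥S ⧸ K)) ≃* ↥(⊤ : Subgroup (↥S ⧸ K)) :=
        (Subgroup.topEquiv.trans φb).trans Subgroup.topEquiv.symm
      have hfix := Subgroup.characteristic_iff_comap_eq.1 hQ'c ψ
      have hQ'iff : ∀ x, x ∈ Q' ↔ φb x ∈ Q' := by
        intro x
        have h1 : (⟨x, trivial⟩ : ↥(⊤ : Subgroup (↥S ⧸ K))) ∈ Q'.subgroupOf ⊤ ↔ ψ ⟨x, trivial⟩ ∈ Q'.subgroupOf ⊤ := by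
          conv_lhs => rw [← hfix]
          rfl
        exact h1
      ext s
      rw [Subgroup.mem_comap, Subgroup.mem_subgroupOf, Subgroup.mem_subgroupOf]
      have hs1 : ((φ.toMonoidHom s : ↥S) : Ω) ∈ Cfsg.FusionSystem.preimageAlong θ Q' ↔ θ (φ s) ∈ Q' := by
        rw [Cfsg.Agent.Lib.FusionFactor.mem_preimageAlong]
        exact ⟨fun ⟨_, h2⟩ => h2, fun h2 => ⟨(φ s).2, h2⟩⟩
      have hs2 : (s : Ω) ∈ Cfsg.FusionSystem.preimageAlong θ Q' ↔ θ s ∈ Q' := by
        rw [Cfsg.Agent.Lib.FusionFactor.mem_preimageAlong]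
        exact ⟨fun ⟨_, h2⟩ => h2, fun h2 => ⟨s.2, h2⟩⟩
      rw [hs1, hs2, hQ'iff (θ s), hφb]
  -- Step 5: the inductive hypothesis
  have hinn := ih _ hcard hS' F' hF' (hfree.imp id (sectionFree_quot hS hS' hF hF' hfac hZc)) h' rfl
  have hno := not_hasAut_of_inner hS' hinn
  -- Step 6: conclusion
  have hsec := sections_of_not_hasAut hfac hmor.1 hno hm hc
  refine hχ1 (Cfsg.Agent.Lib.FusionGT.eq_one_of_sections (Q := X ⊓ Z) inf_le_left (hS.to_le (inf_le_right.trans hZS)) hc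
    (fun x hx => ⟨X.mul_mem (X.inv_mem hx) (afn_mem χ hx), hsec x hx⟩) (fun q hq => central_fix hZc hm hq.1 hq.2))

/-- A strengthened Frobenius normal p-complement criterion for fusion systems. Let F be a saturated fusion system over a finite p-group S such that p is odd or F is S₄-free (the symmetric group of degree 4 is not involved in any model of the normalizer system of a fully normalized F-centric subgroup). If Aut_F(Q) is a p-group for every nontrivial characteristic subgroup Q of S, then F is the inner fusion system of S. -/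
theorem result {Ω : Type*} [Group Ω] {S : Subgroup Ω} [Finite S] (p : ℕ) [Fact p.Prime] (hS : IsPGroup p S) (F : Cfsg.FusionSystem S) (hF : F.IsSaturated p) (hp : p ≠ 2 ∨ F.IsSectionFree p (Equiv.Perm (Fin 4))) (h : ∀ Q : Subgroup Ω, Q ≤ S → Q ≠ ⊥ → (Q.subgroupOf S).Characteristic → IsPGroup p (F.autGroup Q)) : ∀ P : Subgroup Ω, F.Hom P = (Cfsg.innerFusionSystem S).Hom P := by
  exact main _ hS F hF hp h rfl
end Cfsg.Agent.S5195
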