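import Mathlib
import Cfsg.Agent.Lib.FusionSat
import Cfsg.Statements.S5153
-- import your own Cfsg.Agent.* helpers here

set_option autoImplicit false
open Cfsg

namespace Cfsg.Agent.S5153

open Cfsg.FusionSystem Cfsg.Agent.Lib.FusionSatBasic Cfsg.Agent.Lib.FusionSat

variable {Ω : Type*} [Group Ω]

/-- If `D` over `U` is a subsystem of the saturated `F`, and `U` is strongly closed in `F`, then fully normalized
subgroups in `F` contained in `U` are fully normalized in `D`. -/
theorem fullyNormalized_of_stronglyClosed {S U : Subgroup Ω} [Finite S] {p : ℕ} [Fact p.Prime]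
    (hS : IsPGroup p S) {F : Cfsg.FusionSystem S} (hF : F.IsSaturated p) {D : Cfsg.FusionSystem U}
    (hDF : D.IsSubsystemOf F) (hU : F.StronglyClosed U) {P : Subgroup Ω} (hPU : P ≤ U)
    (hP : F.IsFullyNormalized P) : D.IsFullyNormalized P := by
  refine ⟨hPU, fun Q hQ => ?_⟩
  obtain ⟨φ, hφ, hr⟩ := hQ
  have hFconj : F.IsConj Q P := by
    obtain ⟨e, he, -⟩ := exists_iso_of_mem (hDF P hφ) hr
    exact he.symm.isConj
  obtain ⟨hfa, hrec⟩ := fullyNormalized_spec hS hF hP
  obtain ⟨e, χ, he, hχ, hχe, hχv⟩ := exists_normalizer_map hS hFconj hfa hrec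
  have hUS : U ≤ S := hU.1
  have hle : normalizerIn U Q ≤ normalizerIn S Q := inf_le_inf_right _ hUS
  obtain ⟨χ', hχ', hχ'e⟩ := exists_restrict F hle hχ
  have hleU : normalizerIn U Q ≤ U := inf_le_left
  have hval : ∀ x : normalizerIn U Q, χ' x ∈ U := hU.2 _ hleU χ' hχ'
  have : Finite (normalizerIn U P) := finite_of_le (inf_le_left.trans hUS)
  let f : normalizerIn U Q → normalizerIn U P := fun x =>
    ⟨χ' x, hval x, by
      rw [hχ'e]
      exact (hχv _).2⟩
  have hf : Function.Injective f := fun a b hab =>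
    F.injective_of_mem hχ' (congrArg Subtype.val hab)
  exact Nat.card_le_card_of_injective f hf

theorem subnormal_subsystem {S T : Subgroup Ω} {E : Cfsg.FusionSystem T} {F : Cfsg.FusionSystem S} {p : ℕ}
    (hE : E.IsSubnormalIn F p) : E.IsSubsystemOf F := by
  induction hE with
  | refl F p => exact fun P => subset_rfl
  | step _ hD ih => exact fun P => (ih P).trans (hD.1.2.2.1 P)

theorem subnormal_fullyNormalized {S T : Subgroup Ω} {E : Cfsg.FusionSystem T} {F : Cfsg.FusionSystem S} {p : ℕ}
    (hE : E.IsSubnormalIn F p) : ∀ [Fact p.Prime] [Finite S], IsPGroup p S → F.IsSaturated p →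
      ∀ P : Subgroup Ω, P ≤ T → F.IsFullyNormalized P → E.IsFullyNormalized P := by
  induction hE with
  | refl F p => exact fun _ _ P _ hP => hP
  | @step U S E D F p hsub hD ih =>
    intro _ _ hS hF P hPT hP
    have hU : F.StronglyClosed U := hD.1.2.2.2.1
    have hUS : U ≤ S := hU.1
    have : Finite U := finite_of_le hUS
    have hTU : T ≤ U := by
      intro x hx
      have h1 := subnormal_subsystem hsub (Subgroup.zpowers x) (E.conj_mem (Subgroup.zpowers_le.mpr hx) T.one_mem)
      exact (D.le_of_mem h1).1 (Subgroup.mem_zpowers x)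
    have hPD : D.IsFullyNormalized P :=
      fullyNormalized_of_stronglyClosed hS hF hD.1.2.2.1 hU (hPT.trans hTU) hP
    exact ih (hS.to_le hUS) hD.1.1 P hPT hPD

/-- Let F be a saturated fusion system over a finite p-group S and E a subnormal subsystem of F over T. Then every subgroup of T that is fully normalized in F is fully normalized in E. -/
theorem result {Ω : Type*} [Group Ω] {S : Subgroup Ω} [Finite S] (p : ℕ) [Fact p.Prime] (hS : IsPGroup p S) (F : Cfsg.FusionSystem S) (hF : F.IsSaturated p) {T : Subgroup Ω} (E : Cfsg.FusionSystem T) (hE : E.IsSubnormalIn F p) (P : Subgroup Ω) (hPT : P ≤ T) (hP : F.IsFullyNormalized P) : E.IsFullyNormalized P := by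
  exact subnormal_fullyNormalized hE hS hF P hPT hP

end Cfsg.Agent.S5153
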