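import Mathlib
import Cfsg.Statements.S0769
-- import your own Cfsg.Agent.* helpers here

set_option autoImplicit false
open Cfsg

namespace Cfsg.Agent.S0769

/-- Order of the Borel subgroup of GL_n(q): the invertible lower-triangular n × n matrices over a field with q elements number q^(n(n-1)/2) (q-1)^n (unitriangular part times the diagonal torus). -/
theorem result {F : Type*} [Field F] [Fintype F] {q : ℕ} (hF : Fintype.card F = q) (n : ℕ) : Nat.card {g : Matrix.GeneralLinearGroup (Fin n) F // ∀ i j : Fin n, i < j → (g : Matrix (Fin n) (Fin n) F) i j = 0} = q ^ (n * (n - 1) / 2) * (q - 1) ^ n := by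
  classical
  let S : Fin n → Fin n → Type _ := fun i j => {x : F // (i < j → x = 0) ∧ (i = j → x ≠ 0)}
  have hdiag : ∀ (g : Matrix.GeneralLinearGroup (Fin n) F),
      (∀ i j : Fin n, i < j → (g : Matrix (Fin n) (Fin n) F) i j = 0) →
      ∀ i, (g : Matrix (Fin n) (Fin n) F) i i ≠ 0 := by
    intro g hg i
    have h1 : (g : Matrix (Fin n) (Fin n) F).det ≠ 0 :=
      ((Matrix.isUnit_iff_isUnit_det _).1 g.isUnit).ne_zero
    rw [Matrix.det_of_isLowerTriangular _ (fun a b hab => hg a b hab)] at h1
    exact (Finset.prod_ne_zero_iff.1 h1) i (Finset.mem_univ i)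
  have hequiv : {g : Matrix.GeneralLinearGroup (Fin n) F // ∀ i j : Fin n, i < j → (g : Matrix (Fin n) (Fin n) F) i j = 0}
      ≃ ∀ i j, S i j := by
    refine
      { toFun := fun g i j => ⟨(g.1 : Matrix (Fin n) (Fin n) F) i j, g.2 i j, ?_⟩
        invFun := fun f => ⟨Matrix.GeneralLinearGroup.mkOfDetNeZero (Matrix.of fun i j => (f i j).1) ?_, ?_⟩
        left_inv := ?_
        right_inv := ?_ }
    · rintro rfl
      exact hdiag g.1 g.2 i
    · rw [Matrix.det_of_isLowerTriangular (Matrix.of fun i j => (f i j).1) (fun a b hab => (f a b).2.1 hab)]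
      exact Finset.prod_ne_zero_iff.2 fun i _ => (f i i).2.2 rfl
    · intro i j hij
      exact (f i j).2.1 hij
    · intro g
      apply Subtype.ext
      apply Units.ext
      ext i j
      rfl
    · intro f
      funext i j
      apply Subtype.ext
      rfl
  rw [Nat.card_congr hequiv, Nat.card_pi]
  simp only [Nat.card_pi]
  have hcard : ∀ i j : Fin n, Nat.card (S i j) = if j < i then q else if i = j then q - 1 else 1 := by
    intro i j
    rcases lt_trichotomy i j with hij | hij | hij
    · have hS : S i j ≃ Unit :=
        { toFun := fun _ => ()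
          invFun := fun _ => ⟨0, fun _ => rfl, fun h => absurd h (ne_of_lt hij)⟩
          left_inv := fun x => Subtype.ext (x.2.1 hij).symm
          right_inv := fun _ => rfl }
      rw [Nat.card_congr hS]
      simp [not_lt.2 hij.le, ne_of_lt hij]
    · subst hij
      have hS : S i i ≃ {x : F // x ≠ 0} :=
        { toFun := fun x => ⟨x.1, x.2.2 rfl⟩
          invFun := fun x => ⟨x.1, fun h => absurd h (lt_irrefl _), fun _ => x.2⟩
          left_inv := fun x => rfl
          right_inv := fun _ => rfl }
      rw [Nat.card_congr hS]
      simp only [lt_irrefl, if_false, if_true]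
      rw [Nat.card_eq_fintype_card, Fintype.card_subtype_compl, Fintype.card_subtype_eq, hF]
    · have hS : S i j ≃ F :=
        { toFun := fun x => x.1
          invFun := fun x => ⟨x, fun h => absurd h (not_lt.2 hij.le), fun h => absurd h.symm (ne_of_lt hij)⟩
          left_inv := fun x => rfl
          right_inv := fun _ => rfl }
      rw [Nat.card_congr hS, if_pos hij, Nat.card_eq_fintype_card, hF]
  simp only [hcard]
  have hinner : ∀ i : Fin n, (∏ j : Fin n, if j < i then q else if i = j then q - 1 else 1) = q ^ (i : ℕ) * (q - 1) := by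
    intro i
    have h1 : ∀ j : Fin n, (if j < i then q else if i = j then q - 1 else 1)
        = (if j < i then q else 1) * (if j = i then q - 1 else 1) := by
      intro j
      by_cases hj : j < i
      · simp [hj, ne_of_lt hj]
      · by_cases hj2 : j = i
        · subst hj2
          simp
        · simp [hj, hj2, Ne.symm hj2]
    simp only [h1]
    rw [Finset.prod_mul_distrib]
    congr 1
    · rw [Finset.prod_ite, Finset.prod_const_one, mul_one, Finset.prod_const]
      congr 1
      rw [Finset.filter_gt_eq_Iio, Fin.card_Iio]
    · rw [Finset.prod_ite_eq' ]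
      simp
  simp only [hinner]
  rw [Finset.prod_mul_distrib, Finset.prod_const, Finset.card_univ, Fintype.card_fin, Finset.prod_pow_eq_pow_sum]
  congr 2
  rw [Fin.sum_univ_eq_sum_range (fun i => i) n, Finset.sum_range_id]

end Cfsg.Agent.S0769
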