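import Mathlib
-- Template for statement S0912 (row 912; see /opt/grader/pristine/manifest.json for weights).
-- Copy to Cfsg/Agent/S0912.lean and replace the sorry. The statement below is byte-identical to the frozen
-- statement Cfsg.CfsgFrozen.S0912 (Cfsg/Statements/S0912.lean; the theorem Cfsg.pcore_le_defect_group);
-- the grader kernel-checks Cfsg.Agent.S0912.result against that frozen type. Keep the theorem IN THIS FILE
-- (a `result` declared elsewhere and merely imported here is not credited); helpers may live anywhere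
-- under Cfsg/Agent/.
import Cfsg.Statements.S0912
import Cfsg.Agent.Lib.BlockNormal
import Cfsg.Agent.Lib.PCore

set_option autoImplicit false
open Cfsg

namespace Cfsg.Agent.S0912



/-- Let B be a block of the finite group G relative to a maximal ideal M of the algebraic integers containing the prime p. Every defect group of B contains the largest normal p-subgroup O_p(G). -/
theorem result {G : Type*} [Group G] [Finite G] (p : ℕ) [Fact p.Prime] (M : Ideal Cfsg.AlgInt) (hM : Cfsg.IsPModular p M) (B : Set (Cfsg.IrrCharacter G)) (hB : Cfsg.IsPBlock M B) (D : Subgroup G) (hD : Cfsg.IsDefectGroup p M B D) : Cfsg.pCore p G ≤ D := by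
  classical
  letI := Fintype.ofFinite G
  haveI := hM.2.1.isPrime
  letI : Fintype (Cfsg.pCore p G) := Fintype.ofFinite _
  obtain ⟨g, hg, P, rfl⟩ := hD
  have hO : IsPGroup p (Cfsg.pCore p G) := Cfsg.Agent.Lib.PCore.isPGroup_pCore p
  haveI hOn : (Cfsg.pCore p G).Normal := Cfsg.Agent.Lib.PCore.pCore_normal p
  obtain ⟨χ, hχB⟩ := id hB
  have hχ : χ ∈ B := by
    rw [hχB]
    exact Cfsg.Agent.Lib.BlockIdem.mem_blockOf_self χ
  have hgC : g ∈ Subgroup.centralizer (Cfsg.pCore p G : Set G) := by
    by_contra h
    exact hg.2.2 χ hχ (Cfsg.Agent.Lib.BlockNormal.memLocalIdeal_centralChar_of_not_mem (Cfsg.pCore p G) hO hM χ g h)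
  have hle : Cfsg.pCore p G ≤ Subgroup.centralizer ({g} : Set G) := by
    intro u hu
    rw [Subgroup.mem_centralizer_singleton_iff]
    exact Subgroup.mem_centralizer_iff.mp hgC u hu
  have hp2 : IsPGroup p ((Cfsg.pCore p G).subgroupOf (Subgroup.centralizer ({g} : Set G))) :=
    IsPGroup.comap_of_injective hO _ (Subgroup.subtype_injective _)
  have h3 := hp2.le_sylow_of_normal P
  intro u hu
  exact ⟨⟨u, hle hu⟩, h3 (by simpa [Subgroup.mem_subgroupOf] using hu), rfl⟩

end Cfsg.Agent.S0912
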