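import Mathlib
-- Template for statement S0916 (row 916; see /opt/grader/pristine/manifest.json for weights).
-- Copy to Cfsg/Agent/S0916.lean and replace the sorry. The statement below is byte-identical to the frozen
-- statement Cfsg.CfsgFrozen.S0916 (Cfsg/Statements/S0916.lean; the theorem Cfsg.classes_with_defect_group_biject_normalizer);
-- the grader kernel-checks Cfsg.Agent.S0916.result against that frozen type. Keep the theorem IN THIS FILE
-- (a `result` declared elsewhere and merely imported here is not credited); helpers may live anywhere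
-- under Cfsg/Agent/.
import Cfsg.Statements.S0916
import Cfsg.Agent.Lib.BlkSylow

set_option autoImplicit false
open Cfsg

namespace Cfsg.Agent.S0916

open Cfsg.Agent.Lib.BlkSylow

section Aux

variable {G : Type*} [Group G] [Finite G] {p : ℕ} [Fact p.Prime]

theorem mem_of_eq_map {g : G} {P : Subgroup G}
    (h : IsSylowIn p P (Subgroup.centralizer ({g} : Set G))) :
    g ∈ Subgroup.centralizer (P : Set G) := by
  rw [Subgroup.mem_centralizer_iff]
  intro u hu
  exact (Subgroup.mem_centralizer_singleton_iff.mp (h.2.1 hu))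

theorem le_centralizer_of_mem {c : G} {P : Subgroup G} (h : c ∈ Subgroup.centralizer (P : Set G)) :
    P ≤ Subgroup.centralizer ({c} : Set G) := by
  intro u hu
  rw [Subgroup.mem_centralizer_singleton_iff]
  exact (Subgroup.mem_centralizer_iff.mp h u hu)

theorem isSylowIn_of_conj {g c : G} {P : Subgroup G} (hP : IsPGroup p P)
    (h : IsSylowIn p P (Subgroup.centralizer ({g} : Set G))) (hc : IsConj g c)
    (hcP : c ∈ Subgroup.centralizer (P : Set G)) :
    IsSylowIn p P (Subgroup.centralizer ({c} : Set G)) := by
  obtain ⟨u, rfl⟩ := isConj_iff.mp hc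
  have h1 := isSylowIn_centralizer_conj (u := u) h
  exact isSylowIn_of_card h1 hP (le_centralizer_of_mem hcP) (card_map_conj _ _).symm

theorem part_two {c : G} {P : Subgroup G} (hP : IsPGroup p P)
    (hc : c ∈ Subgroup.centralizer (P : Set G))
    (h : IsSylowIn p P (Subgroup.centralizer ({c} : Set G) ⊓ Subgroup.normalizer (P : Set G))) :
    IsSylowIn p P (Subgroup.centralizer ({c} : Set G)) := by
  set K := Subgroup.centralizer ({c} : Set G) with hK
  have hle : P ≤ K := le_centralizer_of_mem hc
  refine ⟨hP, hle, fun hdvd => h.2.2 ?_⟩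
  set H : Subgroup K := P.subgroupOf K with hH
  have hHcard : Nat.card H = Nat.card P := Nat.card_congr (Subgroup.subgroupOfEquivOfLe hle).toEquiv
  obtain ⟨n, hn⟩ : ∃ n, Nat.card P = p ^ n := by
    exact IsPGroup.iff_card.mp hP
  have h1 : p ^ (n + 1) ∣ Nat.card K := by
    rw [← relIndex_mul_card hle, hn, pow_succ, mul_comm (p ^ n)]
    exact mul_dvd_mul_right hdvd _
  have h2 := Sylow.card_normalizer_modEq_card (G := K) (p := p) (n := n) (H := H) (by rw [hHcard, hn])
  have h3 : p ^ (n + 1) ∣ Nat.card (Subgroup.normalizer (H : Set K)) := by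
    exact (Nat.modEq_zero_iff_dvd.mp (h2.trans (Nat.modEq_zero_iff_dvd.mpr h1)))
  have h4 : (Subgroup.normalizer (H : Set K)).map K.subtype = K ⊓ Subgroup.normalizer (P : Set G) := by
    ext x
    constructor
    · rintro ⟨y, hy, rfl⟩
      refine ⟨y.2, ?_⟩
      rw [SetLike.mem_coe, Subgroup.mem_normalizer_iff] at *
      intro u
      by_cases hu : u ∈ K
      · have := hy ⟨u, hu⟩
        simpa [hH, Subgroup.mem_subgroupOf] using this
      · have hu2 : u ∉ P := fun h => hu (hle h)
        have hu3 : (y : G) * u * (y : G)⁻¹ ∉ P := by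
          intro h5
          apply hu
          have := K.mul_mem (K.mul_mem (K.inv_mem y.2) (hle h5)) y.2
          simpa [mul_assoc] using this
        simp [hu2, hu3]
    · rintro ⟨hx1, hx2⟩
      refine ⟨⟨x, hx1⟩, ?_, rfl⟩
      rw [SetLike.mem_coe, Subgroup.mem_normalizer_iff] at *
      intro u
      have := hx2 u
      simpa [hH, Subgroup.mem_subgroupOf] using this
  have h5 : Nat.card (K ⊓ Subgroup.normalizer (P : Set G) : Subgroup G) = Nat.card (Subgroup.normalizer (H : Set K)) := by
    rw [← h4]
    exact Subgroup.card_map_of_injective K.subtype_injective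
  have h6 := relIndex_mul_card h.2.1
  rw [h5, hn] at h6
  rw [← h6, pow_succ, mul_comm] at h3
  exact Nat.dvd_of_mul_dvd_mul_right (pow_pos (Fact.out : p.Prime).pos n) h3

end Aux

/-- Let P be a p-subgroup of the finite group G, C its centralizer and N its normalizer. Say that a conjugacy class (of G, or of N) has defect group P when P is a Sylow p-subgroup of the centralizer (in G, respectively in N) of some element of the class. Then: (i) if the class of g in G has defect group P, the elements of that class lying in C form a single N-class, again with defect group P; (ii) every N-class with defect group P arises this way from exactly one G-class with defect group P. -/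
theorem result {G : Type*} [Group G] [Finite G] (p : ℕ) [Fact p.Prime] (P : Subgroup G) (hP : IsPGroup p P) : (∀ g : G, (∃ S : Sylow p (Subgroup.centralizer ({g} : Set G)), (S : Subgroup (Subgroup.centralizer ({g} : Set G))).map (Subgroup.centralizer ({g} : Set G)).subtype = P) → (∃ c : G, IsConj g c ∧ c ∈ Subgroup.centralizer (P : Set G)) ∧ (∀ c₁ c₂ : G, IsConj g c₁ → IsConj g c₂ → c₁ ∈ Subgroup.centralizer (P : Set G) → c₂ ∈ Subgroup.centralizer (P : Set G) → ∃ n ∈ Subgroup.normalizer (P : Set G), n * c₁ * n⁻¹ = c₂)) ∧ (∀ c : G, c ∈ Subgroup.centralizer (P : Set G) → (∃ S : Sylow p (Subgroup.centralizer ({c} : Set G) ⊓ Subgroup.normalizer (P : Set G) : Subgroup G), (S : Subgroup ↥(Subgroup.centralizer ({c} : Set G) ⊓ Subgroup.normalizer (P : Set G))).map (Subgroup.centralizer ({c} : Set G) ⊓ Subgroup.normalizer (P : Set G)).subtype = P) → ∃ S : Sylow p (Subgroup.centralizer ({c} : Set G)), (S : Subgroup (Subgroup.centralizer ({c} : Set G))).map (Subgroup.centralizer ({c} : Set G)).subtype = P) := by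
  classical
  refine ⟨?_, ?_⟩
  · rintro g ⟨S, hS⟩
    have hSyl : IsSylowIn p P (Subgroup.centralizer ({g} : Set G)) := by
      have := isSylowIn_of_sylow S
      rwa [hS] at this
    refine ⟨⟨g, IsConj.refl g, mem_of_eq_map hSyl⟩, ?_⟩
    intro c₁ c₂ h₁ h₂ h₁P h₂P
    have hS₁ := isSylowIn_of_conj hP hSyl h₁ h₁P
    have hS₂ := isSylowIn_of_conj hP hSyl h₂ h₂P
    obtain ⟨t, ht⟩ := isConj_iff.mp (h₁.symm.trans h₂)
    have h3 := isSylowIn_centralizer_conj (u := t) hS₁
    rw [ht] at h3
    obtain ⟨w, hw, hwP⟩ := exists_conj_of_isSylowIn h3 hS₂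
    rw [map_conj_mul] at hwP
    refine ⟨w * t, ?_, ?_⟩
    · rw [Subgroup.mem_normalizer_iff]
      intro u
      constructor
      · intro hu
        rw [hwP]
        exact ⟨u, hu, rfl⟩
      · intro hu
        rw [hwP] at hu
        obtain ⟨v, hv, hv2⟩ := hu
        have : v = u := (MulAut.conj (w * t)).injective hv2
        rwa [← this]
    · rw [mul_assoc, mul_assoc]
      calc w * (t * (c₁ * (w * t)⁻¹)) = w * (t * c₁ * t⁻¹) * w⁻¹ := by group
        _ = w * c₂ * w⁻¹ := by rw [ht]
        _ = c₂ := by
          have := Subgroup.mem_centralizer_singleton_iff.mp hw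
          rw [this]; group
  · rintro c hc ⟨S, hS⟩
    have hSyl : IsSylowIn p P (Subgroup.centralizer ({c} : Set G) ⊓ Subgroup.normalizer (P : Set G)) := by
      have := isSylowIn_of_sylow S
      rwa [hS] at this
    exact exists_sylow_of_isSylowIn (part_two hP hc hSyl)

end Cfsg.Agent.S0916
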