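import Mathlib
-- Template for statement S0917 (row 917; see /opt/grader/pristine/manifest.json for weights).
-- Copy to Cfsg/Agent/S0917.lean and replace the sorry. The statement below is byte-identical to the frozen
-- statement Cfsg.CfsgFrozen.S0917 (Cfsg/Statements/S0917.lean; the theorem Cfsg.induced_block_defect_group_le);
-- the grader kernel-checks Cfsg.Agent.S0917.result against that frozen type. Keep the theorem IN THIS FILE
-- (a `result` declared elsewhere and merely imported here is not credited); helpers may live anywhere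
-- under Cfsg/Agent/.
import Cfsg.Statements.S0917
import Cfsg.Agent.Lib.BlkBrauer

set_option autoImplicit false
open Cfsg

namespace Cfsg.Agent.S0917

open Cfsg.Agent.Lib.BlkBrauer Cfsg.Agent.Lib.BlockLocal Cfsg.Agent.Lib.BlockDefect Cfsg.Agent.Lib.BlkSylow Cfsg.Agent.Lib.BlockIdem

/-- Let H be a subgroup of the finite group G, p a prime and M a maximal ideal of the algebraic integers containing p. If the block b of H induces the block B of G relative to M, then every defect group of b (a subgroup of H, viewed in G) is contained in some defect group of B. -/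
theorem result {G : Type*} [Group G] [Finite G] (p : ℕ) [Fact p.Prime] (M : Ideal Cfsg.AlgInt) (hM : Cfsg.IsPModular p M) (H : Subgroup G) (b : Set (Cfsg.IrrCharacter H)) (hb : Cfsg.IsPBlock M b) (B : Set (Cfsg.IrrCharacter G)) (hB : Cfsg.IsPBlock M B) (hind : Cfsg.IsInducedBlock M H b B) (D : Subgroup H) (hD : Cfsg.IsDefectGroup p M b D) : ∃ E : Subgroup G, Cfsg.IsDefectGroup p M B E ∧ D.map H.subtype ≤ E := by
  classical
  letI := Fintype.ofFinite G
  letI := Fintype.ofFinite H
  haveI := hM.2.1.isPrime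
  obtain ⟨y, hy⟩ := Cfsg.Agent.Lib.BlockDefect.exists_isDefectClass hM hB
  obtain ⟨E₀⟩ : Nonempty (Sylow p (Subgroup.centralizer ({y} : Set G))) := inferInstance
  have hdefE : IsDefectGroup p M B ((E₀ : Subgroup (Subgroup.centralizer ({y} : Set G))).map (Subgroup.centralizer ({y} : Set G)).subtype) := ⟨y, hy, E₀, rfl⟩
  obtain ⟨χ, hχB⟩ := id hB
  have hχ : χ ∈ B := by
    rw [hχB]
    exact mem_blockOf_self χ
  obtain ⟨ξ, hξb⟩ := id hb
  have hξ : ξ ∈ b := by
    rw [hξb]
    exact mem_blockOf_self ξ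
  have h1 := hy.2.2 χ hχ
  have h2 := hind.2.2 ξ hξ χ hχ y
  have h3 : ¬ MemLocalIdeal M (inducedCentralChar H (ξ : H → ℂ) y) := fun h => h1 (by
    have := memLocalIdeal_sub h h2
    rwa [sub_sub_cancel] at this)
  obtain ⟨u, hu, hu2⟩ := exists_of_inducedCentralChar H ξ h3
  obtain ⟨Q⟩ : Nonempty (Sylow p (Subgroup.centralizer ({u} : Set H))) := inferInstance
  obtain ⟨u₀, hu₀, S, rfl⟩ := id hD
  have hL := leDefect_of_coeff hM hb hξ hu2 (leDefect_of_sylow u Q) hu₀.2.1
  obtain ⟨t, ht⟩ := hL _ (isSylowIn_of_sylow S).1 (isSylowIn_of_sylow S).2.1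
  set D := (S : Subgroup (Subgroup.centralizer ({u₀} : Set H))).map (Subgroup.centralizer ({u₀} : Set H)).subtype with hDdef
  -- the image in `G`
  have hU' : ((D.map (MulAut.conj t).toMonoidHom).map H.subtype) ≤ Subgroup.centralizer ({(u : G)} : Set G) := by
    rintro _ ⟨w, hw, rfl⟩
    have h4 := (isSylowIn_of_sylow Q).2.1 (ht hw)
    rw [Subgroup.mem_centralizer_singleton_iff] at h4 ⊢
    exact congrArg Subtype.val h4
  have hUp : IsPGroup p ((D.map (MulAut.conj t).toMonoidHom).map H.subtype) :=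
    (((isSylowIn_of_sylow S).1).map _).map _
  obtain ⟨c, hc⟩ := isConj_iff.mp hu
  have hLy := LeDefect.conj (leDefect_of_sylow y E₀) c
  rw [hc] at hLy
  obtain ⟨r, hr⟩ := hLy _ hUp hU'
  refine ⟨_, IsDefectGroup.conj hdefE (r * (t : G))⁻¹, ?_⟩
  rintro _ ⟨x, hx, rfl⟩
  rw [conj_mem_map]
  have h5 : (r * (t : G)) * (x : G) * (r * (t : G))⁻¹ ∈ ((E₀ : Subgroup (Subgroup.centralizer ({y} : Set G))).map (Subgroup.centralizer ({y} : Set G)).subtype) := by
    apply hr
    refine ⟨(t : G) * (x : G) * (t : G)⁻¹, ⟨t * x * t⁻¹, ⟨x, hx, rfl⟩, rfl⟩, ?_⟩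
    simp [mul_assoc]
  simpa using h5

end Cfsg.Agent.S0917
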