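import Mathlib
import Cfsg.Statements.S4676
import Cfsg.Agent.Lib.BlockQ
import Cfsg.Agent.Lib.BlockDefect

set_option autoImplicit false
set_option linter.unusedSectionVars false
set_option linter.unusedVariables false

namespace Cfsg.Agent.S4676

open Cfsg Cfsg.Agent.Lib.BlockQ Cfsg.Agent.Lib.BlockLocal Cfsg.Agent.Lib.BlockIdem
open Cfsg.Agent.Lib.BlockOrtho Cfsg.Agent.Lib.BlockDefect Cfsg.Agent.Lib.CharBasic

universe u

variable {G : Type u} [Group G] [Fintype G] {p : ℕ} {M : Ideal AlgInt}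

/-- The central lemma: the `Q` entries in the row of a height zero character are all non-zero. -/
theorem Q_ne_zero (hM : IsPModular p M) {B : Set (IrrCharacter G)} (hB : IsPBlock M B)
    {χ₀ : IrrCharacter G} (hχ₀ : χ₀ ∈ B)
    (h0 : (charDegree (χ₀ : G → ℂ)).factorization p = minExp p B)
    {τ : IrrCharacter G} (hτ : τ ∈ B) : Q p B χ₀ τ ≠ 0 := by
  classical
  have hMp := hM.2.1.isPrime
  have hp := hM.1
  haveI : Fact p.Prime := ⟨hp⟩
  have hpC : (p : ℂ) ≠ 0 := by exact_mod_cast hp.ne_zero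
  have hc := omega_regInv_mem_Zc (M := M) (p := p) (IsIrrCharacter.isCharacter χ₀.2)
  have hχ₀B : B = blockOf M (χ₀ : G → ℂ) := by
    obtain ⟨ξ, rfl⟩ := hB
    exact (blockOf_eq_of_mem hχ₀).symm
  have hsame : ∀ {ψ : IrrCharacter G}, ψ ∈ B → SameBlock M (χ₀ : G → ℂ) (ψ : G → ℂ) := by
    intro ψ hψ
    rw [hχ₀B] at hψ
    exact hψ
  by_cases hW : MemLocalIdeal M (omega (χ₀ : G → ℂ) (regInv p (χ₀ : G → ℂ)))
  · -- the degenerate case is contradictory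
    exfalso
    have h1 : ∀ ψ ∈ bF B, (p : ℤ) ∣ Q p B χ₀ ψ := by
      intro ψ hψ
      have hψ' := mem_bF.mp hψ
      obtain ⟨u, hu1, hu2, hu3⟩ := Q_formula hM hB hψ'
      rw [← memLocalIdeal_intCast_iff hM, hu3 χ₀]
      have h2 := memLocalIdeal_sub_of_mem_Zc hc (hsame hψ')
      have h3 : MemLocalIdeal M (omega (ψ : G → ℂ) (regInv p (χ₀ : G → ℂ))) := by
        have h4 := memLocalIdeal_sub hW h2
        simpa using h4
      exact memLocalIdeal_mul_left (memLocalRing_mul (memLocalRing_pow (memLocalRing_natCast _) _) hu1) h3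
    choose! n hn using h1
    have h5 := pow_dvd_sum_of_vanish (G := G) hp (bF B) n (by
      intro g hg
      have h6 := pow_mul_pRegularPart hM hB hχ₀ g
      rw [pRegularPart_of_sing _ hg, mul_zero] at h6
      have h7 : ∑ τ ∈ bF B, (Q p B χ₀ τ : ℂ) * (τ : G → ℂ) g =
          (p : ℂ) * ∑ τ ∈ bF B, (n τ : ℂ) * (τ : G → ℂ) g := by
        rw [Finset.mul_sum]
        refine Finset.sum_congr rfl fun τ hτ => ?_
        rw [hn τ hτ]
        push_cast
        ring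
      rw [h7] at h6
      exact (mul_eq_zero.mp h6.symm).resolve_left hpC)
    -- degree identity
    have h8 := pow_mul_pRegularPart hM hB hχ₀ 1
    rw [pRegularPart_of_reg _ (by simp [hp.one_lt.ne'])] at h8
    have h9 : (((p : ℤ) ^ blockDefect p B * (charDegree (χ₀ : G → ℂ) : ℤ) : ℤ) : ℂ) =
        (((p : ℤ) * ∑ τ ∈ bF B, n τ * (charDegree (τ : G → ℂ) : ℤ) : ℤ) : ℂ) := by
      push_cast
      rw [← Cfsg.Agent.Lib.CharKernel.one_eq_charDegree (IsIrrCharacter.isCharacter χ₀.2), h8,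
        Finset.mul_sum]
      refine Finset.sum_congr rfl fun τ hτ => ?_
      rw [hn τ hτ, Cfsg.Agent.Lib.CharKernel.one_eq_charDegree (IsIrrCharacter.isCharacter τ.2)]
      push_cast
      ring
    have h10 : (p : ℤ) ^ blockDefect p B * (charDegree (χ₀ : G → ℂ) : ℤ) =
        (p : ℤ) * ∑ τ ∈ bF B, n τ * (charDegree (τ : G → ℂ) : ℤ) := by exact_mod_cast h9
    have h11 : (p : ℤ) ^ ((Nat.card G).factorization p + 1) ∣
        (p : ℤ) ^ blockDefect p B * (charDegree (χ₀ : G → ℂ) : ℤ) := by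
      rw [h10, pow_succ, mul_comm]
      exact mul_dvd_mul_left _ h5
    have hd0 : charDegree (χ₀ : G → ℂ) ≠ 0 := Cfsg.Agent.Lib.CharKernel.charDegree_ne_zero χ₀.2
    have h12 : p ^ ((Nat.card G).factorization p + 1) ∣ p ^ blockDefect p B * charDegree (χ₀ : G → ℂ) := by
      exact_mod_cast h11
    have h13 := (hp.pow_dvd_iff_le_factorization (mul_ne_zero (pow_ne_zero _ hp.ne_zero) hd0)).mp h12
    rw [Nat.factorization_mul (pow_ne_zero _ hp.ne_zero) hd0, Nat.factorization_pow] at h13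
    simp only [Finsupp.add_apply, Finsupp.smul_apply, hp.factorization_self, smul_eq_mul, mul_one] at h13
    have h14 := card_factorization_eq (M := M) (p := p) hB
    omega
  · obtain ⟨u, hu1, hu2, hu3⟩ := Q_formula hM hB hτ
    intro h
    have h3 : ¬ MemLocalIdeal M (omega (τ : G → ℂ) (regInv p (χ₀ : G → ℂ))) := by
      intro h4
      have h2 := memLocalIdeal_sub_of_mem_Zc hc (hsame hτ)
      apply hW
      have h5 := memLocalIdeal_add h2 h4
      simpa using h5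
    have h6 := hu3 χ₀
    rw [h] at h6
    simp only [Int.cast_zero] at h6
    have h7 : u ≠ 0 := ne_zero_of_not_memLocalIdeal hu2
    have h8 : omega (τ : G → ℂ) (regInv p (χ₀ : G → ℂ)) ≠ 0 := ne_zero_of_not_memLocalIdeal h3
    have h9 : (p : ℂ) ^ blockHeight p B (τ : G → ℂ) ≠ 0 := pow_ne_zero _ hpC
    exact (mul_ne_zero (mul_ne_zero h9 h7) h8) h6.symm

theorem main (hM : IsPModular p M) {B : Set (IrrCharacter G)} (hB : IsPBlock M B) :
    ∑ χ ∈ bF B, p ^ (2 * blockHeight p B (χ : G → ℂ)) ≤ (p ^ blockDefect p B) ^ 2 / 4 + 1 := by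
  classical
  have hMp := hM.2.1.isPrime
  have hp := hM.1
  obtain ⟨χ₀, hχ₀, h0⟩ := exists_minExp (p := p) hB
  have hh0 : blockHeight p B (χ₀ : G → ℂ) = 0 := by
    have := charDegree_factorization_eq (p := p) hχ₀
    omega
  set P := blockDefect p B with hP
  have h1 : ∑ τ ∈ bF B, Q p B χ₀ τ * Q p B τ χ₀ = (p : ℤ) ^ P * Q p B χ₀ χ₀ :=
    sum_Q_mul_Q hM hB hχ₀ hχ₀
  have h2 : ∑ τ ∈ bF B, (Q p B χ₀ τ) ^ 2 = (p : ℤ) ^ P * Q p B χ₀ χ₀ := by
    rw [← h1]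
    refine Finset.sum_congr rfl fun τ hτ => ?_
    rw [Q_symm hM hB (mem_bF.mp hτ) hχ₀, sq]
  have hmem : χ₀ ∈ bF B := mem_bF.mpr hχ₀
  rw [← Finset.add_sum_erase _ _ hmem] at h2 ⊢
  have h3 : ∀ τ ∈ (bF B).erase χ₀, ((p ^ (2 * blockHeight p B (τ : G → ℂ)) : ℕ) : ℤ) ≤ (Q p B χ₀ τ) ^ 2 := by
    intro τ hτ
    have hτB : τ ∈ B := mem_bF.mp (Finset.mem_of_mem_erase hτ)
    have h4 := pow_height_dvd_Q hM hB χ₀ hτB
    have h5 := Q_ne_zero hM hB hχ₀ h0 hτB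
    have h6 : (p : ℤ) ^ blockHeight p B (τ : G → ℂ) ≤ |Q p B χ₀ τ| :=
      Int.le_of_dvd (abs_pos.mpr h5) ((dvd_abs _ _).mpr h4)
    have h7 : (0 : ℤ) ≤ (p : ℤ) ^ blockHeight p B (τ : G → ℂ) := by positivity
    have h8 : ((p : ℤ) ^ blockHeight p B (τ : G → ℂ)) ^ 2 ≤ |Q p B χ₀ τ| ^ 2 :=
      pow_le_pow_left₀ h7 h6 2
    rw [sq_abs] at h8
    push_cast
    rw [mul_comm, pow_mul]
    exact h8
  have h4 := Finset.sum_le_sum h3
  set t := Q p B χ₀ χ₀ with ht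
  have h5 : (∑ τ ∈ (bF B).erase χ₀, ((p ^ (2 * blockHeight p B (τ : G → ℂ)) : ℕ) : ℤ)) ≤
      (p : ℤ) ^ P * t - t ^ 2 := by
    linarith
  have h6 : 4 * ((p : ℤ) ^ P * t - t ^ 2) ≤ ((p : ℤ) ^ P) ^ 2 := by
    nlinarith [sq_nonneg ((p : ℤ) ^ P - 2 * t)]
  rw [hh0]
  simp only [mul_zero, pow_zero]
  have h7 : ∑ τ ∈ (bF B).erase χ₀, p ^ (2 * blockHeight p B (τ : G → ℂ)) ≤ (p ^ P) ^ 2 / 4 := by
    rw [Nat.le_div_iff_mul_le (by norm_num)]
    have h8 : (((∑ τ ∈ (bF B).erase χ₀, p ^ (2 * blockHeight p B (τ : G → ℂ))) * 4 : ℕ) : ℤ) ≤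
        (((p ^ P) ^ 2 : ℕ) : ℤ) := by
      push_cast at h5 ⊢
      linarith
    exact_mod_cast h8
  omega

theorem result {G : Type*} [Group G] [Fintype G] (p : ℕ) [Fact p.Prime] (M : Ideal Cfsg.AlgInt) (hM : Cfsg.IsPModular p M) (B : Set (Cfsg.IrrCharacter G)) (hB : Cfsg.IsPBlock M B) (P : Subgroup G) (hP : Cfsg.IsDefectGroup p M B P) : ∑ᶠ χ ∈ B, p ^ (2 * Cfsg.blockHeight p B (χ : G → ℂ)) ≤ Nat.card P ^ 2 / 4 + 1 := by
  rw [card_isDefectGroup hM hB hP, finsum_mem_eq_sum_bF]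
  exact main hM hB

end Cfsg.Agent.S4676
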