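import Mathlib
import Cfsg.Statements.S4710
import Cfsg.Agent.S4676

set_option autoImplicit false
set_option linter.unusedSectionVars false
set_option linter.unusedVariables false
open Cfsg

namespace Cfsg.Agent.S4710

open Cfsg.Agent.Lib.BlockQ Cfsg.Agent.Lib.BlockLocal Cfsg.Agent.Lib.BlockIdem
open Cfsg.Agent.Lib.BlockOrtho Cfsg.Agent.Lib.BlockDefect Cfsg.Agent.Lib.CharBasic
open Cfsg.Agent.S4676

universe u

variable {G : Type u} [Group G] [Fintype G] {p : ℕ} {M : Ideal AlgInt}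

/-- A height zero character. -/
theorem exists_height_zero (hM : IsPModular p M) {B : Set (IrrCharacter G)} (hB : IsPBlock M B) :
    ∃ χ₀ ∈ B, (charDegree (χ₀ : G → ℂ)).factorization p = minExp p B ∧
      blockHeight p B (χ₀ : G → ℂ) = 0 := by
  have hMp := hM.2.1.isPrime
  obtain ⟨χ₀, hχ₀, h0⟩ := exists_minExp (p := p) hB
  refine ⟨χ₀, hχ₀, h0, ?_⟩
  have := charDegree_factorization_eq (p := p) hχ₀
  omega

theorem height_zero_fact {B : Set (IrrCharacter G)} {χ : IrrCharacter G} (hχ : χ ∈ B)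
    (h : blockHeight p B (χ : G → ℂ) = 0) :
    (charDegree (χ : G → ℂ)).factorization p = minExp p B := by
  have := charDegree_factorization_eq (p := p) hχ
  omega

/-- The row identity. -/
theorem row_identity (hM : IsPModular p M) {B : Set (IrrCharacter G)} (hB : IsPBlock M B)
    {τ : IrrCharacter G} (hτ : τ ∈ B) :
    ∑ ψ ∈ (bF B).erase τ, (Q p B τ ψ) ^ 2 =
      (p : ℤ) ^ blockDefect p B * Q p B τ τ - (Q p B τ τ) ^ 2 := by
  have h1 : ∑ ψ ∈ bF B, Q p B τ ψ * Q p B ψ τ = (p : ℤ) ^ blockDefect p B * Q p B τ τ :=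
    sum_Q_mul_Q hM hB hτ hτ
  have h2 : ∑ ψ ∈ bF B, (Q p B τ ψ) ^ 2 = (p : ℤ) ^ blockDefect p B * Q p B τ τ := by
    rw [← h1]
    refine Finset.sum_congr rfl fun ψ hψ => ?_
    rw [Q_symm hM hB (mem_bF.mp hψ) hτ, sq]
  have hmem : τ ∈ bF B := mem_bF.mpr hτ
  rw [← Finset.add_sum_erase _ _ hmem] at h2
  linarith

/-- Positive height: `p ^ (h + 1) ∣ Q τ τ`. -/
theorem pow_succ_dvd_Q_self (hM : IsPModular p M) {B : Set (IrrCharacter G)} (hB : IsPBlock M B)
    {τ : IrrCharacter G} (hτ : τ ∈ B) (hpos : 0 < blockHeight p B (τ : G → ℂ)) :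
    (p : ℤ) ^ (blockHeight p B (τ : G → ℂ) + 1) ∣ Q p B τ τ := by
  classical
  have hMp := hM.2.1.isPrime
  have hp := hM.1
  haveI : Fact p.Prime := ⟨hp⟩
  have hpC : (p : ℂ) ≠ 0 := by exact_mod_cast hp.ne_zero
  obtain ⟨χ₀, hχ₀, h0, hh0⟩ := exists_height_zero hM hB
  set h := blockHeight p B (τ : G → ℂ) with hh
  have hc := omega_regInv_mem_Zc (M := M) (p := p) (IsIrrCharacter.isCharacter τ.2)
  have hsame : SameBlock M (χ₀ : G → ℂ) (τ : G → ℂ) := by
    have hχ₀B : B = blockOf M (χ₀ : G → ℂ) := by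
      obtain ⟨ξ, rfl⟩ := hB
      exact (blockOf_eq_of_mem hχ₀).symm
    rw [hχ₀B] at hτ
    exact hτ
  obtain ⟨u₀, hu01, hu02, hu03⟩ := Q_formula hM hB hχ₀
  obtain ⟨u, hu1, hu2, hu3⟩ := Q_formula hM hB hτ
  -- `p ∣ Q τ χ₀`
  have h1 : (p : ℤ) ∣ Q p B τ χ₀ := by
    rw [Q_symm hM hB hτ hχ₀]
    refine dvd_trans ?_ (pow_height_dvd_Q hM hB χ₀ hτ)
    exact dvd_pow_self _ (by omega)
  have h2 : MemLocalIdeal M ((Q p B τ χ₀ : ℤ) : ℂ) := (memLocalIdeal_intCast_iff hM).mpr h1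
  have h3 : MemLocalIdeal M (omega (χ₀ : G → ℂ) (regInv p (τ : G → ℂ))) := by
    have h4 := hu03 τ
    rw [hh0, pow_zero, one_mul] at h4
    rw [h4] at h2
    -- a unit times `W` is in the ideal
    rcases (memLocalIdeal_mul_iff hu01 (memLocalRing_of_mem_Zc hc χ₀)).mp h2 with h5 | h5
    · exact absurd h5 hu02
    · exact h5
  have h5 : MemLocalIdeal M (omega (τ : G → ℂ) (regInv p (τ : G → ℂ))) := by
    have h6 := memLocalIdeal_sub_of_mem_Zc hc hsame
    have h7 := memLocalIdeal_sub h3 h6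
    simpa using h7
  -- the integer quotient
  obtain ⟨n, hn⟩ := pow_height_dvd_Q hM hB τ hτ
  rw [← hh] at hn
  have h8 : MemLocalIdeal M ((n : ℤ) : ℂ) := by
    have h9 := hu3 τ
    rw [hn] at h9
    push_cast at h9
    have h10 : ((n : ℤ) : ℂ) = u * omega (τ : G → ℂ) (regInv p (τ : G → ℂ)) := by
      have h11 : (p : ℂ) ^ h ≠ 0 := pow_ne_zero _ hpC
      apply mul_left_cancel₀ h11
      rw [h9]
      ring
    rw [h10]
    exact memLocalIdeal_mul_left hu1 h5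
  have h9 : (p : ℤ) ∣ n := (memLocalIdeal_intCast_iff hM).mp h8
  rw [hn, pow_succ]
  exact mul_dvd_mul_left _ h9

/-- Positive height: `0 < Q τ τ < p ^ d`. -/
theorem Q_self_lt (hM : IsPModular p M) {B : Set (IrrCharacter G)} (hB : IsPBlock M B)
    {τ : IrrCharacter G} (hτ : τ ∈ B) (hpos : 0 < blockHeight p B (τ : G → ℂ)) :
    Q p B τ τ < (p : ℤ) ^ blockDefect p B := by
  classical
  have hMp := hM.2.1.isPrime
  obtain ⟨χ₀, hχ₀, h0, hh0⟩ := exists_height_zero hM hB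
  have hne : χ₀ ≠ τ := by
    rintro rfl
    omega
  have h1 := row_identity hM hB hτ
  have h2 : χ₀ ∈ (bF B).erase τ := Finset.mem_erase.mpr ⟨hne, mem_bF.mpr hχ₀⟩
  have h3 : (Q p B τ χ₀) ^ 2 ≤ ∑ ψ ∈ (bF B).erase τ, (Q p B τ ψ) ^ 2 :=
    Finset.single_le_sum (f := fun ψ => (Q p B τ ψ) ^ 2) (fun ψ _ => sq_nonneg _) h2
  have h4 : Q p B τ χ₀ ≠ 0 := by
    rw [Q_symm hM hB hτ hχ₀]
    exact Q_ne_zero hM hB hχ₀ h0 hτ
  have h5 : 0 < (Q p B τ χ₀) ^ 2 := by positivity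
  have h6 := Q_self_pos hM hB hτ
  by_contra hcon
  push Not at hcon
  nlinarith

/-- The height bound. -/
theorem height_add_two_le (hM : IsPModular p M) {B : Set (IrrCharacter G)} (hB : IsPBlock M B)
    {τ : IrrCharacter G} (hτ : τ ∈ B) (hpos : 0 < blockHeight p B (τ : G → ℂ)) :
    blockHeight p B (τ : G → ℂ) + 2 ≤ blockDefect p B := by
  have hp := hM.1
  have h1 := pow_succ_dvd_Q_self hM hB hτ hpos
  have h2 := Q_self_lt hM hB hτ hpos
  have h3 := Q_self_pos hM hB hτ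
  have h4 : (p : ℤ) ^ (blockHeight p B (τ : G → ℂ) + 1) ≤ Q p B τ τ := Int.le_of_dvd h3 h1
  have h5 : (p : ℤ) ^ (blockHeight p B (τ : G → ℂ) + 1) < (p : ℤ) ^ blockDefect p B := by linarith
  have h6 : blockHeight p B (τ : G → ℂ) + 1 < blockDefect p B := by
    have h7 : (1 : ℤ) < p := by exact_mod_cast hp.one_lt
    exact (pow_lt_pow_iff_right₀ h7).mp h5
  omega

/-- Arithmetic core of the count. -/
theorem count_arith (P pp k₀ k₁ : ℤ) (hpp : 4 ≤ pp) (hk₀ : 0 ≤ k₀) (hk₁ : 0 ≤ k₁) (hP : 0 ≤ P)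
    (h1 : 4 * k₀ ≤ P) (h2 : 4 * k₀ + 4 * k₁ * pp ≤ pp * P + 4) :
    2 * (k₀ + k₁) ≤ P := by
  by_contra hcon
  push Not at hcon
  have h3 : P + 1 ≤ 2 * (k₀ + k₁) := by linarith
  have h4 : (2 * P + 2 - 4 * k₀) * pp ≤ 4 * k₁ * pp :=
    mul_le_mul_of_nonneg_right (by linarith) (by linarith)
  have h5 : 4 * k₀ * (pp - 1) ≤ P * (pp - 1) :=
    mul_le_mul_of_nonneg_right h1 (by linarith)
  nlinarith

theorem main_count (hM : IsPModular p M) {B : Set (IrrCharacter G)} (hB : IsPBlock M B)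
    (hex : ∃ χ ∈ B, 0 < blockHeight p B (χ : G → ℂ)) :
    2 * (bF B).card ≤ p ^ (2 * blockDefect p B - 2) := by
  classical
  have hMp := hM.2.1.isPrime
  have hp := hM.1
  obtain ⟨τ, hτ, hpos⟩ := hex
  have hd := height_add_two_le hM hB hτ hpos
  set d := blockDefect p B with hdd
  set P : ℕ := p ^ (2 * d - 2) with hP
  have hPd : ((p : ℤ) ^ d) ^ 2 = (p : ℤ) ^ 2 * (P : ℤ) := by
    rw [hP, ← pow_mul]
    push_cast
    rw [← pow_add]
    congr 1
    omega
  -- split the characters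
  set B0 := (bF B).filter (fun χ : IrrCharacter G => blockHeight p B (χ : G → ℂ) = 0) with hB0
  set B1 := (bF B).filter (fun χ : IrrCharacter G => ¬ blockHeight p B (χ : G → ℂ) = 0) with hB1
  have hcard : (bF B).card = B0.card + B1.card := by
    rw [hB0, hB1, Finset.card_filter_add_card_filter_not]
  -- first inequality, from the row of τ
  have h1 : 4 * (B0.card : ℤ) ≤ P := by
    have h2 := row_identity hM hB hτ
    have h3 : ∑ ψ ∈ B0, ((p : ℤ) ^ 2) ≤ ∑ ψ ∈ (bF B).erase τ, (Q p B τ ψ) ^ 2 := by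
      have hsub : B0 ⊆ (bF B).erase τ := by
        intro ψ hψ
        rw [hB0, Finset.mem_filter] at hψ
        refine Finset.mem_erase.mpr ⟨?_, hψ.1⟩
        rintro rfl
        omega
      refine le_trans ?_ (Finset.sum_le_sum_of_subset_of_nonneg hsub (fun _ _ _ => sq_nonneg _))
      refine Finset.sum_le_sum fun ψ hψ => ?_
      rw [hB0, Finset.mem_filter] at hψ
      have hψB := mem_bF.mp hψ.1
      have h4 : Q p B τ ψ ≠ 0 := by
        rw [Q_symm hM hB hτ hψB]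
        exact Q_ne_zero hM hB hψB (height_zero_fact hψB hψ.2) hτ
      have h5 : (p : ℤ) ∣ Q p B τ ψ := by
        rw [Q_symm hM hB hτ hψB]
        exact dvd_trans (dvd_pow_self _ (by omega)) (pow_height_dvd_Q hM hB ψ hτ)
      have h6 : (p : ℤ) ≤ |Q p B τ ψ| :=
        Int.le_of_dvd (abs_pos.mpr h4) ((dvd_abs _ _).mpr h5)
      have h7 : (0 : ℤ) ≤ p := by positivity
      have h8 : (p : ℤ) ^ 2 ≤ |Q p B τ ψ| ^ 2 := pow_le_pow_left₀ h7 h6 2
      rwa [sq_abs] at h8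
    rw [Finset.sum_const, nsmul_eq_mul] at h3
    set s := Q p B τ τ with hs
    have h4 : 4 * ((p : ℤ) ^ d * s - s ^ 2) ≤ ((p : ℤ) ^ d) ^ 2 := by
      nlinarith [sq_nonneg ((p : ℤ) ^ d - 2 * s)]
    rw [h2] at h3
    have h5 : (p : ℤ) ^ 2 * (4 * (B0.card : ℤ)) ≤ (p : ℤ) ^ 2 * (P : ℤ) := by
      rw [← hPd]
      linarith
    have h6 : (0 : ℤ) < (p : ℤ) ^ 2 := by
      have : (0 : ℤ) < p := by exact_mod_cast hp.pos
      positivity
    exact le_of_mul_le_mul_left h5 h6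
  -- second inequality, from the main theorem of S4676
  have h2 : 4 * (B0.card : ℤ) + 4 * (B1.card : ℤ) * (p : ℤ) ^ 2 ≤ (p : ℤ) ^ 2 * P + 4 := by
    have h3 := main hM hB
    rw [← hdd] at h3
    have h4 : ∑ χ ∈ bF B, p ^ (2 * blockHeight p B (χ : G → ℂ)) =
        ∑ χ ∈ B0, p ^ (2 * blockHeight p B (χ : G → ℂ)) +
          ∑ χ ∈ B1, p ^ (2 * blockHeight p B (χ : G → ℂ)) := by
      rw [hB0, hB1, Finset.sum_filter_add_sum_filter_not]
    have h5 : B0.card ≤ ∑ χ ∈ B0, p ^ (2 * blockHeight p B (χ : G → ℂ)) := by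
      rw [Finset.card_eq_sum_ones]
      exact Finset.sum_le_sum fun χ _ => Nat.one_le_pow _ _ hp.pos
    have h6 : B1.card * p ^ 2 ≤ ∑ χ ∈ B1, p ^ (2 * blockHeight p B (χ : G → ℂ)) := by
      rw [← smul_eq_mul, ← Finset.sum_const]
      refine Finset.sum_le_sum fun χ hχ => ?_
      rw [hB1, Finset.mem_filter] at hχ
      exact Nat.pow_le_pow_right hp.pos (by omega)
    have h7 : B0.card + B1.card * p ^ 2 ≤ (p ^ d) ^ 2 / 4 + 1 := by
      rw [h4] at h3
      omega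
    have h8 : 4 * ((p ^ d) ^ 2 / 4) ≤ (p ^ d) ^ 2 := Nat.mul_div_le _ _
    have h9 : 4 * B0.card + 4 * (B1.card * p ^ 2) ≤ (p ^ d) ^ 2 + 4 := by omega
    have h10 : ((4 * B0.card + 4 * (B1.card * p ^ 2) : ℕ) : ℤ) ≤ (((p ^ d) ^ 2 + 4 : ℕ) : ℤ) := by
      exact_mod_cast h9
    push_cast at h10
    rw [hPd] at h10
    linarith
  have hpp : (4 : ℤ) ≤ (p : ℤ) ^ 2 := by
    have h3 : (2 : ℤ) ≤ p := by exact_mod_cast hp.two_le
    nlinarith
  have h3 := count_arith (P : ℤ) ((p : ℤ) ^ 2) B0.card B1.card hpp (by positivity) (by positivity)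
    (by positivity) h1 h2
  rw [hcard]
  exact_mod_cast h3

theorem card_eq_bF {B : Set (IrrCharacter G)} : Nat.card B = (bF B).card := by
  classical
  rw [Nat.card_eq_fintype_card, ← Finset.card_univ]
  rw [← Finset.card_map (Function.Embedding.subtype _)]
  congr 1
  ext χ
  simp

/-- Let p be a prime, M a maximal ideal of the algebraic integers containing p, and B a p-block of defect d of the finite group G containing k irreducible characters. If B contains a character of positive height then 2k ≤ p^(2d − 2); and every character in B has height 0 when d ≤ 1 and height at most d − 2 when d ≥ 2. -/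
theorem result {G : Type*} [Group G] [Finite G] (p : ℕ) [Fact p.Prime] (M : Ideal Cfsg.AlgInt) (hM : Cfsg.IsPModular p M) (B : Set (Cfsg.IrrCharacter G)) (hB : Cfsg.IsPBlock M B) (d : ℕ) (hd : Cfsg.blockDefect p B = d) : ((∃ χ ∈ B, 0 < Cfsg.blockHeight p B (χ : G → ℂ)) → 2 * Nat.card B ≤ p ^ (2 * d - 2)) ∧ ∀ χ ∈ B, (d ≤ 1 → Cfsg.blockHeight p B (χ : G → ℂ) = 0) ∧ (2 ≤ d → Cfsg.blockHeight p B (χ : G → ℂ) ≤ d - 2) := by
  classical
  letI := Fintype.ofFinite G
  subst hd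
  refine ⟨fun h => ?_, fun χ hχ => ⟨fun h1 => ?_, fun h1 => ?_⟩⟩
  · rw [card_eq_bF]
    exact main_count hM hB h
  · by_contra h2
    have := height_add_two_le hM hB hχ (Nat.pos_of_ne_zero h2)
    omega
  · by_cases h2 : blockHeight p B (χ : G → ℂ) = 0
    · omega
    · have := height_add_two_le hM hB hχ (Nat.pos_of_ne_zero h2)
      omega

end Cfsg.Agent.S4710
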