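import Mathlib
import Cfsg.Statements.S4683
import Cfsg.Agent.Lib.BlockSubsection
import Cfsg.Agent.Lib.BlockOrtho

set_option autoImplicit false
set_option linter.unusedSectionVars false
set_option linter.unusedVariables false
set_option linter.style.haveILetI false
set_option linter.unusedTactic false
open Cfsg

namespace Cfsg.Agent.S4683

open Cfsg.Agent.Lib.CharBasic Cfsg.Agent.Lib.CharInd Cfsg.Agent.Lib.CharIntegrality
open Cfsg.Agent.Lib.BlockLocal Cfsg.Agent.Lib.BlockIdem Cfsg.Agent.Lib.BlockNormal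
open Cfsg.Agent.Lib.BrauerMap Cfsg.Agent.Lib.BrauerPair Cfsg.Agent.Lib.BlockSecond
open Cfsg.Agent.Lib.BlockSubsection Cfsg.Agent.Lib.BlkBasic
open scoped ComplexConjugate

universe u

section
variable {G : Type u} [Group G] [Fintype G] {p : ℕ} [hp : Fact p.Prime] {M : Ideal AlgInt}

theorem isInducedBlock_of_isBrauerPairOf (hM : IsPModular p M) {P : Subgroup G}
    {e : Set (IrrCharacter (Subgroup.centralizer (P : Set G)))} {B : Set (IrrCharacter G)}
    (h : IsBrauerPairOf p M B P e) : IsInducedBlock M (Subgroup.centralizer (P : Set G)) e B := by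
  classical
  haveI := isPrime_of_isPModular hM
  letI : Fintype (Subgroup.centralizer (P : Set G)) := Fintype.ofFinite _
  obtain ⟨⟨hP, he⟩, hB, hξ⟩ := h
  refine ⟨he, hB, fun ξ hξe χ hχ g => ?_⟩
  have h1 := hξ ξ hξe
  rw [brauerOmega_eq] at h1
  have hcl : IsClassFunction G (castFun (classIndicator g)) :=
    castFun_isClassFunction (classIndicator_mem g)
  have hR : ∀ x, MemLocalRing M (castFun (classIndicator g) x) := fun x => memLocalRing_intCast _
  have h2 := brO_sub_omega hM hP hB ξ h1 hχ hcl hR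
  rw [omega_classIndicator] at h2
  rw [Cfsg.Agent.Lib.BlkBasic.inducedCentralChar_eq_omega]
  exact h2

variable {z : G} {H : Subgroup G} [Fintype H]

theorem conj_blkInd (e : Set (IrrCharacter H)) (ξ : IrrCharacter H) :
    conj (blkInd e ξ) = blkInd e ξ := by
  by_cases h : ξ ∈ e
  · rw [blkInd_of_mem h]; simp
  · rw [blkInd_of_not_mem h]; simp

/-- `c ↦ ζ (z⁻¹ c)` has the conjugate inner products. -/
theorem classInner_inv (hH : H = Subgroup.centralizer ({z} : Set G)) (ζ : IrrCharacter G)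
    (ψ : IrrCharacter H) :
    classInner (fun c : H => (ζ : G → ℂ) (z⁻¹ * c)) (ψ : H → ℂ) =
      conj (classInner (thetaZ (ζ : G → ℂ) z H) (ψ : H → ℂ)) := by
  unfold classInner
  rw [map_mul, map_inv₀, map_natCast, map_sum]
  congr 1
  rw [← Equiv.sum_comp (Equiv.inv H)]
  refine Finset.sum_congr rfl fun c _ => ?_
  simp only [Equiv.inv_apply, thetaZ, map_mul, Complex.conj_conj]
  have hζ := IsIrrCharacter.isCharacter ζ.2
  have hψ := IsIrrCharacter.isCharacter ψ.2
  rw [char_conj_eq_inv hψ]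
  have h1 : conj ((ζ : G → ℂ) (z * ((c : G)))) = (ζ : G → ℂ) (z⁻¹ * ((c : G))⁻¹) := by
    rw [char_conj_eq_inv hζ]
    congr 1
    have h2 : z * (c : G) = c * z := commute_of_mem hH c.2
    rw [h2, mul_inv_rev]
  simp only [Subgroup.coe_inv]
  rw [h1]
  congr 2
  simp

/-- The second function of the statement, at `s⁻¹`, is the conjugate of the first at `s`. -/
theorem blockPart_inv_eq_conj (hH : H = Subgroup.centralizer ({z} : Set G)) (ζ : IrrCharacter G)
    (e : Set (IrrCharacter H)) (y : H) :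
    blockPart e (fun c : H => (ζ : G → ℂ) (z⁻¹ * c)) y⁻¹ =
      conj (blockPart e (thetaZ (ζ : G → ℂ) z H) y) := by
  rw [Cfsg.Agent.Lib.BlkOrth.blockPart_eq', Cfsg.Agent.Lib.BlkOrth.blockPart_eq', map_sum]
  refine Finset.sum_congr rfl fun ψ _ => ?_
  rw [classInner_inv hH, map_mul, map_mul, conj_blkInd,
    char_conj_eq_inv (IsIrrCharacter.isCharacter ψ.2)]

theorem blockPart_self (e : Set (IrrCharacter H)) {ξ : IrrCharacter H} (hξ : ξ ∈ e) (y : H) :
    blockPart e (ξ : H → ℂ) y = (ξ : H → ℂ) y := by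
  classical
  rw [Cfsg.Agent.Lib.BlkOrth.blockPart_eq', Finset.sum_eq_single ξ]
  · rw [blkInd_of_mem hξ, classInner_irr_self ξ.2]
    simp
  · intro ψ _ hψ
    rw [classInner_irr_ne ξ.2 ψ.2 (fun h => hψ (Subtype.ext h.symm))]
    simp
  · intro h
    exact absurd (Finset.mem_univ _) h

/-- The kernel identity. -/
theorem sum_kernel_conj (e : Set (IrrCharacter H)) (y : H) :
    (Nat.card H : ℂ)⁻¹ * ∑ c : H, conj (∑ᶠ ψ ∈ e, (ψ : H → ℂ) y * (ψ : H → ℂ) c⁻¹) *
        ∑ᶠ ψ ∈ e, (ψ : H → ℂ) y * (ψ : H → ℂ) c⁻¹ =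
      ∑ᶠ ψ ∈ e, (ψ : H → ℂ) y * conj ((ψ : H → ℂ) y) := by
  classical
  have h1 : ∀ c : H, conj (∑ᶠ ψ ∈ e, (ψ : H → ℂ) y * (ψ : H → ℂ) c⁻¹) =
      ∑ ψ : IrrCharacter H, blkInd e ψ * (conj ((ψ : H → ℂ) y) * (ψ : H → ℂ) c) := by
    intro c
    rw [finsum_mem_eq_sum_blkInd, map_sum]
    refine Finset.sum_congr rfl fun ψ _ => ?_
    rw [map_mul, conj_blkInd, map_mul, char_conj_eq_inv (IsIrrCharacter.isCharacter ψ.2) c⁻¹,
      inv_inv]
  simp_rw [h1, Finset.sum_mul]
  rw [Finset.sum_comm, Finset.mul_sum, finsum_mem_eq_sum_blkInd]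
  refine Finset.sum_congr rfl fun ψ _ => ?_
  by_cases hψ : ψ ∈ e
  · have h2 := Cfsg.Agent.Lib.BlkOrth.blockPart_eq e (ψ : H → ℂ) y
    rw [blockPart_self e hψ] at h2
    simp only [blkInd_of_mem hψ, one_mul]
    have h3 : ∀ x : H, conj ((ψ : H → ℂ) y) * (ψ : H → ℂ) x *
        ∑ᶠ ψ ∈ e, (ψ : H → ℂ) y * (ψ : H → ℂ) x⁻¹ =
        conj ((ψ : H → ℂ) y) * ((ψ : H → ℂ) x *
        ∑ᶠ ψ ∈ e, (ψ : H → ℂ) y * (ψ : H → ℂ) x⁻¹) := fun x => by ring
    simp_rw [h3]
    rw [← Finset.mul_sum, mul_left_comm, ← h2, mul_comm]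
  · rw [blkInd_of_not_mem hψ]
    simp

/-- The norm of the `e`-part on a section. -/
theorem sum_norm_blockPart (hM : IsPModular p M) (hz : ∃ k : ℕ, orderOf z = p ^ k)
    (hH : H = Subgroup.centralizer ({z} : Set G)) {e : Set (IrrCharacter H)} (he : IsPBlock M e)
    {y : H} (hy : ¬ p ∣ orderOf y) :
    ∑ ζ : IrrCharacter G, blockPart e (thetaZ (ζ : G → ℂ) z H) y *
        conj (blockPart e (thetaZ (ζ : G → ℂ) z H) y) =
      ∑ᶠ ψ ∈ e, (ψ : H → ℂ) y * conj ((ψ : H → ℂ) y) := by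
  classical
  set W : H → ℂ := fun c => ∑ᶠ ψ ∈ e, (ψ : H → ℂ) y * (ψ : H → ℂ) c⁻¹ with hW
  have hWsing : ∀ c : H, p ∣ orderOf c → W c = 0 := fun c hc =>
    Cfsg.Agent.Lib.BlockOrth.weak_block_orthogonality hM he hy hc
  have h1 : ∀ ζ : IrrCharacter G, conj (blockPart e (thetaZ (ζ : G → ℂ) z H) y) =
      (Nat.card H : ℂ)⁻¹ * ∑ c : H, conj ((ζ : G → ℂ) (z * c)) * conj (W c) := by
    intro ζ
    rw [Cfsg.Agent.Lib.BlkOrth.blockPart_eq, map_mul, map_inv₀, map_natCast, map_sum]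
    congr 1
    refine Finset.sum_congr rfl fun c _ => ?_
    rw [map_mul]
    rfl
  simp_rw [h1]
  have h2 : ∑ ζ : IrrCharacter G, blockPart e (thetaZ (ζ : G → ℂ) z H) y *
      ((Nat.card H : ℂ)⁻¹ * ∑ c : H, conj ((ζ : G → ℂ) (z * c)) * conj (W c)) =
      (Nat.card H : ℂ)⁻¹ * ∑ c : H, conj (W c) *
        ∑ ζ : IrrCharacter G, blockPart e (thetaZ (ζ : G → ℂ) z H) y *
          conj ((ζ : G → ℂ) (z * c)) := by
    simp_rw [Finset.mul_sum]
    rw [Finset.sum_comm]
    refine Finset.sum_congr rfl fun c _ => ?_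
    refine Finset.sum_congr rfl fun ζ _ => ?_
    ring
  rw [h2]
  have h3 : ∀ c : H, conj (W c) * ∑ ζ : IrrCharacter G, blockPart e (thetaZ (ζ : G → ℂ) z H) y *
      conj ((ζ : G → ℂ) (z * c)) = conj (W c) * W c := by
    intro c
    by_cases hc : p ∣ orderOf c
    · rw [hWsing c hc]; simp
    · rw [sum_blockPart_conj hM hz hH he hy hc]
      congr 1
      simp only [hW]
      refine finsum_congr fun ψ => finsum_congr fun _ => ?_
      rw [char_conj_eq_inv (IsIrrCharacter.isCharacter ψ.2)]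
  simp_rw [h3]
  exact sum_kernel_conj e y

end

/-- Fix a prime p and a maximal ideal M of the algebraic integers containing p, a p-block B of the finite group G, a p-element u and a p-block e of C = C_G(u) such that (⟨u⟩, e) is a Brauer pair of B (a Brauer element of B). For χ ∈ B let χ_u be the e-part of the class function c ↦ χ(u c) on C and χ_u' the e-part of c ↦ χ(u⁻¹ c). Then the sum over χ ∈ B and over the p-regular elements s of C of χ_u(s)·χ_u'(s⁻¹) equals the order of C times the p-regular rank of e (the number of irreducible Brauer characters of e). -/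
theorem result {G : Type*} [Group G] [Fintype G] (p : ℕ) [Fact p.Prime] (M : Ideal Cfsg.AlgInt) (hM : Cfsg.IsPModular p M) (B : Set (Cfsg.IrrCharacter G)) (u : G) (hu : ∃ k : ℕ, orderOf u = p ^ k) (e : Set (Cfsg.IrrCharacter (Subgroup.centralizer (Subgroup.zpowers u : Set G)))) (hBe : Cfsg.IsBrauerPairOf p M B (Subgroup.zpowers u) e) : ∑ᶠ χ ∈ B, ∑ᶠ s : Subgroup.centralizer (Subgroup.zpowers u : Set G), Cfsg.pRegularPart p (Cfsg.blockPart e (fun c : Subgroup.centralizer (Subgroup.zpowers u : Set G) => (χ : G → ℂ) (u * c))) s * Cfsg.blockPart e (fun c : Subgroup.centralizer (Subgroup.zpowers u : Set G) => (χ : G → ℂ) (u⁻¹ * c)) s⁻¹ = (Nat.card (Subgroup.centralizer (Subgroup.zpowers u : Set G)) : ℂ) * (Cfsg.blockRank p e : ℂ) := by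
  classical
  haveI := isPrime_of_isPModular hM
  letI : Fintype (Subgroup.centralizer (Subgroup.zpowers u : Set G)) := Fintype.ofFinite _
  have hH : Subgroup.centralizer (Subgroup.zpowers u : Set G) = Subgroup.centralizer ({u} : Set G) :=
    centralizer_zpowers_eq u
  have hind := isInducedBlock_of_isBrauerPairOf hM hBe
  have he : IsPBlock M e := hBe.1.2
  have hconj := fun (χ : IrrCharacter G) s => blockPart_inv_eq_conj hH χ e s
  have hzero : ∀ (χ : IrrCharacter G) (s : Subgroup.centralizer (Subgroup.zpowers u : Set G)),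
      χ ∉ B → ¬ p ∣ orderOf s → blockPart e (thetaZ (χ : G → ℂ) u _) s = 0 := by
    intro χ s hχ hs
    have h1 := sum_thetaZ_eq_zero hM hu hH hind hχ s hs
    rwa [sum_blockCoeff_mul_eq_blockPart e
      (thetaZ_isClassFunction hH (isClassFunction_of_isCharacter (IsIrrCharacter.isCharacter χ.2))) s] at h1
  have hcm := Cfsg.Agent.Lib.BlockOrtho.card_mul_blockRank hM he
  rw [hcm]
  rw [finsum_mem_eq_sum_blkInd]
  simp_rw [finsum_eq_sum_of_fintype (α := Subgroup.centralizer (Subgroup.zpowers u : Set G))]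
  simp_rw [Finset.mul_sum]
  rw [Finset.sum_comm]
  refine Finset.sum_congr rfl fun s _ => ?_
  by_cases hs : IsPRegular p s
  · have hnorm := sum_norm_blockPart hM hu hH he (y := s) hs
    have h2 : ∀ χ : IrrCharacter G, blkInd B χ * (pRegularPart p (blockPart e (fun c : Subgroup.centralizer (Subgroup.zpowers u : Set G) => (χ : G → ℂ) (u * c))) s * blockPart e (fun c : Subgroup.centralizer (Subgroup.zpowers u : Set G) => (χ : G → ℂ) (u⁻¹ * c)) s⁻¹) =
        blockPart e (thetaZ (χ : G → ℂ) u _) s * conj (blockPart e (thetaZ (χ : G → ℂ) u _) s) := by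
      intro χ
      rw [hconj χ s]
      unfold pRegularPart
      rw [if_pos hs]
      by_cases hχ : χ ∈ B
      · rw [blkInd_of_mem hχ, one_mul]; rfl
      · rw [blkInd_of_not_mem hχ, zero_mul, hzero χ s hχ hs, zero_mul]
    simp_rw [h2]
    rw [hnorm, finsum_mem_eq_sum_blkInd]
    refine Finset.sum_congr rfl fun ψ _ => ?_
    unfold pRegularPart
    rw [if_pos hs]
    by_cases hψ : ψ ∈ e
    · rw [blkInd_of_mem hψ, Cfsg.Agent.Lib.BlockOrtho.indB_of_mem hψ]
    · rw [blkInd_of_not_mem hψ, Cfsg.Agent.Lib.BlockOrtho.indB_of_not_mem hψ]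
  · unfold pRegularPart
    simp [if_neg hs]

end Cfsg.Agent.S4683
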