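import Mathlib
import Cfsg.Statements.S4689
import Cfsg.Agent.Lib.StarNil

set_option autoImplicit false
open Cfsg

namespace Cfsg.Agent.S4689

/-- Fix a prime p and a maximal ideal M of the algebraic integers containing p, and a nilpotent p-block B of the finite group G. Then B has p-regular rank one (a single irreducible Brauer character), and some χ₀ ∈ B restricts to that Brauer character: every χ ∈ B agrees on the p-regular elements with a natural-number multiple of χ₀. -/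
theorem result {G : Type*} [Group G] [Fintype G] (p : ℕ) [Fact p.Prime] (M : Ideal Cfsg.AlgInt) (hM : Cfsg.IsPModular p M) (B : Set (Cfsg.IrrCharacter G)) (hnil : Cfsg.IsNilpotentBlock p M B) : Cfsg.blockRank p B = 1 ∧ ∃ χ₀ ∈ B, ∀ χ ∈ B, ∃ d : ℕ, ∀ x : G, Cfsg.pRegularPart p (χ : G → ℂ) x = (d : ℂ) * Cfsg.pRegularPart p (χ₀ : G → ℂ) x := by
  classical
  have hMp := hM.2.1.isPrime
  have hB := hnil.1
  obtain ⟨D, hD⟩ := Cfsg.Agent.Lib.BlockDefect.exists_isDefectGroup hM hB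
  obtain ⟨e, hmax⟩ := Cfsg.Agent.Lib.BrauerCorr.exists_maximal_of_isDefectGroup hM hB hD
  obtain ⟨χ₀, hχ₀, -, Φ, hΦ⟩ := Cfsg.Agent.Lib.StarNil.nil_structure hM hmax hnil
  have key : ∀ χ ∈ B, ∃ d : ℕ, ∀ x : G, Cfsg.pRegularPart p (χ : G → ℂ) x = (d : ℂ) * Cfsg.pRegularPart p (χ₀ : G → ℂ) x := by
    intro χ hχ
    obtain ⟨d, -, hd⟩ := Cfsg.Agent.Lib.GenChar.isIrr_one_pos (Φ.symm ⟨χ, hχ⟩).2
    refine ⟨d, fun x => ?_⟩
    by_cases hx : p ∣ orderOf x
    · rw [Cfsg.Agent.Lib.BlockOrtho.pRegularPart_of_sing _ hx, Cfsg.Agent.Lib.BlockOrtho.pRegularPart_of_sing _ hx, mul_zero]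
    · rw [Cfsg.Agent.Lib.BlockOrtho.pRegularPart_of_reg _ hx, Cfsg.Agent.Lib.BlockOrtho.pRegularPart_of_reg _ hx]
      have h1 := hΦ (Φ.symm ⟨χ, hχ⟩) x hx
      rw [Equiv.apply_symm_apply, hd] at h1
      exact h1
  refine ⟨?_, χ₀, hχ₀, key⟩
  have himg : Submodule.span ℂ ((fun χ : Cfsg.IrrCharacter G => Cfsg.pRegularPart p (χ : G → ℂ)) '' B) =
      Submodule.span ℂ {Cfsg.pRegularPart p (χ₀ : G → ℂ)} := by
    apply le_antisymm
    · rw [Submodule.span_le]
      rintro _ ⟨χ, hχ, rfl⟩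
      obtain ⟨d, hd⟩ := key χ hχ
      rw [SetLike.mem_coe, Submodule.mem_span_singleton]
      refine ⟨(d : ℂ), ?_⟩
      funext x
      simp only [Pi.smul_apply, smul_eq_mul]
      exact (hd x).symm
    · rw [Submodule.span_le, Set.singleton_subset_iff]
      exact Submodule.subset_span ⟨χ₀, hχ₀, rfl⟩
  unfold Cfsg.blockRank
  rw [himg]
  apply finrank_span_singleton
  intro h0
  have h1 := congrFun h0 1
  rw [Cfsg.Agent.Lib.BlockOrtho.pRegularPart_of_reg _ (by simp [hM.1.one_lt.ne'])] at h1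
  exact Cfsg.Agent.Lib.GenChar.isIrr_one_ne_zero χ₀.2 h1

end Cfsg.Agent.S4689
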