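import Mathlib
import Cfsg.Statements.S4637
import Cfsg.Agent.Lib.KleinDefect

set_option autoImplicit false
set_option linter.style.haveILetI false
open Cfsg

namespace Cfsg.Agent.S4637

open Cfsg.Agent.Lib.KleinDefect Cfsg.Agent.Lib.BrauerSat Cfsg.Agent.Lib.BrauerNil
open Cfsg.Agent.Lib.BrauerCen

/-- Let B be a block of the finite group G relative to a maximal ideal M of the algebraic integers containing 2, with a Klein four defect group P. Let c be a block of C_G(P) inducing B, T the stabilizer of c in N_G(P) and e the index of C_G(P) in T (the inertial index). Then e is 1 or 3, B contains exactly four irreducible characters, and the 2-regular rank of B (its number of irreducible Brauer characters) equals e. -/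
theorem result {G : Type*} [Group G] [Finite G] (M : Ideal Cfsg.AlgInt) (hM : Cfsg.IsPModular 2 M) (B : Set (Cfsg.IrrCharacter G)) (hB : Cfsg.IsPBlock M B) (P : Subgroup G) (hPD : Cfsg.IsDefectGroup 2 M B P) (hV : IsKleinFour P) (c : Set (Cfsg.IrrCharacter (Subgroup.centralizer (P : Set G)))) (hc : Cfsg.IsInducedBlock M (Subgroup.centralizer (P : Set G)) c B) (T : Subgroup G) (hT : ∀ g : G, g ∈ T ↔ (g ∈ Subgroup.normalizer (P : Set G) ∧ Cfsg.StabilizesBlock (Subgroup.centralizer (P : Set G)) c g)) (e : ℕ) (he : (Subgroup.centralizer (P : Set G)).relIndex T = e) : (e = 1 ∨ e = 3) ∧ Nat.card B = 4 ∧ Cfsg.blockRank 2 B = e := by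
  classical
  letI : Fintype G := Fintype.ofFinite G
  have hmax := isMaximal hM hPD (isPGroup_P hV) hc
  obtain ⟨hPT, hCT, hTN⟩ := stab_facts hT
  have hker : (theta hTN).ker = (Subgroup.centralizer (P : Set G)).subgroupOf T := by
    ext t
    rw [mem_ker_theta, Subgroup.mem_subgroupOf]
  have hidx : ((theta hTN).ker).index = e := by
    rw [hker]
    exact he
  have hodd : ¬ 2 ∣ e := by
    have h1 := not_dvd_index_stab hM hmax hmax.1.1.2 Relation.ReflTransGen.refl hT hTN (fun y _ => by
      have h2 : P ⊓ Subgroup.normalizer (P : Set G) = P := inf_eq_left.mpr Subgroup.le_normalizer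
      rw [h2]
      exact Subgroup.card_le_of_le inf_le_left)
    have h3 : (P ⊓ Subgroup.normalizer (P : Set G)).subgroupOf T ≤ (theta hTN).ker := by
      intro t ht
      rw [mem_ker_theta]
      have ht' : (t : G) ∈ P := (Subgroup.mem_subgroupOf.mp ht).1
      rw [Subgroup.mem_centralizer_iff]
      intro q hq
      exact comm_of_mem hV hq ht'
    rw [sup_eq_right.mpr h3, hidx] at h1
    exact h1
  have hdvd : e ∣ 6 := by
    rw [← hidx]
    exact index_dvd_six hV hTN
  have hcases : e = 1 ∨ e = 3 := by
    have h1 : e ≤ 6 := Nat.le_of_dvd (by norm_num) hdvd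
    interval_cases e <;> simp_all (config := { decide := true })
  refine ⟨hcases, ?_, ?_⟩
  · rw [Cfsg.Agent.S4710.card_eq_bF]
    exact card_bF_eq hV hM hmax hPD
  · rcases hcases with h1 | h1
    · rw [h1]
      apply blockRank_eq_one hV hM hmax hPD
      intro t ht1 ht2
      have htT : t ∈ T := (hT t).2 ⟨ht1, ht2⟩
      rw [h1] at hidx
      have h2 : (theta hTN).ker = ⊤ := Subgroup.index_eq_one.mp hidx
      have h3 : (⟨t, htT⟩ : T) ∈ (theta hTN).ker := by
        rw [h2]
        exact Subgroup.mem_top _
      exact (mem_ker_theta hTN _).mp h3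
    · rw [h1]
      apply blockRank_eq_three hV hM hmax hPD
      rw [h1] at hidx
      have hne : (theta hTN).ker ≠ ⊤ := by
        intro h
        rw [h, Subgroup.index_top] at hidx
        omega
      obtain ⟨t, ht⟩ : ∃ t : T, t ∉ (theta hTN).ker := by
        by_contra hcon
        push Not at hcon
        exact hne (eq_top_iff.mpr fun t _ => hcon t)
      have ht3 : t ^ 3 ∈ (theta hTN).ker := by
        have := Subgroup.pow_index_mem (theta hTN).ker t
        rwa [hidx] at this
      have ht3' : (t : G) ^ 3 ∈ Subgroup.centralizer (P : Set G) := by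
        have := (mem_ker_theta hTN _).mp ht3
        simpa using this
      have htC : (t : G) ∉ Subgroup.centralizer (P : Set G) := fun h =>
        ht ((mem_ker_theta hTN _).mpr h)
      intro w hw w' hw'
      obtain ⟨s, hs1, hs2⟩ := exists_conj_of_three hV hTN t.2 htC ht3' hw hw'
      obtain ⟨h3, h4⟩ := (hT s).1 hs1
      exact ⟨s, h3, h4, hs2⟩

end Cfsg.Agent.S4637
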