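import Mathlib
import Cfsg.Statements.S4648
import Cfsg.Agent.Lib.BlockRankOne
import Cfsg.Agent.Lib.BlockTrans
import Cfsg.Agent.Lib.BrauerCorr
import Cfsg.Agent.S4637
import Cfsg.Agent.S4710

set_option autoImplicit false
set_option linter.unusedSectionVars false
set_option linter.unusedVariables false
set_option linter.style.haveILetI false
open Cfsg

namespace Cfsg.Agent.S4648

open Cfsg.Agent.Lib.BlockResidue Cfsg.Agent.Lib.BlockRankOne Cfsg.Agent.Lib.BlockLocal
open Cfsg.Agent.Lib.BlockQ Cfsg.Agent.Lib.BlockDefect Cfsg.Agent.Lib.BlockUniform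
open Cfsg.Agent.Lib.BrauerCorr Cfsg.Agent.Lib.BrauerCen Cfsg.Agent.Lib.BrauerNil
open Cfsg.Agent.Lib.BrauerSat Cfsg.Agent.Lib.BrauerSub Cfsg.Agent.Lib.BrauerMax
open Cfsg.Agent.Lib.BrauerConj Cfsg.Agent.Lib.BlockTrans

/-- The residue field has characteristic `p`. -/
theorem natCast_residue {p : ℕ} {M : Ideal AlgInt} [M.IsPrime] (hM : IsPModular p M)
    {V : ValuationSubring ℂ} (hV2 : ∀ z, MemLocalIdeal M z → z ∈ V.nonunits) :
    ((p : ℕ) : Kf V) = 0 := by
  have h1 : MemLocalIdeal M ((p : ℕ) : ℂ) := (memLocalIdeal_natCast_iff hM).2 dvd_rfl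
  have h2 := hV2 _ h1
  have h3 := (residue_eq_zero_iff' V ((p : ℕ) : V)).2 (by
    push_cast
    exact h2)
  rw [map_natCast] at h3
  exact h3

section

variable {G : Type*} [Group G] [Fintype G]

local notation "𝐂[" R "]" => Subgroup.centralizer ((R : Subgroup G) : Set G)
local notation "𝐍[" R "]" => Subgroup.normalizer ((R : Subgroup G) : Set G)

/-- The nonidentity elements of a group of order three. -/
theorem exists_transitive {p : ℕ} {M : Ideal AlgInt} {B : Set (IrrCharacter G)} {D : Subgroup G}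
    {e : Set (IrrCharacter 𝐂[D])} [M.IsPrime] (he : IsPBlock M e) (hD3 : Nat.card D = 3)
    {t : G} (ht1 : t ∈ 𝐍[D]) (ht2 : StabilizesBlock 𝐂[D] e t) (ht3 : t ∉ 𝐂[D]) :
    ∃ z₁ ∈ D, z₁ ≠ 1 ∧ Subgroup.zpowers z₁ = D ∧ ∀ w ∈ D, w ≠ 1 →
      ∃ t ∈ 𝐍[D], StabilizesBlock 𝐂[D] e t ∧ t * w * t⁻¹ = z₁ := by
  classical
  haveI : Fact (Nat.Prime 3) := ⟨Nat.prime_three⟩
  have hgen : ∀ z ∈ D, z ≠ 1 → Subgroup.zpowers z = D := by
    intro z hz hz1
    have hle : Subgroup.zpowers z ≤ D := Subgroup.zpowers_le.2 hz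
    apply Subgroup.eq_of_le_of_card_ge hle
    have h1 : orderOf (⟨z, hz⟩ : D) ∣ 3 := by
      rw [← hD3]
      exact orderOf_dvd_natCard _
    have h2 : orderOf (⟨z, hz⟩ : D) ≠ 1 := by
      intro h
      rw [orderOf_eq_one_iff] at h
      exact hz1 (congrArg Subtype.val h)
    have h3 : orderOf (⟨z, hz⟩ : D) = 3 := ((Nat.dvd_prime Nat.prime_three).1 h1).resolve_left h2
    rw [hD3, Nat.card_zpowers, ← Subgroup.orderOf_mk z hz, h3]
  obtain ⟨z₁', hz₁'⟩ : ∃ z : D, z ≠ 1 := by
    haveI : Fact (1 < Nat.card D) := ⟨by omega⟩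
    haveI : Nontrivial D := Finite.one_lt_card_iff_nontrivial.1 (by omega)
    exact exists_ne 1
  have hz₁D : (z₁' : G) ∈ D := z₁'.2
  have hz₁1 : (z₁' : G) ≠ 1 := fun h => hz₁' (Subtype.ext h)
  set z₁ : G := (z₁' : G) with hz₁def
  have hz₂D : t * z₁ * t⁻¹ ∈ D := (Subgroup.mem_normalizer_iff.1 ht1 z₁).1 hz₁D
  have hz₂1 : t * z₁ * t⁻¹ ≠ 1 := fun h => hz₁1 (by
    have : t * z₁ * t⁻¹ = t * 1 * t⁻¹ := by rw [h]; group
    exact mul_left_cancel (mul_right_cancel this))
  have hz₂ne : t * z₁ * t⁻¹ ≠ z₁ := by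
    intro h
    apply ht3
    rw [Subgroup.mem_centralizer_iff]
    intro q hq
    rw [← hgen z₁ hz₁D hz₁1] at hq
    obtain ⟨k, rfl⟩ := Subgroup.mem_zpowers_iff.1 hq
    have h1 : t * z₁ = z₁ * t := by
      calc t * z₁ = (t * z₁ * t⁻¹) * t := by group
        _ = z₁ * t := by rw [h]
    exact ((Commute.zpow_left (show Commute z₁ t from h1.symm) k)).eq
  have hall : ∀ w ∈ D, w ≠ 1 → w = z₁ ∨ w = t * z₁ * t⁻¹ := by
    intro w hw hw1
    by_contra hcon
    push Not at hcon
    have h1 : ({1, z₁, t * z₁ * t⁻¹, w} : Finset G).card = 4 := by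
      rw [Finset.card_insert_of_notMem, Finset.card_insert_of_notMem, Finset.card_pair]
      · exact Ne.symm hcon.2
      · simp [Ne.symm hz₂ne, hcon.1.symm]
      · simp [Ne.symm hz₁1, Ne.symm hz₂1, Ne.symm hw1]
    have h2 : ({1, z₁, t * z₁ * t⁻¹, w} : Finset G) ⊆ Finset.univ.filter (· ∈ D) := by
      intro a ha
      simp only [Finset.mem_insert, Finset.mem_singleton] at ha
      rw [Finset.mem_filter]
      refine ⟨Finset.mem_univ _, ?_⟩
      rcases ha with rfl | rfl | rfl | rfl
      · exact D.one_mem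
      · exact hz₁D
      · exact hz₂D
      · exact hw
    have h3 := Finset.card_le_card h2
    rw [h1] at h3
    have h4 : (Finset.univ.filter (· ∈ D)).card = Nat.card D := by
      rw [Nat.card_eq_fintype_card, Fintype.card_subtype]
    omega
  refine ⟨z₁, hz₁D, hz₁1, hgen z₁ hz₁D hz₁1, ?_⟩
  intro w hw hw1
  rcases hall w hw hw1 with rfl | rfl
  · exact ⟨1, Subgroup.one_mem _, (stabSub 𝐂[D] e he).one_mem, by group⟩
  · refine ⟨t⁻¹, Subgroup.inv_mem _ ht1, (stabSub 𝐂[D] e he).inv_mem ht2, by group⟩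

/-- The stabilizer of a maximal pair acts trivially in a block of rank one with a defect group of
order two, three or four. -/
theorem stab_trivial {p : ℕ} [hpF : Fact p.Prime] {M : Ideal AlgInt} (hM : IsPModular p M)
    {B : Set (IrrCharacter G)} {D : Subgroup G} {e : Set (IrrCharacter 𝐂[D])}
    (hmax : IsMaximalBrauerPair p M B D e) (hD : IsDefectGroup p M B D)
    (hl : blockRank p B = 1) (hbF : (bF B).card = Nat.card D) (hab : ∀ x ∈ D, ∀ y ∈ D, x * y = y * x)
    (hcases : (p = 2 ∧ Nat.card D = 2) ∨ (p = 3 ∧ Nat.card D = 3) ∨ (p = 2 ∧ Nat.card D = 4))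
    (x : G) (hxN : x ∈ 𝐍[D]) (hxS : StabilizesBlock 𝐂[D] e x) : x ∈ 𝐂[D] := by
  classical
  haveI hMp := isPrime_of_isPModular hM
  have he := hmax.1.1.2
  have hp := hpF.out
  let T : Subgroup G := 𝐍[D] ⊓ stabSub 𝐂[D] e he
  have hT : ∀ y : G, y ∈ T ↔ y ∈ 𝐍[D] ∧ StabilizesBlock 𝐂[D] e y := fun y => Iff.rfl
  have hTN : T ≤ 𝐍[D] := inf_le_left
  have hxT : x ∈ T := (hT x).2 ⟨hxN, hxS⟩
  have hidx : ¬ p ∣ ((theta hTN).ker).index := by
    have h1 := not_dvd_index_stab hM hmax he Relation.ReflTransGen.refl hT hTN (fun y _ => by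
      have h2 : D ⊓ 𝐍[D] = D := inf_eq_left.mpr Subgroup.le_normalizer
      rw [h2]
      exact Subgroup.card_le_of_le inf_le_left)
    have h3 : (D ⊓ 𝐍[D]).subgroupOf T ≤ (theta hTN).ker := by
      intro t ht
      rw [mem_ker_theta]
      have ht' : (t : G) ∈ D := (Subgroup.mem_subgroupOf.mp ht).1
      rw [Subgroup.mem_centralizer_iff]
      intro q hq
      exact hab _ hq _ ht'
    rwa [sup_eq_right.mpr h3] at h1
  have hof_one : ((theta hTN).ker).index = 1 → x ∈ 𝐂[D] := by
    intro h1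
    have h2 : (theta hTN).ker = ⊤ := Subgroup.index_eq_one.mp h1
    have h3 : (⟨x, hxT⟩ : T) ∈ (theta hTN).ker := by
      rw [h2]
      exact Subgroup.mem_top _
    exact (mem_ker_theta hTN _).mp h3
  have hcyc : IsCyclic D → ((theta hTN).ker).index ∣ Nat.totient (Nat.card D) := by
    intro hc
    rw [← IsCyclic.card_mulAut, Subgroup.index_ker]
    exact Subgroup.card_subgroup_dvd_card _
  rcases hcases with ⟨rfl, h2⟩ | ⟨rfl, h3⟩ | ⟨rfl, h4⟩
  · -- order two
    haveI : Fact (Nat.Prime (Nat.card D)) := ⟨by rw [h2]; exact Nat.prime_two⟩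
    have hc : IsCyclic D := isCyclic_of_prime_card rfl
    have h5 := hcyc hc
    rw [h2] at h5
    simp at h5
    exact hof_one (Subgroup.index_eq_one.2 h5)
  · -- order three
    by_contra hne
    obtain ⟨z₁, hz₁, hz₁1, hzD, htrans⟩ := exists_transitive (p := 3) (B := B) he h3 hxN hxS hne
    obtain ⟨f, hf, hle⟩ := exists_subpairLE hM hmax.1.1 (Subgroup.zpowers_le.2 hz₁)
    have hCD : D ≤ 𝐂[Subgroup.zpowers z₁] := by
      intro a ha
      rw [Subgroup.mem_centralizer_iff]
      intro q hq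
      exact hab _ (Subgroup.zpowers_le.2 hz₁ hq) _ ha
    have hinf : D ⊓ 𝐂[Subgroup.zpowers z₁] = D := inf_eq_left.mpr hCD
    have hdef := isDefectGroup_cen_of_max hM hmax hf hle (fun y hy => by
      rw [hinf]
      exact Subgroup.card_le_of_le inf_le_left)
    have hr : blockRank 3 f = 1 := by
      refine Cfsg.Agent.Lib.BlockCentral.blockRank_eq_one_of_central hM hf hdef ?_
      intro c hc
      rw [Subgroup.mem_center_iff]
      intro g
      apply Subtype.ext
      have hc' : (c : G) ∈ D ⊓ 𝐂[Subgroup.zpowers z₁] := Subgroup.mem_subgroupOf.mp hc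
      have hc'' : (c : G) ∈ Subgroup.zpowers z₁ := (SetLike.le_def.1 hzD.ge) hc'.1
      exact ((Subgroup.mem_centralizer_iff.1 g.2) _ hc'').symm
    have h5 := card_eq_rank_add_one hM hmax hab hz₁ hz₁1 htrans hf hle hr
    rw [hbF, h3, hl] at h5
    omega
  · -- order four
    by_cases hc : IsCyclic D
    · have h5 := hcyc hc
      rw [h4] at h5
      have h6 : Nat.totient 4 = 2 := by decide
      rw [h6] at h5
      rcases (Nat.dvd_prime Nat.prime_two).1 h5 with h7 | h7
      · exact hof_one h7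
      · exact absurd (h7 ▸ dvd_rfl) hidx
    · -- the Klein four case
      have hV : IsKleinFour D := by
        refine ⟨h4, ?_⟩
        have h8 : ∀ a : D, a ^ 2 = 1 := by
          intro a
          have h9 : orderOf a ∣ 2 ^ 2 := by
            rw [show (2 : ℕ) ^ 2 = Nat.card D by rw [h4]; norm_num]
            exact orderOf_dvd_natCard a
          obtain ⟨j, hj, hj2⟩ := (Nat.dvd_prime_pow Nat.prime_two).1 h9
          have hj3 : j ≠ 2 := by
            rintro rfl
            exact hc (isCyclic_of_orderOf_eq_card a (by rw [hj2, h4]; norm_num))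
          have hj4 : orderOf a ∣ 2 := by
            rw [hj2]
            simpa using pow_dvd_pow 2 (show j ≤ 1 by omega)
          exact orderOf_dvd_iff_pow_eq_one.1 hj4
        have h9 : Monoid.exponent D ∣ 2 := Monoid.exponent_dvd_of_forall_pow_eq_one h8
        rcases (Nat.dvd_prime Nat.prime_two).1 h9 with h10 | h10
        · exfalso
          have h11 : Subsingleton D := Monoid.exp_eq_one_iff.1 h10
          have h12 : Nat.card D = 1 := Nat.card_of_subsingleton (1 : D)
          omega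
        · exact h10
      have hind := Cfsg.Agent.S4683.isInducedBlock_of_isBrauerPairOf hM hmax.1
      have h5 := Cfsg.Agent.S4637.result M hM B hmax.1.2.1 D hD hV e hind T hT _ rfl
      have h6 := h5.2.2
      rw [hl] at h6
      have h7 : T ≤ 𝐂[D] := (Subgroup.relIndex_eq_one).1 h6.symm
      exact h7 hxT

end

/-- Let B be a block of the finite group G relative to a maximal ideal M of the algebraic integers containing the prime p, with a nontrivial defect group D. If B has p-regular rank 1 and at most four irreducible characters, then B is nilpotent, D has exactly as many elements as B has irreducible characters, and p is 2 or 3. -/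
theorem result {G : Type*} [Group G] [Finite G] (p : ℕ) [Fact p.Prime] (M : Ideal Cfsg.AlgInt) (hM : Cfsg.IsPModular p M) (B : Set (Cfsg.IrrCharacter G)) (hB : Cfsg.IsPBlock M B) (D : Subgroup G) (hD : Cfsg.IsDefectGroup p M B D) (hD1 : D ≠ ⊥) (hl : Cfsg.blockRank p B = 1) (hk : Nat.card B ≤ 4) : Cfsg.IsNilpotentBlock p M B ∧ Nat.card D = Nat.card B ∧ (p = 2 ∨ p = 3) := by
  classical
  letI : Fintype G := Fintype.ofFinite G
  haveI hMp := isPrime_of_isPModular hM
  have hp : p.Prime := Fact.out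
  obtain ⟨V, hV1, hV2⟩ := exists_val M
  have hpV := natCast_residue hM hV2
  have hbF : (bF B).card = Nat.card B := Cfsg.Agent.S4710.card_eq_bF.symm
  obtain ⟨χ₀, hχ₀⟩ := isPBlock_nonempty hB
  have hagree := fun ξ hξ s hs => agree_of_rank_one hV1 hV2 hpV hB hl (by rw [hbF]; exact hk) hχ₀ ξ hξ s hs
  have huni := (uniform hM hB hχ₀ hagree).2
  have hcard := card_isDefectGroup hM hB hD
  have hDB : Nat.card D = Nat.card B := by rw [hcard, ← huni, hbF]
  have hd0 : blockDefect p B ≠ 0 := by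
    intro h
    rw [h, pow_zero] at hcard
    exact hD1 (Subgroup.eq_bot_of_card_eq D hcard)
  have hle4 : p ^ blockDefect p B ≤ 4 := by rw [← hcard, hDB]; exact hk
  have hple : p ≤ 4 := (Nat.le_self_pow hd0 p).trans hle4
  have hp23 : p = 2 ∨ p = 3 := by
    interval_cases p
    · exact absurd hp (by norm_num)
    · exact absurd hp (by norm_num)
    · exact Or.inl rfl
    · exact Or.inr rfl
    · exact absurd hp (by norm_num)
  have hcases : (p = 2 ∧ Nat.card D = 2) ∨ (p = 3 ∧ Nat.card D = 3) ∨ (p = 2 ∧ Nat.card D = 4) := by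
    rcases hp23 with rfl | rfl
    · have h1 : blockDefect 2 B ≤ 2 := by
        by_contra hcon
        have h2 : 2 ^ 3 ≤ 2 ^ blockDefect 2 B := Nat.pow_le_pow_right (by norm_num) (by omega)
        omega
      have h2 : blockDefect 2 B = 1 ∨ blockDefect 2 B = 2 := by omega
      rcases h2 with h2 | h2
      · left
        rw [hcard, h2]
        exact ⟨rfl, rfl⟩
      · right; right
        rw [hcard, h2]
        exact ⟨rfl, rfl⟩
    · have h1 : blockDefect 3 B ≤ 1 := by
        by_contra hcon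
        have h2 : 3 ^ 2 ≤ 3 ^ blockDefect 3 B := Nat.pow_le_pow_right (by norm_num) (by omega)
        omega
      have h2 : blockDefect 3 B = 1 := by omega
      right; left
      rw [hcard, h2]
      exact ⟨rfl, rfl⟩
  have hab : ∀ x ∈ D, ∀ y ∈ D, x * y = y * x := by
    intro x hx y hy
    have key : ∀ a b : D, a * b = b * a := by
      rcases hcases with ⟨-, h⟩ | ⟨-, h⟩ | ⟨-, h⟩
      · haveI : Fact (Nat.Prime (Nat.card D)) := ⟨by rw [h]; exact Nat.prime_two⟩
        have hc : IsCyclic D := isCyclic_of_prime_card rfl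
        exact hc.isMulCommutative.is_comm.comm
      · haveI : Fact (Nat.Prime (Nat.card D)) := ⟨by rw [h]; exact Nat.prime_three⟩
        have hc : IsCyclic D := isCyclic_of_prime_card rfl
        exact hc.isMulCommutative.is_comm.comm
      · haveI : Fact (Nat.Prime 2) := ⟨Nat.prime_two⟩
        exact (IsPGroup.isMulCommutative_of_card_eq_prime_sq (p := 2) (by rw [h]; norm_num)).is_comm.comm
    exact congrArg Subtype.val (key ⟨x, hx⟩ ⟨y, hy⟩)
  obtain ⟨e, hmax⟩ := exists_maximal_of_isDefectGroup hM hB hD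
  refine ⟨(isNilpotentBlock_iff_of_abelian hM hmax hab).2 ?_, hDB, hp23⟩
  exact stab_trivial hM hmax hD hl (by rw [hbF, hDB]) hab hcases

end Cfsg.Agent.S4648
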