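import Mathlib
import Cfsg.Statements.S4649
import Cfsg.Agent.Lib.CycRankOne
import Cfsg.Agent.Lib.BlockTrans
import Cfsg.Agent.Lib.BrauerCorr
import Cfsg.Agent.S4645
import Cfsg.Agent.S4648

set_option autoImplicit false
set_option linter.unusedSectionVars false
set_option linter.unusedVariables false
set_option linter.style.haveILetI false
open Cfsg

namespace Cfsg.Agent.S4649

open Cfsg.Agent.Lib.BlockResidue Cfsg.Agent.Lib.BlockRankOne Cfsg.Agent.Lib.BlockLocal
open Cfsg.Agent.Lib.BlockQ Cfsg.Agent.Lib.BlockDefect Cfsg.Agent.Lib.BlockUniform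
open Cfsg.Agent.Lib.BrauerCorr Cfsg.Agent.Lib.BrauerCen Cfsg.Agent.Lib.BrauerNil
open Cfsg.Agent.Lib.BrauerSat Cfsg.Agent.Lib.BrauerSub Cfsg.Agent.Lib.BrauerMax
open Cfsg.Agent.Lib.BrauerConj Cfsg.Agent.Lib.BlockTrans Cfsg.Agent.Lib.BrauerPair
open Cfsg.Agent.Lib.CycRankOne Cfsg.Agent.Lib.BlockKL Cfsg.Agent.Lib.BrauerIn
open Cfsg.Agent.Lib.CharBasic Cfsg.Agent.Lib.CharInd Cfsg.Agent.Lib.BlockSection
open Cfsg.Agent.Lib.KleinDefect Cfsg.Agent.Lib.BrauerStab

universe u

section

variable {G : Type u} [Group G] [Fintype G]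

local notation "𝐂[" R "]" => Subgroup.centralizer ((R : Subgroup G) : Set G)
local notation "𝐍[" R "]" => Subgroup.normalizer ((R : Subgroup G) : Set G)
local notation Q "^^" x => Subgroup.map (MulEquiv.toMonoidHom (MulAut.conj (x : G))) (Q : Subgroup G)

/-- The rank is invariant under isomorphisms. -/
theorem blockRank_twistSetE {H H' : Type u} [Group H] [Group H'] (p : ℕ) (σ : H ≃* H')
    (f : Set (IrrCharacter H)) : blockRank p (twistSetE σ f) = blockRank p f := by
  classical
  unfold blockRank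
  let L : (H → ℂ) ≃ₗ[ℂ] (H' → ℂ) := LinearEquiv.funCongrLeft ℂ ℂ σ.symm.toEquiv
  have hL : ∀ (v : H → ℂ) (x : H'), L v x = v (σ.symm x) := fun v x => rfl
  have h1 : (fun χ : IrrCharacter H' => pRegularPart p (χ : H' → ℂ)) '' twistSetE σ f =
      L '' ((fun χ : IrrCharacter H => pRegularPart p (χ : H → ℂ)) '' f) := by
    ext v
    constructor
    · rintro ⟨_, ⟨χ, hχ, rfl⟩, rfl⟩
      refine ⟨_, ⟨χ, hχ, rfl⟩, ?_⟩
      funext x
      rw [hL]
      have h2 : IsPRegular p x ↔ IsPRegular p (σ.symm x) := by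
        unfold IsPRegular
        rw [MulEquiv.orderOf_eq]
      unfold pRegularPart
      simp only [h2]
      rfl
    · rintro ⟨_, ⟨χ, hχ, rfl⟩, rfl⟩
      refine ⟨twistE σ χ, ⟨χ, hχ, rfl⟩, ?_⟩
      funext x
      rw [hL]
      have h2 : IsPRegular p x ↔ IsPRegular p (σ.symm x) := by
        unfold IsPRegular
        rw [MulEquiv.orderOf_eq]
      unfold pRegularPart
      simp only [h2]
      rfl
  rw [h1]
  have h2 := Submodule.map_span L.toLinearMap ((fun χ : IrrCharacter H => pRegularPart p (χ : H → ℂ)) '' f)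
  have h3 : Submodule.span ℂ (⇑L '' ((fun χ : IrrCharacter H => pRegularPart p (χ : H → ℂ)) '' f)) =
      (Submodule.span ℂ ((fun χ : IrrCharacter H => pRegularPart p (χ : H → ℂ)) '' f)).map L.toLinearMap :=
    h2.symm
  rw [h3]
  exact LinearEquiv.finrank_map_eq L _

/-- The rank of a conjugate pair. -/
theorem blockRank_of_cp (p : ℕ) {Q R : Subgroup G} {F : Set (IrrCharacter 𝐂[Q])}
    {f : Set (IrrCharacter 𝐂[R])} {y : G} (h : cp y ⟨Q, F⟩ = ⟨R, f⟩) :
    blockRank p f = blockRank p F := by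
  obtain ⟨h1, h2⟩ := Sigma.mk.inj_iff.mp h
  subst h1
  have h3 : conjBlock Q y F = f := eq_of_heq h2
  rw [← h3, conjBlock_eq_twistSetE]
  exact blockRank_twistSetE p _ F

variable {M : Ideal AlgInt} {p : ℕ}

/-- **The count**: if the stabilizer of a maximal pair moves an element of an abelian defect group
and the local blocks have rank one, then `k(B) + 2 ≤ l(B) + |P|`. -/
theorem card_add_two_le [Fact p.Prime] (hM : IsPModular p M) {B : Set (IrrCharacter G)} {P : Subgroup G}
    {e : Set (IrrCharacter 𝐂[P])} (hmax : IsMaximalBrauerPair p M B P e)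
    (hab : ∀ x ∈ P, ∀ y ∈ P, x * y = y * x)
    (hloc : ∀ z ∈ P, z ≠ 1 → ∀ f : Set (IrrCharacter 𝐂[Subgroup.zpowers z]), IsPBlock M f →
      SubpairLE p M (Subgroup.zpowers z) f P e → blockRank p f = 1)
    {t z₀ : G} (ht1 : t ∈ 𝐍[P]) (ht2 : StabilizesBlock 𝐂[P] e t) (hz₀ : z₀ ∈ P) (hz₀1 : z₀ ≠ 1)
    (hz₀t : t * z₀ * t⁻¹ ≠ z₀) : (bF B).card + 2 ≤ blockRank p B + Nat.card P := by
  classical
  haveI := isPrime_of_isPModular hM
  have hp := hM.1
  have hB := hmax.1.2.1
  let A : Finset G := ((Finset.univ.filter (· ∈ P)).erase 1).erase z₀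
  have hAmem : ∀ w, w ∈ A ↔ w ≠ z₀ ∧ w ≠ 1 ∧ w ∈ P := by
    intro w
    simp [A]
  have hAcard : A.card + 2 = Nat.card P := by
    have h1 : (Finset.univ.filter (· ∈ P)).card = Nat.card P := by
      rw [Nat.card_eq_fintype_card, Fintype.card_subtype]
    have h2 : (1 : G) ∈ Finset.univ.filter (· ∈ P) := by simp [P.one_mem]
    have h3 : z₀ ∈ (Finset.univ.filter (· ∈ P)).erase 1 := by simp [hz₀1, hz₀]
    have h4 := Finset.card_erase_add_one h3
    have h5 := Finset.card_erase_add_one h2
    simp only [A]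
    omega
  -- every pair has a conjugate below the maximal pair, at an element of `A`
  have hcpt : cp t ⟨P, e⟩ = ⟨P, e⟩ := by
    rw [cp_of_normalizer ht1 (normalizer_le_normalizer_centralizer P ht1),
      twistSet_eq_of_stabilizes hmax.1.1.2 ht2]
  have hpair : ∀ z : G, ∀ F : Set (IrrCharacter 𝐂[Subgroup.zpowers z]),
      (∃ k : ℕ, orderOf z = p ^ k) → z ≠ 1 → IsInducedBlock M 𝐂[Subgroup.zpowers z] F B →
      ∃ w ∈ A, ∃ y : G, y * z * y⁻¹ = w ∧ ∃ f : Set (IrrCharacter 𝐂[Subgroup.zpowers w]),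
        SubpairLE p M (Subgroup.zpowers w) f P e ∧ cp y ⟨Subgroup.zpowers z, F⟩ = ⟨Subgroup.zpowers w, f⟩ := by
    intro z F hzk hz1 hind
    have hQp : IsPGroup p (Subgroup.zpowers z) := by
      obtain ⟨k, hk⟩ := hzk
      apply IsPGroup.of_card (n := k)
      rw [Nat.card_zpowers, hk]
    have hQF := isBrauerPairOf_of_isInducedBlock hM hQp hind
    obtain ⟨x, hx⟩ := exists_conj_subpairLE hM hmax hQF
    have hxP : x * z * x⁻¹ ∈ P := by
      have h2 := le_of_subpairLE hx
      rw [map_zpowers] at h2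
      exact (Subgroup.zpowers_le).mp h2
    have hxne : x * z * x⁻¹ ≠ 1 := fun h => hz1 (by
      have : x * z * x⁻¹ = x * 1 * x⁻¹ := by rw [h]; group
      exact mul_left_cancel (mul_right_cancel this))
    -- a conjugator with the right target
    obtain ⟨y, hyA, hy⟩ : ∃ y : G, y * z * y⁻¹ ∈ A ∧
        Relation.ReflTransGen (NormalSubpairRel (G := G) p M) (cp y ⟨Subgroup.zpowers z, F⟩) ⟨P, e⟩ := by
      by_cases hcase : x * z * x⁻¹ = z₀
      · refine ⟨t * x, ?_, ?_⟩
        · have h1 : (t * x) * z * (t * x)⁻¹ = t * z₀ * t⁻¹ := by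
            rw [← hcase]
            group
          rw [h1, hAmem]
          refine ⟨hz₀t, fun h => hz₀1 ?_, (Subgroup.mem_normalizer_iff.1 ht1 z₀).1 hz₀⟩
          have : t * z₀ * t⁻¹ = t * 1 * t⁻¹ := by rw [h]; group
          exact mul_left_cancel (mul_right_cancel this)
        · have h3 := relationCp hM t hx
          rw [hcpt] at h3
          rw [cp_mul]
          exact h3
      · exact ⟨x, (hAmem _).2 ⟨hcase, hxne, hxP⟩, hx⟩
    have h4 : (cp y ⟨Subgroup.zpowers z, F⟩).1 = Subgroup.zpowers (y * z * y⁻¹) := by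
      change (Subgroup.zpowers z ^^ y) = _
      rw [map_zpowers]
    obtain ⟨F', hF'⟩ := exists_eq_pair _ h4
    refine ⟨_, hyA, y, rfl, F', ?_, hF'⟩
    rw [hF'] at hy
    exact hy
  -- the number of blocks at an element
  have hcount : ∀ z : G, (∃ k : ℕ, orderOf z = p ^ k) → z ≠ 1 →
      ∃ N : ℕ, vz p B z = ((Nat.card 𝐂[Subgroup.zpowers z] * N : ℕ) : ℂ) ∧
        N ≤ (A.filter (fun w => IsConj z w)).card := by
    intro z hzk hz1
    set H := 𝐂[Subgroup.zpowers z] with hH
    let Fs : Finset (BlockT M H) := Finset.univ.filter fun F => IsInducedBlock M H F.1 B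
    refine ⟨Fs.card, ?_, ?_⟩
    · rw [vz_eq' hM hB hzk (Cfsg.Agent.Lib.BlockSecond.centralizer_zpowers_eq z), Nat.cast_mul]
      congr 1
      rw [← Finset.sum_filter]
      have h1 : ∀ F ∈ Fs, (blockRank p F.1 : ℂ) = 1 := by
        intro F hF
        obtain ⟨w, hw, y, hy, f, hf, hcp⟩ := hpair z F.1 hzk hz1 (Finset.mem_filter.1 hF).2
        have h2 := blockRank_of_cp p hcp
        have hfb := (isBrauerPair_of_subpairLE hf hmax.1.1).2
        rw [hloc w ((hAmem w).1 hw).2.2 ((hAmem w).1 hw).2.1 f hfb hf] at h2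
        rw [← h2]
        simp
      rw [Finset.sum_congr rfl h1]
      simp [Fs]
    · refine Finset.card_le_card_of_forall_subsingleton
        (fun (F : BlockT M H) (w : G) => ∃ y : G, y * z * y⁻¹ = w ∧
          ∃ f : Set (IrrCharacter 𝐂[Subgroup.zpowers w]),
          SubpairLE p M (Subgroup.zpowers w) f P e ∧ cp y ⟨Subgroup.zpowers z, F.1⟩ = ⟨Subgroup.zpowers w, f⟩)
        ?_ ?_
      · intro F hF
        obtain ⟨w, hw, y, hy, h⟩ := hpair z F.1 hzk hz1 (Finset.mem_filter.1 hF).2
        refine ⟨w, Finset.mem_filter.2 ⟨hw, ?_⟩, y, hy, h⟩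
        rw [← hy]
        exact _root_.isConj_iff.2 ⟨y, rfl⟩
      · intro w _ F hF F' hF'
        obtain ⟨-, y, hy, f, hf, hcp⟩ := hF
        obtain ⟨-, y', hy', f', hf', hcp'⟩ := hF'
        have hff : f' = f := eq_of_two_subpairLE hM hmax.1.1 hf hf'
        subst hff
        have hu : cp (y'⁻¹ * y) ⟨Subgroup.zpowers z, F.1⟩ = ⟨Subgroup.zpowers z, F'.1⟩ := by
          rw [cp_mul, hcp, ← hcp', ← cp_mul, inv_mul_cancel, cp_one]
        have huC : y'⁻¹ * y ∈ H := by
          rw [hH, Cfsg.Agent.Lib.BlockSecond.centralizer_zpowers_eq,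
            Subgroup.mem_centralizer_singleton_iff]
          have h1 : y * z = w * y := by rw [← hy]; group
          have h2 : y' * z = w * y' := by rw [← hy']; group
          calc y'⁻¹ * y * z = y'⁻¹ * (y * z) := by group
            _ = y'⁻¹ * (w * y) := by rw [h1]
            _ = (y'⁻¹ * w * y') * (y'⁻¹ * y) := by group
            _ = z * (y'⁻¹ * y) := by
              rw [show y'⁻¹ * w * y' = z by rw [← hy']; group]
        have hyN := mem_normalizer_of_mem_centralizer huC
        have hst := stabilizes_of_mem_centralizer huC F.1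
        rw [cp_of_normalizer hyN (normalizer_le_normalizer_centralizer _ hyN),
          twistSet_eq_of_stabilizes F.2 hst] at hu
        exact Subtype.ext (eq_of_heq (Sigma.mk.inj_iff.mp hu).2)
  choose! N hN1 hN2 using hcount
  -- the sum
  have h1 := card_sub_rank hM hB
  let Tm : G → ℕ := fun z => if (∃ k : ℕ, orderOf z = p ^ k) ∧ z ≠ 1 then
    Nat.card 𝐂[Subgroup.zpowers z] * N z else 0
  have hTm : ∀ z, (if (∃ k : ℕ, orderOf z = p ^ k) ∧ z ≠ 1 then vz p B z else 0) = (Tm z : ℂ) := by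
    intro z
    by_cases hz : (∃ k : ℕ, orderOf z = p ^ k) ∧ z ≠ 1
    · simp only [Tm, if_pos hz]
      exact hN1 z hz.1 hz.2
    · simp only [Tm, if_neg hz]
      simp
  rw [Finset.sum_congr rfl fun z _ => hTm z] at h1
  have h2 : Nat.card G * (bF B).card = Nat.card G * blockRank p B + ∑ z, Tm z := by
    have h3 : ((Nat.card G * (bF B).card : ℕ) : ℂ) = ((Nat.card G * blockRank p B + ∑ z, Tm z : ℕ) : ℂ) := by
      push_cast
      rw [← h1]
      ring
    exact_mod_cast h3
  have hcen : ∀ z w : G, IsConj z w → Nat.card (Subgroup.centralizer ({z} : Set G)) =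
      Nat.card (Subgroup.centralizer ({w} : Set G)) := by
    intro z w hzw
    have h3 := Cfsg.Agent.Lib.InvolutionFusion.card_conj_mul_card_centralizer z
    have h4 := Cfsg.Agent.Lib.InvolutionFusion.card_conj_mul_card_centralizer w
    have h5 : Nat.card {u : G // IsConj z u} = Nat.card {u : G // IsConj w u} :=
      Nat.card_congr (Equiv.subtypeEquivRight fun u =>
        ⟨fun h => hzw.symm.trans h, fun h => hzw.trans h⟩)
    rw [h5] at h3
    have h6 : 0 < Nat.card {u : G // IsConj w u} := Nat.card_pos_iff.2 ⟨⟨⟨w, IsConj.refl w⟩⟩, inferInstance⟩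
    exact Nat.eq_of_mul_eq_mul_left h6 (h3.trans h4.symm)
  have h3 : ∑ z, Tm z ≤ A.card * Nat.card G := by
    have h4 : ∀ z, Tm z ≤ ∑ w ∈ A, if IsConj z w then Nat.card (Subgroup.centralizer ({w} : Set G)) else 0 := by
      intro z
      by_cases hz : (∃ k : ℕ, orderOf z = p ^ k) ∧ z ≠ 1
      · simp only [Tm, if_pos hz]
        rw [← Finset.sum_filter]
        have h5 : ∀ w ∈ A.filter (fun w => IsConj z w), Nat.card (Subgroup.centralizer ({w} : Set G)) =
            Nat.card (Subgroup.centralizer ({z} : Set G)) :=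
          fun w hw => (hcen z w (Finset.mem_filter.1 hw).2).symm
        rw [Finset.sum_congr rfl h5, Finset.sum_const, smul_eq_mul, mul_comm,
          Cfsg.Agent.Lib.BlockSecond.centralizer_zpowers_eq]
        exact Nat.mul_le_mul_right _ (hN2 z hz.1 hz.2)
      · simp only [Tm, if_neg hz]
        exact Nat.zero_le _
    calc ∑ z, Tm z ≤ ∑ z, ∑ w ∈ A, if IsConj z w then Nat.card (Subgroup.centralizer ({w} : Set G)) else 0 :=
          Finset.sum_le_sum fun z _ => h4 z
      _ = ∑ w ∈ A, ∑ z, if IsConj z w then Nat.card (Subgroup.centralizer ({w} : Set G)) else 0 :=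
          Finset.sum_comm
      _ = ∑ w ∈ A, Nat.card G := by
          refine Finset.sum_congr rfl fun w _ => ?_
          rw [← Finset.sum_filter, Finset.sum_const, smul_eq_mul,
            ← Cfsg.Agent.Lib.InvolutionFusion.card_conj_mul_card_centralizer w]
          congr 1
          rw [Nat.card_eq_fintype_card, Fintype.card_subtype]
          congr 1
          ext z
          simp only [Finset.mem_filter, Finset.mem_univ, true_and]
          exact ⟨fun h => h.symm, fun h => h.symm⟩
      _ = A.card * Nat.card G := by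
          rw [Finset.sum_const, smul_eq_mul]
  have hG : 0 < Nat.card G := Nat.card_pos
  have h4 : Nat.card G * (bF B).card ≤ Nat.card G * (blockRank p B + A.card) := by
    rw [h2, mul_add, mul_comm (Nat.card G) A.card]
    exact Nat.add_le_add_left h3 _
  have h5 := Nat.le_of_mul_le_mul_left h4 hG
  omega

end

/-- A block with cyclic defect group, of a finite group relative to a maximal ideal M of the algebraic integers containing the prime p, is nilpotent if and only if its p-regular rank is 1 (it has a unique irreducible Brauer character). -/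
theorem result {G : Type*} [Group G] [Finite G] (p : ℕ) [Fact p.Prime] (M : Ideal Cfsg.AlgInt) (hM : Cfsg.IsPModular p M) (B : Set (Cfsg.IrrCharacter G)) (hB : Cfsg.IsPBlock M B) (P : Subgroup G) (hPD : Cfsg.IsDefectGroup p M B P) (hcyc : IsCyclic P) : Cfsg.IsNilpotentBlock p M B ↔ Cfsg.blockRank p B = 1 := by
  classical
  letI : Fintype G := Fintype.ofFinite G
  haveI hMp := isPrime_of_isPModular hM
  constructor
  · intro hnil
    exact (Cfsg.Agent.S4689.result p M hM B hnil).1
  intro hl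
  have hp : p.Prime := Fact.out
  have hab : ∀ x ∈ P, ∀ y ∈ P, x * y = y * x := by
    intro x hx y hy
    exact congrArg Subtype.val (hcyc.isMulCommutative.is_comm.comm (⟨x, hx⟩ : P) ⟨y, hy⟩)
  obtain ⟨e, hmax⟩ := exists_maximal_of_isDefectGroup hM hB hPD
  rw [isNilpotentBlock_iff_of_abelian hM hmax hab]
  by_contra hcon
  push Not at hcon
  obtain ⟨t, ht1, ht2, ht3⟩ := hcon
  -- a moved element
  obtain ⟨z₀, hz₀, hz₀t⟩ : ∃ z₀ ∈ P, t * z₀ * t⁻¹ ≠ z₀ := by
    by_contra hall
    push Not at hall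
    apply ht3
    rw [Subgroup.mem_centralizer_iff]
    intro q hq
    have := hall q hq
    calc q * t = (t * q * t⁻¹) * t := by rw [this]
      _ = t * q := by group
  have hz₀1 : z₀ ≠ 1 := by
    rintro rfl
    apply hz₀t
    group
  have hP1 : P ≠ ⊥ := by
    rintro rfl
    exact hz₀1 (Subgroup.mem_bot.1 hz₀)
  -- the degrees agree
  obtain ⟨V, hV1, hV2⟩ := exists_val M
  have hpV := Cfsg.Agent.S4648.natCast_residue hM hV2
  obtain ⟨χ₀, hχ₀⟩ := isPBlock_nonempty hB
  have hagree := fun ξ hξ s hs => agree_of_rank_one_bdd hV1 hV2 hpV hB hl (Nat.card G)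
    (fun f e he hf W _ _ _ R h1 h2 => module_bound hM hV2 hpV hB hPD hcyc f e he hf W R h1 h2)
    hχ₀ ξ hξ s hs
  have huni := (uniform hM hB hχ₀ hagree).2
  have hcard := card_isDefectGroup hM hB hPD
  have hk : (bF B).card = Nat.card P := by rw [hcard, huni]
  -- local blocks have rank one
  have hloc : ∀ z ∈ P, z ≠ 1 → ∀ f : Set (IrrCharacter (Subgroup.centralizer ((Subgroup.zpowers z : Subgroup G) : Set G))),
      IsPBlock M f → SubpairLE p M (Subgroup.zpowers z) f P e → blockRank p f = 1 := by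
    intro z hz hz1 f hf hle
    have hQP : Subgroup.zpowers z ≤ P := Subgroup.zpowers_le.2 hz
    have hQ1 : Subgroup.zpowers z ≠ ⊥ := by
      rw [Ne, Subgroup.zpowers_eq_bot]
      exact hz1
    have hPC : P ≤ Subgroup.centralizer ((Subgroup.zpowers z : Subgroup G) : Set G) := by
      intro x hx
      rw [Subgroup.mem_centralizer_iff]
      intro q hq
      exact hab q (hQP hq) x hx
    have hPp : IsPGroup p P := isPGroup_of_isDefectGroup hPD
    obtain ⟨f', hf'⟩ := exists_isInducedBlockIn hM hPp hQP hPC hmax.1.1.2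
    have hbp := isBrauerPairOf_in hM hPp hQP hPC hf'
    have hn := isNormalSubpair_of_in hPp hQP hPC hbp hmax.1.1.2 hf'.2.1
    have hle' := subpairLE_of_normal hn
    have hff : f = f' := eq_of_two_subpairLE hM hmax.1.1 hle' hle
    subst hff
    have hind := Cfsg.Agent.S4683.isInducedBlock_of_isBrauerPairOf hM hmax.1
    let T : Subgroup G := Subgroup.normalizer (P : Set G) ⊓ stabSub _ e hmax.1.1.2
    let T' : Subgroup G := Subgroup.normalizer ((Subgroup.zpowers z : Subgroup G) : Set G) ⊓ stabSub _ f hf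
    exact (Cfsg.Agent.S4645.result p M hM B hB P hPD hP1 hcyc e hind T (fun g => Iff.rfl)
      (Subgroup.zpowers z) hQP hQ1 f hf' T' (fun g => Iff.rfl)).2.2.1
  have h := card_add_two_le hM hmax hab hloc ht1 ht2 hz₀ hz₀1 hz₀t
  rw [hk, hl] at h
  omega

end Cfsg.Agent.S4649
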