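import Mathlib
import Cfsg.Prelude.Def_OddOrderLocal
import Cfsg.Agent.Lib.BGTH

set_option autoImplicit false
open Cfsg

namespace Cfsg.Agent.S1396

open Cfsg.Agent.Lib.PCore Cfsg.Agent.Lib.CoprimeInv Cfsg.Agent.Lib.BGTrans Cfsg.Agent.Lib.BGTH

/-- Let G be a minimal simple group of odd order, p a prime dividing the order of G and A an abelian p-subgroup. Suppose either (1) A consists exactly of the elements x of C_G(A) with x^p = 1, and every proper subgroup of G has p-length at most one, or (2) A is normal and self-centralizing in some Sylow p-subgroup of G and has rank at least 2. Then A satisfies the transitivity hypothesis. -/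
theorem result {G : Type*} [Group G] [Finite G] (hG : Cfsg.IsMinSimpleOddOrder G)
    (p : ℕ) [Fact p.Prime] (hp : p ∣ Nat.card G) (A : Subgroup G) (hAp : IsPGroup p A) (hAc : IsMulCommutative A)
    (h : (∀ x ∈ Subgroup.centralizer (A : Set G), x ^ p = 1 ↔ x ∈ A) ∧ (∀ H : Subgroup G, H ≠ ⊤ → Cfsg.PLengthLE p 1 H) ∨
      ∃ P : Sylow p G, Cfsg.IsSCN (P : Subgroup G) A ∧ ¬ Cfsg.PRankLE p 1 A) :
    Cfsg.TransitivityHypothesis A := by
  have hAt : A ≠ ⊤ := by
    rintro rfl
    exact hG.2.2.1 ⟨⟨fun a b => by
      have := hAc.is_comm.comm (⟨a, Subgroup.mem_top a⟩ : (⊤ : Subgroup G)) ⟨b, Subgroup.mem_top b⟩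
      exact congrArg Subtype.val this⟩⟩
  rcases h with ⟨h1, hlen⟩ | ⟨P, hSCN, hr⟩
  · have hA1 : A ≠ ⊥ := by
      rintro rfl
      obtain ⟨x, hx⟩ := exists_prime_orderOf_dvd_card' p hp
      have hxc : x ∈ Subgroup.centralizer ((⊥ : Subgroup G) : Set G) := by
        rw [Subgroup.mem_centralizer_iff]
        intro h hh
        have : h = 1 := by simpa using hh
        simp [this]
      have hpow : x ^ p = 1 := by rw [← hx]; exact pow_orderOf_eq_one x
      have hx1 : x ∈ (⊥ : Subgroup G) := (h1 x hxc).mp hpow
      have : x = 1 := by simpa using hx1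
      rw [this, orderOf_one] at hx
      exact (Fact.out : p.Prime).one_lt.ne hx
    refine th_of_core hAp hA1 hAt ?_
    intro X Y hX hAX hYX hY hAY
    have hpodd : p ≠ 2 := by
      rintro rfl
      have hodd : Odd (Nat.card G) := hG.1
      obtain ⟨k, hk⟩ := hp
      rw [hk] at hodd
      exact (Nat.not_even_iff_odd.mpr hodd) (even_two_mul k)
    have hXs : Group.IsSolvable X := IsMin.solvable hG hX
    have hAV : A.subgroupOf X ≤ pPrimePCore p X :=
      Cfsg.Agent.Lib.PLengthOne.isPGroup_le_pPrimePCore (hlen X hX)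
        (hAp.comap_of_injective X.subtype X.subtype_injective |>.to_le (le_of_eq rfl))
    have hAe : IsElementaryAbelian p (A.subgroupOf X) := by
      refine ⟨isMulCommutative_subgroupOf X hAc, fun a ha => ?_⟩
      have haA : (a : G) ∈ A := by simpa [Subgroup.mem_subgroupOf] using ha
      have hac : (a : G) ∈ Subgroup.centralizer (A : Set G) := by
        rw [Subgroup.mem_centralizer_iff]
        intro b hb
        exact congrArg Subtype.val (hAc.is_comm.comm (⟨b, hb⟩ : A) ⟨a, haA⟩)
      have := (h1 (a : G) hac).mpr haA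
      exact Subtype.ext (by simpa using this)
    have hS : ∀ x : X, x ^ p = 1 → x ∈ Subgroup.centralizer ((A.subgroupOf X : Subgroup X) : Set X) →
        x ∈ A.subgroupOf X := by
      intro x hx hxc
      rw [Subgroup.mem_subgroupOf]
      refine (h1 (x : G) ?_).mp (by exact_mod_cast congrArg Subtype.val hx)
      rw [Subgroup.mem_centralizer_iff] at hxc ⊢
      intro a ha
      have := hxc ⟨a, hAX ha⟩ (by simpa [Subgroup.mem_subgroupOf] using ha)
      exact congrArg Subtype.val this
    have hcore := le_core_of_omega hpodd (A.subgroupOf X) (Y.subgroupOf X) hAe hAV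
      (coprime_card_subgroupOf hY) (subgroupOf_le_normalizer hAY) hS
    exact le_map_of_subgroupOf_le hYX hcore
  · have hA1 : A ≠ ⊥ := by
      rintro rfl
      apply hr
      intro B _ _
      have h1 : Nat.card B ≤ Nat.card (⊥ : Subgroup G) := Nat.card_le_card_of_injective (fun b => (b : (⊥ : Subgroup G))) Subtype.val_injective
      have h2 : Nat.card (⊥ : Subgroup G) = 1 := Subgroup.card_bot
      have h3 : 1 ≤ p ^ 1 := (Fact.out : p.Prime).one_lt.le.trans (by simp)
      omega
    refine th_of_core hAp hA1 hAt ?_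
    intro X Y hX hAX hYX hY hAY
    exact scn_core hG P hSCN hr hX hAX hYX hY hAY

end Cfsg.Agent.S1396
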