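import Cfsg.Statements.S1398
import Cfsg.Agent.Lib.BGUniq2

set_option autoImplicit false
set_option linter.style.haveILetI false
open Cfsg

namespace Cfsg.Agent.S1398

open Cfsg.Agent.Lib.BGUniq2 Cfsg.Agent.Lib.BGTrans Cfsg.Agent.Lib.CoprimeInv

/-- Let G be a minimal simple group of odd order, M a maximal subgroup, p a prime, and B a noncyclic elementary abelian p-subgroup of M. If C_G(b) ≤ M for every non-identity b ∈ B, or if every subgroup of G of order coprime to p normalized by B is contained in M, then M is the only maximal subgroup of G containing B. -/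
theorem result {G : Type*} [Group G] [Finite G] (hG : Cfsg.IsMinSimpleOddOrder G)
    (M : Subgroup G) (hM : IsCoatom M) (p : ℕ) [Fact p.Prime] (B : Subgroup G) (hBM : B ≤ M)
    (hBe : Cfsg.IsElementaryAbelian p B) (hBnc : ¬ IsCyclic B)
    (h : (∀ b ∈ B, b ≠ 1 → Subgroup.centralizer ({b} : Set G) ≤ M) ∨
      ∀ Y ∈ Cfsg.invSubgroups ⊤ B (Cfsg.primesNotDvd p), Y ≤ M) :
    Cfsg.InUniqueMaximal B := by
  have hpp : p.Prime := Fact.out
  have hBp : IsPGroup p B := fun a => ⟨1, Subtype.ext (by simpa using hBe.2 a a.2)⟩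
  have hB1 : B ≠ ⊥ := by
    rintro rfl
    apply hBnc
    infer_instance
  apply unique_of_inv hG hM hBM hBp hB1
  intro Y hY hBY
  have hYp : ¬ p ∣ Nat.card Y := by
    intro hd
    have h1 := Nat.dvd_gcd hd (dvd_refl p)
    rw [Nat.Coprime.gcd_eq_one hY] at h1
    exact hpp.one_lt.ne' (Nat.dvd_one.mp h1)
  rcases h with h | h
  · rw [Cfsg.Agent.Lib.CoprimeHyper.eq_iSup_inf_centralizer B Y hBe.1 hBe.2 hYp hBY]
    refine iSup_le ?_
    rintro ⟨B₁, hB₁, hi⟩
    have hne : B₁ ≠ ⊥ := by
      rintro rfl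
      apply hBnc
      have hc : Nat.card B ≤ p := by
        have : (⊥ : Subgroup G).relIndex B = Nat.card B := by
          rw [Subgroup.relIndex_bot_left]
        rwa [this] at hi
      obtain ⟨k, hk⟩ := IsPGroup.iff_card.mp hBp
      rcases k with _ | _ | k
      · rw [pow_zero] at hk
        have hsub : Subsingleton B := (Finite.card_le_one_iff_subsingleton).mp hk.le
        exact isCyclic_of_subsingleton
      · rw [zero_add, pow_one] at hk
        haveI : Fact (Nat.card B).Prime := ⟨hk ▸ hpp⟩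
        exact isCyclic_of_prime_card rfl
      · exfalso
        rw [hk] at hc
        have : p ^ 2 ≤ p ^ (k + 1 + 1) := Nat.pow_le_pow_right hpp.pos (by omega)
        nlinarith [hpp.two_le]
    obtain ⟨b, hb, hb1⟩ := exists_mem_ne_one hne
    intro x hx
    obtain ⟨hxY, hxC⟩ := Subgroup.mem_inf.mp hx
    apply h b (hB₁ hb) hb1
    rw [Subgroup.mem_centralizer_singleton_iff]
    exact (Subgroup.mem_centralizer_iff.mp hxC b hb).symm
  · apply h
    refine ⟨le_top, ?_, hBY⟩
    intro q hq hd
    refine ⟨hq, fun hqp => ?_⟩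
    have : q = p := (Nat.prime_dvd_prime_iff_eq hq hpp).mp hqp
    exact hYp (this ▸ hd)

end Cfsg.Agent.S1398
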