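import Mathlib
import Cfsg.Agent.Lib.BGP3B
import Cfsg.Agent.Lib.BGTau8

set_option autoImplicit false
open Cfsg

namespace Cfsg.Agent.S1422

theorem ea_cj {G : Type*} [Group G] [Finite G] {p : ℕ} {A : Subgroup G} (h : Cfsg.IsElementaryAbelian p A) (g : G) :
    Cfsg.IsElementaryAbelian p (Cfsg.Agent.Lib.CoprimeInv.cj A g) := by
  refine ⟨Cfsg.Agent.Lib.BGSigma.isMulCommutative_cj h.1 g, ?_⟩
  intro a ha
  rw [Cfsg.Agent.Lib.CoprimeInv.mem_cj] at ha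
  have h1 := h.2 _ ha
  have h2 : (g⁻¹ * a * g) ^ p = g⁻¹ * a ^ p * g := by
    have := conj_pow (a := g⁻¹) (b := a) (i := p)
    simpa using this
  rw [h2] at h1
  have h3 : a ^ p = g * (g⁻¹ * a ^ p * g) * g⁻¹ := by group
  rw [h3, h1]
  group

/-- Let G be a minimal simple group of odd order, p a prime and P a non-abelian p-subgroup of G. Then P lies in exactly one maximal subgroup of G. -/
theorem result {G : Type*} [Group G] [Finite G] (hG : Cfsg.IsMinSimpleOddOrder G) (p : ℕ) [Fact p.Prime] (P : Subgroup G) (hP : IsPGroup p P) (hPna : ¬ IsMulCommutative P) :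
    Cfsg.InUniqueMaximal P := by
  refine Cfsg.Agent.Lib.BGP3A.unique_of_nonab hG ?_ _ P rfl hP hPna
  intro M hM hτ Q hQ
  obtain ⟨A, hAM, hAe, hAc⟩ := Cfsg.Agent.Lib.BGSigma3.exists_ea2 hτ.2.2.2
  obtain ⟨S₁, hS₁, hAS₁⟩ := Cfsg.Agent.Lib.CoprimeInv.exists_isSylowIn_ge p hAM
    (Cfsg.Agent.Lib.BGSigma3.isPGroup_of_ea hAe)
  obtain ⟨g, hg, hQe⟩ := hS₁.exists_conj hQ
  have hA₁Q : Cfsg.Agent.Lib.CoprimeInv.cj A g ≤ Q := by
    rw [hQe]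
    exact Cfsg.Agent.Lib.CoprimeInv.cj_mono hAS₁ g
  have hH : Cfsg.Agent.Lib.BGTau7.CentHyp G :=
    fun p _ A M hM hAM hAe hAc => Cfsg.Agent.Lib.BGP2F.cent_le hG hM hAM hAe hAc
  have hT : Cfsg.Agent.Lib.BGTau7.T2 M (Cfsg.Agent.Lib.CoprimeInv.cj A g) p :=
    ⟨hG, hH, hM, hτ, hA₁Q.trans hQ.1, Cfsg.Agent.S1422.ea_cj hAe g,
      by rw [Cfsg.Agent.Lib.CoprimeInv.card_cj, hAc]⟩
  exact Cfsg.Agent.Lib.BGTau7.T2.abelian hT hQ hA₁Q

end Cfsg.Agent.S1422
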