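import Mathlib
import Cfsg.Agent.Lib.BGTau12

set_option autoImplicit false
open Cfsg

namespace Cfsg.Agent.S1420

/-- Let G be a minimal simple group of odd order, M a maximal subgroup and E a complement to M_σ in M. Then every nilpotent subgroup of M whose order involves no prime of σ(M) is abelian; E' is abelian; for p ∈ σ(M) and every noncyclic p-subgroup P of M, N_G(P) ≤ M; and if x ≠ 1 in M has every prime divisor of its order in τ₂(M) and centralizes a non-identity element of M_σ, then C_G(x) ≤ M and M is the unique maximal subgroup containing C_G(x). -/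
theorem result {G : Type*} [Group G] [Finite G] (hG : Cfsg.IsMinSimpleOddOrder G)
    (M : Subgroup G) (hM : IsCoatom M) (E : Subgroup G) (hE : Cfsg.IsComplIn E (Cfsg.sigmaCore M) M) :
    (∀ N : Subgroup G, N ≤ M → Group.IsNilpotent N → (∀ p : ℕ, p.Prime → p ∣ Nat.card N → p ∉ Cfsg.sigma M) → IsMulCommutative N) ∧
      IsMulCommutative ↥⁅E, E⁆ ∧
      (∀ (p : ℕ) (P : Subgroup G), p ∈ Cfsg.sigma M → IsPGroup p P → P ≤ M → ¬ IsCyclic P → Subgroup.normalizer (P : Set G) ≤ M) ∧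
      ∀ x ∈ M, x ≠ 1 → (∀ p : ℕ, p.Prime → p ∣ orderOf x → p ∈ Cfsg.tau2 M) → x ∈ Cfsg.sigmaHat M →
        Subgroup.centralizer ({x} : Set G) ≤ M ∧ ∀ L : Subgroup G, IsCoatom L → Subgroup.centralizer ({x} : Set G) ≤ L → L = M := by
  have hEE : ⁅E, E⁆ ≤ E := Subgroup.commutator_le.mpr fun a ha b hb => by
    rw [commutatorElement_def]
    exact E.mul_mem (E.mul_mem (E.mul_mem ha hb) (E.inv_mem ha)) (E.inv_mem hb)
  refine ⟨fun N hNM hN hσ => Cfsg.Agent.Lib.BGTau7.nilpotent_abelian hG hM hNM hN hσ, ?_, ?_, ?_⟩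
  · refine Cfsg.Agent.Lib.BGTau7.nilpotent_abelian hG hM
      (hEE.trans hE.1) (Cfsg.Agent.Lib.BGM2.nilpotent_commutator_compl hG hM hE) ?_
    intro p hp hd
    exact Cfsg.Agent.Lib.BGTau7.not_sigma_of_compl hG hM hE hp
      (hd.trans (Subgroup.card_dvd_of_le hEE))
  · intro p P hp hPp hPM hPc
    have : Fact p.Prime := ⟨hp.1⟩
    exact Cfsg.Agent.Lib.BGP3B.normalizer_le_of_noncyclic hG hM hp hPp hPc hPM
  · intro x hxM hx1 hτ hs
    exact Cfsg.Agent.Lib.BGTau7.cent_of_tau2_element hG hM hxM hx1 hτ hs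

end Cfsg.Agent.S1420
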