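-- Statement S1429: the case `p ∉ σ(M) ∪ κ(M)`.
import Mathlib
import Cfsg.Statements.S1429
import Cfsg.Agent.Lib.BGTau7
import Cfsg.Agent.Lib.BGP2F
import Cfsg.Agent.Lib.BGM2

set_option autoImplicit false
set_option linter.unusedSectionVars false
set_option linter.style.haveILetI false
open Cfsg

namespace Cfsg.Agent.S1429

open Subgroup Cfsg.Agent.Lib.BGM1 Cfsg.Agent.Lib.CoprimeInv Cfsg.Agent.Lib.BGSigma3

universe u

variable {G : Type u} [Group G] [Finite G]

theorem cyclic_of_rank1 (hG : Cfsg.IsMinSimpleOddOrder G) (M : Subgroup G) {p : ℕ} [Fact p.Prime]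
    (P : Sylow p M) (hr : PRankLE p 1 M) : IsCyclic (P : Subgroup M) := by
  set Q : Subgroup G := (P : Subgroup M).map M.subtype with hQ
  have hQM : Q ≤ M := Subgroup.map_subtype_le _
  have hQp : IsPGroup p Q := P.2.map _
  have hZ : IsZGroup Q := by
    apply Cfsg.Agent.Lib.BGM2.isZGroup_of_prank hG
    intro q hq hd
    have hqp : q = p := by
      obtain ⟨k, hk⟩ := IsPGroup.iff_card.mp hQp
      rw [hk] at hd
      exact (Nat.prime_dvd_prime_iff_eq hq Fact.out).mp (hq.dvd_of_dvd_pow hd)
    subst hqp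
    exact Cfsg.Agent.Lib.BGUniq3.prankLE_of_le hQM hr
  have hcyc : IsCyclic Q := by
    have h1 : ∀ R : Sylow p Q, IsCyclic R := fun R => (isZGroup_iff _).mp hZ p Fact.out R
    obtain ⟨R⟩ : Nonempty (Sylow p Q) := inferInstance
    have h2 : (R : Subgroup Q) = ⊤ := (R.is_maximal' (IsPGroup.to_subgroup hQp ⊤) le_top).symm
    have h3 := h1 R
    rw [h2] at h3
    exact (Subgroup.topEquiv (G := Q)).isCyclic.mp h3
  exact ((Subgroup.equivMapOfInjective (P : Subgroup M) M.subtype M.subtype_injective).isCyclic).mpr hcyc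

/-- A fixed-point-free element of prime order on `M_σ`. -/
theorem nilpotent_of_free (hG : Cfsg.IsMinSimpleOddOrder G) {M : Subgroup G} (hM : IsCoatom M)
    {p : ℕ} [hpf : Fact p.Prime] {x : G} (hxM : x ∈ M) (hxp : x ^ p = 1)
    (hfree : ∀ y ∈ sigmaCore M, x * y = y * x → y = 1) (hne : M ≠ ⊥) :
    Group.IsNilpotent (sigmaCore M) := by
  have hxn : x ∈ normalizer (sigmaCore M : Set G) := le_normalizer_sigmaCore hxM
  let φ : MulAut (sigmaCore M) := (sigmaCore M).normalizerMonoidHom ⟨x, hxn⟩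
  have hφ : ∀ y : sigmaCore M, ((φ y : sigmaCore M) : G) = x * (y : G) * x⁻¹ := fun y => rfl
  have hfp : MonoidHom.FixedPointFree (φ : sigmaCore M →* sigmaCore M) := by
    intro y hy
    have h1 : x * (y : G) * x⁻¹ = y := by
      rw [← hφ]
      exact congrArg Subtype.val hy
    have h3 : x * (y : G) = y * x := by
      calc x * (y : G) = x * (y : G) * x⁻¹ * x := by group
        _ = y * x := by rw [h1]
    exact Subtype.ext (hfree y y.2 h3)
  have hne' : sigmaCore M ≠ ⊥ := Cfsg.Agent.Lib.BGTau7.sigmaCore_ne_bot hG hM hne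
  have hφ1 : φ ≠ 1 := by
    intro h
    obtain ⟨y, hy, hy1⟩ := (Subgroup.bot_or_exists_ne_one _).resolve_left hne'
    apply hy1
    have h1 := hfp ⟨y, hy⟩ (by rw [show (φ : sigmaCore M →* sigmaCore M) = ((1 : MulAut (sigmaCore M)) : sigmaCore M →* sigmaCore M) from by rw [h]]; rfl)
    exact congrArg Subtype.val h1
  have hφp : φ ^ p = 1 := by
    ext y
    have h1 : ∀ n : ℕ, (((φ ^ n) y : sigmaCore M) : G) = x ^ n * (y : G) * (x ^ n)⁻¹ := by
      intro n
      induction n generalizing y with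
      | zero => simp
      | succ n ih =>
        rw [pow_succ, MulAut.mul_apply, ih, hφ, pow_succ]
        group
    rw [h1, hxp]
    simp
  have hord : orderOf φ = p := orderOf_eq_prime hφp hφ1
  exact Cfsg.Agent.S0033.result φ hfp p hpf.out hord

/-- An elementary abelian subgroup of order `p²` of a Sylow subgroup. -/
theorem exists_ea {M : Subgroup G} {p : ℕ} [hpf : Fact p.Prime] (hr2 : PRankLE p 2 M)
    (hr1 : ¬ PRankLE p 1 M) (S : Sylow p M) :
    ∃ A : Subgroup G, A ≤ (S : Subgroup M).map M.subtype ∧ IsElementaryAbelian p A ∧ Nat.card A = p ^ 2 := by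
  have hr1' := hr1
  unfold PRankLE at hr1'
  push Not at hr1'
  obtain ⟨E, hEc, hEp, hEl⟩ := hr1'
  have hEg := hr2 E hEc hEp
  have hEP : IsPGroup p E := by
    intro a
    exact ⟨1, Subtype.ext (by simpa using hEp a a.2)⟩
  obtain ⟨P, hP⟩ := hEP.exists_le_sylow
  obtain ⟨g, hg⟩ := MulAction.exists_smul_eq M P S
  let e := MulAut.conj g
  let E' : Subgroup M := E.map e.toMonoidHom
  have hE'S : E' ≤ (S : Subgroup M) := by
    rw [← hg]
    exact Subgroup.map_mono hP
  have hcard : Nat.card E' = Nat.card E := by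
    exact Nat.card_congr (Subgroup.equivMapOfInjective E e.toMonoidHom e.injective).symm.toEquiv
  have hE'p : ∀ a ∈ E', a ^ p = 1 := by
    rintro _ ⟨a, ha, rfl⟩
    have := hEp a ha
    show (e a) ^ p = 1
    rw [← map_pow, this, map_one]
  have hE'c : IsMulCommutative E' := by
    constructor
    constructor
    rintro ⟨_, a, ha, rfl⟩ ⟨_, b, hb, rfl⟩
    apply Subtype.ext
    show (e a) * (e b) = (e b) * (e a)
    rw [← map_mul, ← map_mul]
    have := hEc.is_comm.comm ⟨a, ha⟩ ⟨b, hb⟩
    exact congrArg e (congrArg Subtype.val this)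
  refine ⟨E'.map M.subtype, Subgroup.map_mono hE'S, ?_, ?_⟩
  · refine ⟨?_, ?_⟩
    · constructor
      constructor
      rintro ⟨_, a, ha, rfl⟩ ⟨_, b, hb, rfl⟩
      apply Subtype.ext
      have := hE'c.is_comm.comm ⟨a, ha⟩ ⟨b, hb⟩
      exact congrArg M.subtype (congrArg Subtype.val this)
    · rintro _ ⟨a, ha, rfl⟩
      have := hE'p a ha
      show ((a : M) : G) ^ p = 1
      exact_mod_cast congrArg Subtype.val this
  · have h1 : Nat.card (E'.map M.subtype) = Nat.card E' :=
      Nat.card_congr (Subgroup.equivMapOfInjective E' M.subtype M.subtype_injective).symm.toEquiv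
    rw [h1, hcard]
    obtain ⟨k, hk⟩ := IsPGroup.iff_card.mp hEP
    rw [hk] at hEg hEl ⊢
    have hp2 : 1 < p := hpf.out.one_lt
    have h2 : k ≤ 2 := (Nat.pow_le_pow_iff_right hp2).mp hEg
    have h3 : 1 < k := (Nat.pow_lt_pow_iff_right hp2).mp hEl
    have : k = 2 := by omega
    rw [this]

/-- **S1429** -/
theorem result {G : Type*} [Group G] [Finite G] (hG : Cfsg.IsMinSimpleOddOrder G)
    (M : Subgroup G) (hM : IsCoatom M) (hP1 : ¬ (∀ q : ℕ, q.Prime → q ∣ Nat.card M → q ∉ Cfsg.sigma M → q ∈ Cfsg.kappa M))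
    (p : ℕ) [Fact p.Prime] (hpM : p ∣ Nat.card M) (hp : p ∉ Cfsg.sigma M ∪ Cfsg.kappa M) (S : Sylow p M) :
    Nat.card ↥(Subgroup.closure {x : G | x ∈ (S : Subgroup M).map M.subtype ∧ x ^ p = 1}) ≤ p ^ 2 ∧
      Cfsg.sigmaCore M ⊓ Subgroup.centralizer ((Subgroup.closure {x : G | x ∈ (S : Subgroup M).map M.subtype ∧ x ^ p = 1} : Subgroup G) : Set G) = ⊥ ∧
      Group.IsNilpotent (Cfsg.sigmaCore M) := by
  classical
  obtain ⟨hpσ, hpκ⟩ : p ∉ Cfsg.sigma M ∧ p ∉ Cfsg.kappa M :=
    ⟨fun h => hp (Or.inl h), fun h => hp (Or.inr h)⟩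
  have hpp : p.Prime := Fact.out
  have hS := isSylowIn_map S
  have hMne : M ≠ ⊥ := by
    rintro rfl
    have : Nat.card (⊥ : Subgroup G) = 1 := Subgroup.card_bot
    rw [this] at hpM
    exact hpp.one_lt.ne' (Nat.dvd_one.mp hpM)
  by_cases hr2 : PRankLE p 2 M
  · by_cases hr1 : PRankLE p 1 M
    · -- rank one
      have hall : ∀ P : Sylow p M, IsCyclic (P : Subgroup M) := fun P => cyclic_of_rank1 hG M P hr1
      have hκ : ∃ P : Sylow p M, ¬ ∃ x : M, x ∈ (P : Subgroup M) ∧ x ≠ 1 ∧
          ∃ y ∈ Cfsg.sigmaCore M, y ≠ 1 ∧ (x : G) * y = y * x := by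
        by_contra hno
        push Not at hno
        apply hpκ
        refine ⟨hpp, hpM, hpσ, fun P => ⟨hall P, ?_⟩⟩
        obtain ⟨x, hx, hx1, y, hy, hy1, hxy⟩ := hno P
        exact ⟨x, hx, hx1, y, hy, hy1, hxy⟩
      obtain ⟨P, hP⟩ := hκ
      have hfree : ∀ x ∈ (S : Subgroup M), x ≠ 1 → ∀ y ∈ Cfsg.sigmaCore M, (x : G) * y = y * x → y = 1 := by
        intro x hx hx1 y hy hxy
        obtain ⟨g, hg⟩ := MulAction.exists_smul_eq M S P
        by_contra hy1
        apply hP
        have hmem : g * x * g⁻¹ ∈ (P : Subgroup M) := by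
          rw [← hg]
          exact Subgroup.mem_map_of_mem _ hx
        refine ⟨g * x * g⁻¹, hmem, ?_, (g : G) * y * (g : G)⁻¹, ?_, ?_, ?_⟩
        · intro h
          apply hx1
          have h1 : x = g⁻¹ * (g * x * g⁻¹) * g := by group
          rw [h1, h]; group
        · have := le_normalizer_sigmaCore (M := M) g.2
          exact (Subgroup.mem_normalizer_iff.mp this y).mp hy
        · intro h
          apply hy1
          have h1 : y = (g : G)⁻¹ * ((g : G) * y * (g : G)⁻¹) * g := by group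
          rw [h1, h]; group
        · push_cast
          calc (g : G) * x * (g : G)⁻¹ * ((g : G) * y * (g : G)⁻¹) = g * (x * y) * (g : G)⁻¹ := by group
            _ = g * (y * x) * (g : G)⁻¹ := by rw [hxy]
            _ = _ := by group
      have hScyc := hall S
      have hdvd : p ∣ Nat.card (S : Subgroup M) := by
        rw [Sylow.card_eq_multiplicity S]
        exact dvd_pow_self p ((hpp.factorization_pos_of_dvd (Nat.card_pos.ne') hpM).ne')
      obtain ⟨x₀, hx₀⟩ := exists_prime_orderOf_dvd_card' p hdvd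
      have hxx1 : (x₀ : M) ≠ 1 := by
        intro h
        have : x₀ = 1 := Subtype.ext h
        rw [this, orderOf_one] at hx₀
        exact hpp.one_lt.ne hx₀
      have hxp : ((x₀ : M) : G) ^ p = 1 := by
        have : x₀ ^ p = 1 := orderOf_dvd_iff_pow_eq_one.mp hx₀.dvd
        exact_mod_cast congrArg (fun z : (S : Subgroup M) => ((z : M) : G)) this
      have hx0mem : ((x₀ : M) : G) ∈ (S : Subgroup M).map M.subtype := Subgroup.mem_map_of_mem _ x₀.2
      refine ⟨?_, ?_, ?_⟩
      · -- order at most `p`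
        letI : CommGroup (S : Subgroup M) := IsCyclic.commGroup
        have hcomm : ∀ a ∈ (S : Subgroup M).map M.subtype, ∀ b ∈ (S : Subgroup M).map M.subtype, a * b = b * a := by
          rintro _ ⟨a, ha, rfl⟩ _ ⟨b, hb, rfl⟩
          have := mul_comm (⟨a, ha⟩ : (S : Subgroup M)) ⟨b, hb⟩
          exact congrArg (fun z : (S : Subgroup M) => ((z : M) : G)) this
        have hmem : ∀ z ∈ Subgroup.closure {x : G | x ∈ (S : Subgroup M).map M.subtype ∧ x ^ p = 1},
            z ∈ (S : Subgroup M).map M.subtype ∧ z ^ p = 1 := by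
          intro z hz
          induction hz using Subgroup.closure_induction with
          | mem x hx => exact hx
          | one => exact ⟨one_mem _, one_pow _⟩
          | mul x y _ _ hx hy =>
            refine ⟨mul_mem hx.1 hy.1, ?_⟩
            rw [(show Commute x y from hcomm x hx.1 y hy.1).mul_pow, hx.2, hy.2, one_mul]
          | inv x _ hx =>
            exact ⟨inv_mem hx.1, by rw [inv_pow, hx.2, inv_one]⟩
        have hmem2 : ∀ z : Subgroup.closure {x : G | x ∈ (S : Subgroup M).map M.subtype ∧ x ^ p = 1},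
            ∃ a : (S : Subgroup M), ((a : M) : G) = z := by
          rintro ⟨z, hz⟩
          obtain ⟨a, ha, rfl⟩ := (hmem z hz).1
          exact ⟨⟨a, ha⟩, rfl⟩
        choose f hf using hmem2
        have hfp : ∀ z, f z ^ p = 1 := by
          intro z
          apply Subtype.ext
          apply Subtype.ext
          have := (hmem _ z.2).2
          rw [← hf z] at this
          exact_mod_cast this
        haveI : Fintype (S : Subgroup M) := Fintype.ofFinite _
        have hinj : Function.Injective (fun z => (⟨f z, hfp z⟩ : {a : (S : Subgroup M) // a ^ p = 1})) := by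
          intro z w h
          have h1 : f z = f w := congrArg Subtype.val h
          apply Subtype.ext
          rw [← hf z, ← hf w, h1]
        have h1 := Nat.card_le_card_of_injective _ hinj
        have h2 : Nat.card {a : (S : Subgroup M) // a ^ p = 1} ≤ p := by
          rw [Nat.card_eq_fintype_card, Fintype.card_subtype]
          exact IsCyclic.card_pow_eq_one_le hpp.pos
        have h3 : p ≤ p ^ 2 := Nat.le_self_pow (by norm_num) p
        omega
      · rw [eq_bot_iff]
        rintro y ⟨hy1, hy2⟩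
        have h3 : ((x₀ : M) : G) * y = y * (x₀ : M) := by
          have := Subgroup.mem_centralizer_iff.mp hy2 ((x₀ : M) : G)
            (Subgroup.subset_closure ⟨hx0mem, hxp⟩)
          exact this
        exact hfree _ x₀.2 hxx1 y hy1 h3
      · refine nilpotent_of_free hG hM (x := ((x₀ : M) : G)) (p := p) (x₀ : M).2 hxp ?_ hMne
        intro y hy h3
        exact hfree _ x₀.2 hxx1 y hy h3
    · -- rank two
      have hτ : p ∈ tau2 M := ⟨hpp, hpσ, hr2, hr1⟩
      obtain ⟨A, hAS, hAe, hAc⟩ := exists_ea hr2 hr1 S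
      have hAM : A ≤ M := hAS.trans hS.1
      have T : Cfsg.Agent.Lib.BGTau7.T2 M A p :=
        ⟨hG, fun q _ B L hL hBL hBe hBc => Cfsg.Agent.Lib.BGP2F.cent_le hG hL hBL hBe hBc, hM, hτ, hAM, hAe, hAc⟩
      have hcl : Subgroup.closure {x : G | x ∈ (S : Subgroup M).map M.subtype ∧ x ^ p = 1} = A := by
        apply le_antisymm
        · rw [Subgroup.closure_le]
          rintro x ⟨hx, hxp⟩
          exact T.omega_P hS hAS hx hxp
        · intro x hx
          exact Subgroup.subset_closure ⟨hAS hx, hAe.2 x hx⟩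
      rw [hcl]
      exact ⟨hAc.le, T.d, T.nilpotent⟩
  · exact absurd (Cfsg.Agent.Lib.BGSigma2.alpha_sub_sigma hG (ut hG) hM ⟨hpp, hr2⟩) hpσ

end Cfsg.Agent.S1429
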