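import Mathlib
import Cfsg.Statements.S1545
import Cfsg.Agent.Lib.FrobFix

set_option autoImplicit false
open Cfsg

namespace Cfsg.Agent.S1545

/-- Let X be a finite group with subgroups U, E and H such that U and E generate a subgroup UE = U ⊔ E normalising H, with U normal in UE, U ⊓ E = ⊥, U ≠ ⊥, E ≠ ⊥, every non-identity element of E commuting with no non-identity element of U (UE is a Frobenius group with kernel U acting on H by conjugation), H solvable, H ⊓ (U ⊔ E) = ⊥ and the orders of H and U ⊔ E coprime. Then Nat.card (H ⊓ C(U ⊔ E)) ^ Nat.card E * Nat.card H = Nat.card (H ⊓ C(E)) ^ Nat.card E * Nat.card (H ⊓ C(U)), where C(·) denotes the centraliser. -/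
theorem result {X : Type*} [Group X] [Finite X] (U E H : Subgroup X) (hU1 : U ≠ ⊥) (hE1 : E ≠ ⊥) (hUE : U ⊓ E = ⊥) (hUn : ∀ e ∈ E, ∀ u ∈ U, e * u * e⁻¹ ∈ U) (hfpf : ∀ e ∈ E, e ≠ 1 → ∀ u ∈ U, e * u = u * e → u = 1) (hHn : ∀ x ∈ U ⊔ E, ∀ h ∈ H, x * h * x⁻¹ ∈ H) (hdisj : H ⊓ (U ⊔ E) = ⊥) (hsolv : Group.IsSolvable H) (hcop : Nat.Coprime (Nat.card H) (Nat.card ↥(U ⊔ E))) : Nat.card ↥(H ⊓ Subgroup.centralizer ((U ⊔ E : Subgroup X) : Set X)) ^ Nat.card E * Nat.card H = Nat.card ↥(H ⊓ Subgroup.centralizer (E : Set X)) ^ Nat.card E * Nat.card ↥(H ⊓ Subgroup.centralizer (U : Set X)) := by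
  classical
  have hUle : U ≤ U ⊔ E := le_sup_left
  have hEle : E ≤ U ⊔ E := le_sup_right
  -- `U ⊔ E` normalizes `U`
  have hN : U ⊔ E ≤ Subgroup.normalizer (U : Set X) := by
    refine sup_le Subgroup.le_normalizer ?_
    intro e he
    rw [Subgroup.mem_normalizer_iff]
    intro h
    constructor
    · intro hh
      exact hUn e he h hh
    · intro hh
      have := hUn e⁻¹ (E.inv_mem he) _ hh
      have e1 : e⁻¹ * (e * h * e⁻¹) * e⁻¹⁻¹ = h := by group
      rwa [e1] at this
  let G := ↥(U ⊔ E)
  let U' : Subgroup G := U.subgroupOf (U ⊔ E)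
  let E' : Subgroup G := E.subgroupOf (U ⊔ E)
  have hU'n : U'.Normal := by
    refine ⟨fun a ha g => ?_⟩
    have h1 : ((g * a * g⁻¹ : G) : X) = (g : X) * a * (g : X)⁻¹ := rfl
    show ((g * a * g⁻¹ : G) : X) ∈ U
    rw [h1]
    exact (Subgroup.mem_normalizer_iff.1 (hN g.2) a).1 ha
  have hfpf' : ∀ e ∈ E', e ≠ 1 → ∀ u ∈ U', e * u = u * e → u = 1 := by
    intro e he hne u hu hc
    apply Subtype.ext
    exact hfpf e he (fun h => hne (Subtype.ext h)) u hu (congrArg Subtype.val hc)
  -- `U` is nilpotent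
  have hnil : Group.IsNilpotent U := by
    have hcardE : Nat.card E ≠ 1 := fun h => hE1 (Subgroup.card_eq_one.1 h)
    obtain ⟨s, hs, hsd⟩ := Nat.exists_prime_and_dvd hcardE
    have : Fact s.Prime := ⟨hs⟩
    obtain ⟨x, hx⟩ := exists_prime_orderOf_dvd_card' s hsd
    have hx1 : (x : X) ≠ 1 := by
      intro h
      have h2 : x = 1 := Subtype.ext h
      rw [h2, orderOf_one] at hx
      exact hs.one_lt.ne hx
    let α : MulAut U :=
      { toFun := fun u => ⟨(x : X) * u * (x : X)⁻¹, hUn x x.2 u u.2⟩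
        invFun := fun u => ⟨(x : X)⁻¹ * u * (x : X)⁻¹⁻¹, hUn _ (E.inv_mem x.2) u u.2⟩
        left_inv := by
          intro u
          apply Subtype.ext
          show (x : X)⁻¹ * ((x : X) * u * (x : X)⁻¹) * (x : X)⁻¹⁻¹ = u
          group
        right_inv := by
          intro u
          apply Subtype.ext
          show (x : X) * ((x : X)⁻¹ * u * (x : X)⁻¹⁻¹) * (x : X)⁻¹ = u
          group
        map_mul' := by
          intro a b
          apply Subtype.ext
          show (x : X) * ((a : X) * b) * (x : X)⁻¹ = ((x : X) * a * (x : X)⁻¹) * ((x : X) * b * (x : X)⁻¹)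
          group }
    have hα : ∀ (u : U), ((α u : U) : X) = (x : X) * u * (x : X)⁻¹ := fun u => rfl
    have hαpow : ∀ (k : ℕ) (u : U), (((α ^ k) u : U) : X) = (x : X) ^ k * u * ((x : X) ^ k)⁻¹ := by
      intro k
      induction k with
      | zero =>
        intro u
        simp
      | succ k ih =>
        intro u
        rw [pow_succ', MulAut.mul_apply, hα, ih, pow_succ']
        group
    refine Cfsg.Agent.Lib.Kegel.nilpotent_of_fpf α ?_ hs ?_
    · intro u hu
      apply Subtype.ext
      have h1 : (x : X) * u * (x : X)⁻¹ = u := by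
        rw [← hα, hu]
      have h2 : (x : X) * u = u * x := by
        calc (x : X) * u = ((x : X) * u * (x : X)⁻¹) * x := by group
          _ = _ := by rw [h1]
      exact hfpf x x.2 hx1 u u.2 h2
    · ext u
      rw [hαpow]
      have h1 : (x : X) ^ s = 1 := by
        have h2 : x ^ s = 1 := by
          rw [← hx]
          exact pow_orderOf_eq_one x
        exact congrArg Subtype.val h2
      rw [h1]
      simp
  have hsol' : Group.IsSolvable U' := by
    have e : U ≃* U' := (Subgroup.subgroupOfEquivOfLe hUle).symm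
    exact Group.isSolvable_of_surjective (f := (e : U →* U')) e.surjective
  -- the action
  let φ : G →* MulAut H :=
    { toFun := fun g =>
        { toFun := fun h => ⟨(g : X) * h * (g : X)⁻¹, hHn g g.2 h h.2⟩
          invFun := fun h => ⟨(g : X)⁻¹ * h * (g : X)⁻¹⁻¹, hHn _ ((U ⊔ E).inv_mem g.2) h h.2⟩
          left_inv := by
            intro u
            apply Subtype.ext
            show (g : X)⁻¹ * ((g : X) * u * (g : X)⁻¹) * (g : X)⁻¹⁻¹ = u
            group
          right_inv := by
            intro u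
            apply Subtype.ext
            show (g : X) * ((g : X)⁻¹ * u * (g : X)⁻¹⁻¹) * (g : X)⁻¹ = u
            group
          map_mul' := by
            intro a b
            apply Subtype.ext
            show (g : X) * ((a : X) * b) * (g : X)⁻¹ = ((g : X) * a * (g : X)⁻¹) * ((g : X) * b * (g : X)⁻¹)
            group }
      map_one' := by
        ext h
        show ((1 : X) * h * (1 : X)⁻¹) = h
        group
      map_mul' := by
        intro a b
        ext h
        show ((a : X) * b) * h * ((a : X) * b)⁻¹ = (a : X) * ((b : X) * h * (b : X)⁻¹) * (a : X)⁻¹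
        group }
  have hφ : ∀ (g : G) (h : H), ((φ g h : H) : X) = (g : X) * h * (g : X)⁻¹ := fun g h => rfl
  have hFx : ∀ (B' : Subgroup G) (B : Subgroup X), (∀ g : G, g ∈ B' ↔ (g : X) ∈ B) → B ≤ U ⊔ E →
      Nat.card (Cfsg.Agent.Lib.FrobFix.Fx φ (B' : Set G)) = Nat.card ↥(H ⊓ Subgroup.centralizer (B : Set X)) := by
    intro B' B hB hBle
    apply Nat.card_congr
    refine
      { toFun := fun x => ⟨x.1.1, x.1.2, ?_⟩
        invFun := fun x => ⟨⟨x.1, x.2.1⟩, ?_⟩
        left_inv := ?_
        right_inv := ?_ }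
    · refine Subgroup.mem_centralizer_iff.2 ?_
      intro b hb
      have h1 := x.2 ⟨b, hBle hb⟩ ((hB _).2 hb)
      have h2 : b * (x.1 : X) * b⁻¹ = x.1 := congrArg Subtype.val h1
      calc b * (x.1 : X) = (b * (x.1 : X) * b⁻¹) * b := by group
        _ = _ := by rw [h2]
    · intro s hs
      apply Subtype.ext
      rw [hφ]
      have h1 := Subgroup.mem_centralizer_iff.1 x.2.2
      have h2 := h1 s ((hB s).1 hs)
      show (s : X) * x.1 * (s : X)⁻¹ = x.1
      rw [h2]
      group
    · intro x
      rfl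
    · intro x
      rfl
  have hsup : U' ⊔ E' = ⊤ := by
    apply Subgroup.map_injective (U ⊔ E).subtype_injective
    rw [Subgroup.map_sup, Subgroup.map_subgroupOf_eq_of_le hUle, Subgroup.map_subgroupOf_eq_of_le hEle,
      ← MonoidHom.range_eq_map, Subgroup.range_subtype]
  have key := Cfsg.Agent.Lib.FrobFix.main_act U' E' hfpf' hsol' _ H φ rfl hcop
  rw [hFx (U' ⊔ E') (U ⊔ E) (fun g => by simp [hsup]) le_rfl,
    hFx E' E (fun g => Iff.rfl) hEle, hFx U' U (fun g => Iff.rfl) hUle] at key
  have hcE : Nat.card E' = Nat.card E := Nat.card_congr (Subgroup.subgroupOfEquivOfLe hEle).toEquiv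
  rw [hcE] at key
  exact key

end Cfsg.Agent.S1545
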