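import Mathlib
import Cfsg.Agent.Lib.BGTau10

set_option autoImplicit false
open Cfsg

namespace Cfsg.Agent.S1417

/-- Let G be a minimal simple group of odd order, M a maximal subgroup, p ∈ τ₂(M) and A ≤ M elementary abelian of order p ^ 2. Then (a) M_σ is nilpotent; (b) every Sylow p-subgroup P of M is abelian, and if A ≤ P then the elements of P of order dividing p are exactly those of A and N_G(P) is not contained in M; (c) M normalizes M_σA; (d) M_σ ∩ C_G(A) = 1; (e) M_σ ∩ M* = 1 for every maximal subgroup M* ≠ M containing A; (f) M_σ ∩ C_G(A₁) = 1 for some subgroup A₁ ≤ A of order p. -/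
theorem result {G : Type*} [Group G] [Finite G] (hG : Cfsg.IsMinSimpleOddOrder G)
    (M : Subgroup G) (hM : IsCoatom M) (p : ℕ) [Fact p.Prime] (hp : p ∈ Cfsg.tau2 M) (A : Subgroup G) (hA : (A ≤ M ∧ Cfsg.IsElementaryAbelian p A ∧ Nat.card A = p ^ 2)) :
    Group.IsNilpotent (Cfsg.sigmaCore M) ∧
      (∀ P : Sylow p M, IsMulCommutative (P : Subgroup M) ∧
        (A ≤ (P : Subgroup M).map M.subtype →
          (∀ x ∈ (P : Subgroup M).map M.subtype, x ^ p = 1 ↔ x ∈ A) ∧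
          ¬ Subgroup.normalizer ((((P : Subgroup M).map M.subtype : Subgroup G)) : Set G) ≤ M)) ∧
      M ≤ Subgroup.normalizer ((Cfsg.sigmaCore M ⊔ A : Subgroup G) : Set G) ∧
      Cfsg.sigmaCore M ⊓ Subgroup.centralizer (A : Set G) = ⊥ ∧
      (∀ Mstar : Subgroup G, IsCoatom Mstar → Mstar ≠ M → A ≤ Mstar → Cfsg.sigmaCore M ⊓ Mstar = ⊥) ∧
      ∃ A₁ : Subgroup G, A₁ ≤ A ∧ Nat.card A₁ = p ∧ Cfsg.sigmaCore M ⊓ Subgroup.centralizer (A₁ : Set G) = ⊥ := by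
  obtain ⟨hAM, hAe, hAc⟩ := hA
  have T := Cfsg.Agent.Lib.BGTau7.T2.mk' hG hM hp hAM hAe hAc
  refine ⟨T.nilpotent, ?_, T.c, T.d, fun L hL hLM hAL => T.e hL hLM hAL, ?_⟩
  · intro P
    have hP := Cfsg.Agent.Lib.CoprimeInv.isSylowIn_map P
    refine ⟨?_, fun hAP => ⟨fun x hx => ⟨fun hxp => T.omega_P hP hAP hx hxp, fun hxA => hAe.2 x hxA⟩, ?_⟩⟩
    · have h1 : ¬ Cfsg.PRankLE p 1 ↥((P : Subgroup M).map M.subtype) := fun h =>
        hp.2.2.2 (Cfsg.Agent.Lib.BGSigma.prankLE_of_isSylowIn hP h)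
      obtain ⟨A₁, hA₁P, hA₁e, hA₁c⟩ := Cfsg.Agent.Lib.BGSigma3.exists_ea2 h1
      have T₁ := Cfsg.Agent.Lib.BGTau7.T2.mk' hG hM hp (hA₁P.trans hP.1) hA₁e hA₁c
      have h2 := T₁.abelian hP hA₁P
      refine ⟨⟨?_⟩⟩
      rintro ⟨x, hx⟩ ⟨y, hy⟩
      apply Subtype.ext
      apply Subtype.ext
      show (x : G) * y = y * x
      exact congrArg Subtype.val (h2.is_comm.comm (⟨(x : G), ⟨x, hx, rfl⟩⟩ : ↥((P : Subgroup M).map M.subtype)) ⟨(y : G), ⟨y, hy, rfl⟩⟩)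
    · intro h
      obtain ⟨t, htP, htM⟩ := T.exists_not_norm hP
      exact htM (h htP)
  · obtain ⟨x, hx, hx1, hfree⟩ := T.f
    refine ⟨Subgroup.zpowers x, Subgroup.zpowers_le.mpr hx, ?_, ?_⟩
    · rw [Nat.card_zpowers]
      exact orderOf_eq_prime (hAe.2 x hx) hx1
    · rw [Cfsg.Agent.Lib.BGTau1.centralizer_zpowers']
      exact hfree

end Cfsg.Agent.S1417
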