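import Mathlib
import Cfsg.Agent.Lib.BGP2F
import Cfsg.Agent.Lib.BGTau7

set_option autoImplicit false
open Cfsg

namespace Cfsg.Agent.S1416

/-- Let G be a minimal simple group of odd order, M a maximal subgroup, p a prime and A ≤ M elementary abelian of order p ^ 2. Then C_G(A) ≤ M. If moreover for every subgroup A₀ of A of order p, M is not the unique maximal subgroup containing N_G(A₀), then p ∈ σ(M), M_α = 1 and M_σ is nilpotent. -/
theorem result {G : Type*} [Group G] [Finite G] (hG : Cfsg.IsMinSimpleOddOrder G)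
    (M : Subgroup G) (hM : IsCoatom M) (p : ℕ) [Fact p.Prime] (A : Subgroup G) (hA : (A ≤ M ∧ Cfsg.IsElementaryAbelian p A ∧ Nat.card A = p ^ 2)) :
    Subgroup.centralizer (A : Set G) ≤ M ∧
      ((∀ A₀ : Subgroup G, A₀ ≤ A → Nat.card A₀ = p →
          ¬ (Subgroup.normalizer (A₀ : Set G) ≤ M ∧ ∀ L : Subgroup G, IsCoatom L → Subgroup.normalizer (A₀ : Set G) ≤ L → L = M)) →
        p ∈ Cfsg.sigma M ∧ Cfsg.alphaCore M = ⊥ ∧ Group.IsNilpotent (Cfsg.sigmaCore M)) := by
  obtain ⟨hAM, hAe, hAc⟩ := hA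
  have hC : ∀ L : Subgroup G, IsCoatom L → A ≤ L → Subgroup.centralizer (A : Set G) ≤ L :=
    fun L hL hAL => Cfsg.Agent.Lib.BGP2F.cent_le hG hL hAL hAe hAc
  refine ⟨hC M hM hAM, fun h => ?_⟩
  refine Cfsg.Agent.Lib.BGTau6.main_b hG hM hAM hAe hAc hC ?_
  intro a ha ha1
  have hap : a ^ p = 1 := hAe.2 a ha
  have hord : orderOf a = p := orderOf_eq_prime hap ha1
  have hz : Subgroup.zpowers a ≤ A := Subgroup.zpowers_le.mpr ha
  have hcard : Nat.card (Subgroup.zpowers a) = p := by rw [Nat.card_zpowers, hord]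
  have h' := h _ hz hcard
  have hne1 : Subgroup.zpowers a ≠ ⊥ := by
    rw [Ne, Subgroup.zpowers_eq_bot]
    exact ha1
  have hzp : IsPGroup p (Subgroup.zpowers a) := Cfsg.Agent.Lib.BGTau5.isPGroup_zpowers_of_pow hap
  have hnt : Subgroup.normalizer ((Subgroup.zpowers a : Subgroup G) : Set G) ≠ ⊤ :=
    Cfsg.Agent.Lib.BGTrans.IsMin.normalizer_ne_top hG hne1 (Cfsg.Agent.Lib.BGTrans.IsMin.isPGroup_ne_top hG hzp)
  by_contra hno
  push Not at hno
  have huniq : ∀ L : Subgroup G, IsCoatom L →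
      Subgroup.normalizer ((Subgroup.zpowers a : Subgroup G) : Set G) ≤ L → L = M :=
    fun L hL hle => hno L hL hle
  exact h' ⟨Cfsg.Agent.Lib.BGTau7.le_of_forall_coatom hnt huniq, huniq⟩

end Cfsg.Agent.S1416
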