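import Mathlib
import Cfsg.Agent.Lib.BGTau14

set_option autoImplicit false
open Cfsg

namespace Cfsg.Agent.S1419

/-- Let G be a minimal simple group of odd order whose Sylow p-subgroups are nonabelian, M a maximal subgroup with p ∈ τ₂(M), E a complement to M_σ in M and A ≤ E elementary abelian of order p ^ 2. Then τ₂(M) = {p}; A₀ = A ∩ C_G(M_σ) has order p and F(M) is generated by M_σ and A₀ (a direct product); and every subgroup X ≠ A₀ of E of order p satisfies M_σ ∩ C_G(X) = 1 and C_G(X) ⊄ M. -/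
theorem result {G : Type*} [Group G] [Finite G] (hG : Cfsg.IsMinSimpleOddOrder G)
    (M : Subgroup G) (hM : IsCoatom M) (E : Subgroup G) (hE : Cfsg.IsComplIn E (Cfsg.sigmaCore M) M) (p : ℕ) [Fact p.Prime] (hp : p ∈ Cfsg.tau2 M) (hS : ∀ S : Sylow p G, ¬ IsMulCommutative (S : Subgroup G))
    (A : Subgroup G) (hA : (A ≤ E ∧ Cfsg.IsElementaryAbelian p A ∧ Nat.card A = p ^ 2)) :
    Cfsg.tau2 M = {p} ∧
      (Nat.card ↥(A ⊓ Subgroup.centralizer (Cfsg.sigmaCore M : Set G)) = p ∧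
        Cfsg.fittingOf M = Cfsg.sigmaCore M ⊔ (A ⊓ Subgroup.centralizer (Cfsg.sigmaCore M : Set G))) ∧
      ∀ X : Subgroup G, X ≤ E → Nat.card X = p → X ≠ A ⊓ Subgroup.centralizer (Cfsg.sigmaCore M : Set G) →
        Cfsg.sigmaCore M ⊓ Subgroup.centralizer (X : Set G) = ⊥ ∧ ¬ Subgroup.centralizer (X : Set G) ≤ M := by
  obtain ⟨hAE, hAe, hAc⟩ := hA
  have T := Cfsg.Agent.Lib.BGTau7.T2.mk' hG hM hp (hAE.trans hE.1) hAe hAc
  obtain ⟨S, P, a, z, u, C₀, l, hP, hAP, hPS, ha, hz, hz1, haz, hzc, hcyc, hC₀a, hzC₀, hC₀m, hdec, huS, huA, huC, hul⟩ :=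
    T.exists_nonab hS
  have hτ : ∀ r : ℕ, r ∈ Cfsg.tau2 M → r = p := by
    intro r hr
    have : Fact r.Prime := ⟨hr.1⟩
    exact T.tau2_eq (hAP.trans hPS) (hS S) hz hz1 hzc huS huA huC hul hr
  obtain ⟨a₀, ha₀, ha₀1, ha₀z, hσle, hfree, hnot⟩ := T.exists_fixed_line hz hz1 (hzc u huS) huA huC hul
  have hA₀ := T.inf_cent_eq ha₀ hσle hfree
  have hDle := T.pCoreOf_le_line hP hAP hPS hC₀a ha hC₀m hdec ha₀ ha₀z hfree
  refine ⟨?_, ⟨?_, ?_⟩, ?_⟩
  · ext r
    constructor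
    · exact fun hr => hτ r hr
    · intro hr
      rw [Set.mem_singleton_iff] at hr
      rw [hr]
      exact hp
  · rw [hA₀, Nat.card_zpowers]
    exact orderOf_eq_prime (hAe.2 a₀ ha₀) ha₀1
  · rw [hA₀]
    exact T.fitting_eq hτ ha₀ hA₀ hDle
  · intro X hXE hXc hne
    rw [hA₀] at hne
    have hpp : p.Prime := Fact.out
    have hX1 : X ≠ ⊥ := by
      rintro rfl
      rw [Subgroup.card_bot] at hXc
      exact hpp.one_lt.ne hXc
    have hXn : Nontrivial X := (Subgroup.nontrivial_iff_ne_bot X).mpr hX1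
    obtain ⟨x, hx, hx1⟩ := Subgroup.exists_ne_one_of_nontrivial X
    have hxp : x ^ p = 1 := by
      have h1 : orderOf (⟨x, hx⟩ : X) ∣ p := by
        rw [← hXc]
        exact orderOf_dvd_natCard _
      have h2 := orderOf_dvd_iff_pow_eq_one.mp h1
      exact congrArg Subtype.val h2
    have hxA : x ∈ A := T.compl_omega hE hAE (hXE hx) hxp
    have hXz : X = Subgroup.zpowers x := by
      symm
      apply Subgroup.eq_of_le_of_card_ge (Subgroup.zpowers_le.mpr hx)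
      rw [hXc, Nat.card_zpowers, orderOf_eq_prime hxp hx1]
    have hCX : Subgroup.centralizer (X : Set G) = Subgroup.centralizer ({x} : Set G) := by
      rw [hXz]
      exact Cfsg.Agent.Lib.BGTau1.centralizer_zpowers' x
    have hxa : x ∉ Subgroup.zpowers a₀ := by
      intro h
      apply hne
      rw [hXz]
      exact Cfsg.Agent.Lib.BGTau7.zpowers_eq_of_mem (hAe.2 a₀ ha₀) hx1 h
    rw [hCX]
    exact ⟨hfree x hxA hxa, hnot x hxA hxa⟩

end Cfsg.Agent.S1419
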