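import Mathlib
import Cfsg.Agent.Lib.BGP3E

set_option autoImplicit false
set_option linter.unusedVariables false
open Cfsg

namespace Cfsg.Agent.S1427

open Subgroup Cfsg.Agent.Lib.CoprimeInv Cfsg.Agent.Lib.BGP3E Cfsg.Agent.Lib.Glauberman
open scoped commutatorElement

/-- Let G be a minimal simple group of odd order, M a maximal subgroup, E a complement to M_σ in M, and S a nontrivial cyclic Sylow subgroup of E (for some prime). Then M_σ ∩ C_G(x) = M_σ ∩ C_G(S) for every non-identity x ∈ S. -/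
theorem result {G : Type*} [Group G] [Finite G] (hG : Cfsg.IsMinSimpleOddOrder G)
    (M : Subgroup G) (hM : IsCoatom M) (E : Subgroup G) (hE : Cfsg.IsComplIn E (Cfsg.sigmaCore M) M) (p : ℕ) [Fact p.Prime] (S : Sylow p E) (hS1 : (S : Subgroup E) ≠ ⊥) (hSc : IsCyclic (S : Subgroup E)) :
    ∀ x ∈ (S : Subgroup E).map E.subtype, x ≠ 1 →
        Cfsg.sigmaCore M ⊓ Subgroup.centralizer ({x} : Set G) = Cfsg.sigmaCore M ⊓ Subgroup.centralizer (((S : Subgroup E).map E.subtype : Subgroup G) : Set G) := by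
  classical
  intro x hxS hx1
  set S' : Subgroup G := (S : Subgroup E).map E.subtype with hS'
  have hSE : IsSylowIn p S' E := isSylowIn_map S
  have hSp : IsPGroup p S' := hSE.2.1
  have hdE : p ∣ Nat.card E := by
    have h1 : p ∣ Nat.card (S : Subgroup E) :=
      Cfsg.Agent.Lib.BGUniq2.dvd_card_of_isPGroup S.isPGroup' hS1
    exact h1.trans (Subgroup.card_subgroup_dvd_card _)
  have hpσ : p ∉ sigma M :=
    Cfsg.Agent.Lib.BGTau7.not_sigma_of_compl hG hM hE (Fact.out) hdE
  have hpN : ¬ p ∣ Nat.card (sigmaCore M) := Cfsg.Agent.Lib.BGM2.not_dvd_sigmaCore Fact.out hpσ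
  have hSM : IsSylowIn p S' M := by
    refine Cfsg.Agent.Lib.BGM2.isSylowIn_of_hall hSE hE.1 ?_
    have h1 := Cfsg.Agent.Lib.BGM2.card_compl hE
    have h2 : E.relIndex M * Nat.card E = Nat.card M := by
      have h3 := (E.subgroupOf M).index_mul_card
      rwa [card_subgroupOf_of_le hE.1] at h3
    have h4 : E.relIndex M = Nat.card (sigmaCore M) := by
      have hpos : 0 < Nat.card E := Nat.card_pos
      apply Nat.eq_of_mul_eq_mul_right hpos
      rw [h2, ← h1, mul_comm]
    rwa [h4]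
  have hScyc : IsCyclic S' :=
    (Subgroup.equivMapOfInjective (S : Subgroup E) E.subtype E.subtype_injective).isCyclic.mp hSc
  have hSMle : S' ≤ M := hSM.1
  -- the subgroup of order `p` below `x`
  obtain ⟨P, hPc, hPx⟩ : ∃ P : Subgroup G, Nat.card P = p ∧ P ≤ zpowers x := by
    have hZ : IsPGroup p (zpowers x) := hSp.to_le (zpowers_le.mpr hxS)
    have hZ1 : zpowers x ≠ ⊥ := by
      rwa [Ne, Subgroup.zpowers_eq_bot]
    obtain ⟨y, hy⟩ := exists_prime_orderOf_dvd_card' p (G := zpowers x)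
      (Cfsg.Agent.Lib.BGUniq2.dvd_card_of_isPGroup hZ hZ1)
    refine ⟨(zpowers y).map (zpowers x).subtype, ?_, Subgroup.map_subtype_le _⟩
    rw [Subgroup.card_map_of_injective (zpowers x).subtype_injective, Nat.card_zpowers, hy]
  have hPS : P ≤ S' := hPx.trans (zpowers_le.mpr hxS)
  have hCx : centralizer ({x} : Set G) ≤ centralizer (P : Set G) := by
    intro y hy
    rw [Subgroup.mem_centralizer_iff]
    intro u hu
    have h1 : y ∈ centralizer (zpowers x : Set G) := by
      rw [Cfsg.Agent.Lib.BGTau1.centralizer_zpowers']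
      exact hy
    exact (Subgroup.mem_centralizer_iff.mp h1) u (hPx hu)
  have hSCP : S' ≤ centralizer (P : Set G) :=
    Cfsg.Agent.Lib.BGSigma3.le_centralizer_of_comm hPS (isMulCommutative_of_cyclic hScyc)
  set U : Subgroup G := sigmaCore M ⊓ centralizer (P : Set G) with hU
  have hUle : U ≤ sigmaCore M := inf_le_left
  have hSU : S' ≤ normalizer (U : Set G) := by
    apply le_normalizer_inf
    · exact hSMle.trans Cfsg.Agent.Lib.BGM1.le_normalizer_sigmaCore
    · exact hSCP.trans Subgroup.le_normalizer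
  have hUM : U ≤ M := hUle.trans Cfsg.Agent.Lib.BGM1.sigmaCore_le
  have hcop : (Nat.card U).Coprime (Nat.card S') := by
    obtain ⟨k, hk⟩ := hSp.exists_card_eq
    rw [hk]
    apply Nat.Coprime.pow_right
    apply Nat.Coprime.symm
    rw [Nat.Prime.coprime_iff_not_dvd Fact.out]
    exact fun hd => hpN (hd.trans (Subgroup.card_dvd_of_le hUle))
  have hUsol : Group.IsSolvable U := Cfsg.Agent.Lib.BGM2.solvable_of_le_coatom hG hM hUM
  have key : S' ≤ centralizer (U : Set G) := by
    refine Cfsg.Agent.Lib.BGTau1.comm_of_pCores hUsol hSU hcop ?_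
    intro q _
    by_contra hne
    set Q₂ : Subgroup G := pCoreOf q U with hQ₂
    have hQ₂q : IsPGroup q Q₂ := Cfsg.Agent.Lib.BGFit2.isPGroup_pCoreOf q U
    have hQ₂U : Q₂ ≤ U := Cfsg.Agent.Lib.BGFit2.pCoreOf_le q U
    have hQ₂1 : Q₂ ≠ ⊥ := by
      intro h
      apply hne
      rw [h]
      intro s _
      rw [Subgroup.mem_centralizer_iff]
      intro u hu
      have hu1 : u = 1 := Subgroup.mem_bot.mp hu
      rw [hu1]
      simp
    have hqσ : q ∈ sigma M := Cfsg.Agent.Lib.BGM1.primes_sigmaCore q Fact.out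
      ((Cfsg.Agent.Lib.BGUniq2.dvd_card_of_isPGroup hQ₂q hQ₂1).trans
        (Subgroup.card_dvd_of_le (hQ₂U.trans hUle)))
    have hSN : S' ≤ normalizer (Q₂ : Set G) :=
      hSU.trans (Cfsg.Agent.Lib.BGFit2.normalizer_le_normalizer_pCoreOf q U)
    have hpq : p ≠ q := fun h => hpσ (h ▸ hqσ)
    have hcop2 : (Nat.card S').Coprime (Nat.card Q₂) := by
      obtain ⟨k, hk⟩ := hSp.exists_card_eq
      obtain ⟨j, hj⟩ := hQ₂q.exists_card_eq
      rw [hk, hj]
      exact Nat.Coprime.pow _ _ ((Nat.coprime_primes Fact.out Fact.out).mpr hpq)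
    have hSsol : Group.IsSolvable S' := by
      haveI := isMulCommutative_of_cyclic hScyc
      letI := hScyc.commGroup
      infer_instance
    have hQ₁S : ⁅(⁅Q₂, S'⁆ : Subgroup G), S'⁆ = ⁅Q₂, S'⁆ :=
      commutator_commutator_eq hSN hcop2 (Or.inl hSsol)
    have hQ₁le : (⁅Q₂, S'⁆ : Subgroup G) ≤ Q₂ := commutator_le_of_le_normalizer hSN
    have hQ₁1 : (⁅Q₂, S'⁆ : Subgroup G) ≠ ⊥ := by
      intro h
      apply hne
      rw [Subgroup.commutator_eq_bot_iff_le_centralizer] at h
      rw [Subgroup.le_centralizer_iff]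
      exact h
    exact no_comm_of_cyclic hG hM hpσ hSM hScyc hPc hPS hqσ
      (hQ₁le.trans (hQ₂U.trans hUM)) (hQ₂q.to_le hQ₁le) hQ₁1 hQ₁S
      (le_normalizer_commutator hSN) (hQ₁le.trans (hQ₂U.trans inf_le_right))
  apply le_antisymm
  · intro y hy
    have hyU : y ∈ U := by
      have h1 : y ∈ sigmaCore M := hy.1
      have h2 : y ∈ centralizer (P : Set G) := hCx hy.2
      exact ⟨h1, h2⟩
    have h1 : y ∈ sigmaCore M := hy.1
    have h2 : y ∈ centralizer (S' : Set G) := by
      rw [Subgroup.mem_centralizer_iff]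
      intro s hs
      have h3 := Subgroup.mem_centralizer_iff.mp (key hs) y hyU
      exact h3.symm
    exact ⟨h1, h2⟩
  · intro y hy
    have h1 : y ∈ sigmaCore M := hy.1
    have h2 : y ∈ centralizer (S' : Set G) := hy.2
    have h3 : y ∈ centralizer ({x} : Set G) := by
      rw [Subgroup.mem_centralizer_iff]
      intro u hu
      rw [Set.mem_singleton_iff] at hu
      rw [hu]
      exact Subgroup.mem_centralizer_iff.mp h2 x hxS
    exact ⟨h1, h3⟩

end Cfsg.Agent.S1427
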