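import Mathlib
import Cfsg.Agent.Lib.BGP3I

set_option autoImplicit false
set_option linter.unusedVariables false
open Cfsg

namespace Cfsg.Agent.S1428

open Subgroup Cfsg.Agent.Lib.CoprimeInv Cfsg.Agent.Lib.BGP3E Cfsg.Agent.Lib.BGP3I Cfsg.Agent.Lib.BGP3H Cfsg.Agent.Lib.Glauberman
open scoped commutatorElement

/-- Let G be a minimal simple group of odd order, M a maximal subgroup, E a complement to M_σ in M, p ∈ τ₁(M), P ≤ E a subgroup of order p, and R a subgroup of prime order of E ∩ C_G(P). Then M_σ ∩ C_G(P) ≤ M_σ ∩ C_G(R). -/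
theorem result {G : Type*} [Group G] [Finite G] (hG : Cfsg.IsMinSimpleOddOrder G)
    (M : Subgroup G) (hM : IsCoatom M) (E : Subgroup G) (hE : Cfsg.IsComplIn E (Cfsg.sigmaCore M) M) (p : ℕ) (hp : p ∈ Cfsg.tau1 M) (P : Subgroup G) (hPE : P ≤ E) (hP : Nat.card P = p)
    (R : Subgroup G) (hRE : R ≤ E ⊓ Subgroup.centralizer (P : Set G)) (hR : (Nat.card R).Prime) :
    Cfsg.sigmaCore M ⊓ Subgroup.centralizer (P : Set G) ≤ Cfsg.sigmaCore M ⊓ Subgroup.centralizer (R : Set G) := by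
  classical
  haveI hpf : Fact p.Prime := ⟨hp.1⟩
  set r : ℕ := Nat.card R with hrdef
  haveI hrf : Fact r.Prime := ⟨hR⟩
  have hRE' : R ≤ E := hRE.trans inf_le_left
  have hRP : R ≤ centralizer (P : Set G) := hRE.trans inf_le_right
  have hPM : P ≤ M := hPE.trans hE.1
  have hRM : R ≤ M := hRE'.trans hE.1
  have hPp : IsPGroup p P := IsPGroup.of_card (n := 1) (by rw [hP, pow_one])
  have hRp : IsPGroup r R := IsPGroup.of_card (n := 1) (by rw [← hrdef, pow_one])
  by_cases hrp : r = p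
  · -- `R = P`
    have hRp' : IsPGroup p R := hrp ▸ hRp
    have hRNP : R ≤ normalizer (P : Set G) := hRP.trans (Cfsg.Agent.Lib.BGTrans.centralizer_le_normalizer P)
    have hsup : IsPGroup p (R ⊔ P : Subgroup G) := isPGroup_sup_of_le_normalizer hRp' hPp hRNP
    obtain ⟨W, hW, hPW⟩ := exists_isSylowIn_ge p (sup_le hRM hPM) hsup
    have hWc : IsCyclic W := Cfsg.Agent.Lib.BGK0.isCyclic_of_rank_one hG hW.1 hW.2.1 hp.2.2.2.2
    have hRPe : R = P := eq_of_card_prime_of_cyclic (r := p) hWc (le_sup_left.trans hPW) (le_sup_right.trans hPW)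
      (by rw [← hrp]) hP
    rw [hRPe]
  have hrσ : r ∉ sigma M := Cfsg.Agent.Lib.BGTau7.not_sigma_of_compl hG hM hE hR
    (Subgroup.card_dvd_of_le hRE')
  have hrN : ¬ r ∣ Nat.card (sigmaCore M) := Cfsg.Agent.Lib.BGM2.not_dvd_sigmaCore hR hrσ
  set U : Subgroup G := sigmaCore M ⊓ centralizer (P : Set G) with hU
  have hUle : U ≤ sigmaCore M := inf_le_left
  have hRU : R ≤ normalizer (U : Set G) := by
    apply le_normalizer_inf
    · exact hRM.trans Cfsg.Agent.Lib.BGM1.le_normalizer_sigmaCore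
    · exact hRP.trans Subgroup.le_normalizer
  have hUM : U ≤ M := hUle.trans Cfsg.Agent.Lib.BGM1.sigmaCore_le
  have hcop : (Nat.card U).Coprime (Nat.card R) := by
    apply Nat.Coprime.symm
    rw [Nat.Prime.coprime_iff_not_dvd hR]
    exact fun hd => hrN (hd.trans (Subgroup.card_dvd_of_le hUle))
  have hUsol : Group.IsSolvable U := Cfsg.Agent.Lib.BGM2.solvable_of_le_coatom hG hM hUM
  have hRsol : Group.IsSolvable R := Cfsg.Agent.Lib.BGM2.solvable_of_le_coatom hG hM hRM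
  have key : R ≤ centralizer (U : Set G) := by
    refine Cfsg.Agent.Lib.BGTau1.comm_of_pCores hUsol hRU hcop ?_
    intro q _
    by_contra hne
    set Q₂ : Subgroup G := pCoreOf q U with hQ₂
    have hQ₂q : IsPGroup q Q₂ := Cfsg.Agent.Lib.BGFit2.isPGroup_pCoreOf q U
    have hQ₂U : Q₂ ≤ U := Cfsg.Agent.Lib.BGFit2.pCoreOf_le q U
    have hQ₂1 : Q₂ ≠ ⊥ := by
      intro h
      apply hne
      rw [h]
      intro s _
      rw [Subgroup.mem_centralizer_iff]
      intro u hu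
      have hu1 : u = 1 := Subgroup.mem_bot.mp hu
      rw [hu1]
      simp
    have hqσ : q ∈ sigma M := Cfsg.Agent.Lib.BGM1.primes_sigmaCore q Fact.out
      ((Cfsg.Agent.Lib.BGUniq2.dvd_card_of_isPGroup hQ₂q hQ₂1).trans
        (Subgroup.card_dvd_of_le (hQ₂U.trans hUle)))
    have hRN : R ≤ normalizer (Q₂ : Set G) :=
      hRU.trans (Cfsg.Agent.Lib.BGFit2.normalizer_le_normalizer_pCoreOf q U)
    have hqr : q ≠ r := fun h => hrσ (h ▸ hqσ)
    have hcop2 : (Nat.card R).Coprime (Nat.card Q₂) := by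
      obtain ⟨j, hj⟩ := hQ₂q.exists_card_eq
      rw [hj]
      exact Nat.Coprime.pow_right _ ((Nat.coprime_primes hR Fact.out).mpr hqr.symm)
    have hQ₁S : ⁅(⁅Q₂, R⁆ : Subgroup G), R⁆ = ⁅Q₂, R⁆ :=
      commutator_commutator_eq hRN hcop2 (Or.inl hRsol)
    have hQ₁le : (⁅Q₂, R⁆ : Subgroup G) ≤ Q₂ := commutator_le_of_le_normalizer hRN
    have hQ₁1 : (⁅Q₂, R⁆ : Subgroup G) ≠ ⊥ := by
      intro h
      apply hne
      rw [Subgroup.commutator_eq_bot_iff_le_centralizer] at h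
      rw [Subgroup.le_centralizer_iff]
      exact h
    exact no_failure hG hM hp hqσ hrσ (Ne.symm hrp) hqr hP hPM rfl hRM hRP
      (hQ₁le.trans (hQ₂U.trans hUle)) (hQ₁le.trans (hQ₂U.trans inf_le_right)) (hQ₂q.to_le hQ₁le) hQ₁1 hQ₁S
      (le_normalizer_commutator hRN)
  intro y hy
  refine Subgroup.mem_inf.mpr ⟨hy.1, ?_⟩
  rw [Subgroup.mem_centralizer_iff]
  intro s hs
  exact (Subgroup.mem_centralizer_iff.mp (key hs) y hy).symm

end Cfsg.Agent.S1428
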