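import Mathlib
import Cfsg.Statements.S1358
import Cfsg.Agent.Lib.BGTau12

set_option autoImplicit false
open Cfsg

namespace Cfsg.Agent.S1358

open Subgroup Cfsg.Agent.Lib.BGM1

/-- Let G be a minimal simple group of odd order and M a maximal subgroup with standard factorisation M = K U M_σ. Then for every prime p, every Sylow p-subgroup of U is abelian and has no elementary abelian subgroup of order p ^ 3. -/
theorem result {G : Type*} [Group G] [Finite G] (hG : Cfsg.IsMinSimpleOddOrder G)
    (M : Subgroup G) (hM : IsCoatom M) (K U : Subgroup G) (hKU : Cfsg.IsSigmaDecomposition M K U) :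
    ∀ (p : ℕ), p.Prime → ∀ P : Sylow p U, IsMulCommutative (P : Subgroup U) ∧ Cfsg.PRankLE p 2 (P : Subgroup U) := by
  intro p hp P
  haveI : Fact p.Prime := ⟨hp⟩
  have hUM : U ≤ M := hKU.compl.1
  set Q : Subgroup G := (P : Subgroup U).map U.subtype with hQ
  have hQU : Q ≤ U := Subgroup.map_subtype_le _
  have hQM : Q ≤ M := hQU.trans hUM
  have hQp : IsPGroup p Q := P.isPGroup'.map U.subtype
  -- `Q` is nilpotent
  have hQn : Group.IsNilpotent Q := hQp.isNilpotent
  -- primes of `Q` are outside `σ(M)`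
  have hUσ : U ⊓ sigmaCore M = ⊥ := by
    rw [eq_bot_iff]
    rintro x ⟨hxU, hxσ⟩
    have h3 : x ∈ U ⊓ (K ⊔ sigmaCore M) := ⟨hxU, (le_sup_right : sigmaCore M ≤ K ⊔ sigmaCore M) hxσ⟩
    rw [hKU.compl.2.2.1] at h3
    exact h3
  have hσ : ∀ q : ℕ, q.Prime → q ∣ Nat.card Q → q ∉ sigma M := by
    intro q hq hd hqσ
    haveI : Fact q.Prime := ⟨hq⟩
    obtain ⟨x, hx⟩ := exists_prime_orderOf_dvd_card' (G := Q) q hd
    have h1 : ((x : Q) : G) ^ q = 1 := by
      have := pow_orderOf_eq_one x
      rw [hx] at this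
      exact congrArg Subtype.val this
    have hzp : IsPGroup q (zpowers (x : G)) := by
      rintro ⟨y, hy⟩
      obtain ⟨n, rfl⟩ := mem_zpowers_iff.mp hy
      refine ⟨1, Subtype.ext ?_⟩
      show ((x : G) ^ n) ^ q ^ 1 = 1
      rw [pow_one, ← zpow_natCast, ← zpow_mul, mul_comm, zpow_mul, zpow_natCast, h1, one_zpow]
    have h2 : (x : G) ∈ sigmaCore M :=
      Cfsg.Agent.Lib.BGTau7.le_sigmaCore_of_pgroup hG hM hqσ (zpowers_le.mpr (hQM x.2)) hzp (mem_zpowers _)
    have h3 : (x : G) ∈ U ⊓ sigmaCore M := ⟨hQU x.2, h2⟩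
    rw [hUσ] at h3
    have h5 : x = 1 := Subtype.ext h3
    rw [h5, orderOf_one] at hx
    exact hq.one_lt.ne hx
  have hcomm : IsMulCommutative Q := Cfsg.Agent.Lib.BGTau7.nilpotent_abelian hG hM hQM hQn hσ
  have hinj : Function.Injective (fun y : (P : Subgroup U) => (⟨((y : U) : G), ⟨y, y.2, rfl⟩⟩ : Q)) := by
    intro a b h
    exact Subtype.ext (Subtype.ext (congrArg (fun z : Q => (z : G)) h))
  constructor
  · refine ⟨⟨?_⟩⟩
    rintro a b
    apply hinj
    have := hcomm.is_comm.comm (⟨((a : U) : G), ⟨a, a.2, rfl⟩⟩ : Q) ⟨((b : U) : G), ⟨b, b.2, rfl⟩⟩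
    apply Subtype.ext
    exact congrArg Subtype.val this
  · by_cases hbot : (P : Subgroup U) = ⊥
    · intro A _ hA
      have hsub : Subsingleton (P : Subgroup U) := by rw [hbot]; infer_instance
      have h1 : Nat.card A = 1 := Nat.card_eq_one_iff_unique.mpr ⟨inferInstance, ⟨1⟩⟩
      rw [h1]
      exact Nat.one_le_pow _ _ hp.pos
    · have hd : p ∣ Nat.card Q := by
        have h1 : Nat.card Q = Nat.card (P : Subgroup U) :=
          Subgroup.card_map_of_injective U.subtype_injective
        rw [h1]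
        exact Cfsg.Agent.Lib.BGUniq2.dvd_card_of_isPGroup P.isPGroup' hbot
      have hnσ := hσ p hp hd
      have hr : PRankLE p 2 M := sigma_hyp hG hM p hp hnσ
      let f : (P : Subgroup U) →* M :=
        { toFun := fun y => ⟨((y : U) : G), hUM (y : U).2⟩
          map_one' := rfl
          map_mul' := fun _ _ => rfl }
      have hf : Function.Injective f := by
        intro a b h
        exact Subtype.ext (Subtype.ext (congrArg (fun z : M => (z : G)) h))
      exact Cfsg.Agent.Lib.BGSigma4.prankLE_of_injective f hf hr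

end Cfsg.Agent.S1358
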