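import Mathlib
import Cfsg.Statements.S1528
import Cfsg.Agent.Lib.FixedIrr
import Cfsg.Agent.Lib.GenChar

set_option autoImplicit false
open Cfsg

namespace Cfsg.Agent.S1528

open Cfsg.Agent.Lib.FixedIrr Cfsg.Agent.Lib.CharInduction Cfsg.Agent.Lib.CharBasic
  Cfsg.Agent.Lib.CharInd
open scoped ComplexConjugate

/-- Let N be a normal subgroup of the finite group G such that every element of G commuting with a non-identity element of N lies in N. If χ is an irreducible character of G with χ n ≠ χ 1 for some n ∈ N, then χ is the function induced from some irreducible character of N. -/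
theorem result {G : Type*} [Group G] [Fintype G] (N : Subgroup G) [hN : N.Normal] (hC : ∀ n ∈ N, n ≠ 1 → Subgroup.centralizer ({n} : Set G) ≤ N) (χ : G → ℂ) (hχ : Cfsg.IsIrrCharacter G χ) (hker : ∃ n ∈ N, χ n ≠ χ 1) : ∃ φ : N → ℂ, Cfsg.IsIrrCharacter N φ ∧ χ = Cfsg.indFun N φ := by
  classical
  have := Fintype.ofFinite N
  have hres : IsCharacter N (fun n : N => χ n) := isCharacter_restrict N (IsIrrCharacter.isCharacter hχ)
  -- a non-principal constituent
  obtain ⟨m, hm⟩ := exists_nat_decomp hres
  have hex : ∃ i : IrrCharacter N, (i : N → ℂ) ≠ (fun _ => 1) ∧ m i ≠ 0 := by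
    by_contra hcontra
    push Not at hcontra
    obtain ⟨n, hn, hne⟩ := hker
    apply hne
    have hconst : ∀ a : N, χ a = ∑ i, (m i : ℂ) * (i : N → ℂ) a := by
      intro a
      have := congrFun hm a
      simpa [Finset.sum_apply, nsmul_eq_mul] using this
    have hall : ∀ (a : N) (i : IrrCharacter N), (m i : ℂ) * (i : N → ℂ) a = (m i : ℂ) := by
      intro a i
      by_cases hi : (i : N → ℂ) = fun _ => 1
      · rw [hi]; simp
      · rw [hcontra i hi]; simp
    have h1 := hconst ⟨n, hn⟩
    have h2 := hconst 1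
    simp_rw [hall] at h1 h2
    simp only [OneMemClass.coe_one] at h2
    rw [show χ n = χ ((⟨n, hn⟩ : N) : G) from rfl, h1, h2]
  obtain ⟨φ, hφne, hmφ⟩ := hex
  have hφ := φ.2
  -- φ is not fixed by elements outside N
  have hnofix : ∀ x : G, x ∉ N → conjBy N hN x φ ≠ φ := by
    intro x hx hfix
    have hiff := exists_fixed_irr_iff N hN x
    obtain ⟨a, ha, k, hk, he⟩ := hiff.mp ⟨φ, hφ, hφne, hfix⟩
    apply hx
    have hcent : k⁻¹ * x ∈ Subgroup.centralizer ({(a : G)} : Set G) := by
      rw [Subgroup.mem_centralizer_singleton_iff]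
      have h2 : x * a = k * a * k⁻¹ * x := by
        rw [← he]; group
      calc k⁻¹ * x * a = k⁻¹ * (x * a) := by group
        _ = k⁻¹ * (k * a * k⁻¹ * x) := by rw [h2]
        _ = a * (k⁻¹ * x) := by group
    have ha' : (a : G) ≠ 1 := fun h => ha (Subtype.ext h)
    have h3 := hC a a.2 ha' hcent
    have h4 := N.mul_mem hk h3
    simpa using h4
  -- the stabiliser of φ is N
  have hstab : Nat.card {g : G // conjBy N hN g (φ : N → ℂ) = φ} = Nat.card N := by
    apply Nat.card_congr
    apply Equiv.subtypeEquivRight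
    intro g
    constructor
    · intro h
      by_contra hg
      exact hnofix g hg h
    · intro hg
      funext a
      rw [conjBy_apply]
      have := isClassFunction_of_isCharacter (IsIrrCharacter.isCharacter hφ) a ⟨g, hg⟩
      exact this
  have hnorm := natCard_mul_classInner_indFun_self N hN (φ : N → ℂ) hφ
  rw [hstab] at hnorm
  have hN0 : (Nat.card N : ℂ) ≠ 0 := Nat.cast_ne_zero.mpr Nat.card_pos.ne'
  have hnorm1 : classInner (indFun N (φ : N → ℂ)) (indFun N (φ : N → ℂ)) = 1 := by
    apply mul_left_cancel₀ hN0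
    rw [hnorm, mul_one]
  have hind : IsIrrCharacter G (indFun N (φ : N → ℂ)) :=
    isIrrCharacter_of_norm_one (indFun_isCharacter N (IsIrrCharacter.isCharacter hφ)) hnorm1
  refine ⟨φ, hφ, ?_⟩
  by_contra hne
  have h0 : classInner (indFun N (φ : N → ℂ)) χ = 0 :=
    classInner_irr_ne hind hχ (fun h => hne h.symm)
  rw [Cfsg.Agent.Lib.CharInd.frobenius N _ (isClassFunction_of_isCharacter (IsIrrCharacter.isCharacter hχ))] at h0
  have h1 : classInner (fun n : N => χ n) (φ : N → ℂ) = 0 := by
    rw [← classInner_conj_symm, h0, map_zero]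
  rw [hm, classInner_nat_decomp m _ hφ] at h1
  have h2 : m φ = 0 := by exact_mod_cast h1
  exact hmφ h2

end Cfsg.Agent.S1528
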