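import Mathlib
import Cfsg.Statements.S1523
import Cfsg.Agent.Lib.CharAvg
import Cfsg.Agent.Lib.CharTwist
import Cfsg.Agent.Lib.CharAutP
import Cfsg.Agent.Lib.CharInduction

set_option autoImplicit false
set_option linter.style.haveILetI false
set_option linter.unusedVariables false

open Cfsg Cfsg.Agent.Lib.CharBasic Cfsg.Agent.Lib.CharKernel
open scoped ComplexConjugate

namespace Cfsg.Agent.S1523

/-- An algebraic integer that is a rational number is an integer. -/
private theorem exists_int_of_isIntegral_mul {z : ℂ} (hz : IsIntegral ℤ z) {a : ℤ} {b : ℕ} (hb : b ≠ 0)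
    (h : z * b = a) : ∃ k : ℤ, z = k := by
  have hb' : (b : ℂ) ≠ 0 := by exact_mod_cast hb
  have hz' : z = algebraMap ℚ ℂ ((a : ℚ) / (b : ℚ)) := by
    simp only [eq_ratCast]
    push_cast
    field_simp
    exact h
  rw [hz', isIntegral_algebraMap_iff (algebraMap ℚ ℂ).injective] at hz
  obtain ⟨k, hk⟩ := IsIntegrallyClosed.isIntegral_iff.mp hz
  refine ⟨k, ?_⟩
  rw [hz', ← hk]
  simp

/-- Let G be a finite group, p a prime, P a Sylow p-subgroup whose underlying set is a TI-subset of G, with L the set normaliser of P of odd order. Let Z ≠ ⊥ be a subgroup of P, normal in L and central in P, such that the centralisers in L of any two non-identity elements of Z have the same order. If ψ is an irreducible character of G taking the same value at all non-identity elements of Z, then for z ∈ Z, z ≠ 1, the value ψ z is an integer n with Nat.card P dividing ψ(1) − n (as integers, ψ 1 being the degree). -/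
theorem result {G : Type*} [Group G] [Finite G] (p : ℕ) [Fact p.Prime] (P : Sylow p G) (hTI : Cfsg.IsTISubset ((P : Subgroup G) : Set G)) (hodd : Odd (Nat.card (Subgroup.normalizer ((P : Subgroup G) : Set G)))) (Z : Subgroup G) (hZ1 : Z ≠ ⊥) (hZP : Z ≤ P) (hZn : ∀ x ∈ Subgroup.normalizer ((P : Subgroup G) : Set G), ∀ z ∈ Z, x * z * x⁻¹ ∈ Z) (hZc : ∀ z ∈ Z, ∀ y ∈ (P : Subgroup G), z * y = y * z) (hCL : ∀ z ∈ Z, ∀ z' ∈ Z, z ≠ 1 → z' ≠ 1 → Nat.card ↥(Subgroup.normalizer ((P : Subgroup G) : Set G) ⊓ Subgroup.centralizer ({z} : Set G)) = Nat.card ↥(Subgroup.normalizer ((P : Subgroup G) : Set G) ⊓ Subgroup.centralizer ({z'} : Set G))) (ψ : G → ℂ) (hψ : Cfsg.IsIrrCharacter G ψ) (hconst : ∀ z ∈ Z, ∀ z' ∈ Z, z ≠ 1 → z' ≠ 1 → ψ z = ψ z') (z : G) (hz : z ∈ Z) (hz1 : z ≠ 1) : ∃ n d : ℤ, ψ z = n ∧ ψ 1 = d ∧ (Nat.card (P : Subgroup G) : ℤ) ∣ d - n := by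

  classical
  letI : Fintype G := Fintype.ofFinite _
  set P' : Subgroup G := (P : Subgroup G) with hP'
  set L : Subgroup G := Subgroup.normalizer (P' : Set G) with hL
  set C : Subgroup G := Subgroup.centralizer ({z} : Set G) with hC
  letI : Fintype P' := Fintype.ofFinite _
  letI : Fintype C := Fintype.ofFinite _
  letI : Fintype Z := Fintype.ofFinite _
  have hzP : z ∈ P' := hZP hz
  have hψc := IsIrrCharacter.isCharacter hψ
  have hψ1 : ψ 1 ≠ 0 := Cfsg.Agent.Lib.CharAvg.irr_one_ne_zero hψ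
  have hPL : P' ≤ L := by
    intro a ha
    rw [hL, Subgroup.mem_normalizer_iff]
    intro b
    constructor
    · intro hb
      exact P'.mul_mem (P'.mul_mem ha hb) (P'.inv_mem ha)
    · intro hb
      have h1 : b = a⁻¹ * (a * b * a⁻¹) * a := by group
      rw [h1]
      exact P'.mul_mem (P'.mul_mem (P'.inv_mem ha) hb) ha
  have hzL : z ∈ L := hPL hzP
  have hCL : C ≤ L := by
    intro c hc
    by_contra hcL
    have h1 : c * z * c⁻¹ = z := by
      have : c * z = z * c := (Subgroup.mem_centralizer_iff.1 hc z (Set.mem_singleton z)).symm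
      rw [this]
      group
    have h2 := hTI c hcL z hzP (by rw [h1]; exact hzP)
    exact hz1 h2
  -- `z` is not conjugate to its inverse in `L`
  have hnotinv : ∀ g ∈ L, g * z * g⁻¹ ≠ z⁻¹ := by
    intro g hg hcon
    obtain ⟨m, hm⟩ := hodd
    have hg1 : g ^ (2 * m + 1) = 1 := by
      have := pow_card_eq_one' (x := (⟨g, hg⟩ : L))
      rw [hm] at this
      have h2 := congrArg (fun w : L => (w : G)) this
      simpa using h2
    have hz2 : z ^ (2 * m + 1) = 1 := by
      have := pow_card_eq_one' (x := (⟨z, hzL⟩ : L))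
      rw [hm] at this
      have h2 := congrArg (fun w : L => (w : G)) this
      simpa using h2
    have hsq : Commute (g * g) z := by
      show g * g * z = z * (g * g)
      have h3 : g * z = z⁻¹ * g := by
        rw [← hcon]
        group
      have h4 : g * z⁻¹ = z * g := by
        have : g * z⁻¹ * g⁻¹ = (g * z * g⁻¹)⁻¹ := by group
        rw [hcon, inv_inv] at this
        calc g * z⁻¹ = g * z⁻¹ * g⁻¹ * g := by group
          _ = z * g := by rw [this]
      calc g * g * z = g * (g * z) := by group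
        _ = g * (z⁻¹ * g) := by rw [h3]
        _ = (g * z⁻¹) * g := by group
        _ = z * g * g := by rw [h4]
        _ = z * (g * g) := by group
    have hgz : Commute g z := by
      have h5 : g = ((g * g) ^ m)⁻¹ := by
        have : g * (g * g) ^ m = 1 := by
          rw [← pow_two, ← pow_mul, ← pow_succ']
          exact hg1
        exact eq_inv_of_mul_eq_one_left this
      rw [h5]
      exact ((hsq.pow_left m).inv_left)
    have hz3 : z = z⁻¹ := by
      rw [← hcon]
      have : g * z = z * g := hgz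
      rw [this]
      group
    have hz4 : z * z = 1 := by
      nth_rewrite 2 [hz3]
      group
    apply hz1
    calc z = z ^ (2 * m + 1) := by
          rw [pow_succ, pow_mul, pow_two, hz4, one_pow, one_mul]
      _ = 1 := hz2
  have hzinvZ : z⁻¹ ∈ Z := Z.inv_mem hz
  have hzinv1 : z⁻¹ ≠ 1 := by simpa using hz1
  have hlam : ∀ u ∈ Z, u ≠ 1 → ψ u = ψ z := fun u hu hu1 => hconst u hu z hz hu1 hz1
  -- comparing the two averages
  let fm : G → ℂ := fun g => ψ (z * (g * z⁻¹ * g⁻¹))
  let fp : G → ℂ := fun g => ψ (z * (g * z * g⁻¹))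
  have hsum : ∑ g, fm g = ∑ g, fp g := by
    have h1 := Cfsg.Agent.Lib.CharAvg.irr_avg hψ z z⁻¹
    have h2 := Cfsg.Agent.Lib.CharAvg.irr_avg hψ z z
    rw [hlam _ hzinvZ hzinv1, ← h2] at h1
    exact mul_left_cancel₀ hψ1 h1
  -- the values on `L`
  have hfmL : ∀ g ∈ L, fm g = if g ∈ C then ψ 1 else ψ z := by
    intro g hg
    by_cases hgC : g ∈ C
    · rw [if_pos hgC]
      have h1 : g * z = z * g := (Subgroup.mem_centralizer_iff.1 hgC z (Set.mem_singleton z)).symm
      have h2 : z * (g * z⁻¹ * g⁻¹) = 1 := by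
        have : g * z⁻¹ * g⁻¹ = (g * z * g⁻¹)⁻¹ := by group
        rw [this, h1]
        group
      show ψ _ = _
      rw [h2]
    · rw [if_neg hgC]
      apply hlam
      · exact Z.mul_mem hz (by
          have := hZn g hg z⁻¹ hzinvZ
          exact this)
      · intro h0
        apply hgC
        rw [hC, Subgroup.mem_centralizer_iff]
        intro w hw
        rw [Set.mem_singleton_iff] at hw
        subst hw
        have h3 : g * w⁻¹ * g⁻¹ = w⁻¹ := by
          exact mul_left_cancel (a := w) (by rw [h0]; group)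
        have h4 : g * w * g⁻¹ = w := by
          calc g * w * g⁻¹ = (g * w⁻¹ * g⁻¹)⁻¹ := by group
            _ = (w⁻¹)⁻¹ := by rw [h3]
            _ = w := inv_inv _
        calc w * g = g * w * g⁻¹ * g := by rw [h4]
          _ = g * w := by group
  have hfpL : ∀ g ∈ L, fp g = ψ z := by
    intro g hg
    apply hlam
    · exact Z.mul_mem hz (hZn g hg z hz)
    · intro h0
      apply hnotinv g hg
      exact eq_inv_of_mul_eq_one_right h0
  -- the group `P' × C` acts freely on the elements outside `L`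
  let X := {g : G // g ∉ L}
  have hact : ∀ (q : P' × C) (g : X), (q.1 : G) * g * (q.2 : G)⁻¹ ∉ L := by
    intro q g h
    apply g.2
    have h1 := hPL q.1.2
    have h2 := hCL q.2.2
    have e : (g : G) = (q.1 : G)⁻¹ * ((q.1 : G) * g * (q.2 : G)⁻¹) * q.2 := by group
    rw [e]
    exact L.mul_mem (L.mul_mem (L.inv_mem h1) h) h2
  letI hA : MulAction (↥P' × ↥C) X :=
    { smul := fun q g => ⟨(q.1 : G) * g * (q.2 : G)⁻¹, hact q g⟩
      one_smul := fun g => by
        apply Subtype.ext
        show ((1 : P' × C).1 : G) * g * ((1 : P' × C).2 : G)⁻¹ = g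
        simp
      mul_smul := fun a b g => by
        apply Subtype.ext
        show ((a * b).1 : G) * g * ((a * b).2 : G)⁻¹ = (a.1 : G) * ((b.1 : G) * g * (b.2 : G)⁻¹) * (a.2 : G)⁻¹
        simp [mul_assoc] }
  have hsmul : ∀ (q : P' × C) (g : X), ((q • g : X) : G) = (q.1 : G) * g * (q.2 : G)⁻¹ :=
    fun _ _ => rfl
  have hfree : ∀ (q : P' × C) (g : X), q • g = g → q = 1 := by
    rintro ⟨a, c⟩ g h
    have h1 : (a : G) * g * (c : G)⁻¹ = g := congrArg Subtype.val h
    have h2 : (g : G)⁻¹ * a * g = c := by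
      have : (a : G) * g = g * c := by
        calc (a : G) * g = (a : G) * g * (c : G)⁻¹ * c := by group
          _ = g * c := by rw [h1]
      calc (g : G)⁻¹ * a * g = (g : G)⁻¹ * ((a : G) * g) := by group
        _ = (g : G)⁻¹ * (g * c) := by rw [this]
        _ = c := by group
    have hcP : (c : G) ∈ P' := by
      have hpg : IsPGroup p (P'.map (MulAut.conj (g : G)⁻¹).toMonoidHom) :=
        P.isPGroup'.map _
      have hmem : (c : G) ∈ (P'.map (MulAut.conj (g : G)⁻¹).toMonoidHom) ⊓ Subgroup.normalizer (P' : Set G) := by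
        refine ⟨⟨a, a.2, ?_⟩, hCL c.2⟩
        rw [← h2]
        simp [MulAut.conj_apply]
      have h5 := hpg.inf_normalizer_sylow P
      have hmem' : (c : G) ∈ (P'.map (MulAut.conj (g : G)⁻¹).toMonoidHom) ⊓ Subgroup.normalizer ((P : Sylow p G) : Set G) := hmem
      rw [h5] at hmem'
      exact hmem'.2
    have hginv : (g : G)⁻¹ ∉ L := fun h => g.2 (by simpa using L.inv_mem h)
    have ha1 : (a : G) = 1 := by
      apply hTI _ hginv _ a.2
      have : (g : G)⁻¹ * a * ((g : G)⁻¹)⁻¹ = c := by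
        rw [inv_inv]
        exact h2
      rw [this]
      exact hcP
    have hc1 : (c : G) = 1 := by
      rw [← h2, ha1]
      group
    exact Prod.ext (Subtype.ext ha1) (Subtype.ext hc1)
  letI : Fintype X := Fintype.ofFinite _
  have hinv : ∀ y : G, (∀ c ∈ C, c * y = y * c) → ∀ (q : P' × C) (g : X),
      ψ (z * (((q • g : X) : G) * y * ((q • g : X) : G)⁻¹)) = ψ (z * ((g : G) * y * (g : G)⁻¹)) := by
    intro y hy q g
    rw [hsmul]
    have h1 : (q.2 : G)⁻¹ * y * (q.2 : G) = y := by
      have := hy _ q.2.2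
      calc (q.2 : G)⁻¹ * y * (q.2 : G) = (q.2 : G)⁻¹ * (y * q.2) := by group
        _ = (q.2 : G)⁻¹ * (q.2 * y) := by rw [this]
        _ = y := by group
    have h2 : z * (q.1 : G) = (q.1 : G) * z := hZc z hz _ q.1.2
    have h3 := isClassFunction_of_isCharacter hψc (z * ((g : G) * y * (g : G)⁻¹)) (q.1 : G)
    rw [← h3]
    congr 1
    calc z * ((q.1 : G) * g * (q.2 : G)⁻¹ * y * ((q.1 : G) * g * (q.2 : G)⁻¹)⁻¹)
        = (z * (q.1 : G)) * g * ((q.2 : G)⁻¹ * y * (q.2 : G)) * (g : G)⁻¹ * (q.1 : G)⁻¹ := by group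
      _ = (q.1 : G) * (z * ((g : G) * y * (g : G)⁻¹)) * (q.1 : G)⁻¹ := by
          rw [h1, h2]
          group
  have hyz : ∀ c ∈ C, c * z = z * c := fun c hc =>
    (Subgroup.mem_centralizer_iff.1 hc z (Set.mem_singleton z)).symm
  have hyz' : ∀ c ∈ C, c * z⁻¹ = z⁻¹ * c := by
    intro c hc
    have := hyz c hc
    calc c * z⁻¹ = z⁻¹ * (z * c) * z⁻¹ := by group
      _ = z⁻¹ * (c * z) * z⁻¹ := by rw [this]
      _ = z⁻¹ * c := by group
  have hint : ∀ x, IsIntegral ℤ (ψ x) := fun x => Cfsg.Agent.Lib.CharAutP.isIntegral_irr ⟨ψ, hψ⟩ x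
  obtain ⟨sm, hsm, hsm'⟩ := Cfsg.Agent.Lib.CharTwist.exists_sum_eq_card_mul hfree
    (fun g : X => fm g) (hinv z⁻¹ hyz') (fun g => hint _)
  obtain ⟨sp, hsp, hsp'⟩ := Cfsg.Agent.Lib.CharTwist.exists_sum_eq_card_mul hfree
    (fun g : X => fp g) (hinv z hyz) (fun g => hint _)
  rw [Fintype.card_prod] at hsm' hsp'
  -- the main equation
  set c : ℂ := ψ 1 - ψ z with hc
  have hCne : (Nat.card C : ℂ) ≠ 0 := by
    exact_mod_cast (Nat.card_pos (α := C)).ne'
  have hmain : c = (Nat.card P' : ℂ) * (sp - sm) := by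
    let k : G → ℂ := fun g => if g ∈ C then c else 0
    let r : G → ℂ := fun g => if g ∈ L then 0 else fm g - fp g
    have hk : ∀ g, fm g - fp g = k g + r g := by
      intro g
      by_cases hgL : g ∈ L
      · simp only [k, r, if_pos hgL, add_zero]
        rw [hfmL g hgL, hfpL g hgL]
        by_cases hgC : g ∈ C
        · rw [if_pos hgC, if_pos hgC]
        · rw [if_neg hgC, if_neg hgC, sub_self]
      · have hgC : g ∉ C := fun h => hgL (hCL h)
        simp only [k, r, if_neg hgL, if_neg hgC, zero_add]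
    have h0 : ∑ g, (fm g - fp g) = 0 := by
      rw [Finset.sum_sub_distrib, hsum, sub_self]
    simp_rw [hk] at h0
    rw [Finset.sum_add_distrib] at h0
    have hk' : ∑ g, k g = (Nat.card C : ℂ) * c := by
      rw [Cfsg.Agent.Lib.CharInduction.sum_of_vanish_off C k (fun g hg => if_neg hg)]
      have : ∀ n : C, k n = c := fun n => if_pos n.2
      simp_rw [this]
      simp only [Finset.sum_const, Finset.card_univ, nsmul_eq_mul]
      rw [Nat.card_eq_fintype_card]
    have hr' : ∑ g, r g = ∑ g : X, (fm g - fp g) := by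
      have e : ∑ g : X, (fm g - fp g) = ∑ g : X, r g :=
        Finset.sum_congr rfl (fun g _ => (if_neg g.2).symm)
      rw [e, ← Finset.sum_subtype (Finset.univ.filter (fun g => g ∉ L)) (by simp) r]
      symm
      apply Finset.sum_subset (Finset.filter_subset _ _)
      intro g _ hg
      have : g ∈ L := by
        by_contra h
        exact hg (Finset.mem_filter.2 ⟨Finset.mem_univ _, h⟩)
      exact if_pos this
    rw [hk', hr', Finset.sum_sub_distrib, hsm', hsp'] at h0
    rw [← Nat.card_eq_fintype_card, ← Nat.card_eq_fintype_card] at h0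
    push_cast at h0
    apply mul_left_cancel₀ hCne
    linear_combination h0
  -- the value on `Z` is an integer
  obtain ⟨d, hd⟩ := isCharacter_one_eq hψc
  have hZcard : 1 < Nat.card Z := by
    have : Nontrivial Z := (Subgroup.nontrivial_iff_ne_bot Z).2 hZ1
    exact Finite.one_lt_card
  obtain ⟨n₀, hn₀⟩ := classInner_char_irr (isCharacter_restrict Z hψc) (isIrrCharacter_one (G := Z))
  have hZsum : ∑ u : Z, ψ u = c + (Nat.card Z : ℂ) * ψ z := by
    have h1 : ∀ u : Z, ψ u = (if u = 1 then c else 0) + ψ z := by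
      intro u
      by_cases hu : u = 1
      · subst hu
        simp [hc]
      · rw [if_neg hu, zero_add]
        exact hlam u u.2 (fun h => hu (Subtype.ext h))
    simp_rw [h1]
    rw [Finset.sum_add_distrib, Finset.sum_ite_eq' Finset.univ (1 : Z)]
    simp [Nat.card_eq_fintype_card]
  have hnZ : (Nat.card Z : ℂ) ≠ 0 := by
    exact_mod_cast (Nat.card_pos (α := Z)).ne'
  have hZ2 : ψ z * ((Nat.card Z - 1 : ℕ) : ℂ) = (((Nat.card Z : ℤ) * (n₀ : ℤ) - (d : ℤ) : ℤ) : ℂ) := by
    have h2 : (∑ u : Z, ψ u) = (Nat.card Z : ℂ) * n₀ := by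
      unfold classInner at hn₀
      simp only [map_one, mul_one] at hn₀
      rw [← hn₀]
      field_simp
    rw [h2, hc, hd] at hZsum
    rw [Nat.cast_sub hZcard.le]
    push_cast
    linear_combination -hZsum
  obtain ⟨n, hn⟩ := exists_int_of_isIntegral_mul (hint z) (by omega) hZ2
  refine ⟨n, (d : ℤ), hn, by rw [hd]; simp, ?_⟩
  -- the congruence
  have htint : IsIntegral ℤ (sp - sm) := hsp.sub hsm
  have hP0 : Nat.card P' ≠ 0 := (Nat.card_pos (α := P')).ne'
  have ht : (sp - sm) * (Nat.card P' : ℂ) = (((d : ℤ) - n : ℤ) : ℂ) := by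
    rw [mul_comm, ← hmain, hc, hd, hn]
    push_cast
    ring
  obtain ⟨k, hk⟩ := exists_int_of_isIntegral_mul htint hP0 ht
  refine ⟨k, ?_⟩
  rw [hk] at ht
  have : (((d : ℤ) - n : ℤ) : ℂ) = (((Nat.card P' : ℤ) * k : ℤ) : ℂ) := by
    rw [← ht]
    push_cast
    ring
  exact_mod_cast this


end Cfsg.Agent.S1523
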