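import Cfsg.Statements.S1524
import Mathlib
import Cfsg.Agent.Lib.SibKernel9
import Cfsg.Agent.Lib.FrobPair

set_option autoImplicit false
open Cfsg

namespace Cfsg.Agent.S1524

/-- Let G be a finite group and H ≤ L subgroups with L of odd order, H ≠ ⊥ nilpotent and normal in L with a nontrivial complement W₁ in L (H ⊓ W₁ = ⊥, H ⊔ W₁ = L) acting on H without non-identity fixed points (L is a Frobenius group with kernel H), and suppose the underlying set of H is a TI-subset of G whose normaliser is L. Let S be the set of functions on L induced from the non-principal irreducible characters of H. Then (S, L minus 1, induction to G) is coherent. -/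
theorem result {G : Type*} [Group G] [Fintype G] (H L W₁ : Subgroup G) [Fintype L] (hodd : Odd (Nat.card L)) (hHL : H ≤ L) (hW₁L : W₁ ≤ L) (hH1 : H ≠ ⊥) (hW1 : W₁ ≠ ⊥) (hnil : Group.IsNilpotent H) (hHn : ∀ x ∈ L, ∀ h ∈ H, x * h * x⁻¹ ∈ H) (hinf : H ⊓ W₁ = ⊥) (hsup : H ⊔ W₁ = L) (hfpf : ∀ w ∈ W₁, w ≠ 1 → ∀ h ∈ H, w * h = h * w → h = 1) (hTI : Cfsg.IsTISubset (H : Set G)) (hN : Subgroup.normalizer (H : Set G) = L) : Cfsg.IsCoherent (Cfsg.inducedIrrAbove (H.subgroupOf L) ⊥) {1}ᶜ (fun α : L → ℂ => Cfsg.indFun L α) := by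
  classical
  subst hN
  have hnorm : (H.subgroupOf (Subgroup.normalizer (H : Set G))).Normal := Subgroup.normal_in_normalizer
  set H' := H.subgroupOf (Subgroup.normalizer (H : Set G)) with hH'
  set W' := W₁.subgroupOf (Subgroup.normalizer (H : Set G)) with hW'
  have hsup' : H' ⊔ W' = ⊤ := by
    rw [hH', hW', ← Subgroup.subgroupOf_sup hHL hW₁L, hsup, Subgroup.subgroupOf_self]
  have hfpf' : ∀ h ∈ W', h ≠ 1 → ∀ k ∈ H', h * k = k * h → k = 1 := by
    intro h hh hh1 k hk hc
    have h1 := hfpf h (Subgroup.mem_subgroupOf.mp hh) (fun h2 => hh1 (Subtype.ext h2)) k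
      (Subgroup.mem_subgroupOf.mp hk) (congrArg Subtype.val hc)
    exact Subtype.ext h1
  have hcomm : ∀ g x : (Subgroup.normalizer (H : Set G)), g ∉ H' → x ∈ H' → g * x = x * g → x = 1 :=
    fun g x hg hx hc => Cfsg.Agent.Lib.FrobPair.eq_one_of_commute_of_not_mem H' W' hsup' hfpf' hg hx hc
  have hC : ∀ h ∈ H', h ≠ 1 → Subgroup.centralizer ({h} : Set (Subgroup.normalizer (H : Set G))) ≤ H' := by
    intro h hh hh1 x hx
    by_contra hxn
    exact hh1 (hcomm x h hxn hh ((Subgroup.mem_centralizer_singleton_iff.mp hx)))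
  have hC₀ : ∀ k ∈ H, k ≠ 1 → Subgroup.centralizer ({k} : Set G) ≤ H := by
    intro k hk hk1 g hg
    have hg' := Subgroup.mem_centralizer_singleton_iff.mp hg
    have hgN : g ∈ Subgroup.normalizer (H : Set G) := by
      by_contra hgn
      apply hk1
      refine hTI g hgn k hk ?_
      have : g * k * g⁻¹ = k := by rw [hg']; group
      rw [this]
      exact hk
    by_contra hgH
    have hkN : k ∈ Subgroup.normalizer (H : Set G) := hHL hk
    have h1 := hcomm ⟨g, hgN⟩ ⟨k, hkN⟩ (fun h => hgH (Subgroup.mem_subgroupOf.mp h))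
      (Subgroup.mem_subgroupOf.mpr hk) (Subtype.ext hg')
    exact hk1 (congrArg Subtype.val h1)
  have hlt : H < Subgroup.normalizer (H : Set G) := by
    refine lt_of_le_of_ne hHL ?_
    intro h
    apply hW1
    rw [eq_bot_iff]
    intro w hw
    have h2 : w ∈ H ⊓ W₁ := ⟨by rw [h]; exact hW₁L hw, hw⟩
    rwa [hinf] at h2
  have hset : Cfsg.inducedIrrAbove H' ⊥ = Cfsg.Agent.Lib.FrobIrr9.SS H' := by
    ext φ
    constructor
    · rintro ⟨θ, hθ, hne, -, rfl⟩
      exact Cfsg.Agent.Lib.FrobIrr9.ind_mem hC hθ hne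
    · intro h
      obtain ⟨θ, hθ, hne, hφ⟩ := Cfsg.Agent.Lib.FrobIrr9.exists_of_mem hC h
      refine ⟨θ, hθ, hne, ?_, hφ⟩
      intro a ha
      have h1 : (a : Subgroup.normalizer (H : Set G)) = 1 := Subgroup.mem_bot.mp ha
      have h2 : a = 1 := Subtype.ext h1
      rw [h2]
  rw [hset]
  exact Cfsg.Agent.Lib.SibKernel9.kernel_odd hH1 hTI hlt hC₀ hodd

end Cfsg.Agent.S1524
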