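import Mathlib
import Cfsg.Statements.S0900
import Cfsg.Agent.Lib.CosetAvg

set_option autoImplicit false
open Cfsg

namespace Cfsg.Agent.S0900

open Cfsg.Agent.Lib.CosetAvg Cfsg.Agent.Lib.CharBasic Cfsg.Agent.Lib.CharInd
open Cfsg.Agent.Lib.CharInduction Cfsg.Agent.Lib.Clifford
open scoped ComplexConjugate

section

variable {G : Type*} [Group G] [Fintype G] (N : Subgroup G) [hN : N.Normal] [Fintype N]
  {χ : G → ℂ} (hχ : IsIrrCharacter G χ) {ϑ : N → ℂ} (hϑ : IsIrrCharacter N ϑ)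

include hϑ in
/-- The mass of `e ϑ`. -/
theorem sum_normSq_smul (e : ℕ) (h : (fun n : N => χ n) = (e : ℂ) • ϑ) :
    ∑ n : N, Complex.normSq (χ n) = (e : ℝ) ^ 2 * (Nat.card N : ℝ) := by
  have h1 := sum_normSq_eq hϑ
  have h2 : ∀ n : N, Complex.normSq (χ n) = (e : ℝ) ^ 2 * Complex.normSq (ϑ n) := by
    intro n
    have h3 := congrFun h n
    simp only [Pi.smul_apply, smul_eq_mul] at h3
    rw [h3, Complex.normSq_mul, Complex.normSq_natCast]
    ring
  simp only [h2]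
  rw [← Finset.mul_sum, h1]

theorem card_eq_index_mul : (Nat.card G : ℝ) = (N.index : ℝ) * (Nat.card N : ℝ) := by
  have := Subgroup.card_mul_index N
  rw [← this]
  push_cast
  ring

include hχ hϑ in
theorem vanish_of_a (e : ℕ) (h : (fun n : N => χ n) = (e : ℂ) • ϑ) (he : e ^ 2 = N.index) :
    ∀ g : G, g ∉ N → χ g = 0 := by
  apply vanish_of_sum_normSq N
  rw [sum_normSq_smul N hϑ e h, sum_normSq_eq hχ, card_eq_index_mul N, ← he]
  push_cast
  ring

include hχ in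
theorem invariant_of_a (e : ℕ) (h : (fun n : N => χ n) = (e : ℂ) • ϑ) (he : e ^ 2 = N.index) :
    ∀ (g : G) (n : N), ϑ ⟨g * n * g⁻¹, hN.conj_mem (n : G) n.2 g⟩ = ϑ n := by
  intro g n
  have hcl := isClassFunction_of_isCharacter (IsIrrCharacter.isCharacter hχ)
  have h1 : χ (g * n * g⁻¹) = χ n := char_apply_conj (IsIrrCharacter.isCharacter hχ) _ _
  have h2 := congrFun h n
  have h3 := congrFun h ⟨g * n * g⁻¹, hN.conj_mem (n : G) n.2 g⟩
  simp only [Pi.smul_apply, smul_eq_mul] at h2 h3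
  rw [h1, h2] at h3
  have he0 : (e : ℂ) ≠ 0 := by
    intro h0
    have h4 : e = 0 := by exact_mod_cast h0
    rw [h4] at he
    exact Subgroup.index_ne_zero_of_finite (H := N) (by simpa using he.symm)
  exact (mul_left_cancel₀ he0 h3).symm

include hχ hϑ in
theorem a_of_b (hcon : classInner (fun n : N => χ n) ϑ ≠ 0) (h0 : ∀ g : G, g ∉ N → χ g = 0)
    (hinv : ∀ (g : G) (n : N), ϑ ⟨g * n * g⁻¹, hN.conj_mem (n : G) n.2 g⟩ = ϑ n) :
    ∃ e : ℕ, (fun n : N => χ n) = (e : ℂ) • ϑ ∧ e ^ 2 = N.index := by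
  obtain ⟨e, -, h1, -⟩ := restrict_eq_smul_of_invariant N hϑ hinv hχ hcon
  refine ⟨e, h1, ?_⟩
  have h2 := sum_normSq_of_vanish N h0
  rw [sum_normSq_smul N hϑ e h1, sum_normSq_eq hχ, card_eq_index_mul N] at h2
  have h3 : (Nat.card N : ℝ) ≠ 0 := by exact_mod_cast Nat.card_pos.ne'
  have h4 := mul_right_cancel₀ h3 h2
  exact_mod_cast h4.symm

include hχ hϑ in
theorem c_of_a (e : ℕ) (h : (fun n : N => χ n) = (e : ℂ) • ϑ) (he : e ^ 2 = N.index)
    {ψ : G → ℂ} (hψ : IsIrrCharacter G ψ) (h1 : classInner (indFun N ϑ) ψ ≠ 0) : ψ = χ := by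
  have h0 := vanish_of_a N hχ hϑ e h he
  have hinv := invariant_of_a N hχ e h he
  have h2 : indFun N ϑ = (e : ℂ) • χ := by
    funext g
    by_cases hg : g ∈ N
    · have h3 := indFun_of_invariant N hN hinv ⟨g, hg⟩
      simp only at h3
      rw [h3]
      have h4 := congrFun h ⟨g, hg⟩
      simp only [Pi.smul_apply, smul_eq_mul] at h4 ⊢
      rw [h4, ← he]
      push_cast
      ring
    · rw [indFun_eq_zero_of_not_mem N hN ϑ hg]
      simp [h0 g hg]
  by_contra hne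
  apply h1
  rw [h2, classInner_smul_left, classInner_irr_ne hχ hψ (Ne.symm hne), mul_zero]

include hχ hϑ in
theorem a_of_c (hcon : classInner (fun n : N => χ n) ϑ ≠ 0)
    (hinv : ∀ (g : G) (n : N), ϑ ⟨g * n * g⁻¹, hN.conj_mem (n : G) n.2 g⟩ = ϑ n)
    (hall : ∀ ψ : G → ℂ, IsIrrCharacter G ψ → classInner (indFun N ϑ) ψ ≠ 0 → ψ = χ) :
    ∃ e : ℕ, (fun n : N => χ n) = (e : ℂ) • ϑ ∧ e ^ 2 = N.index := by
  classical
  obtain ⟨e, he0, h1, he⟩ := restrict_eq_smul_of_invariant N hϑ hinv hχ hcon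
  refine ⟨e, h1, ?_⟩
  have hΦ := indFun_isCharacter N (IsIrrCharacter.isCharacter hϑ)
  obtain ⟨m, hm⟩ := exists_nat_decomp hΦ
  have hzero : ∀ i : IrrCharacter G, (i : G → ℂ) ≠ χ → m i = 0 := by
    intro i hi
    by_contra hne
    apply hi
    apply hall _ i.2
    rw [hm, classInner_nat_decomp m _ i.2]
    simpa using hne
  have hmχ : m ⟨χ, hχ⟩ = e := by
    have h2 := classInner_nat_decomp m χ hχ
    rw [← hm, classInner_indFun_eq N hϑ (IsIrrCharacter.isCharacter hχ), he] at h2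
    exact_mod_cast h2.symm
  have hΦval : indFun N ϑ = (e : ℂ) • χ := by
    rw [hm, Finset.sum_eq_single (⟨χ, hχ⟩ : IrrCharacter G)]
    · rw [hmχ]
      funext g
      simp
    · intro b _ hb
      rw [hzero b (fun h => hb (Subtype.ext h)), zero_smul]
    · intro h2
      exact absurd (Finset.mem_univ _) h2
  have h3 := congrFun hΦval 1
  rw [indFun_one] at h3
  have h4 := congrFun h1 1
  simp only [Pi.smul_apply, smul_eq_mul] at h3 h4
  have h5 : (1 : N) = (1 : N) := rfl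
  have h6 : χ 1 = (e : ℂ) * ϑ 1 := h4
  rw [h6] at h3
  have h7 : ϑ 1 ≠ 0 := irr_degree_ne_zero hϑ
  have h8 : (N.index : ℂ) = (e : ℂ) * e := by
    apply mul_right_cancel₀ h7
    rw [h3]
    ring
  have h9 : N.index = e * e := by exact_mod_cast h8
  rw [h9]
  ring

end

/-- Let N be a normal subgroup of the finite group G, χ an irreducible character of G and ϑ an irreducible character of N having nonzero inner product with the restriction of χ. Consider: (a) the restriction of χ to N is e • ϑ for a natural number e with e ^ 2 equal to the index of N; (b) χ vanishes outside N and ϑ is invariant under conjugation by G; (c) ϑ is invariant and every irreducible character of G having nonzero inner product with the function induced from ϑ equals χ. Then (a) ↔ (b) and (a) ↔ (c). -/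
theorem result {G : Type*} [Group G] [Fintype G] (N : Subgroup G) [hN : N.Normal] [Fintype N] (χ : G → ℂ) (hχ : Cfsg.IsIrrCharacter G χ) (ϑ : N → ℂ) (hϑ : Cfsg.IsIrrCharacter N ϑ) (hcon : Cfsg.classInner (fun n : N => χ n) ϑ ≠ 0) : ((∃ e : ℕ, (fun n : N => χ n) = (e : ℂ) • ϑ ∧ e ^ 2 = N.index) ↔ ((∀ g : G, g ∉ N → χ g = 0) ∧ ∀ (g : G) (n : N), ϑ ⟨g * n * g⁻¹, hN.conj_mem (n : G) n.2 g⟩ = ϑ n)) ∧ ((∃ e : ℕ, (fun n : N => χ n) = (e : ℂ) • ϑ ∧ e ^ 2 = N.index) ↔ (∀ (g : G) (n : N), ϑ ⟨g * n * g⁻¹, hN.conj_mem (n : G) n.2 g⟩ = ϑ n ∧ ∀ ψ : G → ℂ, Cfsg.IsIrrCharacter G ψ → Cfsg.classInner (Cfsg.indFun N ϑ) ψ ≠ 0 → ψ = χ)) := by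
  constructor
  · constructor
    · rintro ⟨e, h, he⟩
      exact ⟨vanish_of_a N hχ hϑ e h he, invariant_of_a N hχ e h he⟩
    · rintro ⟨h0, hinv⟩
      exact a_of_b N hχ hϑ hcon h0 hinv
  · constructor
    · rintro ⟨e, h, he⟩ g n
      exact ⟨invariant_of_a N hχ e h he g n, fun ψ hψ h1 => c_of_a N hχ hϑ e h he hψ h1⟩
    · intro h
      exact a_of_c N hχ hϑ hcon (fun g n => (h g n).1) (fun ψ hψ h1 => (h 1 1).2 ψ hψ h1)

end Cfsg.Agent.S0900
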