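import Mathlib
import Cfsg.Statements.S0857
import Cfsg.Agent.Lib.ChiefRestrict

set_option autoImplicit false
open Cfsg

namespace Cfsg.Agent.S0857

open Cfsg.Agent.Lib.CharBasic Cfsg.Agent.Lib.ChiefRestrict

/-- Let L < K be normal subgroups of the finite group G with no normal subgroup of G strictly between them and with K / L abelian (the commutator subgroup of K lies in L). Let ϑ be an irreducible character of K invariant under conjugation by G. Then the restriction of ϑ to L is irreducible; or it equals e times an irreducible character of L with e ^ 2 equal to the index of L in K; or it is the sum of a family of pairwise distinct irreducible characters of L indexed by a set whose size is the index of L in K. -/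
theorem result {G : Type*} [Group G] [Fintype G] (K L : Subgroup G) [hK : K.Normal] [L.Normal] (hLK : L < K) (hchief : ∀ M : Subgroup G, M.Normal → L ≤ M → M ≤ K → M = L ∨ M = K) (hab : ⁅K, K⁆ ≤ L) (ϑ : K → ℂ) (hϑ : Cfsg.IsIrrCharacter K ϑ) (hinv : ∀ (g : G) (n : K), ϑ ⟨g * n * g⁻¹, hK.conj_mem (n : G) n.2 g⟩ = ϑ n) : Cfsg.IsIrrCharacter L (fun x : L => ϑ ⟨(x : G), hLK.le x.2⟩) ∨ (∃ (φ : L → ℂ) (e : ℕ), Cfsg.IsIrrCharacter L φ ∧ (fun x : L => ϑ ⟨(x : G), hLK.le x.2⟩) = (e : ℂ) • φ ∧ e ^ 2 = L.relIndex K) ∨ (∃ F : Finset (L → ℂ), (∀ φ ∈ F, Cfsg.IsIrrCharacter L φ) ∧ F.card = L.relIndex K ∧ (fun x : L => ϑ ⟨(x : G), hLK.le x.2⟩) = ∑ φ ∈ F, φ) := by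
  classical
  haveI : Fintype K := Fintype.ofFinite _
  let A : Subgroup K := L.subgroupOf K
  haveI : A.Normal := Subgroup.normal_subgroupOf
  haveI : Fintype A := Fintype.ofFinite _
  let ε : A ≃* L := Subgroup.subgroupOfEquivOfLe hLK.le
  let σ : G →* MulAut K := MulAut.conjNormal
  have hσ : ∀ (g : G) (x : K), ((σ g x : K) : G) = g * x * g⁻¹ := fun g x =>
    MulAut.conjNormal_apply g x
  have hcomm : ∀ x y : K, x * y * x⁻¹ * y⁻¹ ∈ A := by
    intro x y
    show ((x * y * x⁻¹ * y⁻¹ : K) : G) ∈ L
    apply hab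
    have := Subgroup.commutator_mem_commutator x.2 y.2
    simpa [commutatorElement_def] using this
  have hAσ : ∀ (g : G), ∀ a ∈ A, σ g a ∈ A := by
    intro g a ha
    show ((σ g a : K) : G) ∈ L
    rw [hσ]
    exact (‹L.Normal›).conj_mem _ ha g
  have hϑσ : ∀ (g : G) (x : K), ϑ (σ g x) = ϑ x := by
    intro g x
    rw [← hinv g x]
    exact congrArg ϑ (Subtype.ext (hσ g x))
  have hchief' : ∀ M : Subgroup K, (∀ g : G, ∀ x ∈ M, σ g x ∈ M) → A ≤ M → M = A ∨ M = ⊤ := by
    intro M hM hAM
    have hnorm : (M.map K.subtype).Normal := by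
      constructor
      rintro _ ⟨x, hx, rfl⟩ g
      refine ⟨σ g x, hM g x hx, ?_⟩
      exact hσ g x
    have hLM : L ≤ M.map K.subtype := by
      intro l hl
      exact ⟨⟨l, hLK.le hl⟩, hAM hl, rfl⟩
    have hMK : M.map K.subtype ≤ K := by
      rintro _ ⟨x, -, rfl⟩
      exact x.2
    rcases hchief _ hnorm hLM hMK with h | h
    · left
      apply le_antisymm _ hAM
      intro x hx
      show (x : G) ∈ L
      rw [← h]
      exact ⟨x, hx, rfl⟩
    · right
      rw [eq_top_iff]
      intro x _
      have h1 : (x : G) ∈ M.map K.subtype := by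
        rw [h]
        exact x.2
      obtain ⟨y, hy, hyx⟩ := h1
      have : y = x := Subtype.ext hyx
      rwa [← this]
  have hε : ∀ n : L, (((ε.symm n : A) : K) : G) = n := by
    intro n
    have := congrArg (fun a : L => (a : G)) (ε.apply_symm_apply n)
    exact this
  have hres : (fun x : L => ϑ ⟨(x : G), hLK.le x.2⟩) = (fun x : A => ϑ x) ∘ ε.symm := by
    funext n
    simp only [Function.comp_apply]
    congr 1
  have key := restrict_chief A hϑ hcomm σ hAσ hϑσ hchief'
  rw [hres]
  rcases key with h | ⟨φ, e, hφ, h1, h2⟩ | ⟨F, hF, h1, h2⟩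
  · left
    exact isIrrCharacter_comp_of_surjective ε.symm.toMonoidHom ε.symm.surjective h
  · right; left
    refine ⟨φ ∘ ε.symm, e, isIrrCharacter_comp_of_surjective ε.symm.toMonoidHom
      ε.symm.surjective hφ, ?_, h2⟩
    rw [h1]
    funext n
    simp
  · right; right
    refine ⟨F.image (fun φ => φ ∘ ε.symm), ?_, ?_, ?_⟩
    · intro φ hφ
      obtain ⟨φ', hφ', rfl⟩ := Finset.mem_image.mp hφ
      exact isIrrCharacter_comp_of_surjective ε.symm.toMonoidHom ε.symm.surjective (hF φ' hφ')
    · rw [Finset.card_image_of_injective _ (ε.symm.surjective.injective_comp_right), h1]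
      rfl
    · rw [h2, Finset.sum_image (ε.symm.surjective.injective_comp_right.injOn)]
      funext n
      simp [Finset.sum_apply]

end Cfsg.Agent.S0857
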