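-- Statement S2277
import Mathlib
import Cfsg.Agent.Lib.OddPGroup
import Cfsg.Agent.Lib.OmegaCyc2
import Cfsg.Agent.Lib.CoprimeAct
import Cfsg.Agent.Lib.AlperinControl
import Cfsg.Agent.Lib.ControlSec
import Cfsg.Agent.Lib.ExtraBasics
import Cfsg.Agent.Lib.PCore
import Cfsg.Statements.S2277

set_option autoImplicit false
open Cfsg

namespace Cfsg.Agent.S2277

open Cfsg.Agent.Lib.AlperinControl Cfsg.Agent.Lib.ControlSec
open scoped commutatorElement

section core

variable {V : Type*} [AddCommGroup V] {p : ℕ}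

/-- The norm element `1 + t + ⋯ + t^(p-1)`. -/
def nu (p : ℕ) (t : Module.End ℤ V) : Module.End ℤ V := ∑ i ∈ Finset.range p, t ^ i

theorem nu_fix {t : Module.End ℤ V} (ht : t ^ p = 1) (v : V) : t (nu p t v) = nu p t v := by
  have h := mul_geom_sum t p
  rw [ht, sub_self] at h
  have h2 := LinearMap.congr_fun h v
  simp only [Module.End.mul_apply, LinearMap.sub_apply, Module.End.one_apply, LinearMap.zero_apply] at h2
  exact sub_eq_zero.mp h2

theorem nu_eq_zero {t : Module.End ℤ V} (ht : t ^ p = 1) (hfix : ∀ v, t v = v → v = 0) : nu p t = 0 := by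
  ext v
  exact hfix _ (nu_fix ht v)

theorem sum_nu (hpos : 0 < p) {x y : Module.End ℤ V} (hc : Commute x y)
    (hy0 : ∀ j, 0 < j → j < p → nu p (y ^ j) = 0) :
    ∑ i ∈ Finset.range p, nu p (x * y ^ i) = (p : Module.End ℤ V) := by
  have h1 : ∀ i j : ℕ, (x * y ^ i) ^ j = x ^ j * (y ^ j) ^ i := by
    intro i j
    rw [(hc.pow_right i).mul_pow, ← pow_mul, ← pow_mul, mul_comm]
  calc ∑ i ∈ Finset.range p, nu p (x * y ^ i)
      = ∑ i ∈ Finset.range p, ∑ j ∈ Finset.range p, x ^ j * (y ^ j) ^ i := by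
        apply Finset.sum_congr rfl
        intro i _
        unfold nu
        apply Finset.sum_congr rfl
        intro j _
        exact h1 i j
    _ = ∑ j ∈ Finset.range p, ∑ i ∈ Finset.range p, x ^ j * (y ^ j) ^ i := Finset.sum_comm
    _ = ∑ j ∈ Finset.range p, x ^ j * nu p (y ^ j) := by
        apply Finset.sum_congr rfl
        intro j _
        unfold nu
        rw [Finset.mul_sum]
    _ = x ^ 0 * nu p (y ^ 0) := by
        apply Finset.sum_eq_single 0
        · intro j hj hj0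
          rw [hy0 j (Nat.pos_of_ne_zero hj0) (Finset.mem_range.mp hj), mul_zero]
        · intro h
          exact absurd (Finset.mem_range.mpr hpos) h
    _ = (p : Module.End ℤ V) := by
        simp [nu]

theorem semiconj_pow {x y γ : Module.End ℤ V} (hγ : γ * x = x * y * γ) (hγy : Commute γ y) (i : ℕ) :
    γ ^ i * x = (x * y ^ i) * γ ^ i := by
  induction i with
  | zero => simp
  | succ i ih =>
    have h2 : γ * y ^ i = y ^ i * γ := (hγy.pow_right i).eq
    calc γ ^ (i + 1) * x = γ * (γ ^ i * x) := by rw [pow_succ']; noncomm_ring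
      _ = γ * ((x * y ^ i) * γ ^ i) := by rw [ih]
      _ = (γ * x) * y ^ i * γ ^ i := by noncomm_ring
      _ = (x * y * γ) * y ^ i * γ ^ i := by rw [hγ]
      _ = x * y * (γ * y ^ i) * γ ^ i := by noncomm_ring
      _ = x * y * (y ^ i * γ) * γ ^ i := by rw [h2]
      _ = (x * y ^ (i + 1)) * γ ^ (i + 1) := by rw [pow_succ' y, pow_succ' γ]; noncomm_ring

theorem semiconj_nu {x y γ : Module.End ℤ V} (hγ : γ * x = x * y * γ) (hγy : Commute γ y) (i : ℕ) :
    γ ^ i * nu p x = nu p (x * y ^ i) * γ ^ i := by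
  unfold nu
  rw [Finset.mul_sum, Finset.sum_mul]
  apply Finset.sum_congr rfl
  intro j _
  have h : SemiconjBy (γ ^ i) x (x * y ^ i) := semiconj_pow hγ hγy i
  exact (h.pow_right j).eq

theorem eq_zero_of_nu (hpos : 0 < p) (hcop : ∀ v : V, (p : ℕ) • v = 0 → v = 0) {x y γ : Module.End ℤ V}
    (hc : Commute x y) (hy0 : ∀ j, 0 < j → j < p → nu p (y ^ j) = 0)
    (hγ : γ * x = x * y * γ) (hγy : Commute γ y) {v : V} (hv : γ v = v) (hx : nu p x v = 0) : v = 0 := by
  apply hcop
  have hi : ∀ i : ℕ, (γ ^ i) v = v := by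
    intro i
    induction i with
    | zero => simp
    | succ i ih => rw [pow_succ, Module.End.mul_apply, hv, ih]
  have h1 : ((p : Module.End ℤ V)) v = 0 := by
    rw [← sum_nu hpos hc hy0, LinearMap.sum_apply]
    apply Finset.sum_eq_zero
    intro i _
    have h2 := LinearMap.congr_fun (semiconj_nu (p := p) hγ hγy i) v
    simp only [Module.End.mul_apply] at h2
    rw [hi i, hx, map_zero] at h2
    exact h2.symm
  simpa [Module.End.natCast_apply] using h1

theorem nu_of_fix {x : Module.End ℤ V} {w : V} (hw : x w = w) : nu p x w = (p : ℕ) • w := by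
  unfold nu
  rw [LinearMap.sum_apply]
  have hj : ∀ j : ℕ, (x ^ j) w = w := by
    intro j
    induction j with
    | zero => simp
    | succ j ih => rw [pow_succ, Module.End.mul_apply, hw, ih]
  simp [hj]

theorem nu_of_moved {x y : Module.End ℤ V} (hc : Commute x y) (hyp : y ^ p = 1) {k : ℕ} (hk : k ≤ p)
    (hs : nu p (y ^ (p - k)) = 0) {w : V} (hw : (x * y ^ k) w = w) : nu p x w = 0 := by
  set s := y ^ (p - k) with hsdef
  have hsk : s * y ^ k = 1 := by
    rw [hsdef, ← pow_add, Nat.sub_add_cancel hk, hyp]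
  have hxs : x w = s w := by
    have h1 : s ((x * y ^ k) w) = x w := by
      have h2 : s * (x * y ^ k) = x := by
        have h3 : Commute s x := ((hc.pow_right (p - k)).symm)
        calc s * (x * y ^ k) = (s * x) * y ^ k := by noncomm_ring
          _ = (x * s) * y ^ k := by rw [h3.eq]
          _ = x * (s * y ^ k) := by noncomm_ring
          _ = x := by rw [hsk, mul_one]
      exact LinearMap.congr_fun h2 w
    rw [← h1, hw]
  have hj : ∀ j : ℕ, (x ^ j) w = (s ^ j) w := by
    intro j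
    induction j with
    | zero => simp
    | succ j ih =>
      have h3 : Commute s x := ((hc.pow_right (p - k)).symm)
      rw [pow_succ', Module.End.mul_apply, ih, ← Module.End.mul_apply, ← (h3.pow_left j).eq,
        Module.End.mul_apply, hxs, ← Module.End.mul_apply, ← pow_succ]
  have h4 : nu p x w = nu p s w := by
    unfold nu
    rw [LinearMap.sum_apply, LinearMap.sum_apply]
    exact Finset.sum_congr rfl (fun j _ => hj j)
  rw [h4, hs]
  rfl

/-- The fixed points of `t`. -/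
abbrev fixS (t : Module.End ℤ V) : Submodule ℤ V := LinearMap.ker (t - 1)

theorem mem_fixS {t : Module.End ℤ V} {v : V} : v ∈ fixS t ↔ t v = v := by
  rw [LinearMap.mem_ker, LinearMap.sub_apply, Module.End.one_apply, sub_eq_zero]

theorem core [Finite V] (hp3 : 3 ≤ p) (hcop : ∀ v : V, (p : ℕ) • v = 0 → v = 0)
    (x y y' γ δ : Module.End ℤ V) (hc : Commute x y) (hc' : Commute x y')
    (hxp : x ^ p = 1) (hyp : y ^ p = 1) (hy'p : y' ^ p = 1)
    (hy : ∀ j, 0 < j → j < p → ∀ v, (y ^ j) v = v → v = 0)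
    (hy' : ∀ j, 0 < j → j < p → ∀ v, (y' ^ j) v = v → v = 0)
    (hγ : γ * x = x * y * γ) (hγy : Commute γ y)
    (hδ : δ * x = x * y' * δ) (hδy : Commute δ y')
    (hγinj : Function.Injective γ)
    (hsum : ∀ v, ∃ a b, γ a = a ∧ δ b = b ∧ v = a + b) : ∀ v : V, v = 0 := by
  have hpos : 0 < p := by omega
  have hnu : ∀ j, 0 < j → j < p → nu p (y ^ j) = 0 := by
    intro j hj hjp
    apply nu_eq_zero
    · rw [← pow_mul, mul_comm, pow_mul, hyp, one_pow]
    · exact hy j hj hjp
  have hnu' : ∀ j, 0 < j → j < p → nu p (y' ^ j) = 0 := by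
    intro j hj hjp
    apply nu_eq_zero
    · rw [← pow_mul, mul_comm, pow_mul, hy'p, one_pow]
    · exact hy' j hj hjp
  -- the three fixed point groups
  let W₀ := fixS x
  let W₁ := fixS (x * y)
  let W₂ := fixS (x * y ^ 2)
  have hmap0 : ∀ w : V, x w = w → (x * y) (γ w) = γ w := by
    intro w hw
    have := LinearMap.congr_fun hγ w
    simp only [Module.End.mul_apply] at this
    rw [hw] at this
    simpa [Module.End.mul_apply] using this.symm
  have hγ2 : γ * (x * y) = (x * y) * y * γ := by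
    calc γ * (x * y) = (γ * x) * y := by noncomm_ring
      _ = (x * y * γ) * y := by rw [hγ]
      _ = x * y * (γ * y) := by noncomm_ring
      _ = x * y * (y * γ) := by rw [hγy.eq]
      _ = (x * y) * y * γ := by noncomm_ring
  have hmap1 : ∀ w : V, (x * y) w = w → (x * y ^ 2) (γ w) = γ w := by
    intro w hw
    have := LinearMap.congr_fun hγ2 w
    simp only [Module.End.mul_apply] at this
    have h2 : x (y w) = w := hw
    rw [h2] at this
    have h3 : (x * y ^ 2) (γ w) = x (y (y (γ w))) := by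
      rw [pow_two]; simp [Module.End.mul_apply]
    rw [h3]
    exact this.symm
  have hc01 : Nat.card W₀ ≤ Nat.card W₁ := by
    let f : W₀ → W₁ := fun w => ⟨γ w, mem_fixS.2 (hmap0 w (mem_fixS.1 w.2))⟩
    apply Nat.card_le_card_of_injective f
    intro a b hab
    exact Subtype.ext (hγinj (congrArg Subtype.val hab))
  have hc12 : Nat.card W₁ ≤ Nat.card W₂ := by
    let f : W₁ → W₂ := fun w => ⟨γ w, mem_fixS.2 (hmap1 w (mem_fixS.1 w.2))⟩
    apply Nat.card_le_card_of_injective f
    intro a b hab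
    exact Subtype.ext (hγinj (congrArg Subtype.val hab))
  -- independence
  have hcy : Commute (x * y) y := hc.mul_left (Commute.refl y)
  have hindep : ∀ (a b c : V), x a = a → (x * y) b = b → (x * y ^ 2) c = c → a + b + c = 0 → a = 0 ∧ b = 0 ∧ c = 0 := by
    intro a b c ha hb hc0 h
    have h1 : nu p x b = 0 := by
      apply nu_of_moved hc hyp (k := 1) (by omega) (hnu _ (by omega) (by omega))
      simpa using hb
    have h2 : nu p x c = 0 :=
      nu_of_moved hc hyp (k := 2) (by omega) (hnu _ (by omega) (by omega)) hc0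
    have h3 : (p : ℕ) • a = 0 := by
      have := congrArg (nu p x) h
      rw [map_add, map_add, h1, h2, nu_of_fix ha, map_zero] at this
      simpa using this
    have ha0 := hcop a h3
    subst ha0
    rw [zero_add] at h
    have h4 : nu p (x * y) c = 0 := by
      apply nu_of_moved hcy hyp (k := 1) (by omega) (hnu _ (by omega) (by omega))
      have : (x * y * y ^ 1) = x * y ^ 2 := by rw [pow_one, pow_two]; noncomm_ring
      rw [this]; exact hc0
    have h5 : (p : ℕ) • b = 0 := by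
      have := congrArg (nu p (x * y)) h
      rw [map_add, h4, nu_of_fix hb, map_zero] at this
      simpa using this
    have hb0 := hcop b h5
    subst hb0
    rw [zero_add] at h
    exact ⟨rfl, rfl, h⟩
  have hlow : Nat.card W₀ * Nat.card W₁ * Nat.card W₂ ≤ Nat.card V := by
    rw [← Nat.card_prod, ← Nat.card_prod]
    let f : (W₀ × W₁) × W₂ → V := fun t => (t.1.1 : V) + t.1.2 + t.2
    apply Nat.card_le_card_of_injective f
    rintro ⟨⟨a, b⟩, c⟩ ⟨⟨a', b'⟩, c'⟩ hab
    have hab' : (a : V) + b + c = a' + b' + c' := hab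
    have h0 : ((a : V) - a') + (b - b') + (c - c') = 0 := by
      rw [sub_add_sub_comm, sub_add_sub_comm, sub_eq_zero]; exact hab'
    obtain ⟨h1, h2, h3⟩ := hindep _ _ _ (mem_fixS.1 (W₀.sub_mem a.2 a'.2)) (mem_fixS.1 (W₁.sub_mem b.2 b'.2))
      (mem_fixS.1 (W₂.sub_mem c.2 c'.2)) h0
    have e1 : a = a' := Subtype.ext (sub_eq_zero.mp h1)
    have e2 : b = b' := Subtype.ext (sub_eq_zero.mp h2)
    have e3 : c = c' := Subtype.ext (sub_eq_zero.mp h3)
    rw [e1, e2, e3]
  -- upper bounds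
  let Cγ := fixS γ
  let Cδ := fixS δ
  have hupγ : Nat.card Cγ ≤ Nat.card W₀ := by
    let f : Cγ → W₀ := fun a => ⟨nu p x a, mem_fixS.2 (nu_fix hxp a)⟩
    apply Nat.card_le_card_of_injective f
    intro a b hab
    have h1 : nu p x ((a : V) - b) = 0 := by
      rw [map_sub, sub_eq_zero]; exact congrArg Subtype.val hab
    have h2 := eq_zero_of_nu hpos hcop hc hnu hγ hγy (mem_fixS.1 (Cγ.sub_mem a.2 b.2)) h1
    exact Subtype.ext (sub_eq_zero.mp h2)
  have hupδ : Nat.card Cδ ≤ Nat.card W₀ := by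
    let f : Cδ → W₀ := fun a => ⟨nu p x a, mem_fixS.2 (nu_fix hxp a)⟩
    apply Nat.card_le_card_of_injective f
    intro a b hab
    have h1 : nu p x ((a : V) - b) = 0 := by
      rw [map_sub, sub_eq_zero]; exact congrArg Subtype.val hab
    have h2 := eq_zero_of_nu hpos hcop hc' hnu' hδ hδy (mem_fixS.1 (Cδ.sub_mem a.2 b.2)) h1
    exact Subtype.ext (sub_eq_zero.mp h2)
  have hupV : Nat.card V ≤ Nat.card Cγ * Nat.card Cδ := by
    rw [← Nat.card_prod]
    let f : Cγ × Cδ → V := fun t => (t.1 : V) + t.2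
    apply Nat.card_le_card_of_surjective f
    intro v
    obtain ⟨a, b, ha, hb, rfl⟩ := hsum v
    exact ⟨(⟨a, mem_fixS.2 ha⟩, ⟨b, mem_fixS.2 hb⟩), rfl⟩
  -- the size comparison
  have hW : Nat.card W₀ ≤ 1 := by
    by_contra hgt
    have hgt' : 1 < Nat.card W₀ := by omega
    have h1 : Nat.card W₀ ^ 3 ≤ Nat.card W₀ ^ 2 := by
      calc Nat.card W₀ ^ 3 = Nat.card W₀ * Nat.card W₀ * Nat.card W₀ := by ring
        _ ≤ Nat.card W₀ * Nat.card W₁ * Nat.card W₂ :=
            Nat.mul_le_mul (Nat.mul_le_mul le_rfl hc01) (hc01.trans hc12)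
        _ ≤ Nat.card V := hlow
        _ ≤ Nat.card Cγ * Nat.card Cδ := hupV
        _ ≤ Nat.card W₀ * Nat.card W₀ := Nat.mul_le_mul hupγ hupδ
        _ = Nat.card W₀ ^ 2 := by ring
    have h2 : Nat.card W₀ ^ 2 < Nat.card W₀ ^ 3 := Nat.pow_lt_pow_right hgt' (by norm_num)
    omega
  have hW0 : ∀ w : V, x w = w → w = 0 := by
    intro w hw
    have hsub : Subsingleton W₀ := by
      exact Finite.card_le_one_iff_subsingleton.1 hW
    have : (⟨w, mem_fixS.2 hw⟩ : W₀) = 0 := Subsingleton.elim _ _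
    exact congrArg Subtype.val this
  have hxnu : ∀ v, nu p x v = 0 := fun v => hW0 _ (nu_fix hxp v)
  intro v
  obtain ⟨a, b, ha, hb, rfl⟩ := hsum v
  rw [eq_zero_of_nu hpos hcop hc hnu hγ hγy ha (hxnu a), eq_zero_of_nu hpos hcop hc' hnu' hδ hδy hb (hxnu b), add_zero]

end core

section plane

universe u
variable {R : Type u} [Group R] [Finite R] {p : ℕ} [hp : Fact p.Prime]

/-- A noncyclic `p`-group, `p` odd, has a normal elementary abelian subgroup of order `p²`. -/
theorem normal_plane (hp2 : p ≠ 2) (hR : IsPGroup p R) (hnc : ¬ IsCyclic R) :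
    ∃ A : Subgroup R, A.Normal ∧ (∀ a ∈ A, ∀ b ∈ A, a * b = b * a) ∧ (∀ a ∈ A, a ^ p = 1) ∧ Nat.card A = p ^ 2 := by
  classical
  have hpp : p.Prime := hp.out
  -- a maximal normal abelian subgroup
  let S : Set (Subgroup R) := {B | B.Normal ∧ ∀ a ∈ B, ∀ b ∈ B, a * b = b * a}
  have hS : (⊥ : Subgroup R) ∈ S := by
    refine ⟨inferInstance, ?_⟩
    intro a ha b hb
    rw [Subgroup.mem_bot] at ha hb
    rw [ha, hb]
  obtain ⟨B, hB, hBmax⟩ := WellFounded.has_min
    (measure (fun X : Subgroup R => Nat.card R - Nat.card X)).wf S ⟨⊥, hS⟩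
  obtain ⟨hBn, hBab⟩ := hB
  by_cases hBc : IsCyclic B
  swap
  · obtain ⟨A, -, hA1, hA2, hA3, hA4⟩ :=
      Cfsg.Agent.Lib.OddPGroup.exists_normal_p2_of_abelian hp2 hR B hBn hBab hBc
    exact ⟨A, hA1, hA2, hA3, hA4⟩
  -- `B` is cyclic: pass to a subgroup `T` with `|T : B| = p`
  have hBtop : B ≠ ⊤ := by
    rintro rfl
    apply hnc
    exact isCyclic_of_surjective (Subgroup.topEquiv (G := R)).toMonoidHom (Subgroup.topEquiv (G := R)).surjective
  have := hBn
  have hQ : IsPGroup p (R ⧸ B) := hR.to_quotient B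
  have htop : (⊤ : Subgroup (R ⧸ B)) ≠ ⊥ := by
    intro h
    apply hBtop
    rw [eq_top_iff]
    intro x _
    have h1 : (x : R ⧸ B) ∈ (⊤ : Subgroup (R ⧸ B)) := Subgroup.mem_top _
    rw [h, Subgroup.mem_bot] at h1
    exact (QuotientGroup.eq_one_iff x).mp h1
  obtain ⟨w, -, hw1, hwc⟩ := Cfsg.Agent.Lib.OddPGroup.exists_central_of_normal hQ ⊤ inferInstance htop
  -- an element of order `p`
  obtain ⟨k, hk⟩ := (IsPGroup.iff_orderOf.mp hQ) w
  have hk0 : k ≠ 0 := by
    rintro rfl
    rw [pow_zero, orderOf_eq_one_iff] at hk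
    exact hw1 hk
  obtain ⟨k', rfl⟩ := Nat.exists_eq_succ_of_ne_zero hk0
  set z := w ^ (p ^ k') with hz
  have hzo : orderOf z = p := by
    rw [hz, orderOf_pow_of_dvd (pow_pos hpp.pos _).ne' (by rw [hk]; exact pow_dvd_pow _ (Nat.le_succ k')), hk,
      Nat.pow_div (Nat.le_succ k') hpp.pos]
    simp
  have hzc : z ∈ Subgroup.center (R ⧸ B) := (Subgroup.center (R ⧸ B)).pow_mem hwc _
  let Z₁ : Subgroup (R ⧸ B) := Subgroup.zpowers z
  have hZ₁n : Z₁.Normal := by
    have : Z₁ ≤ Subgroup.center (R ⧸ B) := by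
      rw [Subgroup.zpowers_le]; exact hzc
    constructor
    intro n hn g
    have h2 := Subgroup.mem_center_iff.1 (this hn) g
    rw [h2, mul_inv_cancel_right]
    exact hn
  let T : Subgroup R := Z₁.comap (QuotientGroup.mk' B)
  have hBT : B ≤ T := by
    intro x hx
    show (QuotientGroup.mk' B) x ∈ Z₁
    have : (QuotientGroup.mk' B) x = 1 := (QuotientGroup.eq_one_iff x).mpr hx
    rw [this]; exact Z₁.one_mem
  have hTn : T.Normal := Subgroup.Normal.comap hZ₁n _
  have hi : B.relIndex T = p := by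
    have h1 : B = (⊥ : Subgroup (R ⧸ B)).comap (QuotientGroup.mk' B) := by
      rw [MonoidHom.comap_bot, QuotientGroup.ker_mk']
    have h2 : ((⊥ : Subgroup (R ⧸ B)).comap (QuotientGroup.mk' B)).relIndex T = p := by
      rw [Subgroup.relIndex_comap, Subgroup.map_comap_eq_self_of_surjective (QuotientGroup.mk'_surjective B),
        Subgroup.relIndex_bot_left, Nat.card_zpowers, hzo]
    rwa [← h1] at h2
  have hBneT : B ≠ T := by
    intro h
    rw [← h, Subgroup.relIndex_self] at hi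
    exact hpp.one_lt.ne hi
  have hlt : B < T := lt_of_le_of_ne hBT hBneT
  have hTna : ¬ (∀ a ∈ T, ∀ b ∈ T, a * b = b * a) := by
    intro hab
    apply hBmax T ⟨hTn, hab⟩
    show Nat.card R - Nat.card T < Nat.card R - Nat.card B
    have h1 : Nat.card B < Nat.card T := Set.ncard_lt_ncard (by exact hlt) (Set.toFinite _)
    have h2 : Nat.card T ≤ Nat.card R := Nat.le_of_dvd Nat.card_pos (Subgroup.card_subgroup_dvd_card T)
    omega
  have hTc : ¬ IsCyclic T := by
    intro hc
    apply hTna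
    intro a ha b hb
    have := (IsCyclic.isMulCommutative (α := T)).is_comm.comm ⟨a, ha⟩ ⟨b, hb⟩
    exact congrArg Subtype.val this
  obtain ⟨A, hA1, hA2, hA3⟩ := Cfsg.Agent.Lib.OmegaCyc2.omega_of_relIndex hp2 hR T B hBT hBc hi hTc
  refine ⟨A, ?_, hA2, fun a ha => ((hA1 a).1 ha).2, hA3⟩
  constructor
  intro n hn g
  rw [hA1] at hn ⊢
  refine ⟨hTn.conj_mem n hn.1 g, ?_⟩
  rw [conj_pow, hn.2]
  simp

theorem exists_aza (hp2 : p ≠ 2) (hR : IsPGroup p R) (hnc : ¬ IsCyclic R) :
    ∃ a z : R, z ≠ 1 ∧ z ^ p = 1 ∧ z ∈ Subgroup.center R ∧ a ^ p = 1 ∧ a ∉ Subgroup.zpowers z ∧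
      ∀ g : R, g * a * g⁻¹ * a⁻¹ ∈ Subgroup.zpowers z := by
  classical
  have hpp : p.Prime := hp.out
  obtain ⟨A, hAn, hAab, hAe, hAc⟩ := normal_plane hp2 hR hnc
  have hAne : A ≠ ⊥ := by
    rintro rfl
    simp at hAc
    have := hpp.one_lt
    have h2 : 1 < p ^ 2 := Nat.one_lt_pow (by norm_num) this
    omega
  obtain ⟨z, hzA, hz1, hzc⟩ := Cfsg.Agent.Lib.OddPGroup.exists_central_of_normal hR A hAn hAne
  have hzp : z ^ p = 1 := hAe z hzA
  let Q : Subgroup R := Subgroup.zpowers z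
  have hQn : Q.Normal := by
    have : Q ≤ Subgroup.center R := by
      rw [Subgroup.zpowers_le]; exact hzc
    constructor
    intro n hn g
    have h2 := Subgroup.mem_center_iff.1 (this hn) g
    rw [h2, mul_inv_cancel_right]
    exact hn
  have hQcard : Nat.card Q = p := by
    rw [Nat.card_zpowers]; exact orderOf_eq_prime hzp hz1
  have hQq : IsPGroup p (R ⧸ Q) := hR.to_quotient Q
  let N : Subgroup (R ⧸ Q) := A.map (QuotientGroup.mk' Q)
  have hNn : N.Normal := Subgroup.Normal.map hAn _ (QuotientGroup.mk'_surjective Q)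
  have hNne : N ≠ ⊥ := by
    intro h
    have hle : A ≤ Q := by
      intro x hx
      have : (QuotientGroup.mk' Q) x ∈ N := ⟨x, hx, rfl⟩
      rw [h, Subgroup.mem_bot] at this
      exact (QuotientGroup.eq_one_iff x).mp this
    have := Subgroup.card_le_of_le hle
    rw [hAc, hQcard] at this
    have h3 := hpp.two_le
    nlinarith
  obtain ⟨w, hwN, hw1, hwc⟩ := Cfsg.Agent.Lib.OddPGroup.exists_central_of_normal hQq N hNn hNne
  obtain ⟨a, ha, rfl⟩ := hwN
  refine ⟨a, z, hz1, hzp, hzc, hAe a ha, ?_, ?_⟩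
  · intro h
    apply hw1
    exact (QuotientGroup.eq_one_iff a).mpr h
  · intro g
    have h1 := Subgroup.mem_center_iff.1 hwc (QuotientGroup.mk' Q g)
    have h2 : (QuotientGroup.mk' Q) (g * a * g⁻¹ * a⁻¹) = 1 := by
      simp only [map_mul, map_inv]
      rw [h1]
      group
    exact (QuotientGroup.eq_one_iff _).mp h2

end plane

section core2
universe u
variable {W : Type u} [CommGroup W] [Finite W] {p : ℕ} [hp : Fact p.Prime]

/-- Automorphisms as endomorphisms of the `ℤ`-module `Additive W`. -/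
def toE : MulAut W →* Module.End ℤ (Additive W) where
  toFun g := (MonoidHom.toAdditive (g : W →* W)).toIntLinearMap
  map_one' := rfl
  map_mul' _ _ := rfl

theorem core2 (hp3 : 3 ≤ p) (hcop' : ∀ v : W, v ^ p = 1 → v = 1)
    (Γ : Subgroup (MulAut W)) (hΓ : IsPGroup p Γ)
    (C D : Set (MulAut W)) (hC : Subgroup.closure C = Γ) (hD : Subgroup.closure D = Γ) (hne : Γ ≠ ⊥)
    (H1 : ∀ Q : Subgroup (MulAut W), Q ≤ Γ → Q ≠ ⊥ → (∀ g ∈ Γ, ∀ q ∈ Q, g * q * g⁻¹ ∈ Q) →
      ∀ v, (∀ q ∈ Q, q v = v) → v = 1)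
    (H2 : ∀ c ∈ C, ∀ d ∈ D, ∀ v, ∃ a b, c a = a ∧ d b = b ∧ v = a * b) : ∀ v : W, v = 1 := by
  classical
  have hcop : ∀ v : Additive W, (p : ℕ) • v = 0 → v = 0 := fun v hv => congrArg Additive.ofMul (hcop' v.toMul hv)
  have hpp : p.Prime := hp.out
  have hp2 : p ≠ 2 := by omega
  have hpos : 0 < p := hpp.pos
  -- fixed points under zpowers
  have hzp_fix : ∀ (e : MulAut W) (v : W), e v = v → ∀ q ∈ Subgroup.zpowers e, q v = v := by
    intro e v hv q hq
    have h1 : e ∈ MulAction.stabilizer (MulAut W) v := by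
      rw [MulAction.mem_stabilizer_iff]
      exact hv
    have h2 : Subgroup.zpowers e ≤ MulAction.stabilizer (MulAut W) v := Subgroup.zpowers_le.2 h1
    exact MulAction.mem_stabilizer_iff.1 (h2 hq)
  -- elements with normal cyclic subgroups are fixed point free
  have hnorm : ∀ e ∈ Γ, e ≠ 1 → (∀ g ∈ Γ, g * e = e * g) → ∀ v, e v = v → v = 1 := by
    intro e he h1 hc v hv
    apply H1 (Subgroup.zpowers e) (Subgroup.zpowers_le.2 he) (by simpa using h1) _ v (hzp_fix e v hv)
    intro g hg q hq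
    obtain ⟨k, rfl⟩ := Subgroup.mem_zpowers_iff.1 hq
    have h2 : Commute g e := hc g hg
    rw [(h2.zpow_right k).eq, mul_inv_cancel_right]
    exact hq
  have hCΓ : ∀ c ∈ C, c ∈ Γ := fun c hc => hC ▸ Subgroup.subset_closure hc
  have hDΓ : ∀ c ∈ D, c ∈ Γ := fun c hc => hD ▸ Subgroup.subset_closure hc
  have hexS : ∀ S : Set (MulAut W), Subgroup.closure S = Γ → ∃ c ∈ S, c ≠ 1 := by
    intro S hS
    by_contra hno
    push Not at hno
    apply hne
    rw [← hS, Subgroup.closure_eq_bot_iff]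
    intro c hc
    exact hno c hc
  by_cases hab : ∀ a ∈ Γ, ∀ b ∈ Γ, a * b = b * a
  · obtain ⟨c, hc, hc1⟩ := hexS C hC
    obtain ⟨d, hd, hd1⟩ := hexS D hD
    intro v
    obtain ⟨a, b, ha, hb, rfl⟩ := H2 c hc d hd v
    have h1 := hnorm c (hCΓ c hc) hc1 (fun g hg => hab g hg c (hCΓ c hc)) a ha
    have h2 := hnorm d (hDΓ d hd) hd1 (fun g hg => hab g hg d (hDΓ d hd)) b hb
    rw [h1, h2, mul_one]
  have hnc : ¬ IsCyclic Γ := by
    intro hc
    apply hab
    intro a ha b hb
    have := (IsCyclic.isMulCommutative (α := Γ)).is_comm.comm ⟨a, ha⟩ ⟨b, hb⟩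
    exact congrArg Subtype.val this
  obtain ⟨a, z, hz1, hzp, hzc, hap, haz, hcomm⟩ := exists_aza hp2 hΓ hnc
  let E : Γ →* Module.End ℤ (Additive W) := toE.comp Γ.subtype
  have hzo : orderOf z = p := orderOf_eq_prime hzp hz1
  have hcz : ∀ (g : Γ) (m : ℕ), g * z ^ m = z ^ m * g := by
    intro g m
    have h1 : Commute g z := (Subgroup.mem_center_iff.1 hzc g)
    exact (h1.pow_right m).eq
  have hcen' : ∀ e : Γ, e ∈ Subgroup.center Γ → e ≠ 1 → ∀ v, E e v = v → v = 0 := by
    intro e he h1 v hv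
    refine congrArg Additive.ofMul (hnorm (e : MulAut W) e.2 (fun h => h1 (Subtype.ext h)) ?_ v.toMul hv)
    intro g hg
    exact congrArg Subtype.val (Subgroup.mem_center_iff.1 he ⟨g, hg⟩)
  -- the data for a power of `z`
  have hy_data : ∀ m : ℕ, z ^ m ≠ 1 →
      (E (z ^ m)) ^ p = 1 ∧ ∀ j, 0 < j → j < p → ∀ v, ((E (z ^ m)) ^ j) v = v → v = 0 := by
    intro m hm
    have hzmp : (z ^ m) ^ p = 1 := by rw [← pow_mul, mul_comm, pow_mul, hzp, one_pow]
    have hzmo : orderOf (z ^ m) = p := orderOf_eq_prime hzmp hm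
    refine ⟨by rw [← map_pow, hzmp, map_one], ?_⟩
    intro j hj hjp v hv
    rw [← map_pow] at hv
    refine hcen' _ ?_ ?_ v hv
    · exact (Subgroup.center Γ).pow_mem ((Subgroup.center Γ).pow_mem hzc m) j
    · exact pow_ne_one_of_lt_orderOf hj.ne' (by rw [hzmo]; exact hjp)
  by_cases hacen : a ∈ Subgroup.center Γ
  · -- `a` central
    have hy0 : ∀ j, 0 < j → j < p → nu p ((E z) ^ j) = 0 := by
      intro j hj hjp
      have h1 := hy_data 1 (by rwa [pow_one])
      rw [pow_one] at h1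
      apply nu_eq_zero
      · rw [← pow_mul, mul_comm, pow_mul, h1.1, one_pow]
      · exact h1.2 j hj hjp
    have hCom : Commute (E a) (E z) := by
      show E a * E z = E z * E a
      rw [← map_mul, ← map_mul, (Subgroup.mem_center_iff.1 hzc a).symm]
    have hsum := sum_nu hpos hCom hy0
    have hzero : ∀ i ∈ Finset.range p, nu p (E a * (E z) ^ i) = 0 := by
      intro i _
      have he : a * z ^ i ∈ Subgroup.center Γ := (Subgroup.center Γ).mul_mem hacen ((Subgroup.center Γ).pow_mem hzc i)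
      have hEe : E a * (E z) ^ i = E (a * z ^ i) := by rw [map_mul, map_pow]
      rw [hEe]
      apply nu_eq_zero
      · rw [← map_pow]
        have hc2 : Commute a (z ^ i) := ((Subgroup.mem_center_iff.1 hacen (z ^ i))).symm
        rw [hc2.mul_pow, hap, one_mul, ← pow_mul, mul_comm, pow_mul, hzp, one_pow, map_one]
      · apply hcen' _ he
        intro h
        apply haz
        have : a = (z ^ i)⁻¹ := eq_inv_of_mul_eq_one_left h
        rw [this]
        exact (Subgroup.zpowers z).inv_mem ((Subgroup.zpowers z).pow_mem (Subgroup.mem_zpowers z) i)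
    rw [Finset.sum_eq_zero hzero] at hsum
    intro v
    apply hcop'
    have := LinearMap.congr_fun hsum (Additive.ofMul v)
    rw [LinearMap.zero_apply, Module.End.natCast_apply] at this
    exact congrArg Additive.toMul this.symm
  -- `a` not central
  have hdata : ∀ c : Γ, c * a ≠ a * c → ∃ m : ℕ, z ^ m ≠ 1 ∧ c * a = a * z ^ m * c := by
    intro c hc
    have h1 := hcomm c
    rw [← mem_powers_iff_mem_zpowers, Submonoid.mem_powers_iff] at h1
    obtain ⟨m, hm⟩ := h1
    refine ⟨m, ?_, ?_⟩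
    · intro h
      rw [h] at hm
      apply hc
      have h2 : c * a * c⁻¹ = a := by
        have := hm.symm
        exact mul_inv_eq_one.mp this
      calc c * a = (c * a * c⁻¹) * c := by group
        _ = a * c := by rw [h2]
    · have h3 : z ^ m * a = a * z ^ m := (Subgroup.mem_center_iff.1 ((Subgroup.center Γ).pow_mem hzc m) a).symm
      calc c * a = (c * a * c⁻¹ * a⁻¹) * a * c := by group
        _ = z ^ m * a * c := by rw [hm]
        _ = a * z ^ m * c := by rw [h3]
  have hnoncomm : ∀ S : Set (MulAut W), Subgroup.closure S = Γ → ∃ c ∈ S, ∃ hc : c ∈ Γ, (⟨c, hc⟩ : Γ) * a ≠ a * ⟨c, hc⟩ := by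
    intro S hS
    by_contra hno
    push Not at hno
    apply hacen
    rw [Subgroup.mem_center_iff]
    rintro ⟨g, hg⟩
    have hSΓ : ∀ c ∈ S, c ∈ Γ := fun c hc => hS ▸ Subgroup.subset_closure hc
    have h1 : Subgroup.closure S ≤ Subgroup.centralizer ({(a : MulAut W)} : Set (MulAut W)) := by
      rw [Subgroup.closure_le]
      intro c hc
      rw [SetLike.mem_coe, Subgroup.mem_centralizer_singleton_iff]
      have := hno c hc (hSΓ c hc)
      exact congrArg Subtype.val this
    have h2 := h1 (hS ▸ hg)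
    rw [Subgroup.mem_centralizer_singleton_iff] at h2
    exact Subtype.ext h2
  obtain ⟨c, hc, hcΓ, hcn⟩ := hnoncomm C hC
  obtain ⟨d, hd, hdΓ, hdn⟩ := hnoncomm D hD
  obtain ⟨m, hm1, hm⟩ := hdata ⟨c, hcΓ⟩ hcn
  obtain ⟨n, hn1, hn⟩ := hdata ⟨d, hdΓ⟩ hdn
  obtain ⟨hy1, hy2⟩ := hy_data m hm1
  obtain ⟨hy'1, hy'2⟩ := hy_data n hn1
  have hCom : ∀ k : ℕ, Commute (E a) (E (z ^ k)) := by
    intro k
    show E a * E (z ^ k) = E (z ^ k) * E a
    rw [← map_mul, ← map_mul, hcz a k]
  have hComg : ∀ (g : Γ) (k : ℕ), Commute (E g) (E (z ^ k)) := by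
    intro g k
    show E g * E (z ^ k) = E (z ^ k) * E g
    rw [← map_mul, ← map_mul, hcz g k]
  intro v
  have hfin := core hp3 hcop (E a) (E (z ^ m)) (E (z ^ n)) (E ⟨c, hcΓ⟩) (E ⟨d, hdΓ⟩) (hCom m) (hCom n)
    (by rw [← map_pow, hap, map_one]) hy1 hy'1 hy2 hy'2
    (by rw [← map_mul, ← map_mul, ← map_mul, hm]) (hComg _ m)
    (by rw [← map_mul, ← map_mul, ← map_mul, hn]) (hComg _ n)
    (fun v w h => Additive.toMul.injective (c.injective h)) (fun v => ?_) (Additive.ofMul v)
  · exact congrArg Additive.toMul hfin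
  · obtain ⟨a', b', ha', hb', hv⟩ := H2 c hc d hd v.toMul
    exact ⟨Additive.ofMul a', Additive.ofMul b', congrArg Additive.ofMul ha', congrArg Additive.ofMul hb', congrArg Additive.ofMul hv⟩

end core2

section final
universe u
variable {G : Type u} [Group G] [Finite G]

theorem final (p : ℕ) [hp : Fact p.Prime] (hp3 : 3 ≤ p) (P₀ : Subgroup G) (hP₀ : IsPGroup p P₀) (L : Subgroup G)
    (hLcop : (Nat.card L).Coprime p)
    (hLinv : ∀ g ∈ P₀, ∀ ℓ ∈ L, g * ℓ * g⁻¹ ∈ L)
    (hLbad : ∃ g ∈ P₀, ∃ ℓ ∈ L, g * ℓ ≠ ℓ * g)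
    (hmin : ∀ L' : Subgroup G, L' ≤ L → L' ≠ L → (∀ g ∈ P₀, ∀ ℓ ∈ L', g * ℓ * g⁻¹ ∈ L') → ∀ g ∈ P₀, ∀ ℓ ∈ L', g * ℓ = ℓ * g)
    (hsol : Group.IsSolvable L)
    (C D : Set G) (hC : Subgroup.closure C = P₀) (hD : Subgroup.closure D = P₀)
    (hfact : ∀ c ∈ C, ∀ d ∈ D, ∀ x ∈ L, ∃ y ∈ L, ∃ z ∈ L, y * d = d * y ∧ z * c = c * z ∧ x = y * z) : False := by
  classical
  have hpp : p.Prime := hp.out
  let φ : P₀ →* MulAut L :=
    { toFun := fun g =>
        { toFun := fun ℓ => ⟨g * ℓ * (g : G)⁻¹, hLinv g g.2 ℓ ℓ.2⟩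
          invFun := fun ℓ => ⟨(g : G)⁻¹ * ℓ * g, by
            have := hLinv _ (P₀.inv_mem g.2) ℓ ℓ.2
            simpa using this⟩
          left_inv := fun ℓ => Subtype.ext (by
            show (g : G)⁻¹ * (g * ℓ * (g : G)⁻¹) * g = ℓ
            group)
          right_inv := fun ℓ => Subtype.ext (by
            show (g : G) * ((g : G)⁻¹ * ℓ * g) * (g : G)⁻¹ = ℓ
            group)
          map_mul' := fun a b => Subtype.ext (by
            show (g : G) * ((a : G) * b) * (g : G)⁻¹ = (g * a * (g : G)⁻¹) * (g * b * (g : G)⁻¹)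
            group) }
      map_one' := by
        ext ℓ
        simp
      map_mul' := fun a b => by
        ext ℓ
        show ((a : G) * b) * ℓ * ((a : G) * b)⁻¹ = a * (b * ℓ * (b : G)⁻¹) * (a : G)⁻¹
        group }
  have hφ : ∀ (g : P₀) (ℓ : L), ((φ g ℓ : L) : G) = g * ℓ * (g : G)⁻¹ := fun _ _ => rfl
  let τ : P₀ →* MulAut (Abelianization L) :=
    { toFun := fun g => (φ g).abelianizationCongr
      map_one' := by
        rw [map_one]
        exact abelianizationCongr_refl
      map_mul' := fun a b => by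
        rw [map_mul]
        exact (abelianizationCongr_trans (φ b) (φ a)).symm }
  let ι : L →* Abelianization L := Abelianization.of
  have hι : Function.Surjective ι := QuotientGroup.mk'_surjective _
  have hτι : ∀ (g : P₀) (ℓ : L), τ g (ι ℓ) = ι (φ g ℓ) := fun _ _ => rfl
  -- coprimality
  have hcopL : ∀ v : L, v ^ p = 1 → v = 1 := by
    intro v hv
    have h1 := orderOf_dvd_of_pow_eq_one hv
    have h2 : orderOf v ∣ Nat.card L := orderOf_dvd_natCard v
    have h3 := Nat.eq_one_of_dvd_coprimes hLcop h2 h1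
    rwa [orderOf_eq_one_iff] at h3
  have hcopW : ∀ v : Abelianization L, v ^ p = 1 → v = 1 := by
    intro v hv
    have h1 := orderOf_dvd_of_pow_eq_one hv
    have h2 : orderOf v ∣ Nat.card L :=
      (orderOf_dvd_natCard v).trans (Subgroup.card_dvd_of_surjective ι hι)
    have h3 := Nat.eq_one_of_dvd_coprimes hLcop h2 h1
    rwa [orderOf_eq_one_iff] at h3
  have hpowL : ∀ (k : ℕ) (v : L), v ^ (p ^ k) = 1 → v = 1 := by
    intro k
    induction k with
    | zero => intro v hv; simpa using hv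
    | succ k ih =>
      intro v hv
      apply ih
      apply hcopL
      rw [← pow_mul, ← pow_succ]
      exact hv
  have hpowW : ∀ (k : ℕ) (v : Abelianization L), v ^ (p ^ k) = 1 → v = 1 := by
    intro k
    induction k with
    | zero => intro v hv; simpa using hv
    | succ k ih =>
      intro v hv
      apply ih
      apply hcopW
      rw [← pow_mul, ← pow_succ]
      exact hv
  -- minimality, inside `L`
  have hminT : ∀ T : Subgroup L, T ≠ ⊤ → (∀ (g : P₀), ∀ ℓ ∈ T, φ g ℓ ∈ T) → ∀ (g : P₀), ∀ ℓ ∈ T, φ g ℓ = ℓ := by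
    intro T hT hinv g ℓ hℓ
    have h1 : T.map L.subtype ≤ L := Subgroup.map_subtype_le T
    have h2 : T.map L.subtype ≠ L := by
      intro h
      apply hT
      rw [eq_top_iff]
      intro x _
      have : (x : G) ∈ T.map L.subtype := by rw [h]; exact x.2
      obtain ⟨y, hy, hyx⟩ := this
      have : y = x := Subtype.ext hyx
      rwa [← this]
    have h3 : ∀ g ∈ P₀, ∀ ℓ ∈ T.map L.subtype, g * ℓ * g⁻¹ ∈ T.map L.subtype := by
      rintro g hg _ ⟨ℓ, hℓ, rfl⟩
      exact ⟨φ ⟨g, hg⟩ ℓ, hinv ⟨g, hg⟩ ℓ hℓ, rfl⟩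
    have h4 := hmin _ h1 h2 h3 g g.2 ℓ ⟨ℓ, hℓ, rfl⟩
    apply Subtype.ext
    rw [hφ]
    have h5 : (g : G) * ℓ = ℓ * g := h4
    rw [h5]; group
  letI : Fintype P₀ := Fintype.ofFinite _
  -- the norm
  let Nrm : Abelianization L → Abelianization L := fun v => ∏ g : P₀, τ g v
  have hNrm_mul : ∀ a b, Nrm (a * b) = Nrm a * Nrm b := by
    intro a b
    show (∏ g : P₀, τ g (a * b)) = (∏ g : P₀, τ g a) * ∏ g : P₀, τ g b
    rw [← Finset.prod_mul_distrib]
    exact Finset.prod_congr rfl (fun g _ => map_mul _ _ _)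
  have hNrm_τ : ∀ (h : P₀) v, Nrm (τ h v) = Nrm v := by
    intro h v
    show (∏ g : P₀, τ g (τ h v)) = ∏ g : P₀, τ g v
    have h1 : ∀ g : P₀, τ g (τ h v) = τ (g * h) v := by
      intro g
      rw [map_mul, MulAut.mul_apply]
    simp_rw [h1]
    exact Equiv.prod_comp (Equiv.mulRight h) (fun g => τ g v)
  have hfixP : ∀ v, (∀ g : P₀, τ g v = v) → v = 1 := by
    let T : Subgroup L :=
      { carrier := {ℓ | Nrm (ι ℓ) = 1}
        one_mem' := by
          show Nrm (ι 1) = 1
          rw [map_one]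
          exact Finset.prod_eq_one (fun g _ => map_one _)
        mul_mem' := by
          intro a b ha hb
          show Nrm (ι (a * b)) = 1
          rw [map_mul, hNrm_mul, ha, hb, one_mul]
        inv_mem' := by
          intro a ha
          show Nrm (ι a⁻¹) = 1
          have h1 := hNrm_mul (ι a) (ι a⁻¹)
          rw [← map_mul, mul_inv_cancel, map_one] at h1
          have h0 : Nrm 1 = 1 := Finset.prod_eq_one (fun g _ => map_one _)
          rw [h0, ha, one_mul] at h1
          exact h1.symm }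
    have hTinv : ∀ (g : P₀), ∀ ℓ ∈ T, φ g ℓ ∈ T := by
      intro g ℓ hℓ
      show Nrm (ι (φ g ℓ)) = 1
      rw [← hτι, hNrm_τ]
      exact hℓ
    have hTtop : T = ⊤ := by
      by_contra hT
      have hcent := hminT T hT hTinv
      apply (show ∀ g ∈ P₀, ∀ ℓ ∈ L, g * ℓ = ℓ * g from ?_) |> fun hall => by
        obtain ⟨g, hg, ℓ, hℓ, hne⟩ := hLbad
        exact hne (hall g hg ℓ hℓ)
      intro g hg ℓ₀ hℓ₀
      let ℓ : L := ⟨ℓ₀, hℓ₀⟩
      let g' : P₀ := ⟨g, hg⟩
      set e : L := φ g' ℓ * ℓ⁻¹ with he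
      have heT : e ∈ T := by
        show Nrm (ι e) = 1
        have h1 := hNrm_mul (ι e) (ι ℓ)
        rw [← map_mul, he, inv_mul_cancel_right, ← hτι, hNrm_τ] at h1
        have h2 : Nrm (ι (φ g' ℓ * ℓ⁻¹)) * Nrm (ι ℓ) = 1 * Nrm (ι ℓ) := by rw [one_mul]; exact h1.symm
        exact mul_right_cancel h2
      have hefix : φ g' e = e := hcent g' e heT
      have hpow : ∀ k : ℕ, φ (g' ^ k) ℓ = e ^ k * ℓ := by
        intro k
        induction k with
        | zero => simp
        | succ k ih =>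
          have hek : φ g' (e ^ k) = e ^ k := by rw [map_pow, hefix]
          rw [pow_succ', map_mul, MulAut.mul_apply, ih, map_mul, hek]
          have h4 : φ g' ℓ = e * ℓ := by rw [he]; group
          rw [h4, pow_succ]
          group
      obtain ⟨m, hm⟩ := (IsPGroup.iff_orderOf.mp hP₀) g'
      have h5 := hpow (orderOf g')
      rw [pow_orderOf_eq_one, map_one, MulAut.one_apply, hm] at h5
      have h6 : e ^ (p ^ m) = 1 := by
        have h7 : e ^ p ^ m * ℓ = 1 * ℓ := by rw [one_mul]; exact h5.symm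
        exact mul_right_cancel h7
      have h8 : e = 1 := hpowL m e h6
      have h9 : φ g' ℓ = ℓ := by
        have := mul_inv_eq_one.mp (show φ g' ℓ * ℓ⁻¹ = 1 from he ▸ h8)
        exact this
      have h10 : g * ℓ₀ * g⁻¹ = ℓ₀ := congrArg Subtype.val h9
      calc g * ℓ₀ = (g * ℓ₀ * g⁻¹) * g := by group
        _ = ℓ₀ * g := by rw [h10]
    intro v hv
    obtain ⟨ℓ, rfl⟩ := hι v
    have h1 : ℓ ∈ T := by rw [hTtop]; trivial
    have h2 : Nrm (ι ℓ) = 1 := h1
    have h3 : Nrm (ι ℓ) = (ι ℓ) ^ (Nat.card P₀) := by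
      show (∏ g : P₀, τ g (ι ℓ)) = _
      simp_rw [hv]
      rw [Finset.prod_const, Finset.card_univ, Nat.card_eq_fintype_card]
    obtain ⟨m, hm⟩ := IsPGroup.iff_card.mp hP₀
    rw [h3, hm] at h2
    exact hpowW m _ h2
  -- the group `Γ`
  let Γ : Subgroup (MulAut (Abelianization L)) := τ.range
  have hΓ : IsPGroup p Γ := hP₀.of_surjective τ.rangeRestrict τ.rangeRestrict_surjective
  have hH1 : ∀ Q : Subgroup (MulAut (Abelianization L)), Q ≤ Γ → Q ≠ ⊥ → (∀ g ∈ Γ, ∀ q ∈ Q, g * q * g⁻¹ ∈ Q) →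
      ∀ v, (∀ q ∈ Q, q v = v) → v = 1 := by
    intro Q hQΓ hQne hQn v hv
    let T : Subgroup L :=
      { carrier := {ℓ | ∀ q ∈ Q, q (ι ℓ) = ι ℓ}
        one_mem' := fun q _ => by simp
        mul_mem' := by
          intro a b ha hb q hq
          rw [map_mul, map_mul, ha q hq, hb q hq]
        inv_mem' := by
          intro a ha q hq
          rw [map_inv, map_inv, ha q hq] }
    have hTinv : ∀ (g : P₀), ∀ ℓ ∈ T, φ g ℓ ∈ T := by
      intro g ℓ hℓ q hq
      rw [← hτι]
      have h1 : (τ g)⁻¹ * q * ((τ g)⁻¹)⁻¹ ∈ Q := hQn _ (Γ.inv_mem ⟨g, rfl⟩) q hq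
      have h2 := hℓ _ h1
      simp only [inv_inv] at h2
      have h3 := congrArg (τ g) h2
      simp only [MulAut.mul_apply] at h3
      rw [show τ g ((τ g)⁻¹ (q (τ g (ι ℓ)))) = q (τ g (ι ℓ)) from by
        rw [← MulAut.mul_apply, mul_inv_cancel, MulAut.one_apply]] at h3
      exact h3
    have hTne : T ≠ ⊤ := by
      intro h
      apply hQne
      rw [eq_bot_iff]
      intro q hq
      rw [Subgroup.mem_bot]
      ext w
      obtain ⟨ℓ, rfl⟩ := hι w
      have : ℓ ∈ T := by rw [h]; trivial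
      exact this q hq
    have hcent := hminT T hTne hTinv
    obtain ⟨ℓ, rfl⟩ := hι v
    apply hfixP
    intro g
    rw [hτι, hcent g ℓ hv]
  -- generating sets
  have hCP : ∀ S : Set G, Subgroup.closure S = P₀ → ∀ c ∈ S, c ∈ P₀ := fun S hS c hc => hS ▸ Subgroup.subset_closure hc
  let img : Set G → Set (MulAut (Abelianization L)) := fun S => {t | ∃ c ∈ S, ∃ hc : c ∈ P₀, t = τ ⟨c, hc⟩}
  have himg : ∀ S : Set G, Subgroup.closure S = P₀ → Subgroup.closure (img S) = Γ := by
    intro S hS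
    apply le_antisymm
    · rw [Subgroup.closure_le]
      rintro _ ⟨c, _, hc, rfl⟩
      exact ⟨⟨c, hc⟩, rfl⟩
    · rintro _ ⟨⟨g, hg⟩, rfl⟩
      have key : ∀ (x : G) (hx : x ∈ Subgroup.closure S) (hxP : x ∈ P₀), τ ⟨x, hxP⟩ ∈ Subgroup.closure (img S) := by
        intro x hx
        induction hx using Subgroup.closure_induction with
        | mem x hx => exact fun hxP => Subgroup.subset_closure ⟨x, hx, hxP, rfl⟩
        | one =>
          intro hxP
          have : (⟨1, hxP⟩ : P₀) = 1 := rfl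
          rw [this, map_one]
          exact Subgroup.one_mem _
        | mul a b ha hb iha ihb =>
          intro hxP
          have h1 : a ∈ P₀ := hS ▸ ha
          have h2 : b ∈ P₀ := hS ▸ hb
          have : (⟨a * b, hxP⟩ : P₀) = ⟨a, h1⟩ * ⟨b, h2⟩ := rfl
          rw [this, map_mul]
          exact Subgroup.mul_mem _ (iha h1) (ihb h2)
        | inv a ha iha =>
          intro hxP
          have h1 : a ∈ P₀ := hS ▸ ha
          have : (⟨a⁻¹, hxP⟩ : P₀) = ⟨a, h1⟩⁻¹ := rfl
          rw [this, map_inv]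
          exact Subgroup.inv_mem _ (iha h1)
      exact key g (hS ▸ hg) hg
  have hH2 : ∀ c ∈ img C, ∀ d ∈ img D, ∀ v, ∃ a b, c a = a ∧ d b = b ∧ v = a * b := by
    rintro _ ⟨c, hc, hcP, rfl⟩ _ ⟨d, hd, hdP, rfl⟩ v
    obtain ⟨ℓ, rfl⟩ := hι v
    obtain ⟨y, hy, z, hz, hyd, hzc, hxyz⟩ := hfact c hc d hd ℓ ℓ.2
    refine ⟨ι ⟨z, hz⟩, ι ⟨y, hy⟩, ?_, ?_, ?_⟩
    · rw [hτι]
      congr 1
      apply Subtype.ext
      rw [hφ]
      show c * z * c⁻¹ = z
      rw [← hzc]; group
    · rw [hτι]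
      congr 1
      apply Subtype.ext
      rw [hφ]
      show d * y * d⁻¹ = y
      rw [← hyd]; group
    · rw [mul_comm, ← map_mul]
      congr 1
      exact Subtype.ext hxyz
  -- nontriviality
  have hnt : ∃ v : Abelianization L, v ≠ 1 := by
    obtain ⟨g, hg, ℓ, hℓ, hne⟩ := hLbad
    have hℓ1 : (⟨ℓ, hℓ⟩ : L) ≠ 1 := by
      intro h
      have : ℓ = 1 := congrArg Subtype.val h
      rw [this] at hne
      simp at hne
    have : Nontrivial L := ⟨⟨_, _, hℓ1⟩⟩
    have hlt : commutator L < ⊤ := Group.IsSolvable.commutator_lt_top_of_nontrivial L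
    obtain ⟨x, -, hx⟩ := SetLike.exists_of_lt hlt
    refine ⟨ι x, ?_⟩
    intro h
    exact hx ((QuotientGroup.eq_one_iff x).mp h)
  obtain ⟨v₀, hv₀⟩ := hnt
  have hΓne : Γ ≠ ⊥ := by
    intro h
    apply hv₀
    apply hfixP
    intro g
    have : τ g ∈ Γ := ⟨g, rfl⟩
    rw [h, Subgroup.mem_bot] at this
    rw [this]; rfl
  exact hv₀ (core2 hp3 hcopW Γ hΓ (img C) (img D) (himg C hC) (himg D hD) hΓne hH1 hH2 v₀)

end final

/-- Let p ≥ 3 be prime and G a finite group with a Sylow p-subgroup P and a normal p-complement N (N normal, of order prime to p, with NP = G). Suppose P is generated by a subset C and also by a subset D, and that ⟨x c x⁻¹, d⟩ is a p-group for all x ∈ N, c ∈ C, d ∈ D. Then P centralizes N, so that G = N × P. -/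
theorem result {G : Type*} [Group G] [Finite G] (p : ℕ) [Fact p.Prime] (hp3 : 3 ≤ p) (P : Sylow p G)
    (N : Subgroup G) [N.Normal] (hN : (Nat.card N).Coprime p) (hNP : N ⊔ (P : Subgroup G) = ⊤)
    (C D : Set G) (hC : Subgroup.closure C = (P : Subgroup G)) (hD : Subgroup.closure D = (P : Subgroup G))
    (h : ∀ x ∈ N, ∀ c ∈ C, ∀ d ∈ D, IsPGroup p ↥(Subgroup.closure ({x * c * x⁻¹, d} : Set G))) :
    ⁅(P : Subgroup G), N⁆ = ⊥ := by
  classical
  have hpp : p.Prime := Fact.out
  have hP₀ : IsPGroup p (P : Subgroup G) := P.isPGroup'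
  have hinter : ∀ x, x ∈ (P : Subgroup G) → x ∈ N → x = 1 := by
    intro x hxP hxN
    obtain ⟨k, hk⟩ := (IsPGroup.iff_orderOf.mp hP₀) ⟨x, hxP⟩
    have h1 : orderOf x = p ^ k := by
      rw [← hk]
      exact (Subgroup.orderOf_mk x hxP).symm
    have h2 : orderOf x ∣ Nat.card N := by
      have := orderOf_dvd_natCard (⟨x, hxN⟩ : N)
      rwa [Subgroup.orderOf_mk] at this
    have h3 : (Nat.card N).Coprime (p ^ k) := Nat.Coprime.pow_right k hN
    have h4 := Nat.eq_one_of_dvd_coprimes h3 h2 (by rw [h1])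
    rwa [orderOf_eq_one_iff] at h4
  have hCP : ∀ c ∈ C, c ∈ (P : Subgroup G) := fun c hc => hC ▸ Subgroup.subset_closure hc
  have hDP : ∀ c ∈ D, c ∈ (P : Subgroup G) := fun c hc => hD ▸ Subgroup.subset_closure hc
  -- the family of bad subgroups
  let S : Set (Subgroup G) := {L | L ≤ N ∧ (∀ g ∈ (P : Subgroup G), ∀ ℓ ∈ L, g * ℓ * g⁻¹ ∈ L) ∧
    ∃ g ∈ (P : Subgroup G), ∃ ℓ ∈ L, g * ℓ ≠ ℓ * g}
  rw [eq_bot_iff, Subgroup.commutator_le]
  intro g₀ hg₀ n₀ hn₀
  rw [Subgroup.mem_bot, commutatorElement_def]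
  by_contra hne₀
  have hNS : N ∈ S := by
    refine ⟨le_rfl, fun g _ ℓ hℓ => Subgroup.Normal.conj_mem inferInstance ℓ hℓ g, g₀, hg₀, n₀, hn₀, ?_⟩
    intro hc
    apply hne₀
    rw [hc]; group
  obtain ⟨L, hL, hLmin⟩ := WellFounded.has_min (measure (fun X : Subgroup G => Nat.card X)).wf S ⟨N, hNS⟩
  obtain ⟨hLN, hLinv, hLbad⟩ := hL
  have hmin : ∀ L' : Subgroup G, L' ≤ L → L' ≠ L → (∀ g ∈ (P : Subgroup G), ∀ ℓ ∈ L', g * ℓ * g⁻¹ ∈ L') →
      ∀ g ∈ (P : Subgroup G), ∀ ℓ ∈ L', g * ℓ = ℓ * g := by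
    intro L' hL' hne hinv g hg ℓ hℓ
    by_contra hc
    apply hLmin L' ⟨hL'.trans hLN, hinv, g, hg, ℓ, hℓ, hc⟩
    show Nat.card L' < Nat.card L
    have hlt : L' < L := lt_of_le_of_ne hL' hne
    exact Set.ncard_lt_ncard (by exact hlt) (Set.toFinite _)
  have hLcop : (Nat.card L).Coprime p :=
    Nat.Coprime.coprime_dvd_left (Subgroup.card_dvd_of_le hLN) hN
  -- `L` is a group of prime power order, hence solvable
  have hsol : Group.IsSolvable L := by
    by_cases hr : ∃ (r : ℕ) (_ : Fact r.Prime), IsPGroup r L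
    · obtain ⟨r, hr1, hr2⟩ := hr
      have := hr2.isNilpotent
      infer_instance
    · exfalso
      let H : Subgroup L :=
        { carrier := {ℓ | ∀ g ∈ (P : Subgroup G), g * (ℓ : G) = ℓ * g}
          one_mem' := fun g _ => by simp
          mul_mem' := by
            intro a b ha hb g hg
            show g * ((a : G) * b) = ((a : G) * b) * g
            rw [← mul_assoc, ha g hg, mul_assoc, hb g hg, mul_assoc]
          inv_mem' := by
            intro a ha g hg
            show g * (a : G)⁻¹ = (a : G)⁻¹ * g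
            have := ha g hg
            rw [eq_inv_mul_iff_mul_eq, ← mul_assoc, ← this]
            group }
      have hHtop : H = ⊤ := by
        apply Cfsg.Agent.Lib.PCore.eq_top_of_forall_sylow_le
        intro r hrp
        let act : MulDistribMulAction (P : Subgroup G) L :=
          { smul := fun g ℓ => ⟨g * ℓ * (g : G)⁻¹, hLinv g g.2 ℓ ℓ.2⟩
            one_smul := fun ℓ => Subtype.ext (by
              show (1 : G) * ℓ * (1 : G)⁻¹ = ℓ
              group)
            mul_smul := fun a b ℓ => Subtype.ext (by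
              show ((a : G) * b) * ℓ * ((a : G) * b)⁻¹ = a * (b * ℓ * (b : G)⁻¹) * (a : G)⁻¹
              group)
            smul_mul := fun g a b => Subtype.ext (by
              show (g : G) * ((a : G) * b) * (g : G)⁻¹ = (g * a * (g : G)⁻¹) * (g * b * (g : G)⁻¹)
              group)
            smul_one := fun g => Subtype.ext (by
              show (g : G) * 1 * (g : G)⁻¹ = 1
              group) }
        have hcop : (Nat.card (P : Subgroup G)).Coprime (Nat.card L) := by
          obtain ⟨k, hk⟩ := IsPGroup.iff_card.mp hP₀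
          rw [hk]
          exact (Nat.Coprime.pow_right k hLcop).symm
        have hsolP : Group.IsSolvable (P : Subgroup G) := by
          have := hP₀.isNilpotent
          infer_instance
        obtain ⟨R, hR⟩ := Cfsg.Agent.Lib.CoprimeAct.exists_invariant_sylow (A := (P : Subgroup G)) (G := L) hcop (Or.inl hsolP) r
        refine ⟨R, ?_⟩
        have hmap : (R : Subgroup L).map L.subtype ≠ L := by
          intro hRL
          apply hr
          refine ⟨r, hrp, ?_⟩
          have hRtop : (R : Subgroup L) = ⊤ := by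
            rw [eq_top_iff]
            intro x _
            have : (x : G) ∈ (R : Subgroup L).map L.subtype := by rw [hRL]; exact x.2
            obtain ⟨y, hy, hyx⟩ := this
            have : y = x := Subtype.ext hyx
            rwa [← this]
          have h1 : IsPGroup r (R : Subgroup L) := R.isPGroup'
          rw [hRtop] at h1
          exact h1.of_surjective ((Subgroup.topEquiv (G := L)).toMonoidHom) (Subgroup.topEquiv (G := L)).surjective
        have hcent := hmin _ (Subgroup.map_subtype_le _) hmap (by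
          rintro g hg _ ⟨ℓ, hℓ, rfl⟩
          exact ⟨_, hR ⟨g, hg⟩ ℓ hℓ, rfl⟩)
        intro ℓ hℓ g hg
        exact hcent g hg _ ⟨ℓ, hℓ, rfl⟩
      obtain ⟨g, hg, ℓ, hℓ, hne⟩ := hLbad
      have : (⟨ℓ, hℓ⟩ : L) ∈ H := by rw [hHtop]; trivial
      exact hne (this g hg)
  -- the factorization
  have hfact : ∀ c ∈ C, ∀ d ∈ D, ∀ x ∈ L, ∃ y ∈ L, ∃ z ∈ L, y * d = d * y ∧ z * c = c * z ∧ x = y * z := by
    intro c hc d hd x hx
    have hpg := h x (hLN hx) c hc d hd
    set U : Subgroup G := Subgroup.closure ({x * c * x⁻¹, d} : Set G) with hU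
    have hNNL : (P : Subgroup G) ≤ NN L := fun g hg => mem_NN_of_forall (hLinv g hg)
    have hsyl : IsSyl p (P : Subgroup G) ((P : Subgroup G) ⊔ L) :=
      isSyl_of_le (isSyl_of_sylow P) le_sup_left le_top
    have hUle : U ≤ (P : Subgroup G) ⊔ L := by
      rw [hU, Subgroup.closure_le]
      rintro y (rfl | rfl)
      · have hxs : x ∈ (P : Subgroup G) ⊔ L := (le_sup_right : L ≤ (P : Subgroup G) ⊔ L) hx
        have hcs : c ∈ (P : Subgroup G) ⊔ L := (le_sup_left : (P : Subgroup G) ≤ (P : Subgroup G) ⊔ L) (hCP c hc)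
        exact Subgroup.mul_mem _ (Subgroup.mul_mem _ hxs hcs) (Subgroup.inv_mem _ hxs)
      · exact (le_sup_left : (P : Subgroup G) ≤ (P : Subgroup G) ⊔ L) (hDP _ hd)
    obtain ⟨w, hw, hwU⟩ := hsyl.conj U hUle hpg
    obtain ⟨q, hq, m, hm, rfl⟩ := mem_sup_of_le_NN hNNL hw
    have hmU : ∀ u ∈ U, m * u * m⁻¹ ∈ (P : Subgroup G) := by
      intro u hu
      have h1 := hwU u hu
      have h2 : m * u * m⁻¹ = q⁻¹ * (q * m * u * (q * m)⁻¹) * q := by group
      rw [h2]
      exact (P : Subgroup G).mul_mem ((P : Subgroup G).mul_mem ((P : Subgroup G).inv_mem hq) h1) hq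
    have hmN : m ∈ N := hLN hm
    have hcomm : ∀ t ∈ (P : Subgroup G), ∀ n ∈ N, n * t * n⁻¹ ∈ (P : Subgroup G) → n * t = t * n := by
      intro t ht n hn hnt
      have h1 : n * t * n⁻¹ * t⁻¹ ∈ (P : Subgroup G) := (P : Subgroup G).mul_mem hnt ((P : Subgroup G).inv_mem ht)
      have h2 : n * t * n⁻¹ * t⁻¹ ∈ N := by
        have h3 : t * n⁻¹ * t⁻¹ ∈ N := Subgroup.Normal.conj_mem inferInstance _ (N.inv_mem hn) t
        have h4 : n * t * n⁻¹ * t⁻¹ = n * (t * n⁻¹ * t⁻¹) := by group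
        rw [h4]
        exact N.mul_mem hn h3
      have h5 := hinter _ h1 h2
      have h6 : n * t * n⁻¹ = t := mul_inv_eq_one.mp h5
      calc n * t = (n * t * n⁻¹) * n := by group
        _ = t * n := by rw [h6]
    have hd1 : d ∈ U := Subgroup.subset_closure (by simp)
    have hc1 : x * c * x⁻¹ ∈ U := Subgroup.subset_closure (by simp)
    have e1 : m * d = d * m := hcomm d (hDP d hd) m hmN (hmU d hd1)
    have e2 : (m * x) * c = c * (m * x) := by
      apply hcomm c (hCP c hc) (m * x) (N.mul_mem hmN (hLN hx))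
      have := hmU _ hc1
      have h7 : m * x * c * (m * x)⁻¹ = m * (x * c * x⁻¹) * m⁻¹ := by group
      rw [h7]; exact this
    refine ⟨m⁻¹, L.inv_mem hm, m * x, L.mul_mem hm hx, ?_, e2, by group⟩
    calc m⁻¹ * d = m⁻¹ * (d * m) * m⁻¹ := by group
      _ = m⁻¹ * (m * d) * m⁻¹ := by rw [e1]
      _ = d * m⁻¹ := by group
  exact final p hp3 (P : Subgroup G) hP₀ L hLcop hLinv hLbad hmin hsol C D hC hD hfact


end Cfsg.Agent.S2277
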