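import Mathlib
import Cfsg.Statements.S4209
import Cfsg.Agent.Lib.HallPetrescu
import Cfsg.Agent.Lib.RegularP

set_option autoImplicit false
open Cfsg

namespace Cfsg.Agent.S4209

open Cfsg.Agent.Lib.HallPetrescu in
/-- A finite `p`-group of nilpotency class less than `p` (the term of index `p - 1` of the lower central series of the whole group, indexed from `0`, is trivial) is a regular `p`-group. -/
theorem result {G : Type*} [Group G] [Finite G] {p : ℕ} [Fact p.Prime] (hG : IsPGroup p G) (hcl : (⊤ : Subgroup G).lowerCentralSeries (p - 1) = ⊥) : Cfsg.IsRegularPGroup p G := by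
  have hp : p.Prime := Fact.out
  refine ⟨hG, fun a b n => ?_⟩
  set K := Subgroup.closure ({a, b} : Set G) with hK
  have ha : a ∈ K := Subgroup.subset_closure (by simp)
  have hb : b ∈ K := Subgroup.subset_closure (by simp)
  -- the class of `K` is less than `p`
  have hclK : (⊤ : Subgroup K).lowerCentralSeries (p - 1) = ⊥ := by
    have h1 := Subgroup.top_subtype_lowerCentralSeries K (p - 1)
    have h2 : K.lowerCentralSeries (p - 1) ≤ (⊤ : Subgroup G).lowerCentralSeries (p - 1) := by
      have hmono : ∀ (X Y : Subgroup G) (_ : X ≤ Y) (m : ℕ), X.lowerCentralSeries m ≤ Y.lowerCentralSeries m := by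
        intro X Y hXY m
        induction m with
        | zero => exact hXY
        | succ m ih => exact Subgroup.commutator_mono ih hXY
      exact hmono _ _ le_top _
    rw [hcl, le_bot_iff, ← h1] at h2
    exact (Subgroup.map_eq_bot_iff_of_injective _ K.subtype_injective).1 h2
  let S : Subgroup K := powerClosure p n ((⊤ : Subgroup K).lowerCentralSeries 1)
  obtain ⟨c, hc, hab⟩ := pow_mul_mem (⟨a, ha⟩ : K) ⟨b, hb⟩ (p ^ n) p hclK S (by
    intro j h2 hjp d hd
    obtain ⟨w, hw⟩ := pow_dvd_choose hp n j (by omega) hjp
    rw [hw, mul_comm, pow_mul]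
    apply Subgroup.subset_closure
    refine ⟨d ^ w, ?_, rfl⟩
    exact Subgroup.pow_mem _ (Subgroup.lowerCentralSeries_antitone _ (by omega) hd) _)
  refine ⟨(c : G), ?_, ?_⟩
  · have h1 : S.map K.subtype = powerClosure p n ⁅K, K⁆ := by
      rw [Cfsg.Agent.Lib.RegularP.map_powerClosure, Subgroup.top_subtype_lowerCentralSeries]
      rfl
    rw [← h1]
    exact ⟨c, hc, rfl⟩
  · have := congrArg K.subtype hab
    simpa using this

end Cfsg.Agent.S4209
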