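import Mathlib
import Cfsg.Statements.S0187
import Cfsg.Agent.Lib.CharBasic

set_option autoImplicit false
set_option linter.style.haveILetI false
open Cfsg

namespace Cfsg.Agent.S0187

open Cfsg.Agent.Lib.CharBasic
open scoped ComplexConjugate

/-- A finite group is commutative if and only if every irreducible complex character has degree 1. -/
theorem result {G : Type*} [Group G] [Finite G] : (∀ a b : G, a * b = b * a) ↔ ∀ χ : Cfsg.IrrCharacter G, (χ : G → ℂ) 1 = 1 := by
  classical
  haveI : Fintype G := Fintype.ofFinite G
  constructor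
  · intro hcomm χ
    obtain ⟨χ, n, ρ, hρ, rfl⟩ := χ
    haveI := hρ
    haveI : IsMulCommutative G := ⟨⟨hcomm⟩⟩
    have := Representation.IsIrreducible.finrank_eq_one_of_isMulCommutative ρ
    show ρ.character 1 = 1
    rw [Representation.char_one, this]
    simp
  · intro hdeg a b
    let δ : G → ℂ := fun g => if g = 1 then 1 else 0
    have hδ : IsClassFunction G δ := by
      intro g h
      simp only [δ]
      congr 1
      simp
    have hexp := classFunction_eq_sum hδ
    have hlin : ∀ χ : IrrCharacter G, (χ : G → ℂ) (a * b * a⁻¹ * b⁻¹) = 1 := by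
      intro χ
      obtain ⟨f, hf⟩ := exists_hom_of_degree_one (IsIrrCharacter.isCharacter χ.2) (hdeg χ)
      rw [hf]
      have : f (a * b * a⁻¹ * b⁻¹) = 1 := by
        simp only [map_mul, map_inv]
        rw [mul_comm (f a) (f b)]
        group
      rw [this]
      simp
    have hval1 := congrFun hexp (a * b * a⁻¹ * b⁻¹)
    have hval2 := congrFun hexp 1
    simp only [Finset.sum_apply, Pi.smul_apply, smul_eq_mul, hlin, mul_one] at hval1
    simp only [Finset.sum_apply, Pi.smul_apply, smul_eq_mul, hdeg, mul_one] at hval2
    have h3 : δ (a * b * a⁻¹ * b⁻¹) = δ 1 := by rw [hval1, hval2]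
    simp only [δ, if_true] at h3
    have h4 : a * b * a⁻¹ * b⁻¹ = 1 := by
      by_contra h
      rw [if_neg h] at h3
      exact zero_ne_one h3
    calc a * b = a * b * a⁻¹ * b⁻¹ * (b * a) := by group
      _ = b * a := by rw [h4, one_mul]

end Cfsg.Agent.S0187
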