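import Mathlib
import Cfsg.Statements.S4713
import Cfsg.Agent.Lib.CharCoprime
import Cfsg.Agent.Lib.CharWeight
import Cfsg.Agent.Lib.CharKernel
import Cfsg.Agent.Lib.PSolv
import Cfsg.Agent.Lib.CharClifford
import Cfsg.Agent.S0187

set_option autoImplicit false
set_option linter.style.haveILetI false
set_option linter.unusedSectionVars false
open Cfsg

namespace Cfsg.Agent.S4713

open Cfsg.Agent.Lib
open Cfsg.Agent.Lib.CharBasic
open Cfsg.Agent.Lib.CharInduction
open Cfsg.Agent.Lib.CharKernel
open Cfsg.Agent.Lib.CharCoprime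
open Cfsg.Agent.Lib.CharClifford

universe u

theorem exists_normal {G : Type*} [Group G] [Finite G] (p : ℕ) [Fact p.Prime]
    (hsolv : IsPSolvable p G) [Nontrivial G] :
    ∃ N : Subgroup G, N.Normal ∧ N ≠ ⊥ ∧ (IsPGroup p N ∨ ¬ p ∣ Nat.card N) := by
  obtain ⟨n, H, h0, hl, hm, hn, hi⟩ := hsolv
  have key : ∃ i : Fin n, H i.castSucc = ⊥ ∧ H i.succ ≠ ⊥ := by
    by_contra hcon
    push Not at hcon
    have : ∀ i : Fin (n + 1), H i = ⊥ := by
      intro i
      induction i using Fin.induction with
      | zero => exact h0
      | succ i ih => exact hcon i ih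
    have h1 := this (Fin.last n)
    rw [hl] at h1
    exact top_ne_bot h1
  obtain ⟨i, hb, hne⟩ := key
  refine ⟨H i.succ, hn _, hne, ?_⟩
  have hcard : (H i.castSucc).relIndex (H i.succ) = Nat.card (H i.succ) := by
    rw [hb, Subgroup.relIndex_bot_left]
  rcases hi i with ⟨m, hm'⟩ | hc
  · left
    exact IsPGroup.of_card (n := m) (by rw [← hcard, hm'])
  · right
    rw [← hcard]
    intro hdvd
    have := Nat.Coprime.eq_one_of_dvd hc.symm hdvd
    exact (Fact.out : p.Prime).one_lt.ne' this

/-- If `G` is `p`-solvable and all irreducible degrees are prime to `p`, then Sylow subgroups are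
normal. -/
theorem sylow_normal (p : ℕ) [hp : Fact p.Prime] : ∀ (n : ℕ) (G : Type u) [Group G] [Finite G],
    Nat.card G = n → IsPSolvable p G →
    (∀ χ : Cfsg.IrrCharacter G, ¬ p ∣ Cfsg.charDegree (χ : G → ℂ)) →
    ∀ P : Sylow p G, (P : Subgroup G).Normal := by
  intro n
  induction n using Nat.strong_induction_on with
  | _ n ih =>
    intro G _ _ hn hsolv hdeg P
    classical
    letI := Fintype.ofFinite G
    by_cases hG : Nontrivial G
    swap
    · rw [not_nontrivial_iff_subsingleton] at hG
      exact ⟨fun a ha g => by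
        have : g * a * g⁻¹ = a := Subsingleton.elim _ _
        rwa [this]⟩
    obtain ⟨N, hNn, hNb, hNcase⟩ := exists_normal p hsolv
    haveI := hNn
    -- the quotient
    let π := QuotientGroup.mk' N
    have hπ : Function.Surjective π := QuotientGroup.mk'_surjective N
    have hcardlt : Nat.card (G ⧸ N) < n := by
      have h1 := Subgroup.card_eq_card_quotient_mul_card_subgroup N
      have h2 : 1 < Nat.card N := by
        haveI : Nontrivial N := (Subgroup.nontrivial_iff_ne_bot N).2 hNb
        exact Finite.one_lt_card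
      have h3 : 0 < Nat.card (G ⧸ N) := Nat.card_pos
      rw [← hn, h1]
      nlinarith
    have hdegQ : ∀ χ : Cfsg.IrrCharacter (G ⧸ N), ¬ p ∣ Cfsg.charDegree (χ : (G ⧸ N) → ℂ) := by
      intro χ
      have h1 := isIrrCharacter_comp_of_surjective π hπ χ.2
      have h2 := hdeg ⟨_, h1⟩
      have h3 : Cfsg.charDegree ((χ : (G ⧸ N) → ℂ) ∘ π) = Cfsg.charDegree (χ : (G ⧸ N) → ℂ) := by
        simp [charDegree]
      intro h4
      apply h2
      show p ∣ Cfsg.charDegree ((χ : (G ⧸ N) → ℂ) ∘ π)
      rw [h3]
      exact h4
    let Pbar : Sylow p (G ⧸ N) := P.mapSurjective hπ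
    have hPbar : (Pbar : Subgroup (G ⧸ N)) = (P : Subgroup G).map π := Sylow.coe_mapSurjective hπ P
    have hPbarN : (Pbar : Subgroup (G ⧸ N)).Normal :=
      ih _ hcardlt (G ⧸ N) rfl (PSolv.isPSolvable_quotient hsolv N) hdegQ Pbar
    rcases hNcase with hNp | hNp'
    · -- `N` a `p`-group
      let K : Subgroup G := (Pbar : Subgroup (G ⧸ N)).comap π
      have hKn : K.Normal := hPbarN.comap π
      have hKp : IsPGroup p K := by
        apply IsPGroup.comap_of_ker_isPGroup Pbar.isPGroup' π
        rw [QuotientGroup.ker_mk']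
        exact hNp
      have hPK : (P : Subgroup G) ≤ K := by
        show (P : Subgroup G) ≤ (Pbar : Subgroup (G ⧸ N)).comap π
        rw [hPbar]
        exact Subgroup.le_comap_map _ _
      have := P.is_maximal' hKp hPK
      have h5 : K = (P : Subgroup G) := this
      rw [← h5]
      exact hKn
    · -- `N` a `p'`-group
      have hmod : ∀ (g x : G), x ∈ (P : Subgroup G) → ∃ x' ∈ (P : Subgroup G), ∃ m ∈ N,
          g * x * g⁻¹ = x' * m := by
        intro g x hx
        have h1 : π (g * x * g⁻¹) ∈ (Pbar : Subgroup (G ⧸ N)) := by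
          have h2 : π x ∈ (Pbar : Subgroup (G ⧸ N)) := by
            rw [hPbar]
            exact Subgroup.mem_map_of_mem _ hx
          have h3 := hPbarN.conj_mem _ h2 (π g)
          simpa [map_mul, map_inv] using h3
        rw [hPbar] at h1
        obtain ⟨x', hx', he⟩ := h1
        refine ⟨x', hx', x'⁻¹ * (g * x * g⁻¹), ?_, by group⟩
        have : x'⁻¹ * (g * x * g⁻¹) ∈ π.ker := by
          rw [MonoidHom.mem_ker, map_mul, map_inv, he, inv_mul_cancel]
        rwa [QuotientGroup.ker_mk'] at this
      -- `P` fixes all irreducible characters of `N`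
      have hfixθ : ∀ θ : N → ℂ, IsIrrCharacter N θ → ∀ x ∈ (P : Subgroup G),
          conjBy N hNn x θ = θ := by
        intro θ hθ
        letI : Fintype N := Fintype.ofFinite _
        have hθc := isClassFunction_of_isCharacter (IsIrrCharacter.isCharacter hθ)
        let T : Subgroup G :=
          { carrier := {g | conjBy N hNn g θ = θ}
            one_mem' := conjBy_one N hNn θ
            mul_mem' := by
              intro a b ha hb
              show conjBy N hNn (a * b) θ = θ
              rw [← conjBy_conjBy, ha, hb]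
            inv_mem' := by
              intro a ha
              show conjBy N hNn a⁻¹ θ = θ
              have h1 : conjBy N hNn a (conjBy N hNn a⁻¹ θ) = θ := by
                rw [conjBy_conjBy]
                simp [conjBy_one]
              have ha' : conjBy N hNn a θ = θ := ha
              have h2 : conjBy N hNn a⁻¹ (conjBy N hNn a θ) = θ := by
                rw [conjBy_conjBy]
                simp [conjBy_one]
              rw [ha'] at h2
              exact h2 }
        have hTmem : ∀ g : G, g ∈ T ↔ conjBy N hNn g θ = θ := fun g => Iff.rfl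
        have hNT : N ≤ T := by
          intro m hm
          rw [hTmem]
          funext a
          rw [conjBy_apply]
          have := hθc a ⟨m, hm⟩
          rw [← this]
          rfl
        have hT' : ∀ g : G, g ∈ T ↔ ∀ a : N, θ ⟨g * a * g⁻¹, hNn.conj_mem (a : G) a.2 g⟩ = θ a := by
          intro g
          rw [hTmem]
          constructor
          · intro h a
            have := congrFun h a
            rwa [conjBy_apply] at this
          · intro h
            funext a
            rw [conjBy_apply]
            exact h a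
        obtain ⟨χ, hχ, hover⟩ := exists_over N hθ
        obtain ⟨d, hd, hd0⟩ := inertia_index_dvd N T hθ hT' hNT hχ hover
        have hind : ¬ p ∣ T.index := by
          intro hdvd
          apply hdeg ⟨χ, hχ⟩
          have h1 := one_eq_charDegree (IsIrrCharacter.isCharacter hχ)
          rw [hd] at h1
          have h2 : T.index * d = Cfsg.charDegree χ := by exact_mod_cast h1
          show p ∣ Cfsg.charDegree χ
          rw [← h2]
          exact dvd_mul_of_dvd_left hdvd d
        -- a fixed point of `P` on the cosets of `T`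
        have hPp : IsPGroup p (P : Subgroup G) := P.isPGroup'
        have hcm := hPp.card_modEq_card_fixedPoints (G ⧸ T)
        have hne : Nonempty (MulAction.fixedPoints (P : Subgroup G) (G ⧸ T)) := by
          by_contra hempty
          rw [not_nonempty_iff] at hempty
          have h0 : Nat.card (MulAction.fixedPoints (P : Subgroup G) (G ⧸ T)) = 0 := Nat.card_of_isEmpty
          rw [h0] at hcm
          apply hind
          have := (Nat.modEq_zero_iff_dvd).1 hcm
          rwa [Subgroup.index]
        obtain ⟨⟨q, hq⟩⟩ := hne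
        obtain ⟨g, rfl⟩ := QuotientGroup.mk_surjective q
        rw [MulAction.mem_fixedPoints] at hq
        have hg : ∀ y ∈ (P : Subgroup G), g⁻¹ * y * g ∈ T := by
          intro y hy
          have h1 := hq ⟨y, hy⟩
          have h2 : ((y * g : G) : G ⧸ T) = (g : G ⧸ T) := h1
          rw [QuotientGroup.eq] at h2
          have h3 : (y * g)⁻¹ * g ∈ T := h2
          have h4 : ((y * g)⁻¹ * g)⁻¹ ∈ T := T.inv_mem h3
          have h5 : ((y * g)⁻¹ * g)⁻¹ = g⁻¹ * y * g := by group
          rwa [h5] at h4
        intro x hx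
        obtain ⟨x', hx', m, hm, he⟩ := hmod g x hx
        have h1 : x = (g⁻¹ * x' * g) * (g⁻¹ * m * g) := by
          have : x = g⁻¹ * (g * x * g⁻¹) * g := by group
          rw [this, he]
          group
        have h2 : x ∈ T := by
          rw [h1]
          refine T.mul_mem (hg x' hx') (hNT ?_)
          have := hNn.conj_mem m hm g⁻¹
          simpa using this
        exact h2
      have hPN : ∀ x ∈ (P : Subgroup G), ∀ m ∈ N, x * m * x⁻¹ ∈ N :=
        fun x _ m hm => hNn.conj_mem m hm x
      have hcomm := commute_of_fixes_classes (P : Subgroup G) N P.isPGroup' hNp' hPN (by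
        intro x hx m
        have := isConj_of_fixes_irr N hNn x (fun θ hθ => hfixθ θ hθ x hx) m
        exact this)
      constructor
      intro x hx g
      obtain ⟨x', hx', m, hm, he⟩ := hmod g x hx
      obtain ⟨k1, hk1⟩ := P.isPGroup' ⟨x, hx⟩
      obtain ⟨k2, hk2⟩ := P.isPGroup' ⟨x', hx'⟩
      have hk1' : x ^ p ^ k1 = 1 := by
        have := congrArg Subtype.val hk1
        simpa using this
      have hk2' : x' ^ p ^ k2 = 1 := by
        have := congrArg Subtype.val hk2
        simpa using this
      have hc : Commute x' m := hcomm x' hx' m hm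
      have h1 : (g * x * g⁻¹) ^ (p ^ (k1 + k2)) = 1 := by
        rw [conj_pow, pow_add, pow_mul, hk1']
        simp
      have h2 : x' ^ (p ^ (k1 + k2)) = 1 := by
        rw [pow_add, mul_comm, pow_mul, hk2']
        simp
      rw [he, hc.mul_pow, h2, one_mul] at h1
      have hm1 : m = 1 := by
        have h3 : orderOf m ∣ p ^ (k1 + k2) := orderOf_dvd_of_pow_eq_one h1
        have h4 : orderOf m ∣ Nat.card N := by
          have := Subgroup.orderOf_dvd_natCard N hm
          exact this
        have h5 : Nat.Coprime (p ^ (k1 + k2)) (Nat.card N) :=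
          Nat.Coprime.pow_left _ ((Nat.Prime.coprime_iff_not_dvd hp.out).2 hNp')
        have h6 := Nat.eq_one_of_dvd_coprimes h5 h3 h4
        exact orderOf_eq_one_iff.1 h6
      rw [he, hm1, mul_one]
      exact hx'

/-- The abelian part. -/
theorem sylow_comm {G : Type*} [Group G] [Finite G] (p : ℕ) [hp : Fact p.Prime]
    (P : Sylow p G) (hP : (P : Subgroup G).Normal)
    (hdeg : ∀ χ : Cfsg.IrrCharacter G, ¬ p ∣ Cfsg.charDegree (χ : G → ℂ)) :
    IsMulCommutative P := by
  classical
  letI := Fintype.ofFinite G
  letI : Fintype (P : Subgroup G) := Fintype.ofFinite _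
  suffices h : ∀ a b : (P : Subgroup G), a * b = b * a from ⟨⟨h⟩⟩
  rw [S0187.result]
  rintro ⟨l, hl⟩
  obtain ⟨χ, hχ, hover⟩ := exists_over (P : Subgroup G) hl
  have hres := restrict_eq_smul_sum (P : Subgroup G) hP hχ hl hover
  have hR := isCharacter_restrict (P : Subgroup G) (IsIrrCharacter.isCharacter hχ)
  obtain ⟨c, hc⟩ := classInner_char_irr hR hl
  have h1 := congrFun hres (1 : (P : Subgroup G))
  have hsum : (∑ ψ ∈ Finset.univ.image (fun g : G => conjBy (P : Subgroup G) hP g l), ψ)
      (1 : (P : Subgroup G)) =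
      ((Finset.univ.image (fun g : G => conjBy (P : Subgroup G) hP g l)).card : ℂ) * l 1 := by
    rw [Finset.sum_apply, Finset.sum_congr rfl (g := fun _ => l 1)]
    · simp
    · intro ψ hψ
      rw [Finset.mem_image] at hψ
      obtain ⟨g, -, rfl⟩ := hψ
      rw [conjBy_apply]
      congr 1
      ext
      simp
  simp only [Pi.smul_apply, smul_eq_mul] at h1
  rw [hsum, hc] at h1
  have hχ1 := one_eq_charDegree (IsIrrCharacter.isCharacter hχ)
  have hl1 := one_eq_charDegree (IsIrrCharacter.isCharacter hl)
  have h2 : χ 1 = (c : ℂ) * (((Finset.univ.image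
      (fun g : G => conjBy (P : Subgroup G) hP g l)).card : ℂ) * l 1) := by
    rw [← h1]
    rfl
  rw [hχ1, hl1] at h2
  have h3 : Cfsg.charDegree χ = c * ((Finset.univ.image
      (fun g : G => conjBy (P : Subgroup G) hP g l)).card * Cfsg.charDegree l) := by
    exact_mod_cast h2
  have h4 : Cfsg.charDegree l ∣ Cfsg.charDegree χ := by
    rw [h3]
    exact Dvd.dvd.mul_left (Dvd.intro_left _ rfl) _
  have h5 := charDegree_dvd_card hl
  obtain ⟨m, hm⟩ := P.isPGroup'.exists_card_eq
  rw [hm] at h5
  obtain ⟨b, hb, hb'⟩ := (Nat.dvd_prime_pow hp.out).1 h5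
  have h6 : b = 0 := by
    by_contra hb0
    apply hdeg ⟨χ, hχ⟩
    show p ∣ Cfsg.charDegree χ
    refine dvd_trans ?_ h4
    rw [hb']
    exact dvd_pow_self p hb0
  show l 1 = 1
  rw [hl1, hb', h6]
  simp

/-- Let p be a prime and G a finite p-solvable group. Then G has a normal abelian Sylow p-subgroup if and only if the degree of every irreducible character of G is prime to p. -/
theorem result {G : Type*} [Group G] [Finite G] (p : ℕ) [Fact p.Prime] (hsolv : Cfsg.IsPSolvable p G) (P : Sylow p G) : ((P : Subgroup G).Normal ∧ IsMulCommutative P) ↔ ∀ χ : Cfsg.IrrCharacter G, ¬ p ∣ Cfsg.charDegree (χ : G → ℂ) := by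
  constructor
  · rintro ⟨hP, hc⟩ ⟨χ, hχ⟩
    classical
    letI := Fintype.ofFinite G
    obtain ⟨n, ρ, hρ, rfl⟩ := id hχ
    have h1 := CharWeight.finrank_dvd_index ρ hρ hP (by
      intro a ha b hb
      have := mul_comm' (⟨a, ha⟩ : (P : Subgroup G)) ⟨b, hb⟩
      exact congrArg Subtype.val this)
    intro h2
    have h3 : Module.finrank ℂ (Fin n → ℂ) = Cfsg.charDegree ρ.character := by
      have := one_eq_charDegree (IsIrrCharacter.isCharacter hχ)
      rw [char_one_eq_rep] at this
      simpa using this
    rw [h3] at h1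
    exact P.not_dvd_index (dvd_trans h2 h1)
  · intro h
    refine ⟨sylow_normal p _ G rfl hsolv h P, ?_⟩
    exact sylow_comm p P (sylow_normal p _ G rfl hsolv h P) h

end Cfsg.Agent.S4713
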