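import Mathlib
import Cfsg.Statements.S4464
import Cfsg.Agent.S4713
import Cfsg.Agent.Lib.PermChar
import Cfsg.Agent.Lib.PermInd

set_option autoImplicit false
set_option linter.style.haveILetI false
set_option linter.unusedSectionVars false
open Cfsg

namespace Cfsg.Agent.S4464

open Cfsg.Agent.Lib
open Cfsg.Agent.Lib.CharBasic
open Cfsg.Agent.Lib.CharInd
open Cfsg.Agent.Lib.CharKernel
open Cfsg.Agent.Lib.PermChar
open Cfsg.Agent.Lib.PermInd
open MulAction

/-- A principal constituent persists under pull back along a homomorphism. -/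
theorem comp_one_ne_zero {X Q : Type*} [Group X] [Group Q] [Fintype X] [Fintype Q] (f : Q →* X)
    {ψ : X → ℂ} (hψ : IsCharacter X ψ) (h : classInner ψ (fun _ => 1) ≠ 0) :
    classInner (ψ ∘ f) (fun _ => 1) ≠ 0 := by
  classical
  obtain ⟨m, rfl⟩ := exists_nat_decomp hψ
  let triv : IrrCharacter X := ⟨fun _ => 1, isIrrCharacter_one⟩
  have hm : m triv ≠ 0 := by
    rw [classInner_nat_decomp m (fun _ => 1) isIrrCharacter_one] at h
    exact_mod_cast h
  choose n hn using fun i : IrrCharacter X => classInner_char_irr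
    (isCharacter_comp f (IsIrrCharacter.isCharacter i.2)) (isIrrCharacter_one (G := Q))
  have hntriv : n triv = 1 := by
    have h1 := hn triv
    have h2 : ((triv : X → ℂ) ∘ f) = fun _ => (1 : ℂ) := rfl
    rw [h2, classInner_irr_self isIrrCharacter_one] at h1
    exact_mod_cast h1.symm
  have h1 : (∑ i : IrrCharacter X, m i • (i : X → ℂ)) ∘ f = ∑ i : IrrCharacter X, m i • ((i : X → ℂ) ∘ f) := by
    funext x
    simp [Finset.sum_apply]
  rw [h1, classInner_sum_left]
  have h2 : ∀ i : IrrCharacter X, classInner (m i • ((i : X → ℂ) ∘ f)) (fun _ => 1) = ((m i * n i : ℕ) : ℂ) := by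
    intro i
    rw [← Nat.cast_smul_eq_nsmul ℂ, classInner_smul_left, hn i]
    push_cast
    rfl
  simp only [h2]
  rw [← Nat.cast_sum]
  have h3 : 0 < ∑ i : IrrCharacter X, m i * n i := by
    have h4 : m triv * n triv ≤ ∑ i : IrrCharacter X, m i * n i :=
      Finset.single_le_sum (f := fun i => m i * n i) (fun _ _ => Nat.zero_le _) (Finset.mem_univ _)
    rw [hntriv, mul_one] at h4
    omega
  exact_mod_cast h3.ne'

theorem sum_orbits (H Ω : Type*) [Group H] [MulAction H Ω] [Fintype Ω]
    [Fintype (orbitRel.Quotient H Ω)] :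
    ∑ ω : orbitRel.Quotient H Ω, Nat.card (orbit H ω.out) = Fintype.card Ω := by
  classical
  have h := Fintype.card_congr (MulAction.selfEquivSigmaOrbits H Ω)
  rw [Fintype.card_sigma] at h
  rw [h]
  refine Finset.sum_congr rfl fun ω _ => ?_
  rw [Nat.card_eq_fintype_card]

/-- A Sylow subgroup acting on all Sylow subgroups: at least `1 + p (k - 1)` points on `k` orbits. -/
theorem card_ge {G : Type*} [Group G] [Fintype G] (p : ℕ) [hp : Fact p.Prime] (P : Sylow p G)
    [Fintype (Sylow p G)] [Fintype (orbitRel.Quotient (P : Subgroup G) (Sylow p G))] :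
    1 + p * (Fintype.card (orbitRel.Quotient (P : Subgroup G) (Sylow p G)) - 1) ≤
      Fintype.card (Sylow p G) := by
  classical
  let ω₀ : orbitRel.Quotient (P : Subgroup G) (Sylow p G) := Quotient.mk'' P
  rw [← sum_orbits (P : Subgroup G) (Sylow p G)]
  rw [← Finset.add_sum_erase _ _ (Finset.mem_univ ω₀)]
  have h1 : 1 ≤ Nat.card (orbit (P : Subgroup G) (ω₀.out)) := by
    haveI : Nonempty (orbit (P : Subgroup G) (ω₀.out)) := ⟨⟨ω₀.out, MulAction.mem_orbit_self _⟩⟩
    exact Nat.card_pos
  have h2 : p * (Fintype.card (orbitRel.Quotient (P : Subgroup G) (Sylow p G)) - 1) ≤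
      ∑ ω ∈ Finset.univ.erase ω₀, Nat.card (orbit (P : Subgroup G) ω.out) := by
    have h3 := Finset.card_nsmul_le_sum (Finset.univ.erase ω₀)
      (fun ω => Nat.card (orbit (P : Subgroup G) ω.out)) p ?_
    · rw [Finset.card_erase_of_mem (Finset.mem_univ _), Finset.card_univ, smul_eq_mul, mul_comm] at h3
      exact h3
    · intro ω hω
      have hne : ω ≠ ω₀ := (Finset.mem_erase.1 hω).1
      set R : Sylow p G := ω.out with hR
      have hRP : R ≠ P := by
        intro h
        apply hne
        have : ω = Quotient.mk'' R := by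
          rw [hR]
          exact (Quotient.out_eq' ω).symm
        rw [this, h]
      obtain ⟨n, hn⟩ := P.isPGroup'.card_orbit R
      rw [hn]
      have hn0 : n ≠ 0 := by
        intro h0
        rw [h0, pow_zero] at hn
        have h4 : R ∈ fixedPoints (P : Subgroup G) (Sylow p G) :=
          MulAction.mem_fixedPoints_iff_card_orbit_eq_one.2 (by
            rw [← Nat.card_eq_fintype_card]
            exact hn)
        rw [P.isPGroup'.sylow_mem_fixedPoints_iff] at h4
        apply hRP
        exact Sylow.ext (P.is_maximal' R.isPGroup' h4)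
      exact Nat.le_self_pow hn0 p
  omega

theorem card_sylow_eq_one {G : Type*} [Group G] [Fintype G] (p : ℕ) [hp : Fact p.Prime]
    (hb : ∀ χ : IrrCharacter G, charDegree (χ : G → ℂ) < p) (P : Sylow p G) :
    Nat.card (Sylow p G) = 1 := by
  classical
  let Ω := Sylow p G
  letI : Fintype Ω := Fintype.ofFinite _
  letI : Fintype (P : Subgroup G) := Fintype.ofFinite _
  letI : Fintype (orbitRel.Quotient (P : Subgroup G) Ω) := Fintype.ofFinite _
  have hπ : IsCharacter G (pc G Ω) := isCharacter_pc
  obtain ⟨m, hm⟩ := exists_nat_decomp hπ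
  choose a ha using fun i : IrrCharacter G => classInner_char_irr
    (isCharacter_restrict (P : Subgroup G) (IsIrrCharacter.isCharacter i.2))
    (isIrrCharacter_one (G := (P : Subgroup G)))
  let triv : IrrCharacter G := ⟨fun _ => 1, isIrrCharacter_one⟩
  have htrans : IsPretransitive G Ω := inferInstance
  have hm1 : m triv = 1 := by
    have h1 := classInner_nat_decomp m (fun _ => 1) isIrrCharacter_one
    rw [← hm, classInner_pc_one] at h1
    have h2 : Nat.card (orbitRel.Quotient G Ω) = 1 := by
      rw [Nat.card_eq_one_iff_unique]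
      refine ⟨?_, ⟨Quotient.mk'' P⟩⟩
      constructor
      intro a b
      induction a using Quotient.inductionOn'
      induction b using Quotient.inductionOn'
      rename_i x y
      apply Quotient.sound'
      exact MulAction.IsPretransitive.exists_smul_eq y x
    rw [h2] at h1
    exact_mod_cast h1.symm
  have hdeg1 : charDegree (triv : G → ℂ) = 1 := by
    simp [charDegree, triv]
  have ha1 : a triv = 1 := by
    have h1 := ha triv
    have h2 : (fun h : (P : Subgroup G) => (triv : G → ℂ) h) = fun _ => (1 : ℂ) := rfl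
    rw [h2, classInner_irr_self isIrrCharacter_one] at h1
    exact_mod_cast h1.symm
  -- degrees
  have hE1 : Fintype.card Ω = ∑ i : IrrCharacter G, m i * charDegree (i : G → ℂ) := by
    have h1 := congrFun hm 1
    have h2 : pc G Ω 1 = (Fintype.card Ω : ℂ) := by
      simp [pc]
    rw [h2, Finset.sum_apply] at h1
    have h3 : ∀ i : IrrCharacter G, (m i • (i : G → ℂ)) 1 =
        ((m i * charDegree (i : G → ℂ) : ℕ) : ℂ) := by
      intro i
      rw [Pi.smul_apply, one_eq_charDegree (IsIrrCharacter.isCharacter i.2)]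
      simp
    simp only [h3] at h1
    rw [← Nat.cast_sum] at h1
    exact_mod_cast h1
  -- orbits of `P`
  have hE2 : Fintype.card (orbitRel.Quotient (P : Subgroup G) Ω) = ∑ i : IrrCharacter G, m i * a i := by
    have h1 : classInner (pc (P : Subgroup G) Ω) (fun _ => 1) =
        Nat.card (orbitRel.Quotient (P : Subgroup G) Ω) := classInner_pc_one
    have h2 : pc (P : Subgroup G) Ω = ∑ i : IrrCharacter G, m i • (fun x : (P : Subgroup G) => (i : G → ℂ) x) := by
      funext x
      have h3 := congrFun hm (x : G)
      rw [Finset.sum_apply] at h3 ⊢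
      simp only [Pi.smul_apply] at h3 ⊢
      exact h3
    rw [h2, classInner_sum_left] at h1
    have h3 : ∀ i : IrrCharacter G, classInner (m i • (fun x : (P : Subgroup G) => (i : G → ℂ) x))
        (fun _ => 1) = ((m i * a i : ℕ) : ℂ) := by
      intro i
      rw [← Nat.cast_smul_eq_nsmul ℂ, classInner_smul_left, ha i]
      push_cast
      rfl
    simp only [h3] at h1
    rw [← Nat.cast_sum, Nat.card_eq_fintype_card] at h1
    exact_mod_cast h1.symm
  -- constituents of the permutation character have fixed vectors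
  have hpos : ∀ i : IrrCharacter G, m i ≠ 0 → 1 ≤ a i := by
    intro i hi
    let H : Subgroup G := stabilizer G P
    letI : Fintype H := Fintype.ofFinite _
    letI : Fintype (orbit G P) := Fintype.ofFinite _
    have h1 : indFun H (fun _ => 1) = pc G Ω := by
      funext g
      rw [indFun_stabilizer_one P g]
      simp only [pc]
      rw [Nat.card_eq_fintype_card, ← Fintype.card_subtype]
      norm_cast
      rw [Fintype.card_eq_nat_card, Fintype.card_eq_nat_card]
      apply Nat.card_congr
      exact
        { toFun := fun y => ⟨y.1.1, y.2⟩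
          invFun := fun y => ⟨⟨y.1, MulAction.mem_orbit_iff.2 (MulAction.exists_smul_eq G P y.1)⟩, y.2⟩
          left_inv := fun y => rfl
          right_inv := fun y => rfl }
    have h2 := classInner_nat_decomp m (i : G → ℂ) i.2
    rw [← hm, ← h1, frobenius H _ (isClassFunction_of_isCharacter (IsIrrCharacter.isCharacter i.2))] at h2
    have h3 : classInner (fun _ : H => (1 : ℂ)) (fun h : H => (i : G → ℂ) h) ≠ 0 := by
      rw [h2]
      exact_mod_cast hi
    have h4 : classInner (fun h : H => (i : G → ℂ) h) (fun _ : H => (1 : ℂ)) ≠ 0 := by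
      intro h5
      apply h3
      rw [← classInner_conj_symm, h5, map_zero]
    have hle : (P : Subgroup G) ≤ H := by
      intro x hx
      rw [mem_stabilizer_iff]
      exact Sylow.smul_eq_iff_mem_normalizer.2 (Subgroup.le_normalizer hx)
    have h5 := comp_one_ne_zero (Subgroup.inclusion hle)
      (isCharacter_restrict H (IsIrrCharacter.isCharacter i.2)) h4
    have h6 : ((fun h : H => (i : G → ℂ) h) ∘ (Subgroup.inclusion hle)) =
        fun x : (P : Subgroup G) => (i : G → ℂ) x := rfl
    rw [h6, ha i] at h5
    have h7 : a i ≠ 0 := by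
      intro h8
      apply h5
      rw [h8]
      simp
    omega
  have hE4 := card_ge p P (G := G)
  -- conclusion
  have hE1' : Fintype.card Ω = 1 + ∑ i ∈ Finset.univ.erase triv, m i * charDegree (i : G → ℂ) := by
    rw [hE1, ← Finset.add_sum_erase _ _ (Finset.mem_univ triv), hm1, hdeg1]
  have hE2' : Fintype.card (orbitRel.Quotient (P : Subgroup G) Ω) =
      1 + ∑ i ∈ Finset.univ.erase triv, m i * a i := by
    rw [hE2, ← Finset.add_sum_erase _ _ (Finset.mem_univ triv), hm1, ha1]
  have hbound : ∑ i ∈ Finset.univ.erase triv, m i * charDegree (i : G → ℂ) ≤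
      (p - 1) * ∑ i ∈ Finset.univ.erase triv, m i * a i := by
    rw [Finset.mul_sum]
    apply Finset.sum_le_sum
    intro i _
    by_cases hi : m i = 0
    · simp [hi]
    · have h1 := hpos i hi
      have h2 := hb i
      have h3 : charDegree (i : G → ℂ) ≤ (p - 1) * a i := by
        calc charDegree (i : G → ℂ) ≤ p - 1 := by omega
          _ = (p - 1) * 1 := by ring
          _ ≤ (p - 1) * a i := Nat.mul_le_mul_left _ h1
      calc m i * charDegree (i : G → ℂ) ≤ m i * ((p - 1) * a i) := Nat.mul_le_mul_left _ h3
        _ = (p - 1) * (m i * a i) := by ring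
  set T := ∑ i ∈ Finset.univ.erase triv, m i * a i with hT
  rw [hE2'] at hE4
  have h1 : p * T ≤ (p - 1) * T := by
    have h2 : 1 + T - 1 = T := by omega
    rw [h2] at hE4
    have h3 : Fintype.card (Sylow p G) = Fintype.card Ω := rfl
    rw [h3, hE1'] at hE4
    omega
  have hp1 : 1 ≤ p := hp.out.one_lt.le
  have hT0 : T = 0 := by
    by_contra hne
    have h2 : p - 1 < p := by omega
    have h3 : (p - 1) * T < p * T := Nat.mul_lt_mul_of_pos_right h2 (Nat.pos_of_ne_zero hne)
    omega
  rw [hT0] at hbound
  have h2 : Fintype.card (Sylow p G) = Fintype.card Ω := rfl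
  have h3 : 0 < Fintype.card Ω := Fintype.card_pos_iff.2 ⟨P⟩
  have h4 : Nat.card (Sylow p G) = Fintype.card Ω := by
    rw [Nat.card_eq_fintype_card]
  rw [h4]
  simp only [mul_zero] at hbound
  omega

/-- Let p be a prime and G a finite group all of whose irreducible character degrees are less than p. Then G has a normal abelian Sylow p-subgroup. -/
theorem result {G : Type*} [Group G] [Finite G] (p : ℕ) (hp : p.Prime) (hb : ∀ χ : Cfsg.IrrCharacter G, Cfsg.charDegree (χ : G → ℂ) < p) : ∃ P : Subgroup G, P.Normal ∧ (∀ x ∈ P, ∀ y ∈ P, x * y = y * x) ∧ IsPGroup p P ∧ ¬ p ∣ P.index := by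
  classical
  letI := Fintype.ofFinite G
  haveI : Fact p.Prime := ⟨hp⟩
  obtain ⟨P⟩ : Nonempty (Sylow p G) := inferInstance
  have h1 := card_sylow_eq_one p hb P
  haveI : Subsingleton (Sylow p G) := (Nat.card_eq_one_iff_unique.1 h1).1
  have hn : (P : Subgroup G).Normal := Sylow.normal_of_subsingleton P
  have hc := S4713.sylow_comm p P hn (by
    intro χ hd
    exact Nat.not_dvd_of_pos_of_lt (charDegree_pos χ.2) (hb χ) hd)
  refine ⟨P, hn, ?_, P.isPGroup', P.not_dvd_index⟩
  intro x hx y hy
  have := mul_comm' (⟨x, hx⟩ : (P : Subgroup G)) ⟨y, hy⟩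
  exact congrArg Subtype.val this

end Cfsg.Agent.S4464
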