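import Cfsg.Statements.S1402
import Cfsg.Agent.Lib.BGUT7

set_option autoImplicit false
open Cfsg

namespace Cfsg.Agent.S1402

open Subgroup Cfsg.Agent.Lib.CoprimeInv Cfsg.Agent.Lib.BGUniq2 Cfsg.Agent.Lib.BGUT3 Cfsg.Agent.Lib.BGUT4

private theorem exists_ea3_aux {G : Type*} [Group G] [Finite G] {p : ℕ} [hp : Fact p.Prime] {A : Subgroup G}
    (hAp : IsPGroup p A) (hA3 : ¬ Cfsg.PRankLE p 2 ↥A) : ∃ A₀ : Subgroup G, A₀ ≤ A ∧ EA3 A₀ p := by
  have hpp : p.Prime := hp.out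
  rw [Cfsg.Agent.Lib.BGSigma.prankLE_iff] at hA3
  push Not at hA3
  obtain ⟨E, hEA, hEc, hEe, hEk⟩ := hA3
  have hEp : IsPGroup p E := hAp.to_le hEA
  obtain ⟨m, hm⟩ := IsPGroup.iff_card.mp hEp
  have hm3 : 3 ≤ m := by
    rw [hm] at hEk
    have := (Nat.pow_lt_pow_iff_right hpp.one_lt).mp hEk
    omega
  obtain ⟨K, hK⟩ := Sylow.exists_subgroup_card_pow_prime (G := E) p (n := 3)
    (by rw [hm]; exact pow_dvd_pow p hm3)
  refine ⟨K.map E.subtype, (Subgroup.map_subtype_le K).trans hEA, ?_, ?_, ?_⟩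
  · rintro _ ⟨x, -, rfl⟩ _ ⟨y, -, rfl⟩
    exact congrArg Subtype.val (hEc.is_comm.comm x y)
  · rintro _ ⟨x, -, rfl⟩
    exact hEe x x.2
  · rw [Subgroup.card_map_of_injective E.subtype_injective, hK]

/-- Let G be a minimal simple group of odd order, p a prime, P a Sylow p-subgroup of G and A a normal subgroup of P with C_P(A) = A containing an elementary abelian subgroup of order p ^ 3. Then A lies in exactly one maximal subgroup of G. -/
theorem result {G : Type*} [Group G] [Finite G] (hG : Cfsg.IsMinSimpleOddOrder G)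
    (p : ℕ) [Fact p.Prime] (P : Sylow p G) (A : Subgroup G) (hA : Cfsg.IsSCN (P : Subgroup G) A) (hA3 : ¬ Cfsg.PRankLE p 2 ↥A) :
    Cfsg.InUniqueMaximal A := by
  by_contra hnu
  have hS : IsSylowIn p (P : Subgroup G) ⊤ := ⟨le_top, P.isPGroup', fun R _ hR hle => P.is_maximal' hR hle⟩
  obtain ⟨hTH, hZ⟩ := th_of_scn hG hS hA hA3
  have hAp : IsPGroup p A := hS.2.1.to_le hA.1
  obtain ⟨A₀, hA₀A, hA₀⟩ := exists_ea3_aux hAp hA3
  exact Ctx.elim (p := p) (A := A) (A₀ := A₀)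
    { hG := hG
      hAp := hAp
      hAc := Cfsg.Agent.Lib.BGTH.scn_comm hA
      hA₀A := hA₀A
      hA₀ := hA₀
      hTH := hTH
      hZ := hZ
      hnu := hnu }

end Cfsg.Agent.S1402
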