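import Cfsg.Statements.S1403
import Cfsg.Agent.S1402

set_option autoImplicit false
open Cfsg

namespace Cfsg.Agent.S1403

open Subgroup Cfsg.Agent.Lib.CoprimeInv Cfsg.Agent.Lib.BGTrans Cfsg.Agent.Lib.BGUniq2 Cfsg.Agent.Lib.BGUniq3
  Cfsg.Agent.Lib.BGFit2

private theorem uniq_aux {G : Type*} [Group G] [Finite G] (hG : Cfsg.IsMinSimpleOddOrder G) {q : ℕ}
    (hq : q.Prime) {E : Subgroup G} (hEc : IsMulCommutative E) (hEe : ∀ a ∈ E, a ^ q = 1)
    (hEk : q ^ 2 < Nat.card E) : Cfsg.InUniqueMaximal E := by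
  haveI : Fact q.Prime := ⟨hq⟩
  have hEp : IsPGroup q E := fun a => ⟨1, Subtype.ext (by simpa using hEe a a.2)⟩
  have hE1 : E ≠ ⊥ := by
    rintro rfl
    rw [Subgroup.card_bot] at hEk
    exact absurd hEk (by have := Nat.one_le_pow 2 q hq.pos; omega)
  have hodd : q ≠ 2 := prime_ne_two_of_dvd hG (dvd_of_isPGroup hEp hE1)
  obtain ⟨T, hT, hET⟩ := exists_isSylowIn_ge q (le_top : E ≤ ⊤) hEp
  have hr : ¬ Cfsg.PRankLE q 2 ↥T := by
    rw [Cfsg.Agent.Lib.BGSigma.prankLE_iff]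
    intro h
    have := h E hET hEc hEe
    omega
  obtain ⟨A', hA', hA'3⟩ := exists_scn3 hodd hT.2.1 hr
  have hU := Cfsg.Agent.S1402.result hG q (sylowOfTop hT) A' hA' hA'3
  exact chain_in_T hG hodd hT.2.1 hA'.1 (Cfsg.Agent.Lib.BGTH.scn_comm hA') hA'3 hU hET hEc hEe hEk

/-- Let G be a minimal simple group of odd order and K a proper subgroup having an elementary abelian subgroup of order p ^ 2 for some prime p. If K, or its centralizer C_G(K), has an elementary abelian subgroup of order q ^ 3 for some prime q, then K lies in exactly one maximal subgroup of G. -/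
theorem result {G : Type*} [Group G] [Finite G] (hG : Cfsg.IsMinSimpleOddOrder G)
    (K : Subgroup G) (hK : K ≠ ⊤) (hK2 : ¬ Cfsg.RankLE 1 K)
    (hK3 : ¬ Cfsg.RankLE 2 K ∨ ¬ Cfsg.RankLE 2 (Subgroup.centralizer (K : Set G))) :
    Cfsg.InUniqueMaximal K := by
  rcases hK3 with h | h
  · obtain ⟨q, hq, E, hEK, hEc, hEe, hEk⟩ := exists_elemAb_of_not_rankLE h
    obtain ⟨M, ⟨hM, hEM⟩, huniq⟩ := uniq_aux hG hq hEc hEe hEk
    obtain ⟨H, hH, hKH⟩ := exists_coatom_ge hK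
    have hHM : H = M := huniq H ⟨hH, hEK.trans hKH⟩
    subst hHM
    refine ⟨H, ⟨hH, hKH⟩, ?_⟩
    rintro H₂ ⟨hH₂, hKH₂⟩
    exact huniq H₂ ⟨hH₂, hEK.trans hKH₂⟩
  · obtain ⟨q, hq, E, hEK, hEc, hEe, hEk⟩ := exists_elemAb_of_not_rankLE h
    exact passes_to_centralizing hG (uniq_aux hG hq hEc hEe hEk) (le_centralizer_comm hEK) hK2

end Cfsg.Agent.S1403
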