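import Cfsg.Statements.S0200
import Cfsg.Agent.Lib.BaerSuzuki

set_option autoImplicit false
open Cfsg

namespace Cfsg.Agent.S0200

open Cfsg.Agent.Lib.InvolutionPairs

/-- An involution lying in no normal 2-subgroup of a finite group inverts a nontrivial element of odd order (a consequence of the Baer–Suzuki Theorem). -/
theorem result {G : Type*} [Group G] [Finite G] (t : G) (ht : orderOf t = 2) (hO : ∀ N : Subgroup G, N.Normal → IsPGroup 2 N → t ∉ N) : ∃ h : G, h ≠ 1 ∧ Odd (orderOf h) ∧ t * h * t⁻¹ = h⁻¹ := by
  classical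
  by_contra hcon
  push Not at hcon
  have ht' := mul_self_of_orderOf ht
  have htX : IsPGroup 2 (Subgroup.zpowers t) := by
    rw [IsPGroup.iff_card]
    exact ⟨1, by rw [Nat.card_zpowers, ht, pow_one]⟩
  obtain ⟨N, hN, hNp, hXN⟩ := Cfsg.Agent.Lib.BaerSuzuki.baer_suzuki (p := 2) (Subgroup.zpowers t) htX (by
    intro g
    set s := g * t * g⁻¹ with hs
    have hso : orderOf s = 2 := by
      rw [← ht]
      exact (Cfsg.Agent.Lib.InvolutionFusion.orderOf_eq_of_isConj (isConj_iff.2 ⟨g, rfl⟩)).symm
    have hs' := mul_self_of_orderOf hso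
    -- the order of `t s` is a power of 2
    have hpow : orderOf (t * s) = 2 ^ (orderOf (t * s)).primeFactorsList.length := by
      apply Nat.eq_prime_pow_of_unique_prime_dvd (orderOf_pos _).ne'
      intro q hq hqd
      by_contra hq2
      have hqodd : Odd q := hq.odd_of_ne_two hq2
      have hw := orderOf_pow_orderOf_div (x := t * s) (n := q) (orderOf_pos _).ne' hqd
      have hne : (t * s) ^ (orderOf (t * s) / q) ≠ 1 := by
        intro h1
        rw [h1, orderOf_one] at hw
        exact hq.one_lt.ne hw
      refine hcon _ hne (by rw [hw]; exact hqodd) ?_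
      have h2 := conj_zpow t s ht' hs' ((orderOf (t * s) / q : ℕ) : ℤ)
      rw [zpow_natCast, zpow_neg, zpow_natCast] at h2
      exact h2
    have hcl : IsPGroup 2 (Subgroup.closure ({t, s} : Set G)) := by
      intro d
      refine ⟨(orderOf (t * s)).primeFactorsList.length + 1, ?_⟩
      apply Subtype.ext
      simp only [Subgroup.coe_pow, Subgroup.coe_one]
      obtain ⟨k, hk⟩ := (mem_closure_iff t s ht' hs' d.1).1 d.2
      rcases hk with hk | hk <;> rw [hk]
      · have h0 : ((t * s) ^ k) ^ orderOf (t * s) = 1 := by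
          rw [← zpow_natCast, ← zpow_mul, mul_comm, zpow_mul, zpow_natCast, pow_orderOf_eq_one,
            one_zpow]
        rw [pow_succ, ← hpow, pow_mul, h0, one_pow]
      · have h1 := mul_zpow_mul_self t s ht' hs' k
        rw [pow_succ', pow_mul, pow_two, h1, one_pow]
    apply hcl.to_le
    apply sup_le
    · rw [Subgroup.zpowers_le]
      exact Subgroup.subset_closure (by simp)
    · rw [Subgroup.map_le_iff_le_comap, Subgroup.zpowers_le, Subgroup.mem_comap]
      exact Subgroup.subset_closure (by simp [hs]))
  exact hO N hN hNp (hXN (Subgroup.mem_zpowers t))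

end Cfsg.Agent.S0200
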