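import Mathlib
import Cfsg.Statements.S0184
import Cfsg.Agent.Lib.CharAvg
import Cfsg.Agent.Lib.KleinTools

set_option autoImplicit false
set_option linter.style.haveILetI false
open Cfsg

namespace Cfsg.Agent.S0184

open Cfsg.Agent.Lib.CharBasic

/-- In a cyclic group, an element of prime order `p` lies in the cyclic group generated by any other
element of order `p`. -/
theorem mem_zpowers_of_orderOf_eq {C : Type*} [Group C] [Finite C] [IsCyclic C] {a b : C} {p : ℕ}
    (hp : 0 < p) (ha : orderOf a = p) (hb : orderOf b = p) : a ∈ Subgroup.zpowers b := by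
  classical
  haveI : Fintype C := Fintype.ofFinite C
  set S : Finset C := Finset.univ.filter (fun x : C => x ^ p = 1) with hS
  set T : Finset C := Finset.univ.filter (fun x : C => x ∈ Subgroup.zpowers b) with hT
  have hTS : T ⊆ S := by
    intro x hx
    simp only [hT, Finset.mem_filter, Finset.mem_univ, true_and] at hx
    obtain ⟨k, rfl⟩ := Subgroup.mem_zpowers_iff.mp hx
    simp only [hS, Finset.mem_filter, Finset.mem_univ, true_and]
    rw [← zpow_natCast, ← zpow_mul, mul_comm, zpow_mul, zpow_natCast, ← hb, pow_orderOf_eq_one,
      one_zpow]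
  have hScard : S.card ≤ p := IsCyclic.card_pow_eq_one_le hp
  have hTcard : T.card = p := by
    rw [← hb, ← Nat.card_zpowers, hT, Nat.card_eq_fintype_card, Fintype.card_subtype]
  have hEq : T = S := Finset.eq_of_subset_of_card_le hTS (by omega)
  have haS : a ∈ S := by
    simp only [hS, Finset.mem_filter, Finset.mem_univ, true_and]
    rw [← ha, pow_orderOf_eq_one]
  rw [← hEq] at haS
  simpa [hT] using haS

/-- A finite p-group admits a faithful irreducible complex representation if and only if its centre is cyclic. -/
theorem result {G : Type*} [Group G] [Finite G] (p : ℕ) [Fact p.Prime] (hG : IsPGroup p G) : (∃ (n : ℕ) (ρ : Representation ℂ G (Fin n → ℂ)), ρ.IsIrreducible ∧ Function.Injective ρ) ↔ IsCyclic (Subgroup.center G) := by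
  classical
  haveI : Fintype G := Fintype.ofFinite G
  have hpp : p.Prime := Fact.out
  constructor
  · rintro ⟨n, ρ, hρ, hinj⟩
    obtain ⟨hnt, _⟩ := (isIrreducible_iff ρ).mp hρ
    haveI := hnt
    obtain ⟨v, hv⟩ := exists_ne (0 : Fin n → ℂ)
    have hsc : ∀ z : Subgroup.center G, ∃ c : ℂ, ρ z = c • LinearMap.id := by
      intro z
      apply schur_scalar hρ
      intro g
      show ρ z * ρ g = ρ g * ρ z
      rw [← map_mul, ← map_mul, (Subgroup.mem_center_iff.mp z.2 g)]
    choose c hc using hsc
    have hcancel : ∀ a b : ℂ, a • v = b • v → a = b := by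
      intro a b h
      have h1 : (a - b) • v = 0 := by rw [sub_smul, h, sub_self]
      rcases smul_eq_zero.mp h1 with h2 | h2
      · exact sub_eq_zero.mp h2
      · exact absurd h2 hv
    let f : Subgroup.center G →* ℂ :=
      { toFun := c
        map_one' := by
          apply hcancel
          have := congrArg (fun T : (Fin n → ℂ) →ₗ[ℂ] (Fin n → ℂ) => T v) (hc 1)
          simp only [Subgroup.coe_one, map_one, LinearMap.smul_apply, LinearMap.id_coe, id_eq] at this
          rw [← this, one_smul]
          rfl
        map_mul' := by
          intro a b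
          apply hcancel
          have h1 := congrArg (fun T : (Fin n → ℂ) →ₗ[ℂ] (Fin n → ℂ) => T v) (hc (a * b))
          simp only [Subgroup.coe_mul, map_mul, LinearMap.smul_apply, LinearMap.id_coe, id_eq] at h1
          rw [← h1, Module.End.mul_apply, hc b, hc a]
          simp [smul_smul, mul_comm] }
    have hfinj : Function.Injective f := by
      intro a b hab
      have hab' : c a = c b := hab
      apply Subtype.ext
      apply hinj
      rw [hc a, hc b, hab']
    exact isCyclic_of_injective_ringHom f hfinj
  · intro hcyc
    by_cases hnt : Nontrivial G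
    · haveI := hnt
      -- an element of order p in the centre
      haveI hZnt : Nontrivial (Subgroup.center G) := hG.center_nontrivial
      have hZp : IsPGroup p (Subgroup.center G) := hG.to_subgroup _
      obtain ⟨m, hm⟩ := IsPGroup.iff_card.mp hZp
      have hdvd : p ∣ Nat.card (Subgroup.center G) := by
        have h1 : 1 < Nat.card (Subgroup.center G) := Finite.one_lt_card
        rw [hm] at h1 ⊢
        have hm0 : m ≠ 0 := by
          rintro rfl
          simp at h1
        exact dvd_pow_self p hm0
      obtain ⟨z₀, hz₀⟩ := exists_prime_orderOf_dvd_card' p hdvd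
      have hz₀1 : (z₀ : G) ≠ 1 := by
        intro h
        have h2 : z₀ = 1 := Subtype.ext h
        rw [h2, orderOf_one] at hz₀
        exact hpp.one_lt.ne hz₀
      -- an irreducible character not trivial on z₀
      have hex : ∃ χ : IrrCharacter G, (χ : G → ℂ) z₀ ≠ (χ : G → ℂ) 1 := by
        by_contra hall
        push Not at hall
        have := Cfsg.Agent.Lib.CharAvg.isConj_of_forall_irr hall
        rw [isConj_one_left] at this
        exact hz₀1 this
      obtain ⟨⟨χ, n, σ, hσ, rfl⟩, hχ⟩ := hex
      refine ⟨n, σ, hσ, ?_⟩
      have hσz : σ z₀ ≠ 1 := by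
        intro h
        apply hχ
        show LinearMap.trace ℂ _ (σ z₀) = LinearMap.trace ℂ _ (σ 1)
        rw [h, σ.map_one]
      -- the kernel
      let K : Subgroup G := MonoidHom.ker σ
      have hKn : K.Normal := MonoidHom.normal_ker σ
      have hKbot : K = ⊥ := by
        by_contra hne
        haveI := hKn
        obtain ⟨z, hzK, hz1, hzc⟩ := Cfsg.Agent.Lib.KleinTools.exists_central_of_normal hG K hne
        have hzZ : z ∈ Subgroup.center G := by
          rw [Subgroup.mem_center_iff]
          intro g
          exact hzc g
        -- a power of z has order p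
        let z' : Subgroup.center G := ⟨z, hzZ⟩
        have hz'1 : z' ≠ 1 := fun h => hz1 (congrArg Subtype.val h)
        have hord : orderOf z' ≠ 1 := by
          intro h
          exact hz'1 (orderOf_eq_one_iff.mp h)
        obtain ⟨q, hq, hqd⟩ := Nat.exists_prime_and_dvd hord
        have hzp : IsPGroup p (Subgroup.zpowers z') := hZp.to_subgroup _
        obtain ⟨t, ht⟩ := IsPGroup.iff_card.mp hzp
        rw [Nat.card_zpowers] at ht
        have hqp : q = p := by
          rw [ht] at hqd
          exact (Nat.prime_dvd_prime_iff_eq hq hpp).mp (hq.dvd_of_dvd_pow hqd)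
        subst hqp
        obtain ⟨s, hs⟩ := hqd
        have hspos : 0 < s := by
          rcases Nat.eq_zero_or_pos s with h | h
          · rw [h, mul_zero] at hs
            exact absurd hs (orderOf_pos z').ne'
          · exact h
        have hords : orderOf (z' ^ s) = q := by
          rw [orderOf_pow' z' hspos.ne', hs]
          rw [Nat.gcd_mul_left_left]
          exact Nat.div_eq_of_eq_mul_left hspos (by ring)
        have hmem := mem_zpowers_of_orderOf_eq hq.pos hz₀ hords
        obtain ⟨w, hw⟩ := Subgroup.mem_zpowers_iff.mp hmem
        apply hσz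
        have hK' : (z : G) ∈ K := hzK
        have h3 : ((z' ^ s) ^ w : Subgroup.center G) = z₀ := hw
        have h4 : (z₀ : G) = ((z : G) ^ s) ^ w := by
          rw [← h3]
          simp [z']
        have h5 : (z₀ : G) ∈ K := by
          rw [h4]
          exact K.zpow_mem (K.pow_mem hK' s) w
        exact h5
      intro a b hab
      have h1 : a⁻¹ * b ∈ K := by
        show σ (a⁻¹ * b) = 1
        rw [map_mul, ← hab, ← map_mul, inv_mul_cancel, map_one]
      rw [hKbot, Subgroup.mem_bot, inv_mul_eq_one] at h1
      exact h1
    · rw [not_nontrivial_iff_subsingleton] at hnt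
      obtain ⟨n, ρ, hρ, -⟩ := isIrrCharacter_one (G := G)
      refine ⟨n, ρ, hρ, ?_⟩
      intro a b _
      exact Subsingleton.elim a b

end Cfsg.Agent.S0184
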