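import Mathlib
import Cfsg.Statements.S4845
import Cfsg.Agent.S0184
import Cfsg.Agent.S0187
import Cfsg.Agent.Lib.CharCentral
import Cfsg.Agent.Lib.CharDecomp
import Cfsg.Agent.Lib.CharKernel
import Cfsg.Agent.Lib.CharTwist
import Cfsg.Agent.Lib.DetChar
import Cfsg.Agent.Lib.BrauerInd
import Cfsg.Agent.Lib.IndFunBasic
import Cfsg.Agent.Lib.ExtraBasics
import Cfsg.Agent.Lib.PGrp
import Cfsg.Agent.Lib.Gagola2
import Cfsg.Agent.Lib.Clifford

set_option autoImplicit false
set_option linter.style.haveILetI false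
open Cfsg

namespace Cfsg.Agent.S4845

open Cfsg.Agent.Lib
open Cfsg.Agent.Lib.CharBasic
open Cfsg.Agent.Lib.CharKernel
open Cfsg.Agent.Lib.CharCentral
open scoped ComplexConjugate

universe u

/-- Closure of the set of characters of a given degree under Galois conjugation. -/
def GalClosed (P : Type u) [Group P] [Finite P] : Prop :=
  ∀ χ ψ : IrrCharacter P, charDegree (χ : P → ℂ) ≠ 1 →
    charDegree (χ : P → ℂ) = charDegree (ψ : P → ℂ) →
    ∃ k : ℕ, Nat.Coprime k (Nat.card P) ∧ ∀ g : P, (ψ : P → ℂ) g = (χ : P → ℂ) (g ^ k)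

section Basic

variable {P : Type u} [Group P] [Finite P]

theorem galClosed_quot (h : GalClosed P) (N : Subgroup P) [N.Normal] : GalClosed (P ⧸ N) := by
  intro χ ψ hχ hd
  let π : P →* P ⧸ N := QuotientGroup.mk' N
  have hπ : Function.Surjective π := QuotientGroup.mk'_surjective N
  have hdeg : ∀ f : P ⧸ N → ℂ, charDegree (f ∘ π) = charDegree f := by
    intro f
    simp [charDegree, map_one]
  obtain ⟨k, hk, hg⟩ := h ⟨(χ : P ⧸ N → ℂ) ∘ π, isIrrCharacter_comp_of_surjective π hπ χ.2⟩
    ⟨(ψ : P ⧸ N → ℂ) ∘ π, isIrrCharacter_comp_of_surjective π hπ ψ.2⟩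
    (by simpa only [hdeg] using hχ) (by simpa only [hdeg] using hd)
  refine ⟨k, Nat.Coprime.coprime_dvd_right ?_ hk, ?_⟩
  · rw [← Subgroup.index_eq_card]
    exact Subgroup.index_dvd_card N
  · intro g
    obtain ⟨x, rfl⟩ := hπ g
    have h1 := hg x
    simp only [Function.comp_apply, map_pow] at h1
    exact h1

theorem mem_commutator_of_ker (h : GalClosed P) {χ : P → ℂ} (hχ : IsIrrCharacter P χ)
    (hd : charDegree χ ≠ 1) {g : P} (hg : χ g = χ 1) : g ∈ commutator P := by
  by_contra hgc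
  have hχc := IsIrrCharacter.isCharacter hχ
  have h1 : (Abelianization.of g : Abelianization P) ≠ 1 := by
    intro h0
    apply hgc
    have h2 : g ∈ (Abelianization.of (G := P)).ker := h0
    rwa [Abelianization.ker_of] at h2
  obtain ⟨l, hl⟩ := CharTwist.exists_hom_ne_one h1
  let β : P →* ℂˣ := l.comp Abelianization.of
  have hirr := DetChar.isIrr_mul_hom β hχ
  have hdeg : charDegree ((fun g => ((β g : ℂˣ) : ℂ)) * χ) = charDegree χ := by
    simp [charDegree, Pi.mul_apply]
  obtain ⟨k, -, hkg⟩ := h ⟨χ, hχ⟩ ⟨_, hirr⟩ hd hdeg.symm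
  have h2 := hkg g
  have h3 : χ (g ^ k) = χ 1 := by
    have h4 : g ^ k ∈ charKer hχc := Subgroup.pow_mem _ ((mem_charKer hχc).2 hg) k
    exact (mem_charKer hχc).1 h4
  simp only [Pi.mul_apply] at h2
  rw [hg, h3] at h2
  have h0 : χ 1 ≠ 0 := Clifford.irr_degree_ne_zero hχ
  have h4 : ((β g : ℂˣ) : ℂ) = 1 := mul_right_cancel₀ h0 (by rw [h2, one_mul])
  exact hl (Units.ext h4)

theorem charDegree_eq_one_of_commutator_le {χ : P → ℂ} (hχ : IsIrrCharacter P χ)
    (hc : ∀ x ∈ commutator P, χ x = χ 1) : charDegree χ = 1 := by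
  obtain ⟨χ', h1, h2⟩ := exists_quotient_irr (commutator P) hχ hc
  have h3 : χ' 1 = 1 := by
    have h4 : IsMulCommutative (P ⧸ commutator P) :=
      ⟨⟨fun a b => mul_comm (G := Abelianization P) a b⟩⟩
    exact Gagola2.irr_one_of_comm h1
  have h5 := h2 1
  rw [QuotientGroup.mk_one, h3] at h5
  simp [charDegree, ← h5]

theorem hom_of_charDegree_one {χ : P → ℂ} (hχ : IsIrrCharacter P χ)
    (hd : charDegree χ = 1) : ∀ x ∈ commutator P, χ x = χ 1 := by
  have hχc := IsIrrCharacter.isCharacter hχ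
  have h1 : χ 1 = 1 := by
    rw [one_eq_charDegree hχc, hd]
    simp
  obtain ⟨f, hf⟩ := exists_hom_of_degree_one hχc h1
  intro x hx
  have h2 : x ∈ f.ker := by
    have h3 : commutator P ≤ f.ker := by
      rw [← Abelianization.ker_of (G := P)]
      intro y hy
      have h5 : (Abelianization.lift f) (Abelianization.of y) = f y := Abelianization.lift_apply_of f y
      rw [MonoidHom.mem_ker] at hy ⊢
      rw [← h5, hy, map_one]
    exact h3 hx
  rw [hf, hf, MonoidHom.mem_ker.1 h2, map_one]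

end Basic

section Commutator

variable {P : Type u} [Group P] [Finite P] {p : ℕ} [hp : Fact p.Prime]

theorem not_ker_of_charDegree_ne {χ : P → ℂ} (hχ : IsIrrCharacter P χ) (hd : charDegree χ ≠ 1) :
    ¬ ∀ x ∈ commutator P, χ x = χ 1 :=
  fun h => hd (charDegree_eq_one_of_commutator_le hχ h)

/-- A nontrivial element of a subgroup of prime order outside the kernel. -/
theorem value_ne (hcard : Nat.card (commutator P) = p) {χ : P → ℂ} (hχ : IsIrrCharacter P χ)
    (hne : ¬ ∀ x ∈ commutator P, χ x = χ 1) {c : P} (hc : c ∈ commutator P) (hc1 : c ≠ 1) :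
    χ c ≠ χ 1 := by
  intro h
  apply hne
  have hχc := IsIrrCharacter.isCharacter hχ
  let A : Subgroup P := charKer hχc ⊓ commutator P
  have hA : A ≤ commutator P := inf_le_right
  have h1 : Nat.card A ∣ p := by
    rw [← hcard]
    exact Subgroup.card_dvd_of_le hA
  have h2 : Nat.card A ≠ 1 := by
    intro h3
    have h4 := (Subgroup.card_eq_one (H := A)).1 h3
    have h5 : c ∈ A := ⟨(mem_charKer hχc).2 h, hc⟩
    rw [h4] at h5
    exact hc1 (Subgroup.mem_bot.1 h5)
  have h3 : Nat.card A = p := ((Nat.dvd_prime hp.out).1 h1).resolve_left h2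
  have h4 : A = commutator P := Subgroup.eq_of_le_of_card_ge hA (by rw [h3, hcard])
  intro x hx
  rw [← h4] at hx
  exact (mem_charKer hχc).1 hx.1

theorem vanish_off_center (hcen : commutator P ≤ Subgroup.center P)
    (hcard : Nat.card (commutator P) = p) {χ : P → ℂ} (hχ : IsIrrCharacter P χ)
    (hne : ¬ ∀ x ∈ commutator P, χ x = χ 1) {x : P} (hx : x ∉ Subgroup.center P) : χ x = 0 := by
  rw [Subgroup.mem_center_iff] at hx
  push Not at hx
  obtain ⟨y, hy⟩ := hx
  let c : P := y * x * y⁻¹ * x⁻¹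
  have hcm : c ∈ commutator P := Subgroup.commutator_mem_commutator (Subgroup.mem_top y) (Subgroup.mem_top x)
  have hc1 : c ≠ 1 := by
    intro h
    apply hy
    simp only [c] at h
    rw [mul_inv_eq_one, mul_inv_eq_iff_eq_mul] at h
    exact h
  have h1 := value_ne hcard hχ hne hcm hc1
  have hcz : ∀ g, c * g = g * c := fun g => (Subgroup.mem_center_iff.1 (hcen hcm) g).symm
  have h2 := central_mul hχ hcz x
  have h3 : c * x = y * x * y⁻¹ := by
    simp only [c]
    group
  rw [h3, isClassFunction_of_isCharacter (IsIrrCharacter.isCharacter hχ) x y] at h2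
  have h4 : (χ 1 - χ c) * χ x = 0 := by
    rw [sub_mul, h2, sub_self]
  rcases mul_eq_zero.1 h4 with h5 | h5
  · exact absurd (sub_eq_zero.1 h5).symm h1
  · exact h5

theorem card_center_mul_sq (hcen : commutator P ≤ Subgroup.center P)
    (hcard : Nat.card (commutator P) = p) {χ : P → ℂ} (hχ : IsIrrCharacter P χ)
    (hne : ¬ ∀ x ∈ commutator P, χ x = χ 1) :
    Nat.card (Subgroup.center P) * charDegree χ ^ 2 = Nat.card P := by
  classical
  letI := Fintype.ofFinite P
  have h1 := classInner_irr_self hχ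
  unfold classInner at h1
  have h2 : ∀ g : P, χ g * conj (χ g) = if g ∈ Subgroup.center P then χ 1 * χ 1 else 0 := by
    intro g
    by_cases hg : g ∈ Subgroup.center P
    · rw [if_pos hg]
      exact central_norm hχ (fun y => (Subgroup.mem_center_iff.1 hg y).symm)
    · rw [if_neg hg, vanish_off_center hcen hcard hχ hne hg, zero_mul]
  simp only [h2] at h1
  rw [IndFunBasic.sum_ite_mem, one_eq_charDegree (IsIrrCharacter.isCharacter hχ)] at h1
  have hP : (Nat.card P : ℂ) ≠ 0 := by exact_mod_cast Nat.card_pos.ne'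
  have h3 : ((Nat.card (Subgroup.center P) * charDegree χ ^ 2 : ℕ) : ℂ) = (Nat.card P : ℂ) := by
    push_cast
    field_simp at h1
    rw [← h1]
  exact_mod_cast h3

theorem pow_mem_center (hcen : commutator P ≤ Subgroup.center P)
    (hcard : Nat.card (commutator P) = p) (g : P) : g ^ p ∈ Subgroup.center P := by
  rw [Subgroup.mem_center_iff]
  intro y
  let c : P := y * g * y⁻¹ * g⁻¹
  have hcm : c ∈ commutator P := Subgroup.commutator_mem_commutator (Subgroup.mem_top y) (Subgroup.mem_top g)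
  have h1 : c ^ p = 1 := by
    have h2 : ((⟨c, hcm⟩ : commutator P)) ^ p = 1 := by
      rw [← hcard]
      exact pow_card_eq_one'
    exact congrArg Subtype.val h2
  have h3 : y * g * y⁻¹ = c * g := by
    simp only [c]
    group
  have h4 : Commute c g := (Subgroup.mem_center_iff.1 (hcen hcm) g).symm
  have h5 : y * g ^ p * y⁻¹ = g ^ p := by
    rw [← conj_pow, h3, h4.mul_pow, h1, one_mul]
  rwa [mul_inv_eq_iff_eq_mul] at h5

/-- The main consequences of a commutator subgroup of order `p`. -/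
theorem order_p_case (hP : IsPGroup p P) (h : GalClosed P) (hcard : Nat.card (commutator P) = p) :
    ∃ χ : IrrCharacter P, charDegree (χ : P → ℂ) ≠ 1 ∧ IsCyclic (Subgroup.center P) := by
  classical
  letI := Fintype.ofFinite P
  have hnc : ¬ ∀ a b : P, a * b = b * a := by
    intro hc
    have h1 : commutator P = ⊥ := by
      rw [commutator_def, Subgroup.commutator_eq_bot_iff_le_centralizer]
      intro x _
      rw [Subgroup.mem_centralizer_iff]
      intro y _
      exact hc y x
    rw [h1, Subgroup.card_bot] at hcard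
    exact hp.out.one_lt.ne hcard
  have h0 := Cfsg.Agent.S0187.result (G := P)
  have h1 : ¬ ∀ χ : IrrCharacter P, (χ : P → ℂ) 1 = 1 := fun h2 => hnc (h0.2 h2)
  push Not at h1
  obtain ⟨χ, hχ⟩ := h1
  have hd : charDegree (χ : P → ℂ) ≠ 1 := by
    intro hd
    apply hχ
    rw [one_eq_charDegree (IsIrrCharacter.isCharacter χ.2), hd]
    simp
  refine ⟨χ, hd, ?_⟩
  have hfaith : ∀ g : P, (χ : P → ℂ) g = (χ : P → ℂ) 1 → g = 1 := by
    intro g hg
    have hgc := mem_commutator_of_ker h χ.2 hd hg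
    by_contra hg1
    have := value_ne hcard χ.2 (not_ker_of_charDegree_ne χ.2 hd) hgc hg1
    exact this hg
  apply (Cfsg.Agent.S0184.result p hP).1
  obtain ⟨n, ρ, hρ, hχρ⟩ := χ.2
  refine ⟨n, ρ, hρ, ?_⟩
  refine (injective_iff_map_eq_one ρ).2 fun a ha => ?_
  apply hfaith
  rw [← hχρ]
  show LinearMap.trace ℂ _ (ρ a) = LinearMap.trace ℂ _ (ρ 1)
  have h2 : ρ 1 = 1 := map_one ρ
  rw [ha, h2]

end Commutator

section Numbers

/-- The numerics of the final count. -/
theorem numeric (p : ℕ) (hp : 2 ≤ p) (r : ℕ) :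
    p * ∑ a ∈ Finset.range r, p ^ (2 * a) < p ^ (2 * r) := by
  induction r with
  | zero => simp
  | succ r ih =>
    rw [Finset.sum_range_succ, mul_add]
    have h1 : p ^ (2 * (r + 1)) = p ^ 2 * p ^ (2 * r) := by ring
    have h2 : p * p ^ (2 * r) + p ^ (2 * r) ≤ p ^ 2 * p ^ (2 * r) := by
      have h3 : p + 1 ≤ p ^ 2 := by nlinarith
      calc p * p ^ (2 * r) + p ^ (2 * r) = (p + 1) * p ^ (2 * r) := by ring
        _ ≤ p ^ 2 * p ^ (2 * r) := Nat.mul_le_mul_right _ h3
    rw [h1]
    omega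

end Numbers

section Square

variable {P : Type u} [Group P] [Finite P] {p : ℕ} [hp : Fact p.Prime]

/-- Every irreducible character has a degree bounded in terms of a big abelian section. -/
theorem degree_bound (Z₁ : Subgroup P) (z : P) (C : Subgroup P) (hC : C ≤ Subgroup.center P)
    (hCcard : Nat.card C = p)
    (hcomm : ∀ s : P, s * z * s⁻¹ * z⁻¹ ∈ C)
    (hZ₁ : ∀ u ∈ Z₁, ∃ (i : ℤ) (c : P), c ∈ C ∧ u = z ^ i * c)
    {d : ℕ} (hd : Nat.card Z₁ * d ^ 2 = Nat.card P) {ψ : P → ℂ} (hψ : IsIrrCharacter P ψ) :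
    charDegree ψ ^ 2 ≤ p * d ^ 2 := by
  classical
  letI := Fintype.ofFinite P
  let D : Subgroup P := Subgroup.centralizer ({z} : Set P)
  letI : Fintype D := Fintype.ofFinite _
  have hCc : ∀ c ∈ C, ∀ g : P, c * g = g * c := fun c hc g =>
    (Subgroup.mem_center_iff.1 (hC hc) g).symm
  have hDmem : ∀ s : P, s ∈ D ↔ s * z = z * s := by
    intro s
    rw [Subgroup.mem_centralizer_iff]
    constructor
    · intro h
      exact (h z rfl).symm
    · intro h y hy
      rw [Set.mem_singleton_iff] at hy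
      rw [hy, h]
  -- the index of `D`
  have hidx : D.index ∣ p := by
    let f : P →* C := MonoidHom.mk' (fun s => ⟨s * z * s⁻¹ * z⁻¹, hcomm s⟩) (by
      intro a b
      apply Subtype.ext
      show a * b * z * (a * b)⁻¹ * z⁻¹ = (a * z * a⁻¹ * z⁻¹) * (b * z * b⁻¹ * z⁻¹)
      have h1 := hCc _ (hcomm b) (a * z * a⁻¹ * z⁻¹)
      rw [← h1]
      have h2 := hCc _ (hcomm b) a
      have h3 : a * b * z * (a * b)⁻¹ * z⁻¹ = a * (b * z * b⁻¹ * z⁻¹) * z * a⁻¹ * z⁻¹ := by group
      rw [h3, ← h2]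
      group)
    have hker : f.ker = D := by
      ext s
      rw [MonoidHom.mem_ker, hDmem]
      constructor
      · intro h
        have h1 : s * z * s⁻¹ * z⁻¹ = 1 := congrArg Subtype.val h
        rwa [mul_inv_eq_one, mul_inv_eq_iff_eq_mul] at h1
      · intro h
        apply Subtype.ext
        show s * z * s⁻¹ * z⁻¹ = 1
        rw [mul_inv_eq_one, mul_inv_eq_iff_eq_mul]
        exact h
    rw [← hker, Subgroup.index_ker, ← hCcard]
    exact Subgroup.card_subgroup_dvd_card _
  -- `Z₁` is central in `D`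
  have hZ₁D : ∀ u ∈ Z₁, ∀ t ∈ D, u * t = t * u := by
    intro u hu t ht
    obtain ⟨i, c, hc, rfl⟩ := hZ₁ u hu
    have h1 : Commute t z := (hDmem t).1 ht
    have h2 : Commute t (z ^ i) := h1.zpow_right i
    calc z ^ i * c * t = z ^ i * t * c := by rw [mul_assoc, hCc c hc t, mul_assoc]
      _ = t * z ^ i * c := by rw [h2.eq]
      _ = t * (z ^ i * c) := by rw [mul_assoc]
  have hZ₁le : Z₁ ≤ D := by
    intro u hu
    obtain ⟨i, c, hc, rfl⟩ := hZ₁ u hu
    rw [hDmem]
    have h2 : Commute z (z ^ i) := (Commute.refl z).zpow_right i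
    calc z ^ i * c * z = z ^ i * z * c := by rw [mul_assoc, hCc c hc z, mul_assoc]
      _ = z * z ^ i * c := by rw [h2.eq]
      _ = z * (z ^ i * c) := by rw [mul_assoc]
  have hcardZ : Nat.card Z₁ ≤ Nat.card (Subgroup.center D) := by
    let g : Z₁ → Subgroup.center D := fun u => ⟨⟨u, hZ₁le u.2⟩, by
      rw [Subgroup.mem_center_iff]
      rintro ⟨t, ht⟩
      apply Subtype.ext
      exact (hZ₁D u u.2 t ht).symm⟩
    apply Nat.card_le_card_of_injective g
    intro a b hab
    have h1 := congrArg (fun x : Subgroup.center D => ((x : D) : P)) hab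
    exact Subtype.ext h1
  -- a constituent of the restriction
  have hψc := IsIrrCharacter.isCharacter hψ
  obtain ⟨ξ, hξ, hin⟩ := BrauerInd.exists_constituent (isCharacter_restrict D hψc)
    (by simpa using Clifford.irr_degree_ne_zero hψ)
  have hξ1 := card_center_mul_sq_le hξ
  -- Frobenius
  have hle : charDegree ψ ≤ D.index * charDegree ξ := by
    have h1 : classInner (Cfsg.indFun D ξ) ψ ≠ 0 := by
      rw [CharInd.frobenius D ξ (isClassFunction_of_isCharacter hψc)]
      intro h0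
      apply hin
      rw [← classInner_conj_symm, h0, map_zero]
    have hc := CharInd.indFun_isCharacter D (IsIrrCharacter.isCharacter hξ)
    obtain ⟨ψ', hψ', hs⟩ := CharDecomp.exists_char_add hc hψ h1
    have h2 := congrFun hs 1
    simp only [Pi.add_apply] at h2
    rw [CharInd.indFun_one, one_eq_charDegree hψc, one_eq_charDegree hψ',
      one_eq_charDegree (IsIrrCharacter.isCharacter hξ)] at h2
    have h3 : D.index * charDegree ξ = charDegree ψ + charDegree ψ' := by exact_mod_cast h2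
    omega
  -- combine
  have hcardD := Subgroup.card_mul_index D
  have hidxpos : 0 < D.index := Nat.pos_of_ne_zero Subgroup.index_ne_zero_of_finite
  have hidxp : D.index ≤ p := Nat.le_of_dvd hp.out.pos hidx
  have hZpos : 0 < Nat.card Z₁ := Nat.card_pos
  have h5 : Nat.card Z₁ * charDegree ξ ^ 2 ≤ Nat.card D :=
    le_trans (Nat.mul_le_mul_right _ hcardZ) hξ1
  apply Nat.le_of_mul_le_mul_left _ hZpos
  calc Nat.card Z₁ * charDegree ψ ^ 2 ≤ Nat.card Z₁ * (D.index * charDegree ξ) ^ 2 :=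
        Nat.mul_le_mul_left _ (Nat.pow_le_pow_left hle 2)
    _ = D.index ^ 2 * (Nat.card Z₁ * charDegree ξ ^ 2) := by ring
    _ ≤ D.index ^ 2 * Nat.card D := Nat.mul_le_mul_left _ h5
    _ = D.index * Nat.card P := by rw [← hcardD]; ring
    _ ≤ p * Nat.card P := Nat.mul_le_mul_right _ hidxp
    _ = Nat.card Z₁ * (p * d ^ 2) := by rw [← hd]; ring

/-- Cardinality of the image in a quotient. -/
theorem card_eq_of_le_map (C N : Subgroup P) [C.Normal] (hCN : C ≤ N) :
    Nat.card N = Nat.card C * Nat.card (N.map (QuotientGroup.mk' C)) := by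
  have h1 : (N.map (QuotientGroup.mk' C)).index = N.index := by
    rw [Subgroup.index_map, QuotientGroup.ker_mk', sup_eq_left.2 hCN,
      (MonoidHom.range_eq_top.2 (QuotientGroup.mk'_surjective C)), Subgroup.index_top, mul_one]
  have h2 := Subgroup.card_mul_index N
  have h3 := Subgroup.card_mul_index (N.map (QuotientGroup.mk' C))
  have h4 : Nat.card P = Nat.card (P ⧸ C) * Nat.card C := Subgroup.card_eq_card_quotient_mul_card_subgroup C
  rw [h1] at h3
  have hidx : 0 < N.index := Nat.pos_of_ne_zero Subgroup.index_ne_zero_of_finite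
  apply Nat.eq_of_mul_eq_mul_right hidx
  rw [h2, mul_assoc, h3, h4, mul_comm]

/-- A commutator subgroup of order `p²` cannot occur. -/
theorem no_square (hP : IsPGroup p P) (h : GalClosed P) (C : Subgroup P) [C.Normal]
    (hCle : C ≤ commutator P) (hCcard : Nat.card C = p) (hcard : Nat.card (commutator P) = p ^ 2) :
    False := by
  classical
  letI := Fintype.ofFinite P
  have hp2 : 2 ≤ p := hp.out.two_le
  have hCcen : C ≤ Subgroup.center P := ExtraBasics.le_center_of_normal_of_card hP C hCcard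
  let π : P →* P ⧸ C := QuotientGroup.mk' C
  have hπ : Function.Surjective π := QuotientGroup.mk'_surjective C
  have hπC : ∀ g, π g = 1 ↔ g ∈ C := fun g => QuotientGroup.eq_one_iff g
  have hR : IsPGroup p (P ⧸ C) := hP.to_quotient C
  have hRH : GalClosed (P ⧸ C) := galClosed_quot h C
  have hcomm : commutator (P ⧸ C) = (commutator P).map π := by
    rw [commutator_def, commutator_def, Subgroup.map_commutator, ← MonoidHom.range_eq_map,
      MonoidHom.range_eq_top.2 hπ]
  have hRcard : Nat.card (commutator (P ⧸ C)) = p := by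
    have h1 := card_eq_of_le_map C (commutator P) hCle
    rw [hcard, hCcard, ← hcomm, sq] at h1
    exact (Nat.eq_of_mul_eq_mul_left hp.out.pos h1).symm
  have hRcen : commutator (P ⧸ C) ≤ Subgroup.center (P ⧸ C) :=
    ExtraBasics.le_center_of_normal_of_card hR _ hRcard
  obtain ⟨χ, hd, hcyc⟩ := order_p_case hR hRH hRcard
  have hne := not_ker_of_charDegree_ne χ.2 hd
  have hZ := card_center_mul_sq hRcen hRcard χ.2 hne
  set d := charDegree (χ : P ⧸ C → ℂ) with hddef
  -- the preimage of the centre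
  let Z₁ : Subgroup P := (Subgroup.center (P ⧸ C)).comap π
  have hCZ₁ : C ≤ Z₁ := by
    intro c hc
    show π c ∈ Subgroup.center (P ⧸ C)
    rw [(hπC c).2 hc]
    exact Subgroup.one_mem _
  have hZ₁card : Nat.card Z₁ = p * Nat.card (Subgroup.center (P ⧸ C)) := by
    have h1 := card_eq_of_le_map C Z₁ hCZ₁
    rw [hCcard, show Z₁.map (QuotientGroup.mk' C) = Subgroup.center (P ⧸ C) from
      Subgroup.map_comap_eq_self_of_surjective hπ _] at h1
    exact h1
  have hPcard : Nat.card P = p * Nat.card (P ⧸ C) := by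
    rw [Subgroup.card_eq_card_quotient_mul_card_subgroup C, hCcard, mul_comm]
  have hZ₁d : Nat.card Z₁ * d ^ 2 = Nat.card P := by
    rw [hZ₁card, hPcard, ← hZ]
    ring
  -- the generator
  obtain ⟨g₀, hg₀⟩ := IsCyclic.exists_generator (α := Subgroup.center (P ⧸ C))
  obtain ⟨z, hz⟩ := hπ (g₀ : P ⧸ C)
  have hcomm' : ∀ s : P, s * z * s⁻¹ * z⁻¹ ∈ C := by
    intro s
    rw [← hπC]
    simp only [map_mul, map_inv, hz]
    have h1 := Subgroup.mem_center_iff.1 g₀.2 (π s)
    rw [h1]
    group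
  have hZ₁form : ∀ u ∈ Z₁, ∃ (i : ℤ) (c : P), c ∈ C ∧ u = z ^ i * c := by
    intro u hu
    obtain ⟨i, hi⟩ := Subgroup.mem_zpowers_iff.1 (hg₀ ⟨π u, hu⟩)
    have hi' : (g₀ : P ⧸ C) ^ i = π u := congrArg Subtype.val hi
    refine ⟨i, (z ^ i)⁻¹ * u, ?_, by group⟩
    rw [← hπC]
    simp only [map_mul, map_inv, map_zpow, hz]
    rw [hi']
    group
  have hbound := fun (ψ : P → ℂ) (hψ : IsIrrCharacter P ψ) =>
    degree_bound Z₁ z C hCcen hCcard hcomm' hZ₁form hZ₁d hψ
  -- orders
  obtain ⟨n, hn⟩ := IsPGroup.iff_card.1 hP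
  have hn0 : n ≠ 0 := by
    rintro rfl
    have h1 : Nat.card C ∣ Nat.card P := Subgroup.card_subgroup_dvd_card C
    rw [hn, hCcard] at h1
    simp at h1
    exact hp.out.one_lt.ne' h1
  have hdeg_pow : ∀ ψ : IrrCharacter P, ∃ a, charDegree (ψ : P → ℂ) = p ^ a := by
    intro ψ
    have h1 := charDegree_dvd_card ψ.2
    rw [hn] at h1
    obtain ⟨a, -, ha⟩ := (Nat.dvd_prime_pow hp.out).1 h1
    exact ⟨a, ha⟩
  obtain ⟨r, hr⟩ : ∃ r, d = p ^ r := by
    have h1 : d ∣ Nat.card (P ⧸ C) := charDegree_dvd_card χ.2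
    have h2 : Nat.card (P ⧸ C) ∣ Nat.card P := by
      rw [← Subgroup.index_eq_card]
      exact Subgroup.index_dvd_card C
    rw [hn] at h2
    obtain ⟨a, -, ha⟩ := (Nat.dvd_prime_pow hp.out).1 (h1.trans h2)
    exact ⟨a, ha⟩
  obtain ⟨y, hy⟩ : ∃ y, Nat.card (Subgroup.center (P ⧸ C)) = p ^ y := by
    have h1 : Nat.card (Subgroup.center (P ⧸ C)) ∣ Nat.card (P ⧸ C) := Subgroup.card_subgroup_dvd_card _
    have h2 : Nat.card (P ⧸ C) ∣ Nat.card P := by
      rw [← Subgroup.index_eq_card]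
      exact Subgroup.index_dvd_card C
    rw [hn] at h2
    obtain ⟨a, -, ha⟩ := (Nat.dvd_prime_pow hp.out).1 (h1.trans h2)
    exact ⟨a, ha⟩
  -- the exponent
  set e : ℕ := p ^ (y + 2) with he
  have hexp : ∀ g : P, g ^ e = 1 := by
    intro g
    have h1 : (π g) ^ p ∈ Subgroup.center (P ⧸ C) := pow_mem_center hRcen hRcard (π g)
    have h2 := pow_card_eq_one' (x := (⟨(π g) ^ p, h1⟩ : Subgroup.center (P ⧸ C)))
    rw [hy] at h2
    have h3 : (π g ^ p) ^ (p ^ y) = 1 := congrArg Subtype.val h2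
    have h4 : g ^ (p * p ^ y) ∈ C := by
      rw [← hπC, map_pow, pow_mul]
      exact h3
    have h5 := pow_card_eq_one' (x := (⟨g ^ (p * p ^ y), h4⟩ : C))
    rw [hCcard] at h5
    have h6 : (g ^ (p * p ^ y)) ^ p = 1 := congrArg Subtype.val h5
    rw [he, show p ^ (y + 2) = p * p ^ y * p by ring, pow_mul]
    exact h6
  haveI : NeZero e := ⟨by rw [he]; exact pow_ne_zero _ hp.out.ne_zero⟩
  -- the set of characters not containing `C` in their kernel
  let T : Finset (IrrCharacter P) :=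
    Finset.univ.filter fun ψ => ¬ ∀ n ∈ C, (ψ : P → ℂ) n = (ψ : P → ℂ) 1
  have hsum : p * ∑ ψ ∈ T, charDegree (ψ : P → ℂ) ^ 2 = (p - 1) * Nat.card P := by
    have h1 := sum_ker_deg_sq C
    have h2 := sum_charDegree_sq (G := P)
    have h3 : ∑ χ : IrrCharacter P, charDegree (χ : P → ℂ) ^ 2 =
        ∑ χ : IrrCharacter P, (if ∀ n ∈ C, (χ : P → ℂ) n = (χ : P → ℂ) 1 then
          (charDegree (χ : P → ℂ)) ^ 2 else 0) + ∑ ψ ∈ T, charDegree (ψ : P → ℂ) ^ 2 := by
      simp only [T]
      rw [Finset.sum_filter, ← Finset.sum_add_distrib]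
      refine Finset.sum_congr rfl fun ψ _ => ?_
      split_ifs <;> simp_all
    rw [hCcard] at h1
    rw [h2] at h3
    have h4 := congrArg (fun m => p * m) h3
    simp only [mul_add] at h4
    rw [h1] at h4
    rw [Nat.sub_mul, one_mul]
    omega
  -- degrees on `T`
  have hT1 : ∀ ψ ∈ T, charDegree (ψ : P → ℂ) ≠ 1 := by
    intro ψ hψ hd1
    apply (Finset.mem_filter.1 hψ).2
    intro n hn
    exact hom_of_charDegree_one ψ.2 hd1 n (hCle hn)
  have hTd : ∀ ψ ∈ T, charDegree (ψ : P → ℂ) ≠ d := by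
    intro ψ hψ hdeq
    apply (Finset.mem_filter.1 hψ).2
    let χ' : IrrCharacter P := ⟨(χ : P ⧸ C → ℂ) ∘ π, isIrrCharacter_comp_of_surjective π hπ χ.2⟩
    have hχ'1 : (χ' : P → ℂ) 1 = (χ : P ⧸ C → ℂ) 1 := by
      show (χ : P ⧸ C → ℂ) (π 1) = _
      rw [map_one]
    have hχ'd : charDegree (χ' : P → ℂ) = d := by
      simp only [charDegree, hχ'1, hddef]
    obtain ⟨k, -, hk⟩ := h χ' ψ (by rwa [hχ'd]) (by rw [hχ'd, hdeq])
    intro n hn
    rw [hk n, hk 1, one_pow]
    show (χ : P ⧸ C → ℂ) (π (n ^ k)) = (χ : P ⧸ C → ℂ) (π 1)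
    rw [map_pow, (hπC n).2 hn, one_pow, map_one]
  let ex : IrrCharacter P → ℕ := fun ψ => Nat.log p (charDegree (ψ : P → ℂ))
  have hex : ∀ ψ : IrrCharacter P, charDegree (ψ : P → ℂ) = p ^ ex ψ := by
    intro ψ
    obtain ⟨a, ha⟩ := hdeg_pow ψ
    simp only [ex]
    rw [ha, Nat.log_pow hp.out.one_lt]
  have hTr : ∀ ψ ∈ T, ex ψ ∈ Finset.range r := by
    intro ψ hψ
    rw [Finset.mem_range]
    have h1 := hbound ψ ψ.2
    rw [hex ψ, hr, ← pow_mul, ← pow_mul, ← pow_succ'] at h1
    have h2 := (Nat.pow_le_pow_iff_right hp.out.one_lt).1 h1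
    have h3 : ex ψ ≠ r := by
      intro h4
      apply hTd ψ hψ
      rw [hex ψ, h4, hr]
    omega
  -- counting in the fibres
  have hfib : ∀ a, (T.filter fun ψ => ex ψ = a).card ≤ Nat.totient e := by
    intro a
    rcases (T.filter fun ψ => ex ψ = a).eq_empty_or_nonempty with h0 | ⟨ψ₀, hψ₀⟩
    · rw [h0]
      simp
    · have hψ₀' := Finset.mem_filter.1 hψ₀
      let F : (ZMod e)ˣ → (P → ℂ) := fun u g => (ψ₀ : P → ℂ) (g ^ ((u : ZMod e).val))
      have hsub : ∀ ψ ∈ T.filter (fun ψ => ex ψ = a), (ψ : P → ℂ) ∈ Finset.univ.image F := by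
        intro ψ hψ
        have hψ' := Finset.mem_filter.1 hψ
        have hdeq : charDegree (ψ₀ : P → ℂ) = charDegree (ψ : P → ℂ) := by
          rw [hex, hex, hψ₀'.2, hψ'.2]
        obtain ⟨k, hk, hkg⟩ := h ψ₀ ψ (hT1 ψ₀ hψ₀'.1) hdeq
        have hkp : Nat.Coprime k e := by
          rw [he]
          apply Nat.Coprime.pow_right
          rw [hn] at hk
          exact Nat.Coprime.coprime_dvd_right (dvd_pow_self p hn0) hk
        refine Finset.mem_image.2 ⟨ZMod.unitOfCoprime k hkp, Finset.mem_univ _, ?_⟩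
        funext g
        show (ψ₀ : P → ℂ) (g ^ ((ZMod.unitOfCoprime k hkp : ZMod e).val)) = (ψ : P → ℂ) g
        rw [hkg g, ZMod.coe_unitOfCoprime, ZMod.val_natCast, ← pow_eq_pow_mod k (hexp g)]
      calc (T.filter fun ψ => ex ψ = a).card
          = ((T.filter fun ψ => ex ψ = a).image Subtype.val).card :=
            (Finset.card_image_of_injective _ Subtype.val_injective).symm
        _ ≤ (Finset.univ.image F).card := by
            apply Finset.card_le_card
            intro f hf
            obtain ⟨ψ, hψ, rfl⟩ := Finset.mem_image.1 hf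
            exact hsub ψ hψ
        _ ≤ (Finset.univ : Finset (ZMod e)ˣ).card := Finset.card_image_le
        _ = Nat.totient e := by
            rw [Finset.card_univ, ZMod.card_units_eq_totient]
  have hbound2 : ∑ ψ ∈ T, charDegree (ψ : P → ℂ) ^ 2 ≤
      Nat.totient e * ∑ a ∈ Finset.range r, p ^ (2 * a) := by
    rw [← Finset.sum_fiberwise_of_maps_to hTr, Finset.mul_sum]
    apply Finset.sum_le_sum
    intro a _
    have h1 : ∀ ψ ∈ T.filter (fun ψ => ex ψ = a), charDegree (ψ : P → ℂ) ^ 2 = p ^ (2 * a) := by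
      intro ψ hψ
      rw [hex ψ, (Finset.mem_filter.1 hψ).2, ← pow_mul, mul_comm]
    rw [Finset.sum_congr rfl h1, Finset.sum_const, smul_eq_mul]
    exact Nat.mul_le_mul_right _ (hfib a)
  have htot : Nat.totient e = p ^ (y + 1) * (p - 1) := by
    rw [he, Nat.totient_prime_pow hp.out (by omega)]
    rfl
  have hnum := numeric p hp2 r
  have hPfinal : Nat.card P = p * p ^ y * p ^ (2 * r) := by
    rw [← hZ₁d, hZ₁card, hy, hr, ← pow_mul, mul_comm r 2]
  have htotpos : 0 < Nat.totient e := Nat.totient_pos.2 (by rw [he]; exact pow_pos hp.out.pos _)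
  have hlt : (p - 1) * Nat.card P < Nat.totient e * p ^ (2 * r) := by
    calc (p - 1) * Nat.card P = p * ∑ ψ ∈ T, charDegree (ψ : P → ℂ) ^ 2 := hsum.symm
      _ ≤ p * (Nat.totient e * ∑ a ∈ Finset.range r, p ^ (2 * a)) := Nat.mul_le_mul_left _ hbound2
      _ = Nat.totient e * (p * ∑ a ∈ Finset.range r, p ^ (2 * a)) := by ring
      _ < Nat.totient e * p ^ (2 * r) := Nat.mul_lt_mul_of_pos_left hnum htotpos
  rw [htot, hPfinal] at hlt
  have h0 : (p - 1) * (p * p ^ y * p ^ (2 * r)) = p ^ (y + 1) * (p - 1) * p ^ (2 * r) := by ring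
  exact absurd hlt (by rw [h0]; exact lt_irrefl _)

/-- The commutator subgroup has order `p`. -/
theorem card_commutator_eq : ∀ (m : ℕ) (P : Type u) [Group P] [Finite P], Nat.card P = m →
    IsPGroup p P → GalClosed P → Nat.card (commutator P) ≠ 1 → Nat.card (commutator P) = p := by
  intro m
  induction m using Nat.strong_induction_on with
  | _ m ih =>
    intro P _ _ hm hP h hne
    by_contra hcon
    have hbot : commutator P ≠ ⊥ := by
      intro h0
      rw [h0, Subgroup.card_bot] at hne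
      exact hne rfl
    obtain ⟨y, hy, hy1, hyc⟩ := PGrp.exists_central_mem_normal hP (commutator P) hbot
    -- an element of order `p`
    have hordy : orderOf y ∣ Nat.card (commutator P) := by
      have h1 := orderOf_dvd_natCard (⟨y, hy⟩ : commutator P)
      rwa [Subgroup.orderOf_mk] at h1
    obtain ⟨n, hn⟩ := IsPGroup.iff_card.1 hP
    have h2 : orderOf y ∣ p ^ n := by
      rw [← hn]
      exact orderOf_dvd_natCard y
    obtain ⟨a, -, ha⟩ := (Nat.dvd_prime_pow hp.out).1 h2
    have ha0 : a ≠ 0 := by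
      rintro rfl
      rw [pow_zero, orderOf_eq_one_iff] at ha
      exact hy1 ha
    let w : P := y ^ (p ^ (a - 1))
    have hwm : w ∈ commutator P := Subgroup.pow_mem _ hy _
    have hwc : w ∈ Subgroup.center P := Subgroup.pow_mem _ hyc _
    have hwo : orderOf w = p := by
      have h3 := orderOf_pow' y (pow_ne_zero (a - 1) hp.out.ne_zero)
      simp only [w]
      rw [h3, ha]
      obtain ⟨b, rfl⟩ : ∃ b, a = b + 1 := ⟨a - 1, by omega⟩
      simp only [Nat.add_sub_cancel]
      rw [Nat.gcd_eq_right (pow_dvd_pow p (Nat.le_succ b)), pow_succ]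
      exact Nat.mul_div_cancel_left _ (pow_pos hp.out.pos b)
    let C : Subgroup P := Subgroup.zpowers w
    have hCcard : Nat.card C = p := by
      rw [Nat.card_zpowers, hwo]
    haveI hCn : C.Normal := by
      have h3 : C ≤ Subgroup.center P := by
        rw [Subgroup.zpowers_le]
        exact hwc
      constructor
      intro x hx g
      have h4 := Subgroup.mem_center_iff.1 (h3 hx) g
      rw [h4, mul_inv_cancel_right]
      exact hx
    have hCle : C ≤ commutator P := by
      rw [Subgroup.zpowers_le]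
      exact hwm
    -- the quotient
    let π : P →* P ⧸ C := QuotientGroup.mk' C
    have hπ : Function.Surjective π := QuotientGroup.mk'_surjective C
    have hcomm : commutator (P ⧸ C) = (commutator P).map π := by
      rw [commutator_def, commutator_def, Subgroup.map_commutator, ← MonoidHom.range_eq_map,
        MonoidHom.range_eq_top.2 hπ]
    have hc := card_eq_of_le_map C (commutator P) hCle
    rw [hCcard, ← hcomm] at hc
    have hRne : Nat.card (commutator (P ⧸ C)) ≠ 1 := by
      intro h1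
      rw [h1, mul_one] at hc
      exact hcon hc
    have hlt : Nat.card (P ⧸ C) < m := by
      have h3 : Nat.card P = Nat.card (P ⧸ C) * Nat.card C := Subgroup.card_eq_card_quotient_mul_card_subgroup C
      rw [hCcard] at h3
      rw [← hm, h3]
      have h4 : 0 < Nat.card (P ⧸ C) := Nat.card_pos
      have h5 := hp.out.one_lt
      nlinarith
    have h4 := ih _ hlt (P ⧸ C) rfl (hP.to_quotient C) (galClosed_quot h C) hRne
    rw [h4, ← sq] at hc
    exact no_square hP h C hCle hCcard hc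

end Square

section Reverse

variable {P : Type u} [Group P] [Finite P] {p : ℕ} [hp : Fact p.Prime]

theorem mem_of_pow_mem_of_coprime (H : Subgroup P) {g : P} {k : ℕ}
    (hk : Nat.Coprime k (Nat.card P)) (hg : g ^ k ∈ H) : g ∈ H := by
  have h1 := Nat.gcd_eq_gcd_ab k (Nat.card P)
  rw [hk.gcd_eq_one] at h1
  have h2 : g = (g ^ k) ^ (Nat.gcdA k (Nat.card P)) * (g ^ Nat.card P) ^ (Nat.gcdB k (Nat.card P)) := by
    rw [← zpow_natCast g k, ← zpow_natCast g (Nat.card P), ← zpow_mul, ← zpow_mul, ← zpow_add, ← h1]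
    simp
  rw [h2, pow_card_eq_one', one_zpow, mul_one]
  exact H.zpow_mem hg _

/-- Faithfulness on the cyclic centre. -/
theorem faithful_on_center (hP : IsPGroup p P) (hcyc : IsCyclic (Subgroup.center P))
    (hcard : Nat.card (commutator P) = p) {χ : P → ℂ} (hχ : IsIrrCharacter P χ)
    (hne : ¬ ∀ x ∈ commutator P, χ x = χ 1) {w : P} (hwZ : w ∈ Subgroup.center P)
    (hw : χ w = χ 1) : w = 1 := by
  by_contra hw1
  have hχc := IsIrrCharacter.isCharacter hχ
  have hcen : commutator P ≤ Subgroup.center P :=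
    ExtraBasics.le_center_of_normal_of_card hP _ hcard
  -- an element of order `p` of the commutator subgroup
  obtain ⟨c, hc⟩ : ∃ c : commutator P, c ≠ 1 := by
    haveI : Nontrivial (commutator P) := by
      rw [← Finite.one_lt_card_iff_nontrivial, hcard]
      exact hp.out.one_lt
    exact exists_ne 1
  have hcp := pow_card_eq_one' (x := c)
  rw [hcard] at hcp
  have hco : orderOf c = p := orderOf_eq_prime hcp hc
  -- a power of `w` of order `p`
  obtain ⟨n, hn⟩ := IsPGroup.iff_card.1 hP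
  have h2 : orderOf w ∣ p ^ n := by
    rw [← hn]
    exact orderOf_dvd_natCard w
  obtain ⟨a, -, ha⟩ := (Nat.dvd_prime_pow hp.out).1 h2
  have ha0 : a ≠ 0 := by
    rintro rfl
    rw [pow_zero, orderOf_eq_one_iff] at ha
    exact hw1 ha
  let v : P := w ^ (p ^ (a - 1))
  have hvk : v ∈ charKer hχc := Subgroup.pow_mem _ ((mem_charKer hχc).2 hw) _
  have hvZ : v ∈ Subgroup.center P := Subgroup.pow_mem _ hwZ _
  have hvo : orderOf v = p := by
    have h3 := orderOf_pow' w (pow_ne_zero (a - 1) hp.out.ne_zero)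
    simp only [v]
    rw [h3, ha]
    obtain ⟨b, rfl⟩ : ∃ b, a = b + 1 := ⟨a - 1, by omega⟩
    simp only [Nat.add_sub_cancel]
    rw [Nat.gcd_eq_right (pow_dvd_pow p (Nat.le_succ b)), pow_succ]
    exact Nat.mul_div_cancel_left _ (pow_pos hp.out.pos b)
  have h4 : (⟨(c : P), hcen c.2⟩ : Subgroup.center P) ∈ Subgroup.zpowers (⟨v, hvZ⟩ : Subgroup.center P) :=
    Cfsg.Agent.S0184.mem_zpowers_of_orderOf_eq (p := p) hp.out.pos (by
      rw [Subgroup.orderOf_mk]
      rw [← hco, Subgroup.orderOf_coe]) (by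
      rw [Subgroup.orderOf_mk]
      exact hvo)
  obtain ⟨i, hi⟩ := h4
  have h5 : v ^ i = (c : P) := by
    have := congrArg Subtype.val hi
    simpa using this
  have h6 : (c : P) ∈ charKer hχc := by
    rw [← h5]
    exact Subgroup.zpow_mem _ hvk i
  exact value_ne hcard hχ hne c.2 (fun h => hc (Subtype.ext h)) ((mem_charKer hχc).1 h6)

/-- The values on the centre. -/
theorem values_on_center (hP : IsPGroup p P) (hcyc : IsCyclic (Subgroup.center P))
    (hcard : Nat.card (commutator P) = p) {χ : P → ℂ} (hχ : IsIrrCharacter P χ)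
    (hne : ¬ ∀ x ∈ commutator P, χ x = χ 1) {g₀ : P} (hg₀ : g₀ ∈ Subgroup.center P) :
    (∀ m : ℕ, χ (g₀ ^ m) = χ 1 * (χ g₀ / χ 1) ^ m) ∧ IsPrimitiveRoot (χ g₀ / χ 1) (orderOf g₀) := by
  have h0 : χ 1 ≠ 0 := Clifford.irr_degree_ne_zero hχ
  have hcz : ∀ y, g₀ * y = y * g₀ := fun y => (Subgroup.mem_center_iff.1 hg₀ y).symm
  have h1 : ∀ m : ℕ, χ (g₀ ^ m) = χ 1 * (χ g₀ / χ 1) ^ m := by
    intro m
    induction m with
    | zero => simp
    | succ m ih =>
      have h2 := central_mul hχ hcz (g₀ ^ m)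
      rw [← pow_succ', ih] at h2
      have h3 : χ (g₀ ^ (m + 1)) = χ g₀ * (χ g₀ / χ 1) ^ m := by
        apply mul_left_cancel₀ h0
        rw [h2]
        ring
      have ha : χ 1 * (χ g₀ / χ 1) = χ g₀ := mul_div_cancel₀ _ h0
      rw [h3, pow_succ]
      generalize χ g₀ / χ 1 = a at ha
      rw [← ha]
      ring
  refine ⟨h1, ?_⟩
  constructor
  · have h2 := h1 (orderOf g₀)
    rw [pow_orderOf_eq_one] at h2
    exact (mul_eq_left₀ h0).1 h2.symm
  · intro l hl
    have h2 := h1 l
    rw [hl, mul_one] at h2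
    have h3 := faithful_on_center hP hcyc hcard hχ hne (Subgroup.pow_mem _ hg₀ l) h2
    exact orderOf_dvd_of_pow_eq_one h3

theorem reverse (hP : IsPGroup p P) (hcyc : IsCyclic (Subgroup.center P))
    (hcard : Nat.card (commutator P) = p) (χ ψ : IrrCharacter P)
    (hd : charDegree (χ : P → ℂ) ≠ 1) (hdeq : charDegree (χ : P → ℂ) = charDegree (ψ : P → ℂ)) :
    ∃ k : ℕ, Nat.Coprime k (Nat.card P) ∧ ∀ g : P, (ψ : P → ℂ) g = (χ : P → ℂ) (g ^ k) := by
  have hcen : commutator P ≤ Subgroup.center P :=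
    ExtraBasics.le_center_of_normal_of_card hP _ hcard
  have hneχ := not_ker_of_charDegree_ne χ.2 hd
  have hneψ := not_ker_of_charDegree_ne ψ.2 (by rwa [← hdeq])
  obtain ⟨g₀', hg₀'⟩ := IsCyclic.exists_generator (α := Subgroup.center P)
  set g₀ : P := (g₀' : P) with hg₀def
  have hg₀Z : g₀ ∈ Subgroup.center P := g₀'.2
  obtain ⟨h1χ, h2χ⟩ := values_on_center hP hcyc hcard χ.2 hneχ hg₀Z
  obtain ⟨h1ψ, h2ψ⟩ := values_on_center hP hcyc hcard ψ.2 hneψ hg₀Z
  have hN : 0 < orderOf g₀ := orderOf_pos g₀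
  haveI : NeZero (orderOf g₀) := ⟨hN.ne'⟩
  obtain ⟨i, -, hi⟩ := h2χ.eq_pow_of_pow_eq_one h2ψ.pow_eq_one
  have hcop : i.Coprime (orderOf g₀) := by
    rw [← h2χ.pow_iff_coprime hN, hi]
    exact h2ψ
  -- the order of `g₀` is divisible by `p`
  have hpN : p ∣ orderOf g₀ := by
    have h3 : p ∣ Nat.card (Subgroup.center P) := by
      rw [← hcard]
      exact Subgroup.card_dvd_of_le hcen
    have h4 : orderOf g₀' = Nat.card (Subgroup.center P) := orderOf_eq_card_of_forall_mem_zpowers hg₀'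
    rw [hg₀def, Subgroup.orderOf_coe, h4]
    exact h3
  have hip : i.Coprime p := Nat.Coprime.coprime_dvd_right hpN hcop
  have hiP : i.Coprime (Nat.card P) := by
    obtain ⟨n, hn⟩ := IsPGroup.iff_card.1 hP
    rw [hn]
    exact Nat.Coprime.pow_right n hip
  refine ⟨i, hiP, fun g => ?_⟩
  have hone : (ψ : P → ℂ) 1 = (χ : P → ℂ) 1 := by
    rw [one_eq_charDegree (IsIrrCharacter.isCharacter ψ.2), one_eq_charDegree (IsIrrCharacter.isCharacter χ.2), hdeq]
  by_cases hg : g ∈ Subgroup.center P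
  · obtain ⟨m, hm⟩ : ∃ m : ℕ, g₀' ^ m = ⟨g, hg⟩ := by
      have h3 := hg₀' ⟨g, hg⟩
      rw [← mem_powers_iff_mem_zpowers] at h3
      exact h3
    have hm' : g = g₀ ^ m := (congrArg Subtype.val hm).symm
    rw [hm', h1ψ m, ← hi, hone, ← pow_mul, ← pow_mul, h1χ, mul_comm i m]
  · rw [vanish_off_center hcen hcard ψ.2 hneψ hg,
      vanish_off_center hcen hcard χ.2 hneχ (fun h => hg (mem_of_pow_mem_of_coprime _ hiP h))]

end Reverse

/-- Let p be a prime and P a finite non-commutative p-group. Then every two irreducible characters of P of the same degree greater than 1 are Galois conjugate (one is obtained from the other by composing with g ↦ g^k for some k prime to the order of P) if and only if the centre of P is cyclic and the derived subgroup of P has order p. -/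
theorem result {P : Type*} [Group P] [Finite P] (p : ℕ) [Fact p.Prime] (hP : IsPGroup p P) (hna : ¬ IsMulCommutative P) :
    (∀ χ ψ : Cfsg.IrrCharacter P, Cfsg.charDegree (χ : P → ℂ) ≠ 1 → Cfsg.charDegree (χ : P → ℂ) = Cfsg.charDegree (ψ : P → ℂ) → ∃ k : ℕ, Nat.Coprime k (Nat.card P) ∧ ∀ g : P, (ψ : P → ℂ) g = (χ : P → ℂ) (g ^ k)) ↔
      (IsCyclic (Subgroup.center P) ∧ Nat.card (commutator P) = p) := by
  constructor
  · intro h
    have hne : Nat.card (commutator P) ≠ 1 := by
      intro h1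
      apply hna
      have h2 := (Subgroup.card_eq_one (H := commutator P)).1 h1
      apply IsMulCommutative.of_comm
      intro a b
      have h3 : a * b * a⁻¹ * b⁻¹ ∈ commutator P :=
        Subgroup.commutator_mem_commutator (Subgroup.mem_top a) (Subgroup.mem_top b)
      rw [h2, Subgroup.mem_bot, mul_inv_eq_one, mul_inv_eq_iff_eq_mul] at h3
      exact h3
    have hcard := card_commutator_eq _ P rfl hP h hne
    obtain ⟨χ, -, hcyc⟩ := order_p_case hP h hcard
    exact ⟨hcyc, hcard⟩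
  · rintro ⟨hcyc, hcard⟩ χ ψ hd hdeq
    exact reverse hP hcyc hcard χ ψ hd hdeq

end Cfsg.Agent.S4845
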