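import Cfsg.Statements.S1081
import Cfsg.Agent.Lib.ChevGraph
import Cfsg.Agent.Lib.Chev.RelE6
import Cfsg.Agent.Lib.Chev.RelD4

set_option autoImplicit false
open Cfsg

namespace Cfsg.Agent.S1081

open Cfsg.Agent.Lib.Chev Cfsg.Agent.Lib.Chev.Graph Cfsg.Lie

theorem finish {F : Type*} [Field F] {T : Tabs} {X : Extra} {D : ChevalleyDatum} (hC : Checks T X D)
    {π πi : ℕ → ℕ} {s : ℕ → ℤ} (hg : checkGraph T π s = true) (hp : checkPerm T π πi s = true)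
    (ρ : List ℕ)
    (ht : ∀ i < D.rank, π (D.rank + D.simple i) - D.rank = D.simple (ρ.getD i 0) ∧
      s (D.rank + D.simple i) = 1 ∧
      π (D.rank + D.neg (D.simple i)) - D.rank = D.neg (D.simple (ρ.getD i 0)) ∧
      s (D.rank + D.neg (D.simple i)) = 1) :
    ∃ α : ↥(D.group F) ≃* ↥(D.group F), ∀ (g : ↥(D.group F)) (i : ℕ) (t : F), i < D.rank →
      (((g : GL D.Idx F) : Matrix D.Idx D.Idx F) = D.x F (D.simple i) t →
        ((α g : GL D.Idx F) : Matrix D.Idx D.Idx F) = D.x F (D.simple (ρ.getD i 0)) t) ∧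
      (((g : GL D.Idx F) : Matrix D.Idx D.Idx F) = D.x F (D.neg (D.simple i)) t →
        ((α g : GL D.Idx F) : Matrix D.Idx D.Idx F) = D.x F (D.neg (D.simple (ρ.getD i 0))) t) := by
  obtain ⟨α, hα⟩ := exists_aut (F := F) hC hg hp
  refine ⟨α, ?_⟩
  intro g i t hi
  obtain ⟨h1, h2, h3, h4⟩ := ht i hi
  have hsi : D.simple i < D.nroots := by
    have h5 := allBelow_spec _ _ hC.simple_ok i hi
    exact Nat.le_of_ble_eq_true h5
  constructor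
  · intro h
    have h5 := hα g _ t hsi (hC.eq_xG h)
    rw [h1, h2] at h5
    rw [h5]
    simp
  · intro h
    have h5 := hα g _ t (hC.neg_lt hsi) (hC.eq_xG h)
    rw [h3, h4] at h5
    rw [h5]
    simp

noncomputable def piE6 : ℕ → ℕ := nth 1000 [5, 1, 4, 3, 2, 0, 6, 7, 8, 11, 22, 9, 12, 23, 14, 25, 28, 17, 32, 36, 39, 41, 10, 13, 24, 15, 26, 29, 16, 27, 30, 31, 18, 33, 37, 40, 19, 34, 38, 20, 35, 21, 62, 48, 63, 45, 49, 64, 43, 46, 50, 65, 52, 53, 56, 67, 54, 57, 68, 59, 70, 73, 42, 44, 47, 51, 66, 55, 58, 69, 60, 71, 74, 61, 72, 75, 76, 77]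
noncomputable def piiE6 : ℕ → ℕ := nth 1000 [5, 1, 4, 3, 2, 0, 6, 7, 8, 11, 22, 9, 12, 23, 14, 25, 28, 17, 32, 36, 39, 41, 10, 13, 24, 15, 26, 29, 16, 27, 30, 31, 18, 33, 37, 40, 19, 34, 38, 20, 35, 21, 62, 48, 63, 45, 49, 64, 43, 46, 50, 65, 52, 53, 56, 67, 54, 57, 68, 59, 70, 73, 42, 44, 47, 51, 66, 55, 58, 69, 60, 71, 74, 61, 72, 75, 76, 77]
noncomputable def sE6 : ℕ → ℤ := nth 0 [1, 1, 1, 1, 1, 1, 1, 1, 1, 1, (-1), 1, 1, (-1), 1, (-1), (-1), 1, (-1), 1, (-1), 1, (-1), (-1), 1, (-1), 1, 1, (-1), 1, 1, 1, (-1), 1, (-1), 1, 1, (-1), 1, (-1), 1, 1, 1, 1, (-1), 1, (-1), 1, 1, (-1), 1, (-1), 1, 1, 1, (-1), 1, 1, (-1), 1, (-1), (-1), 1, (-1), 1, (-1), 1, (-1), (-1), 1, (-1), 1, 1, (-1), 1, 1, 1, 1]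

theorem gE6 : checkGraph TabE6.T piE6 sE6 = true := by decide +kernel
theorem pE6 : checkPerm TabE6.T piE6 piiE6 sE6 = true := by decide +kernel
theorem tE6 : ∀ i < chevE6.rank, piE6 (chevE6.rank + chevE6.simple i) - chevE6.rank = chevE6.simple ([5, 1, 4, 3, 2, 0].getD i 0) ∧
    sE6 (chevE6.rank + chevE6.simple i) = 1 ∧
    piE6 (chevE6.rank + chevE6.neg (chevE6.simple i)) - chevE6.rank = chevE6.neg (chevE6.simple ([5, 1, 4, 3, 2, 0].getD i 0)) ∧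
    sE6 (chevE6.rank + chevE6.neg (chevE6.simple i)) = 1 := by decide +kernel

noncomputable def piD4a : ℕ → ℕ := nth 1000 [2, 1, 3, 0, 4, 5, 10, 6, 11, 14, 7, 12, 8, 13, 15, 9, 22, 16, 18, 23, 19, 24, 17, 20, 25, 21, 26, 27]
noncomputable def piiD4a : ℕ → ℕ := nth 1000 [3, 1, 0, 2, 4, 5, 7, 10, 12, 15, 6, 8, 11, 13, 9, 14, 17, 22, 18, 20, 23, 25, 16, 19, 21, 24, 26, 27]
noncomputable def sD4a : ℕ → ℤ := nth 0 [1, 1, 1, 1, 1, 1, (-1), 1, (-1), 1, (-1), 1, (-1), 1, 1, 1, 1, 1, 1, (-1), 1, (-1), 1, (-1), 1, (-1), 1, 1]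

theorem gD4a : checkGraph TabD4.T piD4a sD4a = true := by decide +kernel
theorem pD4a : checkPerm TabD4.T piD4a piiD4a sD4a = true := by decide +kernel
theorem tD4a : ∀ i < chevD4.rank, piD4a (chevD4.rank + chevD4.simple i) - chevD4.rank = chevD4.simple ([2, 1, 3, 0].getD i 0) ∧
    sD4a (chevD4.rank + chevD4.simple i) = 1 ∧
    piD4a (chevD4.rank + chevD4.neg (chevD4.simple i)) - chevD4.rank = chevD4.neg (chevD4.simple ([2, 1, 3, 0].getD i 0)) ∧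
    sD4a (chevD4.rank + chevD4.neg (chevD4.simple i)) = 1 := by decide +kernel

noncomputable def piD4b : ℕ → ℕ := nth 1000 [3, 1, 0, 2, 4, 5, 7, 10, 12, 15, 6, 8, 11, 13, 9, 14, 17, 22, 18, 20, 23, 25, 16, 19, 21, 24, 26, 27]
noncomputable def piiD4b : ℕ → ℕ := nth 1000 [2, 1, 3, 0, 4, 5, 10, 6, 11, 14, 7, 12, 8, 13, 15, 9, 22, 16, 18, 23, 19, 24, 17, 20, 25, 21, 26, 27]
noncomputable def sD4b : ℕ → ℤ := nth 0 [1, 1, 1, 1, 1, 1, 1, (-1), (-1), 1, (-1), (-1), 1, 1, 1, 1, 1, 1, 1, 1, (-1), (-1), 1, (-1), (-1), 1, 1, 1]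

theorem gD4b : checkGraph TabD4.T piD4b sD4b = true := by decide +kernel
theorem pD4b : checkPerm TabD4.T piD4b piiD4b sD4b = true := by decide +kernel
theorem tD4b : ∀ i < chevD4.rank, piD4b (chevD4.rank + chevD4.simple i) - chevD4.rank = chevD4.simple ([3, 1, 0, 2].getD i 0) ∧
    sD4b (chevD4.rank + chevD4.simple i) = 1 ∧
    piD4b (chevD4.rank + chevD4.neg (chevD4.simple i)) - chevD4.rank = chevD4.neg (chevD4.simple ([3, 1, 0, 2].getD i 0)) ∧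
    sD4b (chevD4.rank + chevD4.neg (chevD4.simple i)) = 1 := by decide +kernel


/-- Graph automorphisms: for E₆ with ρ = (p₁ p₆)(p₃ p₅) and for D₄ with ρ the 3-cycle on the outer nodes there is a group automorphism sending `x_p(t) ↦ x_{ρ(p)}(t)` and `x_{-p}(t) ↦ x_{-ρ(p)}(t)` for every fundamental root `p`. -/
theorem result {F : Type*} [Field F] (p : Cfsg.Lie.ChevalleyDatum × List ℕ)
    (hp : p ∈ [(Cfsg.Lie.chevE6, [5, 1, 4, 3, 2, 0]), (Cfsg.Lie.chevD4, [2, 1, 3, 0]), (Cfsg.Lie.chevD4, [3, 1, 0, 2])]) :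
    ∃ α : ↥(p.1.group F) ≃* ↥(p.1.group F), ∀ (g : ↥(p.1.group F)) (i : ℕ) (t : F), i < p.1.rank →
      (((g : GL p.1.Idx F) : Matrix p.1.Idx p.1.Idx F) = p.1.x F (p.1.simple i) t →
        ((α g : GL p.1.Idx F) : Matrix p.1.Idx p.1.Idx F) = p.1.x F (p.1.simple (p.2.getD i 0)) t) ∧
      (((g : GL p.1.Idx F) : Matrix p.1.Idx p.1.Idx F) = p.1.x F (p.1.neg (p.1.simple i)) t →
        ((α g : GL p.1.Idx F) : Matrix p.1.Idx p.1.Idx F) = p.1.x F (p.1.neg (p.1.simple (p.2.getD i 0))) t) := by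
  simp only [List.mem_cons, List.not_mem_nil, or_false] at hp
  rcases hp with rfl | rfl | rfl
  · exact finish RelE6.checks gE6 pE6 _ tE6
  · exact finish RelD4.checks gD4a pD4a _ tD4a
  · exact finish RelD4.checks gD4b pD4b _ tD4b

end Cfsg.Agent.S1081
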