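import Mathlib
import Cfsg.Agent.Lib.DicksonGen
import Cfsg.Agent.Lib.PSL2Pol
import Cfsg.Statements.S0801

set_option autoImplicit false
open Cfsg

namespace Cfsg.Agent.S0801

/-- Let F be a finite field of odd characteristic and λ ≠ 0 an element generating F as a field. Then the lower and upper unitriangular matrices with off-diagonal entries 1 and λ generate SL_2(F), unless |F| = 9 and λ² = −1, in which case they generate a subgroup of order 120. -/
theorem result {F : Type*} [Field F] [Fintype F] (h2 : (2 : F) ≠ 0) (lam : F) (hlam : lam ≠ 0) (hgen : Subfield.closure ({lam} : Set F) = ⊤) : (Subgroup.closure {g : Matrix.SpecialLinearGroup (Fin 2) F | (g : Matrix (Fin 2) (Fin 2) F) = !![1, 0; 1, 1] ∨ (g : Matrix (Fin 2) (Fin 2) F) = !![1, lam; 0, 1]} = ⊤ ∧ ¬ (Fintype.card F = 9 ∧ lam ^ 2 = -1)) ∨ (Fintype.card F = 9 ∧ lam ^ 2 = -1 ∧ Nat.card ↥(Subgroup.closure {g : Matrix.SpecialLinearGroup (Fin 2) F | (g : Matrix (Fin 2) (Fin 2) F) = !![1, 0; 1, 1] ∨ (g : Matrix (Fin 2) (Fin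 2) F) = !![1, lam; 0, 1]}) = 120) := by
    classical
  open Cfsg.Agent.Lib.SL2Core Cfsg.Agent.Lib.DicksonMat Cfsg.Agent.Lib.DicksonAbs Cfsg.Agent.Lib.PSL2Coat Cfsg.Agent.Lib.PSL2Cnt Cfsg.Agent.Lib.PSL2Max Cfsg.Agent.Lib.DicksonGen Cfsg.Agent.Lib.DicksonTT in
  obtain ⟨p, hch⟩ := CharP.exists F
  haveI hpf : Fact p.Prime := ⟨CharP.char_is_prime F p⟩
  have hp2 : p ≠ 2 := by
    rintro rfl
    exact h2 (by exact_mod_cast CharP.cast_eq_zero F 2)
  set H := Subgroup.closure {g : Matrix.SpecialLinearGroup (Fin 2) F | (g : Matrix (Fin 2) (Fin 2) F) = !![1, 0; 1, 1] ∨ (g : Matrix (Fin 2) (Fin 2) F) = !![1, lam; 0, 1]} with hH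
  have hvv : vv (1 : F) ∈ H := Subgroup.subset_closure (Or.inl rfl)
  have huu : uu lam ∈ H := Subgroup.subset_closure (Or.inr rfl)
  have hu : proj (uu lam) ∈ H.map proj := ⟨_, huu, rfl⟩
  have hv : proj (vv (1 : F)) ∈ H.map proj := ⟨_, hvv, rfl⟩
  obtain ⟨n, -, hn⟩ := FiniteField.card F p
  have hqodd : Odd (Fintype.card F) := by
    rw [hn]
    exact (hpf.out.odd_of_ne_two hp2).pow
  have hq1 : 1 < Fintype.card F := Fintype.one_lt_card
  have hd : Nat.gcd 2 (Fintype.card F - 1) = 2 := Nat.gcd_eq_left (Nat.Odd.sub_odd hqodd odd_one).two_dvd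
  rcases main_cases p (H.map proj) h2 hlam hgen hu hv with h | ⟨⟨e⟩, hp3⟩
  · left
    have hev : 2 ∣ Nat.card (PSL2 F) := by
      have h1 := card_PSL2_form (K := F)
      rw [hd] at h1
      obtain ⟨m, hm⟩ := hqodd
      have h3 : Fintype.card F ^ 2 - 1 = 4 * (m * m + m) := by
        rw [hm]
        have : (2 * m + 1) ^ 2 = 4 * (m * m + m) + 1 := by ring
        omega
      rw [h3, hm] at h1
      have h4 : 2 * Nat.card (PSL2 F) = 2 * ((2 * m + 1) * (2 * (m * m + m))) := by
        rw [h1]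
        ring
      have h5 := Nat.eq_of_mul_eq_mul_left (by norm_num) h4
      rw [h5]
      exact ⟨(2 * m + 1) * (m * m + m), by ring⟩
    have hneg := neg_mem_of_even H h2 (by rw [h, Subgroup.card_top]; exact hev)
    refine ⟨by rw [← comap_map_eq H hneg, h, Subgroup.comap_top], ?_⟩
    rintro ⟨h9, hl⟩
    have hp3 : p = 3 := Cfsg.Agent.Lib.PSL2Excl.char_eq p (r := 3) (m := 2) Nat.prime_three (by norm_num) (by rw [h9]; norm_num)
    subst hp3
    obtain ⟨Q, hQ, h1, h3⟩ := exists_proper_of_nine h9 h2 hlam (by linear_combination hl)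
    apply hQ
    rw [eq_top_iff, ← h, Subgroup.map_le_iff_le_comap, hH, Subgroup.closure_le]
    rintro g (hg | hg)
    · have : g = vv 1 := Subtype.ext hg
      rw [this]
      exact h3
    · have : g = uu lam := Subtype.ext hg
      rw [this]
      exact h1
  · right
    subst hp3
    have hc : Nat.card (H.map proj) = 60 := by rw [Nat.card_congr e.toEquiv, card_alt5]
    have h3 : (3 : F) = 0 := by exact_mod_cast CharP.cast_eq_zero F 3
    have hsmall : (⊥ : Subfield F) ≠ ⊤ := by
      intro h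
      have h4 := Cfsg.Agent.Lib.PSL2Pol.card_of_bot_eq_top 3 h
      have h5 : Nat.gcd 2 (Fintype.card F - 1) * Nat.card (Matrix.ProjectiveSpecialLinearGroup (Fin 2) F) = Fintype.card F * (Fintype.card F ^ 2 - 1) := card_PSL2_form (K := F)
      have h8 : Nat.gcd 2 (3 - 1) = 2 := by norm_num
      have h9 : 3 * (3 ^ 2 - 1) = 24 := by norm_num
      rw [h4, h8, h9] at h5
      have h6 : Nat.card (H.map proj) ≤ Nat.card (Matrix.ProjectiveSpecialLinearGroup (Fin 2) F) := Subgroup.card_le_card_group _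
      omega
    rcases A5_case h3 h2 (H.map proj) e hlam hu hv (proj_uu_pow lam) (proj_vv_pow 1) with h | h | hl
    · exfalso
      apply hsmall
      rw [eq_top_iff, ← hgen, Subfield.closure_le]
      rintro x rfl
      rw [h]
      exact (⊥ : Subfield F).one_mem
    · exfalso
      apply hsmall
      rw [eq_top_iff, ← hgen, Subfield.closure_le]
      rintro x rfl
      rw [h]
      exact (⊥ : Subfield F).neg_mem (⊥ : Subfield F).one_mem
    · have h9 := card_of_sq_neg_one h2 hlam hl hgen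
      refine ⟨h9, by linear_combination hl, ?_⟩
      have hneg := neg_mem_of_even H h2 (by rw [hc]; norm_num)
      rw [← comap_map_eq H hneg, card_comap_proj, hc, card_center, h9]
      norm_num


end Cfsg.Agent.S0801
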