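import Mathlib
import Cfsg.Statements.S5434
import Cfsg.Agent.Lib.LargePair
import Cfsg.Agent.Lib.LargeExtra2
import Cfsg.Agent.Lib.Glauberman

set_option autoImplicit false
open Cfsg
open scoped commutatorElement

namespace Cfsg.Agent.S5434

open Cfsg.Agent.Lib.LargeExtra Cfsg.Agent.Lib.LargeExtra2 Cfsg.Agent.Lib.Glauberman

variable {G : Type*} [Group G]

/-- Elements normalizing `Q` centralize `z`. -/
theorem conj_z_of_normalizer {Q : Subgroup G} {z a : G} (hS : Setting Q z)
    (ha : a ∈ Subgroup.normalizer (Q : Set G)) : a * z = z * a := by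
  have h1 : ∀ y ∈ Q, y * (a * z * a⁻¹) = (a * z * a⁻¹) * y := by
    intro y hy
    have h2 : a⁻¹ * y * a ∈ Q := by
      have := conj_mem_of_normalizer (Subgroup.inv_mem _ ha) hy
      simpa using this
    have h3 := hS.extra.cen _ h2
    calc y * (a * z * a⁻¹) = a * ((a⁻¹ * y * a) * z) * a⁻¹ := by group
      _ = a * (z * (a⁻¹ * y * a)) * a⁻¹ := by rw [h3]
      _ = (a * z * a⁻¹) * y := by group
  rcases hS.cQ _ h1 with h | h
  · exfalso
    apply hS.extra.ne_one
    have h2 := mul_inv_eq_one.mp h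
    exact mul_left_cancel (h2.trans (mul_one _).symm)
  · exact comm_of_conj_eq h

/-- Let Q be a large extraspecial 2-subgroup of the finite group G (extraspecial; centralizer equal to its centre; normal in the centralizer of its centre; normalizing no non-trivial subgroup of odd order), and A a non-trivial subgroup of odd order of the normalizer of Q. Then Q is the central product of the centralizer of A in Q and the commutator subgroup [Q, A] (they generate Q and commute elementwise), [Q, A] is extraspecial, and the centralizer of A in Q is either the centre of Q or extraspecial. -/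
theorem result {G : Type*} [Group G] [Finite G] (Q : Subgroup G) (hQ : Cfsg.IsLargeExtraspecial Q) (A : Subgroup G) (hA : A ≤ Subgroup.normalizer (Q : Set G)) (hAodd : Odd (Nat.card ↥A)) (hA1 : A ≠ ⊥) : (Q ⊓ Subgroup.centralizer (A : Set G)) ⊔ ⁅Q, A⁆ = Q ∧ (∀ x ∈ Q ⊓ Subgroup.centralizer (A : Set G), ∀ y ∈ ⁅Q, A⁆, x * y = y * x) ∧ Cfsg.IsExtraspecial 2 ↥⁅Q, A⁆ ∧ (Q ⊓ Subgroup.centralizer (A : Set G) = ((Subgroup.center ↥Q).map Q.subtype) ∨ Cfsg.IsExtraspecial 2 ↥(Q ⊓ Subgroup.centralizer (A : Set G))) := by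
  have : Fact (Nat.Prime 2) := ⟨Nat.prime_two⟩
  obtain ⟨hL1, hL2, hL3, -⟩ := hQ
  obtain ⟨z, hS, hZ⟩ := exists_setting hL1 hL2 hL3
  have hE := hS.extra
  have hQ2 : IsPGroup 2 Q := hE.two
  have hcop : (Nat.card A).Coprime (Nat.card Q) := by
    obtain ⟨n, hn⟩ := IsPGroup.iff_card.mp hQ2
    rw [hn]
    exact Nat.Coprime.pow_right n (Nat.coprime_two_right.mpr hAodd)
  have hsolv : Group.IsSolvable Q := by
    have : Group.IsNilpotent Q := hQ2.isNilpotent
    infer_instance
  have hsup := commutator_sup_inf_centralizer hA hcop (Or.inr hsolv)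
  have hPQ : ⁅Q, A⁆ ≤ Q := commutator_le_of_le_normalizer hA
  set C := Q ⊓ Subgroup.centralizer (A : Set G) with hC
  set P := ⁅Q, A⁆ with hP
  have hAz : ∀ a ∈ A, a * z = z * a := fun a ha => conj_z_of_normalizer hS (hA ha)
  have hzC : z ∈ C := by
    refine Subgroup.mem_inf.mpr ⟨hE.mem, ?_⟩
    rw [Subgroup.mem_centralizer_iff]
    intro a ha
    exact hAz a ha
  -- `C` centralizes `P`
  have hCP : ∀ x ∈ C, ∀ y ∈ P, x * y = y * x := by
    intro x hx y hy
    have hxQ : x ∈ Q := hx.1
    have hxA : x ∈ Subgroup.centralizer (A : Set G) := hx.2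
    rw [Subgroup.mem_centralizer_iff] at hxA
    have hle : P ≤ Subgroup.centralizer ({x} : Set G) := by
      rw [hP, Subgroup.commutator_le]
      intro q hq a ha
      rw [Subgroup.mem_centralizer_singleton_iff, commutatorElement_def]
      have ha' : a * q⁻¹ * a⁻¹ ∈ Q := conj_mem_of_normalizer (hA ha) (Q.inv_mem hq)
      have hxa : a * x * a⁻¹ = x := conj_eq_of_comm (hxA a ha)
      -- `[x, q · a q⁻¹ a⁻¹] = [x, q] [x, a q⁻¹ a⁻¹]`
      have h1 : x * (q * (a * q⁻¹ * a⁻¹)) * x⁻¹ * (q * (a * q⁻¹ * a⁻¹))⁻¹ =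
          (x * q * x⁻¹ * q⁻¹) * (x * (a * q⁻¹ * a⁻¹) * x⁻¹ * (a * q⁻¹ * a⁻¹)⁻¹) :=
        hE.comm_mul_right hxQ hq ha'
      have h2 : x * (a * q⁻¹ * a⁻¹) * x⁻¹ * (a * q⁻¹ * a⁻¹)⁻¹ =
          a * (x * q⁻¹ * x⁻¹ * q⁻¹⁻¹) * a⁻¹ := by
        have e : x = a * x * a⁻¹ := hxa.symm
        calc x * (a * q⁻¹ * a⁻¹) * x⁻¹ * (a * q⁻¹ * a⁻¹)⁻¹
            = (a * x * a⁻¹) * (a * q⁻¹ * a⁻¹) * (a * x * a⁻¹)⁻¹ * (a * q⁻¹ * a⁻¹)⁻¹ := by
              rw [← e]
          _ = a * (x * q⁻¹ * x⁻¹ * q⁻¹⁻¹) * a⁻¹ := by group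
      have h3 : a * (x * q⁻¹ * x⁻¹ * q⁻¹⁻¹) * a⁻¹ = x * q⁻¹ * x⁻¹ * q⁻¹⁻¹ := by
        rcases hE.comm x hxQ q⁻¹ (Q.inv_mem hq) with h | h <;> rw [h]
        · simp
        · exact conj_eq_of_comm (hAz a ha)
      have h4 := hE.comm_inv_right hxQ hq
      have h5 : x * (q * (a * q⁻¹ * a⁻¹)) * x⁻¹ * (q * (a * q⁻¹ * a⁻¹))⁻¹ = 1 := by
        rw [h1, h2, h3, h4]
      have h6 := comm_of_conj_eq (mul_inv_eq_one.mp h5)
      have e : q * a * q⁻¹ * a⁻¹ = q * (a * q⁻¹ * a⁻¹) := by group
      rw [e]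
      exact h6.symm
    exact (Subgroup.mem_centralizer_singleton_iff.mp (hle hy)).symm
  -- an element of `Q` centralizing `C` and `P` is central
  have hQcen : ∀ x, (∀ c ∈ C, x * c = c * x) → (∀ p ∈ P, x * p = p * x) → x = 1 ∨ x = z := by
    intro x h1 h2
    apply hS.cQ
    have hle : Q ≤ Subgroup.centralizer ({x} : Set G) := by
      rw [← hsup]
      refine sup_le ?_ ?_
      · intro p hp
        exact Subgroup.mem_centralizer_singleton_iff.mpr (h2 p hp).symm
      · intro c hc
        exact Subgroup.mem_centralizer_singleton_iff.mpr (h1 c hc).symm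
    intro y hy
    exact Subgroup.mem_centralizer_singleton_iff.mp (hle hy)
  have hsup' : C ⊔ P = Q := by rw [sup_comm]; exact hsup
  -- `P` is not abelian
  have hPnc : ∃ x ∈ P, ∃ y ∈ P, x * y * x⁻¹ * y⁻¹ ≠ 1 := by
    by_contra hcon
    push Not at hcon
    have hPz : ∀ p ∈ P, p = 1 ∨ p = z := by
      intro p hp
      apply hQcen
      · intro c hc
        exact (hCP c hc p hp).symm
      · intro q hq
        exact comm_of_conj_eq (mul_inv_eq_one.mp (hcon p hp q hq))
    have hAC : A ≤ Subgroup.centralizer (Q : Set G) := by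
      apply le_centralizer_of_frattini hA
      · obtain ⟨n, hn⟩ := IsPGroup.iff_card.mp hQ2
        have h1 : Nat.card (frattini Q) ∣ Nat.card Q := Subgroup.card_subgroup_dvd_card _
        exact Nat.Coprime.coprime_dvd_right h1 hcop
      · intro a ha k hk
        have h1 : (frattini Q).map Q.subtype = Subgroup.zpowers z := by
          rw [hL1.1.2.1, hZ]
        rw [h1]
        have h2 : k * a * k⁻¹ * a⁻¹ ∈ P := Subgroup.commutator_mem_commutator hk ha
        have h3 : a * k * a⁻¹ * k⁻¹ = (k * a * k⁻¹ * a⁻¹)⁻¹ := by group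
        rw [h3]
        apply Subgroup.inv_mem
        rcases hPz _ h2 with h | h <;> rw [h]
        · exact Subgroup.one_mem _
        · exact Subgroup.mem_zpowers _
    apply hA1
    rw [eq_bot_iff]
    intro a ha
    have h1 : a ∈ Subgroup.centralizer (Q : Set G) := hAC ha
    rw [hL2, hZ] at h1
    rcases zpowers_eq_of_order_two hE.order h1 with h | h
    · simpa using h
    · subst h
      exact (odd_two_eq_one hAodd hE.two ha hE.mem)
  refine ⟨hsup', hCP, ?_, ?_⟩
  · apply extraspecial_of_sub hE hPQ hPnc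
    intro x hx h
    apply hQcen x
    · intro c hc
      exact (hCP c hc x hx).symm
    · exact h
  · rw [hZ]
    by_cases hcase : C = Subgroup.zpowers z
    · exact Or.inl hcase
    · right
      apply extraspecial_of_sub hE (inf_le_left)
      · by_contra hcon
        push Not at hcon
        apply hcase
        apply le_antisymm
        · intro c hc
          have := hQcen c (fun d hd => comm_of_conj_eq (mul_inv_eq_one.mp (hcon c hc d hd)))
            (fun p hp => hCP c hc p hp)
          rcases this with h | h <;> rw [h]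
          · exact Subgroup.one_mem _
          · exact Subgroup.mem_zpowers _
        · rw [Subgroup.zpowers_le]
          exact hzC
      · intro x hx h
        apply hQcen x h
        exact hCP x hx

end Cfsg.Agent.S5434
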