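import Mathlib
import Cfsg.Statements.S0398
import Cfsg.Agent.Lib.Co0Mono
import Cfsg.Agent.Lib.M24Facts

set_option autoImplicit false
open Cfsg

namespace Cfsg.Agent.S0398

open Cfsg.Agent.Lib.Leech Cfsg.Agent.Lib.Co0Mono

open Cfsg.Agent.Lib.M24Facts

/-- The vector `8 e_i` of the lattice. -/
def e8 (i : GolayPt) : leechLattice :=
  ⟨Pi.single i 8, mem_leechLattice_iff.2 ⟨0, ∅, empty_mem_codeSets, fun j => by
    by_cases h : j = i
    · subst h
      simp [br, Int.ModEq]
    · simp [br, Int.ModEq, Pi.single_eq_of_ne h], by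
    simp [Int.ModEq, Finset.sum_pi_single']⟩⟩

theorem e8_apply (i j : GolayPt) : (e8 i : GolayPt → ℤ) j = if j = i then 8 else 0 := by
  show (Pi.single i 8 : GolayPt → ℤ) j = _
  simp [Pi.single_apply]

/-- Two points are separated by a member of the code. -/
def sepChk : Bool :=
  Cfsg.Agent.Lib.Golay.idxL.all fun i => Cfsg.Agent.Lib.Golay.idxL.all fun j => Nat.beq i j ||
    Cfsg.Agent.Lib.Golay.octL.any fun r => r.testBit j && !r.testBit i

theorem sepChk_ok : sepChk = true := by decide +kernel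

theorem exists_sep {i j : GolayPt} (h : i ≠ j) : ∃ c ∈ codeSets, j ∈ c ∧ i ∉ c := by
  have h1 := sepChk_ok
  simp only [sepChk, List.all_eq_true, Bool.or_eq_true, List.any_eq_true, Bool.and_eq_true,
    Bool.not_eq_true'] at h1
  rcases h1 _ (Cfsg.Agent.Lib.Golay.mem_idxL.2 (Cfsg.Agent.Lib.Golay.idx_lt i)) _ (Cfsg.Agent.Lib.Golay.mem_idxL.2 (Cfsg.Agent.Lib.Golay.idx_lt j)) with h2 | h2
  · exact absurd (Cfsg.Agent.Lib.Golay.idx_injective (Nat.eq_of_beq_eq_true h2)) h
  · obtain ⟨r, hr, h3, h4⟩ := h2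
    refine ⟨Cfsg.Agent.Lib.Golay.ofMask r, ?_, Cfsg.Agent.Lib.Golay.mem_ofMask.2 h3, ?_⟩
    · exact (Cfsg.Agent.Lib.Golay.ofMask_mem_octads hr).1
    · rw [Cfsg.Agent.Lib.Golay.mem_ofMask, h4]
      simp

/-- The diagonal part. -/
theorem center_diag (z : Co0) (hz : z ∈ Subgroup.center Co0) (i j : GolayPt) (hij : i ≠ j) :
    (((z : Equiv.Perm leechLattice) (e8 i) : leechLattice) : GolayPt → ℤ) j = 0 := by
  obtain ⟨c, hc, hj, hi⟩ := exists_sep hij
  have hσ : (1 : Equiv.Perm GolayPt) ∈ M24 := M24.one_mem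
  set g := monoCo0 hc hσ with hg
  have h1 : (g : Equiv.Perm leechLattice) (e8 i) = e8 i := by
    apply Subtype.ext
    rw [hg, monoCo0_apply]
    funext k
    rw [mono_apply, Equiv.Perm.one_apply, e8_apply]
    by_cases hki : k = i
    · subst hki
      simp [hi]
    · simp [hki]
  have h2 : z * g = g * z := (Subgroup.mem_center_iff.mp hz g).symm
  have h3 := congrArg (fun a : Co0 => ((a : Equiv.Perm leechLattice) (e8 i) : GolayPt → ℤ) j) h2
  simp only [Subgroup.coe_mul, Equiv.Perm.mul_apply, h1] at h3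
  rw [hg, monoCo0_apply, mono_apply, if_pos hj, Equiv.Perm.one_apply] at h3
  omega

/-- The value at `i` of the image of `8 e_i`. -/
theorem center_val (z : Co0) (hz : z ∈ Subgroup.center Co0) (i : GolayPt) :
    (((z : Equiv.Perm leechLattice) (e8 i) : leechLattice) : GolayPt → ℤ) i = 8 ∨
    (((z : Equiv.Perm leechLattice) (e8 i) : leechLattice) : GolayPt → ℤ) i = -8 := by
  have h1 := z.2.2 (e8 i)
  have h2 : sqNorm (e8 i : GolayPt → ℤ) = 64 := by
    unfold sqNorm
    rw [Finset.sum_eq_single i]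
    · rw [e8_apply]; simp
    · intro b _ hb
      rw [e8_apply]; simp [hb]
    · simp
  have h3 : sqNorm (((z : Equiv.Perm leechLattice) (e8 i) : leechLattice) : GolayPt → ℤ) =
      (((z : Equiv.Perm leechLattice) (e8 i) : leechLattice) : GolayPt → ℤ) i ^ 2 := by
    unfold sqNorm
    rw [Finset.sum_eq_single i]
    · intro b _ hb
      rw [center_diag z hz i b (Ne.symm hb)]; simp
    · simp
  rw [h2, h3] at h1
  have h4 : ((((z : Equiv.Perm leechLattice) (e8 i) : leechLattice) : GolayPt → ℤ) i - 8) *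
      (((((z : Equiv.Perm leechLattice) (e8 i) : leechLattice) : GolayPt → ℤ) i) + 8) = 0 := by
    nlinarith
  rcases mul_eq_zero.mp h4 with h5 | h5
  · left; omega
  · right; omega

/-- The value is the same at every point. -/
theorem center_transport (z : Co0) (hz : z ∈ Subgroup.center Co0) (i j : GolayPt) :
    (((z : Equiv.Perm leechLattice) (e8 i) : leechLattice) : GolayPt → ℤ) i =
    (((z : Equiv.Perm leechLattice) (e8 j) : leechLattice) : GolayPt → ℤ) j := by
  obtain ⟨σ, hσ⟩ := MulAction.exists_smul_eq M24 j i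
  have hσ' : (σ : Equiv.Perm GolayPt) j = i := hσ
  set g := monoCo0 empty_mem_codeSets σ.2 with hg
  have h1 : (g : Equiv.Perm leechLattice) (e8 i) = e8 j := by
    apply Subtype.ext
    rw [hg, monoCo0_apply]
    funext k
    rw [mono_apply, if_neg (Finset.notMem_empty _), e8_apply, e8_apply]
    congr 1
    rw [← hσ']
    exact propext (σ : Equiv.Perm GolayPt).injective.eq_iff
  have h2 : z * g = g * z := (Subgroup.mem_center_iff.mp hz g).symm
  have h3 := congrArg (fun a : Co0 => ((a : Equiv.Perm leechLattice) (e8 i) : GolayPt → ℤ) j) h2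
  simp only [Subgroup.coe_mul, Equiv.Perm.mul_apply, h1] at h3
  rw [hg, monoCo0_apply, mono_apply, if_neg (Finset.notMem_empty _), hσ'] at h3
  exact h3.symm

/-- The additive map of an element of `Co0`. -/
def toHom (z : Co0) : leechLattice →+ leechLattice :=
  AddMonoidHom.mk' (z : Equiv.Perm leechLattice) z.2.1

theorem expand (v : leechLattice) : (8 : ℤ) • v = ∑ i, (v : GolayPt → ℤ) i • e8 i := by
  apply Subtype.ext
  rw [AddSubgroup.coe_zsmul, AddSubgroup.val_finsetSum]
  funext j
  simp only [Pi.smul_apply, Finset.sum_apply, AddSubgroup.coe_zsmul, e8_apply, smul_eq_mul]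
  rw [Finset.sum_eq_single j]
  · simp [mul_comm]
  · intro b _ hb
    simp [hb, Ne.symm hb]
  · simp

/-- The main computation. -/
theorem center_scalar (z : Co0) (hz : z ∈ Subgroup.center Co0) (s : ℤ)
    (hs : ∀ i, (((z : Equiv.Perm leechLattice) (e8 i) : leechLattice) : GolayPt → ℤ) i = 8 * s)
    (v : leechLattice) (j : GolayPt) :
    (((z : Equiv.Perm leechLattice) v : leechLattice) : GolayPt → ℤ) j = s * (v : GolayPt → ℤ) j := by
  have h1 : (8 : ℤ) • toHom z v = ∑ i, (v : GolayPt → ℤ) i • toHom z (e8 i) := by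
    rw [← map_zsmul, expand, map_sum]
    simp only [map_zsmul]
  have h2 := congrArg (fun a : leechLattice => (a : GolayPt → ℤ) j) h1
  simp only [AddSubgroup.coe_zsmul, AddSubgroup.val_finsetSum, Finset.sum_apply, Pi.smul_apply,
    smul_eq_mul] at h2
  rw [Finset.sum_eq_single j] at h2
  · have h3 : toHom z (e8 j) = (z : Equiv.Perm leechLattice) (e8 j) := rfl
    have h4 : toHom z v = (z : Equiv.Perm leechLattice) v := rfl
    rw [h3, h4, hs j] at h2
    linarith
  · intro b _ hb
    have h3 : toHom z (e8 b) = (z : Equiv.Perm leechLattice) (e8 b) := rfl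
    rw [h3, center_diag z hz b j hb]
    simp
  · simp

theorem eq_one_or_neg (z : Co0) (hz : z ∈ Subgroup.center Co0) : z = 1 ∨ z = negCo0 := by
  rcases center_val z hz (Cfsg.Agent.Lib.Golay.pt 0) with h | h
  · left
    apply Subtype.ext
    apply Equiv.ext
    intro v
    apply Subtype.ext
    funext j
    rw [center_scalar z hz 1 (fun i => by rw [center_transport z hz i (Cfsg.Agent.Lib.Golay.pt 0), h]; rfl) v j]
    simp
  · right
    apply Subtype.ext
    apply Equiv.ext
    intro v
    apply Subtype.ext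
    funext j
    rw [center_scalar z hz (-1) (fun i => by rw [center_transport z hz i (Cfsg.Agent.Lib.Golay.pt 0), h]; rfl) v j]
    rw [negCo0_apply]
    simp

theorem neg_center : negCo0 ∈ Subgroup.center Co0 := by
  rw [Subgroup.mem_center_iff]
  intro g
  apply Subtype.ext
  apply Equiv.ext
  intro v
  show (g : Equiv.Perm leechLattice) (negCo0.1 v) = negCo0.1 ((g : Equiv.Perm leechLattice) v)
  rw [negCo0_apply, negCo0_apply, co0_neg]

theorem neg_ne_one : negCo0 ≠ (1 : Co0) := by
  intro h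
  have h1 := congrArg (fun a : Co0 => ((a : Equiv.Perm leechLattice) (e8 (Cfsg.Agent.Lib.Golay.pt 0)) : GolayPt → ℤ) (Cfsg.Agent.Lib.Golay.pt 0)) h
  simp only [negCo0_apply] at h1
  have h2 : ((-(e8 (Cfsg.Agent.Lib.Golay.pt 0)) : leechLattice) : GolayPt → ℤ) (Cfsg.Agent.Lib.Golay.pt 0) = -8 := by
    show -((e8 (Cfsg.Agent.Lib.Golay.pt 0) : GolayPt → ℤ) (Cfsg.Agent.Lib.Golay.pt 0)) = -8
    rw [e8_apply]; simp
  have h3 : (((1 : Co0) : Equiv.Perm leechLattice) (e8 (Cfsg.Agent.Lib.Golay.pt 0)) : GolayPt → ℤ) (Cfsg.Agent.Lib.Golay.pt 0) = 8 := by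
    show (e8 (Cfsg.Agent.Lib.Golay.pt 0) : GolayPt → ℤ) (Cfsg.Agent.Lib.Golay.pt 0) = 8
    rw [e8_apply]; simp
  rw [h2, h3] at h1
  omega

/-- The centre of the lattice's automorphism group has order 2. -/
theorem result : Nat.card (Subgroup.center Cfsg.Co0) = 2 := by
  rw [Nat.card_eq_two_iff]
  refine ⟨⟨1, Subgroup.one_mem _⟩, ⟨negCo0, neg_center⟩, ?_, ?_⟩
  · intro h
    exact neg_ne_one (congrArg Subtype.val h).symm
  · ext z
    simp only [Set.mem_insert_iff, Set.mem_singleton_iff, Set.mem_univ, iff_true]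
    rcases eq_one_or_neg z.1 z.2 with h | h
    · left; exact Subtype.ext h
    · right; exact Subtype.ext h

end Cfsg.Agent.S0398
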