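import Cfsg.Statements.S0414
import Mathlib
import Cfsg.Agent.Lib.SteinerAut
import Cfsg.Agent.Lib.SteinerDerive
import Cfsg.Agent.Lib.SteinerF3622
import Cfsg.Agent.Lib.AutF3622
import Cfsg.Agent.S0351
import Cfsg.Agent.S0363
import Cfsg.Agent.S0369
import Cfsg.Agent.S0378
import Cfsg.Agent.S0379

set_option autoImplicit false
open Cfsg

namespace Cfsg.Agent.S0414

/-- Aut of an S(3, 6, 22) has order 887040, is 3-transitive, and contains a simple subgroup of index 2. -/
theorem result {α : Type*} [Fintype α] [DecidableEq α] (hα : Fintype.card α = 22) {B : Set (Finset α)} (hB : Cfsg.IsSteinerSystem 3 6 B) : Nat.card (Cfsg.setSystemAut B) = 887040 ∧ MulAction.IsMultiplyPretransitive (Cfsg.setSystemAut B) α 3 ∧ ∃ H : Subgroup (Cfsg.setSystemAut B), H.index = 2 ∧ Cfsg.IsM22 H := by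
  have H := Cfsg.Agent.Lib.SteinerF3622.good
  have hp : MulAction.IsMultiplyPretransitive (Cfsg.setSystemAut B) α 3 :=
    Cfsg.Agent.Lib.SteinerAut.pretrans_of_good H (by norm_num) hα hB
  have hcB : Nat.card (Cfsg.setSystemAut B) = 887040 := by
    have := Cfsg.Agent.Lib.SteinerAut.card_aut H (by norm_num) (by norm_num) (fun _ h => h)
      Cfsg.Agent.Lib.AutF3622.R_ok Cfsg.Agent.Lib.AutF3622.R_nodup hα hB
    rw [this, Cfsg.Agent.Lib.AutF3622.R_len]
    rfl
  -- the twice derived system of the code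
  have hO : Cfsg.IsSteinerSystem 5 8 Cfsg.octads := Cfsg.Agent.S0363.result
  have hM : Cfsg.M24 = Cfsg.setSystemAut Cfsg.octads := Cfsg.Agent.S0369.result
  let p : Cfsg.GolayPt := none
  let q : Cfsg.GolayPt := some 0
  have hq : q ≠ p := by simp [p, q]
  have hD1 : Cfsg.IsSteinerSystem 4 7 (Cfsg.Agent.Lib.SteinerDerive.derive Cfsg.octads p) :=
    Cfsg.Agent.S0351.result hO p
  have hD : Cfsg.IsSteinerSystem 3 6 (Cfsg.Agent.Lib.SteinerDerive.derive
      (Cfsg.Agent.Lib.SteinerDerive.derive Cfsg.octads p) ⟨q, hq⟩) :=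
    Cfsg.Agent.S0351.result hD1 ⟨q, hq⟩
  have hcard1 : Fintype.card {a : Cfsg.GolayPt // a ≠ p} = 23 := by
    rw [Fintype.card_subtype_compl, Fintype.card_subtype_eq]
    simp [Cfsg.GolayPt, ZMod.card]
  have hcard : Fintype.card {a : {a : Cfsg.GolayPt // a ≠ p} // a ≠ ⟨q, hq⟩} = 22 := by
    rw [Fintype.card_subtype_compl, Fintype.card_subtype_eq, hcard1]
  obtain ⟨e, he⟩ := Cfsg.Agent.Lib.SteinerSearch.iso_of_good H hα hcard hB hD
  let φ := Cfsg.Agent.Lib.SteinerDerive.restrHom2 Cfsg.M24 Cfsg.octads hM.le p q hq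
  have hinj : Function.Injective φ := Cfsg.Agent.Lib.SteinerDerive.restrHom2_inj _ _ _ _ _ _
  let ψ := (Cfsg.Agent.Lib.SteinerAut.autEquiv e he).symm.toMonoidHom.comp φ
  have hψ : Function.Injective ψ :=
    (Cfsg.Agent.Lib.SteinerAut.autEquiv e he).symm.injective.comp hinj
  have e1 := MonoidHom.ofInjective hψ
  have hsimp : IsSimpleGroup ↥(MulAction.stabilizer Cfsg.M24 p ⊓ MulAction.stabilizer Cfsg.M24 q) :=
    Cfsg.Agent.S0379.result p q hq.symm
  have hc1 : Nat.card ↥(MulAction.stabilizer Cfsg.M24 p ⊓ MulAction.stabilizer Cfsg.M24 q) = 443520 :=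
    Cfsg.Agent.S0378.result p q hq.symm
  have hcH : Nat.card ψ.range = 443520 := by
    rw [← Nat.card_congr e1.toEquiv, hc1]
  refine ⟨hcB, hp, ψ.range, ?_, e1.symm.isSimpleGroup, hcH⟩
  have h2 := Subgroup.index_mul_card ψ.range
  rw [hcH, hcB] at h2
  omega

end Cfsg.Agent.S0414
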