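import Cfsg.Statements.S0420
import Mathlib
import Cfsg.Agent.Lib.Ord7920Q
import Cfsg.Agent.S0411
import Cfsg.Agent.Lib.M11Simple
import Cfsg.Agent.Lib.DodecadFacts
import Cfsg.Agent.Lib.SteinerAut

set_option autoImplicit false
open scoped Pointwise
open Cfsg

namespace Cfsg.Agent.S0420

/-- Simple groups of order 7920 are all isomorphic to the concrete smallest Mathieu group. -/
theorem result {G : Type*} [Group G] [Finite G] (hG : Cfsg.IsM11 G) (d : Finset Cfsg.GolayPt) (hd : d ∈ Cfsg.dodecads) (p : Cfsg.GolayPt) (hp : p ∈ d) : Nonempty (G ≃* ↥(MulAction.stabilizer Cfsg.M24 d ⊓ MulAction.stabilizer Cfsg.M24 p)) := by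
  have hH : Cfsg.IsM11 ↥(MulAction.stabilizer Cfsg.M24 d ⊓ MulAction.stabilizer Cfsg.M24 p) :=
    ⟨Cfsg.Agent.Lib.M11Simple.m11_simple hd hp,
      Cfsg.Agent.Lib.DodecadFacts.card_stabilizer_dodecad_point hd hp⟩
  obtain ⟨α, _, _, B, hα, hB, ⟨e₁⟩⟩ := Cfsg.Agent.Lib.Ord7920.exists_steiner hG
  obtain ⟨β, _, _, B', hβ, hB', ⟨e₂⟩⟩ := Cfsg.Agent.Lib.Ord7920.exists_steiner hH
  obtain ⟨e, he⟩ := Cfsg.Agent.S0411.result hα hβ hB hB'
  exact ⟨e₁.trans ((Cfsg.Agent.Lib.SteinerAut.autEquiv e he).trans e₂.symm)⟩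

end Cfsg.Agent.S0420
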