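import Mathlib
import Cfsg.Agent.Lib.TransferEval
import Cfsg.Agent.Lib.Frat
import Cfsg.Statements.S0111

set_option autoImplicit false
open Cfsg

namespace Cfsg.Agent.S0111



/-- The Thompson transfer lemma states that an involution of a Sylow 2-subgroup P lying outside a subgroup Q of index 2 in P either lies outside some normal subgroup of index 2 in G or is conjugate to an element of Q. -/
theorem result {G : Type*} [Group G] [Finite G] (P : Sylow 2 G) (Q : Subgroup G) (hQP : Q ≤ (P : Subgroup G)) (hQi : Q.relIndex (P : Subgroup G) = 2) (u : G) (hu : orderOf u = 2) (huP : u ∈ (P : Subgroup G)) (huQ : u ∉ Q) : (∃ M : Subgroup G, M.Normal ∧ M.index = 2 ∧ u ∉ M) ∨ ∃ g : G, g * u * g⁻¹ ∈ Q := by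
  classical
  by_contra hcon
  push Not at hcon
  obtain ⟨hM, hconj⟩ := hcon
  -- the subgroup of `P` corresponding to `Q`
  set Q' : Subgroup (P : Subgroup G) := Q.subgroupOf (P : Subgroup G) with hQ'
  have hidx : Q'.index = 2 := hQi
  have hQ'n : Q'.Normal := Subgroup.normal_of_index_eq_two hidx
  have hcard : Nat.card ((P : Subgroup G) ⧸ Q') = 2 := hidx
  have hcyc : IsCyclic ((P : Subgroup G) ⧸ Q') := isCyclic_of_prime_card hcard
  let _ := hcyc.commGroup
  let ϕ : (P : Subgroup G) →* ((P : Subgroup G) ⧸ Q') := QuotientGroup.mk' Q'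
  have hnotin : ∀ x : (P : Subgroup G), (x : G) ∉ Q ↔ ϕ x ≠ 1 := by
    intro x
    rw [not_iff_not]
    exact ⟨fun h => (QuotientGroup.eq_one_iff x).2 h, fun h => (QuotientGroup.eq_one_iff x).1 h⟩
  have hu2 : u ^ 2 = 1 := by rw [← hu]; exact pow_orderOf_eq_one u
  set ub := ϕ ⟨u, huP⟩ with hub
  have hub1 : ub ≠ 1 := (hnotin ⟨u, huP⟩).1 huQ
  have hub2 : ub ^ 2 = 1 := by
    have := pow_card_eq_one' (x := ub)
    rwa [hcard] at this
  have hunique : ∀ y : ((P : Subgroup G) ⧸ Q'), y ≠ 1 → y = ub := by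
    intro y hy
    by_contra hne
    have h3 : (3 : ℕ) ≤ Nat.card ((P : Subgroup G) ⧸ Q') := by
      classical
      have : Fintype ((P : Subgroup G) ⧸ Q') := Fintype.ofFinite _
      rw [Nat.card_eq_fintype_card]
      have h4 : ({1, y, ub} : Finset ((P : Subgroup G) ⧸ Q')).card = 3 := by
        rw [Finset.card_eq_three]
        exact ⟨1, y, ub, hy.symm, hub1.symm, hne, rfl⟩
      rw [← h4]
      exact Finset.card_le_univ _
    omega
  have hodd : ¬ 2 ∣ (P : Subgroup G).index := P.not_dvd_index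
  have htrans : ϕ.transfer u = ub ^ (P : Subgroup G).index := by
    refine Cfsg.Agent.Lib.TransferEval.transfer_eq_pow_at ϕ ⟨u, huP⟩ ?_
    intro k g hg
    rcases Nat.even_or_odd' k with ⟨m, rfl | rfl⟩
    · have h1 : (u : G) ^ (2 * m) = 1 := by rw [pow_mul, hu2, one_pow]
      have h2 : (⟨g⁻¹ * u ^ (2 * m) * g, hg⟩ : (P : Subgroup G)) = 1 := by
        apply Subtype.ext
        simp [h1]
      rw [h2, map_one, pow_mul, hub2, one_pow]
    · have h1 : (u : G) ^ (2 * m + 1) = u := by rw [pow_succ, pow_mul, hu2, one_pow, one_mul]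
      have h3 : ub ^ (2 * m + 1) = ub := by rw [pow_succ, pow_mul, hub2, one_pow, one_mul]
      rw [h3]
      have h4 : g⁻¹ * u * g ∉ Q := by
        have := hconj g⁻¹
        simpa using this
      have hmem : g⁻¹ * u * g ∈ (P : Subgroup G) := by
        have : g⁻¹ * u ^ (2 * m + 1) * g = g⁻¹ * u * g := by rw [h1]
        rwa [this] at hg
      have h5 : (⟨g⁻¹ * u ^ (2 * m + 1) * g, hg⟩ : (P : Subgroup G)) = ⟨g⁻¹ * u * g, hmem⟩ := by
        apply Subtype.ext
        simp [h1]
      rw [h5]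
      exact hunique _ ((hnotin ⟨g⁻¹ * u * g, hmem⟩).1 h4)
  have hV : ϕ.transfer u = ub := by
    rw [htrans]
    obtain ⟨m, hm⟩ := Nat.odd_iff.2 (Nat.mod_two_ne_zero.1 (fun h => hodd (Nat.dvd_of_mod_eq_zero h)))
    rw [hm, pow_succ, pow_mul, hub2, one_pow, one_mul]
  have hker : ϕ.transfer.ker.index = 2 := by
    rw [Subgroup.index_ker]
    have : ϕ.transfer.range = ⊤ := by
      rw [eq_top_iff]
      intro y _
      by_cases hy : y = 1
      · rw [hy]; exact one_mem _
      · rw [hunique y hy, ← hV]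
        exact ⟨u, rfl⟩
    rw [this, Nat.card_congr Subgroup.topEquiv.toEquiv, hcard]
  have := hM ϕ.transfer.ker inferInstance hker
  exact hub1 (hV ▸ this)

end Cfsg.Agent.S0111
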