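import Mathlib
import Cfsg.Statements.S4722
import Cfsg.Agent.Lib.BlockSection
import Cfsg.Agent.Lib.BlockQ
import Cfsg.Agent.Lib.GenChar

set_option autoImplicit false
set_option linter.unusedSectionVars false
set_option linter.unusedVariables false
set_option linter.style.haveILetI false
open Cfsg

namespace Cfsg.Agent.S4722

open Cfsg.Agent.Lib.CharBasic Cfsg.Agent.Lib.CharInd Cfsg.Agent.Lib.CharIntegrality
open Cfsg.Agent.Lib.BlockSection Cfsg.Agent.Lib.BlockQ Cfsg.Agent.Lib.BlkBasic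
open Cfsg.Agent.Lib.BlockIdem Cfsg.Agent.Lib.CharKernel
open scoped ComplexConjugate

universe u

/-- The real core of the last assertion. -/
theorem abstract_core {ι : Type*} (F : Finset ι) (A τ d : ι → ℝ)
    (hd : ∀ i ∈ F, 0 < d i) (hτ : ∀ i ∈ F, τ i ≤ d i)
    (S1 : ∑ i ∈ F, A i * τ i ^ 2 / d i = 0) (S2 : ∑ i ∈ F, A i * d i = 0)
    (S3 : ∑ i ∈ F, A i * τ i = 0) {o : ι} (ho : o ∈ F) (hdo : d o = 1) (hτo : τ o = 1)
    (hAo : 0 < A o) (hno : ¬ (2 ≤ (F.filter (fun i => 0 < A i)).card ∧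
      2 ≤ (F.filter (fun i => A i < 0)).card)) :
    ∃ i ∈ F, i ≠ o ∧ τ i = d i := by
  classical
  have hoP : o ∈ F.filter (fun i => 0 < A i) := Finset.mem_filter.mpr ⟨ho, hAo⟩
  -- there is a negative entry
  have hneg : ∃ j ∈ F, A j < 0 := by
    by_contra hcon
    push Not at hcon
    have h1 : 0 < ∑ i ∈ F, A i * d i := by
      refine Finset.sum_pos' (fun i hi => mul_nonneg (hcon i hi) (hd i hi).le) ⟨o, ho, ?_⟩
      rw [hdo]
      linarith
    linarith
  obtain ⟨j, hj, hjA⟩ := hneg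
  have hjo : j ≠ o := by
    rintro rfl
    linarith
  have hjN : j ∈ F.filter (fun i => A i < 0) := Finset.mem_filter.mpr ⟨hj, hjA⟩
  by_cases hPcard : (F.filter (fun i => 0 < A i)).card ≤ 1
  · -- only the principal character is positive
    have hpos : ∀ i ∈ F, i ≠ o → A i ≤ 0 := by
      intro i hi hio
      by_contra hcon
      push Not at hcon
      have hiP : i ∈ F.filter (fun i => 0 < A i) := Finset.mem_filter.mpr ⟨hi, hcon⟩
      have := Finset.card_le_one.mp hPcard i hiP o hoP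
      exact hio this
    have h1 : ∑ i ∈ F, A i * (d i - τ i) = 0 := by
      simp_rw [mul_sub]
      rw [Finset.sum_sub_distrib, S2, S3]
      simp
    have h2 : ∀ i ∈ F, A i * (d i - τ i) ≤ 0 := by
      intro i hi
      by_cases hio : i = o
      · subst hio
        rw [hdo, hτo]
        simp
      · exact mul_nonpos_of_nonpos_of_nonneg (hpos i hi hio) (by linarith [hτ i hi])
    have h3 := (Finset.sum_eq_zero_iff_of_nonpos h2).mp h1 j hj
    refine ⟨j, hj, hjo, ?_⟩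
    rcases mul_eq_zero.mp h3 with h4 | h4
    · linarith
    · linarith
  · -- only one negative
    have hNcard : (F.filter (fun i => A i < 0)).card ≤ 1 := by
      by_contra hcon
      exact hno ⟨by omega, by omega⟩
    have hneg' : ∀ i ∈ F, i ≠ j → 0 ≤ A i := by
      intro i hi hij
      by_contra hcon
      push Not at hcon
      have hiN : i ∈ F.filter (fun i => A i < 0) := Finset.mem_filter.mpr ⟨hi, hcon⟩
      exact hij (Finset.card_le_one.mp hNcard i hiN j hjN)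
    set r := τ j / d j with hr
    have hdj := hd j hj
    have h1 : ∑ i ∈ F, A i * (τ i / d i - r) ^ 2 * d i = 0 := by
      have h2 : ∀ i ∈ F, A i * (τ i / d i - r) ^ 2 * d i =
          A i * τ i ^ 2 / d i - 2 * r * (A i * τ i) + r ^ 2 * (A i * d i) := by
        intro i hi
        have := (hd i hi).ne'
        field_simp
        ring
      rw [Finset.sum_congr rfl h2, Finset.sum_add_distrib, Finset.sum_sub_distrib,
        ← Finset.mul_sum, ← Finset.mul_sum, S1, S2, S3]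
      simp
    have h2 : ∀ i ∈ F, 0 ≤ A i * (τ i / d i - r) ^ 2 * d i := by
      intro i hi
      by_cases hij : i = j
      · subst hij
        have : τ i / d i - r = 0 := by rw [hr]; ring
        rw [this]
        simp
      · exact mul_nonneg (mul_nonneg (hneg' i hi hij) (sq_nonneg _)) (hd i hi).le
    have h3 := (Finset.sum_eq_zero_iff_of_nonneg h2).mp h1 o ho
    rw [hdo, hτo] at h3
    have h4 : (1 / 1 - r) ^ 2 = 0 := by
      rcases mul_eq_zero.mp h3 with h5 | h5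
      · rcases mul_eq_zero.mp h5 with h6 | h6
        · linarith
        · exact h6
      · norm_num at h5
    have h5 : r = 1 := by
      have := pow_eq_zero_iff (two_ne_zero) |>.mp h4
      linarith
    refine ⟨j, hj, hjo, ?_⟩
    rw [hr, div_eq_one_iff_eq hdj.ne'] at h5
    exact h5

theorem abstract_main {ι : Type*} (F : Finset ι) (A τ d : ι → ℝ)
    (hd : ∀ i ∈ F, 0 < d i) (hτ : ∀ i ∈ F, τ i ≤ d i)
    (S1 : ∑ i ∈ F, A i * τ i ^ 2 / d i = 0) (S2 : ∑ i ∈ F, A i * d i = 0)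
    (S3 : ∑ i ∈ F, A i * τ i = 0) {o : ι} (ho : o ∈ F) (hdo : d o = 1) (hτo : τ o = 1)
    (hAo : A o ≠ 0) (hno : ¬ (2 ≤ (F.filter (fun i => 0 < A i)).card ∧
      2 ≤ (F.filter (fun i => A i < 0)).card)) :
    ∃ i ∈ F, i ≠ o ∧ τ i = d i := by
  classical
  rcases lt_or_gt_of_ne hAo with h | h
  · refine abstract_core F (fun i => - A i) τ d hd hτ ?_ ?_ ?_ ho hdo hτo (by simpa using h) ?_
    · simp only [neg_mul, neg_div, Finset.sum_neg_distrib, S1, neg_zero]
    · simp only [neg_mul, Finset.sum_neg_distrib, S2, neg_zero]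
    · simp only [neg_mul, Finset.sum_neg_distrib, S3, neg_zero]
    · intro ⟨h1, h2⟩
      apply hno
      simp only [neg_pos, neg_lt_zero] at h1 h2
      exact ⟨h2, h1⟩
  · exact abstract_core F A τ d hd hτ S1 S2 S3 ho hdo hτo h hno

section
variable {G : Type u} [Group G] [Fintype G] {M : Ideal AlgInt}

/-- The Frobenius class formula. -/
theorem frobenius_formula {t : G} (x : G) :
    conv (castFun (classIndicator t)) (castFun (classIndicator t)) x =
      (((Subgroup.centralizer ({t} : Set G)).index : ℂ) ^ 2 / (Nat.card G : ℂ)) *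
        ∑ χ : IrrCharacter G, ((χ : G → ℂ) t ^ 2 / (χ : G → ℂ) 1) * (χ : G → ℂ) x⁻¹ := by
  classical
  set cl : G → ℂ := castFun (classIndicator t) with hcl
  have hclc : IsClassFunction G cl := castFun_isClassFunction (classIndicator_mem t)
  have h1 : IsClassFunction G (conv cl cl) := by
    intro g h
    have := conv_isClassFunction hclc hclc g h
    exact this
  have h2 := congrFun (invF_omega h1) x
  rw [← h2]
  unfold invF
  rw [Finset.mul_sum]
  refine Finset.sum_congr rfl fun χ _ => ?_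
  show omega (χ : G → ℂ) (conv cl cl) * ec (χ : G → ℂ) x = _
  rw [omega_conv χ.2 hclc hclc, hcl, omega_classIndicator]
  unfold ec centralChar
  have h3 : (χ : G → ℂ) 1 ≠ 0 := irr_one_ne_zero' χ.2
  have h4 : (Nat.card G : ℂ) ≠ 0 := by exact_mod_cast Nat.card_pos.ne'
  field_simp

/-- If `w` and `w⁻¹ x` are involutions, `w` inverts `x`. -/
theorem inverts_of_invol {w b : G} (hw : w * w = 1) (hb : b * b = 1) :
    w * (w * b) * w⁻¹ = (w * b)⁻¹ := by
  have h1 : w⁻¹ = w := inv_eq_of_mul_eq_one_left hw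
  have h2 : b⁻¹ = b := inv_eq_of_mul_eq_one_left hb
  rw [mul_inv_rev, h1, h2, ← mul_assoc, hw, one_mul]

theorem inverts_pow {w x : G} (h : w * x * w⁻¹ = x⁻¹) (n : ℕ) :
    w * x ^ n * w⁻¹ = (x ^ n)⁻¹ := by
  have h1 : w * x ^ n * w⁻¹ = (w * x * w⁻¹) ^ n := by
    rw [conj_pow]
  rw [h1, h, inv_pow]

theorem inverts_inv {w x : G} (h : w * x⁻¹ * w⁻¹ = x) : w * x * w⁻¹ = x⁻¹ := by
  have h1 : (w * x⁻¹ * w⁻¹)⁻¹ = x⁻¹ := by rw [h]
  rw [← h1]
  group

/-- The vanishing of the first sum. -/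
theorem sum_first_eq_zero {p : ℕ} [Fact p.Prime] (hM : IsPModular p M) {t y : G}
    (ht : t * t = 1) (hy : ∃ k : ℕ, orderOf y = p ^ k)
    (hinv : ∀ g : G, (g * t * g⁻¹) * y * (g * t * g⁻¹)⁻¹ ≠ y⁻¹) :
    ∑ᶠ χ ∈ principalBlock M G, ((χ : G → ℂ) t ^ 2 / (χ : G → ℂ) 1) * conj ((χ : G → ℂ) y) = 0 := by
  classical
  haveI := hM.2.1.isPrime
  have hp := hM.1
  set z := y⁻¹ with hz
  have hzp : ∃ k : ℕ, orderOf z = p ^ k := by
    rw [hz, orderOf_inv]
    exact hy
  letI : Fintype (Subgroup.centralizer ({z} : Set G)) := Fintype.ofFinite _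
  have key := sum_principal_coeff_eq_zero hM hzp (H := Subgroup.centralizer ({z} : Set G)) rfl
    (fun χ : IrrCharacter G => (χ : G → ℂ) t ^ 2 / (χ : G → ℂ) 1) (by
      intro k hk
      have hne : ((Subgroup.centralizer ({t} : Set G)).index : ℂ) ^ 2 / (Nat.card G : ℂ) ≠ 0 := by
        have h1 : ((Subgroup.centralizer ({t} : Set G)).index : ℂ) ≠ 0 := by
          exact_mod_cast (Subgroup.index_ne_zero_of_finite)
        have h2 : (Nat.card G : ℂ) ≠ 0 := by exact_mod_cast Nat.card_pos.ne'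
        exact div_ne_zero (pow_ne_zero _ h1) h2
      have h1 := frobenius_formula (t := t) (z * (k : G))⁻¹
      rw [inv_inv] at h1
      apply (mul_eq_zero.mp (?_ : _ * _ = (0 : ℂ))).resolve_left hne
      rw [← h1]
      unfold conv
      refine Finset.sum_eq_zero fun w _ => ?_
      unfold castFun
      by_cases hw : IsConj t w
      · by_cases hb : IsConj t (w⁻¹ * (z * (k : G))⁻¹)
        · exfalso
          -- `w` inverts
          obtain ⟨g, hg⟩ := isConj_iff.1 hw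
          obtain ⟨g', hg'⟩ := isConj_iff.1 hb
          have hww : w * w = 1 := by
            rw [← hg]
            calc g * t * g⁻¹ * (g * t * g⁻¹) = g * (t * t) * g⁻¹ := by group
              _ = 1 := by rw [ht]; group
          have hbb : (w⁻¹ * (z * (k : G))⁻¹) * (w⁻¹ * (z * (k : G))⁻¹) = 1 := by
            rw [← hg']
            calc g' * t * g'⁻¹ * (g' * t * g'⁻¹) = g' * (t * t) * g'⁻¹ := by group
              _ = 1 := by rw [ht]; group
          have h2 := inverts_of_invol hww hbb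
          rw [mul_inv_cancel_left, inv_inv] at h2
          have h3 := inverts_inv h2
          -- `w` inverts the `p`-part
          have hpart := Cfsg.Agent.Lib.BlockSubsection.isPPart_mul (z := z) (p := p)
            (H := Subgroup.centralizer ({z} : Set G)) rfl hzp hk
          obtain ⟨N, hN⟩ := Cfsg.Agent.Lib.BlkOrth.pPart_exists_pow hp hpart
          have h4 := inverts_pow h3 N
          rw [hN] at h4
          apply hinv g
          rw [hg]
          have h5 : w * y * w⁻¹ = (w * z * w⁻¹)⁻¹ := by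
            rw [hz]
            group
          rw [h5, h4, inv_inv]
        · rw [classIndicator_of_not_conj hb]
          simp
      · rw [classIndicator_of_not_conj hw]
        simp)
  rw [← key]
  refine finsum_congr fun χ => finsum_congr fun _ => ?_
  rw [char_conj_eq_inv (IsIrrCharacter.isCharacter χ.2)]

variable {p : ℕ} [Fact p.Prime]

theorem sum_inv_mul {P : Subgroup G} [Fintype P]
    (χ : IrrCharacter G) (θ : P → ℂ) :
    ∑ y : P, (χ : G → ℂ) (y : G) * θ y⁻¹ = ∑ y : P, conj ((χ : G → ℂ) (y : G)) * θ y := by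
  rw [← Equiv.sum_comp (Equiv.inv P)]
  refine Finset.sum_congr rfl fun y _ => ?_
  simp only [Equiv.inv_apply, inv_inv, Subgroup.coe_inv]
  rw [char_conj_eq_inv (IsIrrCharacter.isCharacter χ.2)]

/-- Exchange of the sums. -/
theorem sum_a_mul {P : Subgroup G} [Fintype P] (θ : P → ℂ) (U : Set G)
    (hθU : ∀ y : ↥P, (y : G) ∉ U → θ y = 0) (B : Set (IrrCharacter G)) (d : IrrCharacter G → ℂ)
    (h : ∀ y : P, (y : G) ∈ U → ∑ᶠ χ ∈ B, d χ * conj ((χ : G → ℂ) y) = 0) :
    ∑ᶠ χ ∈ B, ((Nat.card ↥P : ℂ)⁻¹ * ∑ y : ↥P, (χ : G → ℂ) (y : G) * θ y⁻¹) * d χ = 0 := by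
  classical
  simp_rw [sum_inv_mul]
  rw [finsum_mem_eq_sum_bF]
  have h1 : ∀ χ : IrrCharacter G, ((Nat.card ↥P : ℂ)⁻¹ * ∑ y : ↥P, conj ((χ : G → ℂ) (y : G)) * θ y) * d χ =
      (Nat.card ↥P : ℂ)⁻¹ * ∑ y : ↥P, θ y * (d χ * conj ((χ : G → ℂ) (y : G))) := by
    intro χ
    rw [mul_assoc, Finset.sum_mul]
    congr 1
    refine Finset.sum_congr rfl fun y _ => ?_
    ring
  simp_rw [h1]
  rw [← Finset.mul_sum, Finset.sum_comm]
  apply mul_eq_zero_of_right
  refine Finset.sum_eq_zero fun y _ => ?_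
  rw [← Finset.mul_sum]
  by_cases hy : (y : G) ∈ U
  · rw [← finsum_mem_eq_sum_bF, h y hy, mul_zero]
  · rw [hθU y hy, zero_mul]

end

theorem result_aux {G : Type u} [Group G] [Fintype G] (M : Ideal Cfsg.AlgInt) (hM : Cfsg.IsPModular 2 M) (P : Subgroup G) [Fintype P] (hP : IsPGroup 2 P) (U : Set G) (t : G) (ht : orderOf t = 2) (hinv : ∀ u ∈ U, ∀ g : G, (g * t * g⁻¹) * u * (g * t * g⁻¹)⁻¹ ≠ u⁻¹) (θ : ↥P → ℂ) (hθ : Cfsg.IsGeneralizedCharacter ↥P θ) (hθU : ∀ y : ↥P, (y : G) ∉ U → θ y = 0) : (∑ᶠ χ ∈ Cfsg.principalBlock M G, ((Nat.card ↥P : ℂ)⁻¹ * ∑ y : ↥P, (χ : G → ℂ) (y : G) * θ y⁻¹) * (χ : G → ℂ) t ^ 2 / (χ : G → ℂ) 1 = 0) ∧ (∑ᶠ χ ∈ Cfsg.principalBlock M G, ((Nat.card ↥P : ℂ)⁻¹ * ∑ y : ↥P, (χ : G → ℂ) (y : G) * θ y⁻¹) * (χ : G → ℂ) 1 = 0) ∧ (∑ᶠ χ ∈ Cfsg.principalBlock M G, ((Nat.card ↥P : ℂ)⁻¹ * ∑ y : ↥P, (χ : G → ℂ) (y : G) * θ y⁻¹) * (χ : G → ℂ) t = 0) ∧ ((Nat.card ↥P : ℂ)⁻¹ * ∑ y : ↥P, θ y ≠ 0 → (2 ≤ Nat.card {χ : Cfsg.IrrCharacter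 G // χ ∈ Cfsg.principalBlock M G ∧ 0 < (((Nat.card ↥P : ℂ)⁻¹ * ∑ y : ↥P, (χ : G → ℂ) (y : G) * θ y⁻¹)).re} ∧ 2 ≤ Nat.card {χ : Cfsg.IrrCharacter G // χ ∈ Cfsg.principalBlock M G ∧ (((Nat.card ↥P : ℂ)⁻¹ * ∑ y : ↥P, (χ : G → ℂ) (y : G) * θ y⁻¹)).re < 0}) ∨ ∃ K : Subgroup G, K.Normal ∧ K ≠ ⊤ ∧ Cfsg.pPrimeCore 2 G ≤ K ∧ t ∈ K) := by
  classical
  haveI : Fact (Nat.Prime 2) := ⟨Nat.prime_two⟩
  haveI := hM.2.1.isPrime
  have htt : t * t = 1 := by
    rw [← sq, ← ht]
    exact pow_orderOf_eq_one t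
  have hpel : ∀ y : P, ∃ k : ℕ, orderOf (y : G) = 2 ^ k := by
    intro y
    obtain ⟨k, hk⟩ := IsPGroup.iff_orderOf.mp hP y
    exact ⟨k, by rw [Subgroup.orderOf_coe, hk]⟩
  have htp : ∃ k : ℕ, orderOf t = 2 ^ k := ⟨1, by rw [ht, pow_one]⟩
  have hB0 : IsPBlock M (principalBlock M G) := Cfsg.Agent.Lib.BlockNormal.isPBlock_principalBlock M
  have hS1 : ∑ᶠ χ ∈ Cfsg.principalBlock M G, ((Nat.card ↥P : ℂ)⁻¹ * ∑ y : ↥P, (χ : G → ℂ) (y : G) * θ y⁻¹) * ((χ : G → ℂ) t ^ 2 / (χ : G → ℂ) 1) = 0 :=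
    sum_a_mul θ U hθU _ _ fun y hy => sum_first_eq_zero hM htt (hpel y) (fun g => hinv y hy g)
  have hone : ∀ y : P, (y : G) ∈ U → ¬ IsConj (1 : G) y := by
    intro y hy h
    have h1 : (y : G) = 1 := by
      exact isConj_one_right.mp h
    apply hinv y hy 1
    rw [h1]
    simp
  have htc : ∀ y : P, (y : G) ∈ U → ¬ IsConj t y := by
    intro y hy h
    obtain ⟨g, hg⟩ := isConj_iff.1 h
    apply hinv y hy g
    rw [hg]
    have h2 : (y : G) * (y : G) = 1 := by
      rw [← hg]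
      calc g * t * g⁻¹ * (g * t * g⁻¹) = g * (t * t) * g⁻¹ := by group
        _ = 1 := by rw [htt]; group
    have h3 : (y : G)⁻¹ = y := inv_eq_of_mul_eq_one_left h2
    rw [h3, h2, one_mul]
  have hS2 : ∑ᶠ χ ∈ Cfsg.principalBlock M G, ((Nat.card ↥P : ℂ)⁻¹ * ∑ y : ↥P, (χ : G → ℂ) (y : G) * θ y⁻¹) * (χ : G → ℂ) 1 = 0 :=
    sum_a_mul θ U hθU _ _ fun y hy => sum_block_pelement_eq_zero hM ⟨0, by simp⟩ (hpel y) (hone y hy) hB0
  have hS3 : ∑ᶠ χ ∈ Cfsg.principalBlock M G, ((Nat.card ↥P : ℂ)⁻¹ * ∑ y : ↥P, (χ : G → ℂ) (y : G) * θ y⁻¹) * (χ : G → ℂ) t = 0 :=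
    sum_a_mul θ U hθU _ _ fun y hy => sum_block_pelement_eq_zero hM htp (hpel y) (htc y hy) hB0
  refine ⟨?_, hS2, hS3, ?_⟩
  · rw [← hS1]
    refine finsum_congr fun χ => finsum_congr fun _ => ?_
    rw [mul_div_assoc]
  · intro hne
    by_contra hcon
    push Not at hcon
    obtain ⟨hcon1, hcon2⟩ := hcon
    set c : ℂ := (Nat.card ↥P : ℂ)⁻¹ with hc
    set a : IrrCharacter G → ℂ := fun χ => c * ∑ y : ↥P, (χ : G → ℂ) (y : G) * θ y⁻¹ with ha
    have haR : ∀ χ : IrrCharacter G, ((a χ).re : ℂ) = a χ := by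
      intro χ
      rw [← Complex.conj_eq_iff_re]
      simp only [ha]
      rw [map_mul, map_sum, hc, map_inv₀, map_natCast]
      congr 1
      rw [sum_inv_mul]
      refine Finset.sum_congr rfl fun y _ => ?_
      rw [map_mul]
      congr 1
      obtain ⟨φ₁, φ₂, h1, h2, rfl⟩ := hθ
      simp only [Pi.sub_apply, map_sub]
      rw [char_conj_eq_inv h1, char_conj_eq_inv h2, inv_inv]
    have htinv : t⁻¹ = t := inv_eq_of_mul_eq_one_left htt
    have htR : ∀ χ : IrrCharacter G, (((χ : G → ℂ) t).re : ℂ) = (χ : G → ℂ) t := by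
      intro χ
      rw [← Complex.conj_eq_iff_re, char_conj_eq_inv (IsIrrCharacter.isCharacter χ.2), htinv]
    have hdR : ∀ χ : IrrCharacter G, (χ : G → ℂ) 1 = ((charDegree (χ : G → ℂ) : ℝ) : ℂ) := by
      intro χ
      rw [one_eq_charDegree (IsIrrCharacter.isCharacter χ.2)]
      simp
    set F := bF (principalBlock M G) with hF
    set A : IrrCharacter G → ℝ := fun χ => (a χ).re with hA
    set τ : IrrCharacter G → ℝ := fun χ => ((χ : G → ℂ) t).re with hτ
    set d : IrrCharacter G → ℝ := fun χ => (charDegree (χ : G → ℂ) : ℝ) with hd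
    have hdpos : ∀ χ ∈ F, 0 < d χ := by
      intro χ _
      simp only [hd]
      exact_mod_cast charDegree_pos χ.2
    have hτd : ∀ χ ∈ F, τ χ ≤ d χ := by
      intro χ _
      have h1 := Cfsg.Agent.Lib.GenChar.char_norm_le (IsIrrCharacter.isCharacter χ.2) t
      rw [hdR χ, Complex.norm_real] at h1
      simp only [Real.norm_natCast] at h1
      exact le_trans (Complex.re_le_norm _) h1
    have S1 : ∑ χ ∈ F, A χ * τ χ ^ 2 / d χ = 0 := by
      apply Complex.ofReal_injective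
      push_cast
      rw [finsum_mem_eq_sum_bF] at hS1
      rw [← hS1]
      refine Finset.sum_congr rfl fun χ _ => ?_
      simp only [hA, hτ, hd]
      rw [haR, htR, ← hdR, mul_div_assoc]
    have S2 : ∑ χ ∈ F, A χ * d χ = 0 := by
      apply Complex.ofReal_injective
      push_cast
      rw [finsum_mem_eq_sum_bF] at hS2
      rw [← hS2]
      refine Finset.sum_congr rfl fun χ _ => ?_
      simp only [hA, hd]
      rw [haR, ← hdR]
    have S3 : ∑ χ ∈ F, A χ * τ χ = 0 := by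
      apply Complex.ofReal_injective
      push_cast
      rw [finsum_mem_eq_sum_bF] at hS3
      rw [← hS3]
      refine Finset.sum_congr rfl fun χ _ => ?_
      simp only [hA, hτ]
      rw [haR, htR]
    set o : IrrCharacter G := Cfsg.Agent.Lib.BlockNormal.irrOne G with ho
    have hoF : o ∈ F := mem_bF.mpr (Cfsg.Agent.Lib.BlockNormal.irrOne_mem_principalBlock M)
    have hoval : ∀ g : G, (o : G → ℂ) g = 1 := fun g => rfl
    have hdo : d o = 1 := by
      have h1 := hdR o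
      rw [hoval] at h1
      have h2 : ((d o : ℝ) : ℂ) = ((1 : ℝ) : ℂ) := by
        simp only [hd]
        rw [← h1]
        simp
      exact Complex.ofReal_injective h2
    have hτo : τ o = 1 := by
      simp only [hτ]
      rw [hoval]
      simp
    have hao : a o = c * ∑ y : ↥P, θ y := by
      simp only [ha]
      congr 1
      rw [← Equiv.sum_comp (Equiv.inv P)]
      refine Finset.sum_congr rfl fun y _ => ?_
      simp only [Equiv.inv_apply, inv_inv]
      rw [hoval, one_mul]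
    have hAo : A o ≠ 0 := by
      intro h0
      apply hne
      rw [← hao, ← haR o]
      simp only [hA] at h0
      rw [h0]
      simp
    have hcard1 : (F.filter (fun i => 0 < A i)).card = Nat.card {χ : Cfsg.IrrCharacter G // χ ∈ Cfsg.principalBlock M G ∧ 0 < (a χ).re} := by
      rw [Nat.card_eq_fintype_card, Fintype.card_subtype]
      congr 1
      ext χ
      simp [hF, hA]
    have hcard2 : (F.filter (fun i => A i < 0)).card = Nat.card {χ : Cfsg.IrrCharacter G // χ ∈ Cfsg.principalBlock M G ∧ (a χ).re < 0} := by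
      rw [Nat.card_eq_fintype_card, Fintype.card_subtype]
      congr 1
      ext χ
      simp [hF, hA]
    obtain ⟨χ, hχF, hχo, hχτ⟩ := abstract_main F A τ d hdpos hτd S1 S2 S3 hoF hdo hτo hAo (by
      rw [hcard1, hcard2]
      rintro ⟨h1, h2⟩
      exact (not_le.mpr (hcon1 h1)) h2)
    have hχB : χ ∈ principalBlock M G := mem_bF.mp hχF
    have hχc := IsIrrCharacter.isCharacter χ.2
    have hχt : (χ : G → ℂ) t = (χ : G → ℂ) 1 := by
      rw [← htR χ, hdR χ]
      congr 1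
    refine hcon2 (charKer hχc) inferInstance ?_ ?_ hχt
    · intro htop
      have h1 : ∀ g : G, (χ : G → ℂ) g = (χ : G → ℂ) 1 := by
        intro g
        have : g ∈ charKer hχc := by rw [htop]; trivial
        exact this
      have h2 := classInner_irr_ne χ.2 o.2 (fun h => hχo (Subtype.ext h))
      unfold classInner at h2
      simp_rw [h1, hoval] at h2
      simp only [map_one, mul_one, Finset.sum_const, Finset.card_univ, nsmul_eq_mul] at h2
      rw [← Nat.card_eq_fintype_card, ← mul_assoc, inv_mul_cancel₀ (by exact_mod_cast Nat.card_pos.ne'), one_mul] at h2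
      exact irr_one_ne_zero' χ.2 h2
    · unfold pPrimeCore
      refine sSup_le ?_
      rintro N ⟨hN1, hN2⟩ x hx
      haveI := hN1
      refine Cfsg.Agent.Lib.BlockNormal.eq_of_mem_principalBlock hM N ?_ χ hχB x hx
      intro h2
      have := Nat.Coprime.eq_one_of_dvd (Nat.Coprime.symm hN2) h2
      omega

/-- Let M be a maximal ideal of the algebraic integers containing 2, P a 2-subgroup of the finite group G, U a subset of P, and t an involution of G such that no element of U is inverted by any conjugate of t. Let θ be a generalized character of P vanishing outside U, and for χ in the principal 2-block B₀ put a_χ = #P⁻¹ Σ_{y ∈ P} χ(y) θ(y⁻¹). Then Σ_{χ ∈ B₀} a_χ χ(t)^2/χ(1) = 0, Σ_{χ ∈ B₀} a_χ χ(1) = 0 and Σ_{χ ∈ B₀} a_χ χ(t) = 0. If moreover #P⁻¹ Σ_{y ∈ P} θ(y) ≠ 0, then either at least two of the a_χ have positive real part and at least two have negative real part, or G has a proper normal subgroup containing O_2'(G)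 and t. -/
theorem result {G : Type*} [Group G] [Finite G] (M : Ideal Cfsg.AlgInt) (hM : Cfsg.IsPModular 2 M) (P : Subgroup G) (hP : IsPGroup 2 P) (U : Set G) (hUP : U ⊆ (P : Set G)) (t : G) (ht : orderOf t = 2) (hinv : ∀ u ∈ U, ∀ g : G, (g * t * g⁻¹) * u * (g * t * g⁻¹)⁻¹ ≠ u⁻¹) (θ : ↥P → ℂ) (hθ : Cfsg.IsGeneralizedCharacter ↥P θ) (hθU : ∀ y : ↥P, (y : G) ∉ U → θ y = 0) : (∑ᶠ χ ∈ Cfsg.principalBlock M G, ((Nat.card ↥P : ℂ)⁻¹ * ∑ᶠ y : ↥P, (χ : G → ℂ) (y : G) * θ y⁻¹) * (χ : G → ℂ) t ^ 2 / (χ : G → ℂ) 1 = 0) ∧ (∑ᶠ χ ∈ Cfsg.principalBlock M G, ((Nat.card ↥P : ℂ)⁻¹ * ∑ᶠ y : ↥P, (χ : G → ℂ) (y : G) * θ y⁻¹) * (χ : G → ℂ) 1 = 0) ∧ (∑ᶠ χ ∈ Cfsg.principalBlock M G, ((Nat.card ↥P : ℂ)⁻¹ * ∑ᶠ y : ↥P, (χ : G → ℂ) (y : G) * θ y⁻¹) * (χ : G → ℂ) t = 0) ∧ ((Nat.card ↥P : ℂ)⁻¹ * ∑ᶠ y : ↥P, θ y ≠ 0 → (2 ≤ Nat.card {χ : Cfsg.IrrCharacter G // χ ∈ Cfsg.principalBlock M G ∧ 0 < (((Nat.card ↥P : ℂ)⁻¹ * ∑ᶠ y : ↥P, (χ : G → ℂ) (y : G) * θ y⁻¹)).re}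 ∧ 2 ≤ Nat.card {χ : Cfsg.IrrCharacter G // χ ∈ Cfsg.principalBlock M G ∧ (((Nat.card ↥P : ℂ)⁻¹ * ∑ᶠ y : ↥P, (χ : G → ℂ) (y : G) * θ y⁻¹)).re < 0}) ∨ ∃ K : Subgroup G, K.Normal ∧ K ≠ ⊤ ∧ Cfsg.pPrimeCore 2 G ≤ K ∧ t ∈ K) := by
  classical
  letI := Fintype.ofFinite G
  letI : Fintype P := Fintype.ofFinite _
  have e1 : ∀ f : P → ℂ, ∑ᶠ y : P, f y = ∑ y : P, f y := fun f => finsum_eq_sum_of_fintype f
  simp only [e1]
  exact result_aux M hM P hP U t ht hinv θ hθ hθU

end Cfsg.Agent.S4722
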