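import Mathlib
import Cfsg.Statements.S0945

set_option autoImplicit false
set_option linter.all false
open Cfsg

namespace Cfsg.Agent.S0945

variable {G : Type*} [Group G]

/-- The involutions in a subgroup. -/
abbrev Inv (P : Subgroup G) : Type _ := {x : G // x ∈ P ∧ x ≠ 1 ∧ x ^ 2 = 1}

theorem zmod_two (n : ℕ) (a : ZMod (2 ^ (n + 1))) (ha : a + a = 0) :
    a = 0 ∨ a = ((2 ^ n : ℕ) : ZMod (2 ^ (n + 1))) := by
  haveI : NeZero (2 ^ (n + 1)) := ⟨by positivity⟩
  have h1 : ((a.val + a.val : ℕ) : ZMod (2 ^ (n + 1))) = 0 := by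
    push_cast
    rw [ZMod.natCast_zmod_val]
    exact ha
  rw [ZMod.natCast_eq_zero_iff] at h1
  obtain ⟨c, hc⟩ := h1
  have h2 : a.val = 2 ^ n * c := by
    have h5 : (2 : ℕ) ^ (n + 1) * c = 2 * (2 ^ n * c) := by ring
    omega
  have h3 : a.val < 2 ^ (n + 1) := ZMod.val_lt a
  have hpos : 0 < 2 ^ n := by positivity
  have h4 : c < 2 := by
    rw [h2, pow_succ] at h3
    exact lt_of_mul_lt_mul_left h3 (by omega)
  interval_cases c
  · left
    rw [← ZMod.natCast_zmod_val a, h2]
    simp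
  · right
    rw [← ZMod.natCast_zmod_val a, h2, mul_one]

theorem zmod_half_ne_zero (n : ℕ) : ((2 ^ n : ℕ) : ZMod (2 ^ (n + 1))) ≠ 0 := by
  intro h
  rw [ZMod.natCast_eq_zero_iff] at h
  have := Nat.le_of_dvd (by positivity) h
  rw [pow_succ] at this
  have hpos : 0 < 2 ^ n := by positivity
  omega

theorem zmod_half_add (n : ℕ) : ((2 ^ n : ℕ) : ZMod (2 ^ (n + 1))) + ((2 ^ n : ℕ) : ZMod (2 ^ (n + 1))) = 0 := by
  have : ((2 ^ n : ℕ) : ZMod (2 ^ (n + 1))) + ((2 ^ n : ℕ) : ZMod (2 ^ (n + 1))) =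
      ((2 ^ (n + 1) : ℕ) : ZMod (2 ^ (n + 1))) := by
    rw [pow_succ]
    push_cast
    ring
  rw [this]
  exact ZMod.natCast_self _

theorem card_inv_aux (n : ℕ) :
    Nat.card {u : ZMod (2 ^ (n + 1)) × ZMod (2 ^ (n + 1)) // u ≠ 0 ∧ u + u = 0} = 3 := by
  set h : ZMod (2 ^ (n + 1)) := ((2 ^ n : ℕ) : ZMod (2 ^ (n + 1))) with hh
  have hne : h ≠ 0 := zmod_half_ne_zero n
  have hadd : h + h = 0 := zmod_half_add n
  have hS : {u : ZMod (2 ^ (n + 1)) × ZMod (2 ^ (n + 1)) | u ≠ 0 ∧ u + u = 0} =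
      {(h, 0), (0, h), (h, h)} := by
    ext ⟨a, b⟩
    simp only [Set.mem_setOf_eq, Set.mem_insert_iff, Set.mem_singleton_iff, Prod.mk.injEq,
      Prod.mk_add_mk, Prod.mk_eq_zero, ne_eq, not_and]
    constructor
    · rintro ⟨h1, h2, h3⟩
      rcases zmod_two n a h2 with rfl | ha <;> rcases zmod_two n b h3 with rfl | hb
      · exact absurd rfl (h1 rfl)
      · right; left; exact ⟨rfl, hb⟩
      · left; exact ⟨ha, rfl⟩
      · right; right; exact ⟨ha, hb⟩
    · rintro (⟨rfl, rfl⟩ | ⟨rfl, rfl⟩ | ⟨rfl, rfl⟩)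
      · exact ⟨fun h0 => absurd h0 hne, hadd, by simp⟩
      · exact ⟨fun _ => hne, by simp, hadd⟩
      · exact ⟨fun h0 => absurd h0 hne, hadd, hadd⟩
  have : Nat.card {u : ZMod (2 ^ (n + 1)) × ZMod (2 ^ (n + 1)) // u ≠ 0 ∧ u + u = 0} =
      Set.ncard {u : ZMod (2 ^ (n + 1)) × ZMod (2 ^ (n + 1)) | u ≠ 0 ∧ u + u = 0} := rfl
  rw [this, hS]
  apply Set.ncard_eq_three.mpr
  refine ⟨_, _, _, ?_, ?_, ?_, rfl⟩
  · intro h0
    exact hne (congrArg Prod.fst h0)
  · intro h0
    exact hne (congrArg Prod.snd h0).symm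
  · intro h0
    exact hne (congrArg Prod.fst h0).symm

theorem card_inv (P : Subgroup G) (m : ℕ) (hm : 1 ≤ m)
    (e : P ≃* Multiplicative (ZMod (2 ^ m) × ZMod (2 ^ m))) : Nat.card (Inv P) = 3 := by
  obtain ⟨n, rfl⟩ : ∃ n, m = n + 1 := ⟨m - 1, by omega⟩
  rw [← card_inv_aux n]
  refine Nat.card_congr ?_
  refine
    { toFun := fun x => ⟨(e ⟨x.1, x.2.1⟩).toAdd, ?_, ?_⟩
      invFun := fun u => ⟨((e.symm (Multiplicative.ofAdd u.1) : P) : G), Subtype.property _, ?_, ?_⟩
      left_inv := ?_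
      right_inv := ?_ }
  · intro h
    apply x.2.2.1
    have h1 : e ⟨x.1, x.2.1⟩ = 1 := Multiplicative.toAdd.injective h
    have h2 := e.injective (h1.trans (map_one e).symm)
    exact congrArg Subtype.val h2
  · have h1 : (⟨x.1, x.2.1⟩ : P) ^ 2 = 1 := Subtype.ext x.2.2.2
    have h2 : (e ⟨x.1, x.2.1⟩) ^ 2 = 1 := by rw [← map_pow, h1, map_one]
    rw [pow_two] at h2
    exact congrArg Multiplicative.toAdd h2
  · intro h
    apply u.2.1
    have h1 : e.symm (Multiplicative.ofAdd u.1) = 1 := Subtype.ext h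
    have h2 : Multiplicative.ofAdd u.1 = 1 := by
      have := congrArg e h1
      simpa using this
    exact Multiplicative.ofAdd.injective h2
  · have h1 : (Multiplicative.ofAdd u.1) ^ 2 = 1 := by
      rw [pow_two, ← ofAdd_add, u.2.2]
      rfl
    have h2 : (e.symm (Multiplicative.ofAdd u.1)) ^ 2 = 1 := by rw [← map_pow, h1, map_one]
    exact congrArg Subtype.val h2
  · intro x
    apply Subtype.ext
    simp
  · intro u
    apply Subtype.ext
    simp

section Action

variable (P : Subgroup G)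

/-- The conjugation action of the normalizer on involutions. -/
def conjInv (g : Subgroup.normalizer (P : Set G)) (x : Inv P) : Inv P :=
  ⟨(g : G) * x.1 * (g : G)⁻¹, (Subgroup.mem_normalizer_iff.mp g.2 x.1).mp x.2.1,
    fun h => x.2.2.1 (conj_eq_one_iff.mp h), by rw [conj_pow, x.2.2.2]; simp⟩

def conjPerm : Subgroup.normalizer (P : Set G) →* Equiv.Perm (Inv P) where
  toFun g :=
    { toFun := conjInv P g
      invFun := conjInv P g⁻¹
      left_inv := fun x => by
        apply Subtype.ext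
        simp [conjInv, mul_assoc]
      right_inv := fun x => by
        apply Subtype.ext
        simp [conjInv, mul_assoc] }
  map_one' := by
    ext x
    simp [conjInv]
  map_mul' := fun g h => by
    ext x
    simp [conjInv, mul_assoc]

theorem conjPerm_apply (g : Subgroup.normalizer (P : Set G)) (x : Inv P) :
    ((conjPerm P g x : Inv P) : G) = (g : G) * x.1 * (g : G)⁻¹ := rfl

/-- The key lemma: odd order action trivial on involutions is trivial. -/
theorem fix_of_odd (hcomm : ∀ x ∈ P, ∀ y ∈ P, x * y = y * x) (g : G)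
    (hg : g ∈ Subgroup.normalizer (P : Set G)) (k : ℕ) (hk : Odd k)
    (hgk : g ^ k ∈ Subgroup.centralizer (P : Set G))
    (hfix : ∀ t ∈ P, t ^ 2 = 1 → g * t * g⁻¹ = t) (j : ℕ) :
    ∀ x ∈ P, x ^ (2 ^ j) = 1 → g * x * g⁻¹ = x := by
  induction j with
  | zero =>
    intro x _ hx
    simp only [pow_zero, pow_one] at hx
    rw [hx]
    simp
  | succ j ih =>
    intro x hxP hx
    have hx2 : x ^ 2 ∈ P := P.pow_mem hxP 2
    have h1 : g * (x ^ 2) * g⁻¹ = x ^ 2 := ih _ hx2 (by
      rw [← pow_mul, ← pow_succ']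
      exact hx)
    have hy0 : g * x * g⁻¹ ∈ P := (Subgroup.mem_normalizer_iff.mp hg x).mp hxP
    obtain ⟨y, hydef⟩ : ∃ y, y = g * x * g⁻¹ := ⟨_, rfl⟩
    have hy : y ∈ P := by rw [hydef]; exact hy0
    have hy2 : y ^ 2 = x ^ 2 := by
      rw [hydef, conj_pow, h1]
    -- t = y x⁻¹
    obtain ⟨t, htdef⟩ : ∃ t, t = y * x⁻¹ := ⟨_, rfl⟩
    have htP : t ∈ P := by rw [htdef]; exact P.mul_mem hy (P.inv_mem hxP)
    have ht2 : t ^ 2 = 1 := by
      have hc : Commute y x⁻¹ := hcomm _ hy _ (P.inv_mem hxP)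
      rw [htdef, hc.mul_pow, hy2, inv_pow, mul_inv_cancel]
    have htfix : g * t * g⁻¹ = t := hfix t htP ht2
    have hyx : y = t * x := by rw [htdef]; group
    -- iterate
    have hiter : ∀ i : ℕ, g ^ i * x * (g ^ i)⁻¹ = t ^ i * x := by
      intro i
      induction i with
      | zero => simp
      | succ i ih2 =>
        have h2 : g ^ (i + 1) * x * (g ^ (i + 1))⁻¹ = g * (g ^ i * x * (g ^ i)⁻¹) * g⁻¹ := by
          rw [pow_succ']
          group
        rw [h2, ih2]
        have h3 : g * (t ^ i * x) * g⁻¹ = (g * t * g⁻¹) ^ i * (g * x * g⁻¹) := by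
          rw [conj_pow]
          group
        rw [h3, htfix, ← hydef, hyx, pow_succ, mul_assoc]
    have h5 : g ^ k * x * (g ^ k)⁻¹ = x := by
      have := Subgroup.mem_centralizer_iff.mp hgk x hxP
      rw [← this]
      group
    have h6 : t ^ k = 1 := by
      have h7 := hiter k
      rw [h5] at h7
      exact (mul_eq_right.mp h7.symm)
    have h8 : t = 1 := by
      obtain ⟨l, hl⟩ := hk
      rw [hl, pow_succ, pow_mul, ht2, one_pow, one_mul] at h6
      exact h6
    rw [← hydef, hyx, h8, one_mul]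

end Action

/-- Facts for the statements. -/
theorem main_facts {G : Type*} [Group G] [Finite G] (P : Sylow 2 G) (m : ℕ) (hm : 1 ≤ m)
    (e : (P : Subgroup G) ≃* Multiplicative (ZMod (2 ^ m) × ZMod (2 ^ m))) :
    Nat.card (Inv (P : Subgroup G)) = 3 ∧
    (conjPerm (P : Subgroup G)).ker = (Subgroup.centralizer ((P : Subgroup G) : Set G)).subgroupOf (Subgroup.normalizer ((P : Subgroup G) : Set G)) ∧
    (Subgroup.centralizer ((P : Subgroup G) : Set G)).relIndex (Subgroup.normalizer ((P : Subgroup G) : Set G)) =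
      Nat.card (conjPerm (P : Subgroup G)).range ∧
    Odd ((Subgroup.centralizer ((P : Subgroup G) : Set G)).relIndex (Subgroup.normalizer ((P : Subgroup G) : Set G))) := by
  classical
  set Q : Subgroup G := (P : Subgroup G) with hQ
  set N := Subgroup.normalizer (Q : Set G) with hN
  set C := Subgroup.centralizer (Q : Set G) with hC
  have hcomm : ∀ x ∈ Q, ∀ y ∈ Q, x * y = y * x := by
    intro x hx y hy
    have h1 : (⟨x, hx⟩ : Q) * ⟨y, hy⟩ = ⟨y, hy⟩ * ⟨x, hx⟩ := by
      apply e.injective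
      rw [map_mul, map_mul, mul_comm]
    exact congrArg Subtype.val h1
  have hQC : Q ≤ C := fun x hx => Subgroup.mem_centralizer_iff.mpr fun y hy => hcomm y hy x hx
  have hCN : C ≤ N := Subgroup.centralizer_le_normalizer _
  have hodd : Odd (C.relIndex N) := by
    have h1 : Q.relIndex C * C.relIndex N = Q.relIndex N := Subgroup.relIndex_mul_relIndex _ _ _ hQC hCN
    have h2 : Q.relIndex N * N.index = Q.index := Subgroup.relIndex_mul_index (hQC.trans hCN)
    have h3 : ¬ 2 ∣ Q.index := P.not_dvd_index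
    rw [← Nat.not_even_iff_odd]
    intro he
    apply h3
    rw [← h2, ← h1]
    exact Dvd.dvd.mul_right (Dvd.dvd.mul_left he.two_dvd _) _
  have hker : (conjPerm Q).ker = C.subgroupOf N := by
    ext g
    rw [MonoidHom.mem_ker, Subgroup.mem_subgroupOf]
    constructor
    · intro hg
      rw [Subgroup.mem_centralizer_iff]
      intro x hx
      have hfix : ∀ t ∈ Q, t ^ 2 = 1 → (g : G) * t * (g : G)⁻¹ = t := by
        intro t ht ht2
        by_cases ht1 : t = 1
        · rw [ht1]
          simp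
        · have := conjPerm_apply Q g ⟨t, ht, ht1, ht2⟩
          rw [hg] at this
          exact this.symm
      have hgk : (g : G) ^ (C.relIndex N) ∈ C := by
        haveI : (C.subgroupOf N).Normal := Subgroup.normal_subgroupOf_centralizer_normalizer _
        have := Subgroup.pow_index_mem (C.subgroupOf N) g
        rw [Subgroup.mem_subgroupOf] at this
        exact_mod_cast this
      obtain ⟨j, hj⟩ := (IsPGroup.iff_orderOf.mp P.2 ⟨x, hx⟩)
      have hxj : x ^ (2 ^ j) = 1 := by
        have h1 : (⟨x, hx⟩ : Q) ^ (2 ^ j) = 1 := by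
          rw [← hj]
          exact pow_orderOf_eq_one _
        exact congrArg Subtype.val h1
      have h4 := fix_of_odd Q hcomm (g : G) g.2 _ hodd hgk hfix j x hx hxj
      calc x * (g : G) = (g : G) * x * (g : G)⁻¹ * (g : G) := by rw [h4]
        _ = (g : G) * x := by group
    · intro hg
      ext x
      have h1 : (g : G) * x.1 = x.1 * (g : G) :=
        (Subgroup.mem_centralizer_iff.mp hg x.1 x.2.1).symm
      rw [conjPerm_apply, h1]
      simp
  refine ⟨card_inv Q m hm e, hker, ?_, hodd⟩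
  rw [Subgroup.relIndex, ← hker, Subgroup.index_ker]

theorem perm_three_aux {X : Type*} (hX : Nat.card X = 3) (σ : Equiv.Perm X) (h3 : σ ^ 3 = 1)
    (t : X) (ht : σ t = t) : σ = 1 := by
  classical
  haveI : Finite X := Nat.finite_of_card_ne_zero (by omega)
  haveI := Fintype.ofFinite X
  have e : X ≃ Fin 3 := Fintype.equivFinOfCardEq (by rw [← Nat.card_eq_fintype_card, hX])
  have key : ∀ τ : Equiv.Perm (Fin 3), τ ^ 3 = 1 → ∀ i, τ i = i → τ = 1 := by decide
  let E : Equiv.Perm X ≃* Equiv.Perm (Fin 3) := Equiv.permCongrHom e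
  have h4 : E σ = 1 := by
    apply key _ (by rw [← map_pow, h3, map_one]) (e t)
    change e (σ (e.symm (e t))) = e t
    simp [ht]
  exact E.injective (h4.trans (map_one E).symm)

theorem perm_three_trans {X : Type*} (hX : Nat.card X = 3) (σ : Equiv.Perm X) (h3 : σ ^ 3 = 1)
    (hne : σ ≠ 1) (s t : X) : t = s ∨ t = σ s ∨ t = σ (σ s) := by
  classical
  haveI : Finite X := Nat.finite_of_card_ne_zero (by omega)
  haveI := Fintype.ofFinite X
  have e : X ≃ Fin 3 := Fintype.equivFinOfCardEq (by rw [← Nat.card_eq_fintype_card, hX])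
  have key : ∀ τ : Equiv.Perm (Fin 3), τ ^ 3 = 1 → τ ≠ 1 → ∀ i j, j = i ∨ j = τ i ∨ j = τ (τ i) := by
    decide
  let E : Equiv.Perm X ≃* Equiv.Perm (Fin 3) := Equiv.permCongrHom e
  have h5 := key (E σ) (by rw [← map_pow, h3, map_one])
    (fun h => hne (E.injective (h.trans (map_one E).symm))) (e s) (e t)
  have h6 : ∀ x, E σ (e x) = e (σ x) := by
    intro x
    change e (σ (e.symm (e x))) = e (σ x)
    simp
  rw [h6, h6] at h5
  rcases h5 with h | h | h
  · exact Or.inl (e.injective h)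
  · exact Or.inr (Or.inl (e.injective h))
  · exact Or.inr (Or.inr (e.injective h))

/-- Elements of the range have cube one when the index is `3`. -/
theorem perm_cube {G : Type*} [Group G] [Finite G] (P : Sylow 2 G) (m : ℕ) (hm : 1 ≤ m)
    (e : (P : Subgroup G) ≃* Multiplicative (ZMod (2 ^ m) × ZMod (2 ^ m)))
    (h3 : (Subgroup.centralizer (P : Set G)).relIndex (Subgroup.normalizer (P : Set G)) = 3)
    (g : Subgroup.normalizer ((P : Subgroup G) : Set G)) : (conjPerm (P : Subgroup G) g) ^ 3 = 1 := by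
  obtain ⟨-, -, hidx, -⟩ := main_facts P m hm e
  have h1 : Nat.card (conjPerm (P : Subgroup G)).range = 3 := by rw [← hidx]; exact h3
  have h2 : (⟨conjPerm (P : Subgroup G) g, g, rfl⟩ : (conjPerm (P : Subgroup G)).range) ^ 3 = 1 := by
    rw [← h1]
    exact pow_card_eq_one'
  exact congrArg Subtype.val h2

/-- Every element of `Q ≠ 1` has an involution among its powers. -/
theorem exists_inv_pow {G : Type*} [Group G] [Finite G] (P : Sylow 2 G) (z : G)
    (hz : z ∈ (P : Subgroup G)) (hne : z ≠ 1) :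
    ∃ t : Inv (P : Subgroup G), ∃ k : ℕ, t.1 = z ^ k := by
  obtain ⟨j, hj⟩ := (IsPGroup.iff_orderOf.mp P.2 ⟨z, hz⟩)
  have hord : orderOf z = 2 ^ j := by
    rw [← hj]
    exact (Subgroup.orderOf_mk z hz).symm
  have hj0 : j ≠ 0 := by
    rintro rfl
    rw [pow_zero, orderOf_eq_one_iff] at hord
    exact hne hord
  obtain ⟨i, rfl⟩ : ∃ i, j = i + 1 := ⟨j - 1, by omega⟩
  refine ⟨⟨z ^ (2 ^ i), (P : Subgroup G).pow_mem hz _, ?_, ?_⟩, 2 ^ i, rfl⟩
  · intro h
    have h1 := orderOf_dvd_of_pow_eq_one h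
    rw [hord] at h1
    have := Nat.le_of_dvd (by positivity) h1
    rw [pow_succ] at this
    have hpos : 0 < 2 ^ i := by positivity
    omega
  · rw [← pow_mul, ← pow_succ, ← hord]
    exact pow_orderOf_eq_one z

theorem result {G : Type*} [Group G] [Finite G] (P : Sylow 2 G) (m : ℕ) (hm : 1 ≤ m) (e : (P : Subgroup G) ≃* Multiplicative (ZMod (2 ^ m) × ZMod (2 ^ m))) : ((Subgroup.centralizer (P : Set G)).relIndex (Subgroup.normalizer (P : Set G)) = 1 ∨ (Subgroup.centralizer (P : Set G)).relIndex (Subgroup.normalizer (P : Set G)) = 3) ∧ ((Subgroup.centralizer (P : Set G)).relIndex (Subgroup.normalizer (P : Set G)) ≠ 1 → ∀ z ∈ (P : Subgroup G), z ≠ 1 → Subgroup.centralizer ({z} : Set G) ⊓ Subgroup.normalizer (P : Set G) = Subgroup.centralizer (P : Set G)) := by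
  classical
  obtain ⟨h3, hker, hidx, hodd⟩ := main_facts P m hm e
  have hfin : Finite (Inv (P : Subgroup G)) := Nat.finite_of_card_ne_zero (by omega)
  have hdvd : Nat.card (conjPerm (P : Subgroup G)).range ∣ 6 := by
    have h1 := Subgroup.card_subgroup_dvd_card (conjPerm (P : Subgroup G)).range
    have h2 : Nat.card (Equiv.Perm (Inv (P : Subgroup G))) = 6 := by
      haveI := Fintype.ofFinite (Inv (P : Subgroup G))
      rw [Nat.card_eq_fintype_card, Fintype.card_perm, ← Nat.card_eq_fintype_card, h3]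
      rfl
    rwa [h2] at h1
  have hcases : (Subgroup.centralizer (P : Set G)).relIndex (Subgroup.normalizer (P : Set G)) = 1 ∨
      (Subgroup.centralizer (P : Set G)).relIndex (Subgroup.normalizer (P : Set G)) = 3 := by
    have hrel : (Subgroup.centralizer (P : Set G)).relIndex (Subgroup.normalizer (P : Set G)) =
        Nat.card (conjPerm (P : Subgroup G)).range := hidx
    have hodd : Odd (Nat.card (conjPerm (P : Subgroup G)).range) := by
      rw [← hrel]
      exact hodd
    rw [hrel]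
    have h6 : Nat.card (conjPerm (P : Subgroup G)).range ∈ Nat.divisors 6 :=
      Nat.mem_divisors.mpr ⟨hdvd, by norm_num⟩
    have hd : Nat.divisors 6 = {1, 2, 3, 6} := by decide
    rw [hd] at h6
    simp only [Finset.mem_insert, Finset.mem_singleton] at h6
    rcases h6 with h | h | h | h
    · exact Or.inl h
    · rw [h] at hodd; exact absurd hodd (by decide)
    · exact Or.inr h
    · rw [h] at hodd; exact absurd hodd (by decide)
  refine ⟨hcases, fun hne z hz hz1 => ?_⟩
  have hi3 := hcases.resolve_left hne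
  apply le_antisymm
  · rintro g ⟨hgz, hgN⟩
    obtain ⟨t, k, htk⟩ := exists_inv_pow P z hz hz1
    have hcube := perm_cube P m hm e hi3 ⟨g, hgN⟩
    have hfix : conjPerm (P : Subgroup G) ⟨g, hgN⟩ t = t := by
      apply Subtype.ext
      rw [conjPerm_apply, htk]
      have h1 : z * g = g * z := Subgroup.mem_centralizer_iff.mp hgz z rfl
      have h2 : g * z * g⁻¹ = z := by rw [← h1]; simp
      change g * z ^ k * g⁻¹ = z ^ k
      rw [← conj_pow, h2]
    have h1 := perm_three_aux h3 _ hcube t hfix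
    have h2 : (⟨g, hgN⟩ : Subgroup.normalizer ((P : Subgroup G) : Set G)) ∈ (conjPerm (P : Subgroup G)).ker :=
      h1
    rw [hker, Subgroup.mem_subgroupOf] at h2
    exact h2
  · refine le_inf ?_ (Subgroup.centralizer_le_normalizer _)
    intro g hg
    rw [Subgroup.mem_centralizer_iff]
    rintro y rfl
    exact Subgroup.mem_centralizer_iff.mp hg y hz

end Cfsg.Agent.S0945
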