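import Mathlib
import Cfsg.Statements.S0949
import Cfsg.Agent.S0945
import Cfsg.Agent.Lib.FrobThreeD
import Cfsg.Agent.Lib.BlockVal

set_option autoImplicit false
set_option linter.unusedSectionVars false
set_option linter.unusedVariables false
set_option linter.style.haveILetI false
open Cfsg

namespace Cfsg.Agent.S0949

open Cfsg.Agent.Lib Cfsg.Agent.Lib.FrobBlock Cfsg.Agent.Lib.FrobThree Cfsg.Agent.Lib.FrobThreeA
open Cfsg.Agent.Lib.FrobThreeB Cfsg.Agent.Lib.FrobThreeC Cfsg.Agent.Lib.FrobThreeD
open Cfsg.Agent.Lib.CharBasic Subgroup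

universe u

theorem not_sq {N d B : ℤ} (hB : 0 ≤ B) (h1 : B * B < N) (h2 : N < (B + 1) * (B + 1)) : d * d ≠ N := by
  intro h3
  have h4 : |d| * |d| = N := by rw [abs_mul_abs_self, h3]
  have h5 : 0 ≤ |d| := abs_nonneg d
  rcases le_or_gt |d| B with h6 | h6
  · have : |d| * |d| ≤ B * B := by nlinarith
    linarith
  · have h7 : B + 1 ≤ |d| := h6
    have : (B + 1) * (B + 1) ≤ |d| * |d| := by nlinarith
    linarith

/-- The diophantine core: odd solutions of `(1+U+V)(UV+U+V) = 9UV` are `U = V = 1`. -/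
theorem arith_odd {U V : ℤ} (hU : Odd U) (hV : Odd V)
    (h : (1 + U + V) * (U * V + U + V) = 9 * (U * V)) : U = 1 ∧ V = 1 := by
  obtain ⟨a, rfl⟩ := hU
  obtain ⟨b, rfl⟩ := hV
  -- with `c = a + b`: `a b (c - 3) = - c²`
  have key : a * b * (a + b - 3) = -(a + b) ^ 2 := by
    have h1 : 8 * (a * b * (a + b - 3)) = 8 * (-(a + b) ^ 2) := by
      linear_combination h
    linarith
  have hdisc : (a - b) * (a - b) = (a + b) ^ 2 - 4 * (a * b) := by ring
  obtain ⟨c, hc⟩ : ∃ c, c = a + b := ⟨_, rfl⟩
  obtain ⟨k, hk⟩ : ∃ k, k = a * b := ⟨_, rfl⟩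
  obtain ⟨d, hd⟩ : ∃ d, d = a - b := ⟨_, rfl⟩
  rw [← hc, ← hk] at key hdisc
  rw [← hd] at hdisc
  have hdvd : (c - 3) ∣ 9 := by
    have h2 : (c - 3) ∣ c ^ 2 := ⟨-k, by linear_combination key⟩
    have h3 : (c - 3) ∣ (c - 3) * (c + 3) := dvd_mul_right _ _
    have h4 : (c - 3) ∣ c ^ 2 - (c - 3) * (c + 3) := dvd_sub h2 h3
    have h5 : c ^ 2 - (c - 3) * (c + 3) = 9 := by ring
    rwa [h5] at h4
  have hb : c - 3 ≤ 9 := Int.le_of_dvd (by norm_num) hdvd
  have hb' : -(c - 3) ≤ 9 := Int.le_of_dvd (by norm_num) ((neg_dvd).2 hdvd)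
  have hc1 : -6 ≤ c := by linarith
  have hc2 : c ≤ 12 := by linarith
  have hcases : c = -6 ∨ c = 0 ∨ c = 2 ∨ c = 4 ∨ c = 6 ∨ c = 12 := by
    obtain ⟨w, hw⟩ := hdvd
    interval_cases c <;> omega
  have hc0 : c = 0 := by
    rcases hcases with rfl | rfl | rfl | rfl | rfl | rfl
    · -- c = -6
      have hk4 : k = 4 := by linarith
      subst hk4
      exact absurd hdisc (not_sq (B := 4) (by norm_num) (by norm_num) (by norm_num))
    · rfl
    · -- c = 2
      have hk4 : k = 4 := by linarith
      subst hk4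
      nlinarith [mul_self_nonneg d]
    · -- c = 4
      have hk4 : k = -16 := by linarith
      subst hk4
      exact absurd hdisc (not_sq (B := 8) (by norm_num) (by norm_num) (by norm_num))
    · -- c = 6
      have hk4 : k = -12 := by linarith
      subst hk4
      exact absurd hdisc (not_sq (B := 9) (by norm_num) (by norm_num) (by norm_num))
    · -- c = 12
      have hk4 : k = -16 := by linarith
      subst hk4
      exact absurd hdisc (not_sq (B := 14) (by norm_num) (by norm_num) (by norm_num))
  subst hc0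
  have hk0 : k = 0 := by linarith
  subst hk0
  have hd0 : d = 0 := by
    have : d * d = 0 := by linarith
    exact mul_self_eq_zero.mp this
  subst hd0
  clear hdvd hb hb'
  constructor <;> omega

/-- A `2`-element centralizing a Sylow subgroup lies in it. -/
theorem mem_sylow_of_centralizer {G : Type*} [Group G] [Finite G] (P : Sylow 2 G) {x : G}
    (hx : x ∈ centralizer ((P : Subgroup G) : Set G)) (hk : ∃ k : ℕ, orderOf x = 2 ^ k) :
    x ∈ (P : Subgroup G) := by
  obtain ⟨k, hk⟩ := hk
  have hp : IsPGroup 2 (zpowers x) := by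
    apply IsPGroup.of_card (n := k)
    rw [Nat.card_zpowers, hk]
  have h1 := hp.inf_normalizer_sylow P
  have hxN : x ∈ normalizer ((P : Subgroup G) : Set G) := by
    rw [mem_normalizer_iff]
    intro h
    have hc : ∀ a ∈ (P : Subgroup G), a * x = x * a := fun a ha => mem_centralizer_iff.1 hx a ha
    constructor
    · intro hh
      have : x * h * x⁻¹ = h := by rw [← hc h hh]; group
      rwa [this]
    · intro hh
      have h2 := hc _ hh
      have : x * h * x⁻¹ = h := by
        have h3 : x * h * x⁻¹ * x = x * (x * h * x⁻¹) := h2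
        have h4 : x * h = x * (x * h * x⁻¹) := by
          calc x * h = x * h * x⁻¹ * x := by group
            _ = _ := h3
        exact (mul_left_cancel h4).symm
      rwa [this] at hh
  have h2 : x ∈ zpowers x ⊓ normalizer ((P : Subgroup G) : Set G) := ⟨mem_zpowers x, hxN⟩
  have h3 : x ∈ zpowers x ⊓ (P : Subgroup G) := by
    rw [← h1]
    exact h2
  exact h3.2

section Final

variable {G : Type*} [Group G] [Finite G] (P : Sylow 2 G)

/-- A normal subgroup over `P` with `K ∩ N(P) ≤ C(P)` and no odd normal subgroup is `P`. -/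
theorem eq_of_normalizer_le (hO : ∀ N : Subgroup G, N.Normal → Odd (Nat.card N) → N = ⊥)
    (K : Subgroup G) [hKn : K.Normal] (hPK : (P : Subgroup G) ≤ K)
    (hNC : K ⊓ normalizer ((P : Subgroup G) : Set G) ≤ centralizer ((P : Subgroup G) : Set G)) :
    K = (P : Subgroup G) := by
  classical
  let S : Sylow 2 K := P.subtype hPK
  have hS : (S : Subgroup K) = (P : Subgroup G).subgroupOf K := P.coe_subtype hPK
  have hN : normalizer ((S : Subgroup K) : Set K) ≤ centralizer ((S : Subgroup K) : Set K) := by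
    intro x hx
    rw [mem_centralizer_iff]
    intro s hs
    have hsP : (s : G) ∈ (P : Subgroup G) := by
      have : s ∈ (P : Subgroup G).subgroupOf K := by rw [← hS]; exact hs
      exact this
    have hxN : (x : G) ∈ normalizer ((P : Subgroup G) : Set G) := by
      rw [mem_normalizer_iff]
      intro g
      have hx' := mem_normalizer_iff.1 hx
      constructor
      · intro hg
        have h1 := (hx' ⟨g, hPK hg⟩).1 (by
          rw [hS]; exact hg)
        rw [hS] at h1
        exact h1
      · intro hg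
        have hgH : g ∈ K := by
          have h2 := hPK hg
          have h3 : (x : G)⁻¹ * ((x : G) * g * (x : G)⁻¹) * x ∈ K :=
            K.mul_mem (K.mul_mem (K.inv_mem x.2) h2) x.2
          have h4 : (x : G)⁻¹ * ((x : G) * g * (x : G)⁻¹) * x = g := by group
          rwa [h4] at h3
        have h1 := (hx' ⟨g, hgH⟩).2 (by
          rw [hS]; exact hg)
        rw [hS] at h1
        exact h1
    have hxC : (x : G) ∈ centralizer ((P : Subgroup G) : Set G) := hNC ⟨x.2, hxN⟩
    apply Subtype.ext
    exact (mem_centralizer_iff.1 hxC) s hsP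
  have hcomp := MonoidHom.ker_transferSylow_isComplement' S hN
  have hnd := MonoidHom.not_dvd_card_ker_transferSylow S hN
  set Q : Subgroup K := (MonoidHom.transferSylow S hN).ker with hQ
  haveI hQn : Q.Normal := MonoidHom.normal_ker _
  obtain ⟨n, hn⟩ := P.isPGroup'.exists_card_eq
  have hcardS : Nat.card (S : Subgroup K) = Nat.card (P : Subgroup G) := by
    rw [hS]
    exact Nat.card_congr (Subgroup.subgroupOfEquivOfLe hPK).toEquiv
  have hidx : Q.index = 2 ^ n := by
    rw [hcomp.symm.index_eq_card, hcardS, hn]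
  -- odd order elements of `K` lie in `Q`
  have hodd : ∀ y : K, ¬ 2 ∣ orderOf y → y ∈ Q := by
    intro y hy
    have h1 : (orderOf y).Coprime 2 := ((Nat.Prime.coprime_iff_not_dvd Nat.prime_two).mpr hy).symm
    rw [← QuotientGroup.eq_one_iff]
    have hcard : Nat.card (K ⧸ Q) = 2 ^ n := by rw [← hidx]; rfl
    have h2 : orderOf (y : K ⧸ Q) ∣ 2 ^ n := by
      rw [← hcard]; exact orderOf_dvd_natCard _
    have h3 : orderOf (y : K ⧸ Q) ∣ orderOf y := orderOf_map_dvd (QuotientGroup.mk' Q) y
    have h4 : orderOf (y : K ⧸ Q) = 1 := Nat.eq_one_of_dvd_coprimes (Nat.Coprime.pow_right n h1) h3 h2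
    exact orderOf_eq_one_iff.mp h4
  -- the image of `Q` is normal in `G`
  have hnormal : (Q.map K.subtype).Normal := by
    constructor
    rintro _ ⟨x, hx, rfl⟩ g
    have hgK : g * (x : G) * g⁻¹ ∈ K := hKn.conj_mem _ x.2 g
    refine ⟨⟨_, hgK⟩, ?_, rfl⟩
    apply hodd
    have hord : orderOf (⟨g * (x : G) * g⁻¹, hgK⟩ : K) = orderOf x := by
      have hord' : orderOf (g * (x : G) * g⁻¹) = orderOf (x : G) := by
        simpa [MulAut.conj_apply] using (MulEquiv.orderOf_eq (MulAut.conj g) (x : G))
      rw [Subgroup.orderOf_mk, hord', Subgroup.orderOf_coe]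
    rw [hord]
    intro h2
    exact hnd (h2.trans (orderOf_dvd_natCard (⟨x, hx⟩ : Q) |> fun h => by
      rwa [Subgroup.orderOf_mk] at h))
  have hbot := hO _ hnormal (by
    rw [Subgroup.card_map_of_injective K.subtype_injective]
    exact Nat.not_even_iff_odd.mp (fun h => hnd h.two_dvd))
  have hQbot : Q = ⊥ := by
    rw [Subgroup.map_eq_bot_iff_of_injective _ K.subtype_injective] at hbot
    exact hbot
  have hcardK : Nat.card K = 2 ^ n := by
    rw [← hidx, hQbot, Subgroup.index_bot]
  symm
  apply Subgroup.eq_of_le_of_card_ge hPK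
  rw [hcardK, hn]

end Final

theorem result {G : Type*} [Group G] [Finite G] (P : Sylow 2 G) (m : ℕ) (hm : 2 ≤ m) (e : (P : Subgroup G) ≃* Multiplicative (ZMod (2 ^ m) × ZMod (2 ^ m))) (hO : ∀ N : Subgroup G, N.Normal → Odd (Nat.card N) → N = ⊥) : (P : Subgroup G).Normal ∧ Subgroup.centralizer (P : Set G) = (P : Subgroup G) ∧ ((P : Subgroup G).index = 1 ∨ (P : Subgroup G).index = 3) := by
  classical
  letI : Fintype G := Fintype.ofFinite G
  have hcommA : ∀ a b : (P : Subgroup G), a * b = b * a := by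
    intro a b
    apply e.injective
    rw [map_mul, map_mul, mul_comm]
  have hcomm : ∀ a ∈ (P : Subgroup G), ∀ b ∈ (P : Subgroup G), a * b = b * a := fun a ha b hb =>
    congrArg Subtype.val (hcommA ⟨a, ha⟩ ⟨b, hb⟩)
  have hPC : (P : Subgroup G) ≤ centralizer ((P : Subgroup G) : Set G) := by
    intro x hx
    rw [mem_centralizer_iff]
    intro a ha
    exact hcomm a ha x hx
  obtain ⟨hidx13, hfr⟩ := Cfsg.Agent.S0945.result P m (by omega) e
  rcases hidx13 with h1 | h3
  · -- `N(P) = C(P)`: normal complement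
    have hle : normalizer ((P : Subgroup G) : Set G) ≤ centralizer ((P : Subgroup G) : Set G) :=
      Subgroup.relIndex_eq_one.mp h1
    have hnd := MonoidHom.not_dvd_card_ker_transferSylow P hle
    have hcmp := MonoidHom.ker_transferSylow_isComplement' P hle
    have hbot := hO (MonoidHom.transferSylow P hle).ker (MonoidHom.normal_ker _)
      (Nat.not_even_iff_odd.mp (fun h => hnd h.two_dvd))
    rw [hbot] at hcmp
    have htop : (P : Subgroup G) = ⊤ := Subgroup.isComplement'_bot_left.mp hcmp
    refine ⟨by rw [htop]; infer_instance, le_antisymm ?_ hPC, Or.inl (by rw [htop]; exact Subgroup.index_top)⟩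
    rw [htop]
    exact le_top
  -- the main case
  have hfrob := hfr (by rw [h3]; norm_num)
  have h3' : (centralizer ((P : Subgroup G) : Set G)).relIndex (normalizer ((P : Subgroup G) : Set G)) = 3 := h3
  have H : Hyp P := ⟨hcomm, hfrob⟩
  letI : Fintype (P : Subgroup G) := Fintype.ofFinite _
  letI : Fintype (normalizer ((P : Subgroup G) : Set G)) := Fintype.ofFinite _
  haveI : Finite (↥(P : Subgroup G) →* ℂˣ) := finite_dual H.commA
  letI : Fintype (↥(P : Subgroup G) →* ℂˣ) := Fintype.ofFinite _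
  have hidx : ((centralizer ((P : Subgroup G) : Set G)).subgroupOf
      (normalizer ((P : Subgroup G) : Set G))).index = 3 := h3
  have hN : Nat.card (normalizer ((P : Subgroup G) : Set G)) =
      3 * Nat.card (centralizer ((P : Subgroup G) : Set G)) := by
    have h1 := ((centralizer ((P : Subgroup G) : Set G)).subgroupOf
      (normalizer ((P : Subgroup G) : Set G))).card_mul_index
    rw [card_sub_eq, hidx] at h1
    rw [← h1, mul_comm]
  -- the order of `P`
  obtain ⟨m', rfl⟩ : ∃ m', m = m' + 2 := ⟨m - 2, by omega⟩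
  have hcardP : Nat.card (P : Subgroup G) = 2 ^ (m' + 2) * 2 ^ (m' + 2) := by
    rw [Nat.card_congr e.toEquiv, Nat.card_congr Multiplicative.toAdd, Nat.card_prod, Nat.card_zmod]
  have hL16 : 16 ≤ Nat.card (P : Subgroup G) := by
    rw [hcardP]
    have h2 : 4 ≤ 2 ^ (m' + 2) := by
      rw [pow_add]
      have : 1 ≤ 2 ^ m' := Nat.one_le_two_pow
      omega
    nlinarith
  have hm2 : 3 + 1 < Nat.card (P : Subgroup G) := by omega
  obtain ⟨M, hM⟩ := BlockVal.exists_isPModular Nat.prime_two
  obtain ⟨Xf, Yf, a, δ, ζ, r, hr, hU, hD, hXc, hYc, h1X, ha1, hδ, hXs, hvX, hζY, hYζ, hiff, hvY, hagree, hlin⟩ :=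
    Cfsg.Agent.Lib.FrobThree.main3 (M := M) H hM hN hm2
  have D : Dat M P Xf Yf a δ ζ r :=
    ⟨hr, hU, hD, hXc, hYc, h1X, ha1, hδ, hXs, hvX, hζY, hYζ, hiff, hvY, hagree, hlin⟩
  -- an involution and an element of order at least four in `P`
  set t : (P : Subgroup G) := e.symm (Multiplicative.ofAdd (((2 ^ (m' + 1) : ℕ) : ZMod (2 ^ (m' + 2))), 0)) with ht_def
  set y : (P : Subgroup G) := e.symm (Multiplicative.ofAdd ((1 : ZMod (2 ^ (m' + 2))), 0)) with hy_def
  have hhalf : ((2 ^ (m' + 1) : ℕ) : ZMod (2 ^ (m' + 2))) ≠ 0 := Cfsg.Agent.S0945.zmod_half_ne_zero (m' + 1)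
  have hhalf2 := Cfsg.Agent.S0945.zmod_half_add (m' + 1)
  have ht : t ≠ 1 := by
    intro h
    have h2 := congrArg e h
    rw [ht_def, MulEquiv.apply_symm_apply, map_one] at h2
    have h3 := congrArg (fun x => (Multiplicative.toAdd x).1) h2
    exact hhalf h3
  have htt : (t : G) * t = 1 := by
    have : t * t = 1 := by
      apply e.injective
      rw [map_mul, map_one, ht_def, MulEquiv.apply_symm_apply]
      apply Multiplicative.toAdd.injective
      ext
      · exact hhalf2
      · simp
    exact congrArg Subtype.val this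
  have hyy : (y : G) * y ≠ 1 := by
    intro h
    have h1 : y * y = 1 := Subtype.ext h
    have h2 := congrArg e h1
    rw [map_mul, map_one, hy_def, MulEquiv.apply_symm_apply] at h2
    have h3 : (1 : ZMod (2 ^ (m' + 2))) + 1 = 0 := congrArg (fun x => (Multiplicative.toAdd x).1) h2
    have h4 : ((2 : ℕ) : ZMod (2 ^ (m' + 2))) = 0 := by
      push_cast
      rw [← h3]
      norm_num
    rw [ZMod.natCast_eq_zero_iff] at h4
    have h5 := Nat.le_of_dvd (by norm_num) h4
    have h6 : 1 ≤ 2 ^ m' := Nat.one_le_two_pow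
    rw [pow_add] at h5
    omega
  obtain ⟨u, v, hu, hv, huv, hX⟩ := D.exists_uv
  have hr0 : 0 < r := by
    have := D.hr
    omega
  have hYne : Yf.Nonempty := by
    rw [← Finset.card_pos, D.hYc]
    exact hr0
  obtain ⟨η, hη⟩ := hYne
  have hstar := star_case_A H hM hidx hN D ht htt hyy hu hv huv hX hη
  set L : ℤ := ((Nat.card (P : Subgroup G) : ℕ) : ℤ) with hL
  have hLeven : (2 : ℤ) ∣ L := by
    rw [hL, hcardP]
    push_cast
    exact ⟨2 ^ (m' + 1) * 2 ^ (m' + 2), by ring⟩
  have hu1 : u ∈ Xf := by rw [hX]; simp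
  have hv1 : v ∈ Xf := by rw [hX]; simp
  have ha2 : ∀ χ ∈ Xf, a χ * a χ = 1 := by
    intro χ hχ
    rcases D.hXs χ hχ with h | h <;> rw [h] <;> norm_num
  -- the numbers `U`, `V`
  have hodd : ∀ χ ∈ Xf, Odd (a χ * (charDegree (χ : G → ℂ) : ℤ)) := by
    intro χ hχ
    obtain ⟨k, hk⟩ := deg_cong D hχ
    obtain ⟨c, hc⟩ := hLeven
    rw [← hL, hc] at hk
    have h1 : a χ * (charDegree (χ : G → ℂ) : ℤ) = 2 * (c * k * a χ - c) + 1 := by
      linear_combination a χ * hk - (2 * c - 1) * ha2 χ hχ
    exact ⟨_, h1⟩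
  have hd : 0 < (charDegree (η : G → ℂ) : ℤ) := by exact_mod_cast CharKernel.charDegree_pos η.2
  have hun := CharKernel.one_eq_charDegree (IsIrrCharacter.isCharacter u.2)
  have hvn := CharKernel.one_eq_charDegree (IsIrrCharacter.isCharacter v.2)
  have hηn := CharKernel.one_eq_charDegree (IsIrrCharacter.isCharacter η.2)
  -- the linear relation at the identity
  have hlin1 := D.hlin η hη 1 (by simp)
  rw [D.sum_X hu hv huv hX, D.ha1, hun, hvn, hηn] at hlin1
  have h1e : ((BlockNormal.irrOne G : IrrCharacter G) : G → ℂ) 1 = 1 := rfl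
  rw [h1e] at hlin1
  set du : ℤ := (charDegree (u : G → ℂ) : ℤ) with hdu
  set dv : ℤ := (charDegree (v : G → ℂ) : ℤ) with hdv
  set dη : ℤ := (charDegree (η : G → ℂ) : ℤ) with hdη
  have hlinZ : δ * dη = 1 + a u * du + a v * dv := by
    have h2 : ((-δ * dη + (1 + (a u * du + a v * dv)) : ℤ) : ℂ) = 0 := by
      rw [hdu, hdv, hdη]
      push_cast
      push_cast at hlin1
      linear_combination hlin1
    have h3 : -δ * dη + (1 + (a u * du + a v * dv)) = 0 := by
      exact_mod_cast h2
    linear_combination -h3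
  have hZ : dη * (du * dv + a u * dv + a v * du) = 9 * δ * (du * dv) := by
    rw [hun, hvn, hηn] at hstar
    have hu0 : (charDegree (u : G → ℂ) : ℂ) ≠ 0 := by exact_mod_cast (CharKernel.charDegree_pos u.2).ne'
    have hv0 : (charDegree (v : G → ℂ) : ℂ) ≠ 0 := by exact_mod_cast (CharKernel.charDegree_pos v.2).ne'
    have hη0 : (charDegree (η : G → ℂ) : ℂ) ≠ 0 := by exact_mod_cast (CharKernel.charDegree_pos η.2).ne'
    field_simp at hstar
    have h2 : ((dη * (du * dv + a u * dv + a v * du) : ℤ) : ℂ) = ((9 * δ * (du * dv) : ℤ) : ℂ) := by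
      rw [hdu, hdv, hdη]
      push_cast
      linear_combination hstar
    exact_mod_cast h2
  have hδ2 : δ * δ = 1 := by
    rcases D.hδ with h | h <;> rw [h] <;> norm_num
  have hau2 := ha2 u hu1
  have hav2 := ha2 v hv1
  have harith : (1 + a u * du + a v * dv) * ((a u * du) * (a v * dv) + a u * du + a v * dv) =
      9 * ((a u * du) * (a v * dv)) := by
    rw [← hlinZ]
    have h3 : δ * a u * a v * (dη * (du * dv + a u * dv + a v * du)) = δ * a u * a v * (9 * δ * (du * dv)) := by
      rw [hZ]
    have e1 : a u * a v * (du * dv + a u * dv + a v * du) =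
        (a u * du) * (a v * dv) + (a u * a u) * a v * dv + (a v * a v) * a u * du := by ring
    rw [hau2, hav2] at e1
    calc δ * dη * (a u * du * (a v * dv) + a u * du + a v * dv)
        = δ * a u * a v * (dη * (du * dv + a u * dv + a v * du)) := by
          linear_combination (-(δ * dη)) * e1
      _ = (δ * δ) * (9 * (a u * du * (a v * dv))) := by rw [h3]; ring
      _ = _ := by rw [hδ2, one_mul]
  obtain ⟨hU1, -⟩ := arith_odd (hodd u hu1) (hodd v hv1) harith
  have hdu0 : 0 < du := by
    rw [hdu]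
    exact_mod_cast CharKernel.charDegree_pos u.2
  have hau : a u = 1 := by
    rcases D.hXs u hu1 with h | h
    · exact h
    · rw [h] at hU1
      omega
  have hdu1 : du = 1 := by
    rw [hau] at hU1
    linarith
  have hun1 : (u : G → ℂ) 1 = 1 := by
    rw [hun]
    have : charDegree (u : G → ℂ) = 1 := by
      have h2 : ((charDegree (u : G → ℂ) : ℕ) : ℤ) = 1 := hdu1
      exact_mod_cast h2
    rw [this]
    simp
  have huP : ∀ x : (P : Subgroup G), x ≠ 1 → (u : G → ℂ) x = 1 := by
    intro x hx
    rw [D.hvX u hu1 x hx, hau]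
    simp
  have huB : u ∈ principalBlock M G := by
    rw [← SingConst.mem_B₀, ← D.hU]
    exact Finset.mem_union_left _ hu1
  -- the kernel of `u`
  have hχ := IsIrrCharacter.isCharacter u.2
  set K := CharKernel.charKer hχ with hK
  have hKmem : ∀ g : G, g ∈ K ↔ (u : G → ℂ) g = 1 := by
    intro g
    rw [hK, CharKernel.mem_charKer hχ, hun1]
  have hPK : (P : Subgroup G) ≤ K := by
    intro x hx
    by_cases hx1 : x = 1
    · rw [hx1]; exact K.one_mem
    · rw [hKmem]
      exact huP ⟨x, hx⟩ (fun h => hx1 (congrArg Subtype.val h))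
  have hKtop : K ≠ ⊤ := by
    intro h
    apply hu
    apply Subtype.ext
    funext g
    have : g ∈ K := by rw [h]; trivial
    rw [(hKmem g).1 this]
    rfl
  have hCK : centralizer ((P : Subgroup G) : Set G) ≤ K := by
    intro c hc
    obtain ⟨x, hx⟩ := BlkOrth.exists_isPPart Nat.prime_two c
    obtain ⟨N, hNx⟩ := BlkOrth.pPart_exists_pow Nat.prime_two hx
    have hxC : x ∈ centralizer ((P : Subgroup G) : Set G) := by
      rw [← hNx]
      exact pow_mem hc N
    obtain ⟨w, hxw, hcomm', hk, hw⟩ := hx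
    have hxP := mem_sylow_of_centralizer P hxC hk
    by_cases hx1 : x = 1
    · -- `c` has odd order
      have hcw : w = c := by rw [← hxw, hx1, one_mul]
      subst hcw
      have htc : IsPPart 2 ((t : G) * w) (t : G) :=
        ⟨w, rfl, (mem_centralizer_iff.1 hc t t.2), H.pelt t.2, hw⟩
      have ht1 : (t : G) ≠ 1 := fun h => ht (Subtype.ext h)
      have h2 := H.value_eq hM huB htc t.2 ht1
      have h3 : (t : G) * w ∈ K := by
        rw [hKmem, h2]
        exact huP t ht
      have h4 : (t : G) ∈ K := hPK t.2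
      have h5 := K.mul_mem (K.inv_mem h4) h3
      rwa [inv_mul_cancel_left] at h5
    · have hcx : IsPPart 2 c x := ⟨w, hxw, hcomm', hk, hw⟩
      have h2 := H.value_eq hM huB hcx hxP hx1
      rw [hKmem, h2]
      exact huP ⟨x, hxP⟩ (fun h => hx1 (congrArg Subtype.val h))
  have hNC : K ⊓ normalizer ((P : Subgroup G) : Set G) ≤ centralizer ((P : Subgroup G) : Set G) := by
    have hC1 : centralizer ((P : Subgroup G) : Set G) ≤ K ⊓ normalizer ((P : Subgroup G) : Set G) := by
      refine le_inf hCK ?_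
      intro c hc
      rw [mem_normalizer_iff]
      intro h
      have h5 : ∀ a ∈ (P : Subgroup G), a * c = c * a := fun a ha => mem_centralizer_iff.1 hc a ha
      constructor
      · intro hh
        have : c * h * c⁻¹ = h := by rw [← h5 h hh]; group
        rwa [this]
      · intro hh
        have h6 := h5 _ hh
        have : c * h * c⁻¹ = h := by
          have h7 : c * h = c * (c * h * c⁻¹) := by
            calc c * h = c * h * c⁻¹ * c := by group
              _ = _ := h6
          exact (mul_left_cancel h7).symm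
        rwa [this] at hh
    have hprod := Subgroup.relIndex_mul_relIndex _ _ _ hC1 (inf_le_right : K ⊓ normalizer ((P : Subgroup G) : Set G) ≤ _)
    rw [h3'] at hprod
    have hdvd : (centralizer ((P : Subgroup G) : Set G)).relIndex (K ⊓ normalizer ((P : Subgroup G) : Set G)) ∣ 3 :=
      ⟨_, hprod.symm⟩
    rcases (Nat.dvd_prime Nat.prime_three).mp hdvd with h5 | h5
    · exact Subgroup.relIndex_eq_one.mp h5
    · exfalso
      rw [h5] at hprod
      have h6 : (K ⊓ normalizer ((P : Subgroup G) : Set G)).relIndex (normalizer ((P : Subgroup G) : Set G)) = 1 := by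
        omega
      have h7 := Subgroup.relIndex_eq_one.mp h6
      have h8 : normalizer ((P : Subgroup G) : Set G) ≤ K := h7.trans inf_le_left
      have h9 : normalizer ((P : Subgroup G) : Set G) ⊔ K = ⊤ := P.normalizer_sup_eq_top' hPK
      rw [sup_eq_right.mpr h8] at h9
      exact hKtop h9
  have hKP : K = (P : Subgroup G) := eq_of_normalizer_le P hO K hPK hNC
  have hnorm : (P : Subgroup G).Normal := by
    rw [← hKP]
    infer_instance
  have hCP : centralizer ((P : Subgroup G) : Set G) = (P : Subgroup G) :=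
    le_antisymm (fun x hx => by
      have := hCK hx
      rwa [hKP] at this) hPC
  refine ⟨hnorm, hCP, Or.inr ?_⟩
  have h5 : normalizer ((P : Subgroup G) : Set G) = ⊤ := Subgroup.normalizer_eq_top_iff.mpr hnorm
  rw [h5, Subgroup.relIndex_top_right, hCP] at h3'
  exact h3'

end Cfsg.Agent.S0949
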