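import Mathlib
import Cfsg.Agent.Lib.SL23Sec
import Cfsg.Agent.Lib.PComplement
import Cfsg.Agent.Lib.TransferEval
import Cfsg.Statements.S0106

set_option autoImplicit false
open Cfsg

namespace Cfsg.Agent.S0106

open Subgroup

/-- an element of odd order normalizing a cyclic `2`-group centralizes it -/
theorem conj_eq_of_mem_zpowers {G : Type*} [Group G] [Finite G] {c x : G}
    (hc : ∃ k : ℕ, orderOf c = 2 ^ k) {m : ℕ} (hm : Odd m) (hx : x ^ m = 1)
    (h : x * c * x⁻¹ ∈ zpowers c) : x * c * x⁻¹ = c := by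
  classical
  have hnorm : x ∈ normalizer ((zpowers c : Subgroup G) : Set G) := by
    apply Cfsg.Agent.Lib.ExtraGlue.mem_normalizer_of_forall'
    rintro u ⟨k, rfl⟩
    show x * c ^ k * x⁻¹ ∈ zpowers c
    rw [← conj_zpow]
    exact zpow_mem h k
  let σ : MulAut (zpowers c) := (zpowers c).normalizerMonoidHom ⟨x, hnorm⟩
  have hσm : σ ^ m = 1 := by
    show ((zpowers c).normalizerMonoidHom ⟨x, hnorm⟩) ^ m = 1
    rw [← map_pow]
    have : (⟨x, hnorm⟩ : normalizer ((zpowers c : Subgroup G) : Set G)) ^ m = 1 := Subtype.ext hx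
    rw [this, map_one]
  have h1 : orderOf σ ∣ m := orderOf_dvd_of_pow_eq_one hσm
  have h2 : orderOf σ ∣ Nat.totient (orderOf c) := by
    have : Nat.card (MulAut (zpowers c)) = Nat.totient (orderOf c) := by
      rw [IsCyclic.card_mulAut, Nat.card_zpowers]
    rw [← this]
    exact orderOf_dvd_natCard σ
  obtain ⟨k, hk⟩ := hc
  have h3 : orderOf σ = 1 := by
    rcases Nat.eq_zero_or_pos k with rfl | hk0
    · rw [hk, pow_zero, Nat.totient_one] at h2
      exact Nat.dvd_one.1 h2
    · rw [hk, Nat.totient_prime_pow Nat.prime_two hk0] at h2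
      simp only [show (2 - 1 : ℕ) = 1 from rfl, mul_one] at h2
      have h4 : Nat.Coprime (orderOf σ) (2 ^ (k - 1)) :=
        Nat.Coprime.pow_right _ (Nat.coprime_two_right.2 (hm.of_dvd_nat h1))
      exact h4.eq_one_of_dvd h2
  have h4 : σ = 1 := orderOf_eq_one_iff.1 h3
  have h5 : σ ⟨c, mem_zpowers c⟩ = ⟨c, mem_zpowers c⟩ := by rw [h4]; rfl
  exact congrArg Subtype.val h5

/-- in a cyclic group, divisibility of orders is inclusion of generated subgroups -/
theorem mem_zpowers_of_orderOf_dvd {G : Type*} [Group G] [Finite G] (a u v : G)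
    (hu : u ∈ zpowers a) (hv : v ∈ zpowers a) (h : orderOf u ∣ orderOf v) : u ∈ zpowers v := by
  classical
  haveI : Fintype (zpowers a) := Fintype.ofFinite _
  let u' : zpowers a := ⟨u, hu⟩
  let v' : zpowers a := ⟨v, hv⟩
  have hou : orderOf u' = orderOf u := Subgroup.orderOf_mk u hu
  have hov : orderOf v' = orderOf v := Subgroup.orderOf_mk v hv
  have hd : 0 < orderOf v' := orderOf_pos v'
  have hle := IsCyclic.card_pow_eq_one_le (α := zpowers a) (n := orderOf v') hd
  let Z : Set (zpowers a) := (zpowers v' : Subgroup (zpowers a))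
  let Y : Set (zpowers a) := {w | w ^ orderOf v' = 1}
  have hZY : Z ⊆ Y := by
    rintro _ ⟨k, rfl⟩
    show (v' ^ k) ^ orderOf v' = 1
    rw [← zpow_natCast, ← zpow_mul, mul_comm, zpow_mul, zpow_natCast, pow_orderOf_eq_one, one_zpow]
  have hcY : Y.ncard ≤ orderOf v' := by
    have : Y = ↑(Finset.univ.filter (fun w : zpowers a => w ^ orderOf v' = 1)) := by
      ext w
      simp [Y]
    rw [this, Set.ncard_coe_finset]
    exact hle
  have hcZ : Z.ncard = orderOf v' := by
    have : Nat.card (zpowers v') = orderOf v' := Nat.card_zpowers v'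
    rw [← this]
    rfl
  have hEq : Z = Y := Set.eq_of_subset_of_ncard_le hZY (by omega) (Set.toFinite _)
  have hu' : u' ∈ Y := by
    show u' ^ orderOf v' = 1
    exact orderOf_dvd_iff_pow_eq_one.1 (by rw [hou, hov]; exact h)
  rw [← hEq] at hu'
  obtain ⟨k, hk⟩ := hu'
  refine ⟨k, ?_⟩
  have := congrArg Subtype.val hk
  simpa using this

theorem reduction {G : Type*} [Group G] [Finite G] (T : Subgroup G) (hT : IsPGroup 2 T) (a z : G)
    (haT : a ∈ T) (hzA : z ∈ zpowers a) (hz1 : z ≠ 1) (hzz : z * z = 1)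
    (hout : ∀ t ∈ T, t ∉ zpowers a → t * t = z ∧ ∀ r ∈ zpowers a, t * r * t⁻¹ = r⁻¹)
    (hprod : ∀ s ∈ T, ∀ t ∈ T, s ∉ zpowers a → t ∉ zpowers a → s * t ∈ zpowers a)
    (Q : Subgroup G) (hQ : Q ≤ T) (x : G) (hxN : x ∈ normalizer (Q : Set G))
    (hxo : Nat.Coprime (orderOf x) 2) (hxC : x ∉ centralizer (Q : Set G)) :
    ∃ (H K : Subgroup G) (hK : (K.subgroupOf H).Normal),
      Nonempty ((H ⧸ K.subgroupOf H) ≃* Matrix.SpecialLinearGroup (Fin 2) (ZMod 3)) := by
  classical
  set A : Subgroup G := zpowers a with hA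
  have hAT : A ≤ T := (zpowers_le).2 haT
  have h2 : ∀ u ∈ T, ∃ k : ℕ, orderOf u = 2 ^ k := by
    intro u hu
    obtain ⟨k, hk⟩ := hT ⟨u, hu⟩
    have h1 : u ^ 2 ^ k = 1 := congrArg Subtype.val hk
    obtain ⟨j, -, hj⟩ := (Nat.dvd_prime_pow Nat.prime_two).1 (orderOf_dvd_of_pow_eq_one h1)
    exact ⟨j, hj⟩
  have hOdd : Odd (orderOf x) := Nat.coprime_two_right.1 hxo
  have hxm : x ^ orderOf x = 1 := pow_orderOf_eq_one x
  have hord : ∀ y c : G, orderOf (y * c * y⁻¹) = orderOf c := by
    intro y c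
    exact MulEquiv.orderOf_eq (MulAut.conj y) c
  -- Claim 1
  have hC1 : ∀ (y : G) (m : ℕ), Odd m → y ^ m = 1 → ∀ c ∈ A, y * c * y⁻¹ ∈ A → y * c * y⁻¹ = c := by
    intro y m hm hy c hc hyc
    apply conj_eq_of_mem_zpowers (h2 c (hAT hc)) hm hy
    apply mem_zpowers_of_orderOf_dvd a _ _ hyc hc
    rw [hord]
  -- the involution
  have hinv : ∀ u ∈ A, u * u = 1 → u = 1 ∨ u = z := by
    intro u hu huu
    have hz2 : orderOf z = 2 := by
      haveI : Fact (Nat.Prime 2) := ⟨Nat.prime_two⟩
      exact orderOf_eq_prime (by rw [pow_two]; exact hzz) hz1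
    have hd : orderOf u ∣ orderOf z := by
      rw [hz2]
      exact orderOf_dvd_of_pow_eq_one (by rw [pow_two]; exact huu)
    obtain ⟨k, rfl⟩ := mem_zpowers_of_orderOf_dvd a u z hu hzA hd
    obtain ⟨c, hc | hc⟩ := Int.even_or_odd' k
    · left
      simp only [hc, zpow_mul, zpow_ofNat, pow_two, hzz, one_zpow]
    · right
      simp only [hc, zpow_add, zpow_mul, zpow_ofNat, pow_two, hzz, one_zpow, one_mul, pow_one, zpow_one]
  have hxQ : ∀ q ∈ Q, x * q * x⁻¹ ∈ Q := fun q hq => (mem_normalizer_iff.1 hxN q).1 hq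
  by_cases hcase : ∀ c ∈ Q, c ∈ A → x * c * x⁻¹ ∈ A
  · -- Case I: contradiction
    exfalso
    apply hxC
    rw [mem_centralizer_iff]
    have hcent : ∀ c ∈ Q, c ∈ A → x * c * x⁻¹ = c := fun c hc hc' =>
      hC1 x _ hOdd hxm c hc' (hcase c hc hc')
    intro q hq
    have hq' : x * q * x⁻¹ = q := by
      by_cases hqA : q ∈ A
      · exact hcent q hq hqA
      set q' := x * q * x⁻¹ with hq'def
      have hq'Q : q' ∈ Q := hxQ q hq
      have hq'A : q' ∉ A := by
        intro h
        apply hqA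
        have h1 := hcent q' hq'Q h
        have h2' : q' = q := by
          have h3 : x * q' * x⁻¹ = x * q * x⁻¹ := by rw [h1]
          simpa using h3
        rw [← h2']
        exact h
      have hq1 : q⁻¹ ∉ A := fun h => hqA (by simpa using inv_mem h)
      have hr : q⁻¹ * q' ∈ A := hprod _ (hQ (inv_mem hq)) _ (hQ hq'Q) hq1 hq'A
      set r := q⁻¹ * q' with hrdef
      have hrQ : r ∈ Q := mul_mem (inv_mem hq) hq'Q
      have hxr : x * r * x⁻¹ = r := hcent r hrQ hr
      have hq'r : x * q * x⁻¹ = q * r := by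
        rw [hrdef, ← hq'def]
        group
      have hpow : ∀ k : ℕ, x ^ k * q * (x ^ k)⁻¹ = q * r ^ k := by
        intro k
        induction k with
        | zero => simp
        | succ k ih =>
          have h1 : x * r ^ k * x⁻¹ = r ^ k := by rw [← conj_pow, hxr]
          calc x ^ (k + 1) * q * (x ^ (k + 1))⁻¹ = x * (x ^ k * q * (x ^ k)⁻¹) * x⁻¹ := by
                rw [pow_succ']
                group
            _ = x * (q * r ^ k) * x⁻¹ := by rw [ih]
            _ = (x * q * x⁻¹) * (x * r ^ k * x⁻¹) := by group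
            _ = (q * r) * r ^ k := by rw [hq'r, h1]
            _ = q * r ^ (k + 1) := by rw [pow_succ', mul_assoc]
      have h1 := hpow (orderOf x)
      rw [hxm] at h1
      have h3 : r ^ orderOf x = 1 := by
        simpa using h1
      obtain ⟨s, hs⟩ := h2 r (hQ hrQ)
      have h4 : orderOf r ∣ orderOf x := orderOf_dvd_of_pow_eq_one h3
      have h5 : orderOf r = 1 := by
        have hodd' : Odd (orderOf r) := hOdd.of_dvd_nat h4
        rw [hs] at hodd' ⊢
        rcases Nat.eq_zero_or_pos s with rfl | hs0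
        · simp
        · exfalso
          have : Even (2 ^ s) := (Nat.even_pow' hs0.ne').2 even_two
          exact (Nat.not_even_iff_odd.2 hodd') this
      have h6 : r = 1 := orderOf_eq_one_iff.1 h5
      calc q' = q * r := hq'r
        _ = q := by rw [h6, mul_one]
    calc q * x = (x * q * x⁻¹) * x := by rw [hq']
      _ = x * q := by group
  -- Case II
  push Not at hcase
  obtain ⟨i, hiQ, hiA, hjA⟩ := hcase
  set j := x * i * x⁻¹ with hjdef
  have hjQ : j ∈ Q := hxQ i hiQ
  have hjT : j ∈ T := hQ hjQ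
  have hiT : i ∈ T := hQ hiQ
  obtain ⟨hjj, hjr⟩ := hout j hjT hjA
  have hj1 : j * j = x * (i * i) * x⁻¹ := by
    rw [hjdef]
    group
  have hzi : (x * (i * i) * x⁻¹) * (x * (i * i) * x⁻¹) = 1 := by rw [← hj1, hjj, hzz]
  have hi4 : (i * i) * (i * i) = 1 := by
    have h1 : x * ((i * i) * (i * i)) * x⁻¹ = 1 := by
      rw [← hzi]
      group
    have h3 : (i * i) * (i * i) = x⁻¹ * (x * ((i * i) * (i * i)) * x⁻¹) * x := by group
    rw [h3, h1]
    group
  have hii : i * i = z := by
    rcases hinv (i * i) (mul_mem hiA hiA) hi4 with h | h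
    · exfalso
      apply hz1
      rw [← hjj, hj1, h]
      group
    · exact h
  have hxz : x * z * x⁻¹ = z := by
    have : x * z * x⁻¹ = j * j := by rw [hj1, hii]
    rw [this, hjj]
  have hxi_ne : x * i * x⁻¹ ≠ i := by
    intro h
    apply hjA
    rw [hjdef, h]
    exact hiA
  -- commuting with x² is commuting with x
  have hsq : x ^ 2 * i * (x ^ 2)⁻¹ ≠ i := by
    intro h
    apply hxi_ne
    obtain ⟨t, ht⟩ := hOdd
    have h1 : (x ^ 2) ^ (t + 1) = x := by
      calc (x ^ 2) ^ (t + 1) = x ^ (orderOf x + 1) := by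
            rw [← pow_mul, ht]
            congr 1
        _ = x := by rw [pow_succ, hxm, one_mul]
    have h3 : Commute (x ^ 2) i := by
      show x ^ 2 * i = i * x ^ 2
      calc x ^ 2 * i = (x ^ 2 * i * (x ^ 2)⁻¹) * x ^ 2 := by group
        _ = i * x ^ 2 := by rw [h]
    have h4 : Commute x i := by
      rw [← h1]
      exact h3.pow_left (t + 1)
    rw [h4.eq]
    group
  set w := x * j * x⁻¹ with hwdef
  have hwQ : w ∈ Q := hxQ j hjQ
  have hww : w * w = z := by
    calc w * w = x * (j * j) * x⁻¹ := by rw [hwdef]; group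
      _ = z := by rw [hjj, hxz]
  have hwA : w ∉ A := by
    intro h
    have hm2 : (x ^ 2) ^ orderOf x = 1 := by
      rw [← pow_mul, mul_comm, pow_mul, hxm, one_pow]
    have hw2 : x ^ 2 * i * (x ^ 2)⁻¹ = w := by
      rw [hwdef, hjdef]
      simp only [pow_two, mul_inv_rev, mul_assoc]
    apply hsq
    exact hC1 (x ^ 2) _ hOdd hm2 i hiA (by rw [hw2]; exact h)
  have hj1A : j⁻¹ ∉ A := fun h => hjA (by simpa using inv_mem h)
  have hrA : w * j⁻¹ ∈ A := hprod _ (hQ hwQ) _ (inv_mem hjT) hwA hj1A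
  have hrQ : w * j⁻¹ ∈ Q := mul_mem hwQ (inv_mem hjQ)
  set r := w * j⁻¹ with hrdef
  have hwr : w = r * j := by rw [hrdef]; group
  have hr4 : r ^ 4 = 1 := by
    by_contra hne
    have hxrA : x * r * x⁻¹ ∈ A := by
      by_contra h
      have h1 := (hout _ (hQ (hxQ r hrQ)) h).1
      apply hne
      have h3 : x * (r ^ 4) * x⁻¹ = 1 := by
        calc x * (r ^ 4) * x⁻¹ = (x * r * x⁻¹ * (x * r * x⁻¹)) * (x * r * x⁻¹ * (x * r * x⁻¹)) := by
              simp only [pow_succ, pow_zero, one_mul, mul_assoc, inv_mul_cancel_left]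
          _ = 1 := by rw [h1, hzz]
      have h5 : r ^ 4 = x⁻¹ * (x * (r ^ 4) * x⁻¹) * x := by group
      rw [h5, h3]
      group
    have hxr : x * r * x⁻¹ = r := hC1 x _ hOdd hxm r hrA hxrA
    obtain ⟨s, hs⟩ := h2 r (hQ hrQ)
    have hs3 : 3 ≤ s := by
      by_contra hcon
      apply hne
      have : s ≤ 2 := by omega
      have h1 : orderOf r ∣ 4 := by
        rw [hs]
        exact pow_dvd_pow 2 this
      exact orderOf_dvd_iff_pow_eq_one.1 h1
    have hd : orderOf i ∣ orderOf r := by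
      have h1 : orderOf i ∣ 4 := orderOf_dvd_of_pow_eq_one (by
        calc i ^ 4 = (i * i) * (i * i) := by simp only [pow_succ, pow_zero, one_mul, mul_assoc]
          _ = 1 := hi4)
      refine h1.trans ?_
      rw [hs]
      exact pow_dvd_pow 2 (show 2 ≤ s by omega)
    obtain ⟨k, hk⟩ := mem_zpowers_of_orderOf_dvd a i r hiA hrA hd
    apply hxi_ne
    have hk' : r ^ k = i := hk
    rw [← hk', ← conj_zpow, hxr]
  have hcomm : r * i = i * r := by
    obtain ⟨k, hk⟩ := hrA
    obtain ⟨l, hl⟩ := hiA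
    have : Commute r i := by
      rw [← hk, ← hl]
      exact (Commute.refl a).zpow_zpow k l
    exact this
  have hne_w : w ≠ j := by
    intro h
    apply hxi_ne
    have h1 : x * (x * i * x⁻¹) * x⁻¹ = x * i * x⁻¹ := h
    have h3 : x * i * x⁻¹ = x⁻¹ * (x * (x * i * x⁻¹) * x⁻¹) * x := by group
    rw [h3, h1]
    group
  have hr_cases : r = i ∨ r = i⁻¹ := by
    rcases hinv (r * r) (mul_mem hrA hrA) (by
      calc (r * r) * (r * r) = r ^ 4 := by simp only [pow_succ, pow_zero, one_mul, mul_assoc]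
        _ = 1 := hr4) with h | h
    · exfalso
      rcases hinv r hrA h with h' | h'
      · apply hne_w
        rw [hwr, h', one_mul]
      · apply hne_w
        have h1 : w = j⁻¹ := by
          rw [hwr, h', ← hjj]
          have hj4 : j * j * (j * j) = 1 := by rw [hjj, hzz]
          have : j * j * j = j⁻¹ * (j * j * (j * j)) := by group
          rw [this, hj4, mul_one]
        have h3 : x * j * x⁻¹ ∈ zpowers j := by
          rw [← hwdef, h1]
          exact inv_mem (mem_zpowers j)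
        exact conj_eq_of_mem_zpowers (h2 j hjT) hOdd hxm h3
    · have h1 : (r * i⁻¹) * (r * i⁻¹) = 1 := by
        have hc2 : Commute r i⁻¹ := Commute.inv_right hcomm
        calc (r * i⁻¹) * (r * i⁻¹) = (r * r) * (i * i)⁻¹ := by
              rw [mul_assoc, ← mul_assoc i⁻¹ r, ← hc2.eq]
              group
          _ = z * z⁻¹ := by rw [h, hii]
          _ = 1 := by group
      rcases hinv _ (mul_mem hrA (inv_mem hiA)) h1 with h' | h'
      · left
        have : r = (r * i⁻¹) * i := by group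
        rw [this, h', one_mul]
      · right
        have e1 : r = (r * i⁻¹) * i := by group
        rw [e1, h', ← hii]
        have hi4' : i * i * (i * i) = 1 := by rw [hii, hzz]
        have e2 : i * i * i = i⁻¹ * (i * i * (i * i)) := by group
        rw [e2, hi4', mul_one]
  have hQ2 : ∀ u v : G, u ∈ Q → v ∈ Q → IsPGroup 2 (Subgroup.closure ({u, v} : Set G)) := by
    intro u v hu hv
    refine hT.to_le (le_trans ?_ hQ)
    rw [closure_le]
    rintro y (rfl | rfl)
    · exact hu
    · exact hv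
  rcases hr_cases with h | h
  · refine Cfsg.Agent.Lib.SL23Sec.section_of_relations i j x z (hQ2 i j hiQ hjQ) hOdd hii hjj hz1 hzz
      (hjr i hiA) rfl ?_
    show w = i * j
    rw [hwr, h]
  · have hzinv : z⁻¹ = z := by
      rw [inv_eq_iff_mul_eq_one]
      exact hzz
    have hj1r := (hout j⁻¹ (inv_mem hjT) hj1A).2
    refine Cfsg.Agent.Lib.SL23Sec.section_of_relations i⁻¹ j⁻¹ x z
      (hQ2 _ _ (inv_mem hiQ) (inv_mem hjQ)) hOdd ?_ ?_ hz1 hzz (hj1r _ (inv_mem hiA)) ?_ ?_
    · rw [← mul_inv_rev, hii, hzinv]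
    · rw [← mul_inv_rev, hjj, hzinv]
    · rw [hjdef]; group
    · have h1 : x * j⁻¹ * x⁻¹ = w⁻¹ := by
        rw [hwdef]; group
      rw [h1, hwr, h, mul_inv_rev, inv_inv]
      have h3 := hj1r i hiA
      rw [inv_inv] at h3
      calc j⁻¹ * i = (j⁻¹ * i * j) * j⁻¹ := by group
        _ = i⁻¹ * j⁻¹ := by rw [h3]

/-- The structure of the generalized quaternion group, transported to `G`. -/
theorem quat_facts {G : Type*} [Group G] [Finite G] {T : Subgroup G} {n : ℕ}
    (e : T ≃* QuaternionGroup (2 ^ n)) :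
    ∃ a z : G, a ∈ T ∧ z ∈ zpowers a ∧ z ≠ 1 ∧ z * z = 1 ∧
      (∀ t ∈ T, t ∉ zpowers a → t * t = z ∧ ∀ r ∈ zpowers a, t * r * t⁻¹ = r⁻¹) ∧
      (∀ s ∈ T, ∀ t ∈ T, s ∉ zpowers a → t ∉ zpowers a → s * t ∈ zpowers a) := by
  classical
  set N : ℕ := 2 ^ n with hN
  have hN0 : 0 < N := by positivity
  haveI : NeZero N := ⟨hN0.ne'⟩
  haveI : NeZero (2 * N) := ⟨by omega⟩
  let a₀ : QuaternionGroup N := QuaternionGroup.a 1
  let z₀ : QuaternionGroup N := QuaternionGroup.a (N : ZMod (2 * N))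
  have hz₀z₀ : z₀ * z₀ = 1 := by
    show QuaternionGroup.a _ * QuaternionGroup.a _ = 1
    rw [QuaternionGroup.a_mul_a, QuaternionGroup.one_def]
    congr 1
    have : ((2 * N : ℕ) : ZMod (2 * N)) = 0 := ZMod.natCast_self _
    push_cast at this
    rw [← this]
    ring
  have hz₀1 : z₀ ≠ 1 := by
    intro h
    have h1 : (N : ZMod (2 * N)) = 0 := QuaternionGroup.a.inj h
    rw [ZMod.natCast_eq_zero_iff] at h1
    have := Nat.le_of_dvd hN0 h1
    omega
  have hform : ∀ k : ZMod (2 * N), QuaternionGroup.a k ∈ zpowers a₀ := by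
    intro k
    refine ⟨(k.val : ℤ), ?_⟩
    show a₀ ^ ((k.val : ℤ)) = _
    rw [zpow_natCast, QuaternionGroup.a_one_pow, ZMod.natCast_zmod_val]
  have hform' : ∀ u ∈ zpowers a₀, ∃ k : ZMod (2 * N), u = QuaternionGroup.a k := by
    intro u hu
    obtain ⟨k, rfl⟩ := (mem_powers_iff_mem_zpowers).2 hu
    exact ⟨_, QuaternionGroup.a_one_pow k⟩
  let f : QuaternionGroup N →* G := T.subtype.comp e.symm.toMonoidHom
  have hfinj : Function.Injective f := by
    intro u v h
    exact e.symm.injective (Subtype.ext h)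
  have hfT : ∀ q, f q ∈ T := fun q => (e.symm q).2
  have hfe : ∀ t (ht : t ∈ T), f (e ⟨t, ht⟩) = t := by
    intro t ht
    show ((e.symm (e ⟨t, ht⟩) : T) : G) = t
    rw [MulEquiv.symm_apply_apply]
  have hz : ∀ u ∈ zpowers a₀, f u ∈ zpowers (f a₀) := by
    rintro u ⟨k, rfl⟩
    exact ⟨k, (map_zpow f a₀ k).symm⟩
  have hz' : ∀ q, f q ∈ zpowers (f a₀) → q ∈ zpowers a₀ := by
    rintro q ⟨k, hk⟩
    refine ⟨k, hfinj ?_⟩
    show f (a₀ ^ k) = f q
    rw [map_zpow]
    exact hk
  have hout : ∀ q, q ∉ zpowers a₀ → ∃ i, q = QuaternionGroup.xa i := by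
    intro q hq
    rcases q with k | i
    · exact absurd (hform k) hq
    · exact ⟨i, rfl⟩
  refine ⟨f a₀, f z₀, hfT _, hz _ (hform _), ?_, ?_, ?_, ?_⟩
  · intro h
    apply hz₀1
    apply hfinj
    rw [h, map_one]
  · rw [← map_mul, hz₀z₀, map_one]
  · intro t ht hta
    have hq : e ⟨t, ht⟩ ∉ zpowers a₀ := by
      intro h
      apply hta
      rw [← hfe t ht]
      exact hz _ h
    obtain ⟨i, hi⟩ := hout _ hq
    have ht' : t = f (QuaternionGroup.xa i) := by rw [← hi, hfe]
    refine ⟨?_, ?_⟩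
    · rw [ht', ← map_mul]
      congr 1
      rw [QuaternionGroup.xa_mul_xa]
      show QuaternionGroup.a _ = QuaternionGroup.a _
      congr 1
      ring
    · rintro r ⟨k, rfl⟩
      obtain ⟨l, hl⟩ := hform' (a₀ ^ k) (zpow_mem (mem_zpowers a₀) k)
      have hr : (fun m : ℤ => f a₀ ^ m) k = f (QuaternionGroup.a l) := by
        show f a₀ ^ k = _
        rw [← hl, map_zpow]
      rw [hr, ht', ← map_inv, ← map_mul, ← map_inv, ← map_mul]
      congr 1
      have h2N : (N : ZMod (2 * N)) + N = 0 := by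
        have : ((2 * N : ℕ) : ZMod (2 * N)) = 0 := ZMod.natCast_self _
        push_cast at this
        linear_combination this
      have hinv1 : (QuaternionGroup.xa i : QuaternionGroup N)⁻¹ = QuaternionGroup.xa ((N : ZMod (2 * N)) + i) := by
        apply inv_eq_of_mul_eq_one_right
        rw [QuaternionGroup.xa_mul_xa, QuaternionGroup.one_def]
        congr 1
        linear_combination h2N
      have hinv2 : (QuaternionGroup.a l : QuaternionGroup N)⁻¹ = QuaternionGroup.a (-l) := by
        apply inv_eq_of_mul_eq_one_right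
        rw [QuaternionGroup.a_mul_a, QuaternionGroup.one_def]
        congr 1
        ring
      rw [QuaternionGroup.xa_mul_a, hinv1, QuaternionGroup.xa_mul_xa, hinv2]
      congr 1
      linear_combination h2N
  · intro s hs t ht hsa hta
    have hq : e ⟨s, hs⟩ ∉ zpowers a₀ := by
      intro h
      apply hsa
      rw [← hfe s hs]
      exact hz _ h
    have hq' : e ⟨t, ht⟩ ∉ zpowers a₀ := by
      intro h
      apply hta
      rw [← hfe t ht]
      exact hz _ h
    obtain ⟨i, hi⟩ := hout _ hq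
    obtain ⟨i', hi'⟩ := hout _ hq'
    rw [← hfe s hs, ← hfe t ht, hi, hi', ← map_mul, QuaternionGroup.xa_mul_xa]
    exact hz _ (hform _)

/-- A finite group with generalized quaternion Sylow 2-subgroups either has a normal 2-complement or has a section isomorphic to SL(2,3). -/
theorem result {G : Type*} [Group G] [Finite G] (T : Sylow 2 G) (n : ℕ) (hn : 1 ≤ n) (hT : Nonempty ((T : Subgroup G) ≃* QuaternionGroup (2 ^ n))) : Cfsg.HasNormalPComplement 2 G ∨ ∃ (H K : Subgroup G) (hK : (K.subgroupOf H).Normal), Nonempty ((H ⧸ K.subgroupOf H) ≃* Matrix.SpecialLinearGroup (Fin 2) (ZMod 3)) := by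
  classical
  obtain ⟨e⟩ := hT
  obtain ⟨a, z, haT, hzA, hz1, hzz, hout, hprod⟩ := quat_facts e
  by_cases hN : Cfsg.HasNormalPComplement 2 G
  · exact Or.inl hN
  · right
    rw [Cfsg.Agent.Lib.TransferEval.hasNormalPComplement_iff T,
      Cfsg.Agent.Lib.PComplement.frobenius_criterion T] at hN
    push Not at hN
    obtain ⟨Q, hQ, x, hxN, hxo, hxC⟩ := hN
    exact reduction T T.2 a z haT hzA hz1 hzz hout hprod Q hQ x hxN hxo hxC

end Cfsg.Agent.S0106
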