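import Mathlib
import Cfsg.Statements.S3246
import Cfsg.Agent.Lib.PConstr63
import Cfsg.Agent.Lib.PGrp

set_option autoImplicit false

open Cfsg Cfsg.Agent.Lib.PConstr63 Cfsg.Agent.Lib.CharTwoLocal

namespace Cfsg.Agent.S3246

variable {G : Type*} [Group G] [Finite G]

/-- Elements of a `2`-subgroup and of an odd-order subgroup. -/
theorem eq_one_of_mem_odd_of_mem_two {X R : Subgroup G} (hX : Odd (Nat.card X)) (hR : IsPGroup 2 R)
    {y : G} (hyX : y ∈ X) (hyR : y ∈ R) : y = 1 := by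
  have h1 : IsPGroup 2 (Subgroup.zpowers y) := hR.to_le ((Subgroup.zpowers_le).mpr hyR)
  obtain ⟨k, hk⟩ := IsPGroup.iff_card.mp h1
  have h2 : Nat.card (Subgroup.zpowers y) ∣ Nat.card X :=
    Subgroup.card_dvd_of_le ((Subgroup.zpowers_le).mpr hyX)
  rw [hk] at h2
  have h3 : k = 0 := by
    by_contra hne
    have h4 : 2 ∣ Nat.card X := (dvd_pow_self 2 hne).trans h2
    rcases hX with ⟨m, hm⟩
    omega
  rw [h3, pow_zero] at hk
  have h5 : orderOf y = 1 := by rw [← Nat.card_zpowers]; exact hk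
  exact orderOf_eq_one_iff.mp h5

theorem coprime_orderOf_of_odd {X : Subgroup G} (hX : Odd (Nat.card X)) {x : G} (hx : x ∈ X) :
    (orderOf x).Coprime 2 := by
  have h2 : orderOf x ∣ Nat.card X := Subgroup.orderOf_dvd_natCard X hx
  have h3 : Odd (orderOf x) := Odd.of_dvd_nat hX h2
  exact h3.coprime_two_right

/-- An element `a` (with `S₀ ≤ C_S(a)` of index at most two in `S`, and `C_{C(a)}(O₂(C(a))) ≤ O₂(C(a))`)
has no nontrivial fixed points on an odd-order subgroup normalized by `S`. -/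
theorem fixed_trivial (S : Sylow 2 G) (X : Subgroup G) (hX : Odd (Nat.card X))
    (hXS : (S : Subgroup G) ≤ Subgroup.normalizer (X : Set G)) (a : G)
    (hCT : CT 2 (Subgroup.centralizer ({a} : Set G))) (S₀ : Subgroup G)
    (hS₀ : S₀ ≤ (S : Subgroup G))
    (hS₀a : S₀ ≤ Subgroup.centralizer ({a} : Set G)) (hidx : Nat.card S ≤ 2 * Nat.card S₀) :
    ∀ x ∈ X, x * a = a * x → x = 1 := by
  intro x hxX hxa
  set C := Subgroup.centralizer ({a} : Set G) with hC
  set R := Oc 2 C with hR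
  have hRp : IsPGroup 2 R := isPGroup_Oc 2 C
  have hS₀p : IsPGroup 2 S₀ := S.isPGroup'.to_le hS₀
  have hxC : x ∈ C := by
    rw [hC, Subgroup.mem_centralizer_iff]
    intro b hb
    rw [Set.mem_singleton_iff] at hb
    rw [hb]
    exact hxa.symm
  have hxodd := coprime_orderOf_of_odd hX hxX
  have hSR : S₀ ≤ Subgroup.normalizer (R : Set G) := by
    intro s hs
    apply Cfsg.Agent.Lib.Replacement.mem_normalizer_of_forall
    intro r hr
    exact conj_mem_Oc (hS₀a hs) hr
  have hP : IsPGroup 2 (S₀ ⊔ R : Subgroup G) := IsPGroup.to_sup_of_normal_right' hS₀p hRp hSR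
  have hcard : Nat.card (S₀ ⊔ R : Subgroup G) ≤ Nat.card S := by
    obtain ⟨Q, hQ⟩ := hP.exists_le_sylow
    have h1 : Nat.card (S₀ ⊔ R : Subgroup G) ≤ Nat.card Q :=
      Nat.le_of_dvd Nat.card_pos (Subgroup.card_dvd_of_le hQ)
    have h2 : Nat.card Q = Nat.card S := by
      rw [Sylow.card_eq_multiplicity, Sylow.card_eq_multiplicity]
    omega
  set H : Subgroup ↥(S₀ ⊔ R : Subgroup G) := S₀.subgroupOf (S₀ ⊔ R) with hH
  have hHcard : Nat.card H = Nat.card S₀ :=
    Nat.card_congr (Subgroup.subgroupOfEquivOfLe (le_sup_left : S₀ ≤ S₀ ⊔ R)).toEquiv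
  have hind : H.index ≤ 2 := by
    have h1 := H.index_mul_card
    rw [hHcard] at h1
    have hpos : 0 < Nat.card S₀ := Nat.card_pos
    by_contra hlt
    push Not at hlt
    have h3 : 3 * Nat.card S₀ ≤ H.index * Nat.card S₀ := Nat.mul_le_mul_right _ hlt
    omega
  have hrr : ∀ r ∈ R, ∀ r' ∈ R, r ∉ S₀ → r' ∉ S₀ → r⁻¹ * r' ∈ S₀ := by
    intro r hr r' hr' hrn hrn'
    have hrP : r ∈ (S₀ ⊔ R : Subgroup G) := (le_sup_right : R ≤ S₀ ⊔ R) hr
    have hrP' : r' ∈ (S₀ ⊔ R : Subgroup G) := (le_sup_right : R ≤ S₀ ⊔ R) hr'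
    have hi : H.index = 1 ∨ H.index = 2 := by
      have h0 : H.index ≠ 0 := Subgroup.index_ne_zero_of_finite
      omega
    rcases hi with hi | hi
    · exfalso
      apply hrn
      have : H = ⊤ := Subgroup.index_eq_one.mp hi
      have h2 : (⟨r, hrP⟩ : ↥(S₀ ⊔ R : Subgroup G)) ∈ H := by rw [this]; trivial
      exact Subgroup.mem_subgroupOf.mp h2
    · have h2 : ((⟨r, hrP⟩ : ↥(S₀ ⊔ R : Subgroup G))⁻¹ * ⟨r', hrP'⟩) ∈ H := by
        rw [Subgroup.mul_mem_iff_of_index_two hi]
        constructor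
        · intro h3
          exact absurd (by
            have := H.inv_mem h3
            rw [inv_inv] at this
            exact Subgroup.mem_subgroupOf.mp this) hrn
        · intro h3
          exact absurd (Subgroup.mem_subgroupOf.mp h3) hrn'
      exact Subgroup.mem_subgroupOf.mp h2
  have hcr₀ : ∀ r ∈ R, r ∈ S₀ → x * r = r * x := by
    intro r hr hrS
    have h1 : x * r * x⁻¹ * r⁻¹ ∈ R :=
      R.mul_mem (conj_mem_Oc hxC hr) (R.inv_mem hr)
    have h2 : x * r * x⁻¹ * r⁻¹ ∈ X := by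
      have h3 := (Subgroup.mem_normalizer_iff.mp (hXS (hS₀ hrS)) x⁻¹).mp (X.inv_mem hxX)
      have e : x * r * x⁻¹ * r⁻¹ = x * (r * x⁻¹ * r⁻¹) := by group
      rw [e]
      exact X.mul_mem hxX h3
    have h3 := eq_one_of_mem_odd_of_mem_two hX hRp h2 h1
    have e : x * r = (x * r * x⁻¹ * r⁻¹) * (r * x) := by group
    rw [e, h3, one_mul]
  have hcr : ∀ r ∈ R, x * r = r * x := by
    intro r hr
    by_cases hrS : r ∈ S₀
    · exact hcr₀ r hr hrS
    · have h1 : x * r * x⁻¹ ∈ R := conj_mem_Oc hxC hr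
      have h2 : x * r * x⁻¹ ∉ S₀ := by
        intro h3
        have h4 := hcr₀ _ h1 h3
        have h6 : x * r * x⁻¹ = r := by
          have h7 : x⁻¹ * (x * r * x⁻¹) * x = r := by group
          rw [mul_assoc, ← h4, ← mul_assoc, inv_mul_cancel, one_mul] at h7
          exact h7
        rw [h6] at h3
        exact hrS h3
      have h3 := hrr r hr _ h1 hrS h2
      have h4 : r⁻¹ * (x * r * x⁻¹) ∈ R := R.mul_mem (R.inv_mem hr) h1
      have h5 : x * (r⁻¹ * (x * r * x⁻¹)) = (r⁻¹ * (x * r * x⁻¹)) * x := hcr₀ _ h4 h3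
      exact commute_of_conj_eq_mul hRp h4 hxodd (by group) h5
  have hxR : x ∈ R := hCT x hxC (fun y hy => hcr y hy)
  exact eq_one_of_mem_odd_of_mem_two hX hRp hxX hxR

/-- A fixed-point-free involution inverts. -/
theorem inverts_of_fixed_trivial (X : Subgroup G) (a : G) (ha : a * a = 1)
    (hN : ∀ x ∈ X, a * x * a⁻¹ ∈ X) (hfix : ∀ x ∈ X, x * a = a * x → x = 1) :
    ∀ x ∈ X, a * x * a⁻¹ = x⁻¹ := by
  let f : ↥X → ↥X := fun x => ⟨(x : G)⁻¹ * (a * x * a⁻¹), X.mul_mem (X.inv_mem x.2) (hN x x.2)⟩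
  have hf : Function.Injective f := by
    intro x y hxy
    have h1 : (x : G)⁻¹ * (a * x * a⁻¹) = (y : G)⁻¹ * (a * y * a⁻¹) := congrArg Subtype.val hxy
    have h2 : (y : G) * (x : G)⁻¹ ∈ X := X.mul_mem y.2 (X.inv_mem x.2)
    have h3 : ((y : G) * (x : G)⁻¹) * a = a * ((y : G) * (x : G)⁻¹) := by
      have h4 : (y : G) * ((x : G)⁻¹ * (a * x * a⁻¹)) = a * y * a⁻¹ := by
        rw [h1]; group
      have h5 : (y : G) * (x : G)⁻¹ = a * y * a⁻¹ * (a * x * a⁻¹)⁻¹ := by
        rw [← h4]; group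
      calc (y : G) * (x : G)⁻¹ * a = (a * y * a⁻¹ * (a * x * a⁻¹)⁻¹) * a := by rw [← h5]
        _ = a * ((y : G) * (x : G)⁻¹) := by group
    have h6 := hfix _ h2 h3
    apply Subtype.ext
    have h7 : (y : G) = x := by
      rwa [mul_inv_eq_one] at h6
    exact h7.symm
  have hs : Function.Surjective f := Finite.surjective_of_injective hf
  intro x hx
  obtain ⟨w, hw⟩ := hs ⟨x, hx⟩
  have h1 : (w : G)⁻¹ * (a * w * a⁻¹) = x := congrArg Subtype.val hw
  have hai : a⁻¹ = a := by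
    rw [inv_eq_iff_mul_eq_one]; exact ha
  rw [← h1, hai]
  calc a * ((w : G)⁻¹ * (a * w * a)) * a = a * (w : G)⁻¹ * a * w * (a * a) := by group
    _ = a * (w : G)⁻¹ * a * w := by rw [ha, mul_one]
    _ = a⁻¹ * (w : G)⁻¹ * a⁻¹ * w := by rw [hai]
    _ = ((w : G)⁻¹ * (a * w * a))⁻¹ := by group

/-- Normalizer of the group generated by an involution. -/
theorem normalizer_zpowers_eq (t : G) (ht : orderOf t = 2) :
    Subgroup.normalizer ((Subgroup.zpowers t : Subgroup G) : Set G) =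
      Subgroup.centralizer ({t} : Set G) := by
  have h2 : t ^ 2 = 1 := by rw [← ht]; exact pow_orderOf_eq_one t
  have ht1 : t ≠ 1 := by
    intro h
    rw [h, orderOf_one] at ht
    omega
  apply le_antisymm
  · intro x hx
    rw [Subgroup.mem_centralizer_iff]
    intro b hb
    rw [Set.mem_singleton_iff] at hb
    rw [hb]
    have h3 := (Subgroup.mem_normalizer_iff.mp hx t).mp (Subgroup.mem_zpowers t)
    obtain ⟨k, hk⟩ := h3
    have hk' : t ^ k = x * t * x⁻¹ := hk
    rcases Int.even_or_odd k with he | ho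
    · exfalso
      obtain ⟨m, rfl⟩ := he
      have h4 : t ^ (m + m) = 1 := by
        rw [← two_mul, zpow_mul]
        have : t ^ (2 : ℤ) = 1 := by exact_mod_cast h2
        rw [this, one_zpow]
      rw [h4] at hk'
      apply ht1
      have h5 : x * t = x := by
        have := hk'.symm
        rwa [mul_inv_eq_one] at this
      simpa using h5
    · obtain ⟨m, rfl⟩ := ho
      have h4 : t ^ (2 * m + 1) = t := by
        rw [zpow_add, zpow_mul, zpow_one]
        have : t ^ (2 : ℤ) = 1 := by exact_mod_cast h2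
        rw [this, one_zpow, one_mul]
      rw [h4] at hk'
      calc t * x = (x * t * x⁻¹) * x := by rw [← hk']
        _ = x * t := by group
  · intro x hx
    apply Cfsg.Agent.Lib.Replacement.mem_normalizer_of_forall
    rintro _ ⟨k, rfl⟩
    have hc : x * t = t * x := (Subgroup.mem_centralizer_iff.mp hx t rfl).symm
    have h3 : x * t ^ k * x⁻¹ = t ^ k := by
      have : Commute x (t ^ k) := Commute.zpow_right hc k
      rw [this.eq]
      group
    show x * (t ^ k) * x⁻¹ ∈ _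
    rw [h3]
    exact Subgroup.zpow_mem _ (Subgroup.mem_zpowers t) k

theorem exists_maximal_two_local (N : Subgroup G) (hN : IsTwoLocal N) :
    ∃ M : Subgroup G, N ≤ M ∧ IsMaximalTwoLocal M := by
  obtain ⟨M, hNM, hM⟩ := (Set.toFinite {N : Subgroup G | IsTwoLocal N}).exists_le_maximal hN
  exact ⟨M, hNM, hM.1, fun N' hN' hle => le_antisymm (hM.2 hN' hle) hle⟩

theorem result {G : Type*} [Group G] [Finite G]
    (S : Sylow 2 G) (A : Subgroup G) (hA : Cfsg.IsSCN (S : Subgroup G) A) (hA3 : ¬ Cfsg.PRankLE 2 2 ↥A)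
    (h : (∀ M : Subgroup G, Cfsg.IsMaximalTwoLocal M → Cfsg.IsPConstrained 2 ↥M ∧ Cfsg.oddCore ↥M = ⊥) ∨
      (∀ t : G, orderOf t = 2 → Cfsg.IsPConstrained 2 ↥(Subgroup.centralizer ({t} : Set G)) ∧
        Cfsg.oddCore ↥(Subgroup.centralizer ({t} : Set G)) = ⊥)) :
    (∀ X : Subgroup G, Odd (Nat.card ↥X) → (S : Subgroup G) ≤ Subgroup.normalizer (X : Set G) → X = ⊥) ∧
      (∀ T : Subgroup G, IsPGroup 2 ↥T → T ≠ ⊥ → Cfsg.IsPConstrained 2 ↥(Subgroup.normalizer (T : Set G))) := by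
  have hCT : ∀ t : G, orderOf t = 2 → CT 2 (Subgroup.centralizer ({t} : Set G)) := by
    intro t ht
    rcases h with h | h
    · have h2 : t ^ 2 = 1 := by rw [← ht]; exact pow_orderOf_eq_one t
      have hcyc : IsPGroup 2 (Subgroup.zpowers t) := by
        rw [IsPGroup.iff_card]
        exact ⟨1, by rw [Nat.card_zpowers, ht, pow_one]⟩
      have hne : Subgroup.zpowers t ≠ ⊥ := by
        intro hb
        rw [Subgroup.zpowers_eq_bot] at hb
        rw [hb, orderOf_one] at ht
        omega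
      obtain ⟨M, hNM, hM⟩ := exists_maximal_two_local
        (Subgroup.normalizer ((Subgroup.zpowers t : Subgroup G) : Set G)) ⟨_, hcyc, hne, rfl⟩
      obtain ⟨hM1, hM2⟩ := h M hM
      have hCTM : CT 2 M := (charC_iff_CT M).mp (charC_of_isPConstrained hM1 hM2)
      have h3 := hCTM.inf_normalizer hcyc (Subgroup.le_normalizer.trans hNM)
      rw [inf_eq_right.mpr hNM, normalizer_zpowers_eq t ht] at h3
      exact h3
    · obtain ⟨h1, h2⟩ := h t ht
      exact (charC_iff_CT _).mp (charC_of_isPConstrained h1 h2)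
  refine ⟨?_, fun T hT hT1 => ?_⟩
  swap
  · rcases h with h | h
    · obtain ⟨M, hNM, hM⟩ := exists_maximal_two_local
        (Subgroup.normalizer (T : Set G)) ⟨_, hT, hT1, rfl⟩
      exact isPConstrained_normalizer_of_le (h M hM).1 hT hNM
    · exact isPConstrained_normalizer_of_centralizers (fun x hx => (h x hx).1) T hT hT1
  intro X hX hXS
  by_contra hX1
  obtain ⟨hAS, hSnA, hAc⟩ := hA
  have hAcomm : ∀ x ∈ A, ∀ y ∈ A, x * y = y * x := by
    intro x hx y hy
    have h1 : x ∈ (S : Subgroup G) ⊓ Subgroup.centralizer (A : Set G) := by rw [hAc]; exact hx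
    exact (Subgroup.mem_centralizer_iff.mp h1.2 y hy).symm
  have hA3' : ∃ E : Subgroup ↥A, IsMulCommutative E ∧ (∀ a ∈ E, a ^ 2 = 1) ∧ 2 ^ 2 < Nat.card E := by
    unfold PRankLE at hA3
    push Not at hA3
    exact hA3
  obtain ⟨E, -, hE2, hEc⟩ := hA3'
  -- the involutions of `A`
  let Vs : Subgroup G :=
    { carrier := {x | x ∈ A ∧ x * x = 1}
      mul_mem' := by
        rintro x y ⟨hx, hx2⟩ ⟨hy, hy2⟩
        refine ⟨A.mul_mem hx hy, ?_⟩
        calc x * y * (x * y) = x * (y * x) * y := by group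
          _ = x * (x * y) * y := by rw [hAcomm y hy x hx]
          _ = (x * x) * (y * y) := by group
          _ = 1 := by rw [hx2, hy2, one_mul]
      one_mem' := ⟨A.one_mem, one_mul 1⟩
      inv_mem' := by
        rintro x ⟨hx, hx2⟩
        refine ⟨A.inv_mem hx, ?_⟩
        have : x⁻¹ = x := by rw [inv_eq_iff_mul_eq_one]; exact hx2
        rw [this]; exact hx2 }
  have hVsmem : ∀ x, x ∈ Vs ↔ x ∈ A ∧ x * x = 1 := fun _ => Iff.rfl
  have hEV : E.map A.subtype ≤ Vs := by
    rintro _ ⟨e, he, rfl⟩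
    refine ⟨e.2, ?_⟩
    have h1 := hE2 e he
    rw [pow_two] at h1
    exact congrArg Subtype.val h1
  have hVcard : 4 < Nat.card Vs := by
    have h1 : Nat.card (E.map A.subtype) = Nat.card E :=
      Nat.card_congr (Subgroup.equivMapOfInjective E A.subtype A.subtype_injective).symm.toEquiv
    have h2 : Nat.card (E.map A.subtype) ≤ Nat.card Vs :=
      Nat.le_of_dvd Nat.card_pos (Subgroup.card_dvd_of_le hEV)
    norm_num at hEc
    omega
  have hSne : (S : Subgroup G) ≠ ⊥ := by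
    intro hb
    have h1 : Vs ≤ ⊥ := by
      intro x hx
      rw [← hb]
      exact hAS hx.1
    rw [le_bot_iff] at h1
    rw [h1] at hVcard
    simp at hVcard
  obtain ⟨z, hzS, hzo, hzc⟩ := exists_central_order_p S.isPGroup' hSne
  have hz2 : z * z = 1 := by
    have := pow_orderOf_eq_one z
    rwa [hzo, pow_two] at this
  have hzA : z ∈ A := by
    have h1 : z ∈ (S : Subgroup G) ⊓ Subgroup.centralizer (A : Set G) := by
      refine ⟨hzS, Subgroup.mem_centralizer_iff.mpr ?_⟩
      intro y hy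
      exact hzc y (hAS hy)
    rwa [hAc] at h1
  have hzV : z ∈ Vs := ⟨hzA, hz2⟩
  -- central in `S` modulo `⟨z⟩`
  let Z₀ : Subgroup G := Subgroup.zpowers z
  have hZ₀V : Z₀ ≤ Vs := (Subgroup.zpowers_le).mpr hzV
  have hZ₀card : Nat.card Z₀ = 2 := by
    show Nat.card (Subgroup.zpowers z) = 2
    rw [Nat.card_zpowers, hzo]
  have hZ₀S : Z₀ ≤ (S : Subgroup G) := (Subgroup.zpowers_le).mpr hzS
  have hZ₀cases : ∀ w ∈ Z₀, w = 1 ∨ w = z := by
    rintro _ ⟨k, rfl⟩
    rcases Int.even_or_odd k with he | ho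
    · left
      obtain ⟨m, rfl⟩ := he
      show z ^ (m + m) = 1
      rw [← two_mul, zpow_mul]
      have : z ^ (2 : ℤ) = 1 := by
        rw [show (2 : ℤ) = ((2 : ℕ) : ℤ) from rfl, zpow_natCast, pow_two]; exact hz2
      rw [this, one_zpow]
    · right
      obtain ⟨m, rfl⟩ := ho
      show z ^ (2 * m + 1) = z
      rw [zpow_add, zpow_mul, zpow_one]
      have : z ^ (2 : ℤ) = 1 := by
        rw [show (2 : ℤ) = ((2 : ℕ) : ℤ) from rfl, zpow_natCast, pow_two]; exact hz2
      rw [this, one_zpow, one_mul]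
  let A' : Subgroup ↥(S : Subgroup G) := Z₀.subgroupOf (S : Subgroup G)
  let D' : Subgroup ↥(S : Subgroup G) := Vs.subgroupOf (S : Subgroup G)
  have hZ₀comm : ∀ s ∈ (S : Subgroup G), ∀ w ∈ Z₀, s * w = w * s := by
    intro s hs w hw
    rcases hZ₀cases w hw with h1 | h1
    · rw [h1, mul_one, one_mul]
    · rw [h1]; exact hzc s hs
  have hA'n : A'.Normal := by
    constructor
    intro n hn g
    rw [Subgroup.mem_subgroupOf] at hn ⊢
    have h1 := hZ₀comm g g.2 n hn
    have h2 : (g : G) * n * (g : G)⁻¹ = n := by rw [h1]; group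
    have h3 : ((g * n * g⁻¹ : ↥(S : Subgroup G)) : G) = (g : G) * n * (g : G)⁻¹ := rfl
    rw [h3, h2]
    exact hn
  have hD'n : D'.Normal := by
    constructor
    intro n hn g
    rw [Subgroup.mem_subgroupOf] at hn ⊢
    obtain ⟨hnA, hn2⟩ := hn
    have h3 : ((g * n * g⁻¹ : ↥(S : Subgroup G)) : G) = (g : G) * n * (g : G)⁻¹ := rfl
    rw [h3]
    refine ⟨(Subgroup.mem_normalizer_iff.mp (hSnA g.2) _).mp hnA, ?_⟩
    calc (g : G) * n * (g : G)⁻¹ * ((g : G) * n * (g : G)⁻¹) = (g : G) * (n * n) * (g : G)⁻¹ := by group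
      _ = 1 := by rw [hn2]; group
  have hlt : A' < D' := by
    refine lt_of_le_of_ne (fun x hx => ?_) ?_
    · rw [Subgroup.mem_subgroupOf] at hx ⊢
      exact hZ₀V hx
    · intro he
      have h1 : Vs ≤ Z₀ := by
        intro x hx
        have h2 : (⟨x, hAS hx.1⟩ : ↥(S : Subgroup G)) ∈ D' := Subgroup.mem_subgroupOf.mpr hx
        rw [← he] at h2
        exact Subgroup.mem_subgroupOf.mp h2
      have h2 : Nat.card Vs ≤ Nat.card Z₀ := Nat.le_of_dvd Nat.card_pos (Subgroup.card_dvd_of_le h1)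
      omega
  obtain ⟨y, hyD, hyA, hyc⟩ :=
    Cfsg.Agent.Lib.PGrp.exists_central_mod (p := 2) S.isPGroup' A' D' hlt
  set v : G := (y : G) with hv
  have hvS : v ∈ (S : Subgroup G) := y.2
  have hvV : v ∈ Vs := Subgroup.mem_subgroupOf.mp hyD
  have hvZ : v ∉ Z₀ := fun h => hyA (Subgroup.mem_subgroupOf.mpr h)
  have hv2 : v * v = 1 := hvV.2
  have hvi : v⁻¹ = v := by rw [inv_eq_iff_mul_eq_one]; exact hv2
  have hzi : z⁻¹ = z := by rw [inv_eq_iff_mul_eq_one]; exact hz2
  have hz1 : z ≠ 1 := by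
    intro hh
    rw [hh, orderOf_one] at hzo
    omega
  have hv1 : v ≠ 1 := fun hh => hvZ (hh ▸ Z₀.one_mem)
  have hvz : v * z = z * v := hzc v hvS
  have hvo : orderOf v = 2 := orderOf_eq_prime (by rw [pow_two]; exact hv2) hv1
  have hvz2 : (v * z) * (v * z) = 1 := by
    calc v * z * (v * z) = v * (z * v) * z := by group
      _ = v * (v * z) * z := by rw [hvz]
      _ = (v * v) * (z * z) := by group
      _ = 1 := by rw [hv2, hz2, one_mul]
  have hvz1 : v * z ≠ 1 := by
    intro hh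
    have h1 : v = z⁻¹ := eq_inv_of_mul_eq_one_left hh
    apply hvZ
    rw [h1]
    exact Z₀.inv_mem (Subgroup.mem_zpowers z)
  have hvzo : orderOf (v * z) = 2 := orderOf_eq_prime (by rw [pow_two]; exact hvz2) hvz1
  have hvconj : ∀ s ∈ (S : Subgroup G), s * v * s⁻¹ = v ∨ s * v * s⁻¹ = v * z := by
    intro s hs
    have h1 : v * s * v⁻¹ * s⁻¹ ∈ Z₀ := by
      have h2 := hyc ⟨s, hs⟩
      rw [Subgroup.mem_subgroupOf, commutatorElement_def] at h2
      exact h2
    rw [hvi] at h1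
    rcases hZ₀cases _ h1 with h2 | h2
    · left
      calc s * v * s⁻¹ = v⁻¹ * (v * s * v * s⁻¹) := by group
        _ = v := by rw [h2, mul_one, hvi]
    · right
      calc s * v * s⁻¹ = v⁻¹ * (v * s * v * s⁻¹) := by group
        _ = v * z := by rw [h2, hvi]
  -- the subgroup `C_S(v)` has index at most two
  let S₀ : Subgroup G := (S : Subgroup G) ⊓ Subgroup.centralizer ({v} : Set G)
  have hS₀mem : ∀ s, s ∈ S₀ ↔ s ∈ (S : Subgroup G) ∧ s * v * s⁻¹ = v := by
    intro s
    constructor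
    · rintro ⟨hs, hc⟩
      refine ⟨hs, ?_⟩
      have := Subgroup.mem_centralizer_iff.mp hc v rfl
      rw [← this]
      group
    · rintro ⟨hs, hc⟩
      refine ⟨hs, Subgroup.mem_centralizer_iff.mpr ?_⟩
      intro b hb
      rw [Set.mem_singleton_iff] at hb
      rw [hb]
      calc v * s = (s * v * s⁻¹) * s := by rw [hc]
        _ = s * v := by group
  have hidx : Nat.card S ≤ 2 * Nat.card S₀ := by
    by_cases hall : ∀ s ∈ (S : Subgroup G), s * v * s⁻¹ = v
    · have h1 : (S : Subgroup G) ≤ S₀ := fun s hs => (hS₀mem s).mpr ⟨hs, hall s hs⟩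
      have h2 : Nat.card S ≤ Nat.card S₀ := Nat.le_of_dvd Nat.card_pos (Subgroup.card_dvd_of_le h1)
      omega
    · push Not at hall
      obtain ⟨s₀, hs₀, hs₀v⟩ := hall
      have hs₀z : s₀ * v * s₀⁻¹ = v * z := (hvconj s₀ hs₀).resolve_left hs₀v
      let H : Subgroup ↥(S : Subgroup G) := S₀.subgroupOf (S : Subgroup G)
      have hne : v * z ≠ v := by
        intro hh
        exact hz1 (mul_left_cancel (hh.trans (mul_one v).symm))
      have hHi : H.index = 2 := by
        rw [Subgroup.index_eq_two_iff]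
        refine ⟨⟨s₀, hs₀⟩, fun b => ?_⟩
        have hb := hvconj b b.2
        have hHmem : ∀ c : ↥(S : Subgroup G), c ∈ H ↔ (c : G) * v * (c : G)⁻¹ = v := by
          intro c
          rw [Subgroup.mem_subgroupOf, hS₀mem]
          exact ⟨fun h => h.2, fun h => ⟨c.2, h⟩⟩
        have hbz : (b : G) * z * (b : G)⁻¹ = z := by
          rw [hzc b b.2]; group
        have hba : ((b * ⟨s₀, hs₀⟩ : ↥(S : Subgroup G)) : G) * v *
            ((b * ⟨s₀, hs₀⟩ : ↥(S : Subgroup G)) : G)⁻¹ =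
            ((b : G) * v * (b : G)⁻¹) * z := by
          show ((b : G) * s₀) * v * ((b : G) * s₀)⁻¹ = _
          calc ((b : G) * s₀) * v * ((b : G) * s₀)⁻¹ = (b : G) * (s₀ * v * s₀⁻¹) * (b : G)⁻¹ := by
                group
            _ = (b : G) * (v * z) * (b : G)⁻¹ := by rw [hs₀z]
            _ = ((b : G) * v * (b : G)⁻¹) * ((b : G) * z * (b : G)⁻¹) := by group
            _ = _ := by rw [hbz]
        rw [hHmem, hHmem, hba]
        rcases hb with hb | hb
        · rw [hb]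
          exact Or.inr ⟨rfl, hne⟩
        · rw [hb]
          refine Or.inl ⟨?_, hne⟩
          rw [mul_assoc, hz2, mul_one]
      have h1 := H.index_mul_card
      have h2 : Nat.card H = Nat.card S₀ :=
        Nat.card_congr (Subgroup.subgroupOfEquivOfLe (inf_le_left : S₀ ≤ S)).toEquiv
      rw [hHi, h2] at h1
      exact h1.ge
  have hS₀S : S₀ ≤ (S : Subgroup G) := inf_le_left
  have hSz : (S : Subgroup G) ≤ Subgroup.centralizer ({z} : Set G) := by
    intro s hs
    rw [Subgroup.mem_centralizer_iff]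
    intro b hb
    rw [Set.mem_singleton_iff] at hb
    rw [hb]
    exact (hzc s hs).symm
  have hS₀vz : S₀ ≤ Subgroup.centralizer ({v * z} : Set G) := by
    intro s hs
    rw [Subgroup.mem_centralizer_iff]
    intro b hb
    rw [Set.mem_singleton_iff] at hb
    rw [hb]
    have h1 := Subgroup.mem_centralizer_iff.mp hs.2 v rfl
    have h2 := hzc s hs.1
    calc v * z * s = v * (z * s) := by group
      _ = v * (s * z) := by rw [h2]
      _ = (v * s) * z := by group
      _ = (s * v) * z := by rw [h1]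
      _ = s * (v * z) := by group
  have hfixz := fixed_trivial S X hX hXS z (hCT z hzo) S le_rfl hSz (by omega)
  have hfixv := fixed_trivial S X hX hXS v (hCT v hvo) S₀ hS₀S inf_le_right hidx
  have hfixvz := fixed_trivial S X hX hXS (v * z) (hCT _ hvzo) S₀ hS₀S hS₀vz hidx
  have hinvz := inverts_of_fixed_trivial X z hz2
    (fun x hx => (Subgroup.mem_normalizer_iff.mp (hXS hzS) x).mp hx) hfixz
  have hinvv := inverts_of_fixed_trivial X v hv2
    (fun x hx => (Subgroup.mem_normalizer_iff.mp (hXS hvS) x).mp hx) hfixv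
  apply hX1
  rw [eq_bot_iff]
  intro x hx
  rw [Subgroup.mem_bot]
  apply hfixvz x hx
  have h1 := hinvz x hx
  have h2 := hinvv x⁻¹ (X.inv_mem hx)
  rw [inv_inv] at h2
  have h3 : (v * z) * x * (v * z)⁻¹ = x := by
    calc (v * z) * x * (v * z)⁻¹ = v * (z * x * z⁻¹) * v⁻¹ := by group
      _ = x := by rw [h1, h2]
  calc x * (v * z) = ((v * z) * x * (v * z)⁻¹) * (v * z) := by rw [h3]
    _ = (v * z) * x := by group

end Cfsg.Agent.S3246
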