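import Mathlib
import Cfsg.Statements.S3277
import Cfsg.Agent.Lib.KleinCentB

set_option autoImplicit false
open Cfsg

namespace Cfsg.Agent.S3277

open Cfsg.Agent.Lib.KleinCent in
/-- Let G be a finite group containing an involution whose centralizer is elementary abelian of order 4. If G has no normal 2-complement and no normal elementary abelian 2-subgroup of order 2 or 4, then G is isomorphic to the alternating group of degree 5 (that is, to PSL(2, 5)). -/
theorem result {G : Type*} [Group G] [Finite G] (x : G) (hx : orderOf x = 2)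
    (hC4 : Nat.card ↥(Subgroup.centralizer ({x} : Set G)) = 4) (hCe : ∀ c ∈ Subgroup.centralizer ({x} : Set G), c ^ 2 = 1)
    (hnc : ¬ Cfsg.HasNormalPComplement 2 G)
    (hne : ∀ E : Subgroup G, E.Normal → Cfsg.IsElementaryAbelian 2 E → Nat.card ↥E ≠ 2 ∧ Nat.card ↥E ≠ 4) :
    Nonempty (G ≃* ↥(alternatingGroup (Fin 5))) := by
  have hp : IsPGroup 2 (Cn x) := by
    refine IsPGroup.of_card (n := 2) ?_
    rw [hC4]; norm_num
  obtain ⟨T, hVT⟩ := hp.exists_le_sylow
  have hle : 4 ≤ Nat.card (T : Subgroup G) := by
    rw [← hC4]
    exact Subgroup.card_le_of_le hVT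
  rcases hle.lt_or_eq with hlt | heq
  · obtain ⟨z, hz⟩ := exists_PA hx hC4 hCe T hVT hlt
    exact (hz.no_normal (fun E hE hEe => hne E hE hEe)).elim
  · have hT : (T : Subgroup G) = Cn x := by
      symm
      apply Subgroup.eq_of_le_of_card_ge hVT
      rw [hC4, heq]
    have hPB : PB G := PB.of_hyp T hx hT hC4 hCe hnc
    apply hPB.iso_A5
    by_contra hn
    have hn1 : Nat.card (Sylow 2 G) = 1 := by
      have : 0 < Nat.card (Sylow 2 G) := Nat.card_pos
      omega
    -- `T` is normal
    have hnor : (T : Subgroup G).Normal := by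
      apply Subgroup.normalizer_eq_top_iff.mp
      rw [eq_top_iff]
      intro g _
      have : Subsingleton (Sylow 2 G) := (Nat.card_eq_one_iff_unique.mp hn1).1
      apply mem_Nm_iff.mpr
      exact Subsingleton.elim _ _
    have hEl : Cfsg.IsElementaryAbelian 2 (T : Subgroup G) := by
      constructor
      · constructor
        constructor
        rintro ⟨a, ha⟩ ⟨b, hb⟩
        apply Subtype.ext
        rw [hT] at ha hb
        exact comm_of_exp_two hCe ha hb
      · intro a ha
        rw [hT] at ha
        exact hCe a ha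
    exact (hne _ hnor hEl).2 heq.symm

end Cfsg.Agent.S3277
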