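import Mathlib
import Cfsg.Statements.S0494
import Cfsg.Agent.Lib.SmallGroups2

set_option autoImplicit false
set_option linter.style.haveILetI false
open Cfsg

namespace Cfsg.Agent.S0494

open Cfsg.Agent.Lib.SmallGroups2 Cfsg.Agent.Lib.SmallGroups

variable {G : Type*} [Group G] [Finite G]

theorem embed_of_index [IsSimpleGroup G] (hna : ¬ IsMulCommutative G) (H : Subgroup G) (k : ℕ)
    (hk : H.index = k) (hH : H ≠ ⊤) : ∃ f : G →* alternatingGroup (Fin k), Function.Injective f := by
  subst hk
  exact exists_embedding_alternating hna H hH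

/-- Embed a group of order 60 acting faithfully into `A₅`. -/
theorem iso_of_index [IsSimpleGroup G] (h : Nat.card G = 60) (hna : ¬ IsMulCommutative G) (H : Subgroup G)
    (hi : H.index = 5) : Nonempty (G ≃* alternatingGroup (Fin 5)) := by
  have hH : H ≠ ⊤ := by
    rintro rfl
    simp at hi
  obtain ⟨f, hf⟩ := embed_of_index hna H 5 hi hH
  have hcard : Nat.card G = Nat.card (alternatingGroup (Fin 5)) := by
    rw [h, Nat.card_eq_fintype_card]
    decide +kernel
  exact ⟨MulEquiv.ofBijective f ((Nat.bijective_iff_injective_and_card f).mpr ⟨hf, hcard⟩)⟩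

/-- Two distinct Sylow `2`-subgroups intersect nontrivially. -/
theorem exists_inter [IsSimpleGroup G] (h : Nat.card G = 60) (hna : ¬ IsMulCommutative G)
    (hn2 : Nat.card (Sylow 2 G) = 15) :
    ∃ P Q : Sylow 2 G, P ≠ Q ∧ ∃ x : G, x ≠ 1 ∧ x ∈ (P : Subgroup G) ∧ x ∈ (Q : Subgroup G) := by
  classical
  by_contra hcon
  push Not at hcon
  haveI : Fact (Nat.Prime 5) := ⟨by norm_num⟩
  have h5 : Nat.card (Sylow 5 G) ∈ (Nat.divisors 12).filter (fun n => n % 5 = 1 % 5) :=
    card_sylow_mem_filter (p := 5) (a := 1) (m := 12) (by rw [h]; norm_num) (by norm_num) (by norm_num)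
  have h5' : Nat.card (Sylow 5 G) ≠ 1 := card_sylow_ne_one hna (by rw [h]; norm_num)
  have h56 : Nat.card (Sylow 5 G) = 6 := by
    have e : (Nat.divisors 12).filter (fun n => n % 5 = 1 % 5) = {1, 6} := by decide +kernel
    rw [e] at h5
    simp only [Finset.mem_insert, Finset.mem_singleton] at h5
    tauto
  have hc5 : Nat.card {g : G // orderOf g = 5} = 24 := by
    rw [card_orderOf_eq_prime (p := 5), h56]
    intro P
    have := sylow_card_of_card_eq (p := 5) (a := 1) (m := 12) (G := G) (by rw [h]; norm_num) (by norm_num) P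
    simpa using this
  have hP4 : ∀ P : Sylow 2 G, Nat.card (P : Subgroup G) = 4 := by
    intro P
    have := sylow_card_of_card_eq (p := 2) (a := 2) (m := 15) (G := G) (by rw [h]; norm_num) (by norm_num) P
    simpa using this
  haveI : Fintype (Sylow 2 G) := Fintype.ofFinite _
  let F : ((Σ P : Sylow 2 G, {x : (P : Subgroup G) // x ≠ 1}) ⊕ {g : G // orderOf g = 5}) ⊕ Unit → G :=
    fun a => match a with
      | Sum.inl (Sum.inl a) => (a.2.1 : G)
      | Sum.inl (Sum.inr b) => (b : G)
      | Sum.inr _ => 1
  have hord : ∀ (P : Sylow 2 G) (x : (P : Subgroup G)), orderOf (x : G) ≠ 5 := by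
    intro P x hx
    have h1 : orderOf x ∣ 4 := by
      rw [← hP4 P]
      exact orderOf_dvd_natCard x
    rw [Subgroup.orderOf_coe] at hx
    rw [hx] at h1
    revert h1
    decide
  have hF : Function.Injective F := by
    rintro (⟨⟨P, x, hx⟩ | ⟨b, hb⟩⟩ | ⟨⟩) (⟨⟨Q, y, hy⟩ | ⟨c, hc⟩⟩ | ⟨⟩) hab
    · simp only [F] at hab
      have hx' : (x : G) ≠ 1 := fun h => hx (Subtype.ext h)
      have hPQ : P = Q := by
        by_contra hne
        exact hcon P Q hne x hx' x.2 (hab ▸ y.2)
      subst hPQ
      have : x = y := Subtype.ext hab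
      subst this
      rfl
    · simp only [F] at hab
      exact absurd (hab ▸ hc) (hord P x)
    · simp only [F] at hab
      exact absurd (Subtype.ext hab) hx
    · simp only [F] at hab
      exact absurd (hab ▸ hb) (hord Q y)
    · simp only [F] at hab
      subst hab
      rfl
    · simp only [F] at hab
      subst hab
      simp at hb
    · simp only [F] at hab
      exact absurd (Subtype.ext hab.symm) hy
    · simp only [F] at hab
      subst hab
      simp at hc
    · rfl
  have h1 := Nat.card_le_card_of_injective F hF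
  rw [Nat.card_sum, Nat.card_sum, Nat.card_sigma, hc5, h] at h1
  have h2 : ∀ Q : Sylow 2 G, Nat.card {g : (Q : Subgroup G) // g ≠ 1} = 3 := by
    intro Q
    haveI : Fintype (Q : Subgroup G) := Fintype.ofFinite _
    have h3 : Fintype.card {x : (Q : Subgroup G) // x ≠ 1} = Fintype.card (Q : Subgroup G) - 1 :=
      Set.card_ne_eq (1 : (Q : Subgroup G))
    rw [Nat.card_eq_fintype_card, h3, ← Nat.card_eq_fintype_card, hP4 Q]
  simp_rw [h2] at h1
  rw [Finset.sum_const, Finset.card_univ, smul_eq_mul, ← Nat.card_eq_fintype_card, hn2] at h1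
  simp at h1

/-- A simple group of order 60 is isomorphic to the alternating group of degree 5. -/
theorem result {G : Type*} [Group G] [Finite G] [IsSimpleGroup G]
    (h : Nat.card G = 60) : Nonempty (G ≃* alternatingGroup (Fin 5)) := by
  classical
  have hna : ¬ IsMulCommutative G := by
    apply not_isMulCommutative_of_not_prime
    rw [h]
    norm_num
  haveI : Fact (Nat.Prime 2) := ⟨by norm_num⟩
  have h2 : Nat.card (Sylow 2 G) ∈ (Nat.divisors 15).filter (fun n => n % 2 = 1 % 2) :=
    card_sylow_mem_filter (p := 2) (a := 2) (m := 15) (by rw [h]; norm_num) (by norm_num) (by norm_num)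
  have h2' : Nat.card (Sylow 2 G) ≠ 1 := card_sylow_ne_one hna (by rw [h]; norm_num)
  have h2f : 2 * Nat.card G ∣ (Nat.card (Sylow 2 G)).factorial :=
    two_mul_card_dvd_factorial_card_sylow hna (by rw [h]; norm_num)
  have e : (Nat.divisors 15).filter (fun n => n % 2 = 1 % 2) = {1, 3, 5, 15} := by decide +kernel
  rw [e] at h2
  simp only [Finset.mem_insert, Finset.mem_singleton] at h2
  rcases h2 with h2 | h2 | h2 | h2
  · exact absurd h2 h2'
  · rw [h2, h] at h2f
    exact absurd h2f (by decide)
  · obtain ⟨P⟩ := (inferInstance : Nonempty (Sylow 2 G))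
    refine iso_of_index h hna (Subgroup.normalizer ((P : Subgroup G) : Set G)) ?_
    have hidx : Nat.card (Sylow 2 G) = (Subgroup.normalizer ((P : Subgroup G) : Set G)).index :=
      Sylow.card_eq_index_normalizer P
    rw [← hidx, h2]
  · obtain ⟨P, Q, hne, x, hx1, hxP, hxQ⟩ := exists_inter h hna h2
    have hP4 : ∀ P : Sylow 2 G, Nat.card (P : Subgroup G) = 4 := by
      intro P
      have := sylow_card_of_card_eq (p := 2) (a := 2) (m := 15) (G := G) (by rw [h]; norm_num) (by norm_num) P
      simpa using this
    have hab : ∀ P : Sylow 2 G, ∀ a ∈ (P : Subgroup G), ∀ b ∈ (P : Subgroup G), a * b = b * a := by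
      intro P a ha b hb
      have hc : IsMulCommutative (P : Subgroup G) := by
        have h4 : Nat.card (P : Subgroup G) = 2 ^ 2 := by rw [hP4]; norm_num
        exact IsPGroup.isMulCommutative_of_card_eq_prime_sq (p := 2) h4
      exact congrArg Subtype.val (hc.is_comm.comm ⟨a, ha⟩ ⟨b, hb⟩)
    let C := Subgroup.centralizer ({x} : Set G)
    have hPC : ∀ P : Sylow 2 G, x ∈ (P : Subgroup G) → (P : Subgroup G) ≤ C := by
      intro P hx y hy
      rw [Subgroup.mem_centralizer_iff]
      intro z hz
      rw [Set.mem_singleton_iff.mp hz]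
      exact hab P x hx y hy
    have hd4 : 4 ∣ Nat.card C := by
      rw [← hP4 P]
      exact Subgroup.card_dvd_of_le (hPC P hxP)
    have hdC : Nat.card C ∣ 60 := by
      rw [← h]
      exact Subgroup.card_subgroup_dvd_card C
    have hC4 : Nat.card C ≠ 4 := by
      intro hc
      have e1 : (P : Subgroup G) = C := Subgroup.eq_of_le_of_card_ge (hPC P hxP) (by rw [hc, hP4])
      have e2 : (Q : Subgroup G) = C := Subgroup.eq_of_le_of_card_ge (hPC Q hxQ) (by rw [hc, hP4])
      exact hne (Sylow.ext (e1.trans e2.symm))
    have hidx := Subgroup.card_mul_index C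
    rw [h] at hidx
    have hC : Nat.card C = 12 ∨ Nat.card C = 20 ∨ Nat.card C = 60 := by
      have hmem : Nat.card C ∈ (Nat.divisors 60).filter (fun d => 4 ∣ d ∧ d ≠ 4) := by
        rw [Finset.mem_filter, Nat.mem_divisors]
        exact ⟨⟨hdC, by norm_num⟩, hd4, hC4⟩
      have e : (Nat.divisors 60).filter (fun d => 4 ∣ d ∧ d ≠ 4) = {12, 20, 60} := by decide +kernel
      rw [e] at hmem
      simpa using hmem
    rcases hC with hC | hC | hC
    · rw [hC] at hidx
      exact iso_of_index h hna C (by omega)
    · exfalso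
      rw [hC] at hidx
      have hi3 : C.index = 3 := by omega
      have hne_top : C ≠ ⊤ := by
        intro ht
        rw [ht] at hi3
        simp at hi3
      have := two_mul_card_dvd_factorial_index hna C hne_top
      rw [hi3, h] at this
      exact absurd this (by decide)
    · exfalso
      rw [hC] at hidx
      have hi1 : C.index = 1 := by omega
      have htop : C = ⊤ := Subgroup.index_eq_one.mp hi1
      apply hna
      have hx : ∀ g : G, g * x = x * g := by
        intro g
        have hg : g ∈ C := by rw [htop]; trivial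
        exact ((Subgroup.mem_centralizer_iff.mp hg) x rfl).symm
      have hxc : x ∈ Subgroup.center G := by
        rw [Subgroup.mem_center_iff]
        exact hx
      have hcen : Subgroup.center G = ⊤ := by
        rcases (inferInstance : (Subgroup.center G).Normal).eq_bot_or_eq_top with hb | ht
        · rw [hb] at hxc
          exact absurd (Subgroup.mem_bot.mp hxc) hx1
        · exact ht
      exact ⟨⟨fun a b => by
        have : a ∈ Subgroup.center G := by rw [hcen]; trivial
        exact (Subgroup.mem_center_iff.mp this b).symm⟩⟩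

end Cfsg.Agent.S0494
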