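import Mathlib
import Cfsg.Statements.S3377
import Cfsg.Agent.Lib.SmallTC

set_option autoImplicit false
set_option linter.style.haveILetI false
open Cfsg

namespace Cfsg.Agent.S3377

open Cfsg.Agent.Lib.SmallTC

/-- coset table -/
def tb : List (List ℕ) := [[1,2],[3,4],[5,6],[0,7],[8,9],[10,3],[11,12],[13,14],[15,0],[16,17],[2,18],[19,10],[20,8],[21,1],[22,23],[4,24],[25,15],[26,13],[23,27],[6,28],[24,19],[7,29],[30,21],[31,5],[12,32],[9,33],[29,25],[34,35],[35,36],[17,37],[14,38],[18,30],[39,40],[40,41],[42,31],[43,11],[44,39],[45,46],[46,47],[48,20],[49,16],[50,45],[27,51],[28,42],[52,43],[53,26],[54,22],[55,34],[32,52],[33,48],[56,49],[47,57],[36,58],[37,56],[38,53],[51,54],[41,59],[59,44],[57,50],[58,55]]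
/-- representatives -/
def wd : List (List ℕ) := [[],[0],[1],[0,0],[0,1],[1,0],[1,1],[0,0,1],[0,1,0],[0,1,1],[1,0,0],[1,1,0],[1,1,1],[0,0,1,0],[0,0,1,1],[0,1,0,0],[0,1,1,0],[0,1,1,1],[1,0,0,1],[1,1,0,0],[1,1,1,0],[0,0,1,0,0],[0,0,1,1,0],[0,0,1,1,1],[0,1,0,0,1],[0,1,1,0,0],[0,1,1,1,0],[1,0,0,1,1],[1,1,0,0,1],[0,0,1,0,0,1],[0,0,1,1,0,0],[0,0,1,1,1,0],[0,1,0,0,1,1],[0,1,1,0,0,1],[1,0,0,1,1,0],[1,0,0,1,1,1],[1,1,0,0,1,1],[0,0,1,0,0,1,1],[0,0,1,1,0,0,1],[0,1,0,0,1,1,0],[0,1,0,0,1,1,1],[0,1,1,0,0,1,1],[1,0,0,1,1,0,0],[1,0,0,1,1,1,0],[1,1,0,0,1,1,0],[0,0,1,0,0,1,1,0],[0,0,1,0,0,1,1,1],[0,0,1,1,0,0,1,1],[0,1,0,0,1,1,0,0],[0,1,0,0,1,1,1,0],[0,1,1,0,0,1,1,0],[1,0,0,1,1,0,0,1],[1,1,0,0,1,1,0,0],[0,0,1,0,0,1,1,0,0],[0,0,1,0,0,1,1,1,0],[0,0,1,1,0,0,1,1,0],[0,1,1,0,0,1,1,0,0],[1,0,0,1,1,0,0,1,1],[1,1,0,0,1,1,0,0,1],[0,1,1,0,0,1,1,0,0,1]]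
/-- relators -/
def rl : List (List ℕ) := [[0,0,0],[1,1,1,1,1],[0,1,0,1]]
/-- tree edges -/
def tr : List (ℕ × ℕ) := [(0,0),(0,1),(1,0),(1,1),(2,0),(2,1),(3,1),(4,0),(4,1),(5,0),(6,0),(6,1),(7,0),(7,1),(8,0),(9,0),(9,1),(10,1),(11,0),(12,0),(13,0),(14,0),(14,1),(15,1),(16,0),(17,0),(18,1),(19,1),(21,1),(22,0),(23,0),(24,1),(25,1),(27,0),(27,1),(28,1),(29,1),(30,1),(32,0),(32,1),(33,1),(34,0),(35,0),(36,0),(37,0),(37,1),(38,1),(39,0),(40,0),(41,0),(42,1),(44,0),(45,0),(46,0),(47,0),(50,0),(51,1),(52,1),(56,1)]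
/-- scans -/
def sc : List (ℕ × ℕ) := [(0,0),(2,0),(4,0),(6,0),(7,0),(9,0),(14,0),(27,0),(32,0),(36,0),(37,0),(41,0),(0,2),(1,2),(2,2),(6,2),(9,2),(12,2),(14,2),(17,2),(23,2),(35,2),(40,2),(46,2),(0,1),(1,1),(3,1),(10,1),(15,1),(21,1),(5,2),(8,2),(11,2),(13,2),(16,2),(22,2),(12,0),(17,0),(18,0),(28,0),(33,0),(38,0),(20,2),(26,2),(27,2),(36,2),(41,2),(47,2),(19,1),(25,1),(30,1),(42,1),(34,2),(39,2),(44,2),(45,2),(47,0),(48,1),(53,1),(50,2),(55,2)]

theorem tc_ok : check (tbl tb) (nth [] wd) (nth [] rl) 3 60 2 tr sc = true := by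
  decide +kernel

/-- the relators of the statement -/
abbrev rels : Set (FreeGroup (Fin 2)) :=
  {FreeGroup.of (0 : Fin 2) ^ 3, FreeGroup.of (1 : Fin 2) ^ 5,
    (FreeGroup.of (0 : Fin 2) * FreeGroup.of 1) ^ 2}

/-- the presented group -/
abbrev P := PresentedGroup rels

/-- generators -/
def gg : ℕ → P
  | 0 => PresentedGroup.of 0
  | 1 => PresentedGroup.of 1
  | _ => 1

theorem g0 : gg 0 ^ 3 = 1 := by
  have : PresentedGroup.mk rels (FreeGroup.of 0 ^ 3) = 1 := PresentedGroup.one_of_mem (by simp [rels])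
  simpa [gg, PresentedGroup.of] using this

theorem g1 : gg 1 ^ 5 = 1 := by
  have : PresentedGroup.mk rels (FreeGroup.of 1 ^ 5) = 1 := PresentedGroup.one_of_mem (by simp [rels])
  simpa [gg, PresentedGroup.of] using this

theorem g01 : (gg 0 * gg 1) ^ 2 = 1 := by
  have : PresentedGroup.mk rels ((FreeGroup.of 0 * FreeGroup.of 1) ^ 2) = 1 :=
    PresentedGroup.one_of_mem (by simp [rels])
  simpa [gg, PresentedGroup.of] using this

theorem ev_rl (r : ℕ) : ev gg (nth [] rl r) = 1 := by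
  match r with
  | 0 =>
    have := g0
    simp only [pow_succ, pow_zero, one_mul] at this
    simp [rl, nth, ev, mul_assoc] at this ⊢
    exact this
  | 1 =>
    have := g1
    simp only [pow_succ, pow_zero, one_mul] at this
    simp [rl, nth, ev, mul_assoc] at this ⊢
    exact this
  | 2 =>
    have := g01
    simp only [pow_succ, pow_zero, one_mul] at this
    simp [rl, nth, ev, mul_assoc] at this ⊢
    exact this
  | (n + 3) => rfl

theorem card_le : Finite P ∧ Nat.card P ≤ 60 := by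
  have hcl : Subgroup.closure (gg '' {i | i < 2}) = ⊤ := by
    rw [eq_top_iff, ← PresentedGroup.closure_range_of rels, Subgroup.closure_le]
    rintro _ ⟨i, rfl⟩
    apply Subgroup.subset_closure
    fin_cases i
    · exact ⟨0, by simp, rfl⟩
    · exact ⟨1, by simp, rfl⟩
  have hord : ∀ i < 2, ∃ n, (gg i) ^ (n + 1) = 1 := by
    intro i hi
    interval_cases i
    · exact ⟨2, g0⟩
    · exact ⟨4, g1⟩
  have h := finite_card_le_of_check (H := (⊥ : Subgroup P)) (g := gg)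
    (by
      intro j r _
      rw [ev_rl, mul_one, mul_inv_cancel]
      exact Subgroup.one_mem _) tc_ok (pos_words_of_closure hcl hord)
  refine ⟨h.1, ?_⟩
  simpa using h.2

/-- first image -/
def X : alternatingGroup (Fin 5) :=
  ⟨Equiv.swap 2 3 * Equiv.swap 3 4, by rw [Equiv.Perm.mem_alternatingGroup]; decide⟩
/-- second image -/
def Y : alternatingGroup (Fin 5) :=
  ⟨Equiv.swap 0 2 * Equiv.swap 2 4 * Equiv.swap 4 1 * Equiv.swap 1 3,
    by rw [Equiv.Perm.mem_alternatingGroup]; decide⟩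

theorem hX : X ^ 3 = 1 := by decide
theorem hY : Y ^ 5 = 1 := by decide
theorem hXY : (X * Y) ^ 2 = 1 := by decide

/-- the homomorphism onto the alternating group -/
def φ : P →* alternatingGroup (Fin 5) :=
  PresentedGroup.toGroup (f := ![X, Y]) (by
    intro r hr
    simp only [rels, Set.mem_insert_iff, Set.mem_singleton_iff] at hr
    rcases hr with rfl | rfl | rfl
    · simpa using hX
    · simpa using hY
    · simpa using hXY)

theorem φ_surj : Function.Surjective φ := by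
  have hx : X ∈ φ.range := ⟨PresentedGroup.of 0, by simp [φ]⟩
  have hy : Y ∈ φ.range := ⟨PresentedGroup.of 1, by simp [φ]⟩
  have hxy : X * Y ∈ φ.range := φ.range.mul_mem hx hy
  have hcard : Nat.card (alternatingGroup (Fin 5)) = 60 := by
    rw [nat_card_alternatingGroup]; simp; decide
  haveI : Fact (Nat.Prime 5) := ⟨by norm_num⟩
  have oX : orderOf X = 3 := orderOf_eq_prime hX (by decide)
  have oY : orderOf Y = 5 := orderOf_eq_prime hY (by decide)
  have oXY : orderOf (X * Y) = 2 := orderOf_eq_prime hXY (by decide)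
  have d3 : 3 ∣ Nat.card φ.range := by
    have := orderOf_dvd_natCard (⟨X, hx⟩ : φ.range)
    rwa [Subgroup.orderOf_mk, oX] at this
  have d5 : 5 ∣ Nat.card φ.range := by
    have := orderOf_dvd_natCard (⟨Y, hy⟩ : φ.range)
    rwa [Subgroup.orderOf_mk, oY] at this
  have d2 : 2 ∣ Nat.card φ.range := by
    have := orderOf_dvd_natCard (⟨X * Y, hxy⟩ : φ.range)
    rwa [Subgroup.orderOf_mk, oXY] at this
  have hm := φ.range.card_mul_index
  rw [hcard] at hm
  have d30 : 30 ∣ Nat.card φ.range := by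
    have h15 : 15 ∣ Nat.card φ.range := Nat.Coprime.mul_dvd_of_dvd_of_dvd (by norm_num) d3 d5
    exact Nat.Coprime.mul_dvd_of_dvd_of_dvd (by norm_num : Nat.Coprime 2 15) d2 h15
  obtain ⟨c, hc⟩ := d30
  have hi : φ.range.index = 1 ∨ φ.range.index = 2 := by
    rw [hc] at hm
    have h2 : c * φ.range.index = 2 := by
      have : 30 * (c * φ.range.index) = 30 * 2 := by linarith
      exact Nat.eq_of_mul_eq_mul_left (by norm_num) this
    have := Nat.le_of_dvd (by norm_num) (Dvd.intro_left c h2)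
    interval_cases h : φ.range.index <;> omega
  rcases hi with hi | hi
  · exact MonoidHom.range_eq_top.mp (Subgroup.index_eq_one.mp hi)
  · have hn : φ.range.Normal := Subgroup.normal_of_index_eq_two hi
    have hs : IsSimpleGroup (alternatingGroup (Fin 5)) := inferInstance
    rcases hn.eq_bot_or_eq_top with h | h
    · exfalso
      have : X ∈ (⊥ : Subgroup _) := h ▸ hx
      have : X = 1 := by simpa using this
      exact absurd this (by decide)
    · exact MonoidHom.range_eq_top.mp h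

theorem result :
    Nonempty (PresentedGroup ({FreeGroup.of (0 : Fin 2) ^ 3, FreeGroup.of (1 : Fin 2) ^ 5,
        (FreeGroup.of (0 : Fin 2) * FreeGroup.of 1) ^ 2} : Set (FreeGroup (Fin 2))) ≃* alternatingGroup (Fin 5)) := by
  obtain ⟨hfin, hle⟩ := card_le
  have hcard : Nat.card (alternatingGroup (Fin 5)) = 60 := by
    rw [nat_card_alternatingGroup]; simp; decide
  have hbij : Function.Bijective φ := by
    rw [Nat.bijective_iff_surjective_and_card]
    refine ⟨φ_surj, ?_⟩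
    have := Nat.card_le_card_of_surjective φ φ_surj
    omega
  exact ⟨MulEquiv.ofBijective φ hbij⟩

end Cfsg.Agent.S3377
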