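import Mathlib
import Cfsg.Statements.S3378
import Cfsg.Agent.Lib.SmallTC
import Cfsg.Agent.Lib.SLGen
import Cfsg.Agent.Lib.ClassicalSmall
import Cfsg.Agent.Lib.BurnsidePQ
import Cfsg.Agent.S3377
import Cfsg.Agent.S0494

set_option autoImplicit false
set_option linter.unusedSectionVars false
set_option linter.style.haveILetI false
open Cfsg

namespace Cfsg.Agent.S3378

open Cfsg.Agent.Lib.SmallTC
open Matrix

/-- coset table -/
def tb : List (List ℕ) := [[1,2,0],[3,4,1],[5,6,2],[0,7,3],[8,9,4],[10,3,5],[11,12,6],[13,14,7],[15,0,8],[16,17,9],[2,18,10],[19,10,11],[20,8,12],[21,1,13],[22,23,14],[4,24,15],[25,15,16],[26,13,17],[23,27,18],[6,28,19],[24,19,20],[7,29,21],[30,21,22],[31,5,23],[12,32,24],[9,33,25],[29,25,26],[34,35,27],[35,36,28],[17,37,29],[14,38,30],[18,30,31],[39,40,32],[40,41,33],[42,31,34],[43,11,35],[44,39,36],[45,46,37],[46,47,38],[48,20,39],[49,16,40],[50,45,41],[27,51,42],[28,42,43],[52,43,44],[53,26,45],[54,22,46],[55,34,47],[32,52,48],[33,48,49],[56,49,50],[47,57,51],[36,58,52],[37,56,53],[38,53,54],[51,54,55],[41,59,56],[59,44,57],[57,50,58],[58,55,59]]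
/-- representatives -/
def wd : List (List ℕ) := [[],[0],[1],[0,0],[0,1],[1,0],[1,1],[0,0,1],[0,1,0],[0,1,1],[1,0,0],[1,1,0],[1,1,1],[0,0,1,0],[0,0,1,1],[0,1,0,0],[0,1,1,0],[0,1,1,1],[1,0,0,1],[1,1,0,0],[1,1,1,0],[0,0,1,0,0],[0,0,1,1,0],[0,0,1,1,1],[0,1,0,0,1],[0,1,1,0,0],[0,1,1,1,0],[1,0,0,1,1],[1,1,0,0,1],[0,0,1,0,0,1],[0,0,1,1,0,0],[0,0,1,1,1,0],[0,1,0,0,1,1],[0,1,1,0,0,1],[1,0,0,1,1,0],[1,0,0,1,1,1],[1,1,0,0,1,1],[0,0,1,0,0,1,1],[0,0,1,1,0,0,1],[0,1,0,0,1,1,0],[0,1,0,0,1,1,1],[0,1,1,0,0,1,1],[1,0,0,1,1,0,0],[1,0,0,1,1,1,0],[1,1,0,0,1,1,0],[0,0,1,0,0,1,1,0],[0,0,1,0,0,1,1,1],[0,0,1,1,0,0,1,1],[0,1,0,0,1,1,0,0],[0,1,0,0,1,1,1,0],[0,1,1,0,0,1,1,0],[1,0,0,1,1,0,0,1],[1,1,0,0,1,1,0,0],[0,0,1,0,0,1,1,0,0],[0,0,1,0,0,1,1,1,0],[0,0,1,1,0,0,1,1,0],[0,1,1,0,0,1,1,0,0],[1,0,0,1,1,0,0,1,1],[1,1,0,0,1,1,0,0,1],[0,1,1,0,0,1,1,0,0,1]]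
/-- relators -/
def rl : List (List ℕ) := [[0,0,0],[1,1,1,1,1],[2,2],[2,0,2,0,0],[2,1,2,1,1,1,1],[0,1,0,1,2],[2]]
/-- tree edges -/
def tr : List (ℕ × ℕ) := [(0,0),(0,1),(1,0),(1,1),(2,0),(2,1),(3,1),(4,0),(4,1),(5,0),(6,0),(6,1),(7,0),(7,1),(8,0),(9,0),(9,1),(10,1),(11,0),(12,0),(13,0),(14,0),(14,1),(15,1),(16,0),(17,0),(18,1),(19,1),(21,1),(22,0),(23,0),(24,1),(25,1),(27,0),(27,1),(28,1),(29,1),(30,1),(32,0),(32,1),(33,1),(34,0),(35,0),(36,0),(37,0),(37,1),(38,1),(39,0),(40,0),(41,0),(42,1),(44,0),(45,0),(46,0),(47,0),(50,0),(51,1),(52,1),(56,1)]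
/-- scans -/
def sc : List (ℕ × ℕ) := [(0,0),(2,0),(4,0),(6,0),(7,0),(9,0),(14,0),(27,0),(32,0),(36,0),(37,0),(41,0),(0,6),(0,3),(1,3),(0,5),(1,5),(3,5),(4,5),(7,5),(0,1),(1,1),(3,1),(4,3),(7,3),(8,3),(13,3),(0,4),(2,4),(4,4),(5,4),(6,4),(7,4),(9,4),(14,4),(5,5),(6,5),(8,5),(9,5),(10,5),(12,5),(13,5),(14,5),(17,5),(18,5),(19,5),(23,5),(24,5),(25,5),(29,5),(30,5),(12,0),(17,0),(18,0),(10,1),(15,1),(21,1),(6,3),(9,3),(12,3),(14,3),(17,3),(23,3),(18,4),(24,4),(27,4),(29,4),(32,4),(37,4),(11,5),(16,5),(20,5),(22,5),(26,5),(27,5),(28,5),(33,5),(35,5),(38,5),(40,5),(42,5),(46,5),(48,5),(53,5),(28,0),(33,0),(38,0),(19,1),(25,1),(30,1),(27,3),(32,3),(35,3),(37,3),(40,3),(46,3),(28,4),(33,4),(38,4),(34,5),(36,5),(39,5),(41,5),(45,5),(47,5),(51,5),(52,5),(56,5),(47,0),(42,1),(48,1),(53,1),(36,3),(41,3),(47,3),(51,4),(52,4),(56,4),(44,5),(50,5),(55,5)]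

theorem tc_ok : check (tbl tb) (nth [] wd) (nth [] rl) 6 60 3 tr sc = true := by
  decide +kernel

/-- the relators of the statement -/
abbrev rels : Set (FreeGroup (Fin 3)) :=
  {FreeGroup.of (0 : Fin 3) ^ 3, FreeGroup.of (1 : Fin 3) ^ 5, FreeGroup.of (2 : Fin 3) ^ 2,
        (FreeGroup.of (2 : Fin 3))⁻¹ * FreeGroup.of 0 * FreeGroup.of 2 * (FreeGroup.of (0 : Fin 3))⁻¹,
        (FreeGroup.of (2 : Fin 3))⁻¹ * FreeGroup.of 1 * FreeGroup.of 2 * (FreeGroup.of (1 : Fin 3))⁻¹,
        (FreeGroup.of (0 : Fin 3) * FreeGroup.of 1) ^ 2 * (FreeGroup.of (2 : Fin 3))⁻¹}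

/-- the presented group -/
abbrev P := PresentedGroup rels

/-- generators -/
def gg : ℕ → P
  | 0 => PresentedGroup.of 0
  | 1 => PresentedGroup.of 1
  | 2 => PresentedGroup.of 2
  | _ => 1

theorem r1 : gg 0 ^ 3 = 1 := by
  have : PresentedGroup.mk rels (FreeGroup.of 0 ^ 3) = 1 := PresentedGroup.one_of_mem (by simp [rels])
  simpa [gg, PresentedGroup.of] using this

theorem r2 : gg 1 ^ 5 = 1 := by
  have : PresentedGroup.mk rels (FreeGroup.of 1 ^ 5) = 1 := PresentedGroup.one_of_mem (by simp [rels])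
  simpa [gg, PresentedGroup.of] using this

theorem r3 : gg 2 ^ 2 = 1 := by
  have : PresentedGroup.mk rels (FreeGroup.of 2 ^ 2) = 1 := PresentedGroup.one_of_mem (by simp [rels])
  simpa [gg, PresentedGroup.of] using this

theorem r4 : (gg 2)⁻¹ * gg 0 * gg 2 * (gg 0)⁻¹ = 1 := by
  have : PresentedGroup.mk rels ((FreeGroup.of 2)⁻¹ * FreeGroup.of 0 * FreeGroup.of 2 * (FreeGroup.of 0)⁻¹) = 1 :=
    PresentedGroup.one_of_mem (by simp [rels])
  simpa [gg, PresentedGroup.of] using this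

theorem r5 : (gg 2)⁻¹ * gg 1 * gg 2 * (gg 1)⁻¹ = 1 := by
  have : PresentedGroup.mk rels ((FreeGroup.of 2)⁻¹ * FreeGroup.of 1 * FreeGroup.of 2 * (FreeGroup.of 1)⁻¹) = 1 :=
    PresentedGroup.one_of_mem (by simp [rels])
  simpa [gg, PresentedGroup.of] using this

theorem r6 : (gg 0 * gg 1) ^ 2 * (gg 2)⁻¹ = 1 := by
  have : PresentedGroup.mk rels ((FreeGroup.of 0 * FreeGroup.of 1) ^ 2 * (FreeGroup.of 2)⁻¹) = 1 :=
    PresentedGroup.one_of_mem (by simp [rels])
  simpa [gg, PresentedGroup.of] using this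

theorem hz_inv : (gg 2)⁻¹ = gg 2 := by
  have := r3
  rw [pow_two] at this
  exact inv_eq_of_mul_eq_one_left this

theorem hx_inv : (gg 0)⁻¹ = gg 0 * gg 0 := by
  have := r1
  simp only [pow_succ, pow_zero, one_mul] at this
  exact inv_eq_of_mul_eq_one_left this

theorem hy_inv : (gg 1)⁻¹ = gg 1 * gg 1 * gg 1 * gg 1 := by
  have := r2
  simp only [pow_succ, pow_zero, one_mul] at this
  exact inv_eq_of_mul_eq_one_left this

theorem ev_rl (r : ℕ) (h : r < 6) : ev gg (nth [] rl r) = 1 := by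
  match r, h with
  | 0, _ =>
    have := r1
    simp only [pow_succ, pow_zero, one_mul] at this
    simp [rl, nth, ev, mul_assoc] at this ⊢
    exact this
  | 1, _ =>
    have := r2
    simp only [pow_succ, pow_zero, one_mul] at this
    simp [rl, nth, ev, mul_assoc] at this ⊢
    exact this
  | 2, _ =>
    have := r3
    simp only [pow_succ, pow_zero, one_mul] at this
    simp [rl, nth, ev] at this ⊢
    exact this
  | 3, _ =>
    have := r4
    rw [hz_inv, hx_inv] at this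
    simp [rl, nth, ev, mul_assoc] at this ⊢
    exact this
  | 4, _ =>
    have := r5
    rw [hz_inv, hy_inv] at this
    simp [rl, nth, ev, mul_assoc] at this ⊢
    exact this
  | 5, _ =>
    have := r6
    rw [hz_inv] at this
    simp only [pow_succ, pow_zero, one_mul] at this
    simp [rl, nth, ev, mul_assoc] at this ⊢
    exact this

theorem wd0 : nth [] wd 0 = [] := rfl

theorem card_le : Finite P ∧ Nat.card P ≤ 120 := by
  have hcl : Subgroup.closure (gg '' {i | i < 3}) = ⊤ := by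
    rw [eq_top_iff, ← PresentedGroup.closure_range_of rels, Subgroup.closure_le]
    rintro _ ⟨i, rfl⟩
    apply Subgroup.subset_closure
    fin_cases i
    · exact ⟨0, by simp, rfl⟩
    · exact ⟨1, by simp, rfl⟩
    · exact ⟨2, by simp, rfl⟩
  have hord : ∀ i < 3, ∃ n, (gg i) ^ (n + 1) = 1 := by
    intro i hi
    interval_cases i
    · exact ⟨2, r1⟩
    · exact ⟨4, r2⟩
    · exact ⟨1, r3⟩
  have hfin : Finite (Subgroup.zpowers (gg 2)) := by
    have : IsOfFinOrder (gg 2) := isOfFinOrder_iff_pow_eq_one.mpr ⟨2, by norm_num, r3⟩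
    exact Nat.finite_of_card_ne_zero (by
      rw [Nat.card_zpowers]
      exact (orderOf_pos_iff.mpr this).ne')
  have h := finite_card_le_of_check (H := Subgroup.zpowers (gg 2)) (g := gg)
    (by
      intro j r hr
      by_cases h6 : r < 6
      · rw [ev_rl r h6, mul_one, mul_inv_cancel]
        exact Subgroup.one_mem _
      · have hj : j = 0 := by omega
        subst hj
        rw [wd0]
        simp only [ev_nil, one_mul, inv_one, mul_one]
        by_cases h6' : r = 6
        · subst h6'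
          have : ev gg (nth [] rl 6) = gg 2 := by simp [rl, nth]
          rw [this]
          exact Subgroup.mem_zpowers _
        · have : nth [] rl r = [] := by
            match r, h6, h6' with
            | 0, h, _ => omega
            | 1, h, _ => omega
            | 2, h, _ => omega
            | 3, h, _ => omega
            | 4, h, _ => omega
            | 5, h, _ => omega
            | 6, _, h => omega
            | (n + 7), _, _ => rfl
          rw [this]
          exact Subgroup.one_mem _) tc_ok (pos_words_of_closure hcl hord)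
  refine ⟨h.1, h.2.trans ?_⟩
  rw [Nat.card_zpowers]
  have : orderOf (gg 2) ≤ 2 := orderOf_le_of_pow_eq_one (by norm_num) r3
  omega

/-- Groups of order 120 generated by three elements with the relations are isomorphic to `P`. -/
theorem iso_of_gens {A : Type*} [Group A] [Finite A] (hA : Nat.card A = 120) (x y z : A)
    (h1 : x ^ 3 = 1) (h2 : y ^ 5 = 1) (h3 : z ^ 2 = 1) (h4 : z⁻¹ * x * z * x⁻¹ = 1)
    (h5 : z⁻¹ * y * z * y⁻¹ = 1) (h6 : (x * y) ^ 2 * z⁻¹ = 1)
    (hgen : ∀ I : Subgroup A, x ∈ I → y ∈ I → z ∈ I → I = ⊤) :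
    Nonempty (P ≃* A) := by
  obtain ⟨hfin, hle⟩ := card_le
  let φ : P →* A := PresentedGroup.toGroup (f := ![x, y, z]) (by
    intro r hr
    simp only [rels, Set.mem_insert_iff, Set.mem_singleton_iff] at hr
    rcases hr with rfl | rfl | rfl | rfl | rfl | rfl
    · simpa using h1
    · simpa using h2
    · simpa using h3
    · simpa using h4
    · simpa using h5
    · simpa using h6)
  have hs : Function.Surjective φ := by
    apply MonoidHom.range_eq_top.mp
    apply hgen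
    · exact ⟨PresentedGroup.of 0, by simp [φ]⟩
    · exact ⟨PresentedGroup.of 1, by simp [φ]⟩
    · exact ⟨PresentedGroup.of 2, by simp [φ]⟩
  have hbij : Function.Bijective φ := by
    rw [Nat.bijective_iff_surjective_and_card]
    refine ⟨hs, ?_⟩
    have := Nat.card_le_card_of_surjective φ hs
    omega
  exact ⟨MulEquiv.ofBijective φ hbij⟩

instance fact5 : Fact (Nat.Prime 5) := ⟨by norm_num⟩

/-- generators of `SL(2,5)` -/
def X : SpecialLinearGroup (Fin 2) (ZMod 5) := ⟨!![0, 4; 1, 4], by decide +kernel⟩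
/-- generators of `SL(2,5)` -/
def Y : SpecialLinearGroup (Fin 2) (ZMod 5) := ⟨!![1, 1; 0, 1], by decide +kernel⟩
/-- generators of `SL(2,5)` -/
def Z : SpecialLinearGroup (Fin 2) (ZMod 5) := ⟨!![4, 0; 0, 4], by decide +kernel⟩

/-- lower generator -/
def L : SpecialLinearGroup (Fin 2) (ZMod 5) := ⟨!![1, 0; 4, 1], by decide +kernel⟩

theorem hL : X * Y * Y * (X * Y * (X * Y) * (X * Y)) = L := by decide +kernel

theorem Y_pow (n : ℕ) : ((Y ^ n : SpecialLinearGroup (Fin 2) (ZMod 5)) : Matrix (Fin 2) (Fin 2) (ZMod 5))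
    = !![1, (n : ZMod 5); 0, 1] := by
  induction n with
  | zero => simp [Matrix.one_fin_two]
  | succ n ih =>
    have h1 : ((Y ^ (n + 1) : SpecialLinearGroup (Fin 2) (ZMod 5)) : Matrix (Fin 2) (Fin 2) (ZMod 5))
        = ((Y ^ n : SpecialLinearGroup (Fin 2) (ZMod 5)) : Matrix (Fin 2) (Fin 2) (ZMod 5)) * Y.1 := by
      rw [pow_succ]; rfl
    rw [h1, ih]
    simp [Y]
    ring

theorem L_pow (n : ℕ) : ((L ^ n : SpecialLinearGroup (Fin 2) (ZMod 5)) : Matrix (Fin 2) (Fin 2) (ZMod 5))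
    = !![1, 0; -(n : ZMod 5), 1] := by
  induction n with
  | zero => simp [Matrix.one_fin_two]
  | succ n ih =>
    have h1 : ((L ^ (n + 1) : SpecialLinearGroup (Fin 2) (ZMod 5)) : Matrix (Fin 2) (Fin 2) (ZMod 5))
        = ((L ^ n : SpecialLinearGroup (Fin 2) (ZMod 5)) : Matrix (Fin 2) (Fin 2) (ZMod 5)) * L.1 := by
      rw [pow_succ]; rfl
    rw [h1, ih]
    have h4 : (4 : ZMod 5) = -1 := by decide
    simp [L, h4]
    ring

theorem fin2_cases (i j : Fin 2) (h : i ≠ j) : (i = 0 ∧ j = 1) ∨ (i = 1 ∧ j = 0) := by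
  revert i j; decide

theorem tr01 (h : (0 : Fin 2) ≠ 1) (c : ZMod 5) : SpecialLinearGroup.transvection h c = Y ^ c.val := by
  apply Subtype.ext
  rw [Y_pow]
  change Matrix.transvection 0 1 c = _
  ext a b
  fin_cases a <;> fin_cases b <;> simp [Matrix.transvection, Matrix.single]

theorem tr10 (h : (1 : Fin 2) ≠ 0) (c : ZMod 5) : SpecialLinearGroup.transvection h c = L ^ (-c).val := by
  apply Subtype.ext
  rw [L_pow]
  change Matrix.transvection 1 0 c = _
  ext a b
  fin_cases a <;> fin_cases b <;> simp [Matrix.transvection, Matrix.single]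

theorem SL5_gen (I : Subgroup (SpecialLinearGroup (Fin 2) (ZMod 5))) (hx : X ∈ I) (hy : Y ∈ I) :
    I = ⊤ := by
  refine Cfsg.Agent.Lib.SLGen.eq_top_of_forall_transvection_mem (n := Fin 2) (K := ZMod 5) I ?_
  have hLm : L ∈ I := by
    rw [← hL]
    have hxy : X * Y ∈ I := I.mul_mem hx hy
    exact I.mul_mem (I.mul_mem hxy hy) (I.mul_mem (I.mul_mem hxy hxy) hxy)
  intro i j hij c
  rcases fin2_cases i j hij with ⟨rfl, rfl⟩ | ⟨rfl, rfl⟩
  · rw [tr01]
    exact I.pow_mem hy _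
  · rw [tr10]
    exact I.pow_mem hLm _

theorem SL5_card : Nat.card (SpecialLinearGroup (Fin 2) (ZMod 5)) = 120 := by
  rw [Cfsg.Agent.Lib.ClassicalSmall.card_SL2, ZMod.card]

theorem part2 : Nonempty (P ≃* SpecialLinearGroup (Fin 2) (ZMod 5)) := by
  refine iso_of_gens SL5_card X Y Z (by decide +kernel) (by decide +kernel) (by decide +kernel)
    (by decide +kernel) (by decide +kernel) (by decide +kernel) ?_
  intro I hx hy _
  exact SL5_gen I hx hy

-- PART1

section part1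

variable {G : Type*} [Group G] [Finite G]

theorem q8_inv : ∀ x : QuaternionGroup 2, x ^ 2 = 1 → x ≠ 1 → x = QuaternionGroup.a 2 := by decide

theorem q8_pow : ∀ x : QuaternionGroup 2, x ≠ 1 → x = QuaternionGroup.a 2 ∨ x ^ 2 = QuaternionGroup.a 2 := by
  decide

theorem inv_unique (hQ : ∀ P : Sylow 2 G, Nonempty ((P : Subgroup G) ≃* QuaternionGroup 2))
    {S : Subgroup G} (hS : IsPGroup 2 S) {s t : G} (hs : s ∈ S) (ht : t ∈ S)
    (os : orderOf s = 2) (ot : orderOf t = 2) : s = t := by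
  obtain ⟨P, hP⟩ := hS.exists_le_sylow
  obtain ⟨e⟩ := hQ P
  have key : ∀ u : G, ∀ hu : u ∈ (P : Subgroup G), orderOf u = 2 → e ⟨u, hu⟩ = QuaternionGroup.a 2 := by
    intro u hu ou
    apply q8_inv
    · have : (⟨u, hu⟩ : (P : Subgroup G)) ^ 2 = 1 := by
        apply Subtype.ext
        simp [← ou, pow_orderOf_eq_one]
      rw [← map_pow, this, map_one]
    · intro h
      have h1 : (⟨u, hu⟩ : (P : Subgroup G)) = 1 := e.injective (by rw [h, map_one])
      have h2 : u = 1 := congrArg Subtype.val h1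
      rw [h2] at ou
      simp at ou
  have h1 := key s (hP hs) os
  have h2 := key t (hP ht) ot
  have h3 := e.injective (h1.trans h2.symm)
  exact congrArg Subtype.val h3

theorem pgroup_zpowers {t : G} (ht : orderOf t = 2) : IsPGroup 2 (Subgroup.zpowers t) :=
  IsPGroup.of_card (n := 1) (by rw [Nat.card_zpowers, ht, pow_one])

theorem commute_eq (hQ : ∀ P : Sylow 2 G, Nonempty ((P : Subgroup G) ≃* QuaternionGroup 2))
    {s t : G} (os : orderOf s = 2) (ot : orderOf t = 2) (hc : Commute s t) : s = t := by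
  have hle : Subgroup.zpowers s ≤ Subgroup.normalizer (Subgroup.zpowers t : Set G) := by
    rw [Subgroup.zpowers_le, Subgroup.mem_normalizer_iff]
    intro h
    constructor
    · rintro ⟨k, rfl⟩
      have : s * t ^ k * s⁻¹ = t ^ k := by
        rw [(hc.zpow_right k).eq]; simp
      rw [this]; exact ⟨k, rfl⟩
    · intro hh
      obtain ⟨k, hk⟩ := hh
      have : h = s⁻¹ * t ^ k * s := by
        have h2 : t ^ k = s * h * s⁻¹ := hk
        rw [h2]; group
      have h3 : s⁻¹ * t ^ k * s = t ^ k := by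
        rw [(hc.inv_left.zpow_right k).eq]; simp
      rw [this, h3]; exact ⟨k, rfl⟩
  have hS := (pgroup_zpowers os).to_sup_of_normal_right' (pgroup_zpowers ot) hle
  exact inv_unique hQ hS (Subgroup.mem_sup_left (Subgroup.mem_zpowers s))
    (Subgroup.mem_sup_right (Subgroup.mem_zpowers t)) os ot

theorem oc (g y : G) : orderOf (g * y * g⁻¹) = orderOf y := by
  simpa using (MulAut.conj g).orderOf_eq y

theorem orbit_stab {H Y : Type*} [Group H] [Finite H] [MulAction H Y] [Finite Y] (y : Y) :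
    Nat.card (MulAction.orbit H y) * Nat.card (MulAction.stabilizer H y) = Nat.card H := by
  classical
  letI : Fintype H := Fintype.ofFinite H
  letI : Fintype Y := Fintype.ofFinite Y
  have := MulAction.card_orbit_mul_card_stabilizer_eq_card_group H y
  simpa [Nat.card_eq_fintype_card] using this

theorem card_dvd_of_free {H Y : Type*} [Group H] [Finite H] [MulAction H Y] [Finite Y]
    (hfree : ∀ (h : H) (y : Y), h • y = y → h = 1) : Nat.card H ∣ Nat.card Y := by
  classical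
  letI : Fintype (MulAction.orbitRel.Quotient H Y) := Fintype.ofFinite _
  rw [Nat.card_congr (MulAction.selfEquivSigmaOrbits H Y), Nat.card_sigma]
  apply Finset.dvd_sum
  intro ω _
  have h1 := orbit_stab (H := H) (Quotient.out ω)
  have h2 : MulAction.stabilizer H (Quotient.out ω) = ⊥ := by
    rw [eq_bot_iff]
    intro h hh
    exact hfree h _ hh
  rw [h2, Subgroup.card_bot, mul_one] at h1
  rw [← h1]

/-- the set of involutions, with conjugation action -/
abbrev Inv (G : Type*) [Group G] := {y : G // orderOf y = 2}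

/-- conjugation action -/
@[reducible] def conjAction : MulAction G (Inv G) where
  smul g y := ⟨g * y.1 * g⁻¹, by rw [oc]; exact y.2⟩
  one_smul y := Subtype.ext (by show 1 * y.1 * 1⁻¹ = y.1; simp)
  mul_smul a b y := Subtype.ext (by show a * b * y.1 * (a * b)⁻¹ = a * (b * y.1 * b⁻¹) * a⁻¹; group)

theorem unique_inv (hcard : Nat.card G = 120)
    (hQ : ∀ P : Sylow 2 G, Nonempty ((P : Subgroup G) ≃* QuaternionGroup 2)) :
    ∃ z : G, orderOf z = 2 ∧ ∀ t : G, orderOf t = 2 → t = z := by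
  classical
  obtain ⟨t, ht⟩ := exists_prime_orderOf_dvd_card' (G := G) 2 (by rw [hcard]; norm_num)
  obtain ⟨Q, hQt⟩ := (pgroup_zpowers ht).exists_le_sylow
  have htQ : t ∈ (Q : Subgroup G) := hQt (Subgroup.mem_zpowers t)
  obtain ⟨e⟩ := hQ Q
  have hQ8 : Nat.card (Q : Subgroup G) = 8 := by
    rw [Nat.card_congr e.toEquiv, Nat.card_eq_fintype_card, QuaternionGroup.card]
  letI := conjAction (G := G)
  have smul_val : ∀ (g : G) (y : Inv G), ((g • y : Inv G) : G) = g * y.1 * g⁻¹ := fun _ _ => rfl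
  let t₀ : Inv G := ⟨t, ht⟩
  -- transitivity
  have htrans : ∀ y : Inv G, ∃ g : G, g • t₀ = y := by
    intro y
    obtain ⟨P, hP⟩ := (pgroup_zpowers y.2).exists_le_sylow
    obtain ⟨g, hg⟩ := MulAction.exists_smul_eq G Q P
    refine ⟨g, Subtype.ext ?_⟩
    rw [smul_val]
    have h1 : g * t * g⁻¹ ∈ (P : Subgroup G) := by
      rw [← hg, Sylow.coe_subgroup_smul]
      exact Subgroup.smul_mem_pointwise_smul t (MulAut.conj g) (Q : Subgroup G) htQ
    exact inv_unique hQ P.isPGroup' h1 (hP (Subgroup.mem_zpowers _))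
      (by rw [oc]; exact ht) y.2
  have horb : Nat.card (MulAction.orbit G t₀) = Nat.card (Inv G) := by
    have : MulAction.orbit G t₀ = Set.univ := by
      ext y
      simp only [Set.mem_univ, iff_true]
      obtain ⟨g, hg⟩ := htrans y
      exact ⟨g, hg⟩
    rw [this, Nat.card_congr (Equiv.Set.univ _)]
  have h1 := orbit_stab (H := G) t₀
  rw [horb, hcard] at h1
  have hQstab : (Q : Subgroup G) ≤ MulAction.stabilizer G t₀ := by
    intro q hq
    rw [MulAction.mem_stabilizer_iff]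
    apply Subtype.ext
    rw [smul_val]
    exact inv_unique hQ Q.isPGroup' (Subgroup.mul_mem _ (Subgroup.mul_mem _ hq htQ) (Subgroup.inv_mem _ hq)) htQ
      (by rw [oc]; exact ht) ht
  have h8 : 8 ∣ Nat.card (MulAction.stabilizer G t₀) := by
    rw [← hQ8]; exact Subgroup.card_dvd_of_le hQstab
  obtain ⟨c, hc⟩ := h8
  have h15 : Nat.card (Inv G) * c = 15 := by
    rw [hc] at h1
    have : 8 * (Nat.card (Inv G) * c) = 8 * 15 := by linarith
    exact Nat.eq_of_mul_eq_mul_left (by norm_num) this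
  -- free action on the rest
  let Y := {y : Inv G // y ≠ t₀}
  have hfix : ∀ q ∈ (Q : Subgroup G), (q • t₀ : Inv G) = t₀ := fun q hq => hQstab hq
  letI : MulAction (Q : Subgroup G) Y :=
    { smul := fun q y => ⟨(q : G) • y.1, fun h => y.2 (by
        have h2 : (q : G) • y.1 = (q : G) • t₀ := by rw [h, hfix _ q.2]
        exact smul_left_cancel _ h2)⟩
      one_smul := fun y => Subtype.ext (one_smul G y.1)
      mul_smul := fun a b y => Subtype.ext (mul_smul (a : G) (b : G) y.1) }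
  have hfree : ∀ (q : (Q : Subgroup G)) (y : Y), q • y = y → q = 1 := by
    intro q y hqy
    by_contra hq1
    have h2 : (q : G) • y.1 = y.1 := congrArg Subtype.val hqy
    have h3 : (q : G) * y.1.1 * (q : G)⁻¹ = y.1.1 := congrArg Subtype.val h2
    have hcq : Commute (q : G) y.1.1 := by
      have : (q : G) * y.1.1 = y.1.1 * q := by
        exact mul_inv_eq_iff_eq_mul.mp h3
      exact this
    -- the involution of Q is a power of q
    have het : e ⟨t, htQ⟩ = QuaternionGroup.a 2 := by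
      apply q8_inv
      · have : (⟨t, htQ⟩ : (Q : Subgroup G)) ^ 2 = 1 := by
          apply Subtype.ext
          simp [← ht, pow_orderOf_eq_one]
        rw [← map_pow, this, map_one]
      · intro h
        have h1 : (⟨t, htQ⟩ : (Q : Subgroup G)) = 1 := e.injective (by rw [h, map_one])
        have h2 : t = 1 := congrArg Subtype.val h1
        rw [h2] at ht
        simp at ht
    have hpow : q = ⟨t, htQ⟩ ∨ q ^ 2 = ⟨t, htQ⟩ := by
      rcases q8_pow (e q) (fun h => hq1 (e.injective (by rw [h, map_one]))) with h | h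
      · left; exact e.injective (h.trans het.symm)
      · right; apply e.injective; rw [map_pow, h, het]
    have hct : Commute t y.1.1 := by
      rcases hpow with h | h
      · have : (q : G) = t := congrArg Subtype.val h
        rwa [this] at hcq
      · have : (q : G) ^ 2 = t := congrArg Subtype.val h
        rw [← this]
        exact hcq.pow_left 2
    exact y.2 (Subtype.ext (commute_eq hQ y.1.2 ht hct.symm))
  have h8Y : 8 ∣ Nat.card Y := by
    rw [← hQ8]
    exact card_dvd_of_free hfree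
  have hopt : Nat.card (Inv G) = Nat.card Y + 1 := by
    rw [← Nat.card_congr (Equiv.optionSubtypeNe t₀), Finite.card_option]
  have hX1 : Nat.card (Inv G) = 1 := by
    have hd : Nat.card (Inv G) ∣ 15 := ⟨c, h15.symm⟩
    have hdiv : Nat.card (Inv G) ∈ Nat.divisors 15 := Nat.mem_divisors.mpr ⟨hd, by norm_num⟩
    have : Nat.divisors 15 = {1, 3, 5, 15} := by decide
    rw [this] at hdiv
    simp only [Finset.mem_insert, Finset.mem_singleton] at hdiv
    omega
  refine ⟨t, ht, fun s hs => ?_⟩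
  obtain ⟨hsub⟩ := (Nat.card_eq_one_iff_unique.mp hX1).1
  exact congrArg Subtype.val (hsub ⟨s, hs⟩ t₀)

theorem solv60 {K : Type*} [Group K] [Finite K] (h : Nat.card K ∣ 60) (h2 : Nat.card K < 60) :
    Group.IsSolvable K := by
  have hdiv : Nat.card K ∈ Nat.divisors 60 := Nat.mem_divisors.mpr ⟨h, by norm_num⟩
  have : Nat.divisors 60 = {1, 2, 3, 4, 5, 6, 10, 12, 15, 20, 30, 60} := by decide
  rw [this] at hdiv
  simp only [Finset.mem_insert, Finset.mem_singleton] at hdiv
  have p2 : Nat.Prime 2 := by norm_num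
  have p3 : Nat.Prime 3 := by norm_num
  have p5 : Nat.Prime 5 := by norm_num
  rcases hdiv with e | e | e | e | e | e | e | e | e | e | e | e
  · exact Cfsg.Agent.Lib.BurnsidePQ.isSolvable_of_card_eq 2 3 p2 p3 _ K rfl ⟨0, 0, by rw [e]; norm_num⟩
  · exact Cfsg.Agent.Lib.BurnsidePQ.isSolvable_of_card_eq 2 3 p2 p3 _ K rfl ⟨1, 0, by rw [e]; norm_num⟩
  · exact Cfsg.Agent.Lib.BurnsidePQ.isSolvable_of_card_eq 2 3 p2 p3 _ K rfl ⟨0, 1, by rw [e]; norm_num⟩
  · exact Cfsg.Agent.Lib.BurnsidePQ.isSolvable_of_card_eq 2 3 p2 p3 _ K rfl ⟨2, 0, by rw [e]; norm_num⟩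
  · exact Cfsg.Agent.Lib.BurnsidePQ.isSolvable_of_card_eq 2 5 p2 p5 _ K rfl ⟨0, 1, by rw [e]; norm_num⟩
  · exact Cfsg.Agent.Lib.BurnsidePQ.isSolvable_of_card_eq 2 3 p2 p3 _ K rfl ⟨1, 1, by rw [e]; norm_num⟩
  · exact Cfsg.Agent.Lib.BurnsidePQ.isSolvable_of_card_eq 2 5 p2 p5 _ K rfl ⟨1, 1, by rw [e]; norm_num⟩
  · exact Cfsg.Agent.Lib.BurnsidePQ.isSolvable_of_card_eq 2 3 p2 p3 _ K rfl ⟨2, 1, by rw [e]; norm_num⟩
  · exact Cfsg.Agent.Lib.BurnsidePQ.isSolvable_of_card_eq 3 5 p3 p5 _ K rfl ⟨1, 1, by rw [e]; norm_num⟩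
  · exact Cfsg.Agent.Lib.BurnsidePQ.isSolvable_of_card_eq 2 5 p2 p5 _ K rfl ⟨2, 1, by rw [e]; norm_num⟩
  · haveI : IsZGroup K := IsZGroup.of_squarefree (by rw [e]; decide +kernel)
    infer_instance
  · omega

theorem simple60 {K : Type*} [Group K] [Finite K] (h : Nat.card K = 60) (hns : ¬ Group.IsSolvable K) :
    IsSimpleGroup K := by
  haveI : Nontrivial K := Finite.one_lt_card_iff_nontrivial.mp (by omega)
  refine IsSimpleGroup.mk ?_
  intro N hN
  by_contra hcon
  push Not at hcon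
  obtain ⟨h1, h2⟩ := hcon
  have hc := N.card_mul_index
  rw [h] at hc
  have c1 : Nat.card N ≠ 60 := by
    intro h3
    apply h2
    apply Subgroup.eq_top_of_card_eq
    rw [h, h3]
  have c2 : Nat.card N ≠ 1 := fun h3 => h1 (Subgroup.eq_bot_of_card_eq _ h3)
  have hd1 : Nat.card N ∣ 60 := ⟨_, hc.symm⟩
  have hd2 : N.index ∣ 60 := ⟨_, (by rw [mul_comm]; exact hc.symm)⟩
  have l1 : Nat.card N < 60 := lt_of_le_of_ne (Nat.le_of_dvd (by norm_num) hd1) c1
  have c3 : N.index ≠ 60 := by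
    intro h3
    rw [h3] at hc
    omega
  have l2 : N.index < 60 := lt_of_le_of_ne (Nat.le_of_dvd (by norm_num) hd2) c3
  haveI : Group.IsSolvable N := solv60 hd1 l1
  haveI : Group.IsSolvable (K ⧸ N) := solv60 (show Nat.card (K ⧸ N) ∣ 60 from hd2) l2
  apply hns
  refine Group.isSolvable_of_ker_le_range N.subtype (QuotientGroup.mk' N) ?_
  rw [QuotientGroup.ker_mk', Subgroup.range_subtype]

theorem gen_A5 (I : Subgroup (alternatingGroup (Fin 5))) (hx : S3377.X ∈ I) (hy : S3377.Y ∈ I) :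
    I = ⊤ := by
  rw [eq_top_iff]
  intro σ _
  obtain ⟨w, rfl⟩ := S3377.φ_surj σ
  have := PresentedGroup.generated_by S3377.rels (I.comap S3377.φ) (by
    intro j
    fin_cases j
    · simpa [S3377.φ] using hx
    · simpa [S3377.φ] using hy) w
  exact this

theorem part1 (hcard : Nat.card G = 120) (hns : ¬ Group.IsSolvable G)
    (hQ : ∀ P : Sylow 2 G, Nonempty ((P : Subgroup G) ≃* QuaternionGroup 2)) :
    Nonempty (G ≃* SpecialLinearGroup (Fin 2) (ZMod 5)) := by
  classical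
  obtain ⟨z, hz, huniq⟩ := unique_inv hcard hQ
  have hzc : ∀ g : G, g * z * g⁻¹ = z := fun g => huniq _ (by rw [oc, hz])
  have hzcomm : ∀ g : G, g * z = z * g := fun g => mul_inv_eq_iff_eq_mul.mp (hzc g)
  have hzz : z * z = 1 := by
    have := pow_orderOf_eq_one z
    rwa [hz, pow_two] at this
  have hzinv : z⁻¹ = z := inv_eq_of_mul_eq_one_left hzz
  let Z := Subgroup.zpowers z
  haveI hZn : Z.Normal := by
    constructor
    rintro n ⟨k, rfl⟩ g
    refine ⟨k, ?_⟩
    show z ^ k = g * z ^ k * g⁻¹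
    have h : Commute g (z ^ k) := ((show Commute g z from hzcomm g).zpow_right k)
    rw [h.eq]; simp
  have hZcard : Nat.card Z = 2 := by rw [Nat.card_zpowers, hz]
  have h60 : Nat.card (G ⧸ Z) = 60 := by
    have := Subgroup.card_eq_card_quotient_mul_card_subgroup Z
    rw [hcard, hZcard] at this
    omega
  have hmem : ∀ w : G, w ∈ Z → w = 1 ∨ w = z := by
    rintro w ⟨k, rfl⟩
    simp only
    rw [← zpow_mod_orderOf, hz]
    rcases Int.emod_two_eq_zero_or_one k with h | h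
    · left
      have h' : k % ((2 : ℕ) : ℤ) = 0 := by exact_mod_cast h
      rw [h', zpow_zero]
    · right
      have h' : k % ((2 : ℕ) : ℤ) = 1 := by exact_mod_cast h
      rw [h', zpow_one]
  let mk : G →* G ⧸ Z := QuotientGroup.mk' Z
  have hker : ∀ w : G, mk w = 1 → w = 1 ∨ w = z := by
    intro w hw
    exact hmem w ((QuotientGroup.eq_one_iff w).mp hw)
  have hsq : ∀ w : G, mk w = 1 → w * w = 1 := by
    intro w hw
    rcases hker w hw with rfl | rfl
    · simp
    · exact hzz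
  have hmkz : mk z = 1 := (QuotientGroup.eq_one_iff z).mpr (Subgroup.mem_zpowers z)
  have hnsQ : ¬ Group.IsSolvable (G ⧸ Z) := by
    intro h
    apply hns
    haveI : Group.IsSolvable Z := solv60 (by rw [hZcard]; norm_num) (by rw [hZcard]; norm_num)
    refine Group.isSolvable_of_ker_le_range Z.subtype mk ?_
    rw [QuotientGroup.ker_mk', Subgroup.range_subtype]
  haveI hsimple : IsSimpleGroup (G ⧸ Z) := simple60 h60 hnsQ
  obtain ⟨e⟩ := Cfsg.Agent.S0494.result (G := G ⧸ Z) h60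
  obtain ⟨x₀, hx₀⟩ := QuotientGroup.mk'_surjective Z (e.symm S3377.X)
  obtain ⟨y₀, hy₀⟩ := QuotientGroup.mk'_surjective Z (e.symm S3377.Y)
  have hx₀' : mk x₀ = e.symm S3377.X := hx₀
  have hy₀' : mk y₀ = e.symm S3377.Y := hy₀
  have hA4 : S3377.X ^ 4 = S3377.X := by
    rw [pow_succ, S3377.hX, one_mul]
  have hB6 : S3377.Y ^ 6 = S3377.Y := by
    rw [pow_succ, S3377.hY, one_mul]
  let x := x₀ ^ 4
  let y := y₀ ^ 6
  have hmx : mk x = e.symm S3377.X := by
    rw [map_pow, hx₀', ← map_pow, hA4]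
  have hmy : mk y = e.symm S3377.Y := by
    rw [map_pow, hy₀', ← map_pow, hB6]
  have hx3 : x ^ 3 = 1 := by
    have h1 : mk (x₀ ^ 3) = 1 := by
      rw [map_pow, hx₀', ← map_pow, S3377.hX, map_one]
    have h2 := hsq _ h1
    have h3 : x₀ ^ 6 = 1 := by
      rw [show 6 = 3 + 3 by norm_num, pow_add]; exact h2
    show (x₀ ^ 4) ^ 3 = 1
    rw [← pow_mul, show 4 * 3 = 6 * 2 by norm_num, pow_mul, h3, one_pow]
  have hy5 : y ^ 5 = 1 := by
    have h1 : mk (y₀ ^ 5) = 1 := by
      rw [map_pow, hy₀', ← map_pow, S3377.hY, map_one]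
    have h2 := hsq _ h1
    have h3 : y₀ ^ 10 = 1 := by
      rw [show 10 = 5 + 5 by norm_num, pow_add]; exact h2
    show (y₀ ^ 6) ^ 5 = 1
    rw [← pow_mul, show 6 * 5 = 10 * 3 by norm_num, pow_mul, h3, one_pow]
  have hmxy : mk (x * y) = e.symm (S3377.X * S3377.Y) := by
    rw [map_mul, hmx, hmy, map_mul]
  have hxy2 : (x * y) ^ 2 = z := by
    have h1 : mk ((x * y) ^ 2) = 1 := by
      rw [map_pow, hmxy, ← map_pow, S3377.hXY, map_one]
    rcases hker _ h1 with h | h
    · exfalso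
      have hxyZ : mk (x * y) = 1 := by
        by_cases h2 : x * y = 1
        · rw [h2, map_one]
        · have h3 : orderOf (x * y) = 2 := orderOf_eq_prime h h2
          rw [huniq _ h3, hmkz]
      rw [hmxy] at hxyZ
      have h4 : S3377.X * S3377.Y = 1 := by
        have := congrArg e hxyZ
        simpa using this
      exact absurd h4 (by decide)
    · exact h
  have hiso := iso_of_gens hcard x y z hx3 hy5 (by rw [pow_two]; exact hzz)
    (by
      have : z⁻¹ * x * z = x := by rw [mul_assoc, hzcomm x, ← mul_assoc]; simp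
      rw [this]; simp)
    (by
      have : z⁻¹ * y * z = y := by rw [mul_assoc, hzcomm y, ← mul_assoc]; simp
      rw [this]; simp)
    (by rw [hxy2]; simp)
    (by
      intro I hxI hyI hzI
      rw [eq_top_iff]
      intro g _
      have hJ := gen_A5 ((I.map mk).comap e.symm.toMonoidHom)
        ⟨x, hxI, hmx⟩ ⟨y, hyI, hmy⟩
      have hg : e (mk g) ∈ ((I.map mk).comap e.symm.toMonoidHom) := by rw [hJ]; trivial
      obtain ⟨i, hi, hig⟩ := hg
      have hig' : mk i = mk g := by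
        rw [hig]; simp
      have h1 : mk (i⁻¹ * g) = 1 := by
        rw [map_mul, map_inv, hig']; simp
      have h2 : i⁻¹ * g ∈ I := by
        rcases hker _ h1 with h | h
        · rw [h]; exact I.one_mem
        · rw [h]; exact hzI
      have h3 : g = i * (i⁻¹ * g) := by group
      rw [h3]
      exact I.mul_mem hi h2)
  obtain ⟨e₁⟩ := hiso
  obtain ⟨e₂⟩ := part2
  exact ⟨e₁.symm.trans e₂⟩

end part1

theorem result :
    (∀ (G : Type*) [Group G] [Finite G], Nat.card G = 120 → ¬ Group.IsSolvable G →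
      (∀ P : Sylow 2 G, Nonempty ((P : Subgroup G) ≃* QuaternionGroup 2)) →
      Nonempty (G ≃* Matrix.SpecialLinearGroup (Fin 2) (ZMod 5))) ∧
    Nonempty (PresentedGroup ({FreeGroup.of (0 : Fin 3) ^ 3, FreeGroup.of (1 : Fin 3) ^ 5, FreeGroup.of (2 : Fin 3) ^ 2,
        (FreeGroup.of (2 : Fin 3))⁻¹ * FreeGroup.of 0 * FreeGroup.of 2 * (FreeGroup.of (0 : Fin 3))⁻¹,
        (FreeGroup.of (2 : Fin 3))⁻¹ * FreeGroup.of 1 * FreeGroup.of 2 * (FreeGroup.of (1 : Fin 3))⁻¹,
        (FreeGroup.of (0 : Fin 3) * FreeGroup.of 1) ^ 2 * (FreeGroup.of (2 : Fin 3))⁻¹} : Set (FreeGroup (Fin 3)))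
      ≃* Matrix.SpecialLinearGroup (Fin 2) (ZMod 5)) :=
  ⟨fun _ _ _ h1 h2 h3 => part1 h1 h2 h3, part2⟩

-- ENDPART1

end Cfsg.Agent.S3378
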