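import Mathlib
import Cfsg.Statements.S1529
import Cfsg.Agent.Lib.CoherenceBasic

set_option autoImplicit false
open Cfsg

namespace Cfsg.Agent.S1529

open Cfsg.Agent.Lib.CharBasic Cfsg.Agent.Lib.GenChar Cfsg.Agent.Lib.CoherenceBasic
open scoped ComplexConjugate

/-- Let N be a subgroup of the finite group G, S a set of irreducible characters of N with at least two members, and τ₁ a linear isometry on the integer combinations of S with virtual-character values such that τ₁ α vanishes at 1 whenever α ∈ ℤ[S] does. Then there is ε ∈ {1, −1} such that ε • τ₁ χ is an irreducible character of G for every χ ∈ S, and distinct members of S give distinct characters. -/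
theorem result {G : Type*} [Group G] [Fintype G] (N : Subgroup G) [Fintype N] (S : Set (N → ℂ)) (hirr : ∀ χ ∈ S, Cfsg.IsIrrCharacter N χ) (htwo : ∃ χ ∈ S, ∃ ψ ∈ S, χ ≠ ψ) (τ₁ : (N → ℂ) → (G → ℂ)) (hτ₁ : Cfsg.IsLinearIsometryOn (Cfsg.zspan S) τ₁) (h0 : ∀ α ∈ Cfsg.zspan S, α 1 = 0 → τ₁ α 1 = 0) : ∃ ε : ℂ, (ε = 1 ∨ ε = -1) ∧ (∀ χ ∈ S, Cfsg.IsIrrCharacter G (ε • τ₁ χ)) ∧ (∀ χ ∈ S, ∀ ψ ∈ S, τ₁ χ = τ₁ ψ → χ = ψ) := by
  classical
  have hinj : ∀ χ ∈ S, ∀ ψ ∈ S, τ₁ χ = τ₁ ψ → χ = ψ := by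
    intro χ hχ ψ hψ h
    by_contra hne
    have h1 := iso_inner hτ₁ (mem_zspan hχ) (mem_zspan hχ)
    have h2 := iso_inner hτ₁ (mem_zspan hχ) (mem_zspan hψ)
    rw [classInner_irr_self (hirr χ hχ)] at h1
    rw [classInner_irr_ne (hirr χ hχ) (hirr ψ hψ) hne, ← h, h1] at h2
    exact one_ne_zero h2
  have hirr' : ∀ χ ∈ S, IsIrrCharacter G (τ₁ χ) ∨ IsIrrCharacter G (-τ₁ χ) := fun χ hχ =>
    iso_irr hτ₁ (mem_zspan hχ) (classInner_irr_self (hirr χ hχ))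
  obtain ⟨χ₀, hχ₀, -, -, -⟩ := htwo
  -- the sign is governed by the degree
  have hrel : ∀ χ ∈ S, ∀ ψ ∈ S, ∀ a b : ℕ, χ 1 = a → ψ 1 = b →
      (b : ℂ) * τ₁ χ 1 = (a : ℂ) * τ₁ ψ 1 := by
    intro χ hχ ψ hψ a b ha hb
    have hm : (b : ℤ) • χ - (a : ℤ) • ψ ∈ zspan S :=
      zspan_sub (zspan_zsmul (mem_zspan hχ) _) (zspan_zsmul (mem_zspan hψ) _)
    have hv : ((b : ℤ) • χ - (a : ℤ) • ψ) 1 = 0 := by
      simp [ha, hb, mul_comm]
    have := h0 _ hm hv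
    rw [iso_sub_zspan hτ₁ (zspan_zsmul (mem_zspan hχ) _) (zspan_zsmul (mem_zspan hψ) _),
      iso_zsmul hτ₁ (mem_zspan hχ), iso_zsmul hτ₁ (mem_zspan hψ)] at this
    simp at this
    linear_combination this
  -- the same sign everywhere
  have hsame : ∀ χ ∈ S, ∀ ψ ∈ S, IsIrrCharacter G (τ₁ χ) → IsIrrCharacter G (-τ₁ ψ) → False := by
    intro χ hχ ψ hψ h1 h2
    obtain ⟨a, ha0, ha⟩ := isIrr_one_pos (hirr χ hχ)
    obtain ⟨b, hb0, hb⟩ := isIrr_one_pos (hirr ψ hψ)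
    obtain ⟨c, hc0, hc⟩ := isIrr_one_pos h1
    obtain ⟨e, he0, he⟩ := isIrr_one_pos h2
    have h := hrel χ hχ ψ hψ a b ha hb
    have he' : τ₁ ψ 1 = -(e : ℂ) := by
      have : (-τ₁ ψ) 1 = -(τ₁ ψ 1) := rfl
      rw [this] at he
      linear_combination -he
    rw [hc, he'] at h
    have h' : ((b * c + a * e : ℕ) : ℂ) = 0 := by
      push_cast
      linear_combination h
    have h'' : b * c + a * e = 0 := by exact_mod_cast h'
    have : 0 < b * c := Nat.mul_pos hb0 hc0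
    omega
  rcases hirr' χ₀ hχ₀ with h | h
  · refine ⟨1, Or.inl rfl, fun χ hχ => ?_, hinj⟩
    rw [one_smul]
    rcases hirr' χ hχ with h' | h'
    · exact h'
    · exact (hsame χ₀ hχ₀ χ hχ h h').elim
  · refine ⟨-1, Or.inr rfl, fun χ hχ => ?_, hinj⟩
    rw [neg_smul, one_smul]
    rcases hirr' χ hχ with h' | h'
    · exact (hsame χ hχ χ₀ hχ₀ h' h).elim
    · exact h'

end Cfsg.Agent.S1529
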