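import Mathlib
import Cfsg.Statements.S0865
import Cfsg.Agent.Lib.LinearExt

set_option autoImplicit false
open Cfsg

namespace Cfsg.Agent.S0865

open Cfsg.Agent.Lib.LinearExt

/-- Let N be a normal subgroup of the finite group G and λ a character of N of degree 1, invariant under conjugation by G, whose order (under pointwise multiplication) is coprime to the index of N. Then there is a character μ of G of degree 1 restricting to λ with the same order as λ, and μ is the only degree-1 character of G restricting to λ whose order is coprime to the index of N. -/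
theorem result {G : Type*} [Group G] [Finite G] (N : Subgroup G) [hN : N.Normal] (lam : N → ℂ) (hlam : Cfsg.IsCharacter N lam ∧ lam 1 = 1) (hinv : ∀ (g : G) (n : N), lam ⟨g * n * g⁻¹, hN.conj_mem (n : G) n.2 g⟩ = lam n) (hcop : Nat.Coprime N.index (orderOf lam)) : ∃ μ : G → ℂ, (Cfsg.IsCharacter G μ ∧ μ 1 = 1 ∧ (∀ n : N, μ n = lam n) ∧ orderOf μ = orderOf lam) ∧ ∀ μ' : G → ℂ, Cfsg.IsCharacter G μ' ∧ μ' 1 = 1 → (∀ n : N, μ' n = lam n) → Nat.Coprime N.index (orderOf μ') → μ' = μ := by
  obtain ⟨f, hf⟩ := exists_hom hlam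
  have hfinv : ∀ (g : G) (n : N), f ⟨g * n * g⁻¹, hN.conj_mem (n : G) n.2 g⟩ = f n := by
    intro g n
    apply Units.ext
    rw [← hf, ← hf, hinv]
  have ho : ∀ x, f x ^ orderOf lam = 1 := by
    intro x
    have h1 := congrFun (pow_orderOf_eq_one lam) x
    rw [Pi.pow_apply, hf, Pi.one_apply, ← Units.val_pow_eq_pow_val] at h1
    exact Units.ext h1
  set o := orderOf lam with hodef
  -- the transfer
  let V : G →* ℂˣ := f.transfer
  have hV : ∀ n : N, V n = f n ^ N.index := fun n =>
    transfer_apply_of_invariant N f hfinv N le_rfl f (fun m => rfl) n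
  have hVo : ∀ g, V g ^ o = 1 := fun g => transfer_pow_eq_one f ho g
  -- Bezout
  have hbez := Nat.gcd_eq_gcd_ab N.index o
  rw [hcop] at hbez
  set x := Nat.gcdA N.index o
  set y := Nat.gcdB N.index o
  let μ₀ : G →* ℂˣ := V ^ x
  have hμ₀ : ∀ n : N, μ₀ n = f n := by
    intro n
    show V n ^ x = f n
    rw [hV, ← zpow_natCast, ← zpow_mul]
    have h1 : (N.index : ℤ) * x = 1 - o * y := by
      push_cast at hbez
      linarith
    rw [h1, zpow_sub, zpow_one, zpow_mul, zpow_natCast, ho, one_zpow, inv_one, mul_one]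
  have hμ₀o : ∀ g, μ₀ g ^ o = 1 := by
    intro g
    show (V g ^ x) ^ o = 1
    rw [← zpow_natCast, zpow_comm, zpow_natCast, hVo, one_zpow]
  refine ⟨fun g => ((μ₀ g : ℂˣ) : ℂ), ⟨isCharacter_of_hom μ₀, by simp, fun n => ?_, ?_⟩, ?_⟩
  · rw [hf]
    show ((μ₀ n : ℂˣ) : ℂ) = _
    rw [hμ₀]
  · apply Nat.dvd_antisymm
    · apply orderOf_dvd_of_pow_eq_one
      funext g
      rw [Pi.pow_apply, Pi.one_apply, ← Units.val_pow_eq_pow_val, hμ₀o, Units.val_one]
    · apply orderOf_dvd_of_pow_eq_one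
      funext n
      have h1 := congrFun (pow_orderOf_eq_one (fun g => ((μ₀ g : ℂˣ) : ℂ))) (n : G)
      rw [Pi.pow_apply] at h1 ⊢
      rw [hf, ← hμ₀]
      exact h1
  · rintro μ' hμ' hres hcop'
    obtain ⟨g', hg'⟩ := exists_hom hμ'
    have hg'o : ∀ x, g' x ^ orderOf μ' = 1 := by
      intro x
      have h1 := congrFun (pow_orderOf_eq_one μ') x
      rw [Pi.pow_apply, hg', Pi.one_apply, ← Units.val_pow_eq_pow_val] at h1
      exact Units.ext h1
    let κ : G →* ℂˣ := g' * μ₀⁻¹
    have hκN : ∀ n : N, κ n = 1 := by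
      intro n
      show g' n * (μ₀ n)⁻¹ = 1
      rw [hμ₀]
      have h1 : g' n = f n := by
        apply Units.ext
        rw [← hg', hres, hf]
      rw [h1, mul_inv_cancel]
    have hκo : ∀ x, κ x ^ (orderOf μ' * o) = 1 := by
      intro x
      show (g' x * (μ₀ x)⁻¹) ^ (orderOf μ' * o) = 1
      rw [mul_pow, pow_mul, hg'o, one_pow, one_mul, inv_pow, mul_comm, pow_mul, hμ₀o, one_pow,
        inv_one]
    have hcop2 : Nat.Coprime N.index (orderOf μ' * o) := Nat.Coprime.mul_right hcop' hcop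
    funext g
    have h1 := hom_eq_one_of_coprime N κ hκN hκo hcop2 g
    have h2 : g' g = μ₀ g := by
      have h3 : g' g * (μ₀ g)⁻¹ = 1 := h1
      exact mul_inv_eq_one.mp h3
    rw [hg', h2]

end Cfsg.Agent.S0865
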