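import Mathlib
import Cfsg.Statements.S0867
import Cfsg.Agent.Lib.DetExt
import Cfsg.Agent.S0865

set_option autoImplicit false
open Cfsg

namespace Cfsg.Agent.S0867

open Cfsg.Agent.Lib.DetExt Cfsg.Agent.Lib.DetChar Cfsg.Agent.Lib.CharBasic

/-- The determinantal character of an invariant character is invariant. -/
theorem detChar_invariant {G : Type*} [Group G] [Finite G] (N : Subgroup G) [hN : N.Normal]
    {ϑ : N → ℂ} (hϑ : IsCharacter N ϑ)
    (hinv : ∀ (g : G) (n : N), ϑ ⟨g * n * g⁻¹, hN.conj_mem (n : G) n.2 g⟩ = ϑ n) (g : G) (n : N) :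
    detChar ϑ ⟨g * n * g⁻¹, hN.conj_mem (n : G) n.2 g⟩ = detChar ϑ n := by
  let α : N ≃* N := Cfsg.Agent.Lib.CharInduction.conjAut N hN g
  have h1 := detChar_comp (H := N) α.toMonoidHom hϑ n
  have h2 : ϑ ∘ α.toMonoidHom = ϑ := funext fun m => hinv g m
  rw [h2] at h1
  exact h1.symm

/-- Let N be a normal subgroup of the finite group G and ϑ an irreducible character of N of degree d, invariant under conjugation by G, such that the index of N is coprime to the product of d and the determinantal order of ϑ. Then there is an irreducible character χ of G restricting to ϑ whose determinantal order equals that of ϑ, and χ is the only irreducible character of G restricting to ϑ whose determinantal order is coprime to the index of N. -/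
theorem result {G : Type*} [Group G] [Finite G] (N : Subgroup G) [hN : N.Normal] (ϑ : N → ℂ) (hϑ : Cfsg.IsIrrCharacter N ϑ) (hinv : ∀ (g : G) (n : N), ϑ ⟨g * n * g⁻¹, hN.conj_mem (n : G) n.2 g⟩ = ϑ n) (d : ℕ) (hd : ϑ 1 = d) (hcop : Nat.Coprime N.index (Cfsg.detOrder ϑ * d)) : ∃ χ : G → ℂ, (Cfsg.IsIrrCharacter G χ ∧ (∀ n : N, χ n = ϑ n) ∧ Cfsg.detOrder χ = Cfsg.detOrder ϑ) ∧ ∀ χ' : G → ℂ, Cfsg.IsIrrCharacter G χ' → (∀ n : N, χ' n = ϑ n) → Nat.Coprime N.index (Cfsg.detOrder χ') → χ' = χ := by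
  have hϑc := IsIrrCharacter.isCharacter hϑ
  have hcop1 : Nat.Coprime N.index (orderOf (detChar ϑ)) := Nat.Coprime.coprime_dvd_right
    (Dvd.intro _ rfl) hcop
  have hcop2 : Nat.Coprime N.index d := Nat.Coprime.coprime_dvd_right (Dvd.intro_left _ rfl) hcop
  obtain ⟨μ, ⟨hμc, hμ1, hμN, hμo⟩, hμuniq⟩ := Cfsg.Agent.S0865.result N (detChar ϑ)
    ⟨detChar_isCharacter hϑc, detChar_one' hϑc⟩ (detChar_invariant N hϑc hinv) hcop1
  obtain ⟨η, hη, hres⟩ := ext_of_det N hϑ hinv hd hcop2 hμc hμ1 hμN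
  obtain ⟨χ, ⟨hχ, hχres, hχdet⟩, huniq⟩ :=
    exists_unique_ext N hϑ hd hcop2 hη hres ⟨hμc, hμ1⟩ hμN
  refine ⟨χ, ⟨hχ, hχres, ?_⟩, ?_⟩
  · show orderOf (detChar χ) = orderOf (detChar ϑ)
    rw [hχdet, hμo]
  · intro χ' hχ' hres' hcop'
    have hχ'c := IsIrrCharacter.isCharacter hχ'
    have h1 : detChar χ' = μ := hμuniq (detChar χ') ⟨detChar_isCharacter hχ'c, detChar_one' hχ'c⟩
      (detChar_of_extends N hχ'c hres') hcop'
    exact huniq χ' ⟨hχ', hres', h1⟩

end Cfsg.Agent.S0867
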