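import Mathlib
import Cfsg.Statements.S4455
import Cfsg.Agent.Lib.PResid
import Cfsg.Agent.Lib.CharKernel
import Cfsg.Agent.Lib.CharInduction
import Cfsg.Agent.Lib.CharClifford
import Cfsg.Agent.Lib.BrauerInd
import Cfsg.Agent.Lib.DetChar
import Cfsg.Agent.S0867
import Cfsg.Agent.S0887

set_option autoImplicit false
set_option linter.style.haveILetI false
set_option linter.unusedSectionVars false
open Cfsg

namespace Cfsg.Agent.S4455

open Cfsg.Agent.Lib
open Cfsg.Agent.Lib.CharBasic
open Cfsg.Agent.Lib.CharInduction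
open Cfsg.Agent.Lib.CharKernel
open Cfsg.Agent.Lib.CharClifford
open Cfsg.Agent.Lib.PResid

theorem card_sub {X : Type*} [Fintype X] (w : X → ℕ) :
    Nat.card {a : X × ℕ // a.2 < w a.1} = ∑ x, w x := by
  let e : {a : X × ℕ // a.2 < w a.1} ≃ Σ x : X, Fin (w x) :=
    { toFun := fun a => ⟨a.1.1, ⟨a.1.2, a.2⟩⟩
      invFun := fun b => ⟨(b.1, b.2.1), b.2.2⟩
      left_inv := fun _ => rfl
      right_inv := fun _ => rfl }
  rw [Nat.card_congr e, Nat.card_eq_fintype_card, Fintype.card_sigma]
  simp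

/-- Weighted version of the congruence for the number of fixed points of a `p`-group. -/
theorem sum_modEq_sum_fixed {Q X : Type*} [Group Q] [Finite Q] [Fintype X] {p : ℕ} [hp : Fact p.Prime]
    (hQ : IsPGroup p Q) (φ : Q →* Equiv.Perm X) (w : X → ℕ) (hw : ∀ q x, w (φ q x) = w x)
    [DecidablePred fun x : X => ∀ q : Q, φ q x = x] :
    (∑ x, w x) ≡ ∑ x with (∀ q : Q, φ q x = x), w x [MOD p] := by
  classical
  let α := {a : X × ℕ // a.2 < w a.1}
  letI : MulAction Q α :=
    { smul := fun q a => ⟨(φ q a.1.1, a.1.2), by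
        show a.1.2 < w (φ q a.1.1)
        rw [hw]
        exact a.2⟩
      one_smul := by
        intro a
        apply Subtype.ext
        apply Prod.ext
        · show φ 1 a.1.1 = a.1.1
          simp
        · rfl
      mul_smul := by
        intro a b c
        apply Subtype.ext
        apply Prod.ext
        · show φ (a * b) c.1.1 = φ a (φ b c.1.1)
          simp
        · rfl }
  have hs : ∀ (q : Q) (a : α), (q • a : α).1 = (φ q a.1.1, a.1.2) := fun _ _ => rfl
  haveI : Finite α := by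
    let f : α → Σ x : X, Fin (w x) := fun a => ⟨a.1.1, ⟨a.1.2, a.2⟩⟩
    apply Finite.of_injective f
    rintro ⟨⟨a, b⟩, h⟩ ⟨⟨c, d⟩, h'⟩ he
    simp only [f, Sigma.mk.injEq] at he
    obtain ⟨rfl, h2⟩ := he
    have h3 : b = d := by
      have := eq_of_heq h2
      exact congrArg Fin.val this
    subst h3
    rfl
  have h1 := hQ.card_modEq_card_fixedPoints α
  have h2 : Nat.card α = ∑ x, w x := card_sub w
  let X' := {x : X // ∀ q : Q, φ q x = x}
  let e : MulAction.fixedPoints Q α ≃ {a : X' × ℕ // a.2 < w a.1.1} :=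
    { toFun := fun a => ⟨(⟨a.1.1.1, fun q => by
          have h := a.2 q
          have h' := congrArg (fun z : α => z.1.1) h
          exact h'⟩, a.1.1.2), a.1.2⟩
      invFun := fun b => ⟨⟨(b.1.1.1, b.1.2), b.2⟩, fun q => by
          apply Subtype.ext
          apply Prod.ext
          · exact b.1.1.2 q
          · rfl⟩
      left_inv := fun _ => rfl
      right_inv := fun _ => rfl }
  have h3 : Nat.card (MulAction.fixedPoints Q α) = ∑ x with (∀ q : Q, φ q x = x), w x := by
    rw [Nat.card_congr e, card_sub (fun x : X' => w x.1)]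
    exact (Finset.sum_subtype _ (by simp) w).symm
  rw [← h2, ← h3]
  exact h1

theorem orderOf_coe_hom {H : Type*} [Group H] (D : H →* ℂˣ) :
    orderOf (fun g => ((D g : ℂˣ) : ℂ)) = orderOf D := by
  let ι : (H →* ℂˣ) →* (H → ℂ) :=
    { toFun := fun D g => ((D g : ℂˣ) : ℂ)
      map_one' := by funext g; simp
      map_mul' := by intro a b; funext g; simp }
  have hι : Function.Injective ι := by
    intro a b h
    ext g
    exact congrFun h g
  exact orderOf_injective ι hι D

theorem orderOf_hom_ne_zero {H : Type*} [Group H] [Finite H] (D : H →* ℂˣ) : orderOf D ≠ 0 := by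
  have h1 : D ^ Nat.card H = 1 := by
    ext x
    have : (D ^ Nat.card H) x = D (x ^ Nat.card H) := by
      rw [MonoidHom.pow_apply, map_pow]
    rw [this, pow_card_eq_one']
    simp
  have h2 : orderOf D ∣ Nat.card H := orderOf_dvd_of_pow_eq_one (by exact h1)
  intro h3
  rw [h3, zero_dvd_iff] at h2
  exact Nat.card_pos.ne' h2

theorem not_dvd_orderOf_hom {H : Type*} [Group H] [Finite H] {p : ℕ} [hp : Fact p.Prime]
    (htop : pResidual p H = ⊤) (D : H →* ℂˣ) : ¬ p ∣ orderOf D := by
  intro hdvd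
  set D' := D ^ (orderOf D / p) with hD'
  have hord : orderOf D' = p := orderOf_pow_orderOf_div (orderOf_hom_ne_zero D) hdvd
  have hp1 : D' ^ p = 1 := by
    rw [← hord]
    exact pow_orderOf_eq_one D'
  have hker : pResidual p H ≤ D'.ker := by
    rw [pResidual, Subgroup.closure_le]
    intro x hx
    have hx' : Nat.Coprime (orderOf x) p := hx
    rw [SetLike.mem_coe, MonoidHom.mem_ker]
    have h1 : (D' x) ^ p = 1 := by
      have : (D' ^ p) x = (D' x) ^ p := MonoidHom.pow_apply _ _ _
      rw [← this, hp1]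
      rfl
    have h2 : (D' x) ^ orderOf x = 1 := by
      rw [← map_pow, pow_orderOf_eq_one, map_one]
    have h3 := (pow_gcd_eq_one (a := D' x)).2 ⟨h2, h1⟩
    rw [hx'.gcd_eq_one, pow_one] at h3
    exact h3
  rw [htop] at hker
  have h1 : D' = 1 := by
    ext x
    have : x ∈ D'.ker := hker (Subgroup.mem_top x)
    rw [MonoidHom.mem_ker] at this
    rw [this]
    rfl
  rw [h1, orderOf_one] at hord
  exact hp.out.one_lt.ne hord

theorem not_dvd_detOrder {H : Type*} [Group H] [Finite H] {p : ℕ} [hp : Fact p.Prime]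
    (htop : pResidual p H = ⊤) {θ : H → ℂ} (hθ : IsCharacter H θ) : ¬ p ∣ detOrder θ := by
  obtain ⟨D, hD⟩ := DetChar.exists_detHom hθ
  have h1 : detChar θ = fun g => ((D g : ℂˣ) : ℂ) := funext hD
  rw [detOrder, h1, orderOf_coe_hom]
  exact not_dvd_orderOf_hom htop D

section main

variable {G : Type*} [Group G] [Finite G] {p : ℕ} [hp : Fact p.Prime]

/-- The restriction to `O^p(G)` of an irreducible character of degree prime to `p` is irreducible. -/
theorem restrict_irr {χ : G → ℂ} (hχ : IsIrrCharacter G χ) (hnd : ¬ p ∣ charDegree χ) :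
    IsIrrCharacter (pResidual p G) (fun n => χ n) := by
  classical
  letI := Fintype.ofFinite G
  let H := pResidual p G
  haveI hN : H.Normal := pResidual_normal p
  letI : Fintype H := Fintype.ofFinite _
  have hχc := IsIrrCharacter.isCharacter hχ
  have hR : IsCharacter H (fun n : H => χ n) := isCharacter_restrict H hχc
  have hc := one_eq_charDegree hχc
  have hc0 : χ 1 ≠ 0 := by
    rw [hc]
    exact_mod_cast charDegree_ne_zero hχ
  obtain ⟨θ, hθ, hover⟩ := BrauerInd.exists_constituent hR (by simpa using hc0)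
  have hθc := IsIrrCharacter.isCharacter hθ
  have hd := one_eq_charDegree hθc
  obtain ⟨h1, h2⟩ := S0887.result H χ hχ θ hθ hover _ _ hc hd
  obtain ⟨k, hk⟩ := (isPGroup_quotient_pResidual (G := G) p).exists_card_eq
  have hidx : H.index = p ^ k := hk
  rw [hidx] at h2
  obtain ⟨b, hb, hb'⟩ := (Nat.dvd_prime_pow hp.out).1 h2
  have hb0 : b = 0 := by
    by_contra hne
    apply hnd
    have h3 : p ∣ charDegree χ / charDegree θ := by
      rw [hb']
      exact dvd_pow_self p hne
    exact dvd_trans h3 (Nat.div_dvd_of_dvd h1)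
  rw [hb0, pow_zero] at hb'
  have hdpos := charDegree_pos hθ
  have hcd : charDegree χ = charDegree θ := by
    obtain ⟨m, hm⟩ := h1
    rw [hm, Nat.mul_div_cancel_left _ hdpos] at hb'
    rw [hm, hb', mul_one]
  have hres := restrict_eq_smul_sum H hN hχ hθ hover
  obtain ⟨e, he⟩ := classInner_char_irr hR hθ
  have h3 := congrFun hres (1 : H)
  have hsum : (∑ ψ ∈ Finset.univ.image (fun g : G => conjBy H hN g θ), ψ) (1 : H) =
      ((Finset.univ.image (fun g : G => conjBy H hN g θ)).card : ℂ) * θ 1 := by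
    rw [Finset.sum_apply, Finset.sum_congr rfl (g := fun _ => θ 1)]
    · simp
    · intro ψ hψ
      rw [Finset.mem_image] at hψ
      obtain ⟨g, -, rfl⟩ := hψ
      rw [conjBy_apply]
      congr 1
      ext
      simp
  simp only [Pi.smul_apply, smul_eq_mul] at h3
  rw [hsum, he] at h3
  have h4 : χ 1 = (e : ℂ) * (((Finset.univ.image (fun g : G => conjBy H hN g θ)).card : ℂ) * θ 1) := by
    rw [← h3]
    rfl
  rw [hc, hd, hcd] at h4
  have h5 : charDegree θ = e * ((Finset.univ.image (fun g : G => conjBy H hN g θ)).card *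
      charDegree θ) := by exact_mod_cast h4
  have h6 : e * (Finset.univ.image (fun g : G => conjBy H hN g θ)).card = 1 := by
    have : charDegree θ * 1 = charDegree θ * (e * (Finset.univ.image
        (fun g : G => conjBy H hN g θ)).card) := by
      calc charDegree θ * 1 = e * ((Finset.univ.image (fun g : G => conjBy H hN g θ)).card *
            charDegree θ) := by rw [mul_one]; exact h5
        _ = _ := by ring
    exact (Nat.eq_of_mul_eq_mul_left hdpos this).symm
  have h7 : e = 1 := Nat.eq_one_of_mul_eq_one_right h6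
  have h8 : (Finset.univ.image (fun g : G => conjBy H hN g θ)).card = 1 :=
    Nat.eq_one_of_mul_eq_one_left h6
  obtain ⟨a, ha⟩ := Finset.card_eq_one.1 h8
  have hmem : θ ∈ Finset.univ.image (fun g : G => conjBy H hN g θ) := by
    rw [Finset.mem_image]
    exact ⟨1, Finset.mem_univ _, conjBy_one H hN θ⟩
  rw [ha, Finset.mem_singleton] at hmem
  have h9 : (fun n : H => χ n) = θ := by
    rw [hres, he, h7, ha, Finset.sum_singleton, ← hmem]
    simp
  show IsIrrCharacter H (fun n : H => χ n)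
  rw [h9]
  exact hθ

/-- The action of `G` on the irreducible characters of a normal subgroup. -/
noncomputable def act (H : Subgroup G) (hN : H.Normal) : G →* Equiv.Perm (IrrCharacter H) where
  toFun g :=
    { toFun := fun θ => ⟨conjBy H hN g⁻¹ θ.1, isIrrCharacter_conjBy H hN _ θ.2⟩
      invFun := fun θ => ⟨conjBy H hN g θ.1, isIrrCharacter_conjBy H hN _ θ.2⟩
      left_inv := by
        intro θ
        apply Subtype.ext
        show conjBy H hN g (conjBy H hN g⁻¹ θ.1) = θ.1
        rw [conjBy_conjBy]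
        simp [conjBy_one]
      right_inv := by
        intro θ
        apply Subtype.ext
        show conjBy H hN g⁻¹ (conjBy H hN g θ.1) = θ.1
        rw [conjBy_conjBy]
        simp [conjBy_one] }
  map_one' := by
    ext θ
    show conjBy H hN 1⁻¹ θ.1 _ = θ.1 _
    simp [conjBy_one]
  map_mul' a b := by
    ext θ n
    show conjBy H hN (a * b)⁻¹ θ.1 n = conjBy H hN a⁻¹ (conjBy H hN b⁻¹ θ.1) n
    rw [conjBy_conjBy, mul_inv_rev]

theorem act_apply (H : Subgroup G) (hN : H.Normal) (g : G) (θ : IrrCharacter H) :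
    ((act H hN g θ : IrrCharacter H) : H → ℂ) = conjBy H hN g⁻¹ θ.1 := rfl

theorem conjBy_eq_of_mem (H : Subgroup G) (hN : H.Normal) {x : G} (hx : x ∈ H) {θ : H → ℂ}
    (hθ : IsCharacter H θ) : conjBy H hN x θ = θ := by
  have hθc := isClassFunction_of_isCharacter hθ
  funext a
  rw [conjBy_apply]
  have := hθc a ⟨x, hx⟩
  rw [← this]
  rfl

theorem charDegree_conjBy (H : Subgroup G) (hN : H.Normal) (x : G) (θ : H → ℂ) :
    charDegree (conjBy H hN x θ) = charDegree θ := by
  have : conjBy H hN x θ 1 = θ 1 := by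
    rw [conjBy_apply]
    congr 1
    ext
    simp
  simp only [charDegree, this]

theorem charDegree_restrict (H : Subgroup G) (χ : G → ℂ) :
    charDegree (fun n : H => χ n) = charDegree χ := rfl

open scoped Classical in
/-- `Σ deg² ≡ Σ_{invariant, p ∤ deg} deg²` -/
theorem card_modEq :
    Nat.card (pResidual p G) ≡ ∑ θ ∈ Finset.univ.filter (fun θ : IrrCharacter (pResidual p G) =>
      ((∀ (g : G) (n : pResidual p G), (θ : pResidual p G → ℂ)
        ⟨g * n * g⁻¹, (pResidual_normal p).conj_mem (n : G) n.2 g⟩ = (θ : pResidual p G → ℂ) n) ∧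
      ¬ p ∣ charDegree (θ : pResidual p G → ℂ))), charDegree (θ : pResidual p G → ℂ) ^ 2 [MOD p] := by
  let H := pResidual p G
  have hN : H.Normal := pResidual_normal p
  haveI := hN
  have hker : ∀ x ∈ H, act H hN x = 1 := by
    intro x hx
    ext θ
    show conjBy H hN x⁻¹ θ.1 _ = θ.1 _
    rw [conjBy_eq_of_mem H hN (H.inv_mem hx) (IsIrrCharacter.isCharacter θ.2)]
  let φ : (G ⧸ H) →* Equiv.Perm (IrrCharacter H) := QuotientGroup.lift H (act H hN) hker
  have hφ : ∀ (g : G) (θ : IrrCharacter H), φ (g : G ⧸ H) θ = act H hN g θ := fun _ _ => rfl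
  have hQ : IsPGroup p (G ⧸ H) := isPGroup_quotient_pResidual (G := G) p
  have hw : ∀ (q : G ⧸ H) (θ : IrrCharacter H), charDegree ((φ q θ : IrrCharacter H) : H → ℂ) ^ 2 =
      charDegree (θ : H → ℂ) ^ 2 := by
    intro q θ
    obtain ⟨g, rfl⟩ := QuotientGroup.mk_surjective q
    rw [hφ, act_apply, charDegree_conjBy]
  have h1 := sum_modEq_sum_fixed hQ φ (fun θ : IrrCharacter H => charDegree (θ : H → ℂ) ^ 2) hw
  have h0 : ∑ θ : IrrCharacter H, charDegree (θ : H → ℂ) ^ 2 = Nat.card H := sum_charDegree_sq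
  have hfix : ∀ θ : IrrCharacter H, (∀ q : G ⧸ H, φ q θ = θ) ↔
      ∀ (g : G) (n : H), (θ : H → ℂ) ⟨g * n * g⁻¹, hN.conj_mem (n : G) n.2 g⟩ = (θ : H → ℂ) n := by
    intro θ
    constructor
    · intro h g n
      have h2 := h ((g⁻¹ : G) : G ⧸ H)
      rw [hφ] at h2
      have h3 := congrArg Subtype.val h2
      rw [act_apply, inv_inv] at h3
      have h4 := congrFun h3 n
      rwa [conjBy_apply] at h4
    · intro h q
      obtain ⟨g, rfl⟩ := QuotientGroup.mk_surjective q
      rw [hφ]
      apply Subtype.ext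
      rw [act_apply]
      funext n
      rw [conjBy_apply]
      exact h g⁻¹ n
  rw [← h0]
  refine h1.trans ?_
  -- remove the degrees divisible by `p`
  rw [← Finset.sum_filter_add_sum_filter_not
    (Finset.univ.filter fun θ : IrrCharacter H => ∀ q : G ⧸ H, φ q θ = θ)
    (fun θ : IrrCharacter H => ¬ p ∣ charDegree (θ : H → ℂ))]
  have h2 : ∑ θ ∈ (Finset.univ.filter fun θ : IrrCharacter H => ∀ q : G ⧸ H, φ q θ = θ).filter
      (fun θ : IrrCharacter H => ¬ ¬ p ∣ charDegree (θ : H → ℂ)), charDegree (θ : H → ℂ) ^ 2 ≡ 0 [MOD p] := by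
    apply (Nat.modEq_zero_iff_dvd).2
    apply Finset.dvd_sum
    intro θ hθ
    rw [Finset.mem_filter, not_not] at hθ
    exact dvd_pow hθ.2 two_ne_zero
  have h3 : (Finset.univ.filter fun θ : IrrCharacter H => ∀ q : G ⧸ H, φ q θ = θ).filter
      (fun θ : IrrCharacter H => ¬ p ∣ charDegree (θ : H → ℂ)) =
      Finset.univ.filter (fun θ : IrrCharacter H => (∀ (g : G) (n : H), (θ : H → ℂ)
        ⟨g * n * g⁻¹, (pResidual_normal p).conj_mem (n : G) n.2 g⟩ = (θ : H → ℂ) n) ∧
      ¬ p ∣ charDegree (θ : H → ℂ)) := by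
    ext θ
    simp only [Finset.mem_filter, Finset.mem_univ, true_and, hfix]
  rw [h3]
  have h4 := (Nat.ModEq.refl (∑ θ ∈ Finset.univ.filter (fun θ : IrrCharacter H =>
      (∀ (g : G) (n : H), (θ : H → ℂ)
        ⟨g * n * g⁻¹, (pResidual_normal p).conj_mem (n : G) n.2 g⟩ = (θ : H → ℂ) n) ∧
      ¬ p ∣ charDegree (θ : H → ℂ)), charDegree (θ : H → ℂ) ^ 2)).add h2
  rw [add_zero] at h4
  exact h4

open scoped Classical in
/-- The correspondence between invariant characters of `O^p(G)` and characters of `G`. -/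
theorem sum_eq :
    ∑ θ ∈ Finset.univ.filter (fun θ : IrrCharacter (pResidual p G) =>
      ((∀ (g : G) (n : pResidual p G), (θ : pResidual p G → ℂ)
        ⟨g * n * g⁻¹, (pResidual_normal p).conj_mem (n : G) n.2 g⟩ = (θ : pResidual p G → ℂ) n) ∧
      ¬ p ∣ charDegree (θ : pResidual p G → ℂ))), charDegree (θ : pResidual p G → ℂ) ^ 2 =
    ∑ χ ∈ Finset.univ.filter (fun χ : IrrCharacter G =>
      (¬ p ∣ charDegree (χ : G → ℂ) ∧ ¬ p ∣ detOrder (χ : G → ℂ))),
      charDegree (χ : G → ℂ) ^ 2 := by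
  let H := pResidual p G
  haveI hN : H.Normal := pResidual_normal p
  obtain ⟨k, hk⟩ := (isPGroup_quotient_pResidual (G := G) p).exists_card_eq
  have hidx : H.index = p ^ k := hk
  have htop : pResidual p H = ⊤ := pResidual_pResidual_eq_top p
  have hext : ∀ (θ : H → ℂ) (hθ : IsIrrCharacter H θ)
      (hinv : ∀ (g : G) (n : H), θ ⟨g * n * g⁻¹, hN.conj_mem (n : G) n.2 g⟩ = θ n)
      (hnd : ¬ p ∣ charDegree θ),
      ∃ χ : G → ℂ, (IsIrrCharacter G χ ∧ (∀ n : H, χ n = θ n) ∧ detOrder χ = detOrder θ) ∧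
        ∀ χ' : G → ℂ, IsIrrCharacter G χ' → (∀ n : H, χ' n = θ n) →
          Nat.Coprime H.index (detOrder χ') → χ' = χ := by
    intro θ hθ hinv hnd
    have hθc := IsIrrCharacter.isCharacter hθ
    refine S0867.result H θ hθ hinv (charDegree θ) (one_eq_charDegree hθc) ?_
    rw [hidx]
    apply Nat.Coprime.pow_left
    rw [Nat.Prime.coprime_iff_not_dvd hp.out, hp.out.dvd_mul]
    rintro (h | h)
    · exact not_dvd_detOrder htop hθc h
    · exact hnd h
  symm
  refine Finset.sum_bij (fun χ hχ => ⟨fun n : H => (χ : G → ℂ) n, ?_⟩) ?_ ?_ ?_ ?_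
  · rw [Finset.mem_filter] at hχ
    exact restrict_irr χ.2 hχ.2.1
  · intro χ hχ
    rw [Finset.mem_filter] at hχ ⊢
    refine ⟨Finset.mem_univ _, ?_, hχ.2.1⟩
    intro g n
    exact isClassFunction_of_isCharacter (IsIrrCharacter.isCharacter χ.2) n g
  · intro χ₁ h₁ χ₂ h₂ he
    rw [Finset.mem_filter] at h₁ h₂
    have he' : (fun n : H => (χ₁ : G → ℂ) n) = fun n : H => (χ₂ : G → ℂ) n :=
      congrArg Subtype.val he
    have hirr := restrict_irr χ₁.2 h₁.2.1
    obtain ⟨χ₀, -, huniq⟩ := hext _ hirr (fun g n =>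
      isClassFunction_of_isCharacter (IsIrrCharacter.isCharacter χ₁.2) n g) h₁.2.1
    have hcop : ∀ χ : IrrCharacter G, ¬ p ∣ detOrder (χ : G → ℂ) →
        Nat.Coprime H.index (detOrder (χ : G → ℂ)) := by
      intro χ h
      rw [hidx]
      apply Nat.Coprime.pow_left
      exact (Nat.Prime.coprime_iff_not_dvd hp.out).2 h
    have e1 := huniq χ₁ χ₁.2 (fun _ => rfl) (hcop χ₁ h₁.2.2)
    have e2 := huniq χ₂ χ₂.2 (fun n => (congrFun he' n).symm) (hcop χ₂ h₂.2.2)
    exact Subtype.ext (e1.trans e2.symm)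
  · intro θ hθ
    rw [Finset.mem_filter] at hθ
    obtain ⟨χ, ⟨hχ, hres, hdet⟩, -⟩ := hext θ.1 θ.2 hθ.2.1 hθ.2.2
    have hθc := IsIrrCharacter.isCharacter θ.2
    have h1 : charDegree χ = charDegree (θ : H → ℂ) := by
      have := hres 1
      simp only [charDegree]
      have h2 : χ 1 = (θ : H → ℂ) 1 := by simpa using this
      rw [h2]
    refine ⟨⟨χ, hχ⟩, ?_, ?_⟩
    · rw [Finset.mem_filter]
      refine ⟨Finset.mem_univ _, ?_, ?_⟩
      · show ¬ p ∣ charDegree χ
        rw [h1]
        exact hθ.2.2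
      · show ¬ p ∣ detOrder χ
        rw [hdet]
        exact not_dvd_detOrder htop hθc
    · apply Subtype.ext
      funext n
      exact hres n
  · intro χ hχ
    rfl

end main

/-- Fix a prime p and a finite group G. Let s be the sum of χ(1)² over the irreducible characters χ of G whose degree is not divisible by p and whose determinantal order o(χ) is not divisible by p. Then the order of O^p(G), the subgroup generated by the elements of order prime to p, is congruent to s modulo p. -/
theorem result {G : Type*} [Group G] [Finite G] (p : ℕ) (hp : p.Prime) : (Nat.card (Cfsg.pResidual p G) : ℤ) ≡ (∑ᶠ χ ∈ {χ : Cfsg.IrrCharacter G | ¬ p ∣ Cfsg.charDegree (χ : G → ℂ) ∧ ¬ p ∣ Cfsg.detOrder (χ : G → ℂ)}, (Cfsg.charDegree (χ : G → ℂ) : ℤ) ^ 2) [ZMOD p] := by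
  classical
  haveI : Fact p.Prime := ⟨hp⟩
  have h1 := card_modEq (G := G) (p := p)
  rw [sum_eq] at h1
  have h2 : {χ : Cfsg.IrrCharacter G | ¬ p ∣ Cfsg.charDegree (χ : G → ℂ) ∧ ¬ p ∣ Cfsg.detOrder (χ : G → ℂ)} =
      ((Finset.univ.filter fun χ : Cfsg.IrrCharacter G =>
        ¬ p ∣ Cfsg.charDegree (χ : G → ℂ) ∧ ¬ p ∣ Cfsg.detOrder (χ : G → ℂ)) : Finset _) := by
    ext χ
    simp
  rw [h2, finsum_mem_coe_finset]
  have h3 := (Int.natCast_modEq_iff).2 h1
  push_cast at h3
  exact h3

end Cfsg.Agent.S4455
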