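import Mathlib
import Cfsg.Statements.S4456
import Cfsg.Agent.S4455

set_option autoImplicit false
set_option linter.style.haveILetI false
set_option linter.unusedSectionVars false
open Cfsg

namespace Cfsg.Agent.S4456

open Cfsg.Agent.Lib
open Cfsg.Agent.Lib.CharBasic
open Cfsg.Agent.Lib.CharKernel
open Cfsg.Agent.Lib.PResid
open Cfsg.Agent.S4455

/-- The determinantal character of a linear character is the character itself. -/
theorem detChar_of_degree_one {G : Type*} [Group G] [Finite G] {χ : G → ℂ} (hχ : IsCharacter G χ)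
    (h1 : χ 1 = 1) : detChar χ = χ := by
  obtain ⟨n, ρ, rfl⟩ := hχ
  rw [char_one_eq_rep] at h1
  have hn : n = 1 := by exact_mod_cast h1
  subst hn
  funext g
  rw [DetChar.detChar_of_rep]
  rw [Representation.character, ← LinearMap.det_toMatrix (Pi.basisFun ℂ (Fin 1)),
    LinearMap.trace_eq_matrix_trace ℂ (Pi.basisFun ℂ (Fin 1)), Matrix.det_fin_one,
    Matrix.trace_fin_one]

section

variable {G : Type*} [Group G] [Finite G]

instance finite_hom : Finite (G →* ℂˣ) := by
  let f : (G →* ℂˣ) → IrrCharacter G := fun β => ⟨fun g => ((β g : ℂˣ) : ℂ), isIrrCharacter_of_hom β⟩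
  apply Finite.of_injective f
  intro a b h
  ext g
  exact congrFun (congrArg Subtype.val h) g

/-- The characters of order prime to `p`. -/
def primeToP (p : ℕ) [hp : Fact p.Prime] : Subgroup (G →* ℂˣ) where
  carrier := {f | ¬ p ∣ orderOf f}
  one_mem' := by
    show ¬ p ∣ orderOf (1 : G →* ℂˣ)
    rw [orderOf_one]
    exact hp.out.one_lt.ne' ∘ Nat.dvd_one.1
  mul_mem' := by
    intro a b ha hb
    show ¬ p ∣ orderOf (a * b)
    intro h
    have h1 := dvd_trans h ((Commute.all a b).orderOf_mul_dvd_mul_orderOf)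
    rcases (hp.out.dvd_mul).1 h1 with h2 | h2
    · exact ha h2
    · exact hb h2
  inv_mem' := by
    intro a ha
    have h : orderOf a⁻¹ = orderOf a := orderOf_inv a
    show ¬ p ∣ orderOf a⁻¹
    rw [h]
    exact ha

theorem not_dvd_card_primeToP (p : ℕ) [hp : Fact p.Prime] :
    ¬ p ∣ Nat.card (primeToP (G := G) p) := by
  intro h
  obtain ⟨x, hx⟩ := exists_prime_orderOf_dvd_card' p h
  have h1 : ¬ p ∣ orderOf (x : G →* ℂˣ) := x.2
  rw [Subgroup.orderOf_coe, hx] at h1
  exact h1 dvd_rfl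

open scoped Classical in
theorem card_eq (p : ℕ) [hp : Fact p.Prime]
    (hdeg : ∀ χ : IrrCharacter G, charDegree (χ : G → ℂ) ≠ 1 → p ∣ charDegree (χ : G → ℂ)) :
    ∑ χ ∈ Finset.univ.filter (fun χ : IrrCharacter G =>
      (¬ p ∣ charDegree (χ : G → ℂ) ∧ ¬ p ∣ detOrder (χ : G → ℂ))),
      charDegree (χ : G → ℂ) ^ 2 = Nat.card (primeToP (G := G) p) := by
  letI : Fintype (primeToP (G := G) p) := Fintype.ofFinite _
  rw [Nat.card_eq_fintype_card]
  have hhom : ∀ β : G →* ℂˣ, charDegree (fun g => ((β g : ℂˣ) : ℂ)) = 1 := by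
    intro β
    simp [charDegree]
  have hdet : ∀ β : G →* ℂˣ, detOrder (fun g => ((β g : ℂˣ) : ℂ)) = orderOf β := by
    intro β
    rw [detOrder, detChar_of_degree_one (IsIrrCharacter.isCharacter (isIrrCharacter_of_hom β))
      (by simp), orderOf_coe_hom]
  symm
  rw [← Finset.card_univ, Finset.card_eq_sum_ones]
  refine Finset.sum_bij (fun β _ => ⟨fun g => (((β : G →* ℂˣ) g : ℂˣ) : ℂ), isIrrCharacter_of_hom _⟩)
    ?_ ?_ ?_ ?_
  · intro β _
    rw [Finset.mem_filter]
    refine ⟨Finset.mem_univ _, ?_, ?_⟩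
    · show ¬ p ∣ charDegree (fun g => (((β : G →* ℂˣ) g : ℂˣ) : ℂ))
      rw [hhom]
      exact hp.out.one_lt.ne' ∘ Nat.dvd_one.1
    · show ¬ p ∣ detOrder (fun g => (((β : G →* ℂˣ) g : ℂˣ) : ℂ))
      rw [hdet]
      exact β.2
  · intro a _ b _ h
    apply Subtype.ext
    ext g
    exact congrFun (congrArg Subtype.val h) g
  · intro χ hχ
    rw [Finset.mem_filter] at hχ
    have h1 : charDegree (χ : G → ℂ) = 1 := by
      by_contra hne
      exact hχ.2.1 (hdeg χ hne)
    have hc := IsIrrCharacter.isCharacter χ.2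
    have h2 : (χ : G → ℂ) 1 = 1 := by
      rw [one_eq_charDegree hc, h1]
      simp
    obtain ⟨f, hf⟩ := exists_hom_of_degree_one hc h2
    have h3 : (χ : G → ℂ) = fun g => ((f g : ℂˣ) : ℂ) := funext hf
    refine ⟨⟨f, ?_⟩, Finset.mem_univ _, ?_⟩
    · show ¬ p ∣ orderOf f
      rw [← hdet, ← h3]
      exact hχ.2.2
    · exact Subtype.ext h3.symm
  · intro β _
    show 1 = charDegree (fun g => (((β : G →* ℂˣ) g : ℂˣ) : ℂ)) ^ 2
    rw [hhom]
    simp

end

/-- Let p be a prime and G a finite group such that p divides the degree of every irreducible character of G of degree greater than one. Then G has a normal p-complement: a normal subgroup of order prime to p whose index is a power of p. -/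
theorem result {G : Type*} [Group G] [Finite G] (p : ℕ) (hp : p.Prime) (hdeg : ∀ χ : Cfsg.IrrCharacter G, Cfsg.charDegree (χ : G → ℂ) ≠ 1 → p ∣ Cfsg.charDegree (χ : G → ℂ)) : ∃ N : Subgroup G, N.Normal ∧ (Nat.card N).Coprime p ∧ ∃ k : ℕ, N.index = p ^ k := by
  classical
  haveI : Fact p.Prime := ⟨hp⟩
  refine ⟨pResidual p G, pResidual_normal p, ?_, ?_⟩
  · have h1 := card_modEq (G := G) (p := p)
    rw [sum_eq, card_eq p hdeg] at h1
    apply Nat.Coprime.symm
    rw [Nat.Prime.coprime_iff_not_dvd hp]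
    intro h2
    apply not_dvd_card_primeToP (G := G) p
    exact (h1.dvd_iff dvd_rfl).1 h2
  · obtain ⟨k, hk⟩ := (isPGroup_quotient_pResidual (G := G) p).exists_card_eq
    exact ⟨k, hk⟩

end Cfsg.Agent.S4456
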