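import Mathlib
import Cfsg.Statements.S0175
import Cfsg.Agent.Lib.CharInd
import Cfsg.Agent.Lib.CharAvg
import Cfsg.Agent.Lib.CharKernel

set_option autoImplicit false
open Cfsg

namespace Cfsg.Agent.S0175

open Cfsg.Agent.Lib.CharBasic Cfsg.Agent.Lib.CharInd Cfsg.Agent.Lib.CharAvg Cfsg.Agent.Lib.CharKernel

section

variable {G : Type*} [Group G] [Fintype G]

/-- A subgroup containing `x` whenever the permutation character takes its degree at `x`. -/
theorem mem_of_perm_char_eq (H : Subgroup G) {x : G}
    (hx : indFun H (fun _ => (1 : ℂ)) x = indFun H (fun _ => (1 : ℂ)) 1) : x ∈ H := by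
  classical
  by_contra hxH
  have hone : (indFun H (fun _ => (1 : ℂ)) 1) = (H.index : ℂ) := by
    rw [indFun_one, mul_one]
  have hval : ∀ y : G, extendByZero H (fun _ => (1 : ℂ)) (y⁻¹ * x * y)
      = if y⁻¹ * x * y ∈ H then (1 : ℂ) else 0 := by
    intro y
    split_ifs with h
    · rw [extendByZero_of_mem H _ h]
    · rw [extendByZero_of_not_mem H _ h]
  rw [hone, indFun_apply] at hx
  simp only [hval] at hx
  rw [Finset.sum_boole] at hx
  have hHne := natCard_subgroup_ne_zero H
  have h1 : ((Finset.univ.filter fun y : G => y⁻¹ * x * y ∈ H).card : ℂ) = (Nat.card H : ℂ) * H.index := by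
    field_simp at hx
    rw [mul_comm (Nat.card H : ℂ)]
    simpa [mul_comm] using hx
  have h2 : (Finset.univ.filter fun y : G => y⁻¹ * x * y ∈ H).card = Nat.card H * H.index := by
    exact_mod_cast h1
  rw [Subgroup.card_mul_index, Nat.card_eq_fintype_card, ← Finset.card_univ] at h2
  have h3 := Finset.filter_card_eq h2 1 (Finset.mem_univ _)
  apply hxH
  simpa using h3

theorem key (hM : ∀ χ : G → ℂ, Cfsg.IsIrrCharacter G χ → ∃ (H : Subgroup G) (lam : H →* ℂˣ),
      χ = Cfsg.indFun H (fun h => (lam h : ℂ))) (n : ℕ) :
    ∀ χ : G → ℂ, IsIrrCharacter G χ → charDegree χ ≤ n →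
      ∀ x ∈ derivedSeries G n, χ x = χ 1 := by
  classical
  induction n with
  | zero =>
    intro χ hχ hd
    have := charDegree_pos hχ
    omega
  | succ n ih =>
    intro χ hχ hd x hx
    have hxn : x ∈ derivedSeries G n := derivedSeries_antitone G (Nat.le_succ n) hx
    by_cases hdn : charDegree χ ≤ n
    · exact ih χ hχ hdn x hxn
    have hdeq : charDegree χ = n + 1 := by omega
    obtain ⟨H, lam, hχH⟩ := hM χ hχ
    -- the index of `H`
    have hχone : χ 1 = (n + 1 : ℕ) := by
      rw [one_eq_charDegree (IsIrrCharacter.isCharacter hχ), hdeq]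
    have hindex : H.index = n + 1 := by
      have h1 := congrFun hχH 1
      rw [hχone, indFun_one] at h1
      simp only [map_one, Units.val_one, mul_one] at h1
      exact_mod_cast h1.symm
    -- the permutation character
    have hP : IsCharacter G (indFun H (fun _ => (1 : ℂ))) :=
      indFun_isCharacter H isCharacter_one
    obtain ⟨m, hm⟩ := exists_nat_decomp hP
    have hPclass := isClassFunction_of_isCharacter hP
    set triv : IrrCharacter G := ⟨fun _ => (1 : ℂ), isIrrCharacter_one⟩ with htriv
    have hmtriv : m triv = 1 := by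
      have h1 : classInner (indFun H (fun _ => (1 : ℂ))) (fun _ : G => (1 : ℂ)) = 1 := by
        rw [frobenius H _ (isClassFunction_of_isCharacter isCharacter_one)]
        exact classInner_irr_self isIrrCharacter_one
      rw [hm, classInner_nat_decomp m _ isIrrCharacter_one] at h1
      exact_mod_cast h1
    -- degree count
    have hdeg : ∑ i : IrrCharacter G, m i * charDegree (i : G → ℂ) = n + 1 := by
      have h1 : indFun H (fun _ => (1 : ℂ)) 1 = (H.index : ℂ) := by
        rw [indFun_one, mul_one]
      rw [hm, hindex] at h1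
      have h3 : (∑ i : IrrCharacter G, m i • (i : G → ℂ)) 1
          = ∑ i : IrrCharacter G, (m i : ℂ) * (i : G → ℂ) 1 := by
        simp [Finset.sum_apply]
      rw [h3] at h1
      have h2 : ∀ i : IrrCharacter G, (m i : ℂ) * (i : G → ℂ) 1
          = ((m i * charDegree (i : G → ℂ) : ℕ) : ℂ) := by
        intro i
        rw [one_eq_charDegree (IsIrrCharacter.isCharacter i.2)]
        push_cast
        ring
      simp only [h2] at h1
      exact_mod_cast h1
    -- all nontrivial constituents have degree `≤ n`
    have hle : ∀ i : IrrCharacter G, m i ≠ 0 → i ≠ triv → charDegree (i : G → ℂ) ≤ n := by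
      intro i hi hit
      have h1 : m triv * charDegree (triv : G → ℂ) + m i * charDegree (i : G → ℂ) ≤ n + 1 := by
        rw [← hdeg]
        have := Finset.sum_le_sum_of_subset (f := fun i => m i * charDegree (i : G → ℂ))
          (Finset.subset_univ {triv, i})
        rw [Finset.sum_pair (Ne.symm hit)] at this
        exact this
      have h2 : charDegree (triv : G → ℂ) = 1 := by
        have := one_eq_charDegree (isCharacter_one (G := G))
        have h3 : ((1 : ℕ) : ℂ) = (charDegree fun _ : G => (1 : ℂ) : ℕ) := by simpa using this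
        exact_mod_cast h3.symm
      rw [hmtriv, h2] at h1
      have h3 : 1 ≤ m i := Nat.one_le_iff_ne_zero.mpr hi
      have h4 : charDegree (i : G → ℂ) ≤ m i * charDegree (i : G → ℂ) := Nat.le_mul_of_pos_left _ h3
      omega
    -- every element of the `n`-th term lies in `H`
    have hsubH : ∀ y ∈ derivedSeries G n, y ∈ H := by
      intro y hy
      apply mem_of_perm_char_eq
      rw [hm]
      simp only [Finset.sum_apply, Pi.smul_apply]
      refine Finset.sum_congr rfl fun i _ => ?_
      by_cases hi : m i = 0
      · simp [hi]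
      by_cases hit : i = triv
      · subst hit
        rfl
      · rw [ih i i.2 (hle i hi hit) y hy]
    -- the linear character is trivial on the derived subgroup
    have hker : derivedSeries G (n + 1) ≤ (lam.ker).map H.subtype := by
      rw [derivedSeries_succ, Subgroup.commutator_le]
      intro a ha b hb
      let a' : H := ⟨a, hsubH a ha⟩
      let b' : H := ⟨b, hsubH b hb⟩
      refine ⟨a' * b' * a'⁻¹ * b'⁻¹, ?_, rfl⟩
      show a' * b' * a'⁻¹ * b'⁻¹ ∈ lam.ker
      rw [MonoidHom.mem_ker, map_mul, map_mul, map_mul, map_inv, map_inv,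
        mul_comm (lam a') (lam b'), mul_assoc (lam b'), mul_inv_cancel, mul_one, mul_inv_cancel]
    have hval : ∀ y : G, extendByZero H (fun h => (lam h : ℂ)) (y⁻¹ * x * y) = 1 := by
      intro y
      have hy : y⁻¹ * x * y ∈ derivedSeries G (n + 1) := by
        have hnormal : (derivedSeries G (n + 1)).Normal := derivedSeries_normal G (n + 1)
        have := hnormal.conj_mem x hx y⁻¹
        simpa using this
      obtain ⟨z, hz, hzx⟩ := hker hy
      have hzH : y⁻¹ * x * y ∈ H := by
        rw [← hzx]
        exact z.2
      rw [extendByZero_of_mem H _ hzH]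
      have hz2 : (⟨y⁻¹ * x * y, hzH⟩ : H) = z := Subtype.ext hzx.symm
      rw [hz2]
      have : lam z = 1 := hz
      simp [this]
    have h1 : χ x = (Nat.card H : ℂ)⁻¹ * Fintype.card G := by
      rw [hχH, indFun_apply]
      simp only [hval]
      simp
    have h2 : χ 1 = (Nat.card H : ℂ)⁻¹ * Fintype.card G := by
      rw [hχone, ← hindex, Nat.card_eq_fintype_card (α := G) |>.symm, ← Subgroup.card_mul_index H]
      have hHne := natCard_subgroup_ne_zero H
      push_cast
      field_simp
    rw [h1, h2]

end

/-- Taketa's Theorem on M-groups: if every irreducible complex character of a finite group is induced from a linear character (a homomorphism to ℂˣ) of some subgroup, the group is solvable. -/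
theorem result {G : Type*} [Group G] [Fintype G] (hM : ∀ χ : G → ℂ, Cfsg.IsIrrCharacter G χ → ∃ (H : Subgroup G) (lam : H →* ℂˣ), χ = Cfsg.indFun H (fun h => (lam h : ℂ))) : Group.IsSolvable G := by
  classical
  rw [Group.isSolvable_def]
  refine ⟨Nat.card G, ?_⟩
  rw [eq_bot_iff]
  intro x hx
  have h1 : IsConj x 1 := by
    apply isConj_of_forall_irr
    intro χ
    refine key hM _ χ χ.2 ?_ x hx
    exact Nat.le_of_dvd Nat.card_pos (charDegree_dvd_card χ.2)
  exact (Subgroup.mem_bot).mpr (isConj_one_left.mp h1)

end Cfsg.Agent.S0175
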