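import Mathlib
import Cfsg.Statements.S4034
import Cfsg.Agent.Lib.H73
import Cfsg.Agent.Lib.H73Real
import Cfsg.Agent.Lib.PCore
import Cfsg.Agent.Lib.Hall
import Cfsg.Agent.Lib.SylowNum
import Cfsg.Agent.Lib.BurnsidePQ

set_option autoImplicit false
open Cfsg
open scoped commutatorElement Pointwise

namespace Cfsg.Agent.S4034

open Cfsg.Agent.Lib.PCore

universe u

/-- `p`-regular elements have centralizers of `p`-power index. -/
def Hyp (p : ℕ) (G : Type u) [Group G] : Prop :=
  ∀ x : G, (orderOf x).Coprime p → ∃ k : ℕ, (Subgroup.centralizer ({x} : Set G)).index = p ^ k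

theorem class_card_eq {G : Type u} [Group G] [Finite G] (x : G) :
    (ConjClasses.mk x).carrier.ncard = (Subgroup.centralizer ({x} : Set G)).index := by
  rw [← Cfsg.Agent.Lib.H73Real.card_class_eq_index]
  rw [ConjClasses.carrier_eq_preimage_mk]
  rw [← Nat.card_coe_set_eq]
  apply Nat.card_congr
  apply Equiv.subtypeEquivRight
  intro y
  simp only [Set.mem_preimage, Set.mem_singleton_iff, ConjClasses.mk_eq_mk_iff_isConj]
  exact isConj_comm

section Basic

variable {G : Type u} [Group G] [Finite G] {p : ℕ} [hp : Fact p.Prime]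

theorem exists_lift (N : Subgroup G) [N.Normal] (y : G ⧸ N) (hy : (orderOf y).Coprime p) :
    ∃ x : G, (x : G ⧸ N) = y ∧ (orderOf x).Coprime p := by
  obtain ⟨z, rfl⟩ := QuotientGroup.mk_surjective y
  obtain ⟨u, v, a, h1, h2, h3⟩ := Cfsg.Agent.Lib.H73.exists_pow_decomp p z
  refine ⟨z ^ v, ?_, h3⟩
  have h4 : ((z ^ u : G) : G ⧸ N) = 1 := by
    have h5 : orderOf ((z ^ u : G) : G ⧸ N) ∣ p ^ a := by
      rw [← h2]
      exact orderOf_map_dvd (QuotientGroup.mk' N) _
    have h6 : orderOf ((z ^ u : G) : G ⧸ N) ∣ orderOf (z : G ⧸ N) := by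
      rw [QuotientGroup.mk_pow]
      exact orderOf_pow_dvd u
    have h7 : (orderOf ((z ^ u : G) : G ⧸ N)).Coprime p := Nat.Coprime.coprime_dvd_left h6 hy
    have h8 : orderOf ((z ^ u : G) : G ⧸ N) = 1 :=
      (Nat.Coprime.pow_right a h7).eq_one_of_dvd h5
    exact orderOf_eq_one_iff.mp h8
  have h9 : ((z ^ u * z ^ v : G) : G ⧸ N) = z := by rw [h1]
  rw [QuotientGroup.mk_mul, h4, one_mul] at h9
  exact h9

theorem hyp_quotient (h : Hyp p G) (N : Subgroup G) [N.Normal] : Hyp p (G ⧸ N) := by
  intro y hy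
  obtain ⟨x, rfl, hx⟩ := exists_lift N y hy
  obtain ⟨k, hk⟩ := h x hx
  set C := Subgroup.centralizer ({x} : Set G) with hC
  have h1 : C.map (QuotientGroup.mk' N) ≤ Subgroup.centralizer ({(x : G ⧸ N)} : Set (G ⧸ N)) := by
    rintro _ ⟨c, hc, rfl⟩
    have hc' : c ∈ Subgroup.centralizer ({x} : Set G) := hc
    rw [Subgroup.mem_centralizer_singleton_iff] at hc'
    rw [Subgroup.mem_centralizer_singleton_iff]
    have := congrArg (QuotientGroup.mk' N) hc'
    simpa using this
  have h2 := Subgroup.index_dvd_of_le h1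
  have h3 : (C.map (QuotientGroup.mk' N)).index ∣ C.index :=
    Subgroup.index_map_dvd C (QuotientGroup.mk'_surjective N)
  obtain ⟨j, -, hj⟩ := (Nat.dvd_prime_pow hp.out).mp (h2.trans (h3.trans (by rw [hk])))
  exact ⟨j, hj⟩

theorem hyp_normal (h : Hyp p G) (N : Subgroup G) [N.Normal] : Hyp p N := by
  intro x hx
  have hx' : (orderOf (x : G)).Coprime p := by rwa [Subgroup.orderOf_coe]
  obtain ⟨k, hk⟩ := h x hx'
  set C := Subgroup.centralizer ({(x : G)} : Set G) with hC
  have h1 : Subgroup.centralizer ({x} : Set N) = C.subgroupOf N := by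
    ext y
    rw [Subgroup.mem_subgroupOf, hC,
      Subgroup.mem_centralizer_singleton_iff, Subgroup.mem_centralizer_singleton_iff]
    constructor
    · intro hy
      exact congrArg Subtype.val hy
    · intro hy
      exact Subtype.ext hy
  have h3 := Cfsg.Agent.Lib.SylowNum.relIndex_normal_dvd_index C N
  rw [h1]
  obtain ⟨j, -, hj⟩ := (Nat.dvd_prime_pow hp.out).mp (h3.trans (by rw [hk]))
  exact ⟨j, hj⟩

/-- A group all of whose regular elements are trivial is a `p`-group. -/
theorem isPGroup_of_no_regular (h : ∀ g : G, (orderOf g).Coprime p → g = 1) : IsPGroup p G := by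
  rw [IsPGroup.iff_orderOf]
  intro z
  obtain ⟨u, v, a, h1, h2, h3⟩ := Cfsg.Agent.Lib.H73.exists_pow_decomp p z
  refine ⟨a, ?_⟩
  rw [h _ h3, mul_one] at h1
  rwa [h1] at h2

/-- A group of prime order or a `p`-group is solvable, and simple groups with a regular element of
`p`-power class are of prime order. -/
theorem solvable_simple [IsSimpleGroup G]
    (h : ∀ g : G, g ≠ 1 → (orderOf g).Coprime p → ∃ k : ℕ, (Subgroup.centralizer ({g} : Set G)).index = p ^ k) :
    Group.IsSolvable G := by
  by_cases h2 : ∃ g : G, g ≠ 1 ∧ (orderOf g).Coprime p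
  · obtain ⟨g, hg, hc⟩ := h2
    obtain ⟨k, hk⟩ := h g hg hc
    have hprime := Cfsg.Agent.Lib.BurnsidePQ.prime_card_of_class_prime_pow p k hp.out g hg hk
    have : Fact (Nat.card G).Prime := ⟨hprime⟩
    have hcyc : IsCyclic G := isCyclic_of_prime_card rfl
    exact Group.isSolvable_of_comm (fun a b => (hcyc.isMulCommutative).is_comm.comm a b)
  · push Not at h2
    have hP : IsPGroup p G := isPGroup_of_no_regular (fun g hg => by
      by_contra hne
      exact h2 g hne hg)
    have := hP.isNilpotent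
    infer_instance

/-- Normal and quotient induction for solvability. -/
theorem solvable_induct (Q : ∀ (G : Type u) [Group G], Prop)
    (hN : ∀ (G : Type u) [Group G] [Finite G], Q G → ∀ (N : Subgroup G) [N.Normal], Q N)
    (hQ : ∀ (G : Type u) [Group G] [Finite G], Q G → ∀ (N : Subgroup G) [N.Normal], Q (G ⧸ N))
    (hS : ∀ (G : Type u) [Group G] [Finite G] [IsSimpleGroup G], Q G → Group.IsSolvable G) :
    ∀ (n : ℕ) (G : Type u) [Group G] [Finite G], Nat.card G = n → Q G → Group.IsSolvable G := by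
  intro n
  induction n using Nat.strong_induction_on with
  | _ n ih =>
  intro G _ _ hn hG
  rcases subsingleton_or_nontrivial G with hsub | hnt
  · infer_instance
  by_cases h : ∃ N : Subgroup G, N.Normal ∧ N ≠ ⊥ ∧ N ≠ ⊤
  · obtain ⟨N, hNn, hNb, hNt⟩ := h
    have h0 := Subgroup.card_mul_index N
    have h2 : 1 < Nat.card N := Subgroup.one_lt_card_iff_ne_bot N |>.mpr hNb
    have h3 : N.index ≠ 1 := fun h' => hNt (Subgroup.index_eq_one.mp h')
    have h4 : N.index ≠ 0 := Subgroup.index_ne_zero_of_finite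
    have h5 : 1 < N.index := by omega
    have h1 : Nat.card N < n := by
      rw [← hn, ← h0]
      exact lt_mul_of_one_lt_right (by omega) h5
    have h6 : Nat.card (G ⧸ N) < n := by
      change N.index < n
      rw [← hn, ← h0]
      exact lt_mul_of_one_lt_left (by omega) h2
    have hs1 : Group.IsSolvable N := ih _ h1 N rfl (hN G hG N)
    have hs2 : Group.IsSolvable (G ⧸ N) := ih _ h6 (G ⧸ N) rfl (hQ G hG N)
    exact Group.isSolvable_of_ker_le_range N.subtype (QuotientGroup.mk' N) (by
      rw [QuotientGroup.ker_mk', Subgroup.range_subtype])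
  · push Not at h
    have : IsSimpleGroup G := ⟨fun N hN => by
      by_cases hb : N = ⊥
      · exact Or.inl hb
      · exact Or.inr (h N hN hb)⟩
    exact hS G hG

end Basic

section Forward

variable {p : ℕ} [hp : Fact p.Prime]

theorem solvable_of_hyp (G : Type u) [Group G] [Finite G] (h : Hyp p G) : Group.IsSolvable G :=
  solvable_induct (fun G _ => Hyp p G) (fun _ _ _ h N _ => hyp_normal h N)
    (fun _ _ _ h N _ => hyp_quotient h N)
    (fun _ _ _ _ h => solvable_simple (p := p) (fun g _ hc => h g hc)) _ G rfl h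

variable {G : Type u} [Group G] [Finite G]

theorem normal_le_centralizer (h : Hyp p G) (F : Subgroup G) [F.Normal]
    (hF : (Nat.card F).Coprime p) (x : G) (hx : (orderOf x).Coprime p) :
    F ≤ Subgroup.centralizer ({x} : Set G) := by
  obtain ⟨k, hk⟩ := h x hx
  set C := Subgroup.centralizer ({x} : Set G) with hC
  have h1 : C.relIndex F ∣ p ^ k := by
    rw [← hk]
    exact Cfsg.Agent.Lib.SylowNum.relIndex_normal_dvd_index C F
  have h2 : C.relIndex F ∣ Nat.card F := Subgroup.relIndex_dvd_card C F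
  have h3 : (C.relIndex F).Coprime p := Nat.Coprime.coprime_dvd_left h2 hF
  have h4 : C.relIndex F = 1 := (Nat.Coprime.pow_right k h3).eq_one_of_dvd h1
  exact Subgroup.relIndex_eq_one.mp h4

theorem orderOf_coprime_of_mem {F : Subgroup G} (hF : (Nat.card F).Coprime p) {y : G} (hy : y ∈ F) :
    (orderOf y).Coprime p := by
  have h1 : orderOf y ∣ Nat.card F := Subgroup.orderOf_dvd_natCard F hy
  exact Nat.Coprime.coprime_dvd_left h1 hF

/-- The key structural statement in the quotient by the `p`-core. -/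
theorem structure_core (X : Type u) [Group X] [Finite X] [Group.IsSolvable X] (h : Hyp p X)
    (hcore : pCore p X = ⊥) :
    (∀ y : X, (orderOf y).Coprime p → y ∈ pPrimeCore p X) ∧
      (∀ a ∈ pPrimeCore p X, ∀ b ∈ pPrimeCore p X, a * b = b * a) := by
  set F := pPrimeCore p X with hFdef
  have hFc : (Nat.card F).Coprime p := card_pPrimeCore_coprime p
  have hFn : F.Normal := Subgroup.sSup_normal _ (fun _ h => h.1)
  have hcent : ∀ y : X, (orderOf y).Coprime p → ∀ a ∈ F, y * a = a * y := by
    intro y hy a ha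
    have := normal_le_centralizer h F hFc y hy ha
    rw [Subgroup.mem_centralizer_singleton_iff] at this
    exact this.symm
  have hab : ∀ a ∈ F, ∀ b ∈ F, a * b = b * a := fun a ha b hb =>
    hcent a (orderOf_coprime_of_mem hFc ha) b hb
  have hnil : Group.IsNilpotent F := by
    let _ : CommGroup F := { (inferInstance : Group F) with
      mul_comm := fun a b => Subtype.ext (hab a.1 a.2 b.1 b.2) }
    infer_instance
  have hfit : F = fittingSubgroup X := by
    apply le_antisymm (le_fittingSubgroup hFn hnil)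
    have := fittingSubgroup_le_sup (G := X) p
    rwa [hcore, bot_sup_eq] at this
  refine ⟨?_, hab⟩
  intro y hy
  have h1 : y ∈ Subgroup.centralizer (fittingSubgroup X : Set X) := by
    rw [Subgroup.mem_centralizer_iff]
    intro a ha
    rw [← hfit] at ha
    exact (hcent y hy a ha).symm
  rw [hfit]
  exact centralizer_fittingSubgroup_le h1

theorem exists_complement (h : Hyp p G) :
    ∃ H : Subgroup G, IsMulCommutative H ∧ ¬ p ∣ Nat.card H ∧ ∃ k : ℕ, H.index = p ^ k := by
  have hsolv : Group.IsSolvable G := solvable_of_hyp G h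
  set V := pCore p G with hV
  have hX : Hyp p (G ⧸ V) := hyp_quotient h V
  have hcore : pCore p (G ⧸ V) = ⊥ := pCore_quotient_pCore p
  obtain ⟨hin, hab⟩ := structure_core (G ⧸ V) hX hcore
  set F := pPrimeCore p (G ⧸ V) with hF
  have hFc : (Nat.card F).Coprime p := card_pPrimeCore_coprime p
  have hFn : F.Normal := Subgroup.sSup_normal _ (fun _ h => h.1)
  -- `X/F` is a `p`-group
  have hXF : IsPGroup p ((G ⧸ V) ⧸ F) := by
    apply isPGroup_of_no_regular
    intro g hg
    obtain ⟨y, rfl, hy⟩ := exists_lift F g hg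
    exact (QuotientGroup.eq_one_iff y).mpr (hin y hy)
  obtain ⟨c, hc⟩ := IsPGroup.iff_card.mp hXF
  have hVp : IsPGroup p V := isPGroup_pCore p
  obtain ⟨a, ha⟩ := IsPGroup.iff_card.mp hVp
  let π := QuotientGroup.mk' V
  let L : Subgroup G := F.comap π
  have hVL : V ≤ L := by
    intro v hv
    change (v : G ⧸ V) ∈ F
    rw [(QuotientGroup.eq_one_iff v).mpr hv]
    exact F.one_mem
  let V' : Subgroup L := V.subgroupOf L
  have hV'n : V'.Normal := inferInstance
  have hV'card : Nat.card V' = Nat.card V :=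
    Nat.card_congr (Subgroup.subgroupOfEquivOfLe hVL).toEquiv
  let φ : L →* (G ⧸ V) := π.comp L.subtype
  have hφker : φ.ker = V' := by
    ext x
    simp only [φ, V', MonoidHom.mem_ker, MonoidHom.comp_apply, Subgroup.mem_subgroupOf, π]
    exact QuotientGroup.eq_one_iff _
  have hφrange : φ.range = F := by
    ext y
    constructor
    · rintro ⟨x, rfl⟩
      exact x.2
    · intro hy
      obtain ⟨x, rfl⟩ := QuotientGroup.mk'_surjective V y
      exact ⟨⟨x, hy⟩, rfl⟩
  have hV'index : V'.index = Nat.card F := by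
    rw [← hφker, Subgroup.index_ker, hφrange]
  have hcop : (Nat.card V').Coprime V'.index := by
    rw [hV'card, ha, hV'index]
    exact Nat.Coprime.pow_left _ hFc.symm
  obtain ⟨H', hH'⟩ := Subgroup.exists_right_complement'_of_coprime hcop
  have hH'card : Nat.card H' = Nat.card F := by
    have h1 := hH'.card_mul_card
    have h2 := Subgroup.card_mul_index V'
    rw [hV'index] at h2
    exact Nat.eq_of_mul_eq_mul_left Nat.card_pos (h1.trans h2.symm)
  refine ⟨H'.map L.subtype, ?_, ?_, ?_⟩
  · -- commutativity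
    have hcomm : ∀ a b : H', (a : L) * b = b * a := by
      intro a b
      have h1 : φ ((a : L) * b * (a : L)⁻¹ * (b : L)⁻¹) = 1 := by
        simp only [map_mul, map_inv]
        have := hab (φ a) (by rw [← hφrange]; exact ⟨_, rfl⟩) (φ b) (by rw [← hφrange]; exact ⟨_, rfl⟩)
        rw [this]
        group
      have h2 : (a : L) * b * (a : L)⁻¹ * (b : L)⁻¹ ∈ V' := by
        rw [← hφker]
        exact h1
      have h3 : (a : L) * b * (a : L)⁻¹ * (b : L)⁻¹ ∈ H' :=
        H'.mul_mem (H'.mul_mem (H'.mul_mem a.2 b.2) (H'.inv_mem a.2)) (H'.inv_mem b.2)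
      have h4 : (a : L) * b * (a : L)⁻¹ * (b : L)⁻¹ = 1 := by
        have := hH'.disjoint.le_bot (Subgroup.mem_inf.mpr ⟨h2, h3⟩)
        simpa using this
      have h5 : (a : L) * b = (a : L) * b * (a : L)⁻¹ * (b : L)⁻¹ * (b * a) := by group
      rw [h4, one_mul] at h5
      exact h5
    refine ⟨⟨fun a b => ?_⟩⟩
    obtain ⟨_, ⟨a1, ha1, rfl⟩⟩ := a
    obtain ⟨_, ⟨b1, hb1, rfl⟩⟩ := b
    apply Subtype.ext
    change (a1 : G) * b1 = b1 * a1
    exact congrArg Subtype.val (hcomm ⟨a1, ha1⟩ ⟨b1, hb1⟩)
  · rw [Subgroup.card_map_of_injective L.subtype_injective, hH'card]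
    intro h1
    have := Nat.Coprime.eq_one_of_dvd hFc.symm h1
    exact hp.out.one_lt.ne' this
  · have h1 : Nat.card (H'.map L.subtype) = Nat.card F := by
      rw [Subgroup.card_map_of_injective L.subtype_injective, hH'card]
    have h2 := Subgroup.card_mul_index (H'.map L.subtype)
    have h3 := Subgroup.card_mul_index L
    have h4 : L.index = F.index := Subgroup.index_comap_of_surjective F (QuotientGroup.mk'_surjective V)
    have h5 : F.index = p ^ c := hc
    have h6 : Nat.card L = Nat.card V * Nat.card F := by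
      have := Subgroup.card_mul_index V'
      rw [hV'card, hV'index] at this
      exact this.symm
    refine ⟨a + c, ?_⟩
    have h7 : Nat.card F * (H'.map L.subtype).index = Nat.card F * p ^ (a + c) := by
      rw [← h1, h2, ← h3, h4, h5, h6, ha, h1, pow_add]
      ring
    exact Nat.eq_of_mul_eq_mul_left Nat.card_pos h7

end Forward

section Backward

variable {p : ℕ} [hp : Fact p.Prime]

/-- Has an abelian `p`-complement. -/
def HasAC (p : ℕ) (G : Type u) [Group G] : Prop :=
  ∃ H : Subgroup G, IsMulCommutative H ∧ ¬ p ∣ Nat.card H ∧ ∃ k : ℕ, H.index = p ^ k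

theorem hasAC_normal {G : Type u} [Group G] [Finite G] (h : HasAC p G) (N : Subgroup G) [N.Normal] :
    HasAC p N := by
  obtain ⟨H, hab, hcard, k, hk⟩ := h
  refine ⟨H.subgroupOf N, ?_, ?_, ?_⟩
  · refine ⟨⟨fun a b => ?_⟩⟩
    apply Subtype.ext
    apply Subtype.ext
    have := hab.is_comm.comm (⟨a.1.1, a.2⟩ : H) ⟨b.1.1, b.2⟩
    exact congrArg (fun z : H => z.1) this
  · intro h1
    apply hcard
    refine h1.trans ?_
    have h2 : Nat.card (H.subgroupOf N) = Nat.card ((H.subgroupOf N).map N.subtype) :=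
      (Subgroup.card_map_of_injective N.subtype_injective).symm
    rw [h2]
    apply Subgroup.card_dvd_of_le
    rintro _ ⟨y, hy, rfl⟩
    exact hy
  · have h3 := Cfsg.Agent.Lib.SylowNum.relIndex_normal_dvd_index H N
    obtain ⟨j, -, hj⟩ := (Nat.dvd_prime_pow hp.out).mp (h3.trans (by rw [hk]))
    exact ⟨j, hj⟩

theorem hasAC_quotient {G : Type u} [Group G] [Finite G] (h : HasAC p G) (N : Subgroup G) [N.Normal] :
    HasAC p (G ⧸ N) := by
  obtain ⟨H, hab, hcard, k, hk⟩ := h
  refine ⟨H.map (QuotientGroup.mk' N), ?_, ?_, ?_⟩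
  · refine ⟨⟨fun a b => ?_⟩⟩
    obtain ⟨_, ⟨a1, ha1, rfl⟩⟩ := a
    obtain ⟨_, ⟨b1, hb1, rfl⟩⟩ := b
    apply Subtype.ext
    have := hab.is_comm.comm (⟨a1, ha1⟩ : H) ⟨b1, hb1⟩
    have h2 := congrArg (fun z : H => QuotientGroup.mk' N z.1) this
    simpa using h2
  · intro h1
    apply hcard
    exact h1.trans (Subgroup.card_map_dvd _ _)
  · have h3 : (H.map (QuotientGroup.mk' N)).index ∣ H.index :=
      Subgroup.index_map_dvd H (QuotientGroup.mk'_surjective N)
    obtain ⟨j, -, hj⟩ := (Nat.dvd_prime_pow hp.out).mp (h3.trans (by rw [hk]))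
    exact ⟨j, hj⟩

theorem solvable_of_hasAC (G : Type u) [Group G] [Finite G] (h : HasAC p G) : Group.IsSolvable G := by
  refine solvable_induct (fun G _ => HasAC p G) (fun _ _ _ h N _ => hasAC_normal h N)
    (fun _ _ _ h N _ => hasAC_quotient h N) ?_ _ G rfl h
  intro G _ _ _ h
  obtain ⟨H, hab, hcard, k, hk⟩ := h
  by_cases hb : H = ⊥
  · subst hb
    have hP : IsPGroup p G := by
      rw [IsPGroup.iff_card]
      refine ⟨k, ?_⟩
      rw [← hk, Subgroup.index_bot]
    have := hP.isNilpotent
    infer_instance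
  · obtain ⟨g, hg, hne⟩ := (Subgroup.bot_or_exists_ne_one H).resolve_left hb
    have hle : H ≤ Subgroup.centralizer ({g} : Set G) := by
      intro a ha
      rw [Subgroup.mem_centralizer_singleton_iff]
      have := hab.is_comm.comm (⟨a, ha⟩ : H) ⟨g, hg⟩
      exact congrArg (fun z : H => z.1) this
    obtain ⟨j, -, hj⟩ := (Nat.dvd_prime_pow hp.out).mp
      ((Subgroup.index_dvd_of_le hle).trans (by rw [hk]))
    have hprime := Cfsg.Agent.Lib.BurnsidePQ.prime_card_of_class_prime_pow p j hp.out g hne hj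
    have : Fact (Nat.card G).Prime := ⟨hprime⟩
    have hcyc : IsCyclic G := isCyclic_of_prime_card rfl
    exact Group.isSolvable_of_comm (fun a b => (hcyc.isMulCommutative).is_comm.comm a b)

theorem class_of_hasAC {G : Type u} [Group G] [Finite G] (h : HasAC p G) (x : G)
    (hx : (orderOf x).Coprime p) : ∃ k : ℕ, (ConjClasses.mk x).carrier.ncard = p ^ k := by
  have hsolv := solvable_of_hasAC G h
  obtain ⟨H, hab, hcard, k, hk⟩ := h
  have hcop : (Nat.card H).Coprime H.index := by
    rw [hk]
    exact Nat.Coprime.pow_right _ ((Nat.Prime.coprime_iff_not_dvd hp.out).mpr hcard).symm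
  obtain ⟨-, h2⟩ := Cfsg.Agent.Lib.Hall.hall_main _ G (Nat.card H) H.index rfl
    (Subgroup.card_mul_index H).symm hcop
  have h3 : (Nat.card (Subgroup.zpowers x)).Coprime H.index := by
    rw [Nat.card_zpowers, hk]
    exact Nat.Coprime.pow_right _ hx
  obtain ⟨g, hg⟩ := h2 H (Subgroup.zpowers x) rfl h3
  have h4 : x ∈ MulAut.conj g • H := hg (Subgroup.mem_zpowers x)
  rw [mem_conj_smul_iff] at h4
  set y := g⁻¹ * x * g with hy
  have h5 : ConjClasses.mk x = ConjClasses.mk y := by
    rw [ConjClasses.mk_eq_mk_iff_isConj, isConj_iff]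
    exact ⟨g⁻¹, by rw [hy]; group⟩
  rw [h5, class_card_eq]
  have hle : H ≤ Subgroup.centralizer ({y} : Set G) := by
    intro a ha
    rw [Subgroup.mem_centralizer_singleton_iff]
    have := hab.is_comm.comm (⟨a, ha⟩ : H) ⟨y, h4⟩
    exact congrArg (fun z : H => z.1) this
  obtain ⟨j, -, hj⟩ := (Nat.dvd_prime_pow hp.out).mp
    ((Subgroup.index_dvd_of_le hle).trans (by rw [hk]))
  exact ⟨j, hj⟩

end Backward

/-- Let G be a finite group and p a prime. Every conjugacy class of p-regular elements of G (elements of order prime to p) has p-power size if and only if G has an abelian p-complement, i.e. an abelian subgroup of order prime to p and p-power index. -/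
theorem result {G : Type*} [Group G] [Finite G] {p : ℕ} (hp : p.Prime) :
    (∀ x : G, (orderOf x).Coprime p → ∃ k : ℕ, (ConjClasses.mk x).carrier.ncard = p ^ k) ↔
    (∃ H : Subgroup G, IsMulCommutative H ∧ ¬ p ∣ Nat.card H ∧ ∃ k : ℕ, H.index = p ^ k) := by
  have : Fact p.Prime := ⟨hp⟩
  constructor
  · intro h
    apply exists_complement
    intro x hx
    obtain ⟨k, hk⟩ := h x hx
    exact ⟨k, by rw [← class_card_eq]; exact hk⟩
  · intro h x hx
    exact class_of_hasAC h x hx

end Cfsg.Agent.S4034
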