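import Cfsg.Statements.S4033
import Mathlib
import Cfsg.Agent.S4034
import Cfsg.Agent.Lib.TwoRegE
import Cfsg.Agent.Lib.TwoRegF

set_option autoImplicit false
set_option linter.unusedVariables false
set_option linter.style.haveILetI false
open Cfsg

namespace Cfsg.Agent.S4033

open Subgroup
open Cfsg.Agent.Lib.CoprimeClass (cs mem_cent cs_eq_one_iff exists_conj_mem_of_not_dvd)
open Cfsg.Agent.Lib.CentTools
open Cfsg.Agent.Lib.TwoRegB
open Cfsg.Agent.Lib.TwoRegC (all_conj_into)
open Cfsg.Agent.Lib.TwoRegD (two_primes_false sylow_not_central)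
open Cfsg.Agent.Lib.TwoRegE (single_prime_false)
open Cfsg.Agent.Lib.TwoRegF (central_case)

/-- Let G be a finite group and p a prime, and suppose the conjugacy classes of p-regular elements of G (elements of order prime to p) have exactly two distinct sizes. Then either G has an abelian p-complement (an abelian subgroup of order prime to p and p-power index), or there are a prime q ≠ p, a Sylow p-subgroup P, a Sylow q-subgroup Q and a central subgroup A such that PQ is a normal subgroup of order #P·#Q and G is the internal direct product PQ × A. -/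
theorem result {G : Type*} [Group G] [Finite G] {p : ℕ} (hp : p.Prime)
    (h2 : Set.ncard (Set.range fun x : {x : G // (orderOf x).Coprime p} => (ConjClasses.mk (x : G)).carrier.ncard) = 2) :
    (∃ H : Subgroup G, IsMulCommutative H ∧ ¬ p ∣ Nat.card H ∧ ∃ k : ℕ, H.index = p ^ k) ∨
    (∃ (q : ℕ) (_ : Fact q.Prime) (P : Sylow p G) (Q : Sylow q G) (A : Subgroup G), q ≠ p ∧
        A ≤ Subgroup.center G ∧ Nat.card ↥((P : Subgroup G) ⊔ (Q : Subgroup G)) = Nat.card P * Nat.card Q ∧
        ((P : Subgroup G) ⊔ (Q : Subgroup G)).Normal ∧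
        ((P : Subgroup G) ⊔ (Q : Subgroup G)) ⊓ A = ⊥ ∧ ((P : Subgroup G) ⊔ (Q : Subgroup G)) ⊔ A = ⊤) := by
  classical
  haveI : Fact p.Prime := ⟨hp⟩
  obtain ⟨a, b, hab, hS⟩ := Set.ncard_eq_two.1 h2
  have hval : ∀ x : G, (ConjClasses.mk x).carrier.ncard = cs x := Cfsg.Agent.S4034.class_card_eq
  have hmemS : ∀ x : G, Reg p x → cs x = a ∨ cs x = b := by
    intro x hx
    have h1 : cs x ∈ ({a, b} : Set ℕ) := by
      rw [← hS]
      exact ⟨⟨x, hx⟩, hval x⟩
    simpa using h1
  have hexS : ∀ c, c = a ∨ c = b → ∃ x : G, Reg p x ∧ cs x = c := by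
    intro c hc
    have h1 : c ∈ ({a, b} : Set ℕ) := by simpa using hc
    rw [← hS] at h1
    obtain ⟨⟨x, hx⟩, hxe⟩ := h1
    exact ⟨x, hx, (hval x).symm.trans hxe⟩
  have hone : cs (1 : G) = 1 := cs_eq_one_iff.2 (center G).one_mem
  -- the two values
  obtain ⟨m, hm1, h, x₀, hx₀, hx₀m⟩ : ∃ m : ℕ, m ≠ 1 ∧ (∀ x : G, Reg p x → cs x = 1 ∨ cs x = m) ∧
      ∃ x₀ : G, Reg p x₀ ∧ cs x₀ = m := by
    rcases hmemS 1 Reg.one with h1 | h1
    · rw [hone] at h1
      subst h1
      obtain ⟨x₀, hx₀, hx₀m⟩ := hexS b (Or.inr rfl)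
      exact ⟨b, hab.symm, hmemS, x₀, hx₀, hx₀m⟩
    · rw [hone] at h1
      subst h1
      obtain ⟨x₀, hx₀, hx₀m⟩ := hexS a (Or.inl rfl)
      exact ⟨a, hab, fun x hx => (hmemS x hx).symm, x₀, hx₀, hx₀m⟩
  have hm0 : m ≠ 0 := by
    rw [← hx₀m]
    exact index_ne_zero_of_finite
  have hx₀z : x₀ ∉ center G := by
    intro hz
    exact hm1 (hx₀m ▸ cs_eq_one_iff.2 hz)
  by_cases hall : ∀ q : ℕ, q.Prime → q ∣ m → q = p
  · -- Case I
    left
    apply (Cfsg.Agent.S4034.result hp).1
    intro x hx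
    rw [hval]
    rcases h x hx with h1 | h1
    · exact ⟨0, by rw [h1, pow_zero]⟩
    · refine ⟨m.primeFactorsList.length, ?_⟩
      rw [h1]
      exact Nat.eq_prime_pow_of_unique_prime_dvd hm0 (fun {d} hd hdd => hall d hd hdd)
  · -- Case II
    right
    push Not at hall
    obtain ⟨r, hr, hrm, hrp⟩ := hall
    haveI : Fact r.Prime := ⟨hr⟩
    refine ⟨r, ⟨hr⟩, ?_⟩
    have hcen : ∀ s : ℕ, s.Prime → s ≠ p → s ≠ r → ∀ y : G, (∃ k : ℕ, y ^ (s ^ k) = 1) →
        y ∈ center G := by
      intro s hs hsp hsr y ⟨k, hk⟩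
      by_contra hyz
      haveI : Fact s.Prime := ⟨hs⟩
      let Sh : Sylow s G := default
      obtain ⟨g, hg⟩ := exists_conj_mem_of_not_dvd (Sh : Subgroup G) Sh.not_dvd_index hk
      have hgz : g⁻¹ * y * g ∉ center G := by
        have := (conj_mem_center_iff (x := y) (g := g⁻¹))
        rw [inv_inv] at this
        rw [this]
        exact hyz
      obtain ⟨t, htS, -, htz, htspec⟩ :=
        exists_special (Sh : Subgroup G) (⊤ : Subgroup G) (center G) Sh.2 _ hg (mem_top _) hgz
      obtain ⟨kt, hkt⟩ := exists_pow_of_isPGroup Sh.2 htS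
      have htN : Reg p t := reg_of_pow hs hp hsp hkt
      have htc : (orderOf t).Coprime r :=
        Nat.Coprime.coprime_dvd_left (orderOf_dvd_of_pow_eq_one hkt)
          (Nat.Coprime.pow_left _ ((Nat.coprime_primes hs hr).2 hsr))
      let R : Sylow r G := default
      have hR := sylow_not_central hx₀m hrm R
      have hconj := all_conj_into h hp hrp R hR hrm hsr hsp Sh htS htz htspec
      have hCu : ∀ u ∈ Cn t, Reg p u → u ∉ center G → Cn u = Cn t :=
        fun u hu huN huz => cent_of_mem h hp hrp R hR hrm htN htz htc hu huN huz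
      by_cases hτ : ∀ q : ℕ, q.Prime → q ∣ m → q = p ∨ q = r
      · exact single_prime_false h hrp hrm hτ hsr hsp hkt htz hCu hconj
      · push Not at hτ
        obtain ⟨q, hq, hqm, hqp, hqr⟩ := hτ
        haveI : Fact q.Prime := ⟨hq⟩
        exact two_primes_false h hp htN htz hCu hconj hrp hqp (Ne.symm hqr) hrm hqm
    obtain ⟨P, Q, A, h1, h2', h3, h4, h5⟩ := central_case (p := p) (r := r) hrp hcen
    exact ⟨P, Q, A, hrp, h1, h2', h3, h4, h5⟩

end Cfsg.Agent.S4033
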