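import Mathlib
import Cfsg.Statements.S0117
import Cfsg.Agent.Lib.NPCThompson
import Cfsg.Agent.Lib.ZJe

set_option autoImplicit false
open Cfsg
open Cfsg.Agent.Lib.NPCBasic Cfsg.Agent.Lib.NPCConfig Cfsg.Agent.Lib.NPCFunctor Cfsg.Agent.Lib.NPCThompson

namespace Cfsg.Agent.S0117

/-- The Glauberman–Thompson Theorem states that for odd p, a single p-local subgroup, the normalizer of the centre of the Thompson subgroup of a Sylow p-subgroup, decides whether G has a normal p-complement. -/
theorem result {G : Type*} [Group G] [Finite G] {p : ℕ} [Fact p.Prime] (hp : p ≠ 2) (P : Sylow p G) : Cfsg.HasNormalPComplement p G ↔ Cfsg.HasNormalPComplement p (Subgroup.normalizer (Cfsg.centerThompsonOf p (P : Subgroup G) : Set G)) := by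
  constructor
  · intro h
    exact hasNPC_of_injective (Subgroup.subtype _) (Subgroup.subtype_injective _) h
  · intro hN
    have hW := isCharPFunctor_center (isCharPFunctor_thompson (p := p))
    have hind : ∀ {X : Type _} [Group X] (T : Subgroup X),
        inducedFunctor (centerFunctor (fun Q _ => thompsonSubgroup p Q)) T = centerThompsonOf p T := by
      intro X _ T
      rw [inducedFunctor_center]
      rfl
    refine functor_reduction hW (Sec := fun _ _ => True) (fun _ _ _ _ => trivial) (fun _ _ _ _ _ => trivial)
      ?_ trivial P ?_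
    · intro X _ _ T K _ hK
      rw [hind]
      exact Cfsg.Agent.Lib.ZJe.zj_e_normal hp T hK.cent (fun V _ hV => config_pStable hK T.isPGroup' hp V hV)
    · rw [hind]; exact hN

end Cfsg.Agent.S0117
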