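import Mathlib
import Cfsg.Agent.Lib.FusionSatBasic
import Cfsg.Statements.S5144
-- import your own Cfsg.Agent.* helpers here

set_option autoImplicit false
open Cfsg

namespace Cfsg.Agent.S5144

open Cfsg.FusionSystem Cfsg.Agent.Lib.FusionSatBasic

theorem isCentral_bot {Ω : Type*} [Group Ω] {S : Subgroup Ω} (F : Cfsg.FusionSystem S) :
    F.IsCentral ⊥ := by
  refine ⟨bot_le, fun P φ hφ => ?_⟩
  obtain ⟨χ, hχ, h⟩ := exists_cast F (Q := P) (P := P ⊔ ⊥) (by simp) hφ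
  refine ⟨χ, hχ, fun x => ?_, fun x => ?_⟩
  · exact h _ _
  · have hx : (x : Ω) = 1 := Subgroup.mem_bot.mp x.2
    have : (Subgroup.inclusion (le_sup_right : ⊥ ≤ P ⊔ ⊥) x) = 1 := Subtype.ext hx
    rw [this, map_one, hx]

theorem isCentral_sup {Ω : Type*} [Group Ω] {S : Subgroup Ω} (F : Cfsg.FusionSystem S)
    (Q R : Subgroup Ω) (hQ : F.IsCentral Q) (hR : F.IsCentral R) : F.IsCentral (Q ⊔ R) := by
  refine ⟨sup_le hQ.1 hR.1, fun P φ hφ => ?_⟩
  obtain ⟨ψ₁, hψ₁, h₁, h₁'⟩ := hQ.2 P φ hφ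
  obtain ⟨ψ₂, hψ₂, h₂, h₂'⟩ := hR.2 _ ψ₁ hψ₁
  have hle : P ⊔ (Q ⊔ R) ≤ (P ⊔ Q) ⊔ R := by
    rw [sup_assoc]
  refine ⟨_, restrict_mem F hle hψ₂, fun x => ?_, fun x => ?_⟩
  · have := h₂ (Subgroup.inclusion (le_sup_left : P ≤ P ⊔ Q) x)
    rw [h₁] at this
    exact this
  · have hsub : Q ⊔ R ≤ fixSubgroup ψ₂ := by
      refine sup_le ?_ ?_
      · intro y hy
        rw [mem_fixSubgroup]
        refine ⟨le_sup_left (a := P ⊔ Q) (le_sup_right (a := P) hy), ?_⟩
        have := h₂ (Subgroup.inclusion (le_sup_right : Q ≤ P ⊔ Q) ⟨y, hy⟩)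
        rw [h₁' ⟨y, hy⟩] at this
        exact this
      · intro y hy
        rw [mem_fixSubgroup]
        refine ⟨le_sup_right (a := P ⊔ Q) hy, ?_⟩
        exact h₂' ⟨y, hy⟩
    obtain ⟨_, h⟩ := (mem_fixSubgroup ψ₂ x).mp (hsub x.2)
    exact h

/-- For a fusion system over a finite subgroup S, the centre of the system (the join of all subgroups central in it) is itself central in the system, hence its largest central subgroup. -/
theorem result {Ω : Type*} [Group Ω] {S : Subgroup Ω} [Finite S] (F : Cfsg.FusionSystem S) : F.IsCentral F.center := by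
  have h := sSup_mem_of_closed (S := S) {Q : Subgroup Ω | F.IsCentral Q} (fun Q hQ => hQ.1)
    (isCentral_bot F) (fun Q R hQ hR => isCentral_sup F Q R hQ hR)
  exact h

end Cfsg.Agent.S5144
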