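import Mathlib
import Cfsg.Agent.Lib.FusionFactor
import Cfsg.Statements.S5136
-- import your own Cfsg.Agent.* helpers here

set_option autoImplicit false
open Cfsg

namespace Cfsg.Agent.S5136

open Cfsg.FusionSystem Cfsg.Agent.Lib.FusionSatBasic

variable {Ω₁ Ω₂ : Type*} [Group Ω₁] [Group Ω₂] {S₁ : Subgroup Ω₁} {S₂ : Subgroup Ω₂}

theorem fst_mem {P : Subgroup (Ω₁ × Ω₂)} (x : P) : (x : Ω₁ × Ω₂).1 ∈ P.map (MonoidHom.fst Ω₁ Ω₂) :=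
  ⟨x, x.2, rfl⟩

theorem snd_mem {P : Subgroup (Ω₁ × Ω₂)} (x : P) : (x : Ω₁ × Ω₂).2 ∈ P.map (MonoidHom.snd Ω₁ Ω₂) :=
  ⟨x, x.2, rfl⟩

/-- The maps of the direct product. -/
def prodHom (F₁ : Cfsg.FusionSystem S₁) (F₂ : Cfsg.FusionSystem S₂) (P : Subgroup (Ω₁ × Ω₂)) :
    Set (P →* Ω₁ × Ω₂) :=
  {φ | P ≤ S₁.prod S₂ ∧
      ∃ φ₁ ∈ F₁.Hom (P.map (MonoidHom.fst Ω₁ Ω₂)), ∃ φ₂ ∈ F₂.Hom (P.map (MonoidHom.snd Ω₁ Ω₂)),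
        ∀ (x : P) (h₁ : (x : Ω₁ × Ω₂).1 ∈ P.map (MonoidHom.fst Ω₁ Ω₂))
          (h₂ : (x : Ω₁ × Ω₂).2 ∈ P.map (MonoidHom.snd Ω₁ Ω₂)),
          φ x = (φ₁ ⟨(x : Ω₁ × Ω₂).1, h₁⟩, φ₂ ⟨(x : Ω₁ × Ω₂).2, h₂⟩)}

theorem prodHom_injective (F₁ : Cfsg.FusionSystem S₁) (F₂ : Cfsg.FusionSystem S₂)
    {P : Subgroup (Ω₁ × Ω₂)} {φ : P →* Ω₁ × Ω₂} (h : φ ∈ prodHom F₁ F₂ P) : Function.Injective φ := by
  obtain ⟨-, φ₁, hφ₁, φ₂, hφ₂, hφ⟩ := h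
  intro a b hab
  rw [hφ a (fst_mem a) (snd_mem a), hφ b (fst_mem b) (snd_mem b)] at hab
  have h1 := F₁.injective_of_mem hφ₁ (congrArg Prod.fst hab)
  have h2 := F₂.injective_of_mem hφ₂ (congrArg Prod.snd hab)
  apply Subtype.ext
  exact Prod.ext (congrArg Subtype.val h1) (congrArg Subtype.val h2)

/-- The direct product system. -/
def prodSystem (F₁ : Cfsg.FusionSystem S₁) (F₂ : Cfsg.FusionSystem S₂) :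
    Cfsg.FusionSystem (S₁.prod S₂) where
  Hom P := prodHom F₁ F₂ P
  le_of_mem := by
    rintro P φ ⟨hP, φ₁, hφ₁, φ₂, hφ₂, hφ⟩
    refine ⟨hP, fun x => ?_⟩
    rw [hφ x (fst_mem x) (snd_mem x)]
    exact ⟨val_mem F₁ hφ₁ _, val_mem F₂ hφ₂ _⟩
  injective_of_mem := fun h => prodHom_injective F₁ F₂ h
  conj_mem := by
    rintro P ⟨g₁, g₂⟩ hP ⟨hg₁, hg₂⟩
    have h1 : P.map (MonoidHom.fst Ω₁ Ω₂) ≤ S₁ := by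
      rintro _ ⟨x, hx, rfl⟩
      exact (hP hx).1
    have h2 : P.map (MonoidHom.snd Ω₁ Ω₂) ≤ S₂ := by
      rintro _ ⟨x, hx, rfl⟩
      exact (hP hx).2
    refine ⟨hP, _, F₁.conj_mem h1 hg₁, _, F₂.conj_mem h2 hg₂, fun x h₁ h₂ => ?_⟩
    rfl
  comp_mem := by
    rintro P Q φ ψ ⟨hP, φ₁, hφ₁, φ₂, hφ₂, hφ⟩ ⟨-, ψ₁, hψ₁, ψ₂, hψ₂, hψ⟩ h
    refine ⟨hP, ?_⟩
    have hv1 : ∀ x : ↥(P.map (MonoidHom.fst Ω₁ Ω₂)), φ₁ x ∈ Q.map (MonoidHom.fst Ω₁ Ω₂) := by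
      rintro ⟨_, y, hy, rfl⟩
      refine ⟨φ ⟨y, hy⟩, h _, ?_⟩
      rw [hφ ⟨y, hy⟩ (fst_mem ⟨y, hy⟩) (snd_mem ⟨y, hy⟩)]
      rfl
    have hv2 : ∀ x : ↥(P.map (MonoidHom.snd Ω₁ Ω₂)), φ₂ x ∈ Q.map (MonoidHom.snd Ω₁ Ω₂) := by
      rintro ⟨_, y, hy, rfl⟩
      refine ⟨φ ⟨y, hy⟩, h _, ?_⟩
      rw [hφ ⟨y, hy⟩ (fst_mem ⟨y, hy⟩) (snd_mem ⟨y, hy⟩)]
      rfl
    refine ⟨_, F₁.comp_mem hφ₁ hψ₁ hv1, _, F₂.comp_mem hφ₂ hψ₂ hv2, fun x h₁ h₂ => ?_⟩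
    show ψ ⟨φ x, h x⟩ = (ψ₁ ⟨φ₁ ⟨_, h₁⟩, _⟩, ψ₂ ⟨φ₂ ⟨_, h₂⟩, _⟩)
    rw [hψ ⟨φ x, h x⟩ (fst_mem _) (snd_mem _)]
    have e1 : ((φ x).1) = φ₁ ⟨_, h₁⟩ := by rw [hφ x h₁ h₂]
    have e2 : ((φ x).2) = φ₂ ⟨_, h₂⟩ := by rw [hφ x h₁ h₂]
    refine Prod.ext ?_ ?_
    · exact congrArg ψ₁ (Subtype.ext e1)
    · exact congrArg ψ₂ (Subtype.ext e2)
  inv_mem := by
    intro P φ hφ'
    have hinj := prodHom_injective F₁ F₂ hφ'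
    obtain ⟨hP, φ₁, hφ₁, φ₂, hφ₂, hφ⟩ := hφ'
    have e1 : ∀ x : P, (φ x).1 = φ₁ ⟨_, fst_mem x⟩ := fun x => by
      rw [hφ x (fst_mem x) (snd_mem x)]
    have e2 : ∀ x : P, (φ x).2 = φ₂ ⟨_, snd_mem x⟩ := fun x => by
      rw [hφ x (fst_mem x) (snd_mem x)]
    have hr1 : φ₁.range = φ.range.map (MonoidHom.fst Ω₁ Ω₂) := by
      ext y
      constructor
      · rintro ⟨⟨_, z, hz, rfl⟩, rfl⟩
        exact ⟨φ ⟨z, hz⟩, ⟨_, rfl⟩, e1 ⟨z, hz⟩⟩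
      · rintro ⟨_, ⟨z, rfl⟩, rfl⟩
        exact ⟨_, (e1 z).symm⟩
    have hr2 : φ₂.range = φ.range.map (MonoidHom.snd Ω₁ Ω₂) := by
      ext y
      constructor
      · rintro ⟨⟨_, z, hz, rfl⟩, rfl⟩
        exact ⟨φ ⟨z, hz⟩, ⟨_, rfl⟩, e2 ⟨z, hz⟩⟩
      · rintro ⟨_, ⟨z, rfl⟩, rfl⟩
        exact ⟨_, (e2 z).symm⟩
    obtain ⟨ψ₁, hψ₁, h1⟩ := exists_inv F₁ hφ₁ hr1
    obtain ⟨ψ₂, hψ₂, h2⟩ := exists_inv F₂ hφ₂ hr2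
    let ψ : φ.range →* Ω₁ × Ω₂ := P.subtype.comp (MonoidHom.ofInjective hinj).symm.toMonoidHom
    have hψφ : ∀ x : P, ψ ⟨φ x, ⟨x, rfl⟩⟩ = x := by
      intro x
      have : (⟨φ x, ⟨x, rfl⟩⟩ : φ.range) = MonoidHom.ofInjective hinj x := rfl
      simp only [ψ, MonoidHom.comp_apply]
      rw [this]
      simp
    refine ⟨ψ, ⟨?_, ψ₁, hψ₁, ψ₂, hψ₂, ?_⟩, hψφ⟩
    · rintro _ ⟨x, rfl⟩
      rw [hφ x (fst_mem x) (snd_mem x)]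
      exact ⟨val_mem F₁ hφ₁ _, val_mem F₂ hφ₂ _⟩
    · rintro ⟨_, x, rfl⟩ h₁ h₂
      rw [hψφ x]
      have a1 := h1 ⟨_, fst_mem x⟩ (by rw [← e1 x]; exact h₁)
      have a2 := h2 ⟨_, snd_mem x⟩ (by rw [← e2 x]; exact h₂)
      refine Prod.ext ?_ ?_
      · refine Eq.trans a1.symm ?_
        exact congrArg ψ₁ (Subtype.ext (e1 x).symm)
      · refine Eq.trans a2.symm ?_
        exact congrArg ψ₂ (Subtype.ext (e2 x).symm)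

/-- Let F₁ and F₂ be fusion systems over finite p-groups S₁ and S₂ (inside ambient groups Ω₁ and Ω₂). Then their direct product exists: there is a fusion system over S₁ × S₂ inside Ω₁ × Ω₂ whose maps with source P ≤ S₁ × S₂ are exactly the restrictions to P of the homomorphisms (x₁, x₂) ↦ (φ₁ x₁, φ₂ x₂) with φ₁ a map of F₁ on the first projection of P and φ₂ a map of F₂ on the second projection. -/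
theorem result {Ω₁ Ω₂ : Type*} [Group Ω₁] [Group Ω₂] {S₁ : Subgroup Ω₁} {S₂ : Subgroup Ω₂} [Finite S₁] [Finite S₂] (p : ℕ) [Fact p.Prime] (h₁ : IsPGroup p S₁) (h₂ : IsPGroup p S₂) (F₁ : Cfsg.FusionSystem S₁) (F₂ : Cfsg.FusionSystem S₂) : ∃ E : Cfsg.FusionSystem (S₁.prod S₂), Cfsg.FusionSystem.IsProductSystem F₁ F₂ E := by
  exact ⟨prodSystem F₁ F₂, fun P φ => Iff.rfl⟩

end Cfsg.Agent.S5136
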