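import Mathlib
import Cfsg.Agent.Lib.FusionResidual
import Cfsg.Statements.S5203

set_option autoImplicit false
open Cfsg

namespace Cfsg.Agent.S5203

open Cfsg.FusionSystem
open Cfsg.Agent.Lib.FusionAlperin Cfsg.Agent.Lib.FusionResidual



/-- Let F be a saturated fusion system over a finite p-group S and E a normal subsystem of F over T that has p-power index in F. Then every residual limit of E has the same maps as every residual limit of F (the residual limit is reached by alternately passing to the p-residual and the p'-residual subsystem until nothing changes). -/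
theorem result {Ω : Type*} [Group Ω] {S : Subgroup Ω} [Finite S] (p : ℕ) [Fact p.Prime] (hS : IsPGroup p S) (F : Cfsg.FusionSystem S) (hF : F.IsSaturated p) {T : Subgroup Ω} (E : Cfsg.FusionSystem T) (hE : E.IsNormalIn F p) (hidx : E.HasPPowerIndexIn F p) {U V : Subgroup Ω} (Finf : Cfsg.FusionSystem U) (hFinf : Finf.IsResidualLimitOf F p) (Einf : Cfsg.FusionSystem V) (hEinf : Einf.IsResidualLimitOf E p) : ∀ P : Subgroup Ω, Finf.Hom P = Einf.Hom P := by
  classical
  have hpp : p.Prime := Fact.out
  have hT : F.StronglyClosed T := hE.1.2.2.2.1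
  have hTS : T ≤ S := hT.1
  have hEsat : E.IsSaturated p := hE.1.1
  have hEF : E.IsSubsystemOf F := hidx.1
  have hfinS : Finite S := inferInstance
  have hfT : Finite T := finite_of_le hTS
  have hTp : IsPGroup p T := hS.to_le hTS
  have hyp := hyperfocal_eq_of_pPowerIndex hS hT hidx
  have hHS : F.hyperfocalSubgroup p ≤ S := Cfsg.Agent.Lib.FusionHyperfocal.hyperfocal_le F p
  have hfH : Finite (F.hyperfocalSubgroup p) := finite_of_le hHS
  have hHp : IsPGroup p (F.hyperfocalSubgroup p) := hS.to_le hHS
  have hHT : F.hyperfocalSubgroup p ≤ T := hidx.2.1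
  cases hFinf with
  | stable _ _ h1 h2 =>
    have hTS' : T = S := le_antisymm hTS (by
      have h3 := hHT
      rw [h1] at h3
      exact h3)
    subst hTS'
    have hEeq : E = F := by
      apply pResidual_unique (F := F) hS hEsat hF hEF (fun _ _ h => h) hidx.2.2
      intro R _ x hx
      obtain ⟨a, -, rfl⟩ := hx
      exact a.2
    subst hEeq
    have h3 := limit_of_stable hEinf hpp hfinS hS h1 h2
    intro P
    exact (h3 P).symm
  | step _ _ D D' hD hD' h₁ =>
    cases hEinf with
    | stable _ _ e1 e2 =>
      have hTeq : T = F.hyperfocalSubgroup p := e1.symm.trans hyp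
      subst hTeq
      have h3 : D = E := pResidual_unique (F := F) hHp hD.1 hEsat hD.2.1 hEF hD.2.2.2 hidx.2.2
      subst h3
      have h4 : D' = D := pPrimeResidual_unique hD' e2
      subst h4
      exact limit_of_stable h₁ hpp hfH hHp e1 e2
    | step _ _ DE DE' hDE hDE' h₂ =>
      have key : ∀ {B : Subgroup Ω} (_ : B = F.hyperfocalSubgroup p) (X X' : Cfsg.FusionSystem B),
          X.IsSaturated p → X.IsSubsystemOf F →
          (∀ R : Subgroup Ω, R ≤ B → (Cfsg.pResidual p (F.autGroup R)).map (F.autGroup R).subtype ≤ X.autGroup R) →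
          X.IsPPrimeResidual p X' → Einf.IsResidualLimitOf X' p → SameMaps Finf Einf := by
        intro B hB X X' hX1 hX2 hX3 hX4 hX5
        subst hB
        have h3 : D = X := pResidual_unique (F := F) hHp hD.1 hX1 hD.2.1 hX2 hD.2.2.2 hX3
        subst h3
        have h4 : D' = X' := pPrimeResidual_unique hD' hX4
        subst h4
        exact limit_unique h₁ hpp hfH hHp hX5
      refine key hyp DE DE' hDE.1 (fun P φ hφ => hEF P (hDE.2.1 P hφ)) ?_ hDE' h₂
      intro R hR
      have hRT : R ≤ T := hR.trans (by
        rw [hyp]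
        exact hHT)
      exact (pResidual_le_of_pPowerIndex hidx hRT).trans (hDE.2.2.2 R hR)
end Cfsg.Agent.S5203
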