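import Mathlib
import Cfsg.Agent.Lib.FusionNormal
import Cfsg.Agent.Lib.FusionNormalSys
import Cfsg.Agent.Lib.FusionStab
import Cfsg.Prelude.Def_PLocal
import Cfsg.Statements.S5236

set_option autoImplicit false
open Cfsg

namespace Cfsg.Agent.S5236

open Cfsg.FusionSystem
open Cfsg.Agent.Lib.FusionAlperin Cfsg.Agent.Lib.FusionStab
open scoped commutatorElement

section Aux

variable {Ω₀ : Type*} [Group Ω₀] {S₀ : Subgroup Ω₀} {F₀ : Cfsg.FusionSystem S₀}

theorem ucs_map {G : Type*} [Group G] (α : MulAut G) (i : ℕ) (x : G) (hx : x ∈ Subgroup.upperCentralSeries G i) :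
    α x ∈ Subgroup.upperCentralSeries G i := by
  induction i generalizing x with
  | zero =>
    rw [Subgroup.upperCentralSeries_zero] at hx ⊢
    rw [Subgroup.mem_bot.mp hx, map_one]
    exact Subgroup.one_mem _
  | succ i ih =>
    rw [Subgroup.mem_upperCentralSeries_succ_iff] at hx ⊢
    intro y
    have h1 := ih _ (hx (α⁻¹ y))
    have h2 : α ⁅x, α⁻¹ y⁆ = ⁅α x, y⁆ := by
      simp [commutatorElement_def]
    rwa [h2] at h1

theorem omega_map {p : ℕ} {P : Subgroup Ω₀} (α : MulAut P) (y : Ω₀) (hy : y ∈ Cfsg.omegaOne p P) :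
    ∃ h : y ∈ P, ((α ⟨y, h⟩ : P) : Ω₀) ∈ Cfsg.omegaOne p P := by
  induction hy using Subgroup.closure_induction with
  | mem y hy =>
    refine ⟨hy.1, Subgroup.subset_closure ⟨(α _).2, ?_⟩⟩
    have h1 : (⟨y, hy.1⟩ : P) ^ p = 1 := Subtype.ext hy.2
    have h2 : (α ⟨y, hy.1⟩) ^ p = 1 := by rw [← map_pow, h1, map_one]
    exact congrArg Subtype.val h2
  | one =>
    refine ⟨P.one_mem, ?_⟩
    have : (⟨1, P.one_mem⟩ : P) = 1 := rfl
    rw [this, map_one]
    exact Subgroup.one_mem _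
  | mul a b _ _ ha hb =>
    obtain ⟨ha1, ha2⟩ := ha
    obtain ⟨hb1, hb2⟩ := hb
    refine ⟨P.mul_mem ha1 hb1, ?_⟩
    have : (⟨a * b, P.mul_mem ha1 hb1⟩ : P) = ⟨a, ha1⟩ * ⟨b, hb1⟩ := rfl
    rw [this, map_mul]
    exact Subgroup.mul_mem _ ha2 hb2
  | inv a _ ha =>
    obtain ⟨ha1, ha2⟩ := ha
    refine ⟨P.inv_mem ha1, ?_⟩
    have : (⟨a⁻¹, P.inv_mem ha1⟩ : P) = ⟨a, ha1⟩⁻¹ := rfl
    rw [this, map_inv]
    exact Subgroup.inv_mem _ ha2

/-- In the normal case each map with source in `P` is the restriction of an automorphism in `Aut_F(P)`. -/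
theorem exists_aut_of_normal {P : Subgroup Ω₀} (hN : F₀.IsNormal P) {R : Subgroup Ω₀} (hRP : R ≤ P)
    {φ : R →* Ω₀} (hφ : φ ∈ F₀.Hom R) : ∃ α ∈ F₀.autGroup P, ∀ (x : R),
      ((α ⟨x, hRP x.2⟩ : P) : Ω₀) = φ x := by
  obtain ⟨ψ, hψ, h1, h2⟩ := hN.2 R φ hφ
  have hle : P ≤ R ⊔ P := le_sup_right
  let χ : P →* Ω₀ := ψ.comp (Subgroup.inclusion hle)
  have hχ : χ ∈ F₀.Hom P := restrict_mem hψ hle
  have hr : χ.range = P := by
    apply le_antisymm
    · rintro _ ⟨z, rfl⟩
      exact Cfsg.Agent.Lib.FusionNormal.map_mem_of_map_eq h2 _ z.2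
    · intro y hy
      obtain ⟨w, hw, hwy⟩ := Cfsg.Agent.Lib.FusionNormal.exists_of_map_eq h2 hy
      exact ⟨⟨w, hw⟩, hwy⟩
  refine ⟨autOfHom χ (hom_inj hχ) hr, autOfHom_mem hχ hr, fun x => ?_⟩
  rw [← h1 x]
  rfl

end Aux

/-- Let p be an odd prime, F a saturated fusion system over a finite p-group S and P a subgroup of S strongly closed in F. Then P is normal in F if and only if Ω₁(P) (the subgroup generated by the elements of order p of P) has a chain of subgroups 1 = Q₀ ≤ Q₁ ≤ ⋯ ≤ Qₙ = Ω₁(P), each strongly closed in F, with [Qᵢ₊₁, P] ≤ Qᵢ for all i. -/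
theorem result {Ω : Type*} [Group Ω] {S : Subgroup Ω} [Finite S] (p : ℕ) [Fact p.Prime] (hS : IsPGroup p S) (F : Cfsg.FusionSystem S) (hF : F.IsSaturated p) (hp : p ≠ 2) (P : Subgroup Ω) (hP : F.StronglyClosed P) : F.IsNormal P ↔ ∃ (n : ℕ) (Q : Fin (n + 1) → Subgroup Ω), Q 0 = ⊥ ∧ Q (Fin.last n) = Cfsg.omegaOne p P ∧ Monotone Q ∧ (∀ i : Fin (n + 1), F.StronglyClosed (Q i)) ∧ ∀ i : Fin n, ⁅Q i.succ, P⁆ ≤ Q i.castSucc := by
  classical
  have hPS : P ≤ S := hP.1
  have hfP : Finite P := finite_of_le hPS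
  have hPp : IsPGroup p P := hS.to_le hPS
  constructor
  · -- forward direction: `Ω₁(P) ∩ Z_i(P)`
    intro hN
    have hnil : Group.IsNilpotent P := hPp.isNilpotent
    obtain ⟨n, hn⟩ := hnil.nilpotent'
    let Z : ℕ → Subgroup Ω := fun i => (Subgroup.upperCentralSeries P i).map P.subtype
    have hZmem : ∀ i (x : P), (x : Ω) ∈ Z i ↔ x ∈ Subgroup.upperCentralSeries P i := by
      intro i x
      constructor
      · rintro ⟨y, hy, hyx⟩
        have : y = x := Subtype.ext hyx
        rwa [← this]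
      · intro hx
        exact ⟨x, hx, rfl⟩
    have hQP : ∀ i, Z i ⊓ Cfsg.omegaOne p P ≤ P := by
      rintro i _ ⟨⟨y, -, rfl⟩, -⟩
      exact y.2
    have hchar : ∀ (α : MulAut P) (i : ℕ) (x : P), (x : Ω) ∈ Z i ⊓ Cfsg.omegaOne p P →
        ((α x : P) : Ω) ∈ Z i ⊓ Cfsg.omegaOne p P := by
      intro α i x hx
      refine ⟨(hZmem i _).mpr (ucs_map α i x ((hZmem i x).mp hx.1)), ?_⟩
      obtain ⟨h, h2⟩ := omega_map α _ hx.2
      exact h2
    refine ⟨n, fun i => Z i ⊓ Cfsg.omegaOne p P, ?_, ?_, ?_, ?_, ?_⟩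
    · show Z 0 ⊓ Cfsg.omegaOne p P = ⊥
      have : Z 0 = ⊥ := by
        show (Subgroup.upperCentralSeries P 0).map P.subtype = ⊥
        rw [Subgroup.upperCentralSeries_zero, Subgroup.map_bot]
      rw [this, bot_inf_eq]
    · show Z n ⊓ Cfsg.omegaOne p P = Cfsg.omegaOne p P
      have h1 : Z n = P := by
        show (Subgroup.upperCentralSeries P n).map P.subtype = P
        rw [hn, ← MonoidHom.range_eq_map, Subgroup.range_subtype]
      rw [h1]
      apply inf_eq_right.mpr
      rw [Cfsg.omegaOne, Subgroup.closure_le]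
      exact fun x hx => hx.1
    · intro i j hij
      apply inf_le_inf_right
      exact Subgroup.map_mono (Subgroup.upperCentralSeries_mono P hij)
    · intro i
      refine ⟨(hQP i).trans hPS, fun R hR φ hφ x => ?_⟩
      obtain ⟨α, -, hα⟩ := exists_aut_of_normal hN (hR.trans (hQP i)) hφ
      rw [← hα x]
      exact hchar α i _ (hR x.2)
    · intro i
      rw [Subgroup.commutator_le]
      intro a ha b hb
      have haP : a ∈ P := hQP _ ha
      have h1 : (⟨a, haP⟩ : P) ∈ Subgroup.upperCentralSeries P (i + 1) := (hZmem _ _).mp ha.1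
      have h2 := Subgroup.mem_upperCentralSeries_succ_iff.mp h1 ⟨b, hb⟩
      refine ⟨(hZmem _ _).mpr h2, ?_⟩
      have h4 := omega_map (p := p) (MulAut.conj (⟨b, hb⟩ : P)) a⁻¹ (Subgroup.inv_mem _ ha.2)
      obtain ⟨h5, h6⟩ := h4
      have h7 : ⁅a, b⁆ = a * (b * a⁻¹ * b⁻¹) := by
        rw [commutatorElement_def]
        group
      rw [h7]
      exact Subgroup.mul_mem _ ha.2 h6
  · -- backward direction
    rintro ⟨n, Q, hQ0, hQn, hmono, hsc, hcomm⟩
    refine Cfsg.Agent.Lib.FusionNormalSys.isNormal_of_pgroup hS hF hP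
      (fun R hRS hFA hrec hC hPR t htP htN htR => ?_)
    have hfR : Finite R := finite_of_le hRS
    have hRp : IsPGroup p R := hS.to_le hRS
    let A : Option (Fin n) → Subgroup R := fun o => match o with
      | none => ⊤
      | some i => (Q i.succ).subgroupOf R
    let B : Option (Fin n) → Subgroup R := fun o => match o with
      | none => P.subgroupOf R
      | some i => (Q i.castSucc).subgroupOf R
    have hinvQ : ∀ (T : Subgroup Ω), F.StronglyClosed T → ∀ δ ∈ F.autGroup R, ∀ x ∈ T.subgroupOf R,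
        δ x ∈ T.subgroupOf R := by
      intro T hT δ hδ x hx
      exact Subgroup.mem_subgroupOf.mpr
        (Cfsg.Agent.Lib.FusionNormal.stronglyClosed_inf_normal hT hδ hRS x (Subgroup.mem_subgroupOf.mp hx))
    have hA : ∀ δ ∈ F.autGroup R, ∀ i, ∀ x ∈ A i, δ x ∈ A i := by
      intro δ hδ i x hx
      match i, hx with
      | none, _ => trivial
      | some i, hx => exact hinvQ _ (hsc _) δ hδ x hx
    have hB : ∀ δ ∈ F.autGroup R, ∀ i, ∀ x ∈ B i, δ x ∈ B i := by
      intro δ hδ i x hx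
      match i, hx with
      | none, hx => exact hinvQ _ hP δ hδ x hx
      | some i, hx => exact hinvQ _ (hsc _) δ hδ x hx
    refine ⟨pairStab (F.autGroup R) A B hA hB, inferInstance, ?_, ?_⟩
    · -- a `p`-group
      apply Cfsg.Agent.Lib.FusionNormalSys.isPGroup_of_coprime_eq_one
      intro g hg
      set β : MulAut R := ((g : F.autGroup R) : MulAut R) with hβ
      have hord : (orderOf β).Coprime p := by
        rw [hβ, Subgroup.orderOf_coe, Subgroup.orderOf_coe]
        exact hg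
      have hm : β ^ orderOf β = 1 := pow_orderOf_eq_one β
      have hgA := g.2
      -- the chain
      have hfixQ : ∀ i : ℕ, ∀ hi : i < n + 1, ∀ x : R, (x : Ω) ∈ Q ⟨i, hi⟩ → β x = x := by
        intro i
        induction i with
        | zero =>
          intro hi x hx
          have h0 : (⟨0, hi⟩ : Fin (n + 1)) = 0 := rfl
          rw [h0, hQ0] at hx
          have : x = 1 := Subtype.ext (Subgroup.mem_bot.mp hx)
          rw [this, map_one]
        | succ i ih =>
          intro hi x hx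
          have hi' : i < n := by omega
          have h1 : x⁻¹ * β x ∈ B (some ⟨i, hi'⟩) := hgA (some ⟨i, hi'⟩) x (Subgroup.mem_subgroupOf.mpr hx)
          have h2 : ((x⁻¹ * β x : R) : Ω) ∈ Q ⟨i, by omega⟩ := Subgroup.mem_subgroupOf.mp h1
          obtain ⟨k, hk⟩ := hRp (x⁻¹ * β x)
          exact fix_of_pair β hord hm x (ih (by omega) _ h2) hk
      have hW : IsPGroup p (P.subgroupOf R) := hRp.to_subgroup _
      have hfixW : ∀ x ∈ P.subgroupOf R, β x = x := by
        refine aut_fix_of_omega hp β hord (P.subgroupOf R) hW (fun x hx => hinvQ _ hP β (g : F.autGroup R).2 x hx) ?_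
        intro x hx hxp
        refine hfixQ n (by omega) x ?_
        have h1 : (⟨n, by omega⟩ : Fin (n + 1)) = Fin.last n := rfl
        rw [h1, hQn]
        refine Subgroup.subset_closure ⟨Subgroup.mem_subgroupOf.mp hx, ?_⟩
        exact congrArg Subtype.val hxp
      have hall : ∀ x : R, β x = x := by
        intro x
        have h1 : x⁻¹ * β x ∈ B none := hgA none x trivial
        obtain ⟨k, hk⟩ := hRp (x⁻¹ * β x)
        exact fix_of_pair β hord hm x (hfixW _ h1) hk
      apply Subtype.ext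
      apply Subtype.ext
      ext x
      exact congrArg Subtype.val (hall x)
    · -- conjugation by `t`
      intro h i x hx
      match i, hx with
      | none, _ =>
        refine Subgroup.mem_subgroupOf.mpr ?_
        show (x : Ω)⁻¹ * (t * (x : Ω) * t⁻¹) ∈ P
        have e : (x : Ω)⁻¹ * (t * (x : Ω) * t⁻¹) = ((x : Ω)⁻¹ * t * ((x : Ω)⁻¹)⁻¹) * t⁻¹ := by group
        rw [e]
        exact P.mul_mem (Cfsg.Agent.Lib.FusionNormal.StronglyClosed.conj_mem hP (S.inv_mem (hRS x.2)) htP) (P.inv_mem htP)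
      | some i, hx =>
        refine Subgroup.mem_subgroupOf.mpr ?_
        show (x : Ω)⁻¹ * (t * (x : Ω) * t⁻¹) ∈ Q i.castSucc
        have hxQ : (x : Ω)⁻¹ ∈ Q i.succ := Subgroup.inv_mem _ (Subgroup.mem_subgroupOf.mp hx)
        have h1 := hcomm i (Subgroup.commutator_mem_commutator hxQ htP)
        have e : ⁅(x : Ω)⁻¹, t⁆ = (x : Ω)⁻¹ * (t * (x : Ω) * t⁻¹) := by
          rw [commutatorElement_def]
          group
        rwa [e] at h1
end Cfsg.Agent.S5236
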