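import Mathlib
import Cfsg.Statements.S5226
import Cfsg.Agent.Lib.FusionNormal

set_option autoImplicit false
open Cfsg

namespace Cfsg.Agent.S5226

open Cfsg.Agent.Lib.FusionAlperin Cfsg.Agent.Lib.FusionNormal
open scoped Pointwise commutatorElement

variable {Ω : Type*} [Group Ω] {S : Subgroup Ω}

/-- The chain `R ≥ R ∩ Q ≥ R ∩ D j ≥ R ∩ D (j-1) ≥ ...`. -/
def chainOf (R Q : Subgroup Ω) (D : ℕ → Subgroup Ω) (j : ℕ) : ℕ → Subgroup R
  | 0 => ⊤
  | 1 => Q.subgroupOf R
  | (i + 2) => (D (j - i)).subgroupOf R

/-- The forward direction: the upper central series gives the chain. -/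
theorem forward_aux {p : ℕ} [Fact p.Prime] [Finite S] (hS : IsPGroup p S) {F : Cfsg.FusionSystem S}
    {Q : Subgroup Ω} (hQ : F.IsNormal Q) :
    ∃ (n : ℕ) (C : Fin (n + 1) → Subgroup Ω), C 0 = ⊥ ∧ C (Fin.last n) = Q ∧ Monotone C ∧
      (∀ i : Fin n, ⁅C i.succ, Q⁆ ≤ C i.castSucc) ∧ ∀ i : Fin n, F.WeaklyClosed (C i.castSucc) := by
  have hQS : Q ≤ S := hQ.1
  have hfQ : Finite Q := finite_of_le hQS
  have hQp : IsPGroup p Q := hS.to_le hQS
  have hnil : Group.IsNilpotent Q := hQp.isNilpotent
  let Z : ℕ → Subgroup Ω := fun j => (Subgroup.upperCentralSeries Q j).map Q.subtype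
  have hZQ : ∀ j, Z j ≤ Q := fun j => by
    rintro _ ⟨x, -, rfl⟩
    exact x.2
  refine ⟨Group.nilpotencyClass Q, fun i => Z i, ?_, ?_, ?_, ?_, ?_⟩
  · show (Subgroup.upperCentralSeries Q 0).map Q.subtype = ⊥
    rw [Subgroup.upperCentralSeries_zero, Subgroup.map_bot]
  · show Z (Group.nilpotencyClass Q) = Q
    have h1 : Subgroup.upperCentralSeries Q (Group.nilpotencyClass Q) = ⊤ := Subgroup.upperCentralSeries_nilpotencyClass
    show (Subgroup.upperCentralSeries Q (Group.nilpotencyClass Q)).map Q.subtype = Q
    rw [h1, ← MonoidHom.range_eq_map, Subgroup.range_subtype]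
  · intro a b hab
    exact Subgroup.map_mono (Subgroup.upperCentralSeries_mono Q hab)
  · intro i
    show ⁅Z ((i : ℕ) + 1), Q⁆ ≤ Z (i : ℕ)
    rw [Subgroup.commutator_le]
    rintro _ ⟨x, hx, rfl⟩ q hq
    have h1 := Subgroup.mem_upperCentralSeries_succ_iff.mp hx ⟨q, hq⟩
    exact ⟨_, h1, rfl⟩
  · intro i
    show F.WeaklyClosed (Z (i : ℕ))
    refine ⟨(hZQ _).trans hQS, fun φ hφ => ?_⟩
    obtain ⟨ψ, hψ, hψe, hψQ⟩ := hQ.2 _ φ hφ
    have hle : Q ≤ Z (i : ℕ) ⊔ Q := le_sup_right
    let ψ₁ : Q →* Ω := ψ.comp (Subgroup.inclusion hle)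
    have hψ₁ : ψ₁ ∈ F.Hom Q := restrict_mem hψ hle
    have hr : ψ₁.range = Q := by
      apply le_antisymm
      · rintro _ ⟨x, rfl⟩
        exact map_mem_of_map_eq hψQ _ x.2
      · intro y hy
        obtain ⟨x, hx, hxy⟩ := exists_of_map_eq hψQ hy
        exact ⟨⟨x, hx⟩, hxy⟩
    let α : MulAut Q := autOfHom ψ₁ (hom_inj hψ₁) hr
    have hchar : (Subgroup.upperCentralSeries Q (i : ℕ)).map α.toMonoidHom = Subgroup.upperCentralSeries Q (i : ℕ) :=
      Subgroup.characteristic_iff_map_eq.mp inferInstance α
    have hval : ∀ x : Z (i : ℕ), φ x = ((α ⟨x, hZQ _ x.2⟩ : Q) : Ω) := by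
      intro x
      rw [← hψe x]
      rfl
    apply le_antisymm
    · rintro _ ⟨x, rfl⟩
      rw [hval]
      obtain ⟨z, hz, hzx⟩ := x.2
      have h1 : (⟨x, hZQ _ x.2⟩ : Q) = z := Subtype.ext hzx.symm
      rw [h1]
      have h2 : α z ∈ Subgroup.upperCentralSeries Q (i : ℕ) := by
        rw [← hchar]
        exact ⟨z, hz, rfl⟩
      exact ⟨_, h2, rfl⟩
    · rintro _ ⟨y, hy, rfl⟩
      have h1 : y ∈ (Subgroup.upperCentralSeries Q (i : ℕ)).map α.toMonoidHom := by
        rw [hchar]; exact hy
      obtain ⟨z, hz, hzy⟩ := h1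
      refine ⟨⟨z, z, hz, rfl⟩, ?_⟩
      rw [hval]
      have h2 : (⟨z, hZQ _ ⟨z, hz, rfl⟩⟩ : Q) = z := rfl
      show ((α ⟨z, hZQ _ ⟨z, hz, rfl⟩⟩ : Q) : Ω) = y
      rw [h2]
      exact congrArg Subtype.val hzy


/-- Let F be a saturated fusion system over a finite p-group S and Q a subgroup of S. Then Q is normal in F (F equals the normalizer system of Q) if and only if Q is strongly closed in F and admits a central series 1 = Q₀ ≤ Q₁ ≤ ⋯ ≤ Qₙ = Q ([Qᵢ₊₁, Q] ≤ Qᵢ) all of whose proper terms are weakly closed in F. -/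
theorem result {Ω : Type*} [Group Ω] {S : Subgroup Ω} [Finite S] (p : ℕ) [Fact p.Prime] (hS : IsPGroup p S) (F : Cfsg.FusionSystem S) (hF : F.IsSaturated p) (Q : Subgroup Ω) : F.IsNormal Q ↔ F.StronglyClosed Q ∧ ∃ (n : ℕ) (C : Fin (n + 1) → Subgroup Ω), C 0 = ⊥ ∧ C (Fin.last n) = Q ∧ Monotone C ∧ (∀ i : Fin n, ⁅C i.succ, Q⁆ ≤ C i.castSucc) ∧ ∀ i : Fin n, F.WeaklyClosed (C i.castSucc) := by
  constructor
  · intro hQ
    exact ⟨IsNormal.stronglyClosed hQ, forward_aux hS hQ⟩
  · rintro ⟨hsc, n, C, hC0, hCn, hCm, hCc, hCw⟩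
    have hQS : Q ≤ S := hsc.1
    -- pass to a chain indexed by `ℕ`
    let D : ℕ → Subgroup Ω := fun j => C ⟨min j n, by omega⟩
    have hD0 : D 0 = ⊥ := by
      show C ⟨min 0 n, _⟩ = ⊥
      rw [← hC0]; congr 1
    have hDn : D n = Q := by
      show C ⟨min n n, _⟩ = Q
      rw [← hCn]; congr 1; ext; simp
    have hDm : ∀ a b, a ≤ b → D a ≤ D b := by
      intro a b hab
      apply hCm
      show min a n ≤ min b n
      omega
    have hDQ : ∀ j, D j ≤ Q := by
      intro j
      rw [← hCn]
      apply hCm
      exact Fin.le_last _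
    have hDc : ∀ j, j < n → ⁅D (j + 1), Q⁆ ≤ D j := by
      intro j hj
      have h1 := hCc ⟨j, hj⟩
      have h2 : D (j + 1) = C (Fin.succ ⟨j, hj⟩) := by
        show C ⟨min (j + 1) n, _⟩ = _
        congr 1; ext; simp; omega
      have h3 : D j = C (Fin.castSucc ⟨j, hj⟩) := by
        show C ⟨min j n, _⟩ = _
        congr 1; ext; simp; omega
      rw [h2, h3]; exact h1
    have hDw : ∀ j, j < n → F.WeaklyClosed (D j) := by
      intro j hj
      have h3 : D j = C (Fin.castSucc ⟨j, hj⟩) := by
        show C ⟨min j n, _⟩ = _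
        congr 1; ext; simp; omega
      rw [h3]; exact hCw _
    have key : ∀ j, j ≤ n → F.IsNormal (D j) := by
      intro j
      induction j using Nat.strong_induction_on with
      | _ j ih =>
        intro hj
        cases j with
        | zero => rw [hD0]; exact isNormal_bot F
        | succ j =>
          set U := D (j + 1) with hU
          have hUQ : U ≤ Q := hDQ _
          have hUS : U ≤ S := hUQ.trans hQS
          have hfU : Finite U := finite_of_le hUS
          have hcl : F.StronglyClosed U ∨ F.WeaklyClosed U := by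
            by_cases hjn : j + 1 = n
            · left; rw [hU, hjn, hDn]; exact hsc
            · right; exact hDw _ (by omega)
          have hUn : S ≤ Subgroup.normalizer (U : Set Ω) := by
            rcases hcl with h | h
            · exact StronglyClosed.le_normalizer h
            · exact WeaklyClosed.le_normalizer h
          have hUmap : ∀ (R : Subgroup Ω), U ≤ R → ∀ φ ∈ F.Hom R, ∀ x : R, (x : Ω) ∈ U → φ x ∈ U := by
            intro R hUR φ hφ x hx
            rcases hcl with h | h
            · exact StronglyClosed.map_mem h hφ x hx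
            · exact WeaklyClosed.map_mem h hUR hφ x hx
          refine isNormal_of_alperin hS hF hUS hUn ?_
          intro R hRS hFA hRec _ IH φ hφ hr
          by_cases hUR : U ≤ R
          · exact ext_of_le hUR hφ (hUmap R hUR φ hφ)
          · obtain ⟨t, htU, htN, htR⟩ :=
              exists_mem_normalizer_not_mem hS hUS hRS (hRS.trans hUn) hUR
            have htQ : t ∈ Q := hUQ htU
            have hfR : Finite R := finite_of_le hRS
            have hsub : ∀ k ≤ j, F.StronglyClosed (D k) := fun k hk =>
              IsNormal.stronglyClosed (ih k (by omega) (by omega))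
            let Cc : ℕ → Subgroup R := chainOf R Q D j
            have hinv : ∀ δ ∈ F.autGroup R, ∀ i, ∀ x ∈ Cc i, δ x ∈ Cc i := by
              intro δ hδ i x hx
              rcases i with _ | _ | i
              · trivial
              · exact Subgroup.mem_subgroupOf.mpr
                  (stronglyClosed_inf_normal hsc hδ hRS x (Subgroup.mem_subgroupOf.mp hx))
              · exact Subgroup.mem_subgroupOf.mpr (stronglyClosed_inf_normal (hsub (j - i) (by omega))
                  hδ hRS x (Subgroup.mem_subgroupOf.mp hx))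
            have hanti : ∀ i, Cc (i + 1) ≤ Cc i := by
              intro i x hx
              rcases i with _ | _ | i
              · trivial
              · exact Subgroup.mem_subgroupOf.mpr (hDQ _ (Subgroup.mem_subgroupOf.mp hx))
              · exact Subgroup.mem_subgroupOf.mpr (hDm (j - (i + 1)) (j - i) (by omega)
                  (Subgroup.mem_subgroupOf.mp hx))
            have hm : Cc (j + 2) = ⊥ := by
              show (D (j - j)).subgroupOf R = ⊥
              rw [Nat.sub_self, hD0]
              exact Subgroup.bot_subgroupOf _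
            have h0 : Cc 0 = ⊤ := rfl
            have htC : ∀ i, ∀ x ∈ Cc i, x⁻¹ * conjAut R t htN x ∈ Cc (i + 1) := by
              intro i x hx
              have hval : ((x⁻¹ * conjAut R t htN x : R) : Ω) = (x : Ω)⁻¹ * t * (x : Ω) * t⁻¹ := by
                show (x : Ω)⁻¹ * (t * (x : Ω) * t⁻¹) = _
                group
              rcases i with _ | _ | i
              · refine Subgroup.mem_subgroupOf.mpr ?_
                rw [hval]
                have h1 : (x : Ω)⁻¹ * t * (x : Ω) ∈ Q := by
                  have := StronglyClosed.conj_mem hsc (S.inv_mem (hRS x.2)) htQ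
                  simpa using this
                exact Q.mul_mem h1 (Q.inv_mem htQ)
              · refine Subgroup.mem_subgroupOf.mpr ?_
                rw [hval]
                have hxQ : (x : Ω) ∈ Q := Subgroup.mem_subgroupOf.mp hx
                have h1 := Subgroup.commutator_le.mp (hDc j (by omega)) t htU _ (Q.inv_mem hxQ)
                have h2 := (D j).inv_mem h1
                have h3 : (⁅t, (x : Ω)⁻¹⁆)⁻¹ = (x : Ω)⁻¹ * t * (x : Ω) * t⁻¹ := by
                  rw [commutatorElement_def]; group
                rw [← h3]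
                simpa using h2
              · refine Subgroup.mem_subgroupOf.mpr ?_
                rw [hval]
                have hxD : (x : Ω) ∈ D (j - i) := Subgroup.mem_subgroupOf.mp hx
                by_cases hji : j - i = 0
                · rw [hji, hD0] at hxD
                  rw [Subgroup.mem_bot.mp hxD]
                  simp [Subgroup.one_mem]
                · obtain ⟨k, hk⟩ := Nat.exists_eq_succ_of_ne_zero hji
                  rw [hk] at hxD
                  have hk2 : j - (i + 1) = k := by omega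
                  show (x : Ω)⁻¹ * t * (x : Ω) * t⁻¹ ∈ D (j - (i + 1))
                  rw [hk2]
                  have h1 := Subgroup.commutator_le.mp (hDc k (by omega)) _ ((D (k + 1)).inv_mem hxD) t htQ
                  have h3 : ⁅(x : Ω)⁻¹, t⁆ = (x : Ω)⁻¹ * t * (x : Ω) * t⁻¹ := by
                    rw [commutatorElement_def]; group
                  rw [← h3]
                  exact h1
            have hmem := aut_mem_of_chain hS hFA hRec IH Cc hinv hanti hm h0
              (hUS htU) htN htR htC φ hφ hr
            exact hmem.2.2.2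
    have := key n le_rfl
    rwa [hDn] at this

end Cfsg.Agent.S5226
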