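import Mathlib
import Cfsg.Statements.S0756
-- import your own Cfsg.Agent.* helpers here

set_option autoImplicit false
open Cfsg

namespace Cfsg.Agent.S0756

section
variable {F V : Type*} [Field F] [AddCommGroup V] [Module F V] (B : LinearMap.BilinForm F V)

/-- orthogonal non-isotropic tuples -/
def Orth (m : ℕ) (e : Fin m → V) : Prop :=
  (∀ i j, i ≠ j → B (e i) (e j) = 0) ∧ ∀ i, B (e i) (e i) ≠ 0

/-- the orthogonal complement of a tuple -/
def perp {m : ℕ} (e : Fin m → V) : Submodule F V where
  carrier := {v | ∀ i, B (e i) v = 0}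
  add_mem' {a b} ha hb i := by simp [ha i, hb i]
  zero_mem' i := by simp
  smul_mem' c a ha i := by simp [ha i]

/-- the projection -/
noncomputable def proj {m : ℕ} (e : Fin m → V) (v : V) : V :=
  ∑ i, (B (e i) v / B (e i) (e i)) • e i

variable {B}

theorem sub_proj_mem {m : ℕ} {e : Fin m → V} (h : Orth B m e) (v : V) :
    v - proj B e v ∈ perp B e := by
  classical
  intro j
  simp only [proj, map_sub, map_sum, map_smul, smul_eq_mul]
  rw [Finset.sum_eq_single j]
  · rw [div_mul_cancel₀ _ (h.2 j), sub_self]
  · intro i _ hij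
    rw [h.1 j i (Ne.symm hij), mul_zero]
  · simp

theorem indep {m : ℕ} {e : Fin m → V} (h : Orth B m e) : LinearIndependent F e := by
  classical
  rw [Fintype.linearIndependent_iff]
  intro g hg j
  have h1 := congrArg (fun t => B (e j) t) hg
  simp only [map_sum, map_smul, smul_eq_mul, map_zero] at h1
  rw [Finset.sum_eq_single j] at h1
  · exact (mul_eq_zero.1 h1).resolve_right (h.2 j)
  · intro i _ hij
    rw [h.1 j i (Ne.symm hij), mul_zero]
  · simp

theorem extend (hS : B.IsSymm) {m : ℕ} {e : Fin m → V} (h : Orth B m e) {x : V}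
    (hx : x ∈ perp B e) (hxx : B x x ≠ 0) :
    Orth B (m + 1) (Fin.snoc e x : Fin (m + 1) → V) := by
  constructor
  · intro i j hij
    induction i using Fin.lastCases with
    | last =>
      induction j using Fin.lastCases with
      | last => exact absurd rfl hij
      | cast j =>
        simp only [Fin.snoc_last, Fin.snoc_castSucc]
        rw [← hS.eq (e j) x, hx j]
    | cast i =>
      induction j using Fin.lastCases with
      | last =>
        simp only [Fin.snoc_last, Fin.snoc_castSucc, hx i]
      | cast j =>
        simp only [Fin.snoc_castSucc]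
        exact h.1 i j (fun hh => hij (by rw [hh]))
  · intro i
    induction i using Fin.lastCases with
    | last => simpa using hxx
    | cast i => simpa using h.2 i

theorem mem_perp_snoc {m : ℕ} {e : Fin m → V} {x y : V} (h : y ∈ perp B (Fin.snoc e x : Fin (m + 1) → V)) :
    y ∈ perp B e ∧ B x y = 0 := by
  constructor
  · intro i
    simpa using h (Fin.castSucc i)
  · simpa using h (Fin.last m)

theorem finrank_le [FiniteDimensional F V] {m : ℕ} (e : Fin m → V) :
    Module.finrank F V ≤ m + Module.finrank F (perp B e) := by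
  let L : V →ₗ[F] (Fin m → F) := LinearMap.pi fun i => B (e i)
  have hker : LinearMap.ker L = perp B e := by
    ext v
    simp only [LinearMap.mem_ker]
    constructor
    · intro h i
      exact congrFun h i
    · intro h
      funext i
      exact h i
  have h1 := LinearMap.finrank_range_add_finrank_ker L
  rw [hker] at h1
  have h2 : Module.finrank F (LinearMap.range L) ≤ m := by
    have := Submodule.finrank_le (LinearMap.range L)
    simpa using this
  omega

theorem exists_ne_zero [FiniteDimensional F V] {m : ℕ} (e : Fin m → V)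
    (hm : m + 1 ≤ Module.finrank F V) : ∃ x ∈ perp B e, x ≠ 0 := by
  have h := finrank_le (B := B) e
  have h1 : 0 < Module.finrank F (perp B e) := by omega
  have h2 : Nontrivial (perp B e) := Module.nontrivial_of_finrank_pos (R := F) h1
  obtain ⟨x, hx⟩ := exists_ne (0 : perp B e)
  exact ⟨x, x.2, fun h0 => hx (Subtype.ext h0)⟩

theorem exists_noniso (h2 : (2 : F) ≠ 0) (hS : B.IsSymm) (hB : B.Nondegenerate) {m : ℕ}
    {e : Fin m → V} (h : Orth B m e) {x : V} (hx : x ∈ perp B e) (hx0 : x ≠ 0) :
    ∃ y ∈ perp B e, B y y ≠ 0 := by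
  by_contra hall
  push Not at hall
  have hsym : ∀ a b, B a b = B b a := fun a b => hS.eq a b
  have hzero : ∀ u ∈ perp B e, ∀ v ∈ perp B e, B u v = 0 := by
    intro u hu v hv
    have h1 := hall (u + v) ((perp B e).add_mem hu hv)
    simp only [map_add, LinearMap.add_apply, hall u hu, hall v hv, zero_add, add_zero] at h1
    rw [hsym v u] at h1
    have : (2 : F) * B u v = 0 := by linear_combination h1
    exact (mul_eq_zero.1 this).resolve_left h2
  apply hx0
  apply hB.1
  intro v
  have h0 : v = proj B e v + (v - proj B e v) := by abel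
  rw [h0, map_add, hzero x hx _ (sub_proj_mem h v), add_zero]
  simp only [proj, map_sum, map_smul, smul_eq_mul]
  refine Finset.sum_eq_zero fun i _ => ?_
  rw [hsym x (e i), hx i, mul_zero]

theorem exists_one_in_perp [Finite F] [FiniteDimensional F V] (h2 : (2 : F) ≠ 0) (hS : B.IsSymm)
    (hB : B.Nondegenerate) {m : ℕ} {e : Fin m → V} (h : Orth B m e)
    (hm : m + 2 ≤ Module.finrank F V) : ∃ v ∈ perp B e, B v v = 1 := by
  classical
  have := Fintype.ofFinite F
  obtain ⟨x0, hx0, hx00⟩ := exists_ne_zero (B := B) e (by omega)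
  obtain ⟨x, hx, hxx⟩ := exists_noniso h2 hS hB h hx0 hx00
  have h' := extend hS h hx hxx
  obtain ⟨y0, hy0, hy00⟩ := exists_ne_zero (B := B) (Fin.snoc e x : Fin (m + 1) → V) (by omega)
  obtain ⟨y, hy, hyy⟩ := exists_noniso h2 hS hB h' hy0 hy00
  obtain ⟨hy1, hy2⟩ := mem_perp_snoc hy
  have hchar : ringChar F ≠ 2 := by
    intro hc
    apply h2
    have := ringChar.Nat.cast_ringChar (R := F)
    rw [hc] at this
    exact_mod_cast this
  have hodd : Fintype.card F % 2 = 1 := FiniteField.odd_card_of_char_ne_two hchar
  obtain ⟨s, t, hst⟩ := FiniteField.exists_root_sum_quadratic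
    (f := Polynomial.C (B x x) * Polynomial.X ^ 2)
    (g := Polynomial.C (B y y) * Polynomial.X ^ 2 - 1)
    (by rw [Polynomial.degree_C_mul_X_pow 2 hxx]; rfl)
    (by
      rw [Polynomial.degree_sub_eq_left_of_degree_lt]
      · rw [Polynomial.degree_C_mul_X_pow 2 hyy]; rfl
      · rw [Polynomial.degree_C_mul_X_pow 2 hyy, Polynomial.degree_one]; norm_num) hodd
  simp only [Polynomial.eval_mul, Polynomial.eval_C, Polynomial.eval_pow, Polynomial.eval_X,
    Polynomial.eval_sub, Polynomial.eval_one] at hst
  refine ⟨s • x + t • y, (perp B e).add_mem ((perp B e).smul_mem s hx) ((perp B e).smul_mem t hy1), ?_⟩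
  have hyx : B y x = 0 := (hS.eq x y).symm.trans (by simp [hy2])
  simp only [map_add, LinearMap.add_apply, map_smul, LinearMap.smul_apply, smul_eq_mul, hy2, hyx]
  linear_combination hst
end



/-- Classification of symmetric bilinear forms over finite fields of odd characteristic: if B is non-degenerate symmetric on V of dimension n + 1 and α is a fixed non-square of F, there is an orthogonal basis b_0, ..., b_n with B(b_i, b_i) = 1 for i < n and B(b_n, b_n) ∈ {1, α}. -/
theorem result {F V : Type*} [Field F] [Finite F] [AddCommGroup V] [Module F V] [FiniteDimensional F V] (h2 : (2 : F) ≠ 0) (B : LinearMap.BilinForm F V) (hS : B.IsSymm) (hB : B.Nondegenerate) {n : ℕ} (hn : Module.finrank F V = n + 1) (α : F) (hα : ¬ IsSquare α) : ∃ b : Module.Basis (Fin (n + 1)) F V, (∀ i j, i ≠ j → B (b i) (b j) = 0) ∧ (∀ i, i ≠ Fin.last n → B (b i) (b i) = 1) ∧ (B (b (Fin.last n)) (b (Fin.last n)) = 1 ∨ B (b (Fin.last n)) (b (Fin.last n)) = α) := by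
  classical
  have := Fintype.ofFinite F
  have hN : 1 ≤ Module.finrank F V := by omega
  have hchar : ringChar F ≠ 2 := by
    intro hc
    apply h2
    have := ringChar.Nat.cast_ringChar (R := F)
    rw [hc] at this
    exact_mod_cast this
  have key : ∀ k, k ≤ n → ∃ e : Fin k → V, Orth B k e ∧ ∀ i, B (e i) (e i) = 1 := by
    intro k
    induction k with
    | zero =>
      intro _
      exact ⟨Fin.elim0, ⟨fun i => i.elim0, fun i => i.elim0⟩, fun i => i.elim0⟩
    | succ k ih =>
      intro hk
      obtain ⟨e, he, he1⟩ := ih (by omega)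
      obtain ⟨v, hv, hvv⟩ := exists_one_in_perp h2 hS hB he (by omega)
      refine ⟨_, extend hS he hv (by rw [hvv]; exact one_ne_zero), ?_⟩
      intro i
      induction i using Fin.lastCases with
      | last => simpa using hvv
      | cast i => simpa using he1 i
  obtain ⟨e, he, he1⟩ := key n le_rfl
  obtain ⟨x0, hx0, hx00⟩ := exists_ne_zero (B := B) e (by omega)
  obtain ⟨x, hx, hxx⟩ := exists_noniso h2 hS hB he hx0 hx00
  obtain ⟨v, hv, hvv⟩ : ∃ v ∈ perp B e, B v v = 1 ∨ B v v = α := by
    by_cases hsq : IsSquare (B x x)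
    · obtain ⟨s, hs⟩ := hsq
      have hs0 : s ≠ 0 := by
        rintro rfl
        rw [mul_zero] at hs
        exact hxx hs
      refine ⟨s⁻¹ • x, (perp B e).smul_mem _ hx, Or.inl ?_⟩
      simp only [map_smul, LinearMap.smul_apply, smul_eq_mul, hs]
      field_simp
    · have hα0 : α ≠ 0 := by
        rintro rfl
        exact hα IsSquare.zero
      have hc1 : quadraticChar F (B x x) = -1 := (quadraticChar_neg_one_iff_not_isSquare).2 hsq
      have hc2 : quadraticChar F α = -1 := (quadraticChar_neg_one_iff_not_isSquare).2 hα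
      have hc3 : quadraticChar F (B x x / α) = 1 := by
        have h3 : quadraticChar F (B x x / α) * quadraticChar F α = quadraticChar F (B x x) := by
          rw [← map_mul, div_mul_cancel₀ _ hα0]
        rw [hc1, hc2] at h3
        linarith
      obtain ⟨s, hs⟩ := (quadraticChar_one_iff_isSquare (div_ne_zero hxx hα0)).1 hc3
      have hs0 : s ≠ 0 := by
        rintro rfl
        rw [mul_zero] at hs
        exact (div_ne_zero hxx hα0) hs
      have hbxx : B x x = α * (s * s) := by
        rw [← hs]
        field_simp
      refine ⟨s⁻¹ • x, (perp B e).smul_mem _ hx, Or.inr ?_⟩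
      simp only [map_smul, LinearMap.smul_apply, smul_eq_mul, hbxx]
      field_simp
  have hne : B v v ≠ 0 := by
    rcases hvv with h | h
    · rw [h]; exact one_ne_zero
    · rw [h]
      rintro rfl
      exact hα IsSquare.zero
  have hO := extend hS he hv hne
  have hli := indep hO
  let b : Module.Basis (Fin (n + 1)) F V :=
    basisOfLinearIndependentOfCardEqFinrank hli (by simp [hn])
  have hb : ∀ i, b i = (Fin.snoc e v : Fin (n + 1) → V) i := fun i => by
    have := coe_basisOfLinearIndependentOfCardEqFinrank hli (by simp [hn])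
    exact congrFun this i
  refine ⟨b, ?_, ?_, ?_⟩
  · intro i j hij
    rw [hb, hb]
    exact hO.1 i j hij
  · intro i hi
    rw [hb]
    induction i using Fin.lastCases with
    | last => exact absurd rfl hi
    | cast i => simpa using he1 i
  · rw [hb]
    simpa using hvv

end Cfsg.Agent.S0756
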