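import Mathlib
import Cfsg.Statements.S3762
import Cfsg.Agent.Lib.PHall
import Cfsg.Agent.Lib.CycMax2
import Cfsg.Agent.Lib.ExtraBasics
import Cfsg.Agent.Lib.LargeCent

set_option autoImplicit false
set_option linter.style.haveILetI false
set_option linter.unusedVariables false
set_option linter.unusedSectionVars false
open Cfsg

namespace Cfsg.Agent.S3762

open scoped commutatorElement
open Cfsg.Agent.Lib.PHall Cfsg.Agent.Lib.ExtraES

section Helpers

variable {G : Type*} [Group G] [Finite G] {p : ℕ} [hp : Fact p.Prime]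

theorem mem_zpowers_sub {A : Subgroup G} [IsCyclic A] {a b : G} (ha : a ∈ A) (hb : b ∈ A)
    (h : orderOf b ∣ orderOf a) : b ∈ Subgroup.zpowers a := by
  have h1 : orderOf (⟨b, hb⟩ : A) ∣ orderOf (⟨a, ha⟩ : A) := by
    rw [Subgroup.orderOf_mk, Subgroup.orderOf_mk]
    exact h
  obtain ⟨k, hk⟩ := Subgroup.mem_zpowers_iff.1 (mem_zpowers_of_orderOf_dvd h1)
  exact Subgroup.mem_zpowers_iff.2 ⟨k, congrArg Subtype.val hk⟩

/-- The data extracted from a critical subgroup. -/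
structure Data (p q : ℕ) (C Z P E : Subgroup G) : Prop where
  hq1 : q ∣ p ^ 2
  hq2 : p ∣ q
  hq3 : p ∣ q.choose 2
  hq4 : p ≠ 2 → q = p
  hq5 : p = 2 → q = 4
  sym : ∀ A : Subgroup G, A.Characteristic → IsMulCommutative A → IsCyclic A
  hG : IsPGroup p G
  Cc : C.Characteristic
  Zmem : ∀ x, x ∈ Z ↔ x ∈ C ∧ ∀ c ∈ C, c * x = x * c
  Zc : Z.Characteristic
  Zcyc : IsCyclic Z
  Pmem : ∀ x, x ∈ P ↔ x ∈ Z ∧ x ^ p = 1
  Pc : P.Characteristic
  Pcen : ∀ x ∈ P, ∀ g : G, g * x = x * g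
  Pt : ∃ t ∈ P, orderOf t = p ∧ ∀ x ∈ P, ∃ k : ℕ, x = t ^ k
  Cpow : ∀ a ∈ C, a ^ p ∈ Z
  Ccent : ∀ y : G, (∀ c ∈ C, c * y = y * c) → y ∈ C
  Ccomm : ∀ a ∈ C, ∀ b ∈ C, b * a * b⁻¹ * a⁻¹ ∈ P
  PE : P ≤ E
  EC : E ≤ C
  Eq : ∀ e ∈ E, e ^ q = 1
  Ep : ∀ e ∈ E, e ^ p ∈ P
  Ecen : ∀ e ∈ E, (∀ f ∈ E, f * e = e * f) → e ∈ P
  dec : ∀ g : G, ∃ e ∈ E, ∃ r, (∀ f ∈ E, f * r = r * f) ∧ g = e * r
  CR : ∀ a ∈ C, (∀ f ∈ E, f * a = a * f) → a ∈ Z
  RZ : ∀ r : G, (∀ f ∈ E, f * r = r * f) → (∀ z ∈ Z, r * z = z * r) → r ∈ Z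

theorem exists_data (hG : IsPGroup p G)
    (hsymp : ∀ A : Subgroup G, A.Characteristic → IsMulCommutative A → IsCyclic A) [Nontrivial G]
    {q : ℕ} (hq : (p = 2 ∧ q = 4) ∨ (p ≠ 2 ∧ q = p)) :
    ∃ C Z P E : Subgroup G, Data p q C Z P E := by
  classical
  have hpp : p.Prime := hp.out
  have hq1 : q ∣ p ^ 2 := by
    rcases hq with ⟨h1, h2⟩ | ⟨-, h2⟩
    · rw [h1, h2]
      norm_num
    · rw [h2]
      exact dvd_pow_self p (by norm_num)
  have hq2 : p ∣ q := by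
    rcases hq with ⟨h1, h2⟩ | ⟨-, h2⟩
    · rw [h1, h2]
      norm_num
    · rw [h2]
  have hq3 : p ∣ q.choose 2 := by
    rcases hq with ⟨h1, h2⟩ | ⟨hne, h2⟩
    · rw [h1, h2]
      decide
    · rw [h2]
      exact hpp.dvd_choose_self (by norm_num) (lt_of_le_of_ne hpp.two_le (Ne.symm hne))
  have hq4 : p ≠ 2 → q = p := by
    rcases hq with ⟨h1, h2⟩ | ⟨-, h2⟩
    · intro h
      exact absurd h1 h
    · intro _
      exact h2
  have hq5 : p = 2 → q = 4 := by
    rcases hq with ⟨h1, h2⟩ | ⟨hne, h2⟩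
    · intro _
      exact h2
    · intro h
      exact absurd h hne
  obtain ⟨C, hCc, hCp, hCcm, hCcent⟩ := exists_critical' hG
  have hZc : (C ⊓ Subgroup.centralizer (C : Set G)).Characteristic := inferInstance
  set Z : Subgroup G := C ⊓ Subgroup.centralizer (C : Set G) with hZdef
  have hZmem : ∀ x, x ∈ Z ↔ x ∈ C ∧ ∀ c ∈ C, c * x = x * c := by
    intro x
    rw [hZdef, Subgroup.mem_inf, Subgroup.mem_centralizer_iff]
    rfl
  have hZcomm : ∀ a ∈ Z, ∀ b ∈ Z, a * b = b * a := fun a ha b hb =>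
    ((hZmem b).1 hb).2 a ((hZmem a).1 ha).1
  have hZab : IsMulCommutative Z := ⟨⟨fun a b => Subtype.ext (hZcomm a a.2 b b.2)⟩⟩
  haveI hZcyc : IsCyclic Z := hsymp _ hZc hZab
  have hZC : Z ≤ C := inf_le_left
  have hZcen : ∀ z ∈ Z, ∀ c ∈ C, c * z = z * c := fun z hz => ((hZmem z).1 hz).2
  have hZn : Z.Normal := Subgroup.normal_of_characteristic _
  -- the subgroup `P`
  have hZmul : ∀ a ∈ Z, ∀ b ∈ Z, (a * b) ^ p = a ^ p * b ^ p := fun a ha b hb =>
    (show Commute a b from hZcomm a ha b hb).mul_pow p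
  let P : Subgroup G := Sq Z p hZmul
  have hPmem : ∀ x, x ∈ P ↔ x ∈ Z ∧ x ^ p = 1 := fun x => Iff.rfl
  have hPc : P.Characteristic := Sq_char Z p hZmul
  haveI hPn : P.Normal := Subgroup.normal_of_characteristic _
  -- a generator of `P`
  obtain ⟨c₀, hc₀, hc₀1⟩ : ∃ c ∈ Z, c ≠ 1 := by
    haveI := hG.center_nontrivial
    obtain ⟨c, hc⟩ := exists_ne (1 : Subgroup.center G)
    refine ⟨c, ?_, fun h => hc (Subtype.ext h)⟩
    have h1 : (c : G) ∈ Subgroup.centralizer (C : Set G) := by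
      rw [Subgroup.mem_centralizer_iff]
      intro h _
      exact (Subgroup.mem_center_iff.1 c.2 h)
    exact ⟨hCcent h1, h1⟩
  have hpdvd : p ∣ orderOf c₀ := hG.dvd_orderOf hc₀1
  set t₀ : G := c₀ ^ (orderOf c₀ / p) with ht₀
  have ht₀o : orderOf t₀ = p := orderOf_pow_orderOf_div (orderOf_pos c₀).ne' hpdvd
  have ht₀Z : t₀ ∈ Z := Z.pow_mem hc₀ _
  have ht₀P : t₀ ∈ P := ⟨ht₀Z, by rw [← ht₀o]; exact pow_orderOf_eq_one t₀⟩
  have hPz : ∀ x ∈ P, x ∈ Subgroup.zpowers t₀ := by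
    intro x hx
    apply mem_zpowers_sub (A := Z) ht₀Z hx.1
    rw [ht₀o]
    exact orderOf_dvd_of_pow_eq_one hx.2
  have hPpow : ∀ x ∈ P, ∃ k : ℕ, x = t₀ ^ k := by
    intro x hx
    have h1 := hPz x hx
    have hfo : IsOfFinOrder t₀ := isOfFinOrder_of_finite t₀
    rw [← hfo.mem_powers_iff_mem_zpowers] at h1
    obtain ⟨k, hk⟩ := h1
    exact ⟨k, hk.symm⟩
  have hPcard : Nat.card P = p := by
    have h1 : P = Subgroup.zpowers t₀ := by
      apply le_antisymm hPz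
      rw [Subgroup.zpowers_le]
      exact ht₀P
    rw [h1, Nat.card_zpowers, ht₀o]
  have hPcen : ∀ x ∈ P, ∀ g : G, g * x = x * g := by
    intro x hx g
    have h1 := Cfsg.Agent.Lib.ExtraBasics.le_center_of_normal_of_card hG P hPcard hx
    exact Subgroup.mem_center_iff.1 h1 g
  -- commutators
  have hcp : ∀ g : G, ∀ x ∈ C, g * x ^ p * g⁻¹ = x ^ p → g * x * g⁻¹ * x⁻¹ ∈ P := by
    intro g x hx h1
    have hc : g * x * g⁻¹ * x⁻¹ ∈ Z := hCcm g x hx
    refine ⟨hc, ?_⟩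
    set c := g * x * g⁻¹ * x⁻¹ with hcdef
    have h2 : g * x * g⁻¹ = c * x := by rw [hcdef]; group
    have h3 : Commute c x := (hZcen c hc x hx).symm
    have h4 : (g * x * g⁻¹) ^ p = c ^ p * x ^ p := by rw [h2, h3.mul_pow]
    rw [conj_pow, h1] at h4
    exact (right_eq_mul.1 h4)
  have hCcomm : ∀ a ∈ C, ∀ b ∈ C, b * a * b⁻¹ * a⁻¹ ∈ P := by
    intro a ha b hb
    apply hcp b a ha
    rw [hZcen _ (hCp a ha) b hb]
    group
  have hCmul : ∀ a ∈ C, ∀ b ∈ C, (a * b) ^ q = a ^ q * b ^ q := by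
    intro a ha b hb
    have h1 := hCcomm a ha b hb
    exact pow_mul_of_comm (z := b * a * b⁻¹ * a⁻¹) (p := p) rfl (hZcen _ h1.1 a ha).symm (hZcen _ h1.1 b hb).symm h1.2 hq3
  let Y : Subgroup G := Sq C q hCmul
  have hYmem : ∀ x, x ∈ Y ↔ x ∈ C ∧ x ^ q = 1 := fun x => Iff.rfl
  have hYc : Y.Characteristic := Sq_char C q hCmul
  have hYC : Y ≤ C := fun x hx => hx.1
  have hYp : ∀ x ∈ Y, x ^ p ∈ P := by
    intro x hx
    refine ⟨hCp x hx.1, ?_⟩
    rw [← pow_mul, ← pow_two]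
    obtain ⟨c, hc⟩ := hq1
    rw [hc, pow_mul, hx.2, one_pow]
  have hGY : ∀ g : G, ∀ x ∈ Y, g * x * g⁻¹ * x⁻¹ ∈ P := by
    intro g x hx
    apply hcp g x hx.1
    rw [hPcen _ (hYp x hx) g]
    group
  have hPY : P ≤ Y := by
    intro x hx
    refine ⟨hZC hx.1, ?_⟩
    obtain ⟨c, hc⟩ := hq2
    rw [hc, pow_mul, hx.2, one_pow]
  -- the choice of `E`
  let F : Set (Subgroup G) := {E | P ≤ E ∧ E ≤ Y ∧ ∀ x ∈ E, x ∈ Z → x ∈ P}
  have hF : F.Nonempty := ⟨P, le_rfl, hPY, fun x hx _ => hx⟩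
  obtain ⟨E, hE⟩ := (Set.toFinite F).exists_maximal hF
  obtain ⟨hPE, hEY, hEZ⟩ := hE.prop
  have hEC : E ≤ C := hEY.trans hYC
  haveI hEn : E.Normal := by
    constructor
    intro e he g
    have h1 := hGY g e (hEY he)
    have e1 : g * e * g⁻¹ = (g * e * g⁻¹ * e⁻¹) * e := by group
    rw [e1]
    exact E.mul_mem (hPE h1) he
  have hYdec : ∀ y ∈ Y, ∃ e ∈ E, ∃ z ∈ Z, z ∈ Y ∧ y = e * z := by
    intro y hy
    by_contra hcon
    push Not at hcon
    let E' : Subgroup G := Subgroup.zpowers y ⊔ E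
    have hE'Y : E' ≤ Y := sup_le ((Subgroup.zpowers_le).2 hy) hEY
    have hEE' : E ≤ E' := le_sup_right
    have hE'F : E' ∈ F := by
      refine ⟨hPE.trans hEE', hE'Y, ?_⟩
      intro x hx hxZ
      obtain ⟨a, ha, e, he, rfl⟩ := Subgroup.mem_sup_of_normal_right.1 hx
      obtain ⟨i, rfl⟩ := Subgroup.mem_zpowers_iff.1 ha
      by_cases hdvd : (p : ℤ) ∣ i
      · obtain ⟨j, rfl⟩ := hdvd
        have h1 : y ^ ((p : ℤ) * j) ∈ E := by
          rw [zpow_mul, zpow_natCast]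
          exact hPE (P.zpow_mem (hYp y hy) j)
        exact hEZ _ (E.mul_mem h1 he) hxZ
      · exfalso
        have hco : IsCoprime (p : ℤ) i := by
          rw [Int.isCoprime_iff_gcd_eq_one]
          have h2 : Nat.Coprime p i.natAbs := by
            rw [Nat.Prime.coprime_iff_not_dvd hpp]
            intro h3
            exact hdvd (Int.natCast_dvd.2 h3)
          simpa [Int.gcd] using h2
        obtain ⟨u, v, huv⟩ := hco
        set z := y ^ i * e with hz
        have h1 : y ^ i = z * e⁻¹ := by rw [hz]; group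
        have hzc : Commute z e⁻¹ := (hZcen z hxZ _ (C.inv_mem (hEC he))).symm
        have h2 : y = (y ^ (p : ℤ)) ^ u * (z * e⁻¹) ^ v := by
          rw [← h1, ← zpow_mul, ← zpow_mul, ← zpow_add]
          have : (p : ℤ) * u + i * v = 1 := by linarith
          rw [this, zpow_one]
        rw [hzc.mul_zpow] at h2
        have hzc' : Commute (z ^ v) (e⁻¹ ^ v) := hzc.zpow_zpow v v
        have h3 : y = ((y ^ (p : ℤ)) ^ u * e⁻¹ ^ v) * z ^ v := by
          rw [mul_assoc, ← hzc'.eq]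
          exact h2
        refine hcon _ ?_ (z ^ v) (Z.zpow_mem hxZ v) (Y.zpow_mem (hE'Y hx) v) h3
        refine E.mul_mem ?_ (E.zpow_mem (E.inv_mem he) v)
        rw [zpow_natCast]
        exact hPE (P.zpow_mem (hYp y hy) u)
    have h1 := hE.le_of_ge hE'F hEE'
    have h2 : y ∈ E := h1 (Subgroup.mem_sup_left (Subgroup.mem_zpowers y))
    exact hcon y h2 1 Z.one_mem Y.one_mem (mul_one y).symm
  -- the centre of `Y`
  have hZY : ∀ x ∈ Y, (∀ y ∈ Y, y * x = x * y) → x ∈ Z := by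
    intro x hx hxc
    by_cases hex : ∃ t ∈ Z, orderOf t = q
    · obtain ⟨t, htZ, hto⟩ := hex
      have htY : t ∈ Y := ⟨hZC htZ, by rw [← hto]; exact pow_orderOf_eq_one t⟩
      have hZYc : (Y ⊓ Subgroup.centralizer (Y : Set G)).Characteristic := inferInstance
      have hZYab : IsMulCommutative ↥(Y ⊓ Subgroup.centralizer (Y : Set G)) := by
        refine ⟨⟨fun a b => Subtype.ext ?_⟩⟩
        have h1 := Subgroup.mem_centralizer_iff.1 b.2.2 a a.2.1
        exact h1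
      haveI : IsCyclic ↥(Y ⊓ Subgroup.centralizer (Y : Set G)) := hsymp _ hZYc hZYab
      have htZY : t ∈ Y ⊓ Subgroup.centralizer (Y : Set G) := by
        refine ⟨htY, ?_⟩
        show t ∈ Subgroup.centralizer (Y : Set G)
        rw [Subgroup.mem_centralizer_iff]
        intro y hy
        exact hZcen t htZ y (hYC hy)
      have hxZY : x ∈ Y ⊓ Subgroup.centralizer (Y : Set G) := by
        refine ⟨hx, ?_⟩
        show x ∈ Subgroup.centralizer (Y : Set G)
        rw [Subgroup.mem_centralizer_iff]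
        exact hxc
      have h1 : x ∈ Subgroup.zpowers t := by
        apply mem_zpowers_sub htZY hxZY
        rw [hto]
        exact orderOf_dvd_of_pow_eq_one hx.2
      exact (Subgroup.zpowers_le.2 htZ) h1
    · -- here `p = 2`, and `Z` has exponent two
      have hp2 : p = 2 := by
        by_contra hne
        exact hex ⟨t₀, ht₀Z, by rw [ht₀o, hq4 hne]⟩
      have hq4' := hq5 hp2
      have hZ2 : ∀ z ∈ Z, z ^ 2 = 1 := by
        intro z hz
        by_contra hne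
        apply hex
        have h1 : (4 : ℕ) ∣ orderOf z := by
          obtain ⟨k, hk⟩ := IsPGroup.iff_orderOf.1 hG z
          rw [hp2] at hk
          rw [hk]
          have hk2 : 2 ≤ k := by
            by_contra hlt
            apply hne
            have h2 : k ≤ 1 := by omega
            have h3 : orderOf z ∣ 2 := by
              rw [hk]
              interval_cases k <;> norm_num
            exact orderOf_dvd_iff_pow_eq_one.1 h3
          have : (2 : ℕ) ^ 2 ∣ 2 ^ k := pow_dvd_pow 2 hk2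
          simpa using this
        refine ⟨z ^ (orderOf z / 4), Z.pow_mem hz _, ?_⟩
        rw [hq4']
        exact orderOf_pow_orderOf_div (orderOf_pos z).ne' h1
      have hxC : x ∈ C := hx.1
      refine (hZmem x).2 ⟨hxC, fun c hc => hxc c ?_⟩
      refine ⟨hc, ?_⟩
      have h1 := hZ2 _ (hCp c hc)
      rw [hq4', show (4 : ℕ) = 2 * 2 from rfl, pow_mul]
      rw [hp2] at h1
      exact h1
  have hEcen : ∀ e ∈ E, (∀ f ∈ E, f * e = e * f) → e ∈ P := by
    intro e he hc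
    apply hEZ e he
    apply hZY e (hEY he)
    intro y hy
    obtain ⟨f, hf, z, hz, -, rfl⟩ := hYdec y hy
    have h1 := hZcen z hz e (hEC he)
    calc f * z * e = f * (z * e) := by group
      _ = f * (e * z) := by rw [h1]
      _ = (f * e) * z := by group
      _ = (e * f) * z := by rw [hc f hf]
      _ = e * (f * z) := by group
  -- the elementwise structure on `E`
  have ht₀E : t₀ ∈ E := hPE ht₀P
  have hES : ES p E ⟨t₀, ht₀E⟩ := by
    refine ⟨?_, ?_, ?_, ?_, ?_⟩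
    · intro g
      exact Subtype.ext (hPcen t₀ ht₀P g)
    · rw [Subgroup.orderOf_mk]
      exact ht₀o
    · rintro ⟨g, hg⟩ hc
      obtain ⟨k, hk⟩ := hPpow g (hEcen g hg (fun f hf => congrArg Subtype.val (hc ⟨f, hf⟩)))
      exact ⟨k, Subtype.ext hk⟩
    · rintro ⟨a, ha⟩ ⟨b, hb⟩
      obtain ⟨k, hk⟩ := hPpow _ (hCcomm b (hEC hb) a (hEC ha))
      exact ⟨k, Subtype.ext hk⟩
    · rintro ⟨a, ha⟩
      obtain ⟨k, hk⟩ := hPpow _ (hYp a (hEY ha))
      exact ⟨k, Subtype.ext hk⟩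
  -- `G = E C_G(E)`
  have hdec : ∀ g : G, ∃ e ∈ E, ∃ r, (∀ f ∈ E, f * r = r * f) ∧ g = e * r := by
    intro g
    have hmemP : ∀ f : E, g * (f : G) * g⁻¹ * (f : G)⁻¹ ∈ P := fun f => hGY g f (hEY f.2)
    let φ : E → E := fun f => ⟨g * f * g⁻¹ * (f : G)⁻¹, hPE (hmemP f)⟩
    have hφ : ∀ f : E, ((φ f : E) : G) = g * f * g⁻¹ * (f : G)⁻¹ := fun f => rfl
    obtain ⟨w, hw⟩ := inner_of_hom (p := p) _ E ⟨t₀, ht₀E⟩ hES le_rfl φ
      (by
        intro a b
        apply Subtype.ext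
        simp only [hφ, Subgroup.coe_mul]
        have h1 := hPcen _ (hmemP b) (a : G)
        calc g * (a * b) * g⁻¹ * ((a : G) * b)⁻¹
            = (g * a * g⁻¹) * ((g * b * g⁻¹ * (b : G)⁻¹)) * (a : G)⁻¹ := by group
          _ = (g * a * g⁻¹) * (a : G)⁻¹ * ((a : G) * (g * b * g⁻¹ * (b : G)⁻¹)) * (a : G)⁻¹ := by group
          _ = (g * a * g⁻¹) * (a : G)⁻¹ * ((g * b * g⁻¹ * (b : G)⁻¹) * a) * (a : G)⁻¹ := by rw [h1]
          _ = _ := by group)
      (by
        intro f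
        obtain ⟨k, hk⟩ := hPpow _ (hmemP f)
        exact ⟨k, Subtype.ext hk⟩)
      (by
        apply Subtype.ext
        simp only [hφ]
        rw [hPcen t₀ ht₀P g]
        show t₀ * g * g⁻¹ * t₀⁻¹ = 1
        group)
    refine ⟨(w : G)⁻¹, E.inv_mem w.2, (w : G) * g, ?_, by group⟩
    intro f hf
    have h1 : g * f * g⁻¹ * f⁻¹ = ⁅f, (w : G)⁆ := congrArg Subtype.val (hw ⟨f, hf⟩)
    have hcomP : ⁅f, (w : G)⁆ ∈ P := hCcomm _ (hEC w.2) _ (hEC hf)
    have h2 : g * f * g⁻¹ = ⁅f, (w : G)⁆ * f := by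
      rw [← h1]
      group
    have h3 := hPcen _ hcomP (w : G)
    have e : (w : G) * g * f = (w : G) * (g * f * g⁻¹) * g := by group
    rw [e, h2]
    calc f * ((w : G) * g) = (⁅f, (w : G)⁆ * (w : G) * f) * g := by
          rw [commutatorElement_def]
          group
      _ = ((w : G) * ⁅f, (w : G)⁆ * f) * g := by rw [h3]
      _ = (w : G) * (⁅f, (w : G)⁆ * f) * g := by group
  -- the centralizer of `E` in `C` is abelian, so it is `Z`
  have hchain : ∀ a ∈ C, ∀ b ∈ C, (∀ f ∈ E, f * a = a * f) → (∀ f ∈ E, f * b = b * f) →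
      b ^ p ∈ Subgroup.zpowers (a ^ p) → a * b = b * a := by
    intro a ha b hb hRa hRb hmem
    have hfo : IsOfFinOrder (a ^ p) := isOfFinOrder_of_finite _
    rw [← hfo.mem_powers_iff_mem_zpowers] at hmem
    obtain ⟨k, hk⟩ := hmem
    have hk' : (a ^ p) ^ k = b ^ p := hk
    have hak : a ^ k ∈ C := C.pow_mem ha k
    set t := b * (a ^ k)⁻¹ with ht
    have htC : t ∈ C := C.mul_mem hb (C.inv_mem hak)
    have htq : t ^ q = 1 := by
      obtain ⟨q', hq'⟩ := hq2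
      rw [ht, hCmul b hb _ (C.inv_mem hak), hq', pow_mul b, ← hk', inv_pow, ← pow_mul, ← pow_mul, ← pow_mul]
      have : p * (k * q') = k * (p * q') := by ring
      rw [this, mul_inv_cancel]
    have htR : ∀ f ∈ E, f * t = t * f := by
      intro f hf
      have h1 : Commute f b := hRb f hf
      have h2 : Commute f a := hRa f hf
      exact (h1.mul_right ((h2.pow_right k).inv_right)).eq
    obtain ⟨e, he, z, hz, hzY, hte⟩ := hYdec t ⟨htC, htq⟩
    have heP : e ∈ P := by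
      apply hEcen e he
      intro f hf
      have h1 : e = t * z⁻¹ := by rw [hte]; group
      rw [h1]
      have h2 : Commute f t := htR f hf
      have h3 : Commute f z := hZcen z hz f (hEC hf)
      exact (h2.mul_right h3.inv_right).eq
    have htZ : t ∈ Z := by
      rw [hte]
      exact Z.mul_mem heP.1 hz
    have h4 : b = t * a ^ k := by rw [ht]; group
    have h5 : Commute a t := hZcen t htZ a ha
    rw [h4]
    exact (h5.mul_right (Commute.pow_right (Commute.refl a) k)).eq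
  have hCRcomm : ∀ a ∈ C, ∀ b ∈ C, (∀ f ∈ E, f * a = a * f) → (∀ f ∈ E, f * b = b * f) → a * b = b * a := by
    intro a ha b hb hRa hRb
    have hZp : IsPGroup p Z := hG.to_subgroup Z
    have h1 := chain_of_isPGroup hZp (⟨a ^ p, hCp a ha⟩ : Z) (⟨b ^ p, hCp b hb⟩ : Z)
    rcases h1 with h1 | h1
    · apply hchain a ha b hb hRa hRb
      obtain ⟨k, hk⟩ := Subgroup.mem_zpowers_iff.1 h1
      exact Subgroup.mem_zpowers_iff.2 ⟨k, congrArg Subtype.val hk⟩
    · symm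
      apply hchain b hb a ha hRb hRa
      obtain ⟨k, hk⟩ := Subgroup.mem_zpowers_iff.1 h1
      exact Subgroup.mem_zpowers_iff.2 ⟨k, congrArg Subtype.val hk⟩
  have hCR : ∀ a ∈ C, (∀ f ∈ E, f * a = a * f) → a ∈ Z := by
    intro a ha hRa
    refine (hZmem a).2 ⟨ha, fun c hc => ?_⟩
    obtain ⟨e, he, r, hr, rfl⟩ := hdec c
    have hrC : r ∈ C := by
      have h1 : r = e⁻¹ * (e * r) := by group
      rw [h1]
      exact C.mul_mem (C.inv_mem (hEC he)) hc
    have h2 := hCRcomm r hrC a ha hr hRa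
    have h3 := hRa e he
    calc e * r * a = e * (r * a) := by group
      _ = e * (a * r) := by rw [h2]
      _ = (e * a) * r := by group
      _ = (a * e) * r := by rw [h3]
      _ = a * (e * r) := by group
  have hRZ : ∀ r : G, (∀ f ∈ E, f * r = r * f) → (∀ z ∈ Z, r * z = z * r) → r ∈ Z := by
    intro r hr hrZ
    apply hCR r _ hr
    apply hCcent
    rw [Subgroup.mem_centralizer_iff]
    intro c hc
    obtain ⟨e, he, r', hr', rfl⟩ := hdec c
    have hrC : r' ∈ C := by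
      have h1 : r' = e⁻¹ * (e * r') := by group
      rw [h1]
      exact C.mul_mem (C.inv_mem (hEC he)) hc
    have hr'Z := hCR r' hrC hr'
    have h2 := hrZ r' hr'Z
    have h3 := hr e he
    calc e * r' * r = e * (r' * r) := by group
      _ = e * (r * r') := by rw [h2]
      _ = (e * r) * r' := by group
      _ = (r * e) * r' := by rw [h3]
      _ = r * (e * r') := by group
  exact ⟨C, Z, P, E, ⟨hq1, hq2, hq3, hq4, hq5, hsymp, hG, hCc, hZmem, hZc, hZcyc, hPmem, hPc, hPcen,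
    ⟨t₀, ht₀P, ht₀o, hPpow⟩, hCp, (fun y hy => hCcent (Subgroup.mem_centralizer_iff.2 hy)), hCcomm, hPE, hEC,
    (fun e he => (hEY he).2), (fun e he => hYp e (hEY he)), hEcen, hdec, hCR, hRZ⟩⟩

/-- The elements acting trivially modulo `P` on `Z`. -/
def W₀ (Z P : Subgroup G) (hZ : Z.Normal) (hP : ∀ x ∈ P, ∀ g : G, g * x = x * g) : Subgroup G where
  carrier := {g | ∀ z ∈ Z, g * z * g⁻¹ * z⁻¹ ∈ P}
  mul_mem' := by
    intro g h hg hh z hz
    have h1 := hh z hz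
    have h2 := hg z hz
    have h3 := hP _ h1 g
    have e : g * h * z * (g * h)⁻¹ * z⁻¹ = (h * z * h⁻¹ * z⁻¹) * (g * z * g⁻¹ * z⁻¹) := by
      calc g * h * z * (g * h)⁻¹ * z⁻¹ = g * ((h * z * h⁻¹ * z⁻¹) * z) * g⁻¹ * z⁻¹ := by group
        _ = (g * (h * z * h⁻¹ * z⁻¹)) * z * g⁻¹ * z⁻¹ := by group
        _ = ((h * z * h⁻¹ * z⁻¹) * g) * z * g⁻¹ * z⁻¹ := by rw [h3]
        _ = _ := by group
    rw [e]
    exact P.mul_mem h1 h2
  one_mem' := by
    intro z hz
    simp [P.one_mem]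
  inv_mem' := by
    intro g hg z hz
    have hz' : g⁻¹ * z * g ∈ Z := by
      have := hZ.conj_mem z hz g⁻¹
      simpa using this
    have h1 := hg _ hz'
    have e : g⁻¹ * z * g⁻¹⁻¹ * z⁻¹ = (g * (g⁻¹ * z * g) * g⁻¹ * (g⁻¹ * z * g)⁻¹)⁻¹ := by group
    rw [e]
    exact P.inv_mem h1

theorem mem_W₀ {Z P : Subgroup G} {hZ : Z.Normal} {hP : ∀ x ∈ P, ∀ g : G, g * x = x * g} {g : G} :
    g ∈ W₀ Z P hZ hP ↔ ∀ z ∈ Z, g * z * g⁻¹ * z⁻¹ ∈ P := Iff.rfl

theorem W₀_char (Z P : Subgroup G) [hZc : Z.Characteristic] [hPc : P.Characteristic] (hZ : Z.Normal)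
    (hP : ∀ x ∈ P, ∀ g : G, g * x = x * g) : (W₀ Z P hZ hP).Characteristic := by
  rw [Subgroup.characteristic_iff_le_comap]
  intro φ g hg z hz
  have hz' : φ.symm z ∈ Z := by
    have := Subgroup.characteristic_iff_le_comap.1 hZc φ.symm hz
    exact this
  have h1 := hg _ hz'
  have h2 := Subgroup.characteristic_iff_le_comap.1 hPc φ h1
  have h3 : φ.toMonoidHom (g * φ.symm z * g⁻¹ * (φ.symm z)⁻¹) = φ.toMonoidHom g * z * (φ.toMonoidHom g)⁻¹ * z⁻¹ := by
    simp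
  have h4 : φ.toMonoidHom (g * φ.symm z * g⁻¹ * (φ.symm z)⁻¹) ∈ P := h2
  rw [h3] at h4
  exact h4

/-- Commutation modulo a normal subgroup. -/
theorem commute_mk {P : Subgroup G} [P.Normal] {a b : G} (h : a * b * a⁻¹ * b⁻¹ ∈ P) :
    Commute (QuotientGroup.mk' P a) (QuotientGroup.mk' P b) := by
  have h1 : QuotientGroup.mk' P (a * b * a⁻¹ * b⁻¹) = 1 := (QuotientGroup.eq_one_iff _).2 h
  simp only [map_mul, map_inv] at h1
  have h2 : QuotientGroup.mk' P a * QuotientGroup.mk' P b =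
      (QuotientGroup.mk' P a * QuotientGroup.mk' P b * (QuotientGroup.mk' P a)⁻¹ * (QuotientGroup.mk' P b)⁻¹) *
        (QuotientGroup.mk' P b * QuotientGroup.mk' P a) := by group
  rw [h1, one_mul] at h2
  exact h2

theorem mem_of_commute_mk {P : Subgroup G} [P.Normal] {a b : G}
    (h : Commute (QuotientGroup.mk' P a) (QuotientGroup.mk' P b)) : a * b * a⁻¹ * b⁻¹ ∈ P := by
  apply (QuotientGroup.eq_one_iff _).1
  show QuotientGroup.mk' P (a * b * a⁻¹ * b⁻¹) = 1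
  simp only [map_mul, map_inv]
  rw [h.eq]
  group

/-- Claim A: no element of `C_G(E)` outside `Z` acts on `Z` trivially modulo `P`. -/
theorem claimA {C Z P E : Subgroup G} {q : ℕ} (D : Data p q C Z P E) {ζ : G} (hζ : Z = Subgroup.zpowers ζ)
    (hN : q < orderOf ζ) {r : G} (hrR : ∀ f ∈ E, f * r = r * f) {w : G} (hwP : w ∈ P)
    (hrζ : r * ζ * r⁻¹ = ζ * w) : r ∈ Z := by
  classical
  by_contra hrZ
  have hpp : p.Prime := hp.out
  haveI hZcyc := D.Zcyc
  haveI hZc := D.Zc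
  haveI hPc := D.Pc
  haveI hCc := D.Cc
  have hZn : Z.Normal := Subgroup.normal_of_characteristic _
  haveI hPn : P.Normal := Subgroup.normal_of_characteristic _
  have hζZ : ζ ∈ Z := by rw [hζ]; exact Subgroup.mem_zpowers ζ
  have hZcen : ∀ z ∈ Z, ∀ c ∈ C, c * z = z * c := fun z hz => ((D.Zmem z).1 hz).2
  have hZC : Z ≤ C := fun z hz => ((D.Zmem z).1 hz).1
  have hZcomm : ∀ a ∈ Z, ∀ b ∈ Z, a * b = b * a := fun a ha b hb => hZcen b hb a (hZC ha)
  have hPZ : P ≤ Z := fun x hx => ((D.Pmem x).1 hx).1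
  have hPp : ∀ x ∈ P, x ^ p = 1 := fun x hx => ((D.Pmem x).1 hx).2
  have hEZ : ∀ f ∈ E, ∀ z ∈ Z, f * z = z * f := fun f hf z hz => hZcen z hz f (D.EC hf)
  -- commuting with `ζ` is commuting with `Z`
  have hcomζ : ∀ g : G, g * ζ = ζ * g → ∀ z ∈ Z, g * z = z * g := by
    intro g hg z hz
    rw [hζ] at hz
    obtain ⟨k, rfl⟩ := Subgroup.mem_zpowers_iff.1 hz
    exact ((show Commute g ζ from hg).zpow_right k).eq
  have hw1 : w ≠ 1 := by
    rintro rfl
    apply hrZ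
    apply D.RZ r hrR
    apply hcomζ
    calc r * ζ = (r * ζ * r⁻¹) * r := by group
      _ = ζ * r := by rw [hrζ, mul_one]
  have hwo : orderOf w = p := orderOf_eq_prime (hPp w hwP) hw1
  have hwc : ∀ g : G, g * w = w * g := D.Pcen w hwP
  have hwpow : ∀ x ∈ P, ∃ k : ℕ, x = w ^ k := by
    intro x hx
    have h1 : x ∈ Subgroup.zpowers w := by
      apply mem_zpowers_sub (A := Z) (hPZ hwP) (hPZ hx)
      rw [hwo]
      exact orderOf_dvd_of_pow_eq_one (hPp x hx)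
    have hfo : IsOfFinOrder w := isOfFinOrder_of_finite w
    rw [← hfo.mem_powers_iff_mem_zpowers] at h1
    obtain ⟨k, hk⟩ := h1
    exact ⟨k, hk.symm⟩
  -- the action on `ζ`
  have hact : ∀ (x : G) (c : G), c ∈ P → x * ζ * x⁻¹ = ζ * c → ∀ k : ℕ, x * ζ ^ k * x⁻¹ = ζ ^ k * c ^ k := by
    intro x c hc hx k
    rw [← conj_pow, hx]
    exact (show Commute ζ c from D.Pcen c hc ζ).mul_pow k
  have hiter : ∀ (x : G) (c : G), c ∈ P → x * ζ * x⁻¹ = ζ * c → ∀ i : ℕ, x ^ i * ζ * (x ^ i)⁻¹ = ζ * c ^ i := by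
    intro x c hc hx i
    induction i with
    | zero => simp
    | succ i ih =>
      have e : x ^ (i + 1) * ζ * (x ^ (i + 1))⁻¹ = x ^ i * (x * ζ * x⁻¹) * (x ^ i)⁻¹ := by
        rw [pow_succ x i]
        group
      have hcc : x ^ i * c = c * x ^ i := D.Pcen c hc _
      rw [e, hx]
      calc x ^ i * (ζ * c) * (x ^ i)⁻¹ = (x ^ i * ζ * (x ^ i)⁻¹) * (x ^ i * c * (x ^ i)⁻¹) := by group
        _ = (ζ * c ^ i) * (c * x ^ i * (x ^ i)⁻¹) := by rw [ih, hcc]
        _ = ζ * c ^ (i + 1) := by rw [pow_succ c i]; group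
  -- `r ^ p` lies in `Z`
  have hrpR : ∀ f ∈ E, f * r ^ p = r ^ p * f := fun f hf =>
    ((show Commute f r from hrR f hf).pow_right p).eq
  have hrpZ : r ^ p ∈ Z := by
    apply D.RZ _ hrpR
    apply hcomζ
    have h1 := hiter r w hwP hrζ p
    rw [hPp w hwP, mul_one] at h1
    calc r ^ p * ζ = (r ^ p * ζ * (r ^ p)⁻¹) * r ^ p := by group
      _ = ζ * r ^ p := by rw [h1]
  -- a `p`-th root of `r ^ p`
  have hfoζ : IsOfFinOrder ζ := isOfFinOrder_of_finite ζ
  have hζpow : ∀ z ∈ Z, ∃ k : ℕ, z = ζ ^ k := by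
    intro z hz
    rw [hζ, ← SetLike.mem_coe, ← hfoζ.powers_eq_zpowers] at hz
    obtain ⟨k, hk⟩ := hz
    exact ⟨k, hk.symm⟩
  obtain ⟨u, hu⟩ := hζpow _ hrpZ
  have hpu : p ∣ u := by
    have h1 : r * r ^ p * r⁻¹ = r ^ p := by
      have : r * r ^ p = r ^ p * r := ((Commute.refl r).pow_right p).eq
      rw [this]
      group
    rw [hu, hact r w hwP hrζ u] at h1
    have h2 : w ^ u = 1 := mul_eq_left.1 h1
    rw [← hwo]
    exact orderOf_dvd_of_pow_eq_one h2
  obtain ⟨u', rfl⟩ := hpu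
  set y : G := ζ ^ u' with hy
  have hyZ : y ∈ Z := Z.pow_mem hζZ u'
  have hryp : r ^ p = y ^ p := by
    rw [hu, hy, ← pow_mul, mul_comm]
  have hry : r * y * r⁻¹ = y * w ^ u' := hact r w hwP hrζ u'
  -- the element `x₀`
  set x₀ : G := r * y⁻¹ with hx₀
  have hwuP : w ^ u' ∈ P := P.pow_mem hwP u'
  have hx₀q : x₀ ^ q = 1 := by
    have hz : y⁻¹ * r * y⁻¹⁻¹ * r⁻¹ = w ^ u' := by
      calc y⁻¹ * r * y⁻¹⁻¹ * r⁻¹ = y⁻¹ * (r * y * r⁻¹) := by group
        _ = w ^ u' := by rw [hry]; group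
    have h1 := pow_mul_of_comm (a := r) (b := y⁻¹) hz (D.Pcen _ hwuP r).symm (D.Pcen _ hwuP _).symm
      (hPp _ hwuP) D.hq3
    obtain ⟨q', hq'⟩ := D.hq2
    rw [hx₀, h1, hq', pow_mul r, hryp, inv_pow, ← pow_mul, mul_inv_cancel]
  have hx₀Z : x₀ ∉ Z := by
    intro h
    apply hrZ
    have e : r = x₀ * y := by rw [hx₀]; group
    rw [e]
    exact Z.mul_mem h hyZ
  have hx₀R : ∀ f ∈ E, f * x₀ = x₀ * f := by
    intro f hf
    have h1 : Commute f r := hrR f hf
    have h2 : Commute f y := hEZ f hf y hyZ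
    exact (h1.mul_right h2.inv_right).eq
  have hx₀ζ : x₀ * ζ * x₀⁻¹ = ζ * w := by
    have h1 : y⁻¹ * ζ * y = ζ := by
      have : ζ * y = y * ζ := hZcomm ζ hζZ y hyZ
      rw [mul_assoc, this]
      group
    calc x₀ * ζ * x₀⁻¹ = r * (y⁻¹ * ζ * y) * r⁻¹ := by rw [hx₀]; group
      _ = ζ * w := by rw [h1, hrζ]
  have hx₀act := hact x₀ w hwP hx₀ζ
  have hx₀iter := hiter x₀ w hwP hx₀ζ
  -- the subgroup `W₀`
  let W := W₀ Z P hZn D.Pcen
  haveI hWc : W.Characteristic := W₀_char Z P hZn D.Pcen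
  have hWmem : ∀ g, g ∈ W ↔ ∀ z ∈ Z, g * z * g⁻¹ * z⁻¹ ∈ P := fun g => Iff.rfl
  have hCW : E ≤ W := by
    intro e he
    rw [hWmem]
    intro z hz
    rw [hEZ e he z hz]
    simp [P.one_mem]
  have hZW : Z ≤ W := by
    intro a ha
    rw [hWmem]
    intro z hz
    rw [hZcomm a ha z hz]
    simp [P.one_mem]
  have hx₀W : x₀ ∈ W := by
    rw [hWmem]
    intro z hz
    obtain ⟨k, rfl⟩ := hζpow z hz
    rw [hx₀act k]
    have e : ζ ^ k * w ^ k * (ζ ^ k)⁻¹ = w ^ k := by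
      have : w ^ k * (ζ ^ k)⁻¹ = (ζ ^ k)⁻¹ * w ^ k := (D.Pcen _ (P.pow_mem hwP k) _).symm
      rw [mul_assoc, this]
      group
    rw [e]
    exact P.pow_mem hwP k
  -- normal form in `W₀`
  have hnf : ∀ g ∈ W, ∃ e ∈ E, ∃ i : ℕ, ∃ z ∈ Z, g = e * x₀ ^ i * z := by
    intro g hg
    obtain ⟨e, he, r', hr', rfl⟩ := D.dec g
    have hr'W : r' ∈ W := by
      have h1 : r' = e⁻¹ * (e * r') := by group
      rw [h1]
      exact W.mul_mem (W.inv_mem (hCW he)) hg
    have h2 := (hWmem r').1 hr'W ζ hζZ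
    obtain ⟨i, hi⟩ := hwpow _ h2
    have h3 : r' * ζ * r'⁻¹ = ζ * w ^ i := by
      rw [← hi]
      have := D.Pcen _ h2 ζ
      rw [this]
      group
    have h4 := hx₀iter i
    set z := (x₀ ^ i)⁻¹ * r' with hz
    have hzR : ∀ f ∈ E, f * z = z * f := by
      intro f hf
      have h5 : Commute f r' := hr' f hf
      have h6 : Commute f x₀ := hx₀R f hf
      exact ((h6.pow_right i).inv_right.mul_right h5).eq
    have hzZ : z ∈ Z := by
      apply D.RZ z hzR
      apply hcomζ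
      have h5 : r' = x₀ ^ i * z := by rw [hz]; group
      rw [h5] at h3
      have h6 : x₀ ^ i * (z * ζ * z⁻¹) * (x₀ ^ i)⁻¹ = x₀ ^ i * ζ * (x₀ ^ i)⁻¹ := by
        rw [h4, ← h3]
        group
      have h7 : z * ζ * z⁻¹ = ζ := by
        have h8 := mul_left_cancel (mul_right_cancel h6)
        exact h8
      calc z * ζ = (z * ζ * z⁻¹) * z := by group
        _ = ζ * z := by rw [h7]
    refine ⟨e, he, i, z, hzZ, ?_⟩
    rw [hz]
    group
  -- commutators in `W₀`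
  have hWcomm : ∀ a ∈ W, ∀ b ∈ W, b * a * b⁻¹ * a⁻¹ ∈ P := by
    intro a ha b hb
    apply mem_of_commute_mk
    obtain ⟨e, he, i, z, hz, rfl⟩ := hnf a ha
    obtain ⟨f, hf, j, z', hz', rfl⟩ := hnf b hb
    set π := QuotientGroup.mk' P with hπ
    simp only [map_mul, map_pow]
    have hcomm : ∀ {s t : G}, s * t = t * s → Commute (π s) (π t) := by
      intro s t h
      show π s * π t = π t * π s
      rw [← map_mul, ← map_mul, h]
    have h1 : Commute (π f) (π e) := by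
      apply commute_mk
      exact D.Ccomm _ (D.EC he) _ (D.EC hf)
    have h2 : Commute (π f) (π x₀) := hcomm (hx₀R f hf)
    have h3 : Commute (π f) (π z) := hcomm (hEZ f hf z hz)
    have h4 : Commute (π x₀) (π e) := (hcomm (hx₀R e he)).symm
    have h5 : Commute (π x₀) (π x₀) := Commute.refl _
    have h6 : Commute (π x₀) (π z) := by
      apply commute_mk
      exact (hWmem x₀).1 hx₀W z hz
    have h7 : Commute (π z') (π e) := (hcomm (hEZ e he z' hz')).symm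
    have h8 : Commute (π z') (π x₀) := by
      apply Commute.symm
      apply commute_mk
      exact (hWmem x₀).1 hx₀W z' hz'
    have h9 : Commute (π z') (π z) := hcomm (hZcomm z' hz' z hz)
    have hL : ∀ {t : G ⧸ P}, Commute (π f) t → Commute (π x₀) t → Commute (π z') t →
        Commute (π f * π x₀ ^ j * π z') t := by
      intro t h1 h2 h3
      exact ((h1.mul_left (h2.pow_left j)).mul_left h3)
    apply hL
    · exact (h1.mul_right (h2.pow_right i)).mul_right h3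
    · exact (h4.mul_right (h5.pow_right i)).mul_right h6
    · exact (h7.mul_right (h8.pow_right i)).mul_right h9
  have hWmul : ∀ a ∈ W, ∀ b ∈ W, (a * b) ^ q = a ^ q * b ^ q := by
    intro a ha b hb
    have h1 := hWcomm a ha b hb
    exact pow_mul_of_comm (p := p) rfl (D.Pcen _ h1 a).symm (D.Pcen _ h1 b).symm (hPp _ h1) D.hq3
  let S : Subgroup G := Sq W q hWmul
  have hSc : S.Characteristic := Sq_char W q hWmul
  have hSmem : ∀ x, x ∈ S ↔ x ∈ W ∧ x ^ q = 1 := fun x => Iff.rfl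
  have hx₀S : x₀ ∈ S := ⟨hx₀W, hx₀q⟩
  -- `q * p` divides the order of `ζ`
  have hqpN : q * p ∣ orderOf ζ := by
    obtain ⟨n, hn⟩ := IsPGroup.iff_orderOf.1 D.hG ζ
    have hN' : q < p ^ n := by
      rw [← hn]
      exact hN
    rw [hn]
    by_cases hp2 : p = 2
    · have hq4 := D.hq5 hp2
      rw [hq4, hp2] at hN' ⊢
      have h3 : 3 ≤ n := by
        by_contra hlt
        have : n ≤ 2 := by omega
        have h4 : 2 ^ n ≤ 2 ^ 2 := Nat.pow_le_pow_right (by norm_num) this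
        omega
      have : (2 : ℕ) ^ 3 ∣ 2 ^ n := pow_dvd_pow 2 h3
      simpa using this
    · have hq4 := D.hq4 hp2
      rw [hq4] at hN' ⊢
      have h2 : 2 ≤ n := by
        by_contra hlt
        have : n ≤ 1 := by omega
        have h4 : p ^ n ≤ p ^ 1 := Nat.pow_le_pow_right hpp.pos this
        rw [pow_one] at h4
        omega
      have : p ^ 2 ∣ p ^ n := pow_dvd_pow p h2
      rwa [pow_two] at this
  -- `x₀` centralizes the elements of `Z` of order dividing `q`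
  have hx₀Zq : ∀ z ∈ Z, z ^ q = 1 → x₀ * z = z * x₀ := by
    intro z hz hzq
    obtain ⟨k, rfl⟩ := hζpow z hz
    have h1 : orderOf ζ ∣ k * q := by
      rw [← pow_mul] at hzq
      exact orderOf_dvd_of_pow_eq_one hzq
    have h2 : p ∣ k := by
      have hqpos : 0 < q := Nat.pos_of_dvd_of_pos D.hq1 (pow_pos hpp.pos 2)
      have h3 : q * p ∣ k * q := hqpN.trans h1
      rw [mul_comm k q] at h3
      exact Nat.dvd_of_mul_dvd_mul_left hqpos h3
    obtain ⟨k', rfl⟩ := h2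
    have h3 := hx₀act (p * k')
    rw [pow_mul w, hPp w hwP, one_pow, mul_one] at h3
    calc x₀ * ζ ^ (p * k') = (x₀ * ζ ^ (p * k') * x₀⁻¹) * x₀ := by group
      _ = ζ ^ (p * k') * x₀ := by rw [h3]
  -- the shape of the elements of `S`
  have hSz : ∀ s ∈ S, ∃ e ∈ E, ∃ i : ℕ, ∃ z ∈ Z, z ^ q = 1 ∧ s = e * x₀ ^ i * z := by
    intro s hs
    obtain ⟨e, he, i, z, hz, hsz⟩ := hnf s hs.1
    refine ⟨e, he, i, z, hz, ?_, hsz⟩
    have h1 : s ^ q = 1 := hs.2
    rw [hsz, hWmul _ (W.mul_mem (hCW he) (W.pow_mem hx₀W i)) _ (hZW hz),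
      hWmul _ (hCW he) _ (W.pow_mem hx₀W i), D.Eq e he, one_mul, ← pow_mul, mul_comm i q, pow_mul, hx₀q,
      one_pow, one_mul] at h1
    exact h1
  -- the element `t` of order `q`
  have hqN : q ∣ orderOf ζ := (dvd_mul_right q p).trans hqpN
  set t : G := ζ ^ (orderOf ζ / q) with ht
  have hto : orderOf t = q := orderOf_pow_orderOf_div (orderOf_pos ζ).ne' hqN
  have htZ : t ∈ Z := Z.pow_mem hζZ _
  have htq : t ^ q = 1 := by rw [← hto]; exact pow_orderOf_eq_one t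
  have htS : t ∈ S := ⟨hZW htZ, htq⟩
  have htcen : t ∈ Subgroup.centralizer (S : Set G) := by
    rw [Subgroup.mem_centralizer_iff]
    intro s hs
    obtain ⟨e, he, i, z, hz, -, rfl⟩ := hSz s hs
    have h1 : Commute e t := hEZ e he t htZ
    have h2 : Commute x₀ t := hx₀Zq t htZ htq
    have h3 : Commute z t := hZcomm z hz t htZ
    exact ((h1.mul_left (h2.pow_left i)).mul_left h3).eq
  have hx₀cen : x₀ ∈ Subgroup.centralizer (S : Set G) := by
    rw [Subgroup.mem_centralizer_iff]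
    intro s hs
    obtain ⟨e, he, i, z, hz, hzq, rfl⟩ := hSz s hs
    have h1 : Commute e x₀ := hx₀R e he
    have h2 : Commute x₀ x₀ := Commute.refl x₀
    have h3 : Commute z x₀ := (hx₀Zq z hz hzq).symm
    exact ((h1.mul_left (h2.pow_left i)).mul_left h3).eq
  have hZSc : (S ⊓ Subgroup.centralizer (S : Set G)).Characteristic := inferInstance
  have hZSab : IsMulCommutative ↥(S ⊓ Subgroup.centralizer (S : Set G)) := by
    refine ⟨⟨fun a b => Subtype.ext ?_⟩⟩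
    have h1 := Subgroup.mem_centralizer_iff.1 b.2.2 a a.2.1
    exact h1
  haveI : IsCyclic ↥(S ⊓ Subgroup.centralizer (S : Set G)) := D.sym _ hZSc hZSab
  have h1 : x₀ ∈ Subgroup.zpowers t := by
    apply mem_zpowers_sub (A := S ⊓ Subgroup.centralizer (S : Set G)) ⟨htS, htcen⟩ ⟨hx₀S, hx₀cen⟩
    rw [hto]
    exact orderOf_dvd_of_pow_eq_one hx₀q
  exact hx₀Z ((Subgroup.zpowers_le.2 htZ) h1)

/-- Escaping from `Z` one `p`-th power at a time. -/
theorem pow_escape (hG : IsPGroup p G) (Z : Subgroup G) {r : G} (hr : r ∉ Z) :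
    ∃ j : ℕ, r ^ (p ^ j) ∉ Z ∧ (r ^ (p ^ j)) ^ p ∈ Z := by
  classical
  obtain ⟨k, hk⟩ := hG r
  have hex : ∃ k, r ^ (p ^ k) ∈ Z := ⟨k, by rw [hk]; exact Z.one_mem⟩
  have h1 := Nat.find_spec hex
  have h2 : Nat.find hex ≠ 0 := by
    intro h0
    rw [h0, pow_zero, pow_one] at h1
    exact hr h1
  obtain ⟨j, hj⟩ := Nat.exists_eq_succ_of_ne_zero h2
  refine ⟨j, Nat.find_min hex (by omega), ?_⟩
  rw [← pow_mul, ← pow_succ]
  rw [hj] at h1
  exact h1

theorem exists_exponent {C Z P E : Subgroup G} {q : ℕ} (D : Data p q C Z P E) {ζ : G} (hζ : Z = Subgroup.zpowers ζ)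
    (r : G) : ∃ m : ℕ, r * ζ * r⁻¹ = ζ ^ m := by
  haveI hZc := D.Zc
  have hZn : Z.Normal := Subgroup.normal_of_characteristic _
  have hζZ : ζ ∈ Z := by rw [hζ]; exact Subgroup.mem_zpowers ζ
  have h1 := hZn.conj_mem ζ hζZ r
  have hfoζ : IsOfFinOrder ζ := isOfFinOrder_of_finite ζ
  rw [hζ, ← SetLike.mem_coe, ← hfoζ.powers_eq_zpowers] at h1
  obtain ⟨k, hk⟩ := h1
  exact ⟨k, hk.symm⟩

theorem comm_of_comm_gen {Z : Subgroup G} {ζ : G} (hζ : Z = Subgroup.zpowers ζ) {g : G} (hg : g * ζ * g⁻¹ = ζ) :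
    ∀ z ∈ Z, g * z = z * g := by
  intro z hz
  rw [hζ] at hz
  obtain ⟨k, rfl⟩ := Subgroup.mem_zpowers_iff.1 hz
  have h1 : Commute g ζ := by
    show g * ζ = ζ * g
    calc g * ζ = (g * ζ * g⁻¹) * g := by group
      _ = ζ * g := by rw [hg]
  exact (h1.zpow_right k).eq

/-- For odd `p`, the centralizer of `E` is `Z`. -/
theorem odd_case {C Z P E : Subgroup G} {q : ℕ} (D : Data p q C Z P E) (hp2 : p ≠ 2) {ζ : G}
    (hζ : Z = Subgroup.zpowers ζ) {r : G} (hrR : ∀ f ∈ E, f * r = r * f) : r ∈ Z := by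
  classical
  by_contra hrZ
  have hpp : p.Prime := hp.out
  obtain ⟨j, hj1, hj2⟩ := pow_escape D.hG Z hrZ
  set r₁ := r ^ (p ^ j) with hr₁
  have hr₁R : ∀ f ∈ E, f * r₁ = r₁ * f := fun f hf => ((show Commute f r from hrR f hf).pow_right _).eq
  have hr₁pR : ∀ f ∈ E, f * r₁ ^ p = r₁ ^ p * f := fun f hf =>
    ((show Commute f r₁ from hr₁R f hf).pow_right _).eq
  have hζZ : ζ ∈ Z := by rw [hζ]; exact Subgroup.mem_zpowers ζ
  obtain ⟨n, hn⟩ := IsPGroup.iff_orderOf.1 D.hG ζ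
  obtain ⟨k, hk⟩ := exists_exponent D hζ r₁
  have hk1 : ¬ k ≡ 1 [MOD p ^ n] := by
    intro h
    apply hj1
    apply D.RZ _ hr₁R
    apply comm_of_comm_gen hζ
    rw [hk]
    have := (pow_eq_pow_iff_modEq (x := ζ) (n := k) (m := 1)).2 (by rwa [hn])
    rw [this, pow_one]
  have hkp : k ^ p ≡ 1 [MOD p ^ n] := by
    have h1 := Cfsg.Agent.Lib.CyclicMax.iterate_conj hk p
    have h2 : r₁ ^ p * ζ = ζ * r₁ ^ p := by
      have hZcen := ((D.Zmem (r₁ ^ p)).1 hj2).2
      have hζC := ((D.Zmem ζ).1 hζZ).1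
      exact (hZcen ζ hζC).symm
    have h3 : r₁ ^ p * ζ * (r₁ ^ p)⁻¹ = ζ := by
      rw [h2]
      group
    rw [h3] at h1
    have h4 : ζ ^ (k ^ p) = ζ ^ 1 := by rw [pow_one]; exact h1.symm
    have h5 := (pow_eq_pow_iff_modEq).1 h4
    rwa [hn] at h5
  have hn2 : 2 ≤ n := by
    by_contra hlt
    have hn1 : n ≤ 1 := by omega
    have hζp : ζ ^ p = 1 := by
      have h1 : orderOf ζ ∣ p := by
        rw [hn]
        interval_cases n <;> simp
      exact orderOf_dvd_iff_pow_eq_one.1 h1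
    have hζP : ζ ∈ P := (D.Pmem ζ).2 ⟨hζZ, hζp⟩
    apply hj1
    apply D.RZ _ hr₁R
    apply comm_of_comm_gen hζ
    rw [(D.Pcen ζ hζP r₁)]
    group
  obtain ⟨m, hm⟩ : ∃ m, n = m + 1 := ⟨n - 1, by omega⟩
  subst hm
  obtain ⟨j', hj', -⟩ := Cfsg.Agent.Lib.CyclicMax.lte_aux (p := p) (n := m + 1 + 1) hp2 (by omega)
    (by simpa using hkp) (by simpa using hk1)
  have hj'' : k = 1 + p ^ m * j' := by simpa using hj'
  have hwZ : (ζ ^ (p ^ m)) ^ j' ∈ Z := Z.pow_mem (Z.pow_mem hζZ _) _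
  have hwP : (ζ ^ (p ^ m)) ^ j' ∈ P := by
    refine (D.Pmem _).2 ⟨hwZ, ?_⟩
    rw [← pow_mul, ← pow_mul]
    have e : p ^ m * (j' * p) = p ^ (m + 1) * j' := by ring
    rw [e, pow_mul, ← hn, pow_orderOf_eq_one, one_pow]
  have hrw : r₁ * ζ * r₁⁻¹ = ζ * (ζ ^ (p ^ m)) ^ j' := by
    rw [hk, hj'', pow_add, pow_one, pow_mul]
  have hq' : q = p := D.hq4 hp2
  have hN : q < orderOf ζ := by
    rw [hq', hn]
    calc p = p ^ 1 := (pow_one p).symm
      _ < p ^ (m + 1) := Nat.pow_lt_pow_right hpp.one_lt (by omega)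
  exact hj1 (claimA D hζ hN hr₁R hwP hrw)

/-- For `p = 2`: exponents congruent to `1` modulo `4` lie in `Z`. -/
theorem two_star {C Z P E : Subgroup G} (D : Data 2 4 C Z P E) {ζ : G}
    (hζ : Z = Subgroup.zpowers ζ) {n : ℕ} (hn : orderOf ζ = 2 ^ n) {r : G} (hrR : ∀ f ∈ E, f * r = r * f) {m : ℕ}
    (hrm : r * ζ * r⁻¹ = ζ ^ m) (hm : m ≡ 1 [MOD 4]) : r ∈ Z := by
  classical
  by_cases hn2 : n ≤ 2
  · apply D.RZ _ hrR
    apply comm_of_comm_gen hζ
    rw [hrm]
    have h1 : m ≡ 1 [MOD orderOf ζ] := by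
      rw [hn]
      apply hm.of_dvd
      have : (2 : ℕ) ^ n ∣ 2 ^ 2 := pow_dvd_pow 2 hn2
      simpa using this
    have := (pow_eq_pow_iff_modEq (x := ζ) (n := m) (m := 1)).2 h1
    rw [this, pow_one]
  push Not at hn2
  by_contra hrZ
  obtain ⟨j, hj1, hj2⟩ := pow_escape D.hG Z hrZ
  set r₁ := r ^ (2 ^ j) with hr₁
  have hr₁R : ∀ f ∈ E, f * r₁ = r₁ * f := fun f hf => ((show Commute f r from hrR f hf).pow_right _).eq
  have hζZ : ζ ∈ Z := by rw [hζ]; exact Subgroup.mem_zpowers ζ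
  have h1 := Cfsg.Agent.Lib.CyclicMax.iterate_conj hrm (2 ^ j)
  set k := m ^ (2 ^ j) with hk
  have hk4 : k ≡ 1 [MOD 4] := by
    have := hm.pow (2 ^ j)
    simpa [hk] using this
  have hk1 : ¬ k ≡ 1 [MOD 2 ^ n] := by
    intro h
    apply hj1
    apply D.RZ _ hr₁R
    apply comm_of_comm_gen hζ
    rw [h1]
    have := (pow_eq_pow_iff_modEq (x := ζ) (n := k) (m := 1)).2 (by rwa [hn])
    rw [this, pow_one]
  have hkp : k ^ 2 ≡ 1 [MOD 2 ^ n] := by
    have h2 := Cfsg.Agent.Lib.CyclicMax.iterate_conj h1 2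
    have h3 : r₁ ^ 2 * ζ = ζ * r₁ ^ 2 := by
      have hZcen := ((D.Zmem (r₁ ^ 2)).1 hj2).2
      have hζC := ((D.Zmem ζ).1 hζZ).1
      exact (hZcen ζ hζC).symm
    have h4 : r₁ ^ 2 * ζ * (r₁ ^ 2)⁻¹ = ζ := by
      rw [h3]
      group
    rw [h4] at h2
    have h5 : ζ ^ (k ^ 2) = ζ ^ 1 := by rw [pow_one]; exact h2.symm
    have h6 := (pow_eq_pow_iff_modEq).1 h5
    rwa [hn] at h6
  have h4dvd : (4 : ℕ) ∣ 2 ^ n := by
    have : (2 : ℕ) ^ 2 ∣ 2 ^ n := pow_dvd_pow 2 (by omega)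
    simpa using this
  have h4dvd' : (4 : ℕ) ∣ 2 ^ (n - 1) := by
    have : (2 : ℕ) ^ 2 ∣ 2 ^ (n - 1) := pow_dvd_pow 2 (by omega)
    simpa using this
  have hk4' : k % 4 = 1 := hk4
  have hcases := Cfsg.Agent.Lib.CyclicMax.sq_roots_two (m := n) (by omega) hkp
  rcases hcases with h | h | h | h
  · exact hk1 h
  · -- the modular case
    have hζ4 : (4 : ℕ) < orderOf ζ := by
      rw [hn]
      calc 4 = 2 ^ 2 := by norm_num
        _ < 2 ^ n := Nat.pow_lt_pow_right (by norm_num) (by omega)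
    have hw : ζ ^ (2 ^ (n - 1)) ∈ P := by
      refine (D.Pmem _).2 ⟨Z.pow_mem hζZ _, ?_⟩
      rw [← pow_mul, ← pow_succ]
      have : n - 1 + 1 = n := by omega
      rw [this, ← hn, pow_orderOf_eq_one]
    have hrw : r₁ * ζ * r₁⁻¹ = ζ * ζ ^ (2 ^ (n - 1)) := by
      rw [h1]
      have := (pow_eq_pow_iff_modEq (x := ζ) (n := k) (m := 1 + 2 ^ (n - 1))).2 (by rwa [hn])
      rw [this, pow_add, pow_one]
    exact hj1 (claimA D hζ hζ4 hr₁R hw hrw)
  · exfalso
    have h5 : (k + 1) % 4 = 0 := by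
      have := h.of_dvd h4dvd
      exact this
    omega
  · exfalso
    have h5 : (k + 1) % 4 = 2 ^ (n - 1) % 4 := by
      have := h.of_dvd h4dvd
      exact this
    have h6 : 2 ^ (n - 1) % 4 = 0 := Nat.mod_eq_zero_of_dvd h4dvd'
    omega

end Helpers

/-- Let G be a finite p-group of symplectic type: every characteristic abelian subgroup of G is cyclic. Then G = E ∗ R is a central product of subgroups E and R (they commute elementwise and generate G) where E is extraspecial or trivial, and R is cyclic, or p = 2 and R is dihedral, semidihedral or generalized quaternion of order at least 16. -/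
theorem result {G : Type*} [Group G] [Finite G] {p : ℕ} [Fact p.Prime] (hG : IsPGroup p G) (hsymp : ∀ A : Subgroup G, A.Characteristic → IsMulCommutative A → IsCyclic A) : ∃ E R : Subgroup G, (∀ e ∈ E, ∀ r ∈ R, e * r = r * e) ∧ E ⊔ R = ⊤ ∧ (E = ⊥ ∨ Cfsg.IsExtraspecial p ↥E) ∧ (IsCyclic R ∨ (p = 2 ∧ 16 ≤ Nat.card R ∧ ((∃ m : ℕ, Nonempty (↥R ≃* DihedralGroup m)) ∨ (∃ m : ℕ, Nonempty (↥R ≃* QuaternionGroup m)) ∨ Cfsg.IsQuasiDihedral ↥R))) := by
  classical
  have hpp : p.Prime := Fact.out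
  by_cases hnt : Nontrivial G
  swap
  · rw [not_nontrivial_iff_subsingleton] at hnt
    refine ⟨⊥, ⊤, ?_, ?_, Or.inl rfl, Or.inl ?_⟩
    · intro e he r hr
      exact Subsingleton.elim _ _
    · rw [bot_sup_eq]
    · infer_instance
  obtain ⟨q, hq⟩ : ∃ q : ℕ, (p = 2 ∧ q = 4) ∨ (p ≠ 2 ∧ q = p) := by
    by_cases h : p = 2
    · exact ⟨4, Or.inl ⟨h, rfl⟩⟩
    · exact ⟨p, Or.inr ⟨h, rfl⟩⟩
  obtain ⟨C, Z, P, E, D⟩ := exists_data hG hsymp hq
  haveI hZcyc := D.Zcyc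
  obtain ⟨⟨ζ, hζZ⟩, hgen⟩ := IsCyclic.exists_generator (α := Z)
  have hZζ : Z = Subgroup.zpowers ζ := by
    apply le_antisymm
    · intro g hg
      obtain ⟨k, hk⟩ := hgen ⟨g, hg⟩
      exact Subgroup.mem_zpowers_iff.2 ⟨k, congrArg Subtype.val hk⟩
    · rw [Subgroup.zpowers_le]
      exact hζZ
  -- the central factor
  let R : Subgroup G := Subgroup.centralizer (E : Set G)
  have hRmem : ∀ r, r ∈ R ↔ ∀ f ∈ E, f * r = r * f := fun r => Subgroup.mem_centralizer_iff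
  have hZC : Z ≤ C := fun z hz => ((D.Zmem z).1 hz).1
  have hZR : Z ≤ R := fun z hz => (hRmem z).2 (fun f hf => ((D.Zmem z).1 hz).2 f (D.EC hf))
  have hPZ : P ≤ Z := fun x hx => ((D.Pmem x).1 hx).1
  have hsup : E ⊔ R = ⊤ := by
    rw [eq_top_iff]
    intro g _
    obtain ⟨e, he, r, hr, rfl⟩ := D.dec g
    exact Subgroup.mul_mem _ (Subgroup.mem_sup_left he) (Subgroup.mem_sup_right ((hRmem r).2 hr))
  obtain ⟨t, htP, hto, htpow⟩ := D.Pt
  have htE : t ∈ E := D.PE htP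
  have hES : ES p E ⟨t, htE⟩ := by
    refine ⟨?_, ?_, ?_, ?_, ?_⟩
    · intro g
      exact Subtype.ext (D.Pcen t htP g)
    · rw [Subgroup.orderOf_mk]
      exact hto
    · rintro ⟨g, hg⟩ hc
      obtain ⟨k, hk⟩ := htpow g (D.Ecen g hg (fun f hf => congrArg Subtype.val (hc ⟨f, hf⟩)))
      exact ⟨k, Subtype.ext hk⟩
    · rintro ⟨a, ha⟩ ⟨b, hb⟩
      obtain ⟨k, hk⟩ := htpow _ (D.Ccomm b (D.EC hb) a (D.EC ha))
      exact ⟨k, Subtype.ext hk⟩
    · rintro ⟨a, ha⟩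
      obtain ⟨k, hk⟩ := htpow _ (D.Ep a ha)
      exact ⟨k, Subtype.ext hk⟩
  have hpair : ∃ E' : Subgroup G, (∀ e ∈ E', ∀ r ∈ R, e * r = r * e) ∧ E' ⊔ R = ⊤ ∧
      (E' = ⊥ ∨ Cfsg.IsExtraspecial p ↥E') := by
    by_cases hab : ∀ a ∈ E, ∀ b ∈ E, a * b = b * a
    · refine ⟨⊥, ?_, ?_, Or.inl rfl⟩
      · intro e he r hr
        rw [Subgroup.mem_bot] at he
        rw [he, one_mul, mul_one]
      · rw [bot_sup_eq, eq_top_iff]
        intro g _
        obtain ⟨e, he, r, hr, rfl⟩ := D.dec g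
        have heP : e ∈ P := D.Ecen e he (fun f hf => hab f hf e he)
        exact R.mul_mem (hZR (hPZ heP)) ((hRmem r).2 hr)
    · refine ⟨E, ?_, hsup, Or.inr ?_⟩
      · intro e he r hr
        exact (hRmem r).1 hr e he
      · push Not at hab
        obtain ⟨a, ha, b, hb, hab⟩ := hab
        apply isExtraspecial_of_ES (hG.to_subgroup E) hES
        refine ⟨⟨a, ha⟩, ⟨b, hb⟩, ?_⟩
        intro h
        exact hab (congrArg Subtype.val h)
  obtain ⟨E', hE'1, hE'2, hE'3⟩ := hpair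
  by_cases hall : ∀ r ∈ R, r ∈ Z
  · have hRZ : R = Z := le_antisymm hall hZR
    refine ⟨E', R, hE'1, hE'2, hE'3, Or.inl ?_⟩
    rw [hRZ]
    exact hZcyc
  push Not at hall
  obtain ⟨r, hrR, hrZ⟩ := hall
  have hp2 : p = 2 := by
    by_contra hne
    exact hrZ (odd_case D hne hZζ ((hRmem r).1 hrR))
  subst hp2
  have hq4 : q = 4 := D.hq5 rfl
  subst hq4
  obtain ⟨n, hn⟩ := IsPGroup.iff_orderOf.1 D.hG ζ
  -- `n ≥ 2`
  have hcomm_r : ∀ s ∈ R, s * ζ * s⁻¹ = ζ → s ∈ Z := fun s hs h =>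
    D.RZ s ((hRmem s).1 hs) (comm_of_comm_gen hZζ h)
  have hn2 : 2 ≤ n := by
    by_contra hlt
    have hn1 : n ≤ 1 := by omega
    have hζp : ζ ^ 2 = 1 := by
      have h1 : orderOf ζ ∣ 2 := by
        rw [hn]
        interval_cases n <;> simp
      exact orderOf_dvd_iff_pow_eq_one.1 h1
    have hζP : ζ ∈ P := (D.Pmem ζ).2 ⟨hζZ, hζp⟩
    apply hrZ
    apply hcomm_r r hrR
    rw [D.Pcen ζ hζP r]
    group
  -- exponents of elements of `R`
  have hexp : ∀ s ∈ R, s ∉ Z → ∃ m : ℕ, s * ζ * s⁻¹ = ζ ^ m ∧ m % 4 = 3 := by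
    intro s hs hsZ
    obtain ⟨m, hm⟩ := exists_exponent D hZζ s
    refine ⟨m, hm, ?_⟩
    have hodd : m % 2 = 1 := by
      by_contra h
      have h2 : 2 ∣ m := by omega
      have h3 : orderOf (s * ζ * s⁻¹) = orderOf ζ := by
        have := orderOf_injective (MulAut.conj s).toMonoidHom (MulAut.conj s).injective ζ
        simpa [MulAut.conj_apply] using this
      rw [hm, hn] at h3
      obtain ⟨c, rfl⟩ := h2
      obtain ⟨n', rfl⟩ : ∃ n', n = n' + 1 := ⟨n - 1, by omega⟩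
      have h4 : (ζ ^ (2 * c)) ^ (2 ^ n') = 1 := by
        have e : 2 * c * 2 ^ n' = 2 ^ (n' + 1) * c := by ring
        rw [← pow_mul, e, pow_mul, ← hn, pow_orderOf_eq_one, one_pow]
      have h5 := orderOf_dvd_of_pow_eq_one h4
      rw [h3] at h5
      have h6 := (Nat.pow_dvd_pow_iff_le_right (by norm_num : 1 < 2)).1 h5
      omega
    have hne : m % 4 ≠ 1 := by
      intro h
      exact hsZ (two_star D hZζ hn ((hRmem s).1 hs) hm h)
    omega
  -- products of two elements outside `Z`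
  have hprod : ∀ s ∈ R, ∀ s' ∈ R, s ∉ Z → s' ∉ Z → s * s' ∈ Z := by
    intro s hs s' hs' hsZ hs'Z
    obtain ⟨m, hm, hm4⟩ := hexp s hs hsZ
    obtain ⟨m', hm', hm'4⟩ := hexp s' hs' hs'Z
    have h1 : (s * s') * ζ * (s * s')⁻¹ = ζ ^ (m * m') := by
      calc (s * s') * ζ * (s * s')⁻¹ = s * (s' * ζ * s'⁻¹) * s⁻¹ := by group
        _ = s * ζ ^ m' * s⁻¹ := by rw [hm']
        _ = ζ ^ (m * m') := Cfsg.Agent.Lib.CyclicMax.conj_pow_pow hm m'
    have h2 : m * m' ≡ 1 [MOD 4] := by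
      have h3 : m * m' % 4 = (m % 4) * (m' % 4) % 4 := Nat.mul_mod _ _ _
      show m * m' % 4 = 1 % 4
      rw [h3, hm4, hm'4]
    apply two_star D hZζ hn _ h1 h2
    exact (hRmem _).1 (R.mul_mem hs hs')
  have hZRle : (Z.subgroupOf R).index = 2 := by
    rw [Subgroup.index_eq_two_iff]
    refine ⟨⟨r, hrR⟩, ?_⟩
    rintro ⟨b, hb⟩
    by_cases hbZ : b ∈ Z
    · right
      refine ⟨hbZ, ?_⟩
      intro h
      apply hrZ
      have h1 : b * r ∈ Z := h
      have e : r = b⁻¹ * (b * r) := by group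
      rw [e]
      exact Z.mul_mem (Z.inv_mem hbZ) h1
    · left
      exact ⟨hprod b hb r hrR hbZ hrZ, hbZ⟩
  have hcardZ : Nat.card (Z.subgroupOf R) = 2 ^ n := by
    have h1 : Nat.card (Z.subgroupOf R) = Nat.card Z :=
      Nat.card_congr (Subgroup.subgroupOfEquivOfLe hZR).toEquiv
    rw [h1, hZζ, Nat.card_zpowers, hn]
  have hcardR : Nat.card R = 2 ^ (n + 1) := by
    have h1 := Subgroup.card_mul_index (Z.subgroupOf R)
    rw [hZRle, hcardZ] at h1
    rw [← h1, pow_succ]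
  obtain ⟨m, hm, hm4⟩ := hexp r hrR hrZ
  by_cases hn3 : n = 2
  · -- `G` itself is extraspecial
    subst hn3
    have hZ4 : ∀ z ∈ Z, z ^ 4 = 1 := by
      intro z hz
      rw [hZζ] at hz
      obtain ⟨k, rfl⟩ := Subgroup.mem_zpowers_iff.1 hz
      have h4 : ζ ^ 4 = 1 := by
        have := pow_orderOf_eq_one ζ
        rwa [hn] at this
      rw [← zpow_natCast, ← zpow_mul, mul_comm, zpow_mul, zpow_natCast, h4, one_zpow]
    have hZsq : ∀ z ∈ Z, z ^ 2 ∈ P := by
      intro z hz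
      refine (D.Pmem _).2 ⟨Z.pow_mem hz 2, ?_⟩
      rw [← pow_mul]
      exact hZ4 z hz
    have hinv : ∀ s ∈ R, s ∉ Z → s * ζ * s⁻¹ = ζ⁻¹ := by
      intro s hs hsZ
      obtain ⟨m', hm', hm'4⟩ := hexp s hs hsZ
      rw [hm', ← pow_mod_orderOf, hn]
      have : m' % 2 ^ 2 = 3 := by
        norm_num
        exact hm'4
      rw [this]
      apply eq_inv_of_mul_eq_one_left
      rw [← pow_succ]
      exact hZ4 ζ hζZ
    have hinvZ : ∀ s ∈ R, s ∉ Z → ∀ z ∈ Z, s * z * s⁻¹ = z⁻¹ := by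
      intro s hs hsZ z hz
      rw [hZζ] at hz
      obtain ⟨k, rfl⟩ := Subgroup.mem_zpowers_iff.1 hz
      rw [← conj_zpow, hinv s hs hsZ, inv_zpow]
    have hsq : ∀ s ∈ R, s ^ 2 ∈ P := by
      intro s hs
      by_cases hsZ : s ∈ Z
      · exact hZsq s hsZ
      · have h1 : s ^ 2 ∈ Z := by
          rw [pow_two]
          exact hprod s hs s hs hsZ hsZ
        have h2 := hinvZ s hs hsZ _ h1
        have h3 : s * s ^ 2 * s⁻¹ = s ^ 2 := by
          have : s * s ^ 2 = s ^ 2 * s := ((Commute.refl s).pow_right 2).eq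
          rw [this]
          group
        rw [h3] at h2
        refine (D.Pmem _).2 ⟨h1, ?_⟩
        have h4 : s ^ 2 * s ^ 2 = 1 := by
          nth_rewrite 1 [h2]
          group
        rw [pow_two]
        exact h4
    have hrform : ∀ s ∈ R, ∃ i : ℕ, ∃ z ∈ Z, s = r ^ i * z := by
      intro s hs
      by_cases hsZ : s ∈ Z
      · exact ⟨0, s, hsZ, by simp⟩
      · refine ⟨1, r⁻¹ * s, ?_, by group⟩
        exact hprod _ (R.inv_mem hrR) s hs (fun h => hrZ (by simpa using Z.inv_mem h)) hsZ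
    haveI hPc := D.Pc
    haveI hPn : P.Normal := Subgroup.normal_of_characteristic _
    have hcomm_all : ∀ a b : G, a * b * a⁻¹ * b⁻¹ ∈ P := by
      intro a b
      apply mem_of_commute_mk
      obtain ⟨e, he, s, hs, rfl⟩ := D.dec a
      obtain ⟨f, hf, s', hs', rfl⟩ := D.dec b
      obtain ⟨i, z, hz, rfl⟩ := hrform s ((hRmem s).2 hs)
      obtain ⟨j, z', hz', rfl⟩ := hrform s' ((hRmem s').2 hs')
      set π := QuotientGroup.mk' P with hπ
      simp only [map_mul, map_pow]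
      have hcomm : ∀ {s t : G}, s * t = t * s → Commute (π s) (π t) := by
        intro s t h
        show π s * π t = π t * π s
        rw [← map_mul, ← map_mul, h]
      have hEr : ∀ x ∈ E, Commute (π x) (π r) := fun x hx => hcomm ((hRmem r).1 hrR x hx)
      have hEZ' : ∀ x ∈ E, ∀ y ∈ Z, Commute (π x) (π y) := fun x hx y hy =>
        hcomm ((D.Zmem y).1 hy |>.2 x (D.EC hx))
      have hrZ' : ∀ y ∈ Z, Commute (π r) (π y) := by
        intro y hy
        apply commute_mk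
        rw [hinvZ r hrR hrZ y hy, ← mul_inv_rev, ← pow_two]
        exact P.inv_mem (hZsq y hy)
      have hZZ : ∀ x ∈ Z, ∀ y ∈ Z, Commute (π x) (π y) := fun x hx y hy =>
        hcomm ((D.Zmem y).1 hy |>.2 x (hZC hx))
      have hEE : Commute (π e) (π f) := by
        apply commute_mk
        exact D.Ccomm _ (D.EC hf) _ (D.EC he)
      have hL : ∀ {t : G ⧸ P}, Commute (π e) t → Commute (π r) t → Commute (π z) t →
          Commute (π e * (π r ^ i * π z)) t := by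
        intro t h1 h2 h3
        exact h1.mul_left ((h2.pow_left i).mul_left h3)
      apply hL
      · exact hEE.mul_right (((hEr e he).pow_right j).mul_right (hEZ' e he z' hz'))
      · exact (hEr f hf).symm.mul_right (((Commute.refl _).pow_right j).mul_right (hrZ' z' hz'))
      · exact (hEZ' f hf z hz).symm.mul_right ((((hrZ' z hz).symm).pow_right j).mul_right (hZZ z hz z' hz'))
    have hES_G : ES 2 G t := by
      refine ⟨?_, hto, ?_, ?_, ?_⟩
      · intro g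
        exact D.Pcen t htP g
      · intro g hg
        have hgC : g ∈ C := D.Ccent g (fun c _ => hg c)
        have hgZ : g ∈ Z := (D.Zmem g).2 ⟨hgC, fun c _ => hg c⟩
        have h2 : r * g * r⁻¹ = g := by
          rw [hg r]
          group
        have h3 : g ^ 2 = 1 := by
          have h4 : r * g * r⁻¹ = g⁻¹ := hinvZ r hrR hrZ g hgZ
          rw [h2] at h4
          rw [pow_two]
          nth_rewrite 1 [h4]
          group
        exact htpow g ((D.Pmem g).2 ⟨hgZ, h3⟩)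
      · intro a b
        exact htpow _ (hcomm_all a b)
      · intro a
        obtain ⟨e, he, s, hs, rfl⟩ := D.dec a
        have h1 : Commute e s := hs e he
        rw [h1.mul_pow]
        exact htpow _ (P.mul_mem (D.Ep e he) (hsq s ((hRmem s).2 hs)))
    have hext : Cfsg.IsExtraspecial 2 G := by
      apply isExtraspecial_of_ES hG hES_G
      refine ⟨r, ζ, ?_⟩
      intro h
      apply hrZ
      apply hcomm_r r hrR
      rw [h]
      group
    refine ⟨⊤, ⊥, ?_, ?_, Or.inr ?_, Or.inl ?_⟩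
    · intro e he x hx
      rw [Subgroup.mem_bot] at hx
      rw [hx, one_mul, mul_one]
    · rw [sup_bot_eq]
    · exact Cfsg.Agent.Lib.LargeCent.isExtraspecial_of_equiv Subgroup.topEquiv.symm hext
    · infer_instance
  · -- the maximal class case
    have hn3' : 3 ≤ n := by omega
    refine ⟨E', R, hE'1, hE'2, hE'3, Or.inr ⟨rfl, ?_, ?_⟩⟩
    · rw [hcardR]
      calc 16 = 2 ^ 4 := by norm_num
        _ ≤ 2 ^ (n + 1) := Nat.pow_le_pow_right (by norm_num) (by omega)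
    · let a : R := ⟨ζ, hZR hζZ⟩
      let b : R := ⟨r, hrR⟩
      have ha : orderOf a = 2 ^ n := by
        rw [Subgroup.orderOf_mk]
        exact hn
      have hb : b ∉ Subgroup.zpowers a := by
        intro h
        obtain ⟨k, hk⟩ := Subgroup.mem_zpowers_iff.1 h
        have h1 : ζ ^ k = r := congrArg Subtype.val hk
        apply hrZ
        rw [← h1]
        exact Z.zpow_mem hζZ k
      have hab : b * a * b⁻¹ = a ^ m := Subtype.ext hm
      have h1 := Cfsg.Agent.Lib.CycMax2.classify (S := R) n hn2 a b ha hcardR hb m hm4 hab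
      rcases h1 with ⟨k, h⟩ | ⟨k, h2, a', b', h3, h4, h5⟩ | ⟨k, h⟩
      · exact Or.inl ⟨_, h⟩
      · refine Or.inr (Or.inr ⟨k + 3, by omega, h2, a', b', h3, h4, ?_⟩)
        exact h5
      · exact Or.inr (Or.inl ⟨_, h⟩)

end Cfsg.Agent.S3762
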