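import Mathlib
import Cfsg.Statements.S4493
import Cfsg.Agent.S4713
import Cfsg.Agent.Lib.BlockNormal

set_option autoImplicit false
set_option linter.style.haveILetI false
open Cfsg

namespace Cfsg.Agent.S4493

open Cfsg.Agent.Lib
open Cfsg.Agent.Lib.CharBasic
open Cfsg.Agent.Lib.CharKernel

/-- Let G be a finite solvable group and p a prime. Then G has a normal abelian Sylow p-subgroup if and only if no irreducible character degree of G is divisible by p. -/
theorem result {G : Type*} [Group G] [Finite G] (hsolv : Group.IsSolvable G) (p : ℕ) (hp : p.Prime) : (∃ P : Subgroup G, P.Normal ∧ (∀ x ∈ P, ∀ y ∈ P, x * y = y * x) ∧ IsPGroup p P ∧ ¬ p ∣ P.index) ↔ ∀ χ : Cfsg.IrrCharacter G, ¬ p ∣ Cfsg.charDegree (χ : G → ℂ) := by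
  haveI : Fact p.Prime := ⟨hp⟩
  constructor
  · rintro ⟨P, hPn, hPc, -, hPi⟩ ⟨χ, hχ⟩
    classical
    letI := Fintype.ofFinite G
    obtain ⟨n, ρ, hρ, rfl⟩ := id hχ
    have h1 := CharWeight.finrank_dvd_index ρ hρ hPn hPc
    intro h2
    have h3 : Module.finrank ℂ (Fin n → ℂ) = Cfsg.charDegree ρ.character := by
      have := one_eq_charDegree (IsIrrCharacter.isCharacter hχ)
      rw [char_one_eq_rep] at this
      simpa using this
    rw [h3] at h1
    exact hPi (dvd_trans h2 h1)
  · intro h
    have hs : IsPSolvable p G := BlockNormal.isPSolvable_of_isSolvable p _ G rfl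
    obtain ⟨P⟩ : Nonempty (Sylow p G) := inferInstance
    obtain ⟨h1, h2⟩ := (S4713.result p hs P).2 h
    refine ⟨P, h1, ?_, P.isPGroup', P.not_dvd_index⟩
    intro x hx y hy
    have := mul_comm' (⟨x, hx⟩ : (P : Subgroup G)) ⟨y, hy⟩
    exact congrArg Subtype.val this

end Cfsg.Agent.S4493
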