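import Mathlib
import Cfsg.Statements.S4035
import Cfsg.Agent.Lib.FrobCount
import Cfsg.Agent.Lib.H73Real

set_option autoImplicit false
open Cfsg

namespace Cfsg.Agent.S4035

open Cfsg.Agent.Lib.FrobCount

variable {G : Type*} [Group G] [Finite G] {p : ℕ} [hp : Fact p.Prime]

/-- A subgroup of index prime to `p` contains a Sylow `p`-subgroup. -/
theorem exists_sylow_le (C : Subgroup G) (h : ¬ p ∣ C.index) :
    ∃ A : Sylow p G, (A : Subgroup G) ≤ C := by
  classical
  let S : Sylow p C := default
  have hcard : Nat.card (S.1.map C.subtype) = p ^ (Nat.card G).factorization p := by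
    have h1 : Nat.card (S.1.map C.subtype) = Nat.card S.1 :=
      Subgroup.card_map_of_injective C.subtype_injective
    rw [h1, Sylow.card_eq_multiplicity]
    have h2 : Nat.card G = Nat.card C * C.index := (Subgroup.card_mul_index C).symm
    rw [h2, Nat.factorization_mul Nat.card_pos.ne' (Subgroup.index_ne_zero_of_finite)]
    simp [Nat.factorization_eq_zero_of_not_dvd h]
  refine ⟨Sylow.ofCard _ hcard, ?_⟩
  rw [Sylow.coe_ofCard]
  exact Subgroup.map_subtype_le _

/-- A `p`-regular element with class size prime to `p` centralizes a Sylow subgroup. -/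
theorem exists_sylow_commute (x : G) (h : ¬ p ∣ (ConjClasses.mk x).carrier.ncard) :
    ∃ A : Sylow p G, ∀ a ∈ (A : Subgroup G), a * x = x * a := by
  have h1 : (ConjClasses.mk x).carrier.ncard = (Subgroup.centralizer ({x} : Set G)).index := by
    rw [← Cfsg.Agent.Lib.H73Real.card_class_eq_index]
    rw [ConjClasses.carrier_eq_preimage_mk]
    rw [← Nat.card_coe_set_eq]
    apply Nat.card_congr
    apply Equiv.subtypeEquivRight
    intro y
    simp only [Set.mem_preimage, Set.mem_singleton_iff, ConjClasses.mk_eq_mk_iff_isConj]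
    exact isConj_comm
  rw [h1] at h
  obtain ⟨A, hA⟩ := exists_sylow_le (p := p) _ h
  refine ⟨A, fun a ha => ?_⟩
  have := hA ha
  rw [Subgroup.mem_centralizer_iff] at this
  exact (this x rfl).symm

theorem regular_card (P : Sylow p G) :
    (P : Subgroup G).index ≤ Nat.card {x : G // (orderOf x).Coprime p} := by
  classical
  set m := (P : Subgroup G).index with hm
  have hmcop : ¬ p ∣ m := P.not_dvd_index
  have hdvd : m ∣ Nat.card G := Subgroup.index_dvd_card _
  have h1 := frobenius_dvd_card_pow_eq_one G m hdvd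
  have h2 : Nat.card {x : G // x ^ m = 1} = Nat.card {x : G // (orderOf x).Coprime p} := by
    apply Nat.card_congr
    apply Equiv.subtypeEquivRight
    intro x
    constructor
    · intro hx
      have h3 : orderOf x ∣ m := orderOf_dvd_of_pow_eq_one hx
      rw [Nat.coprime_comm, hp.out.coprime_iff_not_dvd]
      exact fun h4 => hmcop (h4.trans h3)
    · intro hx
      apply orderOf_dvd_iff_pow_eq_one.mp
      have h3 : orderOf x ∣ Nat.card G := orderOf_dvd_natCard x
      rw [← Subgroup.card_mul_index (P : Subgroup G), P.card_eq_multiplicity] at h3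
      have h4 : (orderOf x).Coprime (p ^ (Nat.card G).factorization p) :=
        Nat.Coprime.pow_right _ hx
      exact h4.dvd_of_dvd_mul_left h3
  rw [h2] at h1
  exact Nat.le_of_dvd (Nat.card_pos_iff.mpr ⟨⟨⟨1, by simp⟩⟩, inferInstance⟩) h1

/-- Regular elements in the centraliser. -/
theorem card_reg_mul_card_le (A : Sylow p G) (R : Set G)
    (hR : ∀ x ∈ R, (orderOf x).Coprime p ∧ ∀ a ∈ (A : Subgroup G), a * x = x * a) :
    Nat.card R * Nat.card (A : Subgroup G) ≤ Nat.card (Subgroup.normalizer ((A : Subgroup G) : Set G)) := by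
  classical
  rw [← Nat.card_prod]
  have hmem : ∀ (x : R) (a : (A : Subgroup G)), x.1 * a.1 ∈ Subgroup.normalizer ((A : Subgroup G) : Set G) := by
    intro x a
    apply Subgroup.mul_mem
    · rw [Subgroup.mem_normalizer_iff]
      intro b
      have hx := (hR x.1 x.2).2
      constructor
      · intro hb
        have : x.1 * b * x.1⁻¹ = b := by
          rw [← hx b hb]; group
        rwa [this]
      · intro hb
        have h2 := hx _ hb
        have : x.1 * b * x.1⁻¹ * x.1 = x.1 * (x.1 * b * x.1⁻¹) := h2
        have h3 : b = x.1 * b * x.1⁻¹ := by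
          have h4 : x.1 * b = x.1 * (x.1 * b * x.1⁻¹) := by
            rw [← this]; group
          exact mul_left_cancel h4
        rwa [h3]
    · exact Subgroup.le_normalizer a.2
  refine Nat.card_le_card_of_injective (fun q => ⟨q.1.1 * q.2.1, hmem q.1 q.2⟩) ?_
  rintro ⟨x, a⟩ ⟨x', a'⟩ h
  have h1 : x.1 * a.1 = x'.1 * a'.1 := congrArg Subtype.val h
  have hpi : ∀ b : (A : Subgroup G), PiElt (fun q => q = p) b.1 := by
    intro b q hq hdvd
    obtain ⟨k, hk⟩ := IsPGroup.iff_orderOf.mp A.isPGroup' b
    rw [Subgroup.orderOf_coe, hk] at hdvd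
    exact (Nat.prime_dvd_prime_iff_eq hq hp.out).mp (hq.dvd_of_dvd_pow hdvd)
  have hpi' : ∀ y : R, PiElt (fun q => ¬ q = p) y.1 := by
    intro y q hq hdvd hqp
    have := (hR y.1 y.2).1
    subst hqp
    exact hq.one_lt.ne' (Nat.eq_one_of_dvd_coprimes this hdvd (dvd_refl _))
  have hc : ∀ (y : R) (b : (A : Subgroup G)), Commute b.1 y.1 := fun y b => (hR y.1 y.2).2 b.1 b.2
  have h2 : a.1 * x.1 = a'.1 * x'.1 := by
    rw [(hc x a).eq, (hc x' a').eq]; exact h1
  obtain ⟨h3, h4⟩ := decomp_unique (fun q => q = p) (hpi a) (hpi' x) (hc x a) (hpi a') (hpi' x')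
    (hc x' a') h2
  exact Prod.ext (Subtype.ext h4) (Subtype.ext h3)

theorem subsingleton_sylow
    (h : ∀ x : G, (orderOf x).Coprime p → ¬ p ∣ (ConjClasses.mk x).carrier.ncard) :
    Subsingleton (Sylow p G) := by
  classical
  have := Fintype.ofFinite G
  have := Fintype.ofFinite (Sylow p G)
  let P : Sylow p G := default
  set m := (P : Subgroup G).index with hm
  set n := Fintype.card (Sylow p G) with hn
  have hnpos : 0 < n := Fintype.card_pos
  let R : Sylow p G → Finset G := fun A => Finset.univ.filter
    (fun x : G => (orderOf x).Coprime p ∧ ∀ a ∈ (A : Subgroup G), a * x = x * a)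
  -- step 1
  have hR1 : ∀ A, (R A).card * n ≤ m := by
    intro A
    have h1 := card_reg_mul_card_le A (R A : Set G) (fun x hx => by
      simpa [R] using hx)
    have h2 : Nat.card (R A : Set G) = (R A).card := by simp
    rw [h2] at h1
    have h3 : n = (Subgroup.normalizer ((A : Subgroup G) : Set G)).index := by
      rw [hn, ← Nat.card_eq_fintype_card]; exact A.card_eq_index_normalizer
    have h4 : Nat.card (Subgroup.normalizer ((A : Subgroup G) : Set G)) * n = Nat.card G := by
      rw [h3]; exact Subgroup.card_mul_index _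
    have h5 : Nat.card (A : Subgroup G) = Nat.card (P : Subgroup G) := by
      rw [A.card_eq_multiplicity, P.card_eq_multiplicity]
    have h6 : Nat.card (P : Subgroup G) * m = Nat.card G := Subgroup.card_mul_index _
    have h7 : (R A).card * n * Nat.card (P : Subgroup G) ≤ m * Nat.card (P : Subgroup G) := by
      calc (R A).card * n * Nat.card (P : Subgroup G)
          = ((R A).card * Nat.card (A : Subgroup G)) * n := by rw [h5]; ring
        _ ≤ Nat.card (Subgroup.normalizer ((A : Subgroup G) : Set G)) * n := Nat.mul_le_mul_right _ h1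
        _ = m * Nat.card (P : Subgroup G) := by rw [h4, ← h6]; ring
    exact Nat.le_of_mul_le_mul_right h7 Nat.card_pos
  -- step 2
  have hsum1 : ∑ A, (R A).card ≤ m := by
    have : n * ∑ A, (R A).card ≤ n * m := by
      rw [Finset.mul_sum]
      calc ∑ A, n * (R A).card ≤ ∑ A : Sylow p G, m :=
            Finset.sum_le_sum fun A _ => by rw [mul_comm]; exact hR1 A
        _ = n * m := by simp [hn]
    exact Nat.le_of_mul_le_mul_left this hnpos
  -- step 3: double counting
  let g : G → ℕ := fun x => (Finset.univ.filter (fun A : Sylow p G => x ∈ R A)).card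
  have hsum2 : ∑ A, (R A).card = ∑ x, g x := by
    simp only [g, Finset.card_filter]
    rw [Finset.sum_comm]
    refine Finset.sum_congr rfl fun A _ => ?_
    rw [← Finset.card_filter]
    congr 1
    ext x
    simp
  let reg : Finset G := Finset.univ.filter (fun x : G => (orderOf x).Coprime p)
  have hg1 : ∀ x ∈ reg, 1 ≤ g x := by
    intro x hx
    have hx' : (orderOf x).Coprime p := by simpa [reg] using hx
    obtain ⟨A, hA⟩ := exists_sylow_commute x (h x hx')
    apply Finset.card_pos.mpr
    refine ⟨A, ?_⟩
    simp only [R, Finset.mem_filter, Finset.mem_univ, true_and]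
    exact ⟨hx', hA⟩
  have hg2 : g 1 = n := by
    simp only [g]
    rw [Finset.filter_true_of_mem, Finset.card_univ]
    intro A _
    simp [R]
  have h1mem : (1 : G) ∈ reg := by simp [reg]
  have hsum3 : n + (reg.card - 1) ≤ ∑ x, g x := by
    calc n + (reg.card - 1) = g 1 + ∑ x ∈ reg.erase 1, 1 := by
          rw [hg2]; simp [Finset.card_erase_of_mem h1mem]
      _ ≤ g 1 + ∑ x ∈ reg.erase 1, g x := by
          gcongr with x hx
          exact hg1 x (Finset.mem_of_mem_erase hx)
      _ = ∑ x ∈ reg, g x := by
          rw [Finset.add_sum_erase _ _ h1mem]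
      _ ≤ ∑ x, g x := Finset.sum_le_sum_of_subset (Finset.subset_univ _)
  have hreg : m ≤ reg.card := by
    have := regular_card P
    rw [Nat.card_eq_fintype_card, Fintype.card_subtype] at this
    exact this
  have hmpos : 0 < m := Nat.pos_of_ne_zero Subgroup.index_ne_zero_of_finite
  have hn1 : n ≤ 1 := by omega
  have : Nat.card (Sylow p G) ≤ 1 := by rw [Nat.card_eq_fintype_card]; exact hn1
  exact (Finite.card_le_one_iff_subsingleton).mp this

/-- Let G be a finite group and p a prime such that p divides the size of no conjugacy class of p-regular elements (elements of order prime to p). Then G is the internal direct product of a Sylow p-subgroup P and a normal subgroup H of order prime to p: P is normal, P ⊓ H = 1 and PH = G. -/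
theorem result {G : Type*} [Group G] [Finite G] {p : ℕ} [Fact p.Prime]
    (h : ∀ x : G, (orderOf x).Coprime p → ¬ p ∣ (ConjClasses.mk x).carrier.ncard) (P : Sylow p G) :
    (P : Subgroup G).Normal ∧ ∃ H : Subgroup G, H.Normal ∧ ¬ p ∣ Nat.card H ∧
      (P : Subgroup G) ⊓ H = ⊥ ∧ (P : Subgroup G) ⊔ H = ⊤ := by
  have hsub := subsingleton_sylow h
  have hnorm : (P : Subgroup G).Normal := Sylow.normal_of_subsingleton P
  refine ⟨hnorm, ?_⟩
  have hcop : (Nat.card (P : Subgroup G)).Coprime (P : Subgroup G).index := by
    rw [P.card_eq_multiplicity]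
    exact Nat.Coprime.pow_left _ ((Nat.Prime.coprime_iff_not_dvd (Fact.out)).mpr P.not_dvd_index)
  obtain ⟨H, hH⟩ := Subgroup.exists_right_complement'_of_coprime hcop
  have hcardH : Nat.card H = (P : Subgroup G).index := by
    have h1 := hH.card_mul_card
    have h2 := Subgroup.card_mul_index (P : Subgroup G)
    exact Nat.eq_of_mul_eq_mul_left Nat.card_pos (h1.trans h2.symm)
  have hH1 : ¬ p ∣ Nat.card H := by rw [hcardH]; exact P.not_dvd_index
  have hcomm : ∀ x ∈ H, ∀ a ∈ (P : Subgroup G), a * x = x * a := by
    intro x hx a ha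
    have h1 : (orderOf x).Coprime p := by
      rw [Nat.coprime_comm, (Fact.out : p.Prime).coprime_iff_not_dvd]
      intro h2
      apply hH1
      have h3 : orderOf (⟨x, hx⟩ : H) = orderOf x := Subgroup.orderOf_mk x hx
      exact h2.trans (h3 ▸ orderOf_dvd_natCard (⟨x, hx⟩ : H))
    obtain ⟨A, hA⟩ := exists_sylow_commute x (h x h1)
    have : A = P := Subsingleton.elim _ _
    subst this
    exact hA a ha
  refine ⟨H, ?_, hH1, hH.disjoint.eq_bot, hH.sup_eq_top⟩
  rw [← Subgroup.normalizer_eq_top_iff, eq_top_iff, ← hH.sup_eq_top, sup_le_iff]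
  refine ⟨?_, Subgroup.le_normalizer⟩
  intro a ha
  rw [Subgroup.mem_normalizer_iff]
  intro x
  constructor
  · intro hx
    have : a * x * a⁻¹ = x := by rw [hcomm x hx a ha]; group
    rwa [this]
  · intro hx
    have h2 := hcomm _ hx a ha
    have h3 : a * x * a⁻¹ = x := by
      have h4 : a * (a * x * a⁻¹) = a * x * a⁻¹ * a := h2
      have h5 : a * x * a⁻¹ * a = a * x := by group
      rw [h5] at h4
      exact mul_left_cancel h4
    rwa [h3] at hx

end Cfsg.Agent.S4035
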