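import Mathlib
import Cfsg.Statements.S4365
import Cfsg.Agent.Lib.CoprimeHyper
-- import your own Cfsg.Agent.* helpers here

set_option autoImplicit false
open Cfsg

namespace Cfsg.Agent.S4365


open Cfsg.Agent.Lib.CoprimeHyper

set_option linter.style.haveILetI false

/-- The rank two identity, in an abstract commutative group. -/
theorem rank_two_mem {V : Type*} [CommGroup V] (p : ℕ) [Fact p.Prime] (x y : MulAut V)
    (hxy : x * y = y * x) (hx : x ^ p = 1) (hy : y ^ p = 1) (Z : Subgroup V)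
    (h1 : ∀ c : MulAut V, (c = y ∨ ∃ i : ℕ, c = x * y ^ i) → ∀ v, normOf p c v ∈ Z) (v : V) :
    v ^ p ∈ Z := by
  have h2 := rank_two_identity hxy hx hy v
  have h3 : normOf p y v * ∏ i : ZMod p, normOf p (x * y ^ i.val) v ∈ Z := by
    apply Z.mul_mem (h1 y (Or.inl rfl) v)
    apply Subgroup.prod_mem
    intro i _
    exact h1 _ (Or.inr ⟨i.val, rfl⟩) v
  have h4 : normOf p x (normOf p y v) ∈ Z := h1 x (Or.inr ⟨0, by simp⟩) _
  rw [h2] at h3
  exact (Subgroup.mul_mem_cancel_right Z h4).1 h3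

section

variable {P : Type*} [Group P] [Finite P]

/-- The identity inside a group, for a commutative normal subgroup `W`. -/
theorem key_step (p : ℕ) [Fact p.Prime] (W : Subgroup P) [W.Normal] (hWc : ∀ u v : W, u * v = v * u)
    (Z : Subgroup P) (g h : P)
    (hpow : ∀ (e : P), ∀ u ∈ W, e ^ p * u = u * e ^ p)
    (hcomm : ∀ (e f : P), ∀ u ∈ W, (e * f) * u * (e * f)⁻¹ = (f * e) * u * (f * e)⁻¹)
    (hfix : ∀ e : P, (e = h ∨ ∃ i : ℕ, e = g * h ^ i) → ∀ w ∈ W, e * w * e⁻¹ = w → w ∈ Z)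
    (v : P) (hv : v ∈ W) : v ^ p ∈ Z := by
  letI cW : CommGroup W := { (inferInstance : Group W) with mul_comm := hWc }
  let conj : P →* MulAut W := MulAut.conjNormal
  have hconj : ∀ (e : P) (u : W), ((conj e u : W) : P) = e * u * e⁻¹ := fun e u =>
    MulAut.conjNormal_apply e u
  have hcp : ∀ e : P, conj e ^ p = 1 := by
    intro e
    rw [← map_pow]
    ext u
    rw [hconj, hpow e u u.2]
    simp
  have hxy : conj g * conj h = conj h * conj g := by
    rw [← map_mul, ← map_mul]
    ext u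
    rw [hconj, hconj]
    exact hcomm g h u u.2
  let ZW : Subgroup W := Z.subgroupOf W
  have h1 : ∀ c : MulAut W, (c = conj h ∨ ∃ i : ℕ, c = conj g * conj h ^ i) → ∀ u, normOf p c u ∈ ZW := by
    intro c hc u
    obtain ⟨e, he, rfl⟩ : ∃ e : P, (e = h ∨ ∃ i : ℕ, e = g * h ^ i) ∧ c = conj e := by
      rcases hc with rfl | ⟨i, rfl⟩
      · exact ⟨h, Or.inl rfl, rfl⟩
      · exact ⟨g * h ^ i, Or.inr ⟨i, rfl⟩, by rw [map_mul, map_pow]⟩
    have hfx := normOf_fixed (hcp e) u
    have h2 := congrArg (Subtype.val) hfx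
    rw [hconj] at h2
    exact hfix e he _ (normOf p (conj e) u).2 h2
  have h3 := rank_two_mem p (conj g) (conj h) hxy (hcp g) (hcp h) ZW h1 ⟨v, hv⟩
  exact h3

end

section

variable {P : Type*} [Group P] [Finite P]

/-- The commutator homomorphism of an element of the second center. -/
def phi (y : P) (hy : ∀ g : P, g * y * g⁻¹ * y⁻¹ ∈ Subgroup.center P) : P →* Subgroup.center P where
  toFun g := ⟨g * y * g⁻¹ * y⁻¹, hy g⟩
  map_one' := by ext; simp
  map_mul' g h := by
    ext
    have hc := Subgroup.mem_center_iff.1 (hy h)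
    show g * h * y * (g * h)⁻¹ * y⁻¹ = (g * y * g⁻¹ * y⁻¹) * (h * y * h⁻¹ * y⁻¹)
    set c := h * y * h⁻¹ * y⁻¹ with hcdef
    have e1 : h * y * h⁻¹ = c * y := by simp [hcdef]
    calc g * h * y * (g * h)⁻¹ * y⁻¹ = g * (h * y * h⁻¹) * g⁻¹ * y⁻¹ := by group
      _ = g * (c * y) * g⁻¹ * y⁻¹ := by rw [e1]
      _ = (g * c) * y * g⁻¹ * y⁻¹ := by group
      _ = (c * g) * y * g⁻¹ * y⁻¹ := by rw [hc g]
      _ = c * (g * y * g⁻¹ * y⁻¹) := by group
      _ = (g * y * g⁻¹ * y⁻¹) * c := (hc _).symm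

theorem phi_apply (y : P) (hy : ∀ g : P, g * y * g⁻¹ * y⁻¹ ∈ Subgroup.center P) (g : P) :
    ((phi y hy g : Subgroup.center P) : P) = g * y * g⁻¹ * y⁻¹ := rfl

theorem phi_eq_one_iff (y : P) (hy : ∀ g : P, g * y * g⁻¹ * y⁻¹ ∈ Subgroup.center P) (g : P) :
    ((phi y hy g : Subgroup.center P) : P) = 1 ↔ g * y = y * g := by
  rw [phi_apply]
  constructor
  · intro h
    have h1 : g * y * g⁻¹ = y := by
      have := mul_inv_eq_one.1 h
      exact this
    calc g * y = g * y * g⁻¹ * g := by group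
      _ = y * g := by rw [h1]
  · intro h
    rw [h]
    group

theorem conj_formula (y : P) (hy : ∀ g : P, g * y * g⁻¹ * y⁻¹ ∈ Subgroup.center P) (g : P) (k : ℕ) :
    g * y ^ k * g⁻¹ = ((phi y hy g : Subgroup.center P) : P) ^ k * y ^ k := by
  have h1 : g * y * g⁻¹ = ((phi y hy g : Subgroup.center P) : P) * y := by
    rw [phi_apply]
    group
  rw [← conj_pow, h1]
  have hc : Commute ((phi y hy g : Subgroup.center P) : P) y :=
    ((Subgroup.mem_center_iff.1 (phi y hy g).2 y).symm)
  exact hc.mul_pow k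

theorem C_pow_le (x : P) (k : ℕ) :
    Subgroup.centralizer ({x} : Set P) ≤ Subgroup.centralizer ({x ^ k} : Set P) := by
  intro g hg
  rw [Subgroup.mem_centralizer_singleton_iff] at hg ⊢
  have : Commute g x := hg
  exact (this.pow_right k).eq

theorem not_central {x : P} (hx : x ∉ Subgroup.center P) : ∃ g : P, g * x ≠ x * g := by
  by_contra hcon
  push Not at hcon
  exact hx (Subgroup.mem_center_iff.2 hcon)

variable {p a : ℕ} (hNZ : ∀ x : P, x ∉ Subgroup.center P →
  (Subgroup.centralizer ({x} : Set P)).index = p ^ a)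

include hNZ in
theorem cen_eq {x y : P} (hx : x ∉ Subgroup.center P) (hy : y ∉ Subgroup.center P)
    (h : Subgroup.centralizer ({x} : Set P) ≤ Subgroup.centralizer ({y} : Set P)) :
    Subgroup.centralizer ({x} : Set P) = Subgroup.centralizer ({y} : Set P) := by
  apply Subgroup.eq_of_le_of_card_ge h
  have h1 := Subgroup.card_mul_index (Subgroup.centralizer ({x} : Set P))
  have h2 := Subgroup.card_mul_index (Subgroup.centralizer ({y} : Set P))
  rw [hNZ x hx] at h1
  rw [hNZ y hy] at h2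
  have h3 : 0 < p ^ a := by
    have := Subgroup.index_ne_zero_of_finite (H := Subgroup.centralizer ({x} : Set P))
    rw [hNZ x hx] at this
    exact Nat.pos_of_ne_zero this
  exact (Nat.eq_of_mul_eq_mul_right h3 (h2.trans h1.symm)).le

include hNZ in
theorem y_pow [Fact p.Prime] (hP : IsPGroup p P) (y : P) (hy : ∀ g : P, g * y * g⁻¹ * y⁻¹ ∈ Subgroup.center P)
    (hy0 : y ∉ Subgroup.center P) : y ^ p ∈ Subgroup.center P := by
  by_contra hyp
  have hC := cen_eq hNZ hy0 hyp (C_pow_le y p)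
  obtain ⟨g, hg⟩ := not_central hy0
  have hc1 : ((phi y hy g : Subgroup.center P) : P) ≠ 1 := fun h => hg ((phi_eq_one_iff y hy g).1 h)
  obtain ⟨n, hn⟩ := (IsPGroup.iff_orderOf.1 hP) ((phi y hy g : Subgroup.center P) : P)
  have hn0 : n ≠ 0 := by
    rintro rfl
    rw [pow_zero, orderOf_eq_one_iff] at hn
    exact hc1 hn
  have hpp : 1 < p := (Fact.out : p.Prime).one_lt
  have hlt : p ^ (n - 1) < p ^ n := Nat.pow_lt_pow_right hpp (by omega)
  have hne : ((phi y hy g : Subgroup.center P) : P) ^ (p ^ (n - 1)) ≠ 1 :=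
    pow_ne_one_of_lt_orderOf (by positivity) (by rw [hn]; exact hlt)
  have hpw2 : (((phi y hy g : Subgroup.center P) : P) ^ (p ^ (n - 1))) ^ p = 1 := by
    rw [← pow_mul, ← pow_succ, Nat.sub_add_cancel (by omega), ← hn]
    exact pow_orderOf_eq_one _
  let g' := g ^ (p ^ (n - 1))
  have hg' : ((phi y hy g' : Subgroup.center P) : P) = ((phi y hy g : Subgroup.center P) : P) ^ (p ^ (n - 1)) := by
    simp only [g', map_pow]
    rfl
  have h1 := conj_formula y hy g' p
  rw [hg', hpw2, one_mul] at h1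
  have h2 : g' ∈ Subgroup.centralizer ({y ^ p} : Set P) := by
    rw [Subgroup.mem_centralizer_singleton_iff]
    calc g' * y ^ p = g' * y ^ p * g'⁻¹ * g' := by group
      _ = y ^ p * g' := by rw [h1]
  rw [← hC, Subgroup.mem_centralizer_singleton_iff] at h2
  have h3 := (phi_eq_one_iff y hy g').2 h2
  rw [hg'] at h3
  exact hne h3

theorem pow_mem_C (p : ℕ) (y : P) (hy : ∀ g : P, g * y * g⁻¹ * y⁻¹ ∈ Subgroup.center P)
    (hyp : y ^ p ∈ Subgroup.center P) (g : P) : g ^ p * y = y * g ^ p := by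
  have h1 := conj_formula y hy g p
  have h2 : g * y ^ p * g⁻¹ = y ^ p := by
    rw [Subgroup.mem_center_iff.1 hyp g]
    group
  rw [h2] at h1
  have h3 : ((phi y hy g : Subgroup.center P) : P) ^ p = 1 := by
    have : y ^ p = 1 * y ^ p := by rw [one_mul]
    rw [this] at h1
    rw [one_mul] at h1
    exact (mul_eq_right.1 h1.symm)
  apply (phi_eq_one_iff y hy (g ^ p)).1
  rw [map_pow]
  exact h3

include hNZ in
theorem x_cen [Fact p.Prime] (hP : IsPGroup p P) (x y : P) (hx : x ^ p ∉ Subgroup.center P)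
    (hy : ∀ g : P, g * y * g⁻¹ * y⁻¹ ∈ Subgroup.center P) (hy0 : y ∉ Subgroup.center P) :
    Subgroup.centralizer ({x} : Set P) = Subgroup.centralizer ({y} : Set P) := by
  have hx0 : x ∉ Subgroup.center P := fun h => hx (Subgroup.pow_mem _ h p)
  have hCx := cen_eq hNZ hx0 hx (C_pow_le x p)
  have hyp := y_pow hNZ hP y hy hy0
  have h1 := pow_mem_C p y hy hyp x
  have hyx : y ∈ Subgroup.centralizer ({x} : Set P) := by
    rw [hCx, Subgroup.mem_centralizer_singleton_iff]
    exact h1.symm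
  rw [Subgroup.mem_centralizer_singleton_iff] at hyx
  have hcomm : Commute x y := hyx.symm
  have hxy : (x * y) ^ p = x ^ p * y ^ p := hcomm.mul_pow p
  have hxyp : (x * y) ^ p ∉ Subgroup.center P := by
    rw [hxy]
    intro h
    exact hx ((Subgroup.mul_mem_cancel_right _ hyp).1 h)
  have hxy0 : x * y ∉ Subgroup.center P := fun h => hxyp (Subgroup.pow_mem _ h p)
  have hCxy := cen_eq hNZ hxy0 hxyp (C_pow_le (x * y) p)
  have hCC : Subgroup.centralizer ({(x * y) ^ p} : Set P) = Subgroup.centralizer ({x ^ p} : Set P) := by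
    ext g
    rw [Subgroup.mem_centralizer_singleton_iff, Subgroup.mem_centralizer_singleton_iff, hxy]
    have hz := Subgroup.mem_center_iff.1 hyp g
    constructor
    · intro h
      have h2 : g * x ^ p * y ^ p = x ^ p * g * y ^ p := by
        calc g * x ^ p * y ^ p = g * (x ^ p * y ^ p) := mul_assoc _ _ _
          _ = x ^ p * y ^ p * g := h
          _ = x ^ p * (y ^ p * g) := mul_assoc _ _ _
          _ = x ^ p * (g * y ^ p) := by rw [hz]
          _ = x ^ p * g * y ^ p := (mul_assoc _ _ _).symm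
      exact mul_right_cancel h2
    · intro h
      calc g * (x ^ p * y ^ p) = g * x ^ p * y ^ p := (mul_assoc _ _ _).symm
        _ = x ^ p * g * y ^ p := by rw [h]
        _ = x ^ p * (g * y ^ p) := mul_assoc _ _ _
        _ = x ^ p * (y ^ p * g) := by rw [hz]
        _ = x ^ p * y ^ p * g := (mul_assoc _ _ _).symm
  apply cen_eq hNZ hx0 hy0
  intro g hg
  have hg1 : g * x = x * g := Subgroup.mem_centralizer_singleton_iff.1 hg
  have hg2 : g ∈ Subgroup.centralizer ({x * y} : Set P) := by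
    rw [hCxy, hCC, ← hCx]
    exact hg
  rw [Subgroup.mem_centralizer_singleton_iff] at hg2 ⊢
  have h3 : x * (g * y) = x * (y * g) := by
    calc x * (g * y) = (x * g) * y := (mul_assoc _ _ _).symm
      _ = (g * x) * y := by rw [hg1]
      _ = g * (x * y) := mul_assoc _ _ _
      _ = x * y * g := hg2
      _ = x * (y * g) := mul_assoc _ _ _
  exact mul_left_cancel h3

end


/-- Let P be a finite p-group whose conjugacy class sizes are exactly 1 and pᵃ for some a ≥ 1. Then every element of P has its p-th power in the center of P (P/Z(P) has exponent p). -/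
theorem result {P : Type*} [Group P] [Finite P] (p : ℕ) [Fact p.Prime]
    (hP : IsPGroup p P) (a : ℕ) (ha : 1 ≤ a)
    (hcs : {k : ℕ | ∃ x : P, (Subgroup.centralizer ({x} : Set P)).index = k} = {1, p ^ a}) (x : P) :
    x ^ p ∈ Subgroup.center P := by
  classical
  by_contra hx
  have hI : ∀ y : P, (Subgroup.centralizer ({y} : Set P)).index = 1 ∨
      (Subgroup.centralizer ({y} : Set P)).index = p ^ a := by
    intro y
    have : (Subgroup.centralizer ({y} : Set P)).index ∈ ({1, p ^ a} : Set ℕ) := by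
      rw [← hcs]
      exact ⟨y, rfl⟩
    exact this
  have hpp : 1 < p := (Fact.out : p.Prime).one_lt
  have hcen1 : ∀ y : P, (Subgroup.centralizer ({y} : Set P)).index = 1 → y ∈ Subgroup.center P := by
    intro y hy
    rw [Subgroup.index_eq_one] at hy
    rw [Subgroup.mem_center_iff]
    intro g
    have : g ∈ Subgroup.centralizer ({y} : Set P) := by rw [hy]; trivial
    exact Subgroup.mem_centralizer_singleton_iff.1 this
  have hNZ : ∀ y : P, y ∉ Subgroup.center P →
      (Subgroup.centralizer ({y} : Set P)).index = p ^ a := by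
    intro y hy
    rcases hI y with h | h
    · exact absurd (hcen1 y h) hy
    · exact h
  -- the group is not abelian, find an element of the second center
  have hx0 : x ∉ Subgroup.center P := fun h => hx (Subgroup.pow_mem _ h p)
  haveI hnt : Nontrivial (P ⧸ Subgroup.center P) := by
    refine ⟨⟨(x : P ⧸ Subgroup.center P), 1, ?_⟩⟩
    rw [Ne, QuotientGroup.eq_one_iff]
    exact hx0
  have hPq : IsPGroup p (P ⧸ Subgroup.center P) := hP.to_quotient _
  haveI hcq := hPq.center_nontrivial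
  obtain ⟨⟨c, hc⟩, hc1⟩ := exists_ne (1 : Subgroup.center (P ⧸ Subgroup.center P))
  obtain ⟨y₀, rfl⟩ := QuotientGroup.mk_surjective c
  have hy₀ : y₀ ∉ Subgroup.center P := by
    intro h
    apply hc1
    apply Subtype.ext
    exact (QuotientGroup.eq_one_iff y₀).2 h
  have hy : ∀ g : P, g * y₀ * g⁻¹ * y₀⁻¹ ∈ Subgroup.center P := by
    intro g
    have h1 := Subgroup.mem_center_iff.1 hc (g : P ⧸ Subgroup.center P)
    rw [← QuotientGroup.eq_one_iff]
    have h2 : ((g * y₀ : P) : P ⧸ Subgroup.center P) = ((y₀ * g : P) : P ⧸ Subgroup.center P) := h1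
    simp only [QuotientGroup.mk_mul, QuotientGroup.mk_inv] at h2 ⊢
    rw [h2]
    group
  have hA := x_cen hNZ hP x y₀ hx hy hy₀
  set A : Subgroup P := Subgroup.centralizer ({y₀} : Set P) with hAdef
  have hAk : A = (phi y₀ hy).ker := by
    ext g
    rw [MonoidHom.mem_ker, hAdef, Subgroup.mem_centralizer_singleton_iff, ← phi_eq_one_iff y₀ hy g]
    exact ⟨fun h => Subtype.ext h, fun h => congrArg Subtype.val h⟩
  haveI hAn : A.Normal := by rw [hAk]; infer_instance
  -- commutators lie in `A`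
  have hcommA : ∀ e f : P, (e * f) * (f * e)⁻¹ ∈ A := by
    intro e f
    rw [hAk, MonoidHom.mem_ker, map_mul, map_inv, mul_inv_eq_one, map_mul, map_mul]
    apply Subtype.ext
    exact Subgroup.mem_center_iff.1 (phi y₀ hy f).2 (phi y₀ hy e : P)
  have hpowA : ∀ e : P, e ^ p ∈ A := by
    intro e
    rw [hAdef, Subgroup.mem_centralizer_singleton_iff]
    exact pow_mem_C p y₀ hy (y_pow hNZ hP y₀ hy hy₀) e
  -- the center of `A`
  let W : Subgroup P := A ⊓ Subgroup.centralizer (A : Set P)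
  have hWm : ∀ u, u ∈ W ↔ u ∈ A ∧ ∀ b ∈ A, b * u = u * b := by
    intro u
    show (u ∈ A ∧ u ∈ Subgroup.centralizer (A : Set P)) ↔ _
    rw [Subgroup.mem_centralizer_iff]
    rfl
  haveI hWn : W.Normal := by
    refine ⟨fun u hu g => ?_⟩
    rw [hWm] at hu ⊢
    refine ⟨hAn.conj_mem u hu.1 g, fun b hb => ?_⟩
    have h1 := hu.2 _ (hAn.conj_mem b hb g⁻¹)
    simp only [inv_inv] at h1
    calc b * (g * u * g⁻¹) = g * (g⁻¹ * b * g * u) * g⁻¹ := by group
      _ = g * (u * (g⁻¹ * b * g)) * g⁻¹ := by rw [h1]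
      _ = g * u * g⁻¹ * b := by group
  have hWc : ∀ u v : W, u * v = v * u := by
    rintro ⟨u, hu⟩ ⟨v, hv⟩
    apply Subtype.ext
    have hu' := (hWm u).1 hu
    have hv' := (hWm v).1 hv
    exact hv'.2 u hu'.1
  have htW : x ∈ W := by
    rw [hWm]
    have h1 : x ∈ A := by
      rw [← hA, Subgroup.mem_centralizer_singleton_iff]
    refine ⟨h1, fun b hb => ?_⟩
    rw [← hA] at hb
    exact Subgroup.mem_centralizer_singleton_iff.1 hb
  -- elements of `W` commuting with an element outside `A` are central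
  have hW1 : ∀ u ∈ W, ∀ g : P, g ∉ A → g * u = u * g → u ∈ Subgroup.center P := by
    intro u hu g hg hgu
    by_contra huz
    have hle : A ≤ Subgroup.centralizer ({u} : Set P) := by
      intro b hb
      rw [Subgroup.mem_centralizer_singleton_iff]
      exact ((hWm u).1 hu).2 b hb
    have h1 := cen_eq hNZ hy₀ huz hle
    apply hg
    rw [hAdef, h1, Subgroup.mem_centralizer_singleton_iff]
    exact hgu
  have hfix : ∀ e : P, e ∉ A → ∀ w ∈ W, e * w * e⁻¹ = w → w ∈ Subgroup.center P := by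
    intro e he w hw h
    apply hW1 w hw e he
    calc e * w = e * w * e⁻¹ * e := by group
      _ = w * e := by rw [h]
  have hpow : ∀ (e : P), ∀ u ∈ W, e ^ p * u = u * e ^ p := fun e u hu => ((hWm u).1 hu).2 _ (hpowA e)
  have hcomm : ∀ (e f : P), ∀ u ∈ W, (e * f) * u * (e * f)⁻¹ = (f * e) * u * (f * e)⁻¹ := by
    intro e f u hu
    have h1 := hWn.conj_mem u hu (f * e)
    have h2 := ((hWm _).1 h1).2 _ (hcommA e f)
    have h3 : e * f = ((e * f) * (f * e)⁻¹) * (f * e) := by group
    conv_lhs => rw [h3]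
    calc ((e * f) * (f * e)⁻¹) * (f * e) * u * (((e * f) * (f * e)⁻¹) * (f * e))⁻¹
        = ((e * f) * (f * e)⁻¹) * ((f * e) * u * (f * e)⁻¹) * ((e * f) * (f * e)⁻¹)⁻¹ := by group
      _ = (f * e) * u * (f * e)⁻¹ * ((e * f) * (f * e)⁻¹) * ((e * f) * (f * e)⁻¹)⁻¹ := by rw [h2]
      _ = (f * e) * u * (f * e)⁻¹ := by group
  by_cases hdich : ∃ g h : P, h ∉ A ∧ ∀ i : ℕ, g * h ^ i ∉ A
  · obtain ⟨g, h, hh, hgh⟩ := hdich
    exact hx (key_step p W hWc (Subgroup.center P) g h hpow hcomm (by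
      rintro e (rfl | ⟨i, rfl⟩) w hw hew
      · exact hfix _ hh w hw hew
      · exact hfix _ (hgh i) w hw hew) x htW)
  push Not at hdich
  -- the index of `A` is `p`
  obtain ⟨h, hh⟩ : ∃ h : P, h ∉ A := by
    obtain ⟨g, hg⟩ := not_central hy₀
    exact ⟨g, fun hh => hg (Subgroup.mem_centralizer_singleton_iff.1 hh)⟩
  have hgen : ∀ q : P ⧸ A, q ∈ Subgroup.zpowers (h : P ⧸ A) := by
    intro q
    obtain ⟨g, rfl⟩ := QuotientGroup.mk_surjective q
    obtain ⟨i, hi⟩ := hdich g h hh
    refine ⟨-(i : ℤ), ?_⟩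
    have h1 : ((g * h ^ i : P) : P ⧸ A) = 1 := (QuotientGroup.eq_one_iff _).2 hi
    rw [QuotientGroup.mk_mul, QuotientGroup.mk_pow] at h1
    simp only [zpow_neg, zpow_natCast]
    exact (eq_inv_of_mul_eq_one_left h1).symm
  have hcard : orderOf (h : P ⧸ A) = A.index := by
    rw [orderOf_eq_card_of_forall_mem_zpowers hgen]
    rfl
  have hdvd : A.index ∣ p := by
    rw [← hcard]
    apply orderOf_dvd_of_pow_eq_one
    rw [← QuotientGroup.mk_pow]
    exact (QuotientGroup.eq_one_iff _).2 (hpowA h)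
  have hAi : A.index = p ^ a := hNZ y₀ hy₀
  rw [hAi] at hdvd
  have ha1 : a = 1 := by
    have := (Nat.pow_dvd_pow_iff_le_right hpp).1 (by simpa using hdvd : p ^ a ∣ p ^ 1)
    omega
  subst ha1
  rw [pow_one] at hAi hNZ
  have hh0 : h ∉ Subgroup.center P := by
    intro hz
    apply hh
    rw [hAdef, Subgroup.mem_centralizer_singleton_iff]
    exact (Subgroup.mem_center_iff.1 hz y₀).symm
  have hCi := hNZ h hh0
  have hminFac : (Nat.card P).minFac = p := by
    obtain ⟨n, hn⟩ := IsPGroup.iff_card.1 hP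
    have hn0 : n ≠ 0 := by
      rintro rfl
      have : Subsingleton P := (Nat.card_eq_one_iff_unique.1 (by simpa using hn)).1
      exact hx0 (Subgroup.mem_center_iff.2 fun g => Subsingleton.elim _ _)
    rw [hn, Nat.Prime.pow_minFac (Fact.out) hn0]
  haveI hCn : (Subgroup.centralizer ({h} : Set P)).Normal :=
    Subgroup.normal_of_index_eq_minFac_card (by rw [hCi, hminFac])
  have h1 := Subgroup.pow_index_mem (Subgroup.centralizer ({h} : Set P)) x
  rw [hCi] at h1
  have h2 := Subgroup.mem_centralizer_singleton_iff.1 h1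
  exact hx (hW1 _ (W.pow_mem htW p) h hh h2.symm)

end Cfsg.Agent.S4365
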