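import Mathlib
import Cfsg.Statements.S4134
import Cfsg.Agent.S4365
import Cfsg.Agent.Lib.ItoTwo

set_option autoImplicit false
set_option linter.style.haveILetI false
open Cfsg

namespace Cfsg.Agent.S4134

open Subgroup Cfsg.Agent.Lib.ItoTwo

/-- Let G be a finite group whose conjugacy classes have exactly two sizes, 1 and n > 1. Then n is a power of a prime p and G is the direct product of a p-group and an abelian group of order prime to p: its Sylow p-subgroup P is normal with an abelian normal complement centralizing it; moreover P has an abelian normal subgroup A with P/A of exponent dividing p. -/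
theorem result {G : Type*} [Group G] [Finite G] (n : ℕ) (hn : 1 < n)
    (h : ∀ x : G, (Subgroup.centralizer ({x} : Set G)).index = 1 ∨ (Subgroup.centralizer ({x} : Set G)).index = n) (hex : ∃ x : G, (Subgroup.centralizer ({x} : Set G)).index = n) :
    ∃ (p : ℕ) (_ : Fact p.Prime) (a : ℕ), n = p ^ a ∧ ∀ P : Sylow p G, (P : Subgroup G).Normal ∧
      (∃ N : Subgroup G, N.Normal ∧ N.IsComplement' (P : Subgroup G) ∧ IsMulCommutative N ∧
        ∀ x ∈ N, ∀ y ∈ (P : Subgroup G), x * y = y * x) ∧
      ∃ A : Subgroup (P : Subgroup G), A.Normal ∧ IsMulCommutative A ∧ ∀ y : (P : Subgroup G), y ^ p ∈ A := by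
  classical
  obtain ⟨x₀, hx₀⟩ := hex
  have hx₀z : x₀ ∉ center G := by
    intro hz
    rw [index_cen_eq_one_iff.2 hz] at hx₀
    omega
  have hidx : (center G).index ≠ 1 := by
    intro h1
    rw [index_eq_one] at h1
    exact hx₀z (by rw [h1]; trivial)
  -- the prime
  have hpp := Nat.minFac_prime hidx
  set p := Nat.minFac (center G).index with hp
  haveI hfp : Fact p.Prime := ⟨hpp⟩
  have hnoncen : ∀ P : Sylow p G, ¬ (P : Subgroup G) ≤ center G := by
    intro P hle
    exact P.not_dvd_index ((Nat.minFac_dvd _).trans (index_dvd_of_le hle))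
  -- other Sylow subgroups are central
  have hother : ∀ q : ℕ, q.Prime → q ∣ (center G).index → q = p := by
    intro q hq hd
    by_contra hne
    haveI : Fact q.Prime := ⟨hq⟩
    let Q : Sylow q G := default
    have hQ := sylow_central_of_ne h hn (Ne.symm hne) (default : Sylow p G) Q (hnoncen _)
    exact Q.not_dvd_index (hd.trans (index_dvd_of_le hQ))
  have hindex : ∃ k, (center G).index = p ^ k := by
    by_cases h1 : (center G).index = 0
    · exact absurd h1 index_ne_zero_of_finite
    · exact ⟨_, Nat.eq_prime_pow_of_unique_prime_dvd h1 (fun {q} hq hd => hother q hq hd)⟩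
  obtain ⟨k, hk⟩ := hindex
  have hnd : n ∣ p ^ k := by
    rw [← hk, ← hx₀]
    exact index_dvd_of_le (center_le_cen x₀)
  obtain ⟨a, -, ha⟩ := (Nat.dvd_prime_pow hpp).1 hnd
  refine ⟨p, hfp, a, ha, fun P => ?_⟩
  have ha1 : 1 ≤ a := by
    by_contra hh
    have : a = 0 := by omega
    rw [this, pow_zero] at ha
    omega
  -- `G = P Z`
  have hsup : (P : Subgroup G) ⊔ center G = ⊤ := by
    rw [← index_eq_one]
    have h1 : ((P : Subgroup G) ⊔ center G).index ∣ (P : Subgroup G).index := index_dvd_of_le le_sup_left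
    have h2 : ((P : Subgroup G) ⊔ center G).index ∣ p ^ k := by
      rw [← hk]
      exact index_dvd_of_le le_sup_right
    obtain ⟨j, -, hj⟩ := (Nat.dvd_prime_pow hpp).1 h2
    rw [hj] at h1 ⊢
    by_contra hne
    have hj0 : j ≠ 0 := by
      rintro rfl
      exact hne (pow_zero p)
    exact P.not_dvd_index ((dvd_pow_self p hj0).trans h1)
  have hdec : ∀ g : G, ∃ u ∈ (P : Subgroup G), ∃ z ∈ center G, u * z = g := by
    intro g
    have : g ∈ (((P : Subgroup G) ⊔ center G : Subgroup G) : Set G) := by rw [hsup]; trivial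
    rw [mul_normal] at this
    obtain ⟨u, hu, z, hz, e⟩ := Set.mem_mul.1 this
    exact ⟨u, hu, z, hz, e⟩
  have hconj : ∀ (g : G) (x : G), ∃ u ∈ (P : Subgroup G), g * x * g⁻¹ = u * x * u⁻¹ := by
    intro g x
    obtain ⟨u, hu, z, hz, rfl⟩ := hdec g
    refine ⟨u, hu, ?_⟩
    have h1 : x * z = z * x := (mem_center_iff.1 hz) x
    calc u * z * x * (u * z)⁻¹ = u * (z * x) * z⁻¹ * u⁻¹ := by group
      _ = u * (x * z) * z⁻¹ * u⁻¹ := by rw [h1]
      _ = u * x * u⁻¹ := by group
  have hnorm : (P : Subgroup G).Normal := by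
    constructor
    intro x hx g
    obtain ⟨u, hu, e⟩ := hconj g x
    rw [e]
    exact mul_mem (mul_mem hu hx) (inv_mem hu)
  refine ⟨hnorm, ?_, ?_⟩
  · -- the complement
    let N : Subgroup G :=
      { carrier := {z | z ∈ center G ∧ (orderOf z).Coprime p}
        one_mem' := ⟨one_mem _, by simp⟩
        mul_mem' := by
          rintro u v ⟨hu, hu'⟩ ⟨hv, hv'⟩
          refine ⟨mul_mem hu hv, ?_⟩
          have hc : Commute u v := (mem_center_iff.1 hv) u
          have h1 : orderOf (u * v) ∣ orderOf u * orderOf v := hc.orderOf_mul_dvd_mul_orderOf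
          exact Nat.Coprime.coprime_dvd_left h1 (Nat.Coprime.mul_left hu' hv')
        inv_mem' := by
          rintro u ⟨hu, hu'⟩
          exact ⟨inv_mem hu, by rwa [orderOf_inv]⟩ }
    have hNmem : ∀ z, z ∈ N ↔ z ∈ center G ∧ (orderOf z).Coprime p := fun z => Iff.rfl
    have hNc : N ≤ center G := fun z hz => ((hNmem z).1 hz).1
    refine ⟨N, ?_, ?_, ?_, ?_⟩
    · constructor
      intro z hz g
      have hz' := (hNc hz)
      have h1 : g * z = z * g := ((mem_center_iff.1 hz') g)
      rw [h1]
      simpa using hz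
    · apply IsComplement'.symm
      apply isComplement'_of_disjoint_and_mul_eq_univ
      · rw [disjoint_iff, eq_bot_iff]
        rintro x ⟨hx1, hx2⟩
        rw [mem_bot]
        have hx3 : (orderOf x).Coprime p := ((hNmem x).1 hx2).2
        obtain ⟨j, hj⟩ := IsPGroup.iff_orderOf.1 P.isPGroup' ⟨x, hx1⟩
        have hj' : orderOf x = p ^ j := by
          rw [← hj]
          exact (Subgroup.orderOf_mk x hx1).symm
        rw [hj'] at hx3
        have h1 : j = 0 := by
          by_contra hne
          have := Nat.Coprime.eq_one_of_dvd (Nat.Coprime.symm hx3) (dvd_pow_self p hne)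
          exact hpp.one_lt.ne' this
        rw [h1, pow_zero, orderOf_eq_one_iff] at hj'
        exact hj'
      · ext g
        simp only [Set.mem_univ, iff_true]
        obtain ⟨u, hu, z, hz, rfl⟩ := hdec g
        obtain ⟨z₁, z₂, h12, -, hp1, hc2, hm1, hm2⟩ := exists_primary_split hpp z
        have hz₁ : z₁ ∈ center G := (zpowers_le.2 hz) hm1
        have hz₂ : z₂ ∈ center G := (zpowers_le.2 hz) hm2
        -- `z₁` lies in `P`
        have hz₁P : z₁ ∈ (P : Subgroup G) := by
          have hzp : IsPGroup p (zpowers z₁) := by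
            obtain ⟨j, hj⟩ := hp1
            rw [IsPGroup.iff_orderOf]
            rintro ⟨x, hx⟩
            obtain ⟨i, rfl⟩ := mem_zpowers_iff.1 hx
            have h1 : ((z₁ ^ i) ^ (p ^ j)) = 1 := by
              rw [← zpow_natCast, ← zpow_mul, mul_comm, zpow_mul, zpow_natCast, hj, one_zpow]
            have h2 : orderOf (⟨z₁ ^ i, hx⟩ : zpowers z₁) ∣ p ^ j := by
              apply orderOf_dvd_of_pow_eq_one
              exact Subtype.ext h1
            obtain ⟨e, -, he⟩ := (Nat.dvd_prime_pow hpp).1 h2
            exact ⟨e, he⟩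
          obtain ⟨Q, hQ⟩ := hzp.exists_le_sylow
          obtain ⟨g₀, hg₀⟩ := MulAction.exists_smul_eq G Q P
          rw [← hg₀, mem_smul_sylow_iff]
          have h3 : g₀⁻¹ * z₁ * g₀ = z₁ := by
            have : g₀⁻¹ * z₁ = z₁ * g₀⁻¹ := (mem_center_iff.1 hz₁) _
            rw [this]
            group
          rw [h3]
          exact hQ (mem_zpowers z₁)
        refine Set.mem_mul.2 ⟨u * z₁, mul_mem hu hz₁P, z₂, (hNmem z₂).2 ⟨hz₂, hc2⟩, ?_⟩
        rw [h12]
        group
    · refine ⟨⟨fun x y => Subtype.ext ?_⟩⟩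
      exact (mem_center_iff.1 (hNc x.2)) (y : G) |>.symm
    · intro x hx y _
      exact ((mem_center_iff.1 (hNc hx)) y).symm
  · -- the abelian subgroup
    refine ⟨center (P : Subgroup G), inferInstance, inferInstance, fun y => ?_⟩
    -- class sizes in `P`
    have hidxP : ∀ x : (P : Subgroup G),
        (centralizer ({x} : Set (P : Subgroup G))).index = (cen (x : G)).index := by
      intro x
      rw [← ncard_class (x : G)]
      have h1 := ncard_class (G := (P : Subgroup G)) x
      unfold cen at h1
      rw [← h1]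
      rw [← Set.ncard_image_of_injective _ (Subtype.val_injective (p := fun g => g ∈ (P : Subgroup G)))]
      congr 1
      ext z
      constructor
      · rintro ⟨_, ⟨g, rfl⟩, rfl⟩
        exact ⟨g, rfl⟩
      · rintro ⟨g, rfl⟩
        obtain ⟨u, hu, e⟩ := hconj g x
        exact ⟨⟨u, hu⟩ * x * (⟨u, hu⟩ : (P : Subgroup G))⁻¹, ⟨_, rfl⟩, e.symm⟩
    obtain ⟨w, hwP, hwz⟩ := SetLike.not_le_iff_exists.1 (hnoncen P)
    refine Cfsg.Agent.S4365.result p P.isPGroup' a ha1 ?_ y
    ext m
    constructor
    · rintro ⟨x, rfl⟩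
      rw [hidxP]
      rcases h (x : G) with h1 | h1
      · left
        exact h1
      · right
        rw [ha] at h1
        exact h1
    · rintro (rfl | hm)
      · refine ⟨1, ?_⟩
        rw [hidxP]
        exact index_cen_eq_one_iff.2 (one_mem _)
      · refine ⟨⟨w, hwP⟩, ?_⟩
        rw [hidxP]
        have hm' : m = p ^ a := hm
        rw [hm', ← ha]
        exact index_of_not_center h hwz

end Cfsg.Agent.S4134
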