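import Mathlib
import Cfsg.Statements.S3789
import Cfsg.Agent.Lib.HHB4
import Cfsg.Agent.Lib.FrattAct
import Cfsg.Agent.Lib.PLengthSeries
import Cfsg.Agent.Lib.BrolineGT

set_option autoImplicit false
set_option linter.unusedSectionVars false
set_option linter.unusedVariables false
set_option linter.style.haveILetI false
open Cfsg

namespace Cfsg.Agent.S3789

open Cfsg.Agent.Lib.PCore Cfsg.Agent.Lib.PSolv Cfsg.Agent.Lib.FrattAct Cfsg.Agent.Lib.HHB4
open Cfsg.Agent.Lib.PLengthSeries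
open scoped commutatorElement

universe u

theorem exists_central_order_p {X : Type*} [Group X] [Finite X] {p : ℕ} [hp : Fact p.Prime]
    (hX : IsPGroup p X) (N : Subgroup X) [N.Normal] (hne : N ≠ ⊥) :
    ∃ z ∈ N, z ∈ Subgroup.center X ∧ z ≠ 1 ∧ z ^ p = 1 := by
  have : Group.IsNilpotent X := hX.isNilpotent
  have h1 := Cfsg.Agent.Lib.BrolineGT.inf_center_ne_bot N hne
  set I := N ⊓ Subgroup.center X with hI
  have hIp : IsPGroup p I := hX.to_subgroup I
  obtain ⟨e, he⟩ := IsPGroup.iff_card.mp hIp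
  have he0 : e ≠ 0 := by
    rintro rfl
    apply h1
    exact Subgroup.card_eq_one.mp (by simpa using he)
  have hd : p ∣ Nat.card I := by
    rw [he]
    exact dvd_pow_self p he0
  obtain ⟨z, hz⟩ := exists_prime_orderOf_dvd_card' p hd
  refine ⟨z, z.2.1, z.2.2, ?_, ?_⟩
  · intro h0
    have hz1 : z = 1 := Subtype.ext h0
    rw [hz1, orderOf_one] at hz
    exact hp.out.one_lt.ne hz
  · have h3 : z ^ p = 1 := by
      rw [← hz]
      exact pow_orderOf_eq_one z
    exact congrArg Subtype.val h3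

theorem kl {G : Type*} [Group G] [Finite G] {p : ℕ} [hp : Fact p.Prime] (hp2 : p ≠ 2)
    (hsol : IsPSolvable p G) (hcore : pPrimeCore p G = ⊥)
    (P C : Subgroup G) (hP : IsPGroup p P) (hUP : pCore p G ≤ P) (hCP : C ≤ P)
    (hCn : ∀ a ∈ P, ∀ x ∈ C, a * x * a⁻¹ ∈ C)
    (hB : ∀ x ∈ ⁅C, C⁆, ∀ y ∈ ⁅C, C⁆, x * y = y * x) : ⁅C, C⁆ ≤ pCore p G := by
  classical
  by_contra hnot
  have hBn : ∀ a ∈ P, ∀ x ∈ ⁅C, C⁆, a * x * a⁻¹ ∈ ⁅C, C⁆ := by
    intro a ha x hx
    have h3 : ⁅C, C⁆ ≤ (⁅C, C⁆).comap (MulAut.conj a).toMonoidHom := by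
      rw [Subgroup.commutator_le]
      intro c₁ h₁ c₂ h₂
      show a * ⁅c₁, c₂⁆ * a⁻¹ ∈ ⁅C, C⁆
      have e : a * ⁅c₁, c₂⁆ * a⁻¹ = ⁅a * c₁ * a⁻¹, a * c₂ * a⁻¹⁆ := by
        simp only [commutatorElement_def]
        group
      rw [e]
      exact Subgroup.commutator_mem_commutator (hCn a ha c₁ h₁) (hCn a ha c₂ h₂)
    exact h3 hx
  let π : G →* G ⧸ pCore p G := QuotientGroup.mk' (pCore p G)
  have hπ : Function.Surjective π := QuotientGroup.mk'_surjective _
  have hsolH : IsPSolvable p (G ⧸ pCore p G) := isPSolvable_quotient hsol _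
  have hOpH : pCore p (G ⧸ pCore p G) = ⊥ := pCore_quotient_pCore p
  have hBb : (⁅C, C⁆).map π = ⁅C.map π, C.map π⁆ := Subgroup.map_commutator _ _ _
  have hPb : IsPGroup p (P.map π) := hP.map π
  have hBP : ⁅C, C⁆ ≤ P := by
    rw [Subgroup.commutator_le]
    intro c₁ h₁ c₂ h₂
    have h₁' := hCP h₁
    have h₂' := hCP h₂
    rw [commutatorElement_def]
    exact mul_mem (mul_mem (mul_mem h₁' h₂') (inv_mem h₁')) (inv_mem h₂')
  have hBbne : (⁅C, C⁆).map π ≠ ⊥ := by
    intro h0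
    apply hnot
    have h1 := (Subgroup.map_eq_bot_iff _).1 h0
    rwa [QuotientGroup.ker_mk'] at h1
  have hBbP : (⁅C, C⁆).map π ≤ P.map π := Subgroup.map_mono hBP
  let N : Subgroup (P.map π) := ((⁅C, C⁆).map π).subgroupOf (P.map π)
  have hNn : N.Normal := by
    refine ⟨?_⟩
    rintro ⟨x, hx⟩ hxN ⟨g, hg⟩
    obtain ⟨x₀, hx₀, hxe⟩ := Subgroup.mem_subgroupOf.mp hxN
    obtain ⟨g₀, hg₀, rfl⟩ := hg
    apply Subgroup.mem_subgroupOf.mpr
    refine ⟨g₀ * x₀ * g₀⁻¹, hBn g₀ hg₀ x₀ hx₀, ?_⟩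
    have hxe' : π x₀ = x := hxe
    show π (g₀ * x₀ * g₀⁻¹) = π g₀ * x * (π g₀)⁻¹
    rw [map_mul, map_mul, map_inv, hxe']
  have hNne : N ≠ ⊥ := by
    intro h0
    apply hBbne
    rw [eq_bot_iff]
    intro x hx
    have h3 : (⟨x, hBbP hx⟩ : P.map π) ∈ N := Subgroup.mem_subgroupOf.mpr hx
    rw [h0] at h3
    have h4 : (⟨x, hBbP hx⟩ : P.map π) = 1 := h3
    exact congrArg Subtype.val h4
  obtain ⟨z, hzN, hzc, hz1, hzp⟩ := exists_central_order_p hPb N hNne
  obtain ⟨b₀, hb₀B, hb₀⟩ := Subgroup.mem_subgroupOf.mp hzN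
  -- the commutator
  let d : G → pCore p G → pCore p G := fun y u => MulAut.conjNormal y u * u⁻¹
  have hdcoe : ∀ y u, ((d y u : pCore p G) : G) = y * u * y⁻¹ * (u : G)⁻¹ := fun _ _ => rfl
  have hd : ∀ (y : G) (u : pCore p G),
      psiBar (π y) (u : pCore p G ⧸ frattini (pCore p G)) * (u : pCore p G ⧸ frattini (pCore p G))⁻¹ =
        ((d y u : pCore p G) : pCore p G ⧸ frattini (pCore p G)) := fun _ _ => rfl
  have hdB : ∀ x ∈ ⁅C, C⁆, ∀ w : pCore p G, (w : G) ∈ ⁅C, C⁆ → d x w = 1 := by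
    intro x hx w hw
    apply Subtype.ext
    rw [hdcoe, hB x hx _ hw]
    simp
  have hdC : ∀ y ∈ C, ∀ u : pCore p G, ((d y u : pCore p G) : G) ∈ C := by
    intro y hy u
    rw [hdcoe]
    have h3 := hCn u (hUP u.2) y⁻¹ (inv_mem hy)
    have e : y * u * y⁻¹ * (u : G)⁻¹ = y * ((u : G) * y⁻¹ * (u : G)⁻¹) := by group
    rw [e]
    exact mul_mem hy h3
  have hdCC : ∀ y ∈ C, ∀ w : pCore p G, (w : G) ∈ C → ((d y w : pCore p G) : G) ∈ ⁅C, C⁆ := by
    intro y hy w hw
    rw [hdcoe]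
    exact Subgroup.commutator_mem_commutator hy hw
  have hdBB : ∀ x ∈ ⁅C, C⁆, ∀ u : pCore p G, ((d x u : pCore p G) : G) ∈ ⁅C, C⁆ := by
    intro x hx u
    rw [hdcoe]
    have h3 := hBn u (hUP u.2) x⁻¹ (inv_mem hx)
    have e : x * u * x⁻¹ * (u : G)⁻¹ = x * ((u : G) * x⁻¹ * (u : G)⁻¹) := by group
    rw [e]
    exact mul_mem hx h3
  refine kl_mul (V_comm (p := p) (G := G)) hp2 (V_exp (p := p) (G := G)) hsolH hOpH psiBar
    (psiBar_injective hsol hcore) (P.map π) (C.map π) hPb (Subgroup.map_mono hCP) (b := (z : G ⧸ pCore p G)) z.2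
    ?_ ?_ ?_ ?_ ?_ ?_
  · intro a ha
    have h3 := Subgroup.mem_center_iff.mp hzc ⟨a, ha⟩
    exact congrArg Subtype.val h3
  · intro h0
    exact hz1 (Subtype.ext h0)
  · exact congrArg Subtype.val hzp
  · rw [← hBb]
    exact ⟨b₀, hb₀B, hb₀⟩
  · intro m
    obtain ⟨u, rfl⟩ := QuotientGroup.mk_surjective m
    rw [← hb₀, hd, hd, hdB b₀ hb₀B _ (hdBB b₀ hb₀B u)]
    rfl
  · rintro _ ⟨y₀, hy₀, rfl⟩ m
    obtain ⟨u, rfl⟩ := QuotientGroup.mk_surjective m
    rw [← hb₀, hd, hd, hd, hdB b₀ hb₀B _ (hdCC y₀ hy₀ _ (hdC y₀ hy₀ u))]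
    rfl

/-- The image under a homomorphism of a derived subgroup. -/
theorem derived_image {X Y : Type*} [Group X] [Group Y] (f : X →* Y) (P : Subgroup X) (T : Subgroup Y)
    (hT : T = P.map f) (n : ℕ) (h : ∀ x ∈ derivedSeries ↥P n, f (x : X) = 1) :
    derivedSeries ↥T n = ⊥ := by
  subst hT
  rw [← map_derivedSeries_eq (f.subgroupMap_surjective P) n]
  rw [eq_bot_iff]
  rintro _ ⟨x, hx, rfl⟩
  have h3 := h x hx
  exact Subtype.ext h3

/-- Elements of the derived series form a `P`-invariant family. -/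
theorem crux {G : Type*} [Group G] [Finite G] {p : ℕ} [hp : Fact p.Prime] (hp2 : p ≠ 2)
    (hsol : IsPSolvable p G) (hcore : pPrimeCore p G = ⊥) (P : Sylow p G) (d : ℕ)
    (hd : derivedSeries ↥(P : Subgroup G) (d + 1) = ⊥) :
    ∀ x ∈ derivedSeries ↥(P : Subgroup G) d, (x : G) ∈ pCore p G := by
  classical
  have hUP := pCore_le_sylow p P
  cases d with
  | zero =>
    intro x _
    apply centralizer_pCore_le_of_pSolvable hsol hcore
    rw [Subgroup.mem_centralizer_iff]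
    intro r hr
    have h1 : ⁅(⟨r, hUP hr⟩ : (P : Subgroup G)), x⁆ ∈ derivedSeries ↥(P : Subgroup G) (0 + 1) := by
      rw [derivedSeries_succ]
      exact Subgroup.commutator_mem_commutator (by simp) (by simp)
    rw [hd] at h1
    have h2 : ⁅(⟨r, hUP hr⟩ : (P : Subgroup G)), x⁆ = 1 := h1
    have h3 := commutatorElement_eq_one_iff_mul_comm.mp h2
    exact congrArg Subtype.val h3
  | succ d =>
    set D : Subgroup ↥(P : Subgroup G) := derivedSeries ↥(P : Subgroup G) d with hD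
    let C : Subgroup G := D.map (P : Subgroup G).subtype
    have hCC : ⁅C, C⁆ = (derivedSeries ↥(P : Subgroup G) (d + 1)).map (P : Subgroup G).subtype := by
      rw [derivedSeries_succ, Subgroup.map_commutator]
    have hCCC : ⁅⁅C, C⁆, ⁅C, C⁆⁆ = ⊥ := by
      rw [hCC, ← Subgroup.map_commutator, ← derivedSeries_succ, hd]
      simp
    have h := kl hp2 hsol hcore (P : Subgroup G) C P.isPGroup' hUP
      (by
        rintro _ ⟨x, -, rfl⟩
        exact x.2)
      (by
        rintro a ha _ ⟨x, hx, rfl⟩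
        have hDn : D.Normal := by
          rw [hD]
          exact derivedSeries_normal _ _
        exact ⟨⟨a, ha⟩ * x * ⟨a, ha⟩⁻¹, hDn.conj_mem x hx _, rfl⟩)
      (by
        intro x hx y hy
        have h1 : ⁅x, y⁆ ∈ ⁅⁅C, C⁆, ⁅C, C⁆⁆ := Subgroup.commutator_mem_commutator hx hy
        rw [hCCC] at h1
        exact commutatorElement_eq_one_iff_mul_comm.mp h1)
    intro x hx
    apply h
    rw [hCC]
    exact ⟨x, hx, rfl⟩

theorem main (p : ℕ) [hp : Fact p.Prime] (hp2 : p ≠ 2) (d : ℕ) :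
    ∀ (G : Type u) [Group G] [Finite G], IsPSolvable p G →
      (∀ P : Sylow p G, derivedSeries ↥(P : Subgroup G) d = ⊥) → PLengthLE p d G := by
  induction d with
  | zero =>
    intro G _ _ hsol hd
    refine pLengthLE_zero_of_coprime p ?_
    rw [Nat.coprime_comm, hp.out.coprime_iff_not_dvd]
    intro hdvd
    obtain ⟨y, hy⟩ := exists_prime_orderOf_dvd_card' p hdvd
    have h1 : IsPGroup p (Subgroup.zpowers y) := by
      refine IsPGroup.iff_card.2 ⟨1, ?_⟩
      rw [Nat.card_zpowers, hy, pow_one]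
    obtain ⟨P, hP⟩ := h1.exists_le_sylow
    have h2 := hd P
    rw [derivedSeries_zero] at h2
    have h3 : (⟨y, hP (Subgroup.mem_zpowers y)⟩ : (P : Subgroup G)) ∈ (⊤ : Subgroup (P : Subgroup G)) := trivial
    rw [h2] at h3
    have h4 : (⟨y, hP (Subgroup.mem_zpowers y)⟩ : (P : Subgroup G)) = 1 := h3
    have h5 : y = 1 := congrArg Subtype.val h4
    rw [h5, orderOf_one] at hy
    exact hp.out.one_lt.ne hy
  | succ d ih =>
    intro G _ _ hsol hd
    let N := pPrimeCore p G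
    let G₁ := G ⧸ N
    let π₁ : G →* G₁ := QuotientGroup.mk' N
    have hπ₁ : Function.Surjective π₁ := QuotientGroup.mk'_surjective N
    have hker : Nat.Coprime (Nat.card π₁.ker) p := by
      have : π₁.ker = N := QuotientGroup.ker_mk' N
      rw [this]
      exact card_pPrimeCore_coprime p
    refine pLengthLE_of_ker_coprime p π₁ hπ₁ hker ?_
    have hsol₁ : IsPSolvable p G₁ := isPSolvable_quotient hsol N
    have hcore₁ : pPrimeCore p G₁ = ⊥ := pPrimeCore_quotient_pPrimeCore p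
    have hd₁ : ∀ P : Sylow p G₁, derivedSeries ↥(P : Subgroup G₁) (d + 1) = ⊥ := by
      intro P
      obtain ⟨P', rfl⟩ := Sylow.mapSurjective_surjective hπ₁ p P
      refine derived_image π₁ (P' : Subgroup G) _ (Sylow.coe_mapSurjective _ _) (d + 1) ?_
      intro x hx
      rw [hd P'] at hx
      have h3 : x = 1 := hx
      rw [h3]
      simp
    let R := pCore p G₁
    let Y := G₁ ⧸ R
    let π₂ : G₁ →* Y := QuotientGroup.mk' R
    have hπ₂ : Function.Surjective π₂ := QuotientGroup.mk'_surjective R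
    have hker₂ : PLengthLE p 1 π₂.ker := by
      refine pLengthLE_one_of_isPGroup p ?_
      have : π₂.ker = R := QuotientGroup.ker_mk' R
      rw [this]
      exact isPGroup_pCore p
    have hY : PLengthLE p d Y := by
      refine ih Y (isPSolvable_quotient hsol₁ R) ?_
      intro S
      obtain ⟨P, rfl⟩ := Sylow.mapSurjective_surjective hπ₂ p S
      refine derived_image π₂ (P : Subgroup G₁) _ (Sylow.coe_mapSurjective _ _) d ?_
      intro x hx
      exact (QuotientGroup.eq_one_iff _).2 (crux hp2 hsol₁ hcore₁ P d (hd₁ P) x hx)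
    have := pLengthLE_of_ker 1 d p G₁ Y π₂ hπ₂ hker₂ hY
    rwa [add_comm] at this

/-- Let p be an odd prime and G a finite p-soluble group whose Sylow p-subgroups have derived length at most d. Then G has p-length at most d. -/
theorem result {G : Type*} [Group G] [Finite G] {p : ℕ} [Fact p.Prime] (hp : p ≠ 2) (hG : Cfsg.IsPSolvable p G) (d : ℕ) (hd : ∀ P : Sylow p G, derivedSeries ↥(P : Subgroup G) d = ⊥) : Cfsg.PLengthLE p d G :=
  main p hp d G hG hd

end Cfsg.Agent.S3789
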