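import Mathlib
import Cfsg.Statements.S4037
import Cfsg.Agent.Lib.ClassPPow

set_option autoImplicit false
open Cfsg

namespace Cfsg.Agent.S4037

open Cfsg.Agent.Lib.ClassPPow Cfsg.Agent.Lib.PCore

/-- The class of `x` has as many elements as the index of the centralizer. -/
theorem index_centralizer_eq_ncard {G : Type*} [Group G] [Finite G] (x : G) :
    (Subgroup.centralizer ({x} : Set G)).index = (ConjClasses.mk x).carrier.ncard := by
  have h1 := MulAction.index_stabilizer (ConjAct G) x
  rw [ConjAct.orbit_eq_carrier_conjClasses] at h1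
  rw [← h1]
  have h2 : Subgroup.centralizer ({x} : Set G) =
      (MulAction.stabilizer (ConjAct G) x).comap (ConjAct.toConjAct (G := G)).toMonoidHom := by
    ext g
    rw [Subgroup.mem_centralizer_singleton_iff, Subgroup.mem_comap, MulAction.mem_stabilizer_iff]
    have h3 : (ConjAct.toConjAct (G := G)).toMonoidHom g • x = g * x * g⁻¹ :=
      ConjAct.toConjAct_smul g x
    rw [h3, mul_inv_eq_iff_eq_mul]
  rw [h2]
  exact Subgroup.index_comap_of_surjective _ (ConjAct.toConjAct (G := G)).surjective

/-- If an element x of a finite group G has a conjugacy class of prime-power size, then the normal closure of x in G (the subgroup generated by the conjugacy class of x) is solvable. -/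
theorem result {G : Type*} [Group G] [Finite G]
    (x : G) {p : ℕ} (hp : p.Prime) (k : ℕ) (hx : (ConjClasses.mk x).carrier.ncard = p ^ k) :
    Group.IsSolvable ↥(Subgroup.normalClosure ({x} : Set G)) := by
  haveI : Fact p.Prime := ⟨hp⟩
  set N := Subgroup.normalClosure ({x} : Set G) with hN
  let π := QuotientGroup.mk' (pCore p G)
  have hidx : ∃ a : ℕ, (Subgroup.centralizer ({x} : Set G)).index = p ^ a :=
    ⟨k, by rw [index_centralizer_eq_ncard, hx]⟩
  -- images of conjugates commute
  have h1 : ∀ u ∈ Group.conjugatesOfSet ({x} : Set G), ∀ v ∈ Group.conjugatesOfSet ({x} : Set G),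
      π u * π v = π v * π u := by
    intro u hu v hv
    rw [Group.mem_conjugatesOfSet_iff] at hu hv
    obtain ⟨a, ha0, ha⟩ := hu
    obtain ⟨b, hb0, hb⟩ := hv
    rw [Set.mem_singleton_iff.mp ha0] at ha
    rw [Set.mem_singleton_iff.mp hb0] at hb
    obtain ⟨g, rfl⟩ := isConj_iff.mp ha
    obtain ⟨h, rfl⟩ := isConj_iff.mp hb
    have h2 := commutator_conj_mem_pCore x hidx g h
    have h3 : π ((g * x * g⁻¹) * (h * x * h⁻¹) * (g * x * g⁻¹)⁻¹ * (h * x * h⁻¹)⁻¹) = 1 :=
      (QuotientGroup.eq_one_iff _).mpr h2
    simp only [map_mul, map_inv] at h3 ⊢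
    have h4 := mul_inv_eq_one.mp h3
    have h5 := mul_inv_eq_iff_eq_mul.mp h4
    exact h5
  have h6 : ∀ a ∈ N, ∀ b ∈ N, π a * π b = π b * π a := by
    intro a ha b hb
    have h7 : ∀ a ∈ N, ∀ v ∈ Group.conjugatesOfSet ({x} : Set G), π a * π v = π v * π a := by
      intro a ha v hv
      refine Subgroup.closure_induction (p := fun a _ => π a * π v = π v * π a) ?_ ?_ ?_ ?_ ha
      · intro y hy; exact h1 y hy v hv
      · simp
      · intro y z _ _ hy hz
        rw [map_mul, mul_assoc, hz, ← mul_assoc, hy, mul_assoc]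
      · intro y _ hy
        rw [map_inv]
        exact (Commute.inv_left (show Commute (π y) (π v) from hy)).eq
    refine Subgroup.closure_induction (p := fun b _ => π a * π b = π b * π a) ?_ ?_ ?_ ?_ hb
    · intro y hy; exact h7 a ha y hy
    · simp
    · intro y z _ _ hy hz
      rw [map_mul, ← mul_assoc, hy, mul_assoc, hz, mul_assoc]
    · intro y _ hy
      rw [map_inv]
      exact (Commute.inv_right (show Commute (π a) (π y) from hy)).eq
  let g : N →* (π.comp N.subtype).range := (π.comp N.subtype).rangeRestrict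
  let f : (pCore p G).subgroupOf N →* N := ((pCore p G).subgroupOf N).subtype
  haveI h8 : Group.IsSolvable (π.comp N.subtype).range := by
    apply Group.isSolvable_of_comm
    rintro ⟨_, a, rfl⟩ ⟨_, b, rfl⟩
    apply Subtype.ext
    exact h6 a a.2 b b.2
  haveI h9 : Group.IsSolvable ((pCore p G).subgroupOf N) := by
    have h10 : IsPGroup p ((pCore p G).subgroupOf N) :=
      (isPGroup_pCore (G := G) p).comap_subtype
    haveI := h10.isNilpotent
    infer_instance
  refine solvable_of_ker_le_range f g ?_
  intro y hy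
  have h11 : π (y : G) = 1 := by
    have := congrArg Subtype.val (MonoidHom.mem_ker.mp hy)
    simpa [g] using this
  have h12 : (y : G) ∈ pCore p G := (QuotientGroup.eq_one_iff _).mp h11
  exact ⟨⟨y, Subgroup.mem_subgroupOf.mpr h12⟩, rfl⟩

end Cfsg.Agent.S4037
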