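import Mathlib
import Cfsg.Statements.S0566
import Cfsg.Agent.S0559
import Cfsg.Agent.Lib.Factorized

set_option autoImplicit false
open Pointwise
open Cfsg

namespace Cfsg.Agent.S0566

open Cfsg.Agent.Lib.Factorized

variable {G : Type*} [Group G]

/-- The hypothesis of Kegel's lemma for a pair of subgroups. -/
def KPair (X Y : Subgroup G) : Prop :=
  ∀ x : G, ∃ S : Subgroup G, S ≠ ⊤ ∧ (S : Set G) = (X : Set G) * ((MulAut.conj x • Y : Subgroup G) : Set G)

theorem KPair.conj {X Y : Subgroup G} (h : KPair X Y) (g : G) : KPair X (MulAut.conj g • Y) := by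
  intro x
  obtain ⟨S, hS, e⟩ := h (x * g)
  refine ⟨S, hS, ?_⟩
  rw [e, map_mul, mul_smul]

/-- A product set which absorbs is a subgroup. -/
theorem exists_subgroup_of_mul_subset {X W : Subgroup G}
    (h : ∀ w ∈ W, ∀ x ∈ X, w * x ∈ (X : Set G) * (W : Set G)) :
    ∃ S : Subgroup G, (S : Set G) = (X : Set G) * (W : Set G) := by
  refine ⟨{ carrier := (X : Set G) * (W : Set G), mul_mem' := ?_, one_mem' := ?_, inv_mem' := ?_ }, rfl⟩
  · rintro _ _ ⟨x, hx, w, hw, rfl⟩ ⟨x', hx', w', hw', rfl⟩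
    obtain ⟨x'', hx'', w'', hw'', e⟩ := Set.mem_mul.mp (h w hw x' hx')
    refine Set.mem_mul.mpr ⟨x * x'', X.mul_mem hx hx'', w'' * w', W.mul_mem hw'' hw', ?_⟩
    change x * x'' * (w'' * w') = x * w * (x' * w')
    rw [mul_assoc x x'', ← mul_assoc x'' w'', e]
    group
  · exact Set.mem_mul.mpr ⟨1, X.one_mem, 1, W.one_mem, by simp⟩
  · rintro _ ⟨x, hx, w, hw, rfl⟩
    simp only [mul_inv_rev]
    exact h _ (W.inv_mem hw) _ (X.inv_mem hx)

/-- Converse of the above. -/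
theorem mul_subset_of_subgroup {X W S : Subgroup G} (h : (S : Set G) = (X : Set G) * (W : Set G)) :
    ∀ w ∈ W, ∀ x ∈ X, w * x ∈ (X : Set G) * (W : Set G) := by
  intro w hw x hx
  rw [← h]
  have h1 : w ∈ S := by
    have : w ∈ (S : Set G) := by
      rw [h]; exact Set.mem_mul.mpr ⟨1, X.one_mem, w, hw, by simp⟩
    exact this
  have h2 : x ∈ S := by
    have : x ∈ (S : Set G) := by
      rw [h]; exact Set.mem_mul.mpr ⟨x, hx, 1, W.one_mem, by simp⟩
    exact this
  exact S.mul_mem h1 h2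

/-- A join of subgroups permuting with `W` permutes with `W`. -/
theorem sup_mul_subset {X1 X2 W : Subgroup G}
    (h1 : ∀ w ∈ W, ∀ x ∈ X1, w * x ∈ (X1 : Set G) * (W : Set G))
    (h2 : ∀ w ∈ W, ∀ x ∈ X2, w * x ∈ (X2 : Set G) * (W : Set G)) :
    ∀ w ∈ W, ∀ x ∈ X1 ⊔ X2, w * x ∈ ((X1 ⊔ X2 : Subgroup G) : Set G) * (W : Set G) := by
  have hmono1 : (X1 : Set G) * (W : Set G) ⊆ ((X1 ⊔ X2 : Subgroup G) : Set G) * (W : Set G) :=
    Set.mul_subset_mul_right (fun x hx => Subgroup.mem_sup_left hx)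
  have hmono2 : (X2 : Set G) * (W : Set G) ⊆ ((X1 ⊔ X2 : Subgroup G) : Set G) * (W : Set G) :=
    Set.mul_subset_mul_right (fun x hx => Subgroup.mem_sup_right hx)
  have key : ∀ z ∈ X1 ⊔ X2, (∀ w ∈ W, w * z ∈ ((X1 ⊔ X2 : Subgroup G) : Set G) * (W : Set G)) ∧
      (∀ w ∈ W, w * z⁻¹ ∈ ((X1 ⊔ X2 : Subgroup G) : Set G) * (W : Set G)) := by
    intro z hz
    rw [Subgroup.sup_eq_closure] at hz
    induction hz using Subgroup.closure_induction with
    | mem z hz =>
      rcases hz with hz | hz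
      · exact ⟨fun w hw => hmono1 (h1 w hw z hz), fun w hw => hmono1 (h1 w hw z⁻¹ (X1.inv_mem hz))⟩
      · exact ⟨fun w hw => hmono2 (h2 w hw z hz), fun w hw => hmono2 (h2 w hw z⁻¹ (X2.inv_mem hz))⟩
    | one =>
      constructor <;> intro w hw <;> exact Set.mem_mul.mpr ⟨1, Subgroup.one_mem _, w, hw, by simp⟩
    | mul a b _ _ ha hb =>
      constructor
      · intro w hw
        obtain ⟨x, hx, w', hw', e⟩ := Set.mem_mul.mp (ha.1 w hw)
        obtain ⟨x', hx', w'', hw'', e'⟩ := Set.mem_mul.mp (hb.1 w' hw')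
        refine Set.mem_mul.mpr ⟨x * x', Subgroup.mul_mem _ hx hx', w'', hw'', ?_⟩
        rw [mul_assoc x x', e', ← mul_assoc, e, mul_assoc]
      · intro w hw
        obtain ⟨x, hx, w', hw', e⟩ := Set.mem_mul.mp (hb.2 w hw)
        obtain ⟨x', hx', w'', hw'', e'⟩ := Set.mem_mul.mp (ha.2 w' hw')
        refine Set.mem_mul.mpr ⟨x * x', Subgroup.mul_mem _ hx hx', w'', hw'', ?_⟩
        rw [mul_assoc x x', e', ← mul_assoc, e, mul_inv_rev, mul_assoc]
    | inv a _ ha =>
      exact ⟨ha.2, by simpa using ha.1⟩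
  intro w hw x hx
  exact (key x hx).1 w hw

/-- Main step. -/
theorem KPair.sup_conj [Finite G] {X Y : Subgroup G} (h : KPair X Y) {y : G} (hy : y ∈ Y) :
    KPair (X ⊔ MulAut.conj y • X) Y := by
  -- the case of trivial conjugation
  obtain ⟨S, hS, eS⟩ := h 1
  have e1 : MulAut.conj (1 : G) • Y = Y := by simp
  rw [e1] at eS
  have hXS : X ≤ S := by
    intro x hx
    have : x ∈ (S : Set G) := by
      rw [eS]; exact Set.mem_mul.mpr ⟨x, hx, 1, Y.one_mem, by simp⟩
    exact this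
  have hYS : Y ≤ S := by
    intro x hx
    have : x ∈ (S : Set G) := by
      rw [eS]; exact Set.mem_mul.mpr ⟨1, X.one_mem, x, hx, by simp⟩
    exact this
  have hX'S : X ⊔ MulAut.conj y • X ≤ S := by
    refine sup_le hXS ?_
    intro x hx
    rw [mem_conj_iff] at hx
    have : x = y * (y⁻¹ * x * y) * y⁻¹ := by group
    rw [this]
    exact S.mul_mem (S.mul_mem (hYS hy) (hXS hx)) (S.inv_mem (hYS hy))
  intro g
  set W := MulAut.conj g • Y with hW
  have hperm1 : ∀ w ∈ W, ∀ x ∈ X, w * x ∈ (X : Set G) * (W : Set G) := by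
    obtain ⟨S1, _, e⟩ := h g
    exact mul_subset_of_subgroup e
  have hperm2 : ∀ w ∈ W, ∀ x ∈ MulAut.conj y • X, w * x ∈ ((MulAut.conj y • X : Subgroup G) : Set G) * (W : Set G) := by
    obtain ⟨S1, _, e⟩ := h (y⁻¹ * g)
    have hp := mul_subset_of_subgroup e
    intro w hw x hx
    rw [mem_conj_iff] at hx
    have hw' : y⁻¹ * w * y ∈ MulAut.conj (y⁻¹ * g) • Y := by
      rw [hW, mem_conj_iff] at hw
      rw [mem_conj_iff]
      have : (y⁻¹ * g)⁻¹ * (y⁻¹ * w * y) * (y⁻¹ * g) = g⁻¹ * w * g := by group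
      rw [this]
      exact hw
    obtain ⟨x', hx', w', hw'', e'⟩ := Set.mem_mul.mp (hp _ hw' _ hx)
    refine Set.mem_mul.mpr ⟨y * x' * y⁻¹, ?_, y * w' * y⁻¹, ?_, ?_⟩
    · change y * x' * y⁻¹ ∈ MulAut.conj y • X
      rw [mem_conj_iff]
      have : y⁻¹ * (y * x' * y⁻¹) * y = x' := by group
      rw [this]
      exact hx'
    · change y * w' * y⁻¹ ∈ W
      rw [hW, mem_conj_iff]
      have hw3 : w' ∈ MulAut.conj (y⁻¹ * g) • Y := hw''
      rw [mem_conj_iff] at hw3
      have : g⁻¹ * (y * w' * y⁻¹) * g = (y⁻¹ * g)⁻¹ * w' * (y⁻¹ * g) := by group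
      rw [this]
      exact hw3
    · change y * x' * y⁻¹ * (y * w' * y⁻¹) = w * x
      have e2 : x' * w' = y⁻¹ * w * y * (y⁻¹ * x * y) := e'
      calc y * x' * y⁻¹ * (y * w' * y⁻¹) = y * (x' * w') * y⁻¹ := by group
        _ = y * (y⁻¹ * w * y * (y⁻¹ * x * y)) * y⁻¹ := by rw [e2]
        _ = w * x := by group
  obtain ⟨T, hT⟩ := exists_subgroup_of_mul_subset (sup_mul_subset hperm1 hperm2)
  refine ⟨T, ?_, hT⟩
  -- properness
  rintro rfl
  have htop : ∀ z : G, ∃ a ∈ X ⊔ MulAut.conj y • X, ∃ b ∈ W, z = a * b := by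
    intro z
    have : z ∈ ((⊤ : Subgroup G) : Set G) := Set.mem_univ z
    rw [hT] at this
    obtain ⟨a, ha, b, hb, e⟩ := Set.mem_mul.mp this
    exact ⟨a, ha, b, hb, e.symm⟩
  have hconj := (Cfsg.Agent.S0559.result (X ⊔ MulAut.conj y • X) W (X ⊔ MulAut.conj y • X) Y htop
    ⟨1, by simp⟩ ⟨g⁻¹, by rw [hW, ← mul_smul, ← map_mul]; simp⟩).1
  apply hS
  rw [eq_top_iff]
  intro z _
  obtain ⟨a, ha, b, hb, rfl⟩ := hconj z
  exact S.mul_mem (hX'S ha) (hYS hb)

/-- Let A and B be nontrivial subgroups of a finite group G such that for every x the product set of A and xBx⁻¹ is a proper subgroup of G. Then there is a proper normal subgroup of G containing A or containing B. -/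
theorem result {G : Type*} [Group G] [Finite G] (A B : Subgroup G) (hA : A ≠ ⊥) (hB : B ≠ ⊥) (h : ∀ x : G, ∃ S : Subgroup G, S ≠ ⊤ ∧ (S : Set G) = (A : Set G) * ((MulAut.conj x • B : Subgroup G) : Set G)) : ∃ N : Subgroup G, N.Normal ∧ N ≠ ⊤ ∧ (A ≤ N ∨ B ≤ N) := by
  classical
  let F : Set (Subgroup G × Subgroup G) := {q | A ≤ q.1 ∧ (∃ g : G, MulAut.conj g • B ≤ q.2) ∧ KPair q.1 q.2}
  have hF : F.Nonempty := ⟨(A, B), le_rfl, ⟨1, by simp⟩, h⟩
  obtain ⟨⟨X, Y⟩, ⟨hAX, ⟨g0, hg0⟩, hXY⟩, hmax⟩ :=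
    Set.exists_max_image F (fun q => Nat.card q.1 + Nat.card q.2) F.toFinite hF
  simp only at hAX hg0 hXY
  -- every conjugate of `Y` normalizes `X`
  have hnorm : ∀ g y : G, y ∈ MulAut.conj g • Y → y ∈ Subgroup.normalizer (X : Set G) := by
    intro g y hy
    have hp := (hXY.conj g).sup_conj hy
    have hmem : ((X ⊔ MulAut.conj y • X), MulAut.conj g • Y) ∈ F := by
      refine ⟨hAX.trans le_sup_left, ⟨g * g0, ?_⟩, hp⟩
      rw [map_mul, mul_smul]
      exact Subgroup.pointwise_smul_le_pointwise_smul_iff.mpr hg0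
    have hle := hmax _ hmem
    simp only at hle
    have hcardconj : ∀ (t : G) (U : Subgroup G), Nat.card ↥(MulAut.conj t • U) = Nat.card U := by
      intro t U
      exact Nat.card_congr (Subgroup.equivSMul (MulAut.conj t) U).symm.toEquiv
    rw [hcardconj] at hle
    have hle2 : Nat.card ↥(X ⊔ MulAut.conj y • X) ≤ Nat.card X := by omega
    have heq : X = X ⊔ MulAut.conj y • X := Subgroup.eq_of_le_of_card_ge le_sup_left hle2
    have hsub : MulAut.conj y • X ≤ X :=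
      (le_sup_right : MulAut.conj y • X ≤ X ⊔ MulAut.conj y • X).trans heq.symm.le
    have heq2 : MulAut.conj y • X = X :=
      Subgroup.eq_of_le_of_card_ge hsub (by rw [hcardconj])
    rw [Subgroup.mem_normalizer_iff]
    intro z
    constructor
    · intro hz
      have : y * z * y⁻¹ ∈ MulAut.conj y • X := by
        rw [mem_conj_iff]
        have e : y⁻¹ * (y * z * y⁻¹) * y = z := by group
        rwa [e]
      rwa [heq2] at this
    · intro hz
      have : y * z * y⁻¹ ∈ MulAut.conj y • X := by rwa [heq2]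
      rw [mem_conj_iff] at this
      have e : y⁻¹ * (y * z * y⁻¹) * y = z := by group
      rwa [e] at this
  by_cases hT : Subgroup.normalizer (X : Set G) = ⊤
  · refine ⟨X, Subgroup.normalizer_eq_top_iff.mp hT, ?_, Or.inl hAX⟩
    rintro rfl
    obtain ⟨S, hS, e⟩ := hXY 1
    apply hS
    rw [eq_top_iff]
    intro z _
    have : z ∈ (S : Set G) := by
      rw [e]; exact Set.mem_mul.mpr ⟨z, Subgroup.mem_top z, 1, Subgroup.one_mem _, by simp⟩
    exact this
  · refine ⟨(Subgroup.normalizer (X : Set G)).normalCore, inferInstance, ?_, Or.inr ?_⟩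
    · intro e
      apply hT
      rw [eq_top_iff, ← e]
      exact Subgroup.normalCore_le _
    · intro b hb g
      apply hnorm (g * g0⁻¹)
      rw [mem_conj_iff]
      have e : (g * g0⁻¹)⁻¹ * (g * b * g⁻¹) * (g * g0⁻¹) = g0 * b * g0⁻¹ := by group
      rw [e]
      apply hg0
      rw [mem_conj_iff]
      have e2 : g0⁻¹ * (g0 * b * g0⁻¹) * g0 = b := by group
      rwa [e2]

end Cfsg.Agent.S0566
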