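import Mathlib
import Cfsg.Statements.S0577
import Cfsg.Agent.S0575
import Cfsg.Agent.Lib.Frat
import Cfsg.Agent.Lib.PComplement
import Cfsg.Agent.Lib.NilpCover

set_option autoImplicit false
set_option linter.style.haveILetI false
open Cfsg

namespace Cfsg.Agent.S0577

open Subgroup
open scoped commutatorElement
open Cfsg.Agent.Lib.PComplement (commute_of_isNilpotent)

variable {G : Type*} [Group G]

theorem isNilpotent_of_forall_comm {H : Type*} [Group H] (h : ∀ a b : H, a * b = b * a) :
    Group.IsNilpotent H := by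
  letI : CommGroup H := { (inferInstance : Group H) with mul_comm := h }
  exact CommGroup.isNilpotent

theorem mem_sylow_of_pow_eq_one [Finite G] {q : ℕ} [hq : Fact q.Prime] (Q : Sylow q G)
    (hQ : (Q : Subgroup G).Normal) {x : G} {k : ℕ} (hx : x ^ q ^ k = 1) : x ∈ (Q : Subgroup G) := by
  have hxp : IsPGroup q (zpowers x) := by
    rw [IsPGroup.iff_card, Nat.card_zpowers]
    have h1 : orderOf x ∣ q ^ k := orderOf_dvd_of_pow_eq_one hx
    obtain ⟨j, -, hj⟩ := (Nat.dvd_prime_pow hq.out).1 h1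
    exact ⟨j, hj⟩
  obtain ⟨P, hP⟩ := hxp.exists_le_sylow
  haveI := Sylow.unique_of_normal Q hQ
  have : P = Q := Subsingleton.elim _ _
  rw [← this]
  exact hP (mem_zpowers x)

/-- `G / Q` is abelian. -/
theorem commutator_mem [Finite G] (hG : IsMinimalNonNilpotent G) (q : ℕ) [hq : Fact q.Prime]
    (Q : Sylow q G) (hQ : (Q : Subgroup G).Normal) (hqd : q ∣ Nat.card G) (g h : G) :
    g * h * g⁻¹ * h⁻¹ ∈ (Q : Subgroup G) := by
  classical
  haveI := hQ
  have hc : (Nat.card (Q : Subgroup G)).Coprime (Q : Subgroup G).index := Q.card_coprime_index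
  obtain ⟨K, hK⟩ := Subgroup.exists_right_complement'_of_coprime hc
  have hcard : Nat.card K = (Q : Subgroup G).index := by
    have h1 := hK.card_mul_card
    have h2 := (Q : Subgroup G).card_mul_index
    have h3 : 0 < Nat.card (Q : Subgroup G) := Nat.card_pos
    exact Nat.eq_of_mul_eq_mul_left h3 (h1.trans h2.symm)
  have hnq : ¬ q ∣ Nat.card K := by
    rw [hcard]
    exact Q.not_dvd_index
  have hsup : (Q : Subgroup G) ⊔ K = ⊤ := hK.sup_eq_top
  have hinf : (Q : Subgroup G) ⊓ K = ⊥ := hK.disjoint.eq_bot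
  have hcyc : IsCyclic K := by
    by_contra hnc
    have hcent : ∀ k ∈ K, ∀ y ∈ (Q : Subgroup G), y * k = k * y := by
      intro k hk y hy
      set T : Subgroup G := (Q : Subgroup G) ⊔ zpowers k with hTdef
      have hT : T ≠ ⊤ := by
        intro hT
        apply hnc
        refine ⟨⟨k, hk⟩, fun u => ?_⟩
        have hu : (u : G) ∈ T := hT ▸ mem_top _
        rw [← SetLike.mem_coe, hTdef, Subgroup.normal_mul] at hu
        obtain ⟨x, hx, w, hw, hxw⟩ := Set.mem_mul.mp hu
        obtain ⟨i, rfl⟩ := Subgroup.mem_zpowers_iff.mp hw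
        have hxK : x ∈ K := by
          have : x = u * (k ^ i)⁻¹ := by rw [← hxw]; group
          rw [this]
          exact K.mul_mem u.2 (K.inv_mem (K.zpow_mem hk i))
        have hx1 : x = 1 := by
          have : x ∈ (Q : Subgroup G) ⊓ K := ⟨hx, hxK⟩
          rw [hinf, Subgroup.mem_bot] at this
          exact this
        rw [hx1, one_mul] at hxw
        refine Subgroup.mem_zpowers_iff.mpr ⟨i, ?_⟩
        apply Subtype.ext
        simpa using hxw
      haveI := hG.2 T hT
      have hyT : y ∈ T := (le_sup_left : (Q : Subgroup G) ≤ T) hy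
      have hkT : k ∈ T := (le_sup_right : zpowers k ≤ T) (mem_zpowers k)
      have hord : Nat.Coprime (orderOf (⟨k, hkT⟩ : T)) q := by
        rw [Subgroup.orderOf_mk]
        apply Nat.Coprime.symm
        rw [Nat.Prime.coprime_iff_not_dvd hq.out]
        intro hd
        apply hnq
        have : orderOf (⟨k, hk⟩ : K) = orderOf k := Subgroup.orderOf_mk k hk
        exact hd.trans (this ▸ orderOf_dvd_natCard (⟨k, hk⟩ : K))
      have hyq : ∃ n : ℕ, (⟨y, hyT⟩ : T) ^ q ^ n = 1 := by
        obtain ⟨n, hn⟩ := Q.isPGroup' ⟨y, hy⟩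
        refine ⟨n, ?_⟩
        apply Subtype.ext
        have := congrArg Subtype.val hn
        simpa using this
      have := commute_of_isNilpotent (G := T) (p := q) hyq hord
      exact congrArg Subtype.val this
    apply hG.1
    have hK_ne : K ≠ ⊤ := by
      intro h
      apply hnq
      rw [h, Subgroup.card_top]
      exact hqd
    haveI : Group.IsNilpotent K := hG.2 K hK_ne
    haveI : Group.IsNilpotent (Q : Subgroup G) := IsPGroup.isNilpotent Q.isPGroup'
    let f : ↥(Q : Subgroup G) × ↥K →* G :=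
      MonoidHom.noncommCoprod (Q : Subgroup G).subtype K.subtype
        (fun a b => Commute.symm (Commute.symm (hcent b b.2 a a.2)))
    refine Group.nilpotent_of_surjective f ?_
    intro g
    have hg : g ∈ (Q : Subgroup G) ⊔ K := hsup ▸ mem_top _
    rw [← SetLike.mem_coe, Subgroup.normal_mul] at hg
    obtain ⟨x, hx, w, hw, hxw⟩ := Set.mem_mul.mp hg
    exact ⟨(⟨x, hx⟩, ⟨w, hw⟩), hxw⟩
  letI := IsCyclic.commGroup (α := K)
  have hcommK : ∀ u v : K, (u : G) * v = v * u := fun u v => congrArg Subtype.val (mul_comm u v)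
  have hg : g ∈ (Q : Subgroup G) ⊔ K := hsup ▸ mem_top _
  have hh : h ∈ (Q : Subgroup G) ⊔ K := hsup ▸ mem_top _
  rw [← SetLike.mem_coe, Subgroup.normal_mul] at hg hh
  obtain ⟨x, hx, u, hu, rfl⟩ := Set.mem_mul.mp hg
  obtain ⟨y, hy, v, hv, rfl⟩ := Set.mem_mul.mp hh
  rw [← QuotientGroup.eq_one_iff]
  have hx1 : ((x : G) : G ⧸ (Q : Subgroup G)) = 1 := (QuotientGroup.eq_one_iff _).2 hx
  have hy1 : ((y : G) : G ⧸ (Q : Subgroup G)) = 1 := (QuotientGroup.eq_one_iff _).2 hy
  have hc2 := hcommK ⟨u, hu⟩ ⟨v, hv⟩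
  simp only [QuotientGroup.mk_mul, QuotientGroup.mk_inv, mul_inv_rev, hx1, hy1, one_mul, inv_one, mul_one]
  have h3 : ((u : G) : G ⧸ (Q : Subgroup G)) * v = v * u := by
    rw [← QuotientGroup.mk_mul, ← QuotientGroup.mk_mul]
    exact congrArg _ hc2
  rw [h3]
  group

/-- In a finite nilpotent group whose commutators are all `q`-elements, two `q'`-elements commute. -/
theorem comm_of_coprime {U : Type*} [Group U] [Finite U] [Group.IsNilpotent U] {q : ℕ}
    [hq : Fact q.Prime] (hU : ∀ a b : U, ∃ k : ℕ, (a * b * a⁻¹ * b⁻¹) ^ q ^ k = 1) {t t' : U}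
    (ht' : (orderOf t').Coprime q) : t * t' = t' * t := by
  set c := t * t' * t⁻¹ * t'⁻¹ with hc
  obtain ⟨k, hk⟩ := hU t t'
  have hc1 : c * t' = t' * c := commute_of_isNilpotent (p := q) ⟨k, hk⟩ ht'
  have h1 : t * t' * t⁻¹ = c * t' := by rw [hc]; group
  have h2 : c ^ orderOf t' = 1 := by
    have h3 : (t * t' * t⁻¹) ^ orderOf t' = 1 := by
      rw [conj_pow, pow_orderOf_eq_one]; simp
    rw [h1, (show Commute c t' from hc1).mul_pow, pow_orderOf_eq_one, mul_one] at h3
    exact h3
  have h4 : orderOf c ∣ Nat.gcd (orderOf t') (q ^ k) :=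
    Nat.dvd_gcd (orderOf_dvd_of_pow_eq_one h2) (orderOf_dvd_of_pow_eq_one hk)
  have h5 : Nat.gcd (orderOf t') (q ^ k) = 1 := Nat.Coprime.pow_right k ht'
  rw [h5, Nat.dvd_one, orderOf_eq_one_iff] at h4
  have h6 : t * t' * t⁻¹ * t'⁻¹ = 1 := h4
  calc t * t' = (t * t' * t⁻¹ * t'⁻¹) * (t' * t) := by group
    _ = t' * t := by rw [h6, one_mul]

/-- Let G be a finite minimal non-nilpotent group and Q a normal Sylow q-subgroup of G, and let D be the commutator subgroup of Q regarded in G (a normal subgroup). Then G modulo D is non-abelian and all its proper subgroups are abelian. -/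
theorem result {G : Type*} [Group G] [Finite G] (hG : Cfsg.IsMinimalNonNilpotent G) (q : ℕ) [Fact q.Prime] (hq : q ∣ Nat.card G) (Q : Sylow q G) (hQ : (Q : Subgroup G).Normal) (D : Subgroup G) [D.Normal] (hD : D = (commutator ↥(Q : Subgroup G)).map (Q : Subgroup G).subtype) : ¬ IsMulCommutative (G ⧸ D) ∧ ∀ K : Subgroup (G ⧸ D), K ≠ ⊤ → IsMulCommutative K := by
  classical
  haveI := hQ
  have hDfr : D ≤ frattini G := by
    rw [hD]
    exact (Subgroup.map_mono (Cfsg.Agent.Lib.Frat.commutator_le_frattini (Q.isPGroup'))).trans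
      (Cfsg.Agent.S0575.result (Q : Subgroup G))
  let π : G →* G ⧸ D := QuotientGroup.mk' D
  have hπ : ∀ x y, x ∈ (Q : Subgroup G) → y ∈ (Q : Subgroup G) → π x * π y = π y * π x := by
    intro x y hx hy
    have hh : (⁅x, y⁆ : G) ∈ D := by
      rw [hD]
      refine ⟨⁅(⟨x, hx⟩ : (Q : Subgroup G)), (⟨y, hy⟩ : (Q : Subgroup G))⁆, ?_, rfl⟩
      rw [commutator_def]
      exact Subgroup.commutator_mem_commutator (mem_top _) (mem_top _)
    have h1 : π ⁅x, y⁆ = 1 := (QuotientGroup.eq_one_iff _).2 hh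
    rw [map_commutatorElement, commutatorElement_eq_one_iff_mul_comm] at h1
    exact h1
  constructor
  · intro hcomm
    apply hG.1
    apply Cfsg.Agent.Lib.Frat.isNilpotent_of_quotient_frattini
    apply isNilpotent_of_forall_comm
    intro a b
    obtain ⟨g, rfl⟩ := QuotientGroup.mk_surjective a
    obtain ⟨h, rfl⟩ := QuotientGroup.mk_surjective b
    rw [← QuotientGroup.mk_mul, ← QuotientGroup.mk_mul, QuotientGroup.eq]
    apply hDfr
    rw [← QuotientGroup.eq]
    exact hcomm.is_comm.comm (g : G ⧸ D) h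
  · intro K hK
    set U : Subgroup G := K.comap π with hUdef
    have hU : U ≠ ⊤ := by
      intro h
      apply hK
      rw [eq_top_iff]
      intro a _
      obtain ⟨g, rfl⟩ := QuotientGroup.mk_surjective a
      have : g ∈ U := h ▸ mem_top _
      exact this
    haveI : Group.IsNilpotent U := hG.2 U hU
    have hcommU : ∀ a b : U, ∃ k : ℕ, (a * b * a⁻¹ * b⁻¹) ^ q ^ k = 1 := by
      intro a b
      obtain ⟨k, hk⟩ := Q.isPGroup' ⟨_, commutator_mem hG q Q hQ hq a b⟩
      refine ⟨k, ?_⟩
      apply Subtype.ext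
      have := congrArg Subtype.val hk
      simpa using this
    have hqel : ∀ {s : U}, (∃ k : ℕ, s ^ q ^ k = 1) → (s : G) ∈ (Q : Subgroup G) := by
      rintro s ⟨k, hk⟩
      apply mem_sylow_of_pow_eq_one Q hQ (k := k)
      have := congrArg Subtype.val hk
      simpa using this
    let ψ : U →* G ⧸ D := π.comp U.subtype
    refine ⟨⟨fun a b => ?_⟩⟩
    apply Subtype.ext
    show (a : G ⧸ D) * b = b * a
    obtain ⟨a, ha⟩ := a
    obtain ⟨b, hb⟩ := b
    obtain ⟨u, rfl⟩ := QuotientGroup.mk_surjective a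
    obtain ⟨v, rfl⟩ := QuotientGroup.mk_surjective b
    have hu : u ∈ U := ha
    have hv : v ∈ U := hb
    obtain ⟨s, t, hst, hst2, hs, ht, -, -⟩ := Cfsg.Agent.Lib.NilpCover.exists_decomp q (⟨u, hu⟩ : U)
    obtain ⟨s', t', hst', hst2', hs', ht', -, -⟩ :=
      Cfsg.Agent.Lib.NilpCover.exists_decomp q (⟨v, hv⟩ : U)
    have e1 : ((u : G) : G ⧸ D) = ψ s * ψ t := by
      rw [← map_mul, ← hst]
      rfl
    have e2 : ((v : G) : G ⧸ D) = ψ s' * ψ t' := by
      rw [← map_mul, ← hst']
      rfl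
    show ((u : G) : G ⧸ D) * ((v : G) : G ⧸ D) = ((v : G) : G ⧸ D) * ((u : G) : G ⧸ D)
    rw [e1, e2]
    have c1 : Commute (ψ s) (ψ s') := hπ _ _ (hqel hs) (hqel hs')
    have c2 : Commute (ψ s) (ψ t') := by
      have : s * t' = t' * s := commute_of_isNilpotent (p := q) hs ht'
      exact (show Commute s t' from this).map ψ
    have c3 : Commute (ψ t) (ψ s') := by
      have : s' * t = t * s' := commute_of_isNilpotent (p := q) hs' ht
      exact ((show Commute s' t from this).map ψ).symm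
    have c4 : Commute (ψ t) (ψ t') :=
      (show Commute t t' from comm_of_coprime hcommU ht').map ψ
    exact ((c1.mul_right c2).mul_left (c3.mul_right c4))

end Cfsg.Agent.S0577
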