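import Cfsg.Statements.S4146
import Mathlib
import Cfsg.Agent.Lib.FourE

set_option autoImplicit false
set_option linter.style.haveILetI false
open Cfsg

namespace Cfsg.Agent.S4146

open Subgroup
open Cfsg.Agent.Lib.CoprimeClass
open Cfsg.Agent.Lib.CentTools
open Cfsg.Agent.Lib.PCore (le_pCore isPGroup_pCore pCore_le_sylow)
open Cfsg.Agent.Lib.FourA
open Cfsg.Agent.Lib.FourB
open Cfsg.Agent.Lib.FourC
open Cfsg.Agent.Lib.FourD
open Cfsg.Agent.Lib.FourE

theorem hyp_of_range {G : Type*} [Group G] [Finite G] (n m : ℕ) (hn : 1 < n) (hm : 1 < m)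
    (hcop : n.Coprime m)
    (h : Set.range (fun x : G => (Subgroup.centralizer ({x} : Set G)).index) = ({1, n, m, n * m} : Set ℕ)) :
    Hyp n m G where
  hn := hn
  hm := hm
  cop := hcop
  vals := fun x => by
    have h1 : (Subgroup.centralizer ({x} : Set G)).index ∈ ({1, n, m, n * m} : Set ℕ) := by
      rw [← h]
      exact ⟨x, rfl⟩
    simpa using h1
  exn := by
    have h1 : n ∈ Set.range (fun x : G => (Subgroup.centralizer ({x} : Set G)).index) := by
      rw [h]
      simp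
    exact h1
  exm := by
    have h1 : m ∈ Set.range (fun x : G => (Subgroup.centralizer ({x} : Set G)).index) := by
      rw [h]
      simp
    exact h1
  exnm := by
    have h1 : n * m ∈ Set.range (fun x : G => (Subgroup.centralizer ({x} : Set G)).index) := by
      rw [h]
      simp
    exact h1

/-- Nilpotency, from the location of primary elements. -/
theorem nilpotent_of_core {G : Type*} [Group G] [Finite G] {p q : ℕ} [Fact p.Prime] [Fact q.Prime]
    (hP : ∀ (t : G) (k : ℕ), t ^ (p ^ k) = 1 → t ∈ Cfsg.pCore p G)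
    (hQ : ∀ (t : G) (k : ℕ), t ^ (q ^ k) = 1 → t ∈ Cfsg.pCore q G)
    (hO : ∀ (ℓ : ℕ) [Fact ℓ.Prime], ℓ ≠ p → ℓ ≠ q → ∀ (t : G) (k : ℕ), t ^ (ℓ ^ k) = 1 → t ∈ center G) :
    Group.IsNilpotent G := by
  have key : ∀ (r : ℕ) [Fact r.Prime], (∀ (t : G) (k : ℕ), t ^ (r ^ k) = 1 → t ∈ Cfsg.pCore r G) →
      ∀ P : Sylow r G, (P : Subgroup G).Normal := by
    intro r _ hR P
    have he : (P : Subgroup G) = Cfsg.pCore r G := by
      apply le_antisymm
      · intro x hx
        obtain ⟨k, hk⟩ := exists_pow_of_isPGroup P.2 hx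
        exact hR x k hk
      · exact pCore_le_sylow r P
    rw [he]
    infer_instance
  apply ((Group.isNilpotent_of_finite_tfae (G := G)).out 3 0).1
  intro ℓ hℓ P
  by_cases hℓp : ℓ = p
  · subst hℓp
    exact key ℓ hP P
  by_cases hℓq : ℓ = q
  · subst hℓq
    exact key ℓ hQ P
  constructor
  intro x hx g
  obtain ⟨k, hk⟩ := exists_pow_of_isPGroup P.2 hx
  have hz := hO ℓ hℓp hℓq x k hk
  have he : g * x * g⁻¹ = x := by
    calc g * x * g⁻¹ = x * g * g⁻¹ := by rw [mem_center_iff.1 hz g]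
      _ = x := by group
  rw [he]
  exact hx

/-- Let G be a finite group whose conjugacy class sizes are exactly 1, n, m and nm for coprime integers n, m > 1. Then G is nilpotent and n and m are prime powers. -/
theorem result {G : Type*} [Group G] [Finite G] (n m : ℕ) (hn : 1 < n) (hm : 1 < m) (hcop : n.Coprime m)
    (h : Set.range (fun x : G => (Subgroup.centralizer ({x} : Set G)).index) = ({1, n, m, n * m} : Set ℕ)) :
    Group.IsNilpotent G ∧ IsPrimePow n ∧ IsPrimePow m := by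
  classical
  have H : Hyp n m G := hyp_of_range n m hn hm hcop h
  obtain ⟨p, a, hp, hna⟩ := exists_prime_pow H
  obtain ⟨q, b, hq, hmb⟩ := exists_prime_pow H.symm
  have ha : a ≠ 0 := by
    rintro rfl
    rw [pow_zero] at hna
    omega
  have hb : b ≠ 0 := by
    rintro rfl
    rw [pow_zero] at hmb
    omega
  have hnpp : IsPrimePow n := (isPrimePow_nat_iff _).2 ⟨p, a, hp, Nat.pos_of_ne_zero ha, hna.symm⟩
  have hmpp : IsPrimePow m := (isPrimePow_nat_iff _).2 ⟨q, b, hq, Nat.pos_of_ne_zero hb, hmb.symm⟩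
  refine ⟨?_, hnpp, hmpp⟩
  have hpq : p ≠ q := by
    rintro rfl
    have h1 : p ∣ n := by rw [hna]; exact dvd_pow_self p ha
    have h2 : p ∣ m := by rw [hmb]; exact dvd_pow_self p hb
    have h3 := Nat.dvd_gcd h1 h2
    rw [hcop] at h3
    exact hp.one_lt.ne' (Nat.dvd_one.1 h3)
  haveI hpf : Fact p.Prime := ⟨hp⟩
  haveI hqf : Fact q.Prime := ⟨hq⟩
  -- primary elements
  have hprim : ∀ {n' m' p' q' a' b' : ℕ} [Fact p'.Prime] [Fact q'.Prime] (H' : Hyp n' m' G), n' = p' ^ a' → m' = q' ^ b' →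
      p' ≠ q' → (∃ (x : G) (i : ℕ), x ^ (p' ^ i) = 1 ∧ cs x = n') ∨ (∃ (x : G) (i : ℕ), x ^ (q' ^ i) = 1 ∧ cs x = n') := by
    intro n' m' p' q' a' b' hp' hq' H' hn' hm' hpq'
    obtain ⟨x, hx⟩ := H'.exn
    obtain ⟨e, r, i, hr, hx', hcsx'⟩ := exists_primary_of_cs H' hx
    by_cases hrp : r = p'
    · subst hrp
      exact Or.inl ⟨x ^ e, i, hx', hcsx'⟩
    by_cases hrq : r = q'
    · subst hrq
      exact Or.inr ⟨x ^ e, i, hx', hcsx'⟩
    exfalso
    haveI : Fact r.Prime := ⟨hr⟩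
    have hz := other_central H' hn' hm' hp'.out hq'.out hrp hrq (x ^ e) hx'
    have h1 := cs_eq_one_iff.2 hz
    rw [hcsx'] at h1
    exact ne_one_n H' h1
  have hO : ∀ (ℓ : ℕ) [Fact ℓ.Prime], ℓ ≠ p → ℓ ≠ q → ∀ (t : G) (k : ℕ), t ^ (ℓ ^ k) = 1 → t ∈ center G := by
    intro ℓ _ hℓp hℓq t k ht
    exact other_central H hna hmb hp hq hℓp hℓq t ht
  rcases hprim H hna hmb hpq with ⟨x, i, hx, hcsx⟩ | ⟨x, i, hx, hcsx⟩
  · -- a `p`-element of size `n`
    rcases hprim H.symm hmb hna hpq.symm with ⟨y, j, hy, hcsy⟩ | ⟨y, j, hy, hcsy⟩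
    · -- a `q`-element of size `m`
      have hnoQ : ∀ (t : G) (k : ℕ), t ^ (q ^ k) = 1 → cs t ≠ n := fun t k ht hcs =>
        mixed H.symm hmb hna hpq.symm hy hcsy ht hcs
      have hnoP : ∀ (t : G) (k : ℕ), t ^ (p ^ k) = 1 → cs t ≠ m := fun t k ht hcs =>
        mixed H hna hmb hpq hx hcsx ht hcs
      exact nilpotent_of_core (p := p) (q := q)
        (fun t k ht => q_normal H.symm hmb hna hpq.symm hy hcsy hnoP t ht)
        (fun t k ht => q_normal H hna hmb hpq hx hcsx hnoQ t ht) hO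
    · exact absurd (mixed H hna hmb hpq hx hcsx hy hcsy) (by simp)
  · rcases hprim H.symm hmb hna hpq.symm with ⟨y, j, hy, hcsy⟩ | ⟨y, j, hy, hcsy⟩
    · exact absurd (mixed H.symm hmb hna hpq.symm hy hcsy hx hcsx) (by simp)
    · -- `x` a `q`-element of size `n`, `y` a `p`-element of size `m`
      by_cases hnoP : ∀ (t : G) (k : ℕ), t ^ (p ^ k) = 1 → cs t ≠ n
      · by_cases hnoQ : ∀ (t : G) (k : ℕ), t ^ (q ^ k) = 1 → cs t ≠ m
        · exact (both_bad H hna hmb hpq hnoP hnoQ hy hcsy hx hcsx).elim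
        · push Not at hnoQ
          obtain ⟨t, k, ht, hcst⟩ := hnoQ
          exact absurd (mixed H.symm hmb hna hpq.symm ht hcst hx hcsx) (by simp)
      · push Not at hnoP
        obtain ⟨t, k, ht, hcst⟩ := hnoP
        exact absurd (mixed H hna hmb hpq ht hcst hy hcsy) (by simp)

end Cfsg.Agent.S4146
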