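import Mathlib
import Cfsg.Statements.S0042
import Cfsg.Agent.Lib.Kegel
import Cfsg.Agent.Lib.FrobeniusThm

set_option autoImplicit false
open Cfsg

namespace Cfsg.Agent.S0042

/-- In a finite Frobenius group, the Frobenius kernel is (the carrier of) a normal subgroup which is nilpotent. -/
theorem result {G : Type*} [Group G] [Finite G] (H : Subgroup G) (hH : Cfsg.IsFrobeniusComplement H) :
    ∃ N : Subgroup G, (N : Set G) = Cfsg.frobeniusKernel H ∧ N.Normal ∧ Group.IsNilpotent N := by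
  obtain ⟨N, hN, hNn, _⟩ := Cfsg.Agent.Lib.FrobeniusThm.exists_kernel_subgroup hH
  refine ⟨N, hN, hNn, ?_⟩
  -- an element of prime order of `H`
  haveI : Nontrivial H := (Subgroup.nontrivial_iff_ne_bot H).2 hH.1
  obtain ⟨r, hr, hrd⟩ := Nat.exists_prime_and_dvd (Finite.one_lt_card (α := H)).ne'
  haveI : Fact r.Prime := ⟨hr⟩
  obtain ⟨h, hh⟩ := exists_prime_orderOf_dvd_card' r hrd
  have hinv : ∀ x ∈ N, (MulAut.conj (h : G)) x ∈ N := by
    intro x hx
    rw [MulAut.conj_apply]
    exact hNn.conj_mem x hx _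
  have hh1 : (h : G) ≠ 1 := by
    intro h0
    have h1 : h = 1 := Subtype.ext h0
    rw [h1, orderOf_one] at hh
    exact hr.one_lt.ne hh
  have hpow : (h : G) ^ r = 1 := by
    have := pow_orderOf_eq_one h
    rw [hh] at this
    exact congrArg Subtype.val this
  refine Cfsg.Agent.Lib.Kegel.nilpotent_of_fpf (Cfsg.Agent.Lib.Kegel.restr (MulAut.conj (h : G)) N hinv) ?_ hr ?_
  · intro x hx
    have h1 : (h : G) * x * (h : G)⁻¹ = x := congrArg Subtype.val hx
    have hxk : (x : G) ∈ Cfsg.frobeniusKernel H := by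
      rw [← hN]
      exact x.2
    have h2 : (x : G)⁻¹ * h * x = h := by
      have h0 : (h : G) * x = x * h := mul_inv_eq_iff_eq_mul.mp h1
      rw [mul_assoc, h0]
      group
    have h3 : (x : G) ∈ H := Cfsg.Agent.Lib.Frobenius.mem_of_conj_mem hH h.2 hh1 (by rw [h2]; exact h.2)
    exact Subtype.ext (Cfsg.Agent.Lib.Frobenius.eq_one_of_mem_kernel_of_mem hxk h3)
  · ext x
    rw [Cfsg.Agent.Lib.Kegel.coe_restr_pow, ← map_pow, hpow]
    simp

end Cfsg.Agent.S0042
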