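import Cfsg.Statements.S0457
import Cfsg.Agent.Lib.J1Local

set_option autoImplicit false
open Cfsg

namespace Cfsg.Agent.S0457

open Cfsg.Spor Cfsg.Agent.Lib.J1Mat Cfsg.Agent.Lib.J1CData Cfsg.Agent.Lib.J1CCore
  Cfsg.Agent.Lib.J1Local
open scoped Pointwise

/-- Normal subgroup containing a full `p`-part contains every element of `p`-power order. -/
theorem mem_normal_of_part {G : Type*} [Group G] [Finite G] (p a : ℕ) [hp : Fact p.Prime]
    (N : Subgroup G) [N.Normal] (hN : p ^ a ∣ Nat.card N) (hG : ¬ p ^ (a + 1) ∣ Nat.card G)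
    (z : G) (hz : z ^ (p ^ a) = 1) : z ∈ N := by
  classical
  obtain ⟨Q₀, hQ₀⟩ := Sylow.exists_subgroup_card_pow_prime (G := N) p hN
  let Q : Subgroup G := Q₀.map N.subtype
  have hQ : Nat.card Q = p ^ a := by
    rw [← hQ₀]
    exact Nat.card_congr (Q₀.equivMapOfInjective _ N.subtype_injective).symm.toEquiv
  have hQN : Q ≤ N := by
    rintro _ ⟨x, _, rfl⟩
    exact x.2
  have hfact : (Nat.card G).factorization p = a := by
    have hpos : Nat.card G ≠ 0 := Nat.card_pos.ne'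
    have h1 : p ^ a ∣ Nat.card G := by
      rw [← hQ]
      exact Subgroup.card_subgroup_dvd_card Q
    have h2 := (hp.out.pow_dvd_iff_le_factorization hpos).mp h1
    have h3 : ¬ a + 1 ≤ (Nat.card G).factorization p := fun h =>
      hG ((hp.out.pow_dvd_iff_le_factorization hpos).mpr h)
    omega
  let S : Sylow p G := Sylow.ofCard Q (by rw [hQ, hfact])
  have hzp : IsPGroup p (Subgroup.zpowers z) := by
    rw [IsPGroup.iff_card]
    obtain ⟨k, _, hk⟩ := (Nat.dvd_prime_pow hp.out).mp (orderOf_dvd_of_pow_eq_one hz)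
    exact ⟨k, by rw [Nat.card_zpowers, hk]⟩
  obtain ⟨P, hP⟩ := hzp.exists_le_sylow
  obtain ⟨g, hg⟩ := MulAction.exists_smul_eq G S P
  have hzP : z ∈ (P : Subgroup G) := hP (Subgroup.mem_zpowers z)
  rw [← hg] at hzP
  have h4 : z ∈ MulAut.conj g • (S : Subgroup G) := by
    rw [← Sylow.coe_subgroup_smul]
    exact hzP
  obtain ⟨q, hq, rfl⟩ := h4
  have hqN : q ∈ N := hQN hq
  simpa using Subgroup.Normal.conj_mem ‹N.Normal› q hqN g

/-- Letters. -/
noncomputable def gen : Nat → ↥J1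
  | 0 => XJ
  | 1 => YJ
  | 2 => XJ⁻¹
  | _ => YJ⁻¹

/-- Letters as matrices. -/
def genM : Nat → M7
  | 0 => X7
  | 1 => Y7
  | 2 => tr X7
  | _ => tr Y7

theorem rep_gen (l : Nat) : Rep (gen l) (genM l) := by
  match l with
  | 0 => exact rep_X
  | 1 => exact rep_Y
  | 2 => exact rep_X.inv
  | _ + 3 => exact rep_Y.inv

/-- Word value. -/
noncomputable def evW : List Nat → ↥J1
  | [] => 1
  | l :: w => gen l * evW w

/-- Word value as a matrix. -/
def evM : List Nat → M7
  | [] => I7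
  | l :: w => mm (genM l) (evM w)

theorem rep_evW (w : List Nat) : Rep (evW w) (evM w) := by
  induction w with
  | nil => exact rep_one
  | cons l w ih => exact (rep_gen l).mul ih

/-- Power of a matrix. -/
def powM (A : M7) : Nat → M7
  | 0 => I7
  | n + 1 => mm (powM A n) A

theorem rep_pow {g : ↥J1} {A : M7} (h : Rep g A) (n : Nat) : Rep (g ^ n) (powM A n) := by
  induction n with
  | zero => rw [pow_zero]; exact rep_one
  | succ n ih => rw [pow_succ]; exact ih.mul h

theorem pow_eq_one_of {z : ↥J1} {A : M7} (h : Rep z A) (n : Nat) (hc : eqM (powM A n) I7 = true) :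
    z ^ n = 1 := (rep_pow h n).ext rep_one hc

/-- From an element of the normal subgroup to `t`. -/
theorem t_mem_of {N : Subgroup ↥J1} [hN : N.Normal] {z : ↥J1} (hz : z ∈ N) (A : M7) (hA : Rep z A)
    (h g : List Nat) (m : Nat)
    (hc : eqM (mm (mm (tr (evM g)) (powM (mm A (mm (mm (evM h) (tr A)) (tr (evM h)))) m)) (evM g)) t7 = true) :
    tJ ∈ N := by
  have h1 : z * (evW h * z⁻¹ * (evW h)⁻¹) ∈ N := N.mul_mem hz (hN.conj_mem _ (N.inv_mem hz) _)
  have h2 := hN.conj_mem _ (N.pow_mem h1 m) (evW g)⁻¹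
  rw [inv_inv] at h2
  have h3 : (evW g)⁻¹ * (z * (evW h * z⁻¹ * (evW h)⁻¹)) ^ m * evW g = tJ :=
    Rep.ext (((rep_evW g).inv.mul (rep_pow (hA.mul (((rep_evW h).mul hA.inv).mul (rep_evW h).inv)) m)).mul
      (rep_evW g)) rep_t hc
  rw [h3] at h2
  exact h2

/-- From `t` to an element which is a product of two conjugates. -/
theorem mem_of_two {N : Subgroup ↥J1} [hN : N.Normal] (ht : tJ ∈ N) {z : ↥J1} (A : M7) (hA : Rep z A)
    (a b : List Nat)
    (hc : eqM (mm (mm (mm (evM a) t7) (tr (evM a))) (mm (mm (evM b) t7) (tr (evM b)))) A = true) :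
    z ∈ N := by
  have h1 := N.mul_mem (hN.conj_mem _ ht (evW a)) (hN.conj_mem _ ht (evW b))
  have h3 : evW a * tJ * (evW a)⁻¹ * (evW b * tJ * (evW b)⁻¹) = z :=
    Rep.ext ((((rep_evW a).mul rep_t).mul (rep_evW a).inv).mul (((rep_evW b).mul rep_t).mul (rep_evW b).inv)) hA hc
  rw [h3] at h1
  exact h1

/-- A normal subgroup containing `t` is everything. -/
theorem eq_top_of_t {N : Subgroup ↥J1} [hN : N.Normal] (ht : tJ ∈ N) : N = ⊤ := by
  have hX : XJ ∈ N := mem_of_two ht X7 rep_X [1, 1, 2, 2] [0, 0, 0, 1, 1, 2, 2] (by decide +kernel)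
  have hY : YJ ∈ N := mem_of_two ht Y7 rep_Y [2, 2] [1, 1, 2, 2] (by decide +kernel)
  rw [eq_top_iff]
  intro g _
  exact J1_induction (· ∈ N) N.one_mem hX hY (fun _ _ => N.mul_mem) (fun _ => N.inv_mem) g

/-- The word for the element of order 3 (`(X y y)^2`). -/
def w3 : List Nat := [0, 3, 3, 0, 3, 3]
/-- The word for the element of order 11 (`X Y Y`). -/
def w11 : List Nat := [0, 1, 1]
/-- The word for the element of order 19 (`X y`). -/
def w19 : List Nat := [0, 3]

theorem card_not (p : ℕ) (hp : p = 3 ∨ p = 5 ∨ p = 7 ∨ p = 11 ∨ p = 19) :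
    ¬ p ^ (1 + 1) ∣ Nat.card ↥J1 := by
  rw [card_J1]
  rcases hp with rfl | rfl | rfl | rfl | rfl <;> norm_num

/-- Involutions lead to `t`. -/
theorem t_mem_of_two {N : Subgroup ↥J1} [hN : N.Normal] (h2 : 2 ∣ Nat.card N) : tJ ∈ N := by
  classical
  haveI : Fact (Nat.Prime 2) := ⟨Nat.prime_two⟩
  obtain ⟨u, hu⟩ := exists_prime_orderOf_dvd_card' (G := N) 2 h2
  have hu' : orderOf (u : ↥J1) = 2 := by
    rw [Subgroup.orderOf_coe]; exact hu
  have hzp : IsPGroup 2 (Subgroup.zpowers (u : ↥J1)) := by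
    rw [IsPGroup.iff_card]
    exact ⟨1, by rw [Nat.card_zpowers, hu', pow_one]⟩
  obtain ⟨P, hP⟩ := hzp.exists_le_sylow
  have hfact : (Nat.card ↥J1).factorization 2 = 3 := by
    rw [card_J1]
    have h1 := (Nat.prime_two.pow_dvd_iff_le_factorization (n := 175560) (k := 3) (by norm_num)).mp (by norm_num)
    have h2 : ¬ 4 ≤ (175560 : ℕ).factorization 2 := fun h =>
      absurd ((Nat.prime_two.pow_dvd_iff_le_factorization (n := 175560) (k := 4) (by norm_num)).mpr h) (by norm_num)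
    omega
  let S : Sylow 2 ↥J1 := Sylow.ofCard E0 (by rw [card_E0, hfact]; norm_num)
  obtain ⟨g, hg⟩ := MulAction.exists_smul_eq ↥J1 P S
  have hzP : (u : ↥J1) ∈ (P : Subgroup ↥J1) := hP (Subgroup.mem_zpowers _)
  have h4 : g * u * g⁻¹ ∈ (S : Subgroup ↥J1) := by
    rw [← hg, Sylow.coe_subgroup_smul]
    exact ⟨u, hzP, by simp⟩
  have h5 : g * u * g⁻¹ ∈ N := hN.conj_mem _ u.2 g
  have hne : g * u * g⁻¹ ≠ 1 := by
    intro h
    have : (u : ↥J1) = 1 := by
      have : g⁻¹ * (g * u * g⁻¹) * g = 1 := by rw [h]; group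
      simpa [mul_assoc] using this
    rw [this, orderOf_one] at hu'
    norm_num at hu'
  rcases mem_E0_list (g := g * u * g⁻¹) h4 with h | ⟨i, _, hi⟩
  · exact absurd h hne
  · rw [hi] at h5
    have h6 := hN.conj_mem _ h5 (XJ ^ i)⁻¹
    have h7 : (XJ ^ i)⁻¹ * aJ i * ((XJ ^ i)⁻¹)⁻¹ = tJ := by
      simp only [aJ]; group
    rwa [h7] at h6

theorem J1_simple : IsSimpleGroup ↥J1 := by
  classical
  haveI : Finite ↥J1 := Nat.finite_of_card_ne_zero (by rw [card_J1]; norm_num)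
  refine { exists_pair_ne := ⟨XJ, 1, ?_⟩, eq_bot_or_eq_top_of_normal := ?_ }
  · intro h
    have : eqM X7 I7 = true := Rep.uniq (h ▸ rep_X) rep_one
    exact absurd this (by decide +kernel)
  intro N hN
  by_cases hb : N = ⊥
  · exact Or.inl hb
  right
  have hcard : Nat.card N ≠ 1 := by
    intro h
    exact hb (Subgroup.card_eq_one.mp h)
  obtain ⟨p, hp, hpN⟩ := Nat.exists_prime_and_dvd hcard
  have hpG : p ∣ 175560 := by
    rw [← card_J1]
    exact hpN.trans (Subgroup.card_subgroup_dvd_card N)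
  have hps : p = 2 ∨ p = 3 ∨ p = 5 ∨ p = 7 ∨ p = 11 ∨ p = 19 := by
    have : (175560 : ℕ) = 2 ^ 3 * 3 * 5 * 7 * 11 * 19 := by norm_num
    rw [this] at hpG
    have hq : ∀ q : ℕ, q.Prime → p ∣ q → p = q := fun q hq h => (Nat.prime_dvd_prime_iff_eq hp hq).mp h
    rcases hp.dvd_mul.mp hpG with h | h
    · rcases hp.dvd_mul.mp h with h | h
      · rcases hp.dvd_mul.mp h with h | h
        · rcases hp.dvd_mul.mp h with h | h
          · rcases hp.dvd_mul.mp h with h | h
            · exact Or.inl (hq 2 (by norm_num) (hp.dvd_of_dvd_pow h))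
            · exact Or.inr (Or.inl (hq 3 (by norm_num) h))
          · exact Or.inr (Or.inr (Or.inl (hq 5 (by norm_num) h)))
        · exact Or.inr (Or.inr (Or.inr (Or.inl (hq 7 (by norm_num) h))))
      · exact Or.inr (Or.inr (Or.inr (Or.inr (Or.inl (hq 11 (by norm_num) h)))))
    · exact Or.inr (Or.inr (Or.inr (Or.inr (Or.inr (hq 19 (by norm_num) h)))))
  haveI : Fact p.Prime := ⟨hp⟩
  have key : ∀ (z : ↥J1) (A : M7), Rep z A → eqM (powM A p) I7 = true →
      (p = 3 ∨ p = 5 ∨ p = 7 ∨ p = 11 ∨ p = 19) → z ∈ N := by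
    intro z A hA hc hp'
    refine mem_normal_of_part p 1 N (by simpa using hpN) (card_not p hp') z ?_
    rw [pow_one]
    exact pow_eq_one_of hA p hc
  have ht : tJ ∈ N := by
    rcases hps with rfl | rfl | rfl | rfl | rfl | rfl
    · exact t_mem_of_two hpN
    · exact t_mem_of (key (evW w3) _ (rep_evW w3) (by decide +kernel) (by simp)) _ (rep_evW w3)
        [2, 1] [0, 3, 3, 0, 1, 1, 2, 1, 2] 5 (by decide +kernel)
    · exact t_mem_of (key YJ Y7 rep_Y (by decide +kernel) (by simp)) _ rep_Y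
        [0, 1, 2] [0, 0, 3, 3, 0, 1, 0] 3 (by decide +kernel)
    · exact t_mem_of (key XJ X7 rep_X (by decide +kernel) (by simp)) _ rep_X
        [1, 0, 3] [0, 0, 0] 1 (by decide +kernel)
    · exact t_mem_of (key (evW w11) _ (rep_evW w11) (by decide +kernel) (by simp)) _ (rep_evW w11)
        [1, 0, 1] [2, 3, 2, 3, 3, 2, 1, 1, 2, 1] 3 (by decide +kernel)
    · exact t_mem_of (key (evW w19) _ (rep_evW w19) (by decide +kernel) (by simp)) _ (rep_evW w19)
        [2, 1] [3, 2, 1, 0, 1, 0, 0] 5 (by decide +kernel)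
  exact eq_top_of_t ht

/-- The subgroup of GL(7, 11) generated by the two explicit Janko matrices is simple of order 175560. -/
theorem result : ∃ x y : GL (Fin 7) (ZMod 11), (x : Matrix (Fin 7) (Fin 7) (ZMod 11)) = Cfsg.jankoMatrixX ∧ (y : Matrix (Fin 7) (Fin 7) (ZMod 11)) = Cfsg.jankoMatrixY ∧ Cfsg.IsJ1 (Subgroup.closure ({x, y} : Set (GL (Fin 7) (ZMod 11)))) :=
  ⟨jankoX, jankoY, rfl, rfl, J1_simple, card_J1⟩

end Cfsg.Agent.S0457
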