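import Mathlib
import Cfsg.Statements.S1011
import Cfsg.Agent.Lib.SmallGroups2
import Cfsg.Agent.Lib.Small168
import Cfsg.Agent.Lib.TwoLocal
import Cfsg.Agent.Lib.TwoLocal2
import Cfsg.Agent.Lib.DefectTwo2
import Cfsg.Agent.Lib.CITCount
import Cfsg.Agent.Lib.DefectOne
-- import your own Cfsg.Agent.* helpers here

set_option autoImplicit false
open Cfsg

namespace Cfsg.Agent.S1011

open Cfsg.Agent.Lib.SmallGroups2
open Cfsg.Agent.Lib.Small168
open Cfsg.Agent.Lib.TwoLocal
open Cfsg.Agent.Lib.TwoLocal2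
open Cfsg.Agent.Lib.DefectTwo2
open Cfsg.Agent.Lib.CITCount
open Cfsg.Agent.Lib.DefectOne

/-- A simple group of order 504 is isomorphic to the projective special linear group of dimension 2 over the field with 8 elements. -/
theorem result {G : Type*} [Group G] [Finite G] [IsSimpleGroup G] (h : Nat.card G = 504) {F : Type*} [Field F] [Fintype F] (hF : Fintype.card F = 8) : Nonempty (G ≃* Matrix.ProjectiveSpecialLinearGroup (Fin 2) F) := by
  have : Fact (Nat.Prime 7) := ⟨by norm_num⟩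
  have : Fact (Nat.Prime 3) := ⟨by norm_num⟩
  have : Fact (Nat.Prime 2) := ⟨by norm_num⟩
  have h7 : Nat.card G = 7 * 72 := by rw [h]
  have hm : ¬ 7 ∣ 72 := by norm_num
  have hG : ¬ IsMulCommutative G := not_isMulCommutative_of_not_prime (by rw [h]; norm_num)
  -- the number of Sylow 7-subgroups
  have hn : Nat.card (Sylow 7 G) = 36 := by
    have hmem := card_sylow_mem_candidates hG h7 hm
    have hc : sylowCandidates 7 72 = {8, 36} := by decide +kernel
    rw [hc] at hmem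
    simp only [Finset.mem_insert, Finset.mem_singleton] at hmem
    rcases hmem with hn | hn
    · exact (comm_exclude (p := 7) (q := 3) (k := 9) hG h7 hm hn (by norm_num) (by decide +kernel) (by decide +kernel)).elim
    · exact hn
  have hn2 : Nat.card (Sylow 7 G) * 2 = 72 := by rw [hn]
  obtain ⟨T⟩ : Nonempty (Sylow 2 G) := inferInstance
  have hT : Nat.card (T : Subgroup G) = 2 ^ 3 := sylow_card_of_card_eq (p := 2) (a := 3) (m := 63) (by rw [h]; norm_num) (by norm_num) T
  obtain ⟨P⟩ : Nonempty (Sylow 7 G) := inferInstance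
  obtain ⟨x₁, x₀, w₁, σ, hw, hσ, hx₁, hx₀, hd₁, hd₀, he, hc₁, hc₀, hall⟩ := s2_global hG h7 hm (by norm_num) hn2 P
  have hc₁' : (x₁ : ℤ) % 7 = (-w₁) % 7 := hc₁
  have hc₀' : (x₀ : ℤ) % 7 = (2 * σ) % 7 := hc₀
  have hm₁ : x₁ ∈ Nat.divisors 72 := Nat.mem_divisors.2 ⟨hd₁, by norm_num⟩
  have hm₀ : x₀ ∈ Nat.divisors 72 := Nat.mem_divisors.2 ⟨hd₀, by norm_num⟩
  have hd : ∀ a ∈ Nat.divisors 72, ∀ b ∈ Nat.divisors 72, 2 ≤ a → 2 ≤ b → b = a + 1 → a % 7 = 1 → b % 7 = 2 → a = 8 ∧ b = 9 := by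
    decide +kernel
  have hd' : ∀ a ∈ Nat.divisors 72, ∀ b ∈ Nat.divisors 72, 2 ≤ a → 2 ≤ b → a = b + 1 → a % 7 = 6 → b % 7 = 5 → False := by
    decide +kernel
  have hw' : w₁ = -1 ∧ σ = 1 ∧ x₁ = 8 ∧ x₀ = 9 := by
    rcases hw with rfl | rfl <;> rcases hσ with rfl | rfl
    · omega
    · exact (hd' _ hm₁ _ hm₀ hx₁ hx₀ (by omega) (by omega) (by omega)).elim
    · obtain ⟨rfl, rfl⟩ := hd _ hm₁ _ hm₀ hx₁ hx₀ (by omega) (by omega) (by omega)
      exact ⟨rfl, rfl, rfl, rfl⟩
    · omega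
  obtain ⟨rfl, rfl, rfl, rfl⟩ := hw'
  -- the central involution
  obtain ⟨z, hz2, hz1, hTz⟩ := Cfsg.Agent.Lib.DefectTwo.exists_central_involution T (by rw [hT]; norm_num)
  obtain ⟨A, y₁, y₀, hdv₁, -, hl₁, -, hy, hA, -, hmaster⟩ := hall z hz2 hz1
  have hci := Subgroup.card_mul_index (Subgroup.centralizer ({z} : Set G))
  set c := Nat.card (Subgroup.centralizer ({z} : Set G)) with hc
  set idx := (Subgroup.centralizer ({z} : Set G)).index with hidx
  rw [h] at hci hmaster
  have hTc : 8 ∣ c := by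
    have := Subgroup.card_dvd_of_le hTz
    rwa [hT] at this
  obtain ⟨c', hc'⟩ := hTc
  have hidxd : idx ∣ 63 := ⟨c', by rw [hc'] at hci; nlinarith⟩
  have hodd : Nat.Coprime 8 idx := Nat.Coprime.coprime_dvd_right hidxd (by norm_num)
  have h1 : 8 ∣ y₁.natAbs := hodd.dvd_of_dvd_mul_left hdv₁
  have hy1 : y₁ = 0 := by
    have h3 : y₁.natAbs < 8 := by
      have := hl₁
      rw [Int.abs_eq_natAbs] at this
      exact_mod_cast this
    have h4 := Nat.eq_zero_of_dvd_of_lt h1 h3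
    omega
  subst hy1
  have hy0 : y₀ = 1 := by omega
  subst hy0
  norm_num at hmaster
  have hcA : c * A = 448 := by
    have : (c : ℤ) * A = 448 := by linarith
    exact_mod_cast this
  have hcle : c * c ≤ 448 := by
    rcases hA with hA | hA
    · subst hA
      omega
    · calc c * c ≤ c * A := Nat.mul_le_mul_left _ hA
        _ = 448 := hcA
  have hc8 : c = 8 := by
    have hmc : c ∈ Nat.divisors 504 := Nat.mem_divisors.2 ⟨⟨idx, hci.symm⟩, by norm_num⟩
    have hd2 : ∀ c ∈ Nat.divisors 504, 8 ∣ c → c * c ≤ 448 → c = 8 := by decide +kernel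
    exact hd2 c hmc ⟨c', hc'⟩ hcle
  -- all involutions
  have hC : ∀ w : G, orderOf w = 2 → Nat.card (Subgroup.centralizer ({w} : Set G)) = 2 ^ 3 := by
    intro w hw
    have hw2 : w ^ 2 = 1 := by rw [← hw]; exact pow_orderOf_eq_one w
    have hw1 : w ≠ 1 := by
      intro h0
      rw [h0, orderOf_one] at hw
      omega
    rw [← card_centralizer_of_isConj (isConj_of_involutions hG h7 hm (by norm_num) hn2 hz2 hz1 hw2 hw1), ← hc, hc8]
    norm_num
  -- element of order 7
  have hC7 : ∀ y : G, orderOf y = 7 → ∀ r ∈ Subgroup.centralizer ({y} : Set G), orderOf r ∣ 7 := by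
    intro y hy r hr
    obtain ⟨Q, hQ⟩ := exists_sylow_mem_of_orderOf hy
    obtain ⟨HQ, -⟩ := Cfsg.Agent.Lib.DefectOne.hyp_of_sylow hG Nat.prime_two h7 hm hn2 Q
    have hy1 : y ≠ 1 := by
      intro h0
      rw [h0, orderOf_one] at hy
      omega
    rw [HQ.cent y hQ hy1] at hr
    have := Subgroup.orderOf_dvd_natCard _ hr
    rwa [HQ.card] at this
  -- Sylow 3
  have hQ9 : ∀ Q : Sylow 3 G, Nat.card (Q : Subgroup G) = 3 ^ 2 := fun Q =>
    sylow_card_of_card_eq (p := 3) (a := 2) (m := 56) (by rw [h]; norm_num) (by norm_num) Q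
  have hC3 : ∀ Q : Sylow 3 G, ∀ r ∈ (Q : Subgroup G), r ≠ 1 → Subgroup.centralizer ({r} : Set G) = Q := by
    intro Q r hrQ hr1
    have hle := le_centralizer_of_sq (Q : Subgroup G) (hQ9 Q) hrQ
    have hord : orderOf r ∣ 9 := by
      have := Subgroup.orderOf_dvd_natCard _ hrQ
      rwa [hQ9 Q] at this
    have hr1' : orderOf r ≠ 1 := fun h0 => hr1 (orderOf_eq_one_iff.1 h0)
    have h2 : ¬ 2 ∣ Nat.card (Subgroup.centralizer ({r} : Set G)) := by
      intro h2
      obtain ⟨w, hw⟩ := exists_prime_orderOf_dvd_card' (G := Subgroup.centralizer ({r} : Set G)) 2 h2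
      have hw' : orderOf (w : G) = 2 := by rw [← hw]; exact Subgroup.orderOf_coe w
      have hrw : r ∈ Subgroup.centralizer ({(w : G)} : Set G) := by
        rw [Subgroup.mem_centralizer_singleton_iff]
        exact (Subgroup.mem_centralizer_singleton_iff.1 w.2).symm
      have h3 := Subgroup.orderOf_dvd_natCard _ hrw
      rw [hC _ hw'] at h3
      exact hr1' (Nat.eq_one_of_dvd_coprimes (by norm_num : Nat.Coprime 9 (2 ^ 3)) hord h3)
    have h7' : ¬ 7 ∣ Nat.card (Subgroup.centralizer ({r} : Set G)) := by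
      intro h2
      obtain ⟨w, hw⟩ := exists_prime_orderOf_dvd_card' (G := Subgroup.centralizer ({r} : Set G)) 7 h2
      have hw' : orderOf (w : G) = 7 := by rw [← hw]; exact Subgroup.orderOf_coe w
      have hrw : r ∈ Subgroup.centralizer ({(w : G)} : Set G) := by
        rw [Subgroup.mem_centralizer_singleton_iff]
        exact (Subgroup.mem_centralizer_singleton_iff.1 w.2).symm
      have h3 := hC7 _ hw' r hrw
      exact hr1' (Nat.eq_one_of_dvd_coprimes (by norm_num : Nat.Coprime 9 7) hord h3)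
    have h9 : 9 ∣ Nat.card (Subgroup.centralizer ({r} : Set G)) := by
      have := Subgroup.card_dvd_of_le hle
      rwa [hQ9 Q] at this
    have hdG : Nat.card (Subgroup.centralizer ({r} : Set G)) ∣ 504 := by
      rw [← h]; exact Subgroup.card_subgroup_dvd_card _
    have hmc : Nat.card (Subgroup.centralizer ({r} : Set G)) ∈ Nat.divisors 504 := Nat.mem_divisors.2 ⟨hdG, by norm_num⟩
    have hd3 : ∀ c ∈ Nat.divisors 504, ¬ 2 ∣ c → ¬ 7 ∣ c → 9 ∣ c → c = 9 := by decide +kernel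
    have hcard := hd3 _ hmc h2 h7' h9
    exact (Subgroup.eq_of_le_of_card_ge hle (by rw [hcard, hQ9 Q]; norm_num)).symm
  have hTI : ∀ Q₁ Q₂ : Sylow 3 G, Q₁ ≠ Q₂ → ∀ x, x ∈ (Q₁ : Subgroup G) → x ∈ (Q₂ : Subgroup G) → x = 1 := by
    intro Q₁ Q₂ hne x hx1 hx2
    by_contra hx
    apply hne
    apply Sylow.ext
    rw [← hC3 Q₁ x hx1 hx, hC3 Q₂ x hx2 hx]
  -- their number
  have hn3 : Nat.card (Sylow 3 G) = 28 := by
    obtain ⟨R⟩ : Nonempty (Sylow 3 G) := inferInstance
    have h1' := card_normalizer_mul_card_sylow R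
    rw [h] at h1'
    have h2' : 9 ∣ Nat.card (Subgroup.normalizer ((R : Subgroup G) : Set G)) := by
      have := Subgroup.card_dvd_of_le (Subgroup.le_normalizer (H := (R : Subgroup G)))
      rwa [hQ9 R] at this
    obtain ⟨k, hk⟩ := h2'
    have h3' : k * Nat.card (Sylow 3 G) = 56 := by
      rw [hk] at h1'
      nlinarith
    have h4' : Nat.card (Sylow 3 G) ∣ 56 := ⟨k, by rw [mul_comm]; exact h3'.symm⟩
    have h5' : Nat.card (Sylow 3 G) ≠ 1 := card_sylow_ne_one hG (by rw [h]; norm_num)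
    have h6' : Nat.card (Sylow 3 G) % 3 = 1 := by
      rw [card_sylow_mod]
    obtain ⟨Q, hne⟩ : ∃ Q : Sylow 3 G, R ≠ Q := by
      by_contra hno
      push Not at hno
      apply h5'
      rw [Nat.card_eq_one_iff_unique]
      exact ⟨⟨fun a b => (hno a).symm.trans (hno b)⟩, ⟨R⟩⟩
    have h7'' := card_le_card_sylow_of_TI R Q hne hTI
    rw [hQ9 R] at h7''
    have hmc : Nat.card (Sylow 3 G) ∈ Nat.divisors 56 := Nat.mem_divisors.2 ⟨h4', by norm_num⟩
    have hd3 : ∀ c ∈ Nat.divisors 56, c % 3 = 1 → 3 ^ 2 < c → c = 28 := by decide +kernel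
    exact hd3 _ hmc h6' h7''
  -- the count
  have hQ₂ : Nat.card {x : G // orderOf x = 7} = 216 := by
    rw [card_orderOf_eq_prime (fun Q => by
      rw [sylow_card_of_card_eq (p := 7) (a := 1) (m := 72) (by rw [h]; norm_num) (by norm_num) Q]; norm_num), hn]
  have hQ₃ : 224 ≤ Nat.card {x : G // orderOf x ∣ 9 ∧ x ≠ 1} := by
    have := card_mul_le_of_TI (ι := Sylow 3 G) (w := 3 ^ 2) (fun Q => (Q : Subgroup G)) hQ9
      (fun i j x hx1 hx2 hx => by
        by_contra hne
        exact hx (hTI i j hne x hx1 hx2))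
      (fun x => orderOf x ∣ 9 ∧ x ≠ 1)
      (fun i x hx hx1 => ⟨by
        have := Subgroup.orderOf_dvd_natCard _ hx
        rwa [hQ9 i] at this, hx1⟩)
    rw [hn3] at this
    simpa using this
  have hQ₁ : 64 ≤ Nat.card {x : G // x ^ 2 = 1} := by
    have h1' := card_sq_eq_one_ge hz2 hz1
    have h2' := card_isConj_mul_centralizer z
    rw [← hc, hc8, h] at h2'
    omega
  have hcover := cover3 (fun x : G => x ^ 2 = 1) (fun x : G => orderOf x = 7) (fun x : G => orderOf x ∣ 9 ∧ x ≠ 1)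
    (by
      intro x hx hx7
      have h2' := orderOf_dvd_of_pow_eq_one hx
      rw [hx7] at h2'
      omega)
    (by
      rintro x hx ⟨hx9, hx1⟩
      have h2' := orderOf_dvd_of_pow_eq_one hx
      apply hx1
      exact orderOf_eq_one_iff.1 (Nat.eq_one_of_dvd_coprimes (by norm_num : Nat.Coprime 9 2) hx9 h2'))
    (by
      rintro x hx ⟨hx9, -⟩
      rw [hx] at hx9
      omega)
    (by
      rw [h]
      omega)
  refine psl_of_cover hG T hT (by norm_num) hC ?_ (by rw [hF]; norm_num)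
  intro x k hx
  have hxd := orderOf_dvd_of_pow_eq_one hx
  rcases hcover x with h1' | h1' | ⟨h1', h2'⟩
  · exact h1'
  · rw [h1'] at hxd
    have := (Nat.prime_dvd_prime_iff_eq (by norm_num) Nat.prime_two).1 (Nat.Prime.dvd_of_dvd_pow (by norm_num) hxd)
    omega
  · exact absurd (orderOf_eq_one_iff.1 (Nat.eq_one_of_dvd_coprimes (Nat.Coprime.pow_right k (by norm_num : Nat.Coprime 9 2)) h1' hxd)) h2'

end Cfsg.Agent.S1011
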