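import Mathlib
import Cfsg.Statements.S4106

set_option autoImplicit false
open Cfsg

namespace Cfsg.Agent.S4106

/-- The predicate that a conjugacy class consists of elements whose order involves only primes in `s`. -/
def IsPiClass {G : Type*} [Group G] (s : Set ℕ) (C : ConjClasses G) : Prop :=
  ∀ q : ℕ, q.Prime → (∃ g : G, ConjClasses.mk g = C ∧ q ∣ orderOf g) → q ∈ s

/-- `π`-part of the order of `G`, for a finite set `s` of primes. -/
noncomputable def piPart (G : Type*) [Group G] (s : Finset ℕ) : ℕ :=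
  ∏ t ∈ s, t ^ (Nat.card G).factorization t

theorem piPart_mono {G : Type*} [Group G] [Finite G] (H : Subgroup G) (s : Finset ℕ) (hs : ∀ t ∈ s, t.Prime) :
    piPart H s ≤ piPart G s := by
  unfold piPart
  apply Finset.prod_le_prod'
  intro t ht
  apply Nat.pow_le_pow_right (hs t ht).pos
  exact (Nat.factorization_le_iff_dvd Nat.card_pos.ne' Nat.card_pos.ne').mpr (Subgroup.card_subgroup_dvd_card H) t

/-- primary decomposition of an element. -/
theorem primary_decomp {G : Type*} [Group G] [Finite G] (q : ℕ) (hq : q.Prime) (g : G) :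
    ∃ y w : G, g = y * w ∧ Commute y w ∧ (∃ k : ℕ, orderOf y = q ^ k) ∧ ¬ q ∣ orderOf w ∧
      orderOf w ∣ orderOf g ∧ y ∈ Subgroup.zpowers g ∧ w ∈ Subgroup.zpowers g := by
  have hpos : orderOf g ≠ 0 := (orderOf_pos g).ne'
  obtain ⟨a, b, hb, hab⟩ := Nat.exists_eq_pow_mul_and_not_dvd hpos q hq.ne_one
  have hcop : Nat.Coprime (q ^ a) b := Nat.Coprime.pow_left _ ((Nat.Prime.coprime_iff_not_dvd hq).mpr hb)
  -- Bezout
  have hbez := Nat.gcd_eq_gcd_ab (q ^ a) b
  rw [hcop] at hbez
  set A := Nat.gcdA (q ^ a) b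
  set B := Nat.gcdB (q ^ a) b
  let y : G := g ^ ((b : ℤ) * B)
  let w : G := g ^ (((q ^ a : ℕ) : ℤ) * A)
  have hgyw : g = y * w := by
    show g = g ^ ((b : ℤ) * B) * g ^ (((q ^ a : ℕ) : ℤ) * A)
    rw [← zpow_add]
    have : (b : ℤ) * B + ((q ^ a : ℕ) : ℤ) * A = 1 := by
      have h := hbez
      push_cast at h ⊢
      linarith
    rw [this, zpow_one]
  have hy : y ^ (q ^ a) = 1 := by
    show (g ^ ((b : ℤ) * B)) ^ (q ^ a) = 1
    rw [← zpow_natCast, ← zpow_mul]
    have : (b : ℤ) * B * ((q ^ a : ℕ) : ℤ) = ((orderOf g : ℕ) : ℤ) * B := by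
      rw [hab]; push_cast; ring
    rw [this, zpow_mul, zpow_natCast, pow_orderOf_eq_one, one_zpow]
  have hw : w ^ b = 1 := by
    show (g ^ (((q ^ a : ℕ) : ℤ) * A)) ^ b = 1
    rw [← zpow_natCast, ← zpow_mul]
    have : ((q ^ a : ℕ) : ℤ) * A * (b : ℤ) = ((orderOf g : ℕ) : ℤ) * A := by
      rw [hab]; push_cast; ring
    rw [this, zpow_mul, zpow_natCast, pow_orderOf_eq_one, one_zpow]
  have hdy : orderOf y ∣ q ^ a := orderOf_dvd_of_pow_eq_one hy
  have hdw : orderOf w ∣ b := orderOf_dvd_of_pow_eq_one hw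
  obtain ⟨k, -, hk⟩ := (Nat.dvd_prime_pow hq).mp hdy
  refine ⟨y, w, hgyw, ?_, ⟨k, hk⟩, ?_, ?_, ?_, ?_⟩
  · show Commute (g ^ ((b : ℤ) * B)) (g ^ (((q ^ a : ℕ) : ℤ) * A))
    exact (Commute.refl g).zpow_zpow _ _
  · intro hqw
    exact hb (hqw.trans hdw)
  · exact hdw.trans (hab ▸ dvd_mul_left b (q ^ a))
  · exact Subgroup.mem_zpowers_iff.mpr ⟨_, rfl⟩
  · exact Subgroup.mem_zpowers_iff.mpr ⟨_, rfl⟩

theorem inj_aux {G : Type*} [Group G] {A : Subgroup G} {s : Set ℕ} (y1 y2 : A) (h : y1 = y2)
    (w1 : Subgroup.centralizer ({(y1 : G)} : Set G)) (w2 : Subgroup.centralizer ({(y2 : G)} : Set G))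
    (p1 : IsPiClass s (ConjClasses.mk w1)) (p2 : IsPiClass s (ConjClasses.mk w2))
    (hw : HEq (⟨ConjClasses.mk w1, p1⟩ : {E : ConjClasses (Subgroup.centralizer ({(y1 : G)} : Set G)) // IsPiClass s E})
      (⟨ConjClasses.mk w2, p2⟩ : {E : ConjClasses (Subgroup.centralizer ({(y2 : G)} : Set G)) // IsPiClass s E})) :
    ConjClasses.mk ((y1 : G) * (w1 : G)) = ConjClasses.mk ((y2 : G) * (w2 : G)) := by
  subst h
  have h3 := eq_of_heq hw
  have h4 : ConjClasses.mk w1 = ConjClasses.mk w2 := congrArg Subtype.val h3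
  obtain ⟨t, ht⟩ := isConj_iff.mp (ConjClasses.mk_eq_mk_iff_isConj.mp h4)
  rw [ConjClasses.mk_eq_mk_iff_isConj, isConj_iff]
  refine ⟨t, ?_⟩
  have ht' : (t : G) * (w1 : G) * (t : G)⁻¹ = w2 := by
    have := congrArg Subtype.val ht
    simpa using this
  have hty : (y1 : G) * (t : G) = (t : G) * (y1 : G) := by
    have := t.2
    rw [Subgroup.mem_centralizer_singleton_iff] at this
    exact this.symm
  calc (t : G) * ((y1 : G) * (w1 : G)) * (t : G)⁻¹
      = ((t : G) * (y1 : G)) * (w1 : G) * (t : G)⁻¹ := by group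
    _ = ((y1 : G) * (t : G)) * (w1 : G) * (t : G)⁻¹ := by rw [hty]
    _ = (y1 : G) * ((t : G) * (w1 : G) * (t : G)⁻¹) := by group
    _ = (y1 : G) * (w2 : G) := by rw [ht']

/-- The main bound, by induction on the finite set of primes. -/
theorem main_bound (s : Finset ℕ) (hs : ∀ t ∈ s, t.Prime) :
    ∀ (G : Type*) [Group G] [Finite G],
      Nat.card {C : ConjClasses G // IsPiClass (s : Set ℕ) C} ≤ piPart G s := by
  classical
  induction s using Finset.induction_on with
  | empty =>
    intro G _ _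
    simp only [piPart, Finset.prod_empty]
    have hfin : Finite {C : ConjClasses G // IsPiClass ((∅ : Finset ℕ) : Set ℕ) C} := inferInstance
    have hsub : Subsingleton {C : ConjClasses G // IsPiClass ((∅ : Finset ℕ) : Set ℕ) C} := by
      refine ⟨?_⟩
      rintro ⟨C, hC⟩ ⟨D, hD⟩
      apply Subtype.ext
      have key : ∀ E : ConjClasses G, IsPiClass ((∅ : Finset ℕ) : Set ℕ) E → E = ConjClasses.mk 1 := by
        intro E hE
        obtain ⟨g, rfl⟩ := ConjClasses.exists_rep E
        have h1 : orderOf g = 1 := by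
          by_contra hne
          obtain ⟨q, hq, hqd⟩ := Nat.exists_prime_and_dvd hne
          exact absurd (hE q hq ⟨g, rfl, hqd⟩) (by simp)
        rw [orderOf_eq_one_iff.mp h1]
      show C = D
      rw [key C hC, key D hD]
    exact Finite.card_le_one_iff_subsingleton.mpr hsub
  | insert q s hqs ih =>
    intro G _ _
    have hq : q.Prime := hs q (Finset.mem_insert_self q s)
    have hs' : ∀ t ∈ s, t.Prime := fun t ht => hs t (Finset.mem_insert_of_mem ht)
    have hqf : Fact q.Prime := ⟨hq⟩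
    have Q : Sylow q G := default
    -- target sigma type
    let T := Σ y : (Q : Subgroup G), {C : ConjClasses (Subgroup.centralizer ({(y : G)} : Set G)) // IsPiClass (s : Set ℕ) C}
    -- each class has a representative with q-part in Q
    have hrep : ∀ C : {C : ConjClasses G // IsPiClass ((insert q s : Finset ℕ) : Set ℕ) C},
        ∃ (y : (Q : Subgroup G)) (w : Subgroup.centralizer ({(y : G)} : Set G)),
          ConjClasses.mk ((y : G) * (w : G)) = C.1 ∧ IsPiClass (s : Set ℕ) (ConjClasses.mk w) := by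
      rintro ⟨C, hC⟩
      obtain ⟨g, rfl⟩ := ConjClasses.exists_rep C
      · obtain ⟨y0, w0, hg, hcomm, ⟨k, hk⟩, hqw, hdw, hy0, hw0⟩ := primary_decomp q hq g
        -- conjugate y0 into Q
        have hzy : IsPGroup q (Subgroup.zpowers y0) :=
          IsPGroup.of_card (n := k) (by rw [Nat.card_zpowers, hk])
        obtain ⟨S, hS⟩ := hzy.exists_le_sylow
        obtain ⟨c, hc⟩ := MulAction.exists_smul_eq G S Q
        have hy0S : y0 ∈ (S : Subgroup G) := hS (Subgroup.mem_zpowers y0)
        have hyQ : c * y0 * c⁻¹ ∈ (Q : Subgroup G) := by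
          rw [← hc, Sylow.coe_subgroup_smul]
          exact (Subgroup.mem_smul_pointwise_iff_exists _ _ _).mpr ⟨y0, hy0S, by simp [MulAut.smul_def]⟩
        have hwc : c * w0 * c⁻¹ ∈ Subgroup.centralizer ({c * y0 * c⁻¹} : Set G) := by
          rw [Subgroup.mem_centralizer_singleton_iff]
          have := hcomm.eq
          calc c * w0 * c⁻¹ * (c * y0 * c⁻¹) = c * (w0 * y0) * c⁻¹ := by group
            _ = c * (y0 * w0) * c⁻¹ := by rw [hcomm.eq]
            _ = c * y0 * c⁻¹ * (c * w0 * c⁻¹) := by group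
        refine ⟨⟨c * y0 * c⁻¹, hyQ⟩, ⟨c * w0 * c⁻¹, hwc⟩, ?_, ?_⟩
        · simp only
          rw [ConjClasses.mk_eq_mk_iff_isConj]
          rw [hg]
          refine isConj_iff.mpr ⟨c⁻¹, by group⟩
        · -- primes of w lie in s
          intro t ht ⟨a, ha, hta⟩
          have hconj : IsConj (⟨c * w0 * c⁻¹, hwc⟩ : Subgroup.centralizer ({c * y0 * c⁻¹} : Set G)) a := by
            have := ConjClasses.mk_eq_mk_iff_isConj.mp ha
            exact this.symm
          have hord : orderOf a = orderOf w0 := by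
            have h1 : orderOf a = orderOf (⟨c * w0 * c⁻¹, hwc⟩ : Subgroup.centralizer ({c * y0 * c⁻¹} : Set G)) := by
              obtain ⟨t, ht⟩ := isConj_iff.mp hconj
              rw [← ht]
              simpa [MulAut.conj_apply] using (MulEquiv.orderOf_eq (MulAut.conj t) (⟨c * w0 * c⁻¹, hwc⟩ : Subgroup.centralizer ({c * y0 * c⁻¹} : Set G)))
            rw [h1, Subgroup.orderOf_mk]
            simpa [MulAut.conj_apply] using (MulEquiv.orderOf_eq (MulAut.conj c) w0)
          rw [hord] at hta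
          have hts : t ∈ ((insert q s : Finset ℕ) : Set ℕ) :=
            hC t ht ⟨g, rfl, hta.trans hdw⟩
          simp only [Finset.coe_insert, Set.mem_insert_iff] at hts
          rcases hts with rfl | hts
          · exact absurd hta hqw
          · exact hts
    choose fy fw hfm hfp using hrep
    let Φ : {C : ConjClasses G // IsPiClass ((insert q s : Finset ℕ) : Set ℕ) C} → T :=
      fun C => ⟨fy C, ⟨ConjClasses.mk (fw C), hfp C⟩⟩
    have hΦ : Function.Injective Φ := by
      intro C D hCD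
      have h1 : fy C = fy D := congrArg Sigma.fst hCD
      apply Subtype.ext
      rw [← hfm C, ← hfm D]
      exact inj_aux _ _ h1 _ _ _ _ (Sigma.mk.inj_iff.mp hCD).2
    have hfinT : Finite T := inferInstance
    have : Fintype ↥(Q : Subgroup G) := Fintype.ofFinite _
    have h1 := Nat.card_le_card_of_injective Φ hΦ
    refine le_trans h1 ?_
    rw [Nat.card_sigma]
    have h2 : ∀ y : (Q : Subgroup G), Nat.card {C : ConjClasses (Subgroup.centralizer ({(y : G)} : Set G)) // IsPiClass (s : Set ℕ) C} ≤ piPart G s := by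
      intro y
      exact le_trans (ih hs' _) (piPart_mono _ s hs')
    have h3 : Nat.card (Q : Subgroup G) = q ^ (Nat.card G).factorization q := Sylow.card_eq_multiplicity Q
    calc ∑ y : (Q : Subgroup G), _ ≤ ∑ _y : (Q : Subgroup G), piPart G s := Finset.sum_le_sum fun y _ => h2 y
      _ = Nat.card (Q : Subgroup G) * piPart G s := by
        rw [Finset.sum_const, smul_eq_mul, Finset.card_univ, Nat.card_eq_fintype_card]
      _ = piPart G (insert q s) := by
        rw [h3]
        unfold piPart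
        rw [Finset.prod_insert hqs]

/-- Let G be a finite group, π a set of primes and m the π-part of the order of G. Then the number of conjugacy classes of G consisting of π-elements (elements whose order is divisible only by primes in π) is at most m. -/
theorem result {G : Type*} [Group G] [Finite G]
    (π : Set ℕ) (hπ : ∀ q ∈ π, q.Prime)
    (m : ℕ) (hm : m ∣ Nat.card G) (hmπ : ∀ q : ℕ, q.Prime → q ∣ m → q ∈ π)
    (hm' : ∀ q ∈ π, ¬ q ∣ Nat.card G / m) :
    Nat.card {C : ConjClasses G // ∀ q : ℕ, q.Prime → (∃ g : G, ConjClasses.mk g = C ∧ q ∣ orderOf g) → q ∈ π} ≤ m := by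
  classical
  let s : Finset ℕ := (Nat.card G).primeFactors.filter (· ∈ π)
  have hs : ∀ t ∈ s, t.Prime := fun t ht => Nat.prime_of_mem_primeFactors (Finset.mem_filter.mp ht).1
  have hmpos : 0 < m := Nat.pos_of_dvd_of_pos hm Nat.card_pos
  have hb := main_bound s hs G
  have hinj : Nat.card {C : ConjClasses G // ∀ q : ℕ, q.Prime → (∃ g : G, ConjClasses.mk g = C ∧ q ∣ orderOf g) → q ∈ π} ≤
      Nat.card {C : ConjClasses G // IsPiClass (s : Set ℕ) C} := by
    refine Nat.card_le_card_of_injective (fun C => ⟨C.1, ?_⟩) ?_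
    · intro q hq hex
      have hqπ := C.2 q hq hex
      obtain ⟨g, -, hqg⟩ := hex
      have hqd : q ∣ Nat.card G := hqg.trans (orderOf_dvd_natCard g)
      simp only [s, Finset.coe_filter, Set.mem_ofPred_eq]
      exact ⟨Nat.mem_primeFactors.mpr ⟨hq, hqd, Nat.card_pos.ne'⟩, hqπ⟩
    · intro C D h
      exact Subtype.ext (congrArg (fun E => E.1) h)
  refine le_trans hinj (le_trans hb ?_)
  apply Nat.le_of_dvd hmpos
  unfold piPart
  apply Finset.prod_dvd_of_isRelPrime
  · intro a ha b hb hab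
    exact Nat.coprime_iff_isRelPrime.mp (Nat.Coprime.pow _ _ ((Nat.coprime_primes (hs a ha) (hs b hb)).mpr hab))
  · intro t ht
    have htp := hs t ht
    have htπ : t ∈ π := (Finset.mem_filter.mp ht).2
    have h1 := hm' t htπ
    have h2 : t ^ (Nat.card G).factorization t ∣ Nat.card G := Nat.ordProj_dvd _ _
    have h3 : Nat.card G = m * (Nat.card G / m) := (Nat.mul_div_cancel' hm).symm
    rw [h3] at h2
    rw [← h3] at h2
    have h4 : Nat.Coprime (t ^ (Nat.card G).factorization t) (Nat.card G / m) :=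
      Nat.Coprime.pow_left _ ((Nat.Prime.coprime_iff_not_dvd htp).mpr h1)
    have h5 : t ^ (Nat.card G).factorization t ∣ m * (Nat.card G / m) := by
      rw [← h3]; exact h2
    exact h4.dvd_of_dvd_mul_right h5

end Cfsg.Agent.S4106
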