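import Mathlib
import Cfsg.Statements.S0948
import Cfsg.Agent.S0947
import Cfsg.Agent.S4710

set_option autoImplicit false
set_option linter.unusedSectionVars false
set_option linter.unusedVariables false
set_option linter.style.haveILetI false
open Cfsg

namespace Cfsg.Agent.S0948

open Cfsg.Agent.Lib.CharBasic Cfsg.Agent.Lib.BlockLocal Cfsg.Agent.Lib.BlockIdem
open Cfsg.Agent.Lib.BlockNormal Cfsg.Agent.Lib.BlockQ
open scoped ComplexConjugate

universe u

section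
variable {G : Type u} [Group G] [Fintype G]

theorem value_eq_of_conj (ζ : IrrCharacter G) {s t : G} (h : IsConj s t) :
    (ζ : G → ℂ) s = (ζ : G → ℂ) t := by
  obtain ⟨c, hc⟩ := isConj_iff.1 h
  rw [← hc]
  exact (isClassFunction_of_isCharacter (IsIrrCharacter.isCharacter ζ.2) s c).symm

/-- The sum of a character over a subgroup of exponent two in a group with one class of involutions. -/
theorem exists_sum_inv_subgroup (Z : Subgroup G) (hZ : ∀ x ∈ Z, x * x = 1) {z : G}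
    (hz : orderOf z = 2)
    (hone : ∀ s t : G, orderOf s = 2 → orderOf t = 2 → IsConj s t) (ζ : IrrCharacter G) :
    ∃ m : ℕ, (ζ : G → ℂ) 1 + ((Nat.card Z : ℂ) - 1) * (ζ : G → ℂ) z = (Nat.card Z : ℂ) * m := by
  classical
  letI : Fintype Z := Fintype.ofFinite Z
  have hζ := IsIrrCharacter.isCharacter ζ.2
  obtain ⟨m, hm⟩ := classInner_char_char (G := Z) (isCharacter_restrict Z hζ) isCharacter_one
  have h1 : (∑ x : Z, (ζ : G → ℂ) (x : G)) = (Nat.card Z : ℂ) * m := by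
    rw [← hm]
    unfold classInner
    have : (Nat.card Z : ℂ) ≠ 0 := natCard_ne_zero'
    rw [mul_inv_cancel_left₀ this]
    simp
  refine ⟨m, ?_⟩
  rw [← h1, ← Finset.add_sum_erase Finset.univ _ (Finset.mem_univ (1 : Z))]
  have h2 : ∀ x ∈ Finset.univ.erase (1 : Z), (ζ : G → ℂ) (x : G) = (ζ : G → ℂ) z := by
    intro x hx
    have hx1 : (x : G) ≠ 1 := by
      intro h
      exact (Finset.mem_erase.mp hx).1 (Subtype.ext h)
    have hord : orderOf (x : G) = 2 := orderOf_eq_prime (by rw [sq]; exact hZ x x.2) hx1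
    exact value_eq_of_conj ζ (hone _ _ hord hz)
  rw [Finset.sum_congr rfl h2, Finset.sum_const, Finset.card_erase_of_mem (Finset.mem_univ _),
    Finset.card_univ, ← Nat.card_eq_fintype_card]
  have hc : 1 ≤ Nat.card Z := Nat.card_pos
  simp only [Subgroup.coe_one, nsmul_eq_mul]
  rw [Nat.cast_sub hc]
  simp

/-- The value at an involution is an integer congruent mod 4 to the degree. -/
theorem exists_int_value (P : Subgroup G) (hP4 : Nat.card P = 4) (hPexp : ∀ x ∈ P, x * x = 1)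
    {z : G} (hz : orderOf z = 2)
    (hone : ∀ s t : G, orderOf s = 2 → orderOf t = 2 → IsConj s t) (ζ : IrrCharacter G) :
    ∃ t : ℤ, (ζ : G → ℂ) z = (t : ℂ) ∧ (4 : ℤ) ∣ (charDegree (ζ : G → ℂ) : ℤ) - t := by
  obtain ⟨m₁, hm₁⟩ := exists_sum_inv_subgroup P hPexp hz hone ζ
  have hZexp : ∀ x ∈ Subgroup.zpowers z, x * x = 1 := by
    intro x hx
    obtain ⟨k, rfl⟩ := Subgroup.mem_zpowers_iff.1 hx
    have h2 : z * z = 1 := by
      rw [← sq, ← hz]
      exact pow_orderOf_eq_one z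
    rw [← zpow_add, ← two_mul, zpow_mul]
    have : z ^ (2 : ℤ) = 1 := by
      rw [zpow_two, h2]
    rw [this, one_zpow]
  obtain ⟨m₂, hm₂⟩ := exists_sum_inv_subgroup (Subgroup.zpowers z) hZexp hz hone ζ
  rw [Nat.card_zpowers, hz] at hm₂
  rw [hP4] at hm₁
  push_cast at hm₁ hm₂
  have hdeg := Cfsg.Agent.Lib.CharKernel.one_eq_charDegree (IsIrrCharacter.isCharacter ζ.2)
  refine ⟨2 * (m₁ : ℤ) - m₂, ?_, ⟨(m₂ : ℤ) - m₁, ?_⟩⟩
  · push_cast
    linear_combination (1 / 2 : ℂ) * hm₁ - (1 / 2 : ℂ) * hm₂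
  · have h : (((charDegree (ζ : G → ℂ) : ℤ) - (2 * (m₁ : ℤ) - m₂) : ℤ) : ℂ) =
        ((4 * ((m₂ : ℤ) - m₁) : ℤ) : ℂ) := by
      push_cast
      rw [← hdeg]
      linear_combination (-1 / 2 : ℂ) * hm₁ + (3 / 2 : ℂ) * hm₂
    exact_mod_cast h

theorem comm_of_exp_two {P : Subgroup G} (hPexp : ∀ x ∈ P, x * x = 1) {a b : G} (ha : a ∈ P)
    (hb : b ∈ P) : a * b = b * a := by
  have h1 : ∀ x ∈ P, x⁻¹ = x := fun x hx => (eq_inv_of_mul_eq_one_left (hPexp x hx)).symm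
  rw [← h1 (a * b) (P.mul_mem ha hb), mul_inv_rev, h1 a ha, h1 b hb]

/-- Normalizer elements fixing `z` act trivially on a Klein four Sylow subgroup. -/
theorem conj_eq_self (P : Sylow 2 G) (hP : IsKleinFour (P : Subgroup G)) {z : G}
    (hzP : z ∈ (P : Subgroup G)) (hz1 : z ≠ 1) {g : G} (hgz : g * z = z * g)
    (hgP : g ∈ Subgroup.normalizer ((P : Subgroup G) : Set G)) {x : G}
    (hx : x ∈ (P : Subgroup G)) : g * x * g⁻¹ = x := by
  classical
  haveI := hP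
  have hPexp : ∀ x ∈ (P : Subgroup G), x * x = 1 := fun x hx =>
    congrArg Subtype.val (IsKleinFour.mul_self (⟨x, hx⟩ : (P : Subgroup G)))
  have hsz : g * z * g⁻¹ = z := by rw [hgz]; group
  have hmemN := Subgroup.mem_normalizer_iff.1 hgP
  have hσP : ∀ x ∈ (P : Subgroup G), g * x * g⁻¹ ∈ (P : Subgroup G) := fun x hx =>
    (hmemN x).1 hx
  -- `σ x = x ∨ σ x = z x`
  have h1 : ∀ x ∈ (P : Subgroup G), g * x * g⁻¹ = x ∨ g * x * g⁻¹ = z * x := by
    intro x hx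
    by_cases hx1 : x = 1
    · left; rw [hx1]; group
    by_cases hxz : x = z
    · left; rw [hxz, hsz]
    by_cases h : g * x * g⁻¹ = x
    · exact Or.inl h
    right
    have hne1 : g * x * g⁻¹ ≠ 1 := by
      intro h2
      apply hx1
      have h3 : g * x = g := by
        calc g * x = (g * x * g⁻¹) * g := by group
          _ = g := by rw [h2, one_mul]
      exact mul_left_cancel (h3.trans (mul_one g).symm)
    have hnez : g * x * g⁻¹ ≠ z := by
      intro h2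
      apply hxz
      have h3 : g * x * g⁻¹ = g * z * g⁻¹ := by rw [h2, hsz]
      exact mul_left_cancel (mul_right_cancel h3)
    have h4 := IsKleinFour.eq_mul_of_ne_all (G := (P : Subgroup G)) (x := ⟨z, hzP⟩) (y := ⟨x, hx⟩)
      (z := ⟨g * x * g⁻¹, hσP x hx⟩)
      (fun h => hz1 (congrArg Subtype.val h))
      (fun h => hx1 (congrArg Subtype.val h))
      (fun h => hxz (congrArg Subtype.val h).symm)
      (fun h => hne1 (congrArg Subtype.val h))
      (fun h => hnez (congrArg Subtype.val h))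
      (fun h => ‹¬ g * x * g⁻¹ = x› (congrArg Subtype.val h))
    exact congrArg Subtype.val h4
  -- `σ² = 1`
  have h2 : ∀ x ∈ (P : Subgroup G), Commute (g * g) x := by
    intro x hx
    have h3 : g * (g * x * g⁻¹) * g⁻¹ = x := by
      rcases h1 x hx with h | h
      · rw [h, h]
      · rw [h]
        have h4 : g * (z * x) * g⁻¹ = (g * z * g⁻¹) * (g * x * g⁻¹) := by group
        rw [h4, hsz, h, ← mul_assoc, hPexp z hzP, one_mul]
    show g * g * x = x * (g * g)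
    calc g * g * x = (g * (g * x * g⁻¹) * g⁻¹) * (g * g) := by group
      _ = x * (g * g) := by rw [h3]
  -- the odd part
  have hn : orderOf g ≠ 0 := (orderOf_pos g).ne'
  obtain ⟨s, t, hodd, ht⟩ := Nat.exists_eq_two_pow_mul_odd hn
  set h := g ^ t with hh
  have hhpow : h ^ (2 ^ s) = 1 := by
    rw [hh, ← pow_mul, mul_comm, ← ht]
    exact pow_orderOf_eq_one g
  have hpg : IsPGroup 2 (Subgroup.zpowers h) := by
    obtain ⟨k, -, hk⟩ := (Nat.dvd_prime_pow Nat.prime_two).1 (orderOf_dvd_of_pow_eq_one hhpow)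
    apply IsPGroup.of_card (n := k)
    rw [Nat.card_zpowers, hk]
  have hhN : h ∈ Subgroup.normalizer ((P : Subgroup G) : Set G) :=
    Subgroup.pow_mem _ hgP t
  have hhP : h ∈ (P : Subgroup G) := by
    have h3 := hpg.inf_normalizer_sylow P
    have h4 : h ∈ Subgroup.zpowers h ⊓ Subgroup.normalizer (P : Set G) :=
      ⟨Subgroup.mem_zpowers h, hhN⟩
    rw [h3] at h4
    exact h4.2
  have hcomm : h * x * h⁻¹ = x := by
    rw [comm_of_exp_two hPexp hhP hx]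
    group
  obtain ⟨u, hu⟩ := hodd
  have h6 : h = (g * g) ^ u * g := by
    rw [hh, hu, pow_succ, pow_mul, sq]
  have h7 : Commute ((g * g) ^ u) (g * x * g⁻¹) := (h2 _ (hσP x hx)).pow_left u
  have h8 : h * x * h⁻¹ = (g * g) ^ u * (g * x * g⁻¹) * ((g * g) ^ u)⁻¹ := by
    rw [h6]
    group
  rw [h8, h7.eq, mul_inv_cancel_right] at hcomm
  exact hcomm

/-- The centralizer of an involution has a normal `2`-complement. -/
theorem exists_index_pPrimeCore (P : Sylow 2 G) (hP : IsKleinFour (P : Subgroup G)) {z : G}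
    (hzP : z ∈ (P : Subgroup G)) (hz1 : z ≠ 1) :
    (∃ k : ℕ, (pPrimeCore 2 (Subgroup.centralizer ({z} : Set G))).index = 2 ^ k) ∧
      (Nat.card (Subgroup.centralizer ({z} : Set G))).factorization 2 = 2 := by
  classical
  haveI := hP
  have hPexp : ∀ x ∈ (P : Subgroup G), x * x = 1 := fun x hx =>
    congrArg Subtype.val (IsKleinFour.mul_self (⟨x, hx⟩ : (P : Subgroup G)))
  have hP4 : Nat.card (P : Subgroup G) = 4 := IsKleinFour.card_four
  set H := Subgroup.centralizer ({z} : Set G) with hH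
  have hPH : (P : Subgroup G) ≤ H := by
    intro x hx
    rw [hH, Subgroup.mem_centralizer_singleton_iff]
    exact comm_of_exp_two hPexp hx hzP
  set P' : Sylow 2 H := P.subtype hPH with hP'
  have hP'card : Nat.card (P' : Subgroup H) = 4 := by
    rw [← hP4, hP', Sylow.coe_subtype]
    exact Nat.card_congr (Subgroup.subgroupOfEquivOfLe hPH).toEquiv
  have hN : Subgroup.normalizer ((P' : Subgroup H) : Set H) ≤ Subgroup.centralizer ((P' : Subgroup H) : Set H) := by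
    intro g hg
    rw [Subgroup.mem_centralizer_iff]
    intro x hx
    have hx' : (x : G) ∈ (P : Subgroup G) := by
      rw [hP', Sylow.coe_subtype] at hx
      exact hx
    have hgP : (g : G) ∈ Subgroup.normalizer ((P : Subgroup G) : Set G) := by
      rw [Subgroup.mem_normalizer_iff]
      intro y
      have hmem := Subgroup.mem_normalizer_iff.1 hg
      constructor
      · intro hy
        have hyH : y ∈ H := hPH hy
        have h1 := (hmem ⟨y, hyH⟩).1 (by rw [hP', Sylow.coe_subtype]; exact hy)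
        rw [hP', Sylow.coe_subtype] at h1
        exact h1
      · intro hy
        have hyH : (g : G) * y * (g : G)⁻¹ ∈ H := hPH hy
        have hyH' : y ∈ H := by
          have : y = (g : G)⁻¹ * ((g : G) * y * (g : G)⁻¹) * (g : G) := by group
          rw [this]
          exact H.mul_mem (H.mul_mem (H.inv_mem g.2) hyH) g.2
        have h1 := (hmem ⟨y, hyH'⟩).2 (by rw [hP', Sylow.coe_subtype]; exact hy)
        rw [hP', Sylow.coe_subtype] at h1
        exact h1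
    have hgz : (g : G) * z = z * g := by
      have h5 : (g : G) ∈ Subgroup.centralizer ({z} : Set G) := g.2
      exact Subgroup.mem_centralizer_singleton_iff.1 h5
    have h2 := conj_eq_self P hP hzP hz1 hgz hgP hx'
    apply Subtype.ext
    show (x : G) * g = g * x
    calc (x : G) * g = (g * x * (g : G)⁻¹) * g := by rw [h2]
      _ = g * x := by group
  have hc := MonoidHom.ker_transferSylow_isComplement' P' hN
  have hKodd := MonoidHom.not_dvd_card_ker_transferSylow P' hN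
  set K := (MonoidHom.transferSylow P' hN).ker with hK
  have hKn : K.Normal := MonoidHom.normal_ker _
  have hKcop : (Nat.card K).Coprime 2 :=
    ((Nat.Prime.coprime_iff_not_dvd Nat.prime_two).2 hKodd).symm
  have hle : K ≤ pPrimeCore 2 H := Cfsg.Agent.Lib.PCore.le_pPrimeCore hKn hKcop
  have hidx : (pPrimeCore 2 H).index ∣ K.index := Subgroup.index_dvd_of_le hle
  have hKidx : K.index = 4 := by
    rw [hc.symm.index_eq_card, hP'card]
  constructor
  · rw [hKidx] at hidx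
    obtain ⟨k, -, hk⟩ := (Nat.dvd_prime_pow Nat.prime_two).1 (show (pPrimeCore 2 H).index ∣ 2 ^ 2 from hidx)
    exact ⟨k, hk⟩
  · have h3 := Sylow.card_eq_multiplicity P'
    rw [hP'card] at h3
    have h4 : (2 : ℕ) ^ 2 = 2 ^ (Nat.card H).factorization 2 := h3
    exact (Nat.pow_right_injective (le_refl 2) h4).symm

/-- The main computation. -/
theorem main (M : Ideal AlgInt) (hM : IsPModular 2 M) (P : Sylow 2 G)
    (hP : IsKleinFour (P : Subgroup G))
    (hone : ∀ s t : G, orderOf s = 2 → orderOf t = 2 → IsConj s t) :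
    ∃ ζ₂ ζ₃ ζ₄ : IrrCharacter G, ∃ ε : ℤ, (ε = 1 ∨ ε = -1) ∧ (ζ₂ : G → ℂ) ≠ (fun _ => 1) ∧
      (ζ₃ : G → ℂ) ≠ (fun _ => 1) ∧ ζ₂ ≠ ζ₃ ∧ ζ₂ ≠ ζ₄ ∧ ζ₃ ≠ ζ₄ ∧
      principalBlock M G = {χ : IrrCharacter G | (χ : G → ℂ) = (fun _ => 1) ∨ χ = ζ₂ ∨ χ = ζ₃ ∨ χ = ζ₄} ∧
      (∀ z : G, orderOf z = 2 → (ζ₂ : G → ℂ) z = 1 ∧ (ζ₃ : G → ℂ) z = (ε : ℂ) ∧ (ζ₄ : G → ℂ) z = -1) ∧
      (4 : ℤ) ∣ (charDegree (ζ₂ : G → ℂ) : ℤ) - 1 ∧ (4 : ℤ) ∣ (charDegree (ζ₃ : G → ℂ) : ℤ) - ε ∧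
      (4 : ℤ) ∣ (charDegree (ζ₄ : G → ℂ) : ℤ) + 1 ∧
      ∀ y : G, Odd (orderOf y) → 1 + (ζ₂ : G → ℂ) y + (ε : ℂ) * (ζ₃ : G → ℂ) y - (ζ₄ : G → ℂ) y = 0 := by
  classical
  haveI := hP
  haveI hMp := hM.2.1.isPrime
  have hPexp : ∀ x ∈ (P : Subgroup G), x * x = 1 := fun x hx =>
    congrArg Subtype.val (IsKleinFour.mul_self (⟨x, hx⟩ : (P : Subgroup G)))
  have hP4 : Nat.card (P : Subgroup G) = 4 := IsKleinFour.card_four
  haveI : Nontrivial (P : Subgroup G) :=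
    Finite.one_lt_card_iff_nontrivial.mp (by rw [hP4]; norm_num)
  obtain ⟨z₀, hz₀⟩ := exists_ne (1 : (P : Subgroup G))
  set z : G := (z₀ : G) with hzdef
  have hzP : z ∈ (P : Subgroup G) := z₀.2
  have hz1 : z ≠ 1 := fun h => hz₀ (Subtype.ext h)
  have hzz : z * z = 1 := hPexp z hzP
  have hz2 : orderOf z = 2 := orderOf_eq_prime (by rw [sq]; exact hzz) hz1
  have hzinv : z⁻¹ = z := (eq_inv_of_mul_eq_one_left hzz).symm
  obtain ⟨hk, hf⟩ := exists_index_pPrimeCore P hP hzP hz1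
  set B₀ := principalBlock M G with hB₀def
  have hB₀ : IsPBlock M B₀ := isPBlock_principalBlock M
  -- the column sum
  have hS := (Cfsg.Agent.S0947.result 2 M hM z ⟨1, by simpa using hz2⟩ hz1
    (1 : Subgroup.centralizer ({z} : Set G)) (by simp)).2 hk
  rw [hf] at hS
  -- integrality
  choose t ht ht' using fun ζ : IrrCharacter G => exists_int_value (P : Subgroup G) hP4 hPexp hz2 hone ζ
  set F := bF B₀ with hF
  have hsum : ∑ ζ ∈ F, (t ζ) ^ 2 = 4 := by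
    have h1 : ∑ ζ ∈ F, ‖(ζ : G → ℂ) (z * ((1 : Subgroup.centralizer ({z} : Set G)) : G))‖ ^ 2 =
        ((2 ^ 2 : ℕ) : ℝ) := by
      rw [← finsum_mem_eq_sum_bF]
      exact hS
    have h2 : ∀ ζ ∈ F, ‖(ζ : G → ℂ) (z * ((1 : Subgroup.centralizer ({z} : Set G)) : G))‖ ^ 2 =
        (((t ζ) ^ 2 : ℤ) : ℝ) := by
      intro ζ _
      simp only [Subgroup.coe_one, mul_one]
      rw [ht ζ, Complex.norm_intCast]
      push_cast
      exact sq_abs _
    rw [Finset.sum_congr rfl h2] at h1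
    have h3 : ((∑ ζ ∈ F, (t ζ) ^ 2 : ℤ) : ℝ) = ((4 : ℤ) : ℝ) := by
      push_cast at h1 ⊢
      rw [h1]
    exact_mod_cast h3
  -- odd degrees
  have hPcard : (Nat.card G).factorization 2 = 2 := by
    have h3 := Sylow.card_eq_multiplicity P
    rw [hP4] at h3
    have h4 : (2 : ℕ) ^ 2 = 2 ^ (Nat.card G).factorization 2 := h3
    exact (Nat.pow_right_injective (le_refl 2) h4).symm
  have hminexp : minExp 2 B₀ = 0 := by
    have h1 := minExp_le (p := 2) (irrOne_mem_principalBlock (G := G) M)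
    have h2 : charDegree ((irrOne G : IrrCharacter G) : G → ℂ) = 1 := by
      simp [charDegree, irrOne]
    rw [h2] at h1
    simpa using h1
  have hd : blockDefect 2 B₀ = 2 := by
    have h1 := card_factorization_eq (M := M) (p := 2) hB₀
    omega
  have hoddeg : ∀ ζ ∈ F, ¬ (2 : ℕ) ∣ charDegree (ζ : G → ℂ) := by
    intro ζ hζ
    have hζB : ζ ∈ B₀ := mem_bF.mp hζ
    have hh : blockHeight 2 B₀ (ζ : G → ℂ) = 0 := by
      by_contra hne
      have := Cfsg.Agent.S4710.height_add_two_le hM hB₀ hζB (Nat.pos_of_ne_zero hne)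
      omega
    have h1 := charDegree_factorization_eq (p := 2) hζB
    rw [hh, hminexp] at h1
    intro h2
    have h3 := (Nat.prime_two.dvd_iff_one_le_factorization
      (Cfsg.Agent.Lib.CharKernel.charDegree_ne_zero ζ.2)).mp h2
    omega
  have hodd : ∀ ζ ∈ F, ¬ (2 : ℤ) ∣ t ζ := by
    intro ζ hζ h2
    apply hoddeg ζ hζ
    obtain ⟨c, hc⟩ := ht' ζ
    have h3 : (2 : ℤ) ∣ (charDegree (ζ : G → ℂ) : ℤ) := by
      have h4 : (charDegree (ζ : G → ℂ) : ℤ) = t ζ + 4 * c := by linarith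
      rw [h4]
      exact dvd_add h2 ⟨2 * c, by ring⟩
    exact_mod_cast h3
  have hsq : ∀ ζ ∈ F, t ζ = 1 ∨ t ζ = -1 := by
    intro ζ hζ
    have h1 : (t ζ) ^ 2 ≤ 4 := by
      rw [← hsum]
      exact Finset.single_le_sum (f := fun ζ => (t ζ) ^ 2) (fun _ _ => sq_nonneg _) hζ
    have h2 := hodd ζ hζ
    have h3 : t ζ ≤ 2 := by nlinarith
    have h4 : -2 ≤ t ζ := by nlinarith
    generalize t ζ = w at *
    interval_cases w <;> simp_all
  have hcard : F.card = 4 := by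
    have h1 : ∑ ζ ∈ F, (t ζ) ^ 2 = ∑ ζ ∈ F, (1 : ℤ) := by
      refine Finset.sum_congr rfl fun ζ hζ => ?_
      rcases hsq ζ hζ with h | h <;> rw [h] <;> norm_num
    rw [hsum] at h1
    simp only [Finset.sum_const, nsmul_eq_mul, mul_one] at h1
    exact_mod_cast h1.symm
  -- the orthogonality relation
  have horth : ∀ y : G, ¬ (2 : ℕ) ∣ orderOf y → ∑ ζ ∈ F, (ζ : G → ℂ) y * (t ζ : ℂ) = 0 := by
    intro y hy
    have h1 := Cfsg.Agent.Lib.BlockOrth.weak_block_orthogonality hM hB₀ hy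
      (y := z) (by rw [hz2])
    rw [finsum_mem_eq_sum_bF, hzinv] at h1
    rw [← h1]
    refine Finset.sum_congr rfl fun ζ _ => ?_
    rw [ht ζ]
  have hdeg : ∀ ζ : IrrCharacter G, (ζ : G → ℂ) 1 = (charDegree (ζ : G → ℂ) : ℂ) := fun ζ =>
    Cfsg.Agent.Lib.CharKernel.one_eq_charDegree (IsIrrCharacter.isCharacter ζ.2)
  have hdegsum : ∑ ζ ∈ F, (charDegree (ζ : G → ℂ) : ℤ) * t ζ = 0 := by
    have h1 := horth 1 (by simp)
    have h2 : ((∑ ζ ∈ F, (charDegree (ζ : G → ℂ) : ℤ) * t ζ : ℤ) : ℂ) = ((0 : ℤ) : ℂ) := by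
      push_cast
      rw [← h1]
      refine Finset.sum_congr rfl fun ζ _ => ?_
      rw [hdeg]
    exact_mod_cast h2
  set e := irrOne G with he
  have heF : e ∈ F := mem_bF.mpr (irrOne_mem_principalBlock M)
  have hte : t e = 1 := by
    have h1 := ht e
    have h2 : (e : G → ℂ) z = 1 := rfl
    rw [h2] at h1
    have h3 : ((t e : ℤ) : ℂ) = ((1 : ℤ) : ℂ) := by
      rw [← h1]
      simp
    exact_mod_cast h3
  have hdege : charDegree (e : G → ℂ) = 1 := by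
    simp [charDegree, he, irrOne]
  set O := F.erase e with hO
  have hOcard : O.card = 3 := by
    rw [hO, Finset.card_erase_of_mem heF, hcard]
  have hdegO : ∑ ζ ∈ O, (charDegree (ζ : G → ℂ) : ℤ) * t ζ = -1 := by
    rw [← Finset.add_sum_erase _ _ heF, hte, hdege] at hdegsum
    push_cast at hdegsum
    linarith
  have hOF : ∀ ζ ∈ O, ζ ∈ F := fun ζ hζ => Finset.mem_of_mem_erase hζ
  have hdegpos : ∀ ζ : IrrCharacter G, (1 : ℤ) ≤ (charDegree (ζ : G → ℂ) : ℤ) := by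
    intro ζ
    have := Nat.pos_of_ne_zero (Cfsg.Agent.Lib.CharKernel.charDegree_ne_zero ζ.2)
    exact_mod_cast this
  have hneg : ∃ ζ ∈ O, t ζ = -1 := by
    by_contra hcon
    push Not at hcon
    have h1 : ∀ ζ ∈ O, 0 ≤ (charDegree (ζ : G → ℂ) : ℤ) * t ζ := by
      intro ζ hζ
      rcases hsq ζ (hOF ζ hζ) with h | h
      · rw [h]; linarith [hdegpos ζ]
      · exact absurd h (hcon ζ hζ)
    have h2 := Finset.sum_nonneg h1
    omega
  have hpos : ∃ ζ ∈ O, t ζ = 1 := by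
    by_contra hcon
    push Not at hcon
    have h1 : ∀ ζ ∈ O, (charDegree (ζ : G → ℂ) : ℤ) * t ζ ≤ -1 := by
      intro ζ hζ
      rcases hsq ζ (hOF ζ hζ) with h | h
      · exact absurd h (hcon ζ hζ)
      · rw [h]; linarith [hdegpos ζ]
    have h2 := Finset.sum_le_card_nsmul O _ _ h1
    rw [hOcard, hdegO] at h2
    norm_num at h2
  obtain ⟨ζ₂, hζ₂O, hζ₂t⟩ := hpos
  obtain ⟨ζ₄, hζ₄O, hζ₄t⟩ := hneg
  have h24 : ζ₂ ≠ ζ₄ := by
    rintro rfl
    rw [hζ₂t] at hζ₄t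
    norm_num at hζ₄t
  have hζ₄O' : ζ₄ ∈ O.erase ζ₂ := Finset.mem_erase.mpr ⟨h24.symm, hζ₄O⟩
  have hO'card : ((O.erase ζ₂).erase ζ₄).card = 1 := by
    rw [Finset.card_erase_of_mem hζ₄O', Finset.card_erase_of_mem hζ₂O, hOcard]
  obtain ⟨ζ₃, hζ₃⟩ := Finset.card_eq_one.mp hO'card
  have hζ₃mem : ζ₃ ∈ (O.erase ζ₂).erase ζ₄ := by
    rw [hζ₃]
    exact Finset.mem_singleton_self _
  have h34 : ζ₃ ≠ ζ₄ := (Finset.mem_erase.mp hζ₃mem).1
  have hζ₃O' : ζ₃ ∈ O.erase ζ₂ := (Finset.mem_erase.mp hζ₃mem).2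
  have h32 : ζ₃ ≠ ζ₂ := (Finset.mem_erase.mp hζ₃O').1
  have hζ₃O : ζ₃ ∈ O := (Finset.mem_erase.mp hζ₃O').2
  have hne_e : ∀ ζ ∈ O, ζ ≠ e := fun ζ hζ => (Finset.mem_erase.mp hζ).1
  have hcoe : ∀ ζ ∈ O, (ζ : G → ℂ) ≠ (fun _ => 1) := by
    intro ζ hζ h
    exact hne_e ζ hζ (Subtype.ext h)
  -- expansion of sums over `F`
  have hexp : ∀ f : IrrCharacter G → ℂ, ∑ ζ ∈ F, f ζ = f e + f ζ₂ + f ζ₄ + f ζ₃ := by
    intro f
    rw [← Finset.add_sum_erase _ _ heF, ← Finset.add_sum_erase _ _ hζ₂O,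
      ← Finset.add_sum_erase _ _ hζ₄O', hζ₃, Finset.sum_singleton]
    ring
  have hmemF : ∀ χ : IrrCharacter G, χ ∈ F ↔ (χ : G → ℂ) = (fun _ => 1) ∨ χ = ζ₂ ∨ χ = ζ₃ ∨ χ = ζ₄ := by
    intro χ
    constructor
    · intro hχ
      by_cases h1 : χ = e
      · left; rw [h1]; rfl
      right
      have h2 : χ ∈ O := Finset.mem_erase.mpr ⟨h1, hχ⟩
      by_cases h3 : χ = ζ₂
      · exact Or.inl h3
      right
      have h4 : χ ∈ O.erase ζ₂ := Finset.mem_erase.mpr ⟨h3, h2⟩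
      by_cases h5 : χ = ζ₄
      · exact Or.inr h5
      left
      have h6 : χ ∈ (O.erase ζ₂).erase ζ₄ := Finset.mem_erase.mpr ⟨h5, h4⟩
      rw [hζ₃] at h6
      exact Finset.mem_singleton.mp h6
    · rintro (h | rfl | rfl | rfl)
      · have : χ = e := Subtype.ext h
        rw [this]
        exact heF
      · exact hOF _ hζ₂O
      · exact hOF _ hζ₃O
      · exact hOF _ hζ₄O
  refine ⟨ζ₂, ζ₃, ζ₄, t ζ₃, hsq ζ₃ (hOF _ hζ₃O), hcoe _ hζ₂O, hcoe _ hζ₃O, h32.symm, h24, h34,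
    ?_, ?_, ?_, ?_, ?_, ?_⟩
  · ext χ
    show χ ∈ B₀ ↔ (χ : G → ℂ) = (fun _ => 1) ∨ χ = ζ₂ ∨ χ = ζ₃ ∨ χ = ζ₄
    rw [← hmemF χ]
    exact mem_bF.symm
  · intro s hs
    have hconj := hone s z hs hz2
    rw [value_eq_of_conj ζ₂ hconj, value_eq_of_conj ζ₃ hconj, value_eq_of_conj ζ₄ hconj,
      ht ζ₂, ht ζ₃, ht ζ₄, hζ₂t, hζ₄t]
    simp
  · have := ht' ζ₂
    rwa [hζ₂t] at this
  · exact ht' ζ₃
  · have := ht' ζ₄
    rwa [hζ₄t, sub_neg_eq_add] at this
  · intro y hy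
    have hy2 : ¬ (2 : ℕ) ∣ orderOf y := fun h => by
      obtain ⟨c, hc⟩ := hy
      omega
    have h1 := horth y hy2
    rw [hexp, hte, hζ₂t, hζ₄t] at h1
    have h2 : (e : G → ℂ) y = 1 := rfl
    rw [h2] at h1
    push_cast at h1
    linear_combination h1

end

/-- Let the finite group G have a Sylow 2-subgroup P that is a Klein four-group, suppose all involutions of G are conjugate, and fix a maximal ideal M of the algebraic integers containing 2. Then the principal block consists of exactly four irreducible characters, the principal character and ζ₂, ζ₃, ζ₄, and there is a sign ε such that for every involution z: ζ₂ z = 1, ζ₃ z = ε, ζ₄ z = -1; moreover ζ₂ 1 ≡ 1, ζ₃ 1 ≡ ε, ζ₄ 1 ≡ -1 (mod 4), and 1 + ζ₂ y + ε ζ₃ y - ζ₄ y = 0 for every y of odd order. -/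
theorem result {G : Type*} [Group G] [Finite G] (M : Ideal Cfsg.AlgInt) (hM : Cfsg.IsPModular 2 M) (P : Sylow 2 G) (hP : IsKleinFour (P : Subgroup G)) (hone : ∀ s t : G, orderOf s = 2 → orderOf t = 2 → IsConj s t) : ∃ ζ₂ ζ₃ ζ₄ : Cfsg.IrrCharacter G, ∃ ε : ℤ, (ε = 1 ∨ ε = -1) ∧ (ζ₂ : G → ℂ) ≠ (fun _ => 1) ∧ (ζ₃ : G → ℂ) ≠ (fun _ => 1) ∧ ζ₂ ≠ ζ₃ ∧ ζ₂ ≠ ζ₄ ∧ ζ₃ ≠ ζ₄ ∧ Cfsg.principalBlock M G = {χ : Cfsg.IrrCharacter G | (χ : G → ℂ) = (fun _ => 1) ∨ χ = ζ₂ ∨ χ = ζ₃ ∨ χ = ζ₄} ∧ (∀ z : G, orderOf z = 2 → (ζ₂ : G → ℂ) z = 1 ∧ (ζ₃ : G → ℂ) z = (ε : ℂ) ∧ (ζ₄ : G → ℂ) z = -1) ∧ (4 : ℤ) ∣ (Cfsg.charDegree (ζ₂ : G → ℂ) : ℤ) - 1 ∧ (4 : ℤ) ∣ (Cfsg.charDegree (ζ₃ : G → ℂ) : ℤ) - ε ∧ (4 : ℤ) ∣ (Cfsg.charDegree (ζ₄ : G → ℂ) : ℤ) + 1 ∧ ∀ y : G, Odd (orderOf y) → 1 + (ζ₂ : G → ℂ) y + (ε : ℂ) * (ζ₃ : G → ℂ) y - (ζ₄ : G → ℂ) y = 0 := by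
  letI := Fintype.ofFinite G
  exact main M hM P hP hone

end Cfsg.Agent.S0948
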