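import Mathlib
import Cfsg.Statements.S3975

set_option autoImplicit false
open Cfsg

namespace Cfsg.Agent.S3975

open scoped Pointwise
open MulAction

lemma card_orbit_mul (G : Type*) [Group G] [Finite G] {Y : Type*} [MulAction G Y] (y : Y) :
    Nat.card (orbit G y) * Nat.card (stabilizer G y) = Nat.card G := by
  have : Nat.card (orbit G y) = (stabilizer G y).index := by
    rw [Subgroup.index, Nat.card_congr (orbitEquivQuotientStabilizer G y)]
  rw [this, mul_comm, Subgroup.card_mul_index]

/-- If every orbit has cardinality divisible by `d` then so does the whole set. -/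
lemma dvd_card_of_orbit (G : Type*) [Group G] {Y : Type*} [MulAction G Y] [Finite Y] (d : ℕ)
    (h : ∀ y : Y, d ∣ Nat.card (orbit G y)) : d ∣ Nat.card Y := by
  classical
  haveI : Fintype (orbitRel.Quotient G Y) := Fintype.ofFinite _
  rw [Nat.card_congr (selfEquivSigmaOrbits G Y), Nat.card_sigma]
  exact Finset.dvd_sum (fun ω _ => h _)

variable {G : Type*} [Group G]

/-- The stabilizer of a finite subset acts freely, so its order divides the size. -/
lemma card_stabilizer_dvd [Finite G] [DecidableEq G] (S : Finset G) :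
    Nat.card (stabilizer G S) ∣ S.card := by
  let H := stabilizer G S
  have hmem : ∀ h : H, ∀ s ∈ S, (h : G) * s ∈ S := by
    intro h s hs
    have h1 : (h : G) • S = S := h.2
    rw [← h1]
    exact Finset.smul_mem_smul_finset hs
  let Y : SubMulAction H G :=
    { carrier := (S : Set G)
      smul_mem' := fun h s hs => hmem h s hs }
  have hY : Nat.card Y = S.card := by
    have : Nat.card Y = Nat.card (S : Set G) := rfl
    rw [this]
    simp
  rw [← hY]
  apply dvd_card_of_orbit H
  intro y
  have h1 := card_orbit_mul H y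
  have h2 : stabilizer H y = ⊥ := by
    rw [eq_bot_iff]
    intro h hh
    have h3 : h • y = y := hh
    have h4 : (h : G) * (y : G) = y := congrArg Subtype.val h3
    rw [Subgroup.mem_bot]
    exact Subtype.ext (mul_eq_right.mp h4)
  rw [h2, Subgroup.card_bot, mul_one] at h1
  rw [h1]

section count

variable [Fintype G] [DecidableEq G]

open Classical in
/-- the underlying finite set of a subgroup -/
noncomputable def toF (K : Subgroup G) : Finset G := (Finset.univ.filter (· ∈ K) : Finset G)

omit [DecidableEq G] in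
lemma mem_toF (K : Subgroup G) (x : G) : x ∈ toF K ↔ x ∈ K := by
  classical
  simp [toF]

omit [DecidableEq G] in
lemma card_toF (K : Subgroup G) : (toF K).card = Nat.card K := by
  classical
  rw [toF, Nat.card_eq_fintype_card, Fintype.card_subtype]

omit [DecidableEq G] in
lemma toF_inj {K L : Subgroup G} (h : toF K = toF L) : K = L := by
  ext x
  rw [← mem_toF, ← mem_toF, h]

lemma mem_smul_toF (K : Subgroup G) (g x : G) : x ∈ g • toF K ↔ g⁻¹ * x ∈ K := by
  rw [Finset.mem_smul_finset]
  constructor
  · rintro ⟨y, hy, rfl⟩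
    simpa using (mem_toF K y).mp hy
  · intro h
    exact ⟨g⁻¹ * x, (mem_toF K _).mpr h, by simp⟩

lemma smul_toF_eq_iff (K : Subgroup G) (g : G) : g • toF K = toF K ↔ g ∈ K := by
  constructor
  · intro h
    have h1 : g * 1 ∈ g • toF K := Finset.smul_mem_smul_finset ((mem_toF K 1).mpr K.one_mem)
    rw [h, mul_one, mem_toF] at h1
    exact h1
  · intro h
    ext x
    rw [mem_smul_toF, mem_toF]
    rw [Subgroup.mul_mem_cancel_left _ (K.inv_mem h)]

lemma smul_toF_eq_toF {K L : Subgroup G} {g : G} (h : g • toF K = toF L) : K = L := by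
  have h1 : (1 : G) ∈ g • toF K := by
    rw [h, mem_toF]; exact L.one_mem
  rw [mem_smul_toF] at h1
  have h2 : g⁻¹ ∈ K := by simpa using h1
  have h3 : g ∈ K := by simpa using K.inv_mem h2
  rw [(smul_toF_eq_iff K g).mpr h3] at h
  exact toF_inj h

/-- Cosets are exactly the subsets with large stabilizer. -/
lemma exists_coset (S : Finset G) (hS : S.Nonempty) (hcard : Nat.card (stabilizer G S) = S.card) :
    ∃ (g : G) (K : Subgroup G), S = g • toF K ∧ Nat.card K = S.card := by
  obtain ⟨s, hs⟩ := hS
  let H := stabilizer G S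
  let K : Subgroup G := H.map (MulAut.conj s⁻¹).toMonoidHom
  have hKcard : Nat.card K = S.card := by
    rw [← hcard]
    exact Subgroup.card_map_of_injective (MulEquiv.injective _)
  refine ⟨s, K, ?_, hKcard⟩
  symm
  apply Finset.eq_of_subset_of_card_le
  · intro x hx
    rw [mem_smul_toF] at hx
    obtain ⟨h, hh, hhx⟩ := hx
    have e : x = (h : G) • s := by
      have : (MulAut.conj s⁻¹).toMonoidHom h = s⁻¹ * x := hhx
      simp only [MulEquiv.toMonoidHom_eq_coe, MonoidHom.coe_coe, MulAut.conj_apply, inv_inv] at this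
      have h2 : x = s * (s⁻¹ * h * s) := by rw [this]; group
      rw [h2, smul_eq_mul]
      group
    rw [e]
    have h1 : (h : G) • S = S := hh
    rw [← h1]
    exact Finset.smul_mem_smul_finset hs
  · rw [Finset.card_smul_finset, card_toF, hKcard]

end count

section main

variable [Fintype G] [DecidableEq G] (p β m : ℕ)

/-- Wielandt's count. -/
theorem count (hp : p.Prime) (hG : Nat.card G = p ^ β * m) :
    ∃ t : ℕ, (Nat.card G).choose (p ^ β) =
      Nat.card {H : Subgroup G // Nat.card H = p ^ β} * m + p * m * t := by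
  classical
  have hGpos : 0 < Nat.card G := Nat.card_pos
  have hm0 : 0 < m := by
    rcases Nat.eq_zero_or_pos m with h | h
    · rw [h, mul_zero] at hG; omega
    · exact h
  have hk0 : 0 < p ^ β := pow_pos hp.pos β
  let Ω := Set.powersetCard G (p ^ β)
  let T := {H : Subgroup G // Nat.card H = p ^ β}
  letI : Fintype Ω := Fintype.ofFinite _
  letI : Fintype T := Fintype.ofFinite _
  let ι : T → Ω := fun K => ⟨toF K.1, by
    show (toF K.1).card = _
    rw [card_toF]; exact K.2⟩
  have hιc : ∀ K : T, ((ι K : Ω) : Finset G) = toF K.1 := fun _ => rfl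
  have hsmul : ∀ (g : G) (S : Ω), ((g • S : Ω) : Finset G) = g • (S : Finset G) := fun g S =>
    Set.powersetCard.coe_smul
  have hstab : ∀ S : Ω, stabilizer G S = stabilizer G (S : Finset G) := by
    intro S
    ext g
    rw [mem_stabilizer_iff, mem_stabilizer_iff, ← hsmul]
    exact Subtype.ext_iff
  have hstabK : ∀ K : T, stabilizer G (ι K) = K.1 := by
    intro K
    rw [hstab]
    ext g
    rw [mem_stabilizer_iff, hιc]
    exact smul_toF_eq_iff K.1 g
  let O : T → Finset Ω := fun K => Finset.univ.filter (fun S => S ∈ orbit G (ι K))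
  have hOcard : ∀ K : T, (O K).card = m := by
    intro K
    have h1 : (O K).card = Nat.card (orbit G (ι K)) := by
      rw [Nat.card_eq_fintype_card, ← Set.toFinset_card]
      congr 1
      ext S
      simp [O]
    have h2 := card_orbit_mul G (ι K)
    rw [hstabK, K.2, hG, ← h1, mul_comm] at h2
    exact Nat.eq_of_mul_eq_mul_left hk0 h2
  have hdisj : ∀ K L : T, K ≠ L → Disjoint (O K) (O L) := by
    intro K L hKL
    rw [Finset.disjoint_left]
    intro S hS hS'
    simp only [O, Finset.mem_filter, Finset.mem_univ, true_and] at hS hS'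
    obtain ⟨g, hg⟩ := hS
    obtain ⟨g', hg'⟩ := hS'
    apply hKL
    apply Subtype.ext
    have h1 : g • (ι K) = g' • (ι L) := hg.trans hg'.symm
    have h2 : (g'⁻¹ * g) • (ι K) = ι L := by
      rw [mul_smul, h1, inv_smul_smul]
    have h3 := congrArg (fun S : Ω => (S : Finset G)) h2
    simp only [hsmul, hιc] at h3
    exact smul_toF_eq_toF h3
  let X0 : Finset Ω := Finset.univ.biUnion O
  have hX0 : X0.card = Nat.card T * m := by
    rw [Finset.card_biUnion (fun K _ L _ hKL => hdisj K L hKL)]
    simp [hOcard, Nat.card_eq_fintype_card]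
  have hX0inv : ∀ (g : G) (S : Ω), S ∈ X0 → g • S ∈ X0 := by
    intro g S hS
    simp only [X0, Finset.mem_biUnion, Finset.mem_univ, true_and, O, Finset.mem_filter] at hS ⊢
    obtain ⟨K, hK⟩ := hS
    obtain ⟨h, hh⟩ := hK
    refine ⟨K, g * h, ?_⟩
    show (g * h) • ι K = g • S
    rw [mul_smul]
    exact congrArg _ hh
  let X1 : SubMulAction G Ω :=
    { carrier := {S | S ∉ X0}
      smul_mem' := by
        intro g S hS h
        apply hS
        have := hX0inv g⁻¹ _ h
        rwa [inv_smul_smul] at this }
  have hdvd : p * m ∣ Nat.card X1 := by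
    apply dvd_card_of_orbit G
    intro y
    have h1 := card_orbit_mul G y
    have hy : (y : Ω) ∉ X0 := y.2
    have hst : stabilizer G y = stabilizer G (y : Ω) := SubMulAction.stabilizer_of_subMul ..
    rw [hst, hstab, hG] at h1
    have h2 : Nat.card (stabilizer G ((y : Ω) : Finset G)) ∣ ((y : Ω) : Finset G).card :=
      card_stabilizer_dvd _
    have hc : ((y : Ω) : Finset G).card = p ^ β := (y : Ω).2
    rw [hc] at h2
    obtain ⟨γ, hγ, hγ2⟩ := (Nat.dvd_prime_pow hp).mp h2
    have hlt : γ < β := by
      refine lt_of_le_of_ne hγ ?_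
      rintro rfl
      apply hy
      have hne : ((y : Ω) : Finset G).Nonempty := by
        rw [← Finset.card_pos, hc]; exact hk0
      obtain ⟨g, K, hg, hK⟩ := exists_coset _ hne (by rw [hγ2, hc])
      rw [hc] at hK
      simp only [X0, Finset.mem_biUnion, Finset.mem_univ, true_and, O, Finset.mem_filter]
      refine ⟨⟨K, hK⟩, g, ?_⟩
      apply Subtype.ext
      rw [hsmul, hιc]
      exact hg.symm
    rw [hγ2] at h1
    have h3 : Nat.card (orbit G y) = p ^ (β - γ) * m := by
      have : p ^ β = p ^ γ * p ^ (β - γ) := by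
        rw [← pow_add]; congr 1; omega
      have h1' : p ^ γ * Nat.card (orbit G y) = p ^ γ * (p ^ (β - γ) * m) := by
        rw [mul_comm, h1, this, mul_assoc]
      exact Nat.eq_of_mul_eq_mul_left (pow_pos hp.pos γ) h1'
    rw [h3]
    apply Nat.mul_dvd_mul_right
    exact dvd_pow_self p (by omega)
  obtain ⟨t, ht⟩ := hdvd
  refine ⟨t, ?_⟩
  have hcard : Nat.card Ω = X0.card + Nat.card X1 := by
    have h1 : Nat.card X1 = (X0ᶜ).card := by
      rw [Nat.card_eq_fintype_card, ← Fintype.card_coe]
      apply Fintype.card_congr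
      exact Equiv.subtypeEquivRight (fun S => by simp only [Finset.mem_compl]; exact Iff.rfl)
    rw [h1, Finset.card_add_card_compl, Nat.card_eq_fintype_card]
  rw [← Set.powersetCard.card, hcard, hX0, ht]

/-- In a cyclic group there is exactly one subgroup of every order dividing the group order. -/
lemma cyclic_count {C : Type*} [CommGroup C] [IsCyclic C] [Finite C] (d : ℕ) (hd : d ∣ Nat.card C) :
    Nat.card {H : Subgroup C // Nat.card H = d} = 1 := by
  rw [Nat.card_eq_one_iff_unique]
  have hker : Nat.card (powMonoidHom d : C →* C).ker = d := by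
    rw [IsCyclic.card_powMonoidHom_ker]
    exact Nat.gcd_eq_right hd
  have hall : ∀ H : Subgroup C, Nat.card H = d → H = (powMonoidHom d : C →* C).ker := by
    intro H hH
    apply Subgroup.eq_of_le_of_card_ge
    · intro x hx
      rw [MonoidHom.mem_ker, powMonoidHom_apply, ← hH]
      have : (⟨x, hx⟩ : H) ^ Nat.card H = 1 := pow_card_eq_one'
      exact congrArg Subtype.val this
    · rw [hker, hH]
  refine ⟨⟨?_⟩, ⟨⟨_, hker⟩⟩⟩
  rintro ⟨a, ha⟩ ⟨b, hb⟩
  exact Subtype.ext ((hall a ha).trans (hall b hb).symm)

end main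

/-- Let `p` be a prime and `G` a finite group whose order is divisible by `p ^ β`. Then the number of subgroups of `G` of order `p ^ β` is congruent to `1` modulo `p`. (When `p ^ β` is the full power of `p` dividing the order, these are the Sylow `p`-subgroups and this is the usual Sylow count.) -/
theorem result {G : Type*} [Group G] [Finite G] (p β : ℕ) (hp : p.Prime) (hdiv : p ^ β ∣ Nat.card G) : Nat.card {H : Subgroup G // Nat.card H = p ^ β} ≡ 1 [MOD p] := by
  classical
  cases nonempty_fintype G
  obtain ⟨m, hm⟩ := hdiv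
  have hGpos : 0 < Nat.card G := Nat.card_pos
  have hm0 : 0 < m := by
    rcases Nat.eq_zero_or_pos m with h | h
    · rw [h, mul_zero] at hm; omega
    · exact h
  obtain ⟨t, ht⟩ := count p β m hp hm
  -- the cyclic comparison group
  haveI : NeZero (Nat.card G) := ⟨hGpos.ne'⟩
  let C := Multiplicative (ZMod (Nat.card G))
  have hC : Nat.card C = Nat.card G := by
    simp [C, Nat.card_eq_fintype_card, ZMod.card]
  haveI : Fintype C := inferInstance
  have hCm : Nat.card C = p ^ β * m := hC.trans hm
  obtain ⟨t', ht'⟩ := count (G := C) p β m hp hCm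
  rw [cyclic_count (p ^ β) (hCm ▸ Dvd.intro _ rfl), hC, ht] at ht'
  have h1 : Nat.card {H : Subgroup G // Nat.card H = p ^ β} + p * t = 1 + p * t' := by
    have : m * (Nat.card {H : Subgroup G // Nat.card H = p ^ β} + p * t) = m * (1 + p * t') := by
      calc _ = Nat.card {H : Subgroup G // Nat.card H = p ^ β} * m + p * m * t := by ring
        _ = 1 * m + p * m * t' := ht'
        _ = _ := by ring
    exact Nat.eq_of_mul_eq_mul_left hm0 this
  have h2 : Nat.card {H : Subgroup G // Nat.card H = p ^ β} + p * t ≡ 1 + p * t' [MOD p] := by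
    rw [h1]
  have h3 : Nat.card {H : Subgroup G // Nat.card H = p ^ β} + p * t ≡ Nat.card {H : Subgroup G // Nat.card H = p ^ β} [MOD p] := by
    simp [Nat.ModEq]
  have h4 : 1 + p * t' ≡ 1 [MOD p] := by
    simp [Nat.ModEq]
  exact h3.symm.trans (h2.trans h4)

end Cfsg.Agent.S3975
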