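import Mathlib
import Cfsg.Agent.Lib.ClassTwo
import Cfsg.Statements.S0124

set_option autoImplicit false
open Cfsg

namespace Cfsg.Agent.S0124

open scoped commutatorElement

/-- For p > 3, in a p-group of class at most three the elements of order dividing p generate a subgroup of exponent dividing p. -/
theorem result {R : Type*} [Group R] [Finite R] {p : ℕ} [Fact p.Prime] (hp : 3 < p) (hR : IsPGroup p R) (hcl : ⁅⁅commutator R, (⊤ : Subgroup R)⁆, (⊤ : Subgroup R)⁆ = ⊥) (g : R) (hg : g ∈ Subgroup.closure {x : R | x ^ p = 1}) : g ^ p = 1 := by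
  classical
  have hpp : p.Prime := Fact.out
  have hcen : ∀ c ∈ ⁅commutator R, (⊤ : Subgroup R)⁆, ∀ g : R, Commute c g := by
    intro c hc g
    have h1 : ⁅c, g⁆ ∈ ⁅⁅commutator R, (⊤ : Subgroup R)⁆, (⊤ : Subgroup R)⁆ := Subgroup.commutator_mem_commutator hc trivial
    rw [hcl, Subgroup.mem_bot] at h1
    exact commutatorElement_eq_one_iff_mul_comm.1 h1
  induction hg using Subgroup.closure_induction with
  | mem z hz => exact hz
  | one => simp
  | mul x y _ _ ihx ihy =>
    have hu : y⁻¹ * x⁻¹ * y * x ∈ commutator R := by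
      have := Subgroup.commutator_mem_commutator (Subgroup.mem_top y⁻¹) (Subgroup.mem_top x⁻¹)
      simpa [commutatorElement_def, commutator_def] using this
    set u := y⁻¹ * x⁻¹ * y * x with hu'
    have ha : u⁻¹ * x⁻¹ * u * x ∈ ⁅commutator R, (⊤ : Subgroup R)⁆ := by
      have := Subgroup.commutator_mem_commutator (inv_mem hu) (Subgroup.mem_top x⁻¹)
      simpa [commutatorElement_def] using this
    have hb : u⁻¹ * y⁻¹ * u * y ∈ ⁅commutator R, (⊤ : Subgroup R)⁆ := by
      have := Subgroup.commutator_mem_commutator (inv_mem hu) (Subgroup.mem_top y⁻¹)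
      simpa [commutatorElement_def] using this
    have e : y * x = x * y * u := by rw [hu']; group
    have e1 : u * x = x * u * (u⁻¹ * x⁻¹ * u * x) := by group
    have e2 : u * y = y * u * (u⁻¹ * y⁻¹ * u * y) := by group
    exact Cfsg.Agent.Lib.ClassTwo.mul_pow_prime_eq_one_class_three hpp hp e e1 e2
      (hcen _ ha _) (hcen _ ha _) (hcen _ ha _) (hcen _ hb _) (hcen _ hb _) (hcen _ hb _) (hcen _ ha _) ihx ihy
  | inv x _ ih => rw [inv_pow, ih, inv_one]

end Cfsg.Agent.S0124
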