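import Mathlib
import Cfsg.Agent.Lib.PGrp
import Cfsg.Agent.Lib.PComplement
import Cfsg.Statements.S0129

set_option autoImplicit false
open Cfsg

namespace Cfsg.Agent.S0129

open scoped commutatorElement

lemma step {G : Type*} [Group G] [Finite G] (D₁ : Subgroup G) [D₁.Normal] (y : G)
    (hy : ∀ g : G, ⁅y, g⁆ ∈ D₁) :
    (Subgroup.centralizer ((D₁ ⊔ Subgroup.zpowers y : Subgroup G) : Set G)).index ≤
      Nat.card D₁ * (Subgroup.centralizer (D₁ : Set G)).index := by
  classical
  set C : Subgroup G := Subgroup.centralizer (D₁ : Set G) with hC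
  set K : Subgroup G := Subgroup.centralizer ((D₁ ⊔ Subgroup.zpowers y : Subgroup G) : Set G) with hK
  have hKC : K ≤ C := Subgroup.centralizer_le (by
    intro a ha
    exact Subgroup.mem_sup_left ha)
  have hKy : ∀ c ∈ K, c * y = y * c := fun c hc =>
    (Subgroup.mem_centralizer_iff.1 hc y (Subgroup.mem_sup_right (Subgroup.mem_zpowers y))).symm
  have hCK : ∀ c ∈ C, c * y = y * c → c ∈ K := by
    intro c hc hcy
    rw [hK, Subgroup.mem_centralizer_iff]
    intro u hu
    obtain ⟨a, ha, w, hw, rfl⟩ := Cfsg.Agent.Lib.PGrp.exists_mul_of_mem_sup hu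
    obtain ⟨k, rfl⟩ := Subgroup.mem_zpowers_iff.1 hw
    have h1 : a * c = c * a := Subgroup.mem_centralizer_iff.1 hc a ha
    have h2 : Commute c (y ^ k) := (show Commute c y from hcy).zpow_right k
    calc a * y ^ k * c = a * (y ^ k * c) := by group
      _ = a * (c * y ^ k) := by rw [h2.eq]
      _ = (a * c) * y ^ k := by group
      _ = c * a * y ^ k := by rw [h1]
      _ = c * (a * y ^ k) := by group
  -- the function to `D₁`
  have hφ : ∀ c : C, c.1 * y * c.1⁻¹ * y⁻¹ ∈ D₁ := by
    intro c
    have h1 := inv_mem (hy c.1)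
    have h2 : (⁅y, c.1⁆)⁻¹ = c.1 * y * c.1⁻¹ * y⁻¹ := by
      rw [commutatorElement_def]; group
    rwa [h2] at h1
  let φ : C → D₁ := fun c => ⟨_, hφ c⟩
  let K' : Subgroup C := K.subgroupOf C
  let ψ : C ⧸ K' → D₁ := fun q => φ q.out
  have hψ : Function.Injective ψ := by
    intro q q' hqq
    rw [← q.out_eq', ← q'.out_eq']
    apply QuotientGroup.eq.2
    have h1 : q.out.1 * y * q.out.1⁻¹ * y⁻¹ = q'.out.1 * y * q'.out.1⁻¹ * y⁻¹ := congrArg Subtype.val hqq
    have h2 : q.out.1 * y * q.out.1⁻¹ = q'.out.1 * y * q'.out.1⁻¹ := mul_right_cancel h1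
    rw [Subgroup.mem_subgroupOf]
    apply hCK
    · exact mul_mem (inv_mem q.out.2) q'.out.2
    · simp only [Subgroup.coe_mul, Subgroup.coe_inv]
      calc q.out.1⁻¹ * q'.out.1 * y = q.out.1⁻¹ * (q'.out.1 * y * q'.out.1⁻¹) * q'.out.1 := by group
        _ = q.out.1⁻¹ * (q.out.1 * y * q.out.1⁻¹) * q'.out.1 := by rw [h2]
        _ = y * (q.out.1⁻¹ * q'.out.1) := by group
  have h1 : K'.index ≤ Nat.card D₁ := Nat.card_le_card_of_injective ψ hψ
  have h2 : K.relIndex C * C.index = K.index := Subgroup.relIndex_mul_index hKC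
  rw [← h2]
  exact Nat.mul_le_mul_right _ h1

/-- The order of a p-group is bounded by p^(a(a+1)/2) when it has a maximal normal abelian subgroup of order p^a. -/
theorem result {G : Type*} [Group G] [Finite G] {p : ℕ} [Fact p.Prime] (hG : IsPGroup p G) (A : Subgroup G) [A.Normal] (hA : IsMulCommutative A) (hmax : ∀ B : Subgroup G, B.Normal → IsMulCommutative B → A ≤ B → B = A) (a : ℕ) (ha : Nat.card A = p ^ a) : Nat.card G ≤ p ^ (a * (a + 1) / 2) := by
  classical
  have hpp : p.Prime := Fact.out
  have hAc : ∀ a ∈ A, ∀ b ∈ A, a * b = b * a := fun a ha b hb => by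
    have := hA.is_comm.comm (⟨a, ha⟩ : A) ⟨b, hb⟩
    exact congrArg Subtype.val this
  -- the centralizer of `A` is `A`
  have hCA : Subgroup.centralizer (A : Set G) ≤ A := by
    by_contra hne
    have hle : A ≤ Subgroup.centralizer (A : Set G) := fun a ha =>
      Subgroup.mem_centralizer_iff.2 (fun b hb => hAc b hb a ha)
    have hlt : A < Subgroup.centralizer (A : Set G) := lt_of_le_not_ge hle hne
    obtain ⟨y, hyC, hyA, hyc⟩ := Cfsg.Agent.Lib.PGrp.exists_central_mod hG _ _ hlt
    have hB : (A ⊔ Subgroup.zpowers y).Normal := by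
      constructor
      intro u hu g
      obtain ⟨a, ha, w, hw, rfl⟩ := Cfsg.Agent.Lib.PGrp.exists_mul_of_mem_sup hu
      obtain ⟨k, rfl⟩ := Subgroup.mem_zpowers_iff.1 hw
      have e : g * (a * y ^ k) * g⁻¹ = (g * a * g⁻¹) * (g * y * g⁻¹) ^ k := by
        rw [conj_zpow]; group
      rw [e]
      have h1 : g * y * g⁻¹ * y⁻¹ ∈ A := by
        have h5 := inv_mem (hyc g)
        have h6 : (⁅y, g⁆)⁻¹ = g * y * g⁻¹ * y⁻¹ := by
          rw [commutatorElement_def]; group
        rwa [h6] at h5
      have h7 : g * y * g⁻¹ = (g * y * g⁻¹ * y⁻¹) * y := by group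
      apply mul_mem
      · exact Subgroup.mem_sup_left ((inferInstance : A.Normal).conj_mem a ha g)
      · apply zpow_mem
        rw [h7]
        exact mul_mem (Subgroup.mem_sup_left h1) (Subgroup.mem_sup_right (Subgroup.mem_zpowers _))
    have hyA' : ∀ a ∈ A, Commute y a := fun a ha => (Subgroup.mem_centralizer_iff.1 hyC a ha).symm
    have hBc : IsMulCommutative (A ⊔ Subgroup.zpowers y : Subgroup G) := by
      refine ⟨⟨fun u v => Subtype.ext ?_⟩⟩
      obtain ⟨a, ha, w, hw, hu⟩ := Cfsg.Agent.Lib.PGrp.exists_mul_of_mem_sup u.2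
      obtain ⟨k, rfl⟩ := Subgroup.mem_zpowers_iff.1 hw
      obtain ⟨b, hb, w', hw', hv⟩ := Cfsg.Agent.Lib.PGrp.exists_mul_of_mem_sup v.2
      obtain ⟨l, rfl⟩ := Subgroup.mem_zpowers_iff.1 hw'
      show (u : G) * v = v * u
      rw [hu, hv]
      have h1 : Commute (y ^ k) b := (hyA' b hb).zpow_left k
      have h2 : Commute (y ^ l) a := (hyA' a ha).zpow_left l
      have h3 : Commute (y ^ k) (y ^ l) := Commute.zpow_zpow_self y k l
      calc a * y ^ k * (b * y ^ l) = a * (y ^ k * b) * y ^ l := by group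
        _ = a * (b * y ^ k) * y ^ l := by rw [h1.eq]
        _ = (a * b) * (y ^ k * y ^ l) := by group
        _ = (b * a) * (y ^ l * y ^ k) := by rw [hAc a ha b hb, h3.eq]
        _ = b * (a * y ^ l) * y ^ k := by group
        _ = b * (y ^ l * a) * y ^ k := by rw [h2.eq]
        _ = b * y ^ l * (a * y ^ k) := by group
    have := hmax _ hB hBc le_sup_left
    exact hyA (this ▸ Subgroup.mem_sup_right (Subgroup.mem_zpowers y))
  -- the chain
  have key : ∀ (m : ℕ) (D : Subgroup G) (_ : D.Normal) (d : ℕ), Nat.card D = p ^ d → D ≤ A →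
      (Subgroup.centralizer (D : Set G)).index ≤ p ^ d.choose 2 → Nat.card A - Nat.card D = m →
      (Subgroup.centralizer (A : Set G)).index ≤ p ^ a.choose 2 := by
    intro m
    induction m using Nat.strong_induction_on with
    | _ m ih =>
      intro D hD d hd hDA hP hm
      by_cases hDe : D = A
      · subst hDe
        have : d = a := Nat.pow_right_injective hpp.two_le (by simpa using hd.symm.trans ha)
        rwa [this] at hP
      · have hlt : D < A := lt_of_le_of_ne hDA hDe
        obtain ⟨y, hyA, hyD, hyc⟩ := Cfsg.Agent.Lib.PGrp.exists_central_mod hG _ _ hlt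
        have hstep := step D y hyc
        have hD2 : (D ⊔ Subgroup.zpowers y).Normal := by
          constructor
          intro u hu g
          obtain ⟨a, ha, w, hw, rfl⟩ := Cfsg.Agent.Lib.PGrp.exists_mul_of_mem_sup hu
          obtain ⟨k, rfl⟩ := Subgroup.mem_zpowers_iff.1 hw
          have e : g * (a * y ^ k) * g⁻¹ = (g * a * g⁻¹) * (g * y * g⁻¹) ^ k := by
            rw [conj_zpow]; group
          rw [e]
          have h1 : g * y * g⁻¹ * y⁻¹ ∈ D := by
            have h5 := inv_mem (hyc g)
            have h6 : (⁅y, g⁆)⁻¹ = g * y * g⁻¹ * y⁻¹ := by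
              rw [commutatorElement_def]; group
            rwa [h6] at h5
          have h7 : g * y * g⁻¹ = (g * y * g⁻¹ * y⁻¹) * y := by group
          apply mul_mem
          · exact Subgroup.mem_sup_left (hD.conj_mem a ha g)
          · apply zpow_mem
            rw [h7]
            exact mul_mem (Subgroup.mem_sup_left h1) (Subgroup.mem_sup_right (Subgroup.mem_zpowers _))
        have hD2A : D ⊔ Subgroup.zpowers y ≤ A := sup_le hDA (by
          rw [Subgroup.zpowers_le]; exact hyA)
        have hDlt : D < D ⊔ Subgroup.zpowers y := by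
          refine lt_of_le_of_ne le_sup_left ?_
          intro he
          apply hyD
          rw [he]
          exact Subgroup.mem_sup_right (Subgroup.mem_zpowers y)
        obtain ⟨d₂, hd₂⟩ := (hG.to_subgroup (D ⊔ Subgroup.zpowers y)).exists_card_eq
        have hcardlt := Cfsg.Agent.Lib.PComplement.card_lt_of_lt' hDlt
        have hcardle : Nat.card ↥(D ⊔ Subgroup.zpowers y) ≤ Nat.card A := Subgroup.card_le_of_le hD2A
        have hdd : d < d₂ := by
          rw [hd, hd₂] at hcardlt
          exact (Nat.pow_lt_pow_iff_right hpp.one_lt).1 hcardlt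
        have hP2 : (Subgroup.centralizer ((D ⊔ Subgroup.zpowers y : Subgroup G) : Set G)).index ≤ p ^ d₂.choose 2 := by
          refine hstep.trans ?_
          rw [hd]
          calc p ^ d * (Subgroup.centralizer (D : Set G)).index ≤ p ^ d * p ^ d.choose 2 := Nat.mul_le_mul_left _ hP
            _ = p ^ (d + 1).choose 2 := by
              rw [← pow_add, Nat.choose_succ_succ' d 1, Nat.choose_one_right]
            _ ≤ p ^ d₂.choose 2 := Nat.pow_le_pow_right hpp.pos (Nat.choose_le_choose 2 hdd)
        have hcardD : Nat.card D ≤ Nat.card A := Subgroup.card_le_of_le hDA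
        exact ih (Nat.card A - Nat.card ↥(D ⊔ Subgroup.zpowers y)) (by omega) _ hD2 d₂ hd₂ hD2A hP2 rfl
  have hbase : (Subgroup.centralizer (((⊥ : Subgroup G)) : Set G)).index ≤ p ^ (0 : ℕ).choose 2 := by
    have : Subgroup.centralizer (((⊥ : Subgroup G)) : Set G) = ⊤ := by
      rw [eq_top_iff]
      intro x _
      rw [Subgroup.mem_centralizer_iff]
      intro u hu
      have hu' : u = 1 := hu
      simp [hu']
    rw [this]
    simp
  have hI := key _ ⊥ inferInstance 0 (by simp) bot_le hbase rfl
  have hCe : Subgroup.centralizer (A : Set G) = A := le_antisymm hCA (fun a ha =>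
      Subgroup.mem_centralizer_iff.2 (fun b hb => hAc b hb a ha))
  rw [hCe] at hI
  have h1 : Nat.card A * A.index = Nat.card G := Subgroup.card_mul_index A
  rw [← h1, ha]
  have e : a * (a + 1) / 2 = (a + 1).choose 2 := by
    rw [Nat.choose_two_right, Nat.add_sub_cancel, mul_comm]
  rw [e, Nat.choose_succ_succ' a 1, Nat.choose_one_right, pow_add]
  exact Nat.mul_le_mul_left _ hI

end Cfsg.Agent.S0129
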