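import Mathlib
import Cfsg.Agent.S0124
import Cfsg.Agent.S0129
import Cfsg.Agent.Lib.Frat
import Cfsg.Agent.Lib.Replacement
import Cfsg.Agent.Lib.PComplement
import Cfsg.Statements.S0128

set_option autoImplicit false
open Cfsg

namespace Cfsg.Agent.S0128

open scoped commutatorElement

universe u

lemma le_lcs {R : Type*} [Group R] {N : Subgroup R} (h : ⁅N, (⊤ : Subgroup R)⁆ = N) (k : ℕ) :
    N ≤ Subgroup.lowerCentralSeries (⊤ : Subgroup R) k := by
  induction k with
  | zero => exact le_top
  | succ k ih =>
    rw [← h]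
    exact Subgroup.commutator_mono ih le_rfl

lemma comm_lt {R : Type*} [Group R] [Finite R] {p : ℕ} [Fact p.Prime] (hR : IsPGroup p R)
    (N : Subgroup R) [hN : N.Normal] (hne : N ≠ ⊥) : ⁅N, (⊤ : Subgroup R)⁆ < N := by
  have hle : ⁅N, (⊤ : Subgroup R)⁆ ≤ N := by
    rw [Subgroup.commutator_le]
    intro a ha g _
    have := hN.conj_mem a⁻¹ (inv_mem ha) g
    rw [commutatorElement_def, show a * g * a⁻¹ * g⁻¹ = a * (g * a⁻¹ * g⁻¹) by group]
    exact mul_mem ha this
  refine lt_of_le_of_ne hle ?_
  intro he
  have hnil : Group.IsNilpotent R := hR.isNilpotent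
  obtain ⟨n, hn⟩ := Subgroup.nilpotent_iff_lowerCentralSeries.1 hnil
  have := le_lcs he n
  rw [hn] at this
  exact hne (le_bot_iff.1 this)

lemma card_mul_le {R : Type*} [Group R] [Finite R] {p : ℕ} [Fact p.Prime] (hR : IsPGroup p R)
    {H K : Subgroup R} (h : H < K) : p * Nat.card H ≤ Nat.card K := by
  have hpp : p.Prime := Fact.out
  obtain ⟨a, ha⟩ := (hR.to_subgroup H).exists_card_eq
  obtain ⟨b, hb⟩ := (hR.to_subgroup K).exists_card_eq
  have h1 : Nat.card H < Nat.card K := Cfsg.Agent.Lib.PComplement.card_lt_of_lt' h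
  rw [ha, hb] at h1 ⊢
  have h2 : a < b := (Nat.pow_lt_pow_iff_right hpp.one_lt).1 h1
  rw [← pow_succ']
  exact Nat.pow_le_pow_right hpp.pos h2

/-- Groups of order at most `p ^ 4` have class at most three. -/
lemma class_le_three {R : Type*} [Group R] [Finite R] {p : ℕ} [Fact p.Prime] (hR : IsPGroup p R)
    (hc : Nat.card R ≤ p ^ 4) : ⁅⁅commutator R, (⊤ : Subgroup R)⁆, (⊤ : Subgroup R)⁆ = ⊥ := by
  classical
  have hpp : p.Prime := Fact.out
  by_contra hD
  set N₂ : Subgroup R := commutator R with hN₂
  set N₃ : Subgroup R := ⁅N₂, (⊤ : Subgroup R)⁆ with hN₃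
  set N₄ : Subgroup R := ⁅N₃, (⊤ : Subgroup R)⁆ with hN₄
  haveI hn₂ : N₂.Normal := by rw [hN₂]; infer_instance
  haveI hn₃ : N₃.Normal := Subgroup.commutator_normal _ _
  have hN₃ne : N₃ ≠ ⊥ := by
    intro h
    apply hD
    rw [hN₄, h]
    exact Subgroup.commutator_bot_left _
  have hN₂ne : N₂ ≠ ⊥ := by
    intro h
    apply hN₃ne
    rw [hN₃, h]
    exact Subgroup.commutator_bot_left _
  have h43 : N₄ < N₃ := comm_lt hR N₃ hN₃ne
  have h32 : N₃ < N₂ := comm_lt hR N₂ hN₂ne
  have hN₄pos : p ≤ Nat.card N₄ := by
    have := card_mul_le hR (bot_lt_iff_ne_bot.2 hD)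
    simpa using this
  have hR₁ := card_mul_le hR h43
  have hR₂ := card_mul_le hR h32
  -- index of `N₂`
  have hidx : p ^ 2 ≤ N₂.index := by
    obtain ⟨k, hk⟩ := (hR.to_quotient N₂).exists_card_eq
    have hk' : N₂.index = p ^ k := hk
    rw [hk']
    refine Nat.pow_le_pow_right hpp.pos ?_
    by_contra hlt
    have hk1 : k = 0 ∨ k = 1 := by omega
    have htop : N₂ ≠ ⊤ := by
      intro h
      have hnt : (⊤ : Subgroup R) ≠ ⊥ := by
        rw [← h]
        exact hN₂ne
      have := comm_lt hR (⊤ : Subgroup R) hnt
      rw [← commutator_def] at this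
      exact (lt_irrefl _ (h ▸ this))
    rcases hk1 with h0 | h1
    · rw [h0, pow_zero] at hk'
      exact htop (Subgroup.index_eq_one.1 hk')
    · -- `R / R'` cyclic, so `R` cyclic, abelian
      rw [h1, pow_one] at hk'
      obtain ⟨g, hg⟩ : ∃ g, g ∉ N₂ := by
        by_contra hall
        push Not at hall
        exact htop (eq_top_iff.2 fun u _ => hall u)
      have hsup : N₂ ⊔ Subgroup.zpowers g = ⊤ := by
        have hd : (N₂ ⊔ Subgroup.zpowers g).index ∣ N₂.index := Subgroup.index_dvd_of_le le_sup_left
        rw [hk', Nat.dvd_prime hpp] at hd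
        rcases hd with hd | hd
        · exact Subgroup.index_eq_one.1 hd
        · exfalso
          apply hg
          have heq : N₂ = N₂ ⊔ Subgroup.zpowers g := by
            apply Subgroup.eq_of_le_of_card_ge le_sup_left
            have e1 := Subgroup.card_mul_index N₂
            have e2 := Subgroup.card_mul_index (N₂ ⊔ Subgroup.zpowers g)
            have e3 : Nat.card N₂ * N₂.index = Nat.card ↥(N₂ ⊔ Subgroup.zpowers g) * N₂.index := by
              rw [e1, hk', ← hd, e2]
            have := Nat.eq_of_mul_eq_mul_right (Nat.pos_of_ne_zero (by rw [hk']; exact hpp.ne_zero)) e3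
            exact this.symm.le
          rw [heq]
          exact Subgroup.mem_sup_right (Subgroup.mem_zpowers g)
      have hfr : Subgroup.zpowers g ⊔ frattini R = ⊤ := by
        rw [eq_top_iff, ← hsup, sup_comm]
        exact sup_le_sup_left (Cfsg.Agent.Lib.Frat.commutator_le_frattini hR) _
      have hzp := frattini_nongenerating hfr
      haveI hcyc : IsCyclic R := ⟨⟨g, fun u => by
        have : u ∈ Subgroup.zpowers g := by rw [hzp]; trivial
        exact this⟩⟩
      letI := hcyc.commGroup
      apply hN₂ne
      rw [hN₂]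
      exact (commutator_eq_bot_iff_center_eq_top R).2
        (eq_top_iff.2 fun u _ => Subgroup.mem_center_iff.2 fun v => mul_comm v u)
  have h1 := Subgroup.card_mul_index N₂
  have h2 : p ^ 5 ≤ Nat.card R := by
    rw [← h1]
    calc p ^ 5 = (p * (p * p)) * p ^ 2 := by ring
      _ ≤ Nat.card N₂ * N₂.index := by
        refine Nat.mul_le_mul ?_ hidx
        calc p * (p * p) ≤ p * (p * Nat.card N₄) := by gcongr
          _ ≤ p * Nat.card N₃ := by gcongr
          _ ≤ Nat.card N₂ := hR₂
  have h3 : p ^ 4 < p ^ 5 := Nat.pow_lt_pow_right hpp.one_lt (by norm_num)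
  omega

/-- A group of exponent `p` and rank at most two has order at most `p ^ 3`. -/
lemma card_le_of_exponent {Q : Type*} [Group Q] [Finite Q] {p : ℕ} [Fact p.Prime]
    (hQ : IsPGroup p Q) (hexp : ∀ u : Q, u ^ p = 1)
    (hrk : ∀ E : Subgroup Q, Cfsg.IsElementaryAbelian p E → Nat.card E ≤ p ^ 2) :
    Nat.card Q ≤ p ^ 3 := by
  classical
  have hpp : p.Prime := Fact.out
  let Cand := {A : Subgroup Q // A.Normal ∧ IsMulCommutative A}
  haveI : Nonempty Cand := ⟨⟨⊥, inferInstance, ⟨⟨fun a b => by
      apply Subtype.ext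
      have ha : (a : Q) = 1 := a.2
      have hb : (b : Q) = 1 := b.2
      simp [ha, hb]⟩⟩⟩⟩
  obtain ⟨⟨A, hAn, hAc⟩, hAmax⟩ := Finite.exists_max (fun A : Cand => Nat.card A.1)
  haveI := hAn
  have hmax : ∀ B : Subgroup Q, B.Normal → IsMulCommutative B → A ≤ B → B = A := by
    intro B hB hBc hAB
    have h1 := hAmax ⟨B, hB, hBc⟩
    exact (Subgroup.eq_of_le_of_card_ge hAB h1).symm
  obtain ⟨a, ha⟩ := (hQ.to_subgroup A).exists_card_eq
  have h1 := hrk A ⟨hAc, fun u _ => hexp u⟩
  rw [ha] at h1
  have ha2 : a ≤ 2 := (Nat.pow_le_pow_iff_right hpp.one_lt).1 h1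
  have h2 := Cfsg.Agent.S0129.result hQ A hAc hmax a ha
  refine h2.trans (Nat.pow_le_pow_right hpp.pos ?_)
  interval_cases a <;> norm_num

theorem key {p : ℕ} [Fact p.Prime] (hp : 3 < p) (n : ℕ) :
    ∀ (R : Type u) [Group R] [Finite R], Nat.card R = n → IsPGroup p R →
      (∀ E : Subgroup R, Cfsg.IsElementaryAbelian p E → Nat.card E ≤ p ^ 2) →
      ∀ x y : R, x ^ p = 1 → y ^ p = 1 → (x * y) ^ p = 1 := by
  classical
  have hpp : p.Prime := Fact.out
  induction n using Nat.strong_induction_on with
  | _ n ih =>
    intro R _ _ hcard hR hrk x y hx hy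
    -- subgroups inherit everything
    have hrkW : ∀ W : Subgroup R, ∀ E : Subgroup W, Cfsg.IsElementaryAbelian p E → Nat.card E ≤ p ^ 2 := by
      intro W E hE
      have hE' : Cfsg.IsElementaryAbelian p (E.map W.subtype) := by
        obtain ⟨hc, he⟩ := hE
        refine ⟨⟨⟨?_⟩⟩, ?_⟩
        · rintro ⟨_, a, ha, rfl⟩ ⟨_, b, hb, rfl⟩
          apply Subtype.ext
          have := hc.is_comm.comm (⟨a, ha⟩ : E) ⟨b, hb⟩
          have h2 := congrArg (fun t : E => ((t : W) : R)) this
          simpa using h2
        · rintro _ ⟨a, ha, rfl⟩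
          have := he a ha
          simpa [← map_pow] using congrArg (fun t : W => (t : R)) this
      have h1 := hrk _ hE'
      rwa [Subgroup.card_map_of_injective W.subtype_injective] at h1
    have hsub : ∀ W : Subgroup R, W ≠ ⊤ → ∀ u ∈ W, ∀ v ∈ W, u ^ p = 1 → v ^ p = 1 → (u * v) ^ p = 1 := by
      intro W hW u hu v hv hup hvp
      have hlt : Nat.card W < n := by
        rw [← hcard]
        have h1 : W < ⊤ := lt_top_iff_ne_top.2 hW
        have := Cfsg.Agent.Lib.PComplement.card_lt_of_lt' h1
        simpa using this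
      have := ih _ hlt W rfl (hR.to_subgroup W) (hrkW W)
        ⟨u, hu⟩ ⟨v, hv⟩ (Subtype.ext (by simpa using hup)) (Subtype.ext (by simpa using hvp))
      have h2 := congrArg (fun t : W => (t : R)) this
      simpa using h2
    by_cases hW : Subgroup.closure ({x, y} : Set R) = ⊤
    · by_cases hxz : Subgroup.zpowers x = ⊤
      · -- cyclic
        have hcomm : Commute x y := by
          have hy' : y ∈ Subgroup.zpowers x := by rw [hxz]; trivial
          obtain ⟨k, rfl⟩ := Subgroup.mem_zpowers_iff.1 hy'
          exact (Commute.refl x).zpow_right k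
        rw [hcomm.mul_pow, hx, hy, one_mul]
      · -- the maximal subgroup
        obtain ⟨M, hM, hxM⟩ := (eq_top_or_exists_le_coatom (Subgroup.zpowers x)).resolve_left hxz
        have hMi := Cfsg.Agent.Lib.Frat.index_eq_of_isCoatom hR hM
        have hMc := Cfsg.Agent.Lib.Frat.commutator_and_pow_mem_of_isCoatom hR hM
        haveI hMn : M.Normal := Cfsg.Agent.Lib.Frat.normal_of_commutator_le hMc.1
        have hxM' : x ∈ M := hxM (Subgroup.mem_zpowers x)
        set N : Subgroup R := Subgroup.normalClosure ({x} : Set R) with hN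
        haveI : N.Normal := Subgroup.normalClosure_normal
        have hNM : N ≤ M := Subgroup.normalClosure_le_normal (by
          rintro _ rfl
          exact hxM')
        have hxN : x ∈ N := Subgroup.subset_normalClosure rfl
        -- `N = M`
        have hNy : N ⊔ Subgroup.zpowers y = ⊤ := by
          rw [eq_top_iff, ← hW, Subgroup.closure_le]
          rintro u (rfl | hu)
          · exact Subgroup.mem_sup_left hxN
          · rw [Set.mem_singleton_iff] at hu
            rw [hu]
            exact Subgroup.mem_sup_right (Subgroup.mem_zpowers y)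
        have hcardM : Nat.card R ≤ Nat.card N * p := by
          have hnY : Subgroup.zpowers y ≤ Subgroup.normalizer (N : Set R) := by
            rw [(Subgroup.normalizer_eq_top_iff (H := N)).2 inferInstance]
            exact le_top
          have e1 := Cfsg.Agent.Lib.Replacement.card_sup_mul_card_inf (Subgroup.zpowers y) N hnY
          rw [sup_comm, hNy, Subgroup.card_top] at e1
          have e2 : Nat.card (Subgroup.zpowers y) ≤ p := by
            rw [Nat.card_zpowers]
            exact Nat.le_of_dvd hpp.pos (orderOf_dvd_of_pow_eq_one hy)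
          have e3 : 0 < Nat.card ↥(Subgroup.zpowers y ⊓ N) := Nat.card_pos
          calc Nat.card R ≤ Nat.card R * Nat.card ↥(Subgroup.zpowers y ⊓ N) := Nat.le_mul_of_pos_right _ e3
            _ = Nat.card (Subgroup.zpowers y) * Nat.card N := e1
            _ = Nat.card N * Nat.card (Subgroup.zpowers y) := mul_comm _ _
            _ ≤ Nat.card N * p := Nat.mul_le_mul_left _ e2
        have hRM : Nat.card R = Nat.card M * p := by
          rw [← Subgroup.card_mul_index M, hMi]
        have hNeM : N = M := by
          apply Subgroup.eq_of_le_of_card_ge hNM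
          rw [hRM] at hcardM
          exact Nat.le_of_mul_le_mul_right hcardM hpp.pos
        have hMtop : M ≠ ⊤ := hM.1
        -- `M` has exponent `p`
        have hMexp : ∀ u ∈ M, u ^ p = 1 := by
          intro u hu
          rw [← hNeM] at hu
          have hNclosure : N = Subgroup.closure (Group.conjugatesOfSet ({x} : Set R)) := rfl
          rw [hNclosure] at hu
          induction hu using Subgroup.closure_induction with
          | mem z hz =>
            rw [Group.mem_conjugatesOfSet_iff] at hz
            obtain ⟨a, ha, hconj⟩ := hz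
            rw [Set.mem_singleton_iff] at ha
            subst ha
            obtain ⟨c, rfl⟩ := isConj_iff.1 hconj
            rw [conj_pow, hx]
            group
          | one => simp
          | mul a b ha hb iha ihb =>
            have ha' : a ∈ M := by
              rw [← hNeM]; exact ha
            have hb' : b ∈ M := by
              rw [← hNeM]; exact hb
            exact hsub M hMtop a ha' b hb' iha ihb
          | inv a _ ih => rw [inv_pow, ih, inv_one]
        have hMcard : Nat.card M ≤ p ^ 3 := card_le_of_exponent (hR.to_subgroup M)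
          (fun u => Subtype.ext (by simpa using hMexp u u.2)) (hrkW M)
        have hRc : Nat.card R ≤ p ^ 4 := by
          rw [hRM, pow_succ p 3]
          exact Nat.mul_le_mul_right _ hMcard
        have hcl := class_le_three hR hRc
        exact Cfsg.Agent.S0124.result hp hR hcl (x * y)
          (mul_mem (Subgroup.subset_closure hx) (Subgroup.subset_closure hy))
    · exact hsub _ hW x (Subgroup.subset_closure (by simp)) y (Subgroup.subset_closure (by simp)) hx hy

/-- For p > 3, in a p-group of p-rank at most 2 the elements of order dividing p generate a subgroup of exponent dividing p. -/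
theorem result {R : Type*} [Group R] [Finite R] {p : ℕ} [Fact p.Prime] (hp : 3 < p) (hR : IsPGroup p R) (hrk : ∀ E : Subgroup R, Cfsg.IsElementaryAbelian p E → Nat.card E ≤ p ^ 2) (g : R) (hg : g ∈ Subgroup.closure {x : R | x ^ p = 1}) : g ^ p = 1 := by
  classical
  induction hg using Subgroup.closure_induction with
  | mem z hz => exact hz
  | one => simp
  | mul a b _ _ iha ihb => exact key hp _ R rfl hR hrk a b iha ihb
  | inv a _ ih => rw [inv_pow, ih, inv_one]

end Cfsg.Agent.S0128
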