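import Mathlib
import Cfsg.Agent.Lib.ClassTwo
import Cfsg.Agent.Lib.Replacement
import Cfsg.Agent.Lib.PGrp
import Cfsg.Agent.Lib.PComplement
import Cfsg.Statements.S0130

set_option autoImplicit false
open Cfsg

namespace Cfsg.Agent.S0130

open scoped commutatorElement

lemma comm_mem {G : Type*} [Group G] {A : Subgroup G} {p : ℕ} (hp : p.Prime) {z z' : G}
    (hzA : ∀ a ∈ A, Commute z a) (hz'A : ∀ a ∈ A, Commute z' a) (hzp : z ^ p ∈ A)
    {a b : G} (ha : a ∈ A) (hb : b ∈ A) {k l : ℤ}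
    (h1 : z * z' * z⁻¹ = a * z' ^ k) (h2 : z' * z * z'⁻¹ = b * z ^ l) :
    z * z' * z⁻¹ * z'⁻¹ ∈ A := by
  have hc1 : z * z' * z⁻¹ * z'⁻¹ = a * z' ^ (k - 1) := by
    rw [h1, zpow_sub_one, mul_assoc]
  have hc2 : z * z' * z⁻¹ * z'⁻¹ = z ^ (1 - l) * b⁻¹ := by
    have e : z' * z⁻¹ * z'⁻¹ = (b * z ^ l)⁻¹ := by
      rw [← h2]; group
    calc z * z' * z⁻¹ * z'⁻¹ = z * (z' * z⁻¹ * z'⁻¹) := by group
      _ = z * (b * z ^ l)⁻¹ := by rw [e]
      _ = z ^ (1 - l) * b⁻¹ := by
        rw [mul_inv_rev, zpow_sub, zpow_one]; group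
  by_cases hd : (p : ℤ) ∣ (1 - l)
  · obtain ⟨t, ht⟩ := hd
    rw [hc2, ht, zpow_mul]
    exact mul_mem (zpow_mem (by exact_mod_cast hzp) t) (inv_mem hb)
  · -- `z` is a product of an element of `A` with a power of `z'`
    have hcop : IsCoprime (p : ℤ) (1 - l) :=
      (Nat.prime_iff_prime_int.1 hp).coprime_iff_not_dvd.2 hd
    obtain ⟨s, t, hst⟩ := hcop
    have hzz : z ^ (1 - l) = a * z' ^ (k - 1) * b := by
      rw [← hc1, hc2]; group
    have hcz : Commute (z ^ (1 - l)) z' := by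
      rw [hzz]
      exact (((hz'A a ha).symm.mul_left (Commute.zpow_right (Commute.refl z') _).symm).mul_left (hz'A b hb).symm)
    have hczp : Commute (z ^ p) z' := (hz'A _ hzp).symm
    have e : z = (z ^ p) ^ s * (z ^ (1 - l)) ^ t := by
      have e0 : z = z ^ ((p : ℤ) * s + (1 - l) * t) := by
        have : (p : ℤ) * s + (1 - l) * t = 1 := by linarith
        rw [this, zpow_one]
      conv_lhs => rw [e0]
      rw [zpow_add, zpow_mul, zpow_mul, zpow_natCast]
    have hcom : Commute z z' := by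
      rw [e]
      exact ((hczp.zpow_left s).mul_left (hcz.zpow_left t))
    have : z * z' * z⁻¹ * z'⁻¹ = 1 := by
      rw [hcom.eq]; group
    rw [this]
    exact one_mem _

lemma comm_mod_closure {G : Type*} [Group G] (A : Subgroup G) [A.Normal] (S : Set G)
    (h : ∀ x ∈ S, ∀ y ∈ S, x * y * x⁻¹ * y⁻¹ ∈ A) :
    ∀ x ∈ Subgroup.closure S, ∀ y ∈ Subgroup.closure S, x * y * x⁻¹ * y⁻¹ ∈ A := by
  have hiff : ∀ x y : G, x * y * x⁻¹ * y⁻¹ ∈ A ↔ Commute (x : G ⧸ A) (y : G ⧸ A) := by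
    intro x y
    rw [← QuotientGroup.eq_one_iff]
    simp only [QuotientGroup.mk_mul, QuotientGroup.mk_inv]
    rw [mul_inv_eq_one, mul_inv_eq_iff_eq_mul]
    rfl
  intro x hx y hy
  rw [hiff]
  induction hx, hy using Subgroup.closure_induction₂ with
  | mem x y hx hy => exact (hiff x y).1 (h x hx y hy)
  | one_left x hx => simp [Commute.one_left]
  | one_right x hx => simp [Commute.one_right]
  | mul_left x y z _ _ _ h1 h2 =>
    rw [QuotientGroup.mk_mul]
    exact h1.mul_left h2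
  | mul_right y z x _ _ _ h1 h2 =>
    rw [QuotientGroup.mk_mul]
    exact h1.mul_right h2
  | inv_left x y _ _ h1 =>
    rw [QuotientGroup.mk_inv]
    exact h1.inv_left
  | inv_right x y _ _ h1 =>
    rw [QuotientGroup.mk_inv]
    exact h1.inv_right

/-- If A is maximal among the normal abelian subgroups of exponent dividing p^n of a p-group (p^n ≠ 2), then A contains every element of order dividing p^n in its centralizer. -/
theorem result {G : Type*} [Group G] [Finite G] {p : ℕ} [Fact p.Prime] (hG : IsPGroup p G) (n : ℕ) (hn : p ^ n ≠ 2) (A : Subgroup G) [A.Normal] (hA : IsMulCommutative A) (hAe : ∀ a ∈ A, a ^ p ^ n = 1) (hmax : ∀ B : Subgroup G, B.Normal → IsMulCommutative B → (∀ b ∈ B, b ^ p ^ n = 1) → A ≤ B → B = A) (x : G) (hx : x ∈ Subgroup.centralizer (A : Set G)) (hxn : x ^ p ^ n = 1) : x ∈ A := by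
  classical
  have hpp : p.Prime := Fact.out
  by_contra hxA
  have hn1 : 1 ≤ n := by
    by_contra hn0
    have : n = 0 := by omega
    subst this
    rw [pow_zero, pow_one] at hxn
    exact hxA (hxn ▸ one_mem _)
  have hAc : ∀ a ∈ A, ∀ b ∈ A, a * b = b * a := fun a ha b hb => by
    have := hA.is_comm.comm (⟨a, ha⟩ : A) ⟨b, hb⟩
    exact congrArg Subtype.val this
  -- good elements
  let Good : G → Prop := fun y => y ∈ Subgroup.centralizer (A : Set G) ∧ y ^ p ^ n = 1 ∧ y ∉ A ∧ y ^ p ∈ A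
  have hgood : ∃ y, Good y := by
    have hex : ∃ k, x ^ p ^ k ∈ A := ⟨n, by rw [hxn]; exact one_mem _⟩
    let k := Nat.find hex
    have hk : x ^ p ^ k ∈ A := Nat.find_spec hex
    have hk0 : k ≠ 0 := by
      intro h0
      rw [h0, pow_zero, pow_one] at hk
      exact hxA hk
    obtain ⟨m, hm⟩ : ∃ m, k = m + 1 := ⟨k - 1, by omega⟩
    refine ⟨x ^ p ^ m, pow_mem hx _, ?_, ?_, ?_⟩
    · rw [← pow_mul, mul_comm, pow_mul, hxn, one_pow]
    · exact Nat.find_min hex (by omega)
    · rw [← pow_mul, ← pow_succ, ← hm]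
      exact hk
  let f : {y // Good y} → ℕ := fun y => Nat.card (Subgroup.normalizer ((A ⊔ Subgroup.zpowers y.1 : Subgroup G) : Set G))
  haveI : Nonempty {y // Good y} := by
    obtain ⟨y, hy⟩ := hgood
    exact ⟨⟨y, hy⟩⟩
  obtain ⟨⟨y, hyC, hyn, hyA, hyp⟩, hmaxy⟩ := Finite.exists_max f
  have hy_comm : ∀ a ∈ A, Commute y a := fun a ha =>
    (Subgroup.mem_centralizer_iff.1 hyC a ha).symm
  set B : Subgroup G := A ⊔ Subgroup.zpowers y with hB
  set N : Subgroup G := Subgroup.normalizer (B : Set G) with hN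
  have hBN : B ≤ N := Subgroup.le_normalizer
  have hyB : y ∈ B := Subgroup.mem_sup_right (Subgroup.mem_zpowers y)
  have hAB : A ≤ B := le_sup_left
  have hBmem : ∀ u ∈ B, ∃ a ∈ A, ∃ k : ℤ, u = a * y ^ k := by
    intro u hu
    obtain ⟨a, ha, w, hw, rfl⟩ := Cfsg.Agent.Lib.PGrp.exists_mul_of_mem_sup hu
    obtain ⟨k, rfl⟩ := Subgroup.mem_zpowers_iff.1 hw
    exact ⟨a, ha, k, rfl⟩
  by_cases hNtop : N = ⊤
  · -- `B` is normal: contradiction with maximality
    have hBn : B.Normal := by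
      rw [← Subgroup.normalizer_eq_top_iff]
      exact hNtop
    have hBc : IsMulCommutative B := by
      refine ⟨⟨fun u v => Subtype.ext ?_⟩⟩
      obtain ⟨a, ha, k, hu⟩ := hBmem u u.2
      obtain ⟨b, hb, l, hv⟩ := hBmem v v.2
      show (u : G) * v = v * u
      rw [hu, hv]
      have h1 : Commute (y ^ k) b := (hy_comm b hb).zpow_left k
      have h2 : Commute (y ^ l) a := (hy_comm a ha).zpow_left l
      have h3 : Commute (y ^ k) (y ^ l) := Commute.zpow_zpow_self y k l
      calc a * y ^ k * (b * y ^ l) = a * (y ^ k * b) * y ^ l := by group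
        _ = a * (b * y ^ k) * y ^ l := by rw [h1.eq]
        _ = (a * b) * (y ^ k * y ^ l) := by group
        _ = (b * a) * (y ^ l * y ^ k) := by rw [hAc a ha b hb, h3.eq]
        _ = b * (a * y ^ l) * y ^ k := by group
        _ = b * (y ^ l * a) * y ^ k := by rw [h2.eq]
        _ = b * y ^ l * (a * y ^ k) := by group
    have hBe : ∀ b ∈ B, b ^ p ^ n = 1 := by
      intro u hu
      obtain ⟨a, ha, k, rfl⟩ := hBmem u hu
      have h1 : Commute a (y ^ k) := ((hy_comm a ha).zpow_left k).symm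
      rw [h1.mul_pow, hAe a ha, one_mul, ← zpow_natCast, ← zpow_mul, mul_comm, zpow_mul, zpow_natCast, hyn, one_zpow]
    have := hmax B hBn hBc hBe hAB
    exact hyA (this ▸ hyB)
  · -- the normalizer grows
    have hlt : N < ⊤ := lt_top_iff_ne_top.2 hNtop
    have hGtop : IsPGroup p (⊤ : Subgroup G) := hG.to_subgroup _
    obtain ⟨h₀, -, hh₀N, hh₀⟩ := Cfsg.Agent.Lib.PGrp.exists_mem_normalizer_of_lt hGtop hlt
    set M : Subgroup G := Subgroup.normalizer (N : Set G) with hM
    have hNM : N ≤ M := Subgroup.le_normalizer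
    have hNM' : N < M := lt_of_le_of_ne hNM (fun h => hh₀N (h ▸ hh₀))
    have hMN : ∀ h ∈ M, ∀ u ∈ N, h * u * h⁻¹ ∈ N := fun h hh u hu =>
      (Subgroup.mem_normalizer_iff.1 hh u).1 hu
    have hMN' : ∀ h ∈ M, ∀ u ∈ N, h⁻¹ * u * h ∈ N := fun h hh u hu => by
      have := hMN h⁻¹ (inv_mem hh) u hu
      simpa using this
    -- the conjugates
    let S : Set G := {z | ∃ h ∈ M, z = h * y * h⁻¹}
    have hSN : ∀ z ∈ S, z ∈ N := by
      rintro _ ⟨h, hh, rfl⟩
      exact hMN h hh y (hBN hyB)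
    have hSC : ∀ z ∈ S, ∀ a ∈ A, Commute z a := by
      rintro _ ⟨h, hh, rfl⟩ a ha
      have h1 : h⁻¹ * a * h ∈ A := by
        have := (inferInstance : A.Normal).conj_mem a ha h⁻¹
        simpa using this
      have h2 := (hy_comm _ h1).eq
      show h * y * h⁻¹ * a = a * (h * y * h⁻¹)
      calc h * y * h⁻¹ * a = h * (y * (h⁻¹ * a * h)) * h⁻¹ := by group
        _ = h * ((h⁻¹ * a * h) * y) * h⁻¹ := by rw [h2]
        _ = a * (h * y * h⁻¹) := by group
    have hSp : ∀ z ∈ S, z ^ p ∈ A := by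
      rintro _ ⟨h, hh, rfl⟩
      rw [conj_pow]
      exact (inferInstance : A.Normal).conj_mem _ hyp h
    have hSn : ∀ z ∈ S, z ^ p ^ n = 1 := by
      rintro _ ⟨h, hh, rfl⟩
      rw [conj_pow, hyn]
      group
    have hSact : ∀ z ∈ S, ∀ u ∈ N, ∃ a ∈ A, ∃ k : ℤ, u * z * u⁻¹ = a * z ^ k := by
      rintro _ ⟨h, hh, rfl⟩ u hu
      have hv := hMN' h hh u hu
      have h1 : (h⁻¹ * u * h) * y * (h⁻¹ * u * h)⁻¹ ∈ B :=
        (Subgroup.mem_normalizer_iff.1 hv y).1 hyB
      obtain ⟨a, ha, k, hk⟩ := hBmem _ h1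
      refine ⟨h * a * h⁻¹, (inferInstance : A.Normal).conj_mem a ha h, k, ?_⟩
      have e : (h * y * h⁻¹) ^ k = h * y ^ k * h⁻¹ := by
        rw [conj_zpow]
      rw [e]
      calc u * (h * y * h⁻¹) * u⁻¹ = h * ((h⁻¹ * u * h) * y * (h⁻¹ * u * h)⁻¹) * h⁻¹ := by group
        _ = h * (a * y ^ k) * h⁻¹ := by rw [hk]
        _ = _ := by group
    have hScomm : ∀ z ∈ S, ∀ z' ∈ S, z * z' * z⁻¹ * z'⁻¹ ∈ A := by
      intro z hz z' hz'
      obtain ⟨a, ha, k, h1⟩ := hSact z' hz' z (hSN z hz)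
      obtain ⟨b, hb, l, h2⟩ := hSact z hz z' (hSN z' hz')
      exact comm_mem hpp (hSC z hz) (hSC z' hz') (hSp z hz) ha hb h1 h2
    -- the big subgroup
    let T : Set G := (A : Set G) ∪ S
    have hTcomm : ∀ z ∈ T, ∀ z' ∈ T, z * z' * z⁻¹ * z'⁻¹ ∈ A := by
      rintro z (hz | hz) z' (hz' | hz')
      · rw [hAc z hz z' hz']
        simp
      · rw [(hSC z' hz' z hz).eq.symm]
        simp
      · rw [(hSC z hz z' hz').eq]
        simp
      · exact hScomm z hz z' hz'
    set D : Subgroup G := Subgroup.closure T with hD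
    have hDcomm := comm_mod_closure A T hTcomm
    have hDprop : ∀ d ∈ D, (∀ a ∈ A, Commute d a) ∧ d ^ p ∈ A ∧ d ^ p ^ n = 1 := by
      intro d hd
      induction hd using Subgroup.closure_induction with
      | mem z hz =>
        rcases hz with hz | hz
        · exact ⟨fun a ha => hAc z hz a ha, pow_mem hz _, hAe z hz⟩
        · exact ⟨hSC z hz, hSp z hz, hSn z hz⟩
      | one => simp [Commute.one_left, one_mem]
      | mul x y hx hy ihx ihy =>
        obtain ⟨h1, h2, h3⟩ := ihx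
        obtain ⟨h1', h2', h3'⟩ := ihy
        have hc : y⁻¹ * x⁻¹ * y * x ∈ A := by
          have := hDcomm y⁻¹ (inv_mem hy) x⁻¹ (inv_mem hx)
          simpa using this
        set c := y⁻¹ * x⁻¹ * y * x with hcdef
        have e : y * x = x * y * c := by rw [hcdef]; group
        have hcx : Commute c x := (h1 c hc).symm
        have hcy : Commute c y := (h1' c hc).symm
        have hcp : c ^ p = 1 := by
          have h4 := Cfsg.Agent.Lib.ClassTwo.pow_mul_of_comm e hcy p
          have h5 : y ^ p * x = x * y ^ p := (h1 _ h2').symm.eq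
          rw [h5] at h4
          exact (mul_left_cancel (a := x * y ^ p) (by rw [mul_one]; exact h4)).symm
        refine ⟨fun a ha => (h1 a ha).mul_left (h1' a ha), ?_, ?_⟩
        · rw [Cfsg.Agent.Lib.ClassTwo.mul_pow_of_comm e hcx hcy]
          exact mul_mem (mul_mem h2 h2') (pow_mem hc _)
        · rw [Cfsg.Agent.Lib.ClassTwo.mul_pow_of_comm e hcx hcy, h3, h3']
          obtain ⟨k, hk⟩ := Cfsg.Agent.Lib.ClassTwo.prime_dvd_choose_two_pow hpp hn1 hn
          rw [hk, pow_mul, hcp]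
          simp
      | inv x hx ih =>
        obtain ⟨h1, h2, h3⟩ := ih
        refine ⟨fun a ha => (h1 a ha).inv_left, ?_, ?_⟩
        · rw [inv_pow]
          exact inv_mem h2
        · rw [inv_pow, h3, inv_one]
    have hAD : A ≤ D := fun a ha => Subgroup.subset_closure (Or.inl ha)
    have hyS : y ∈ S := ⟨1, one_mem _, by group⟩
    have hyD : y ∈ D := Subgroup.subset_closure (Or.inr hyS)
    have hDN : D ≤ N := by
      rw [hD, Subgroup.closure_le]
      rintro z (hz | hz)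
      · exact hBN (hAB hz)
      · exact hSN z hz
    have hDM : D ≤ M := hDN.trans hNM
    have hAM : A ≤ M := hAD.trans hDM
    have hDconj : ∀ h ∈ M, ∀ d ∈ D, h * d * h⁻¹ ∈ D := by
      intro h hh d hd
      induction hd using Subgroup.closure_induction with
      | mem z hz =>
        rcases hz with hz | ⟨k, hk, rfl⟩
        · exact hAD ((inferInstance : A.Normal).conj_mem z hz h)
        · apply Subgroup.subset_closure
          exact Or.inr ⟨h * k, mul_mem hh hk, by group⟩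
      | one => simp
      | mul x y _ _ ihx ihy =>
        have : h * (x * y) * h⁻¹ = (h * x * h⁻¹) * (h * y * h⁻¹) := by group
        rw [this]
        exact mul_mem ihx ihy
      | inv x _ ih =>
        have : h * x⁻¹ * h⁻¹ = (h * x * h⁻¹)⁻¹ := by group
        rw [this]
        exact inv_mem ih
    -- work inside `M`
    have hMp : IsPGroup p M := hG.to_subgroup _
    haveI hDn : (D.subgroupOf M).Normal := ⟨fun u hu g => by
      rw [Subgroup.mem_subgroupOf] at hu ⊢
      exact hDconj g g.2 u hu⟩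
    haveI hAn : (A.subgroupOf M).Normal := inferInstance
    have hlt2 : A.subgroupOf M < D.subgroupOf M := by
      refine lt_of_le_of_ne (fun u hu => hAD hu) ?_
      intro he
      have : (⟨y, hDM hyD⟩ : M) ∈ A.subgroupOf M := by
        rw [he, Subgroup.mem_subgroupOf]
        exact hyD
      exact hyA this
    obtain ⟨y₁, hy₁D, hy₁A, hy₁c⟩ := Cfsg.Agent.Lib.PGrp.exists_central_mod hMp _ _ hlt2
    have hy₁D' : (y₁ : G) ∈ D := hy₁D
    have hy₁A' : (y₁ : G) ∉ A := hy₁A
    obtain ⟨p1, p2, p3⟩ := hDprop _ hy₁D'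
    have hgood₁ : Good (y₁ : G) := ⟨Subgroup.mem_centralizer_iff.2 (fun a ha => (p1 a ha).eq.symm), p3, hy₁A', p2⟩
    have hmax₁ := hmaxy ⟨y₁, hgood₁⟩
    -- `M` normalizes the new subgroup
    have hM₁ : M ≤ Subgroup.normalizer ((A ⊔ Subgroup.zpowers (y₁ : G) : Subgroup G) : Set G) := by
      intro g hg
      apply Cfsg.Agent.Lib.Replacement.mem_normalizer_of_forall
      intro u hu
      obtain ⟨a, ha, w, hw, rfl⟩ := Cfsg.Agent.Lib.PGrp.exists_mul_of_mem_sup hu
      obtain ⟨k, rfl⟩ := Subgroup.mem_zpowers_iff.1 hw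
      have e : g * (a * (y₁ : G) ^ k) * g⁻¹ = (g * a * g⁻¹) * (g * (y₁ : G) * g⁻¹) ^ k := by
        rw [conj_zpow]; group
      rw [e]
      have h1 : g * (y₁ : G) * g⁻¹ * (y₁ : G)⁻¹ ∈ A := by
        have h2 := hy₁c ⟨g, hg⟩
        have h3 : ⁅y₁, (⟨g, hg⟩ : M)⁆ ∈ A.subgroupOf M := h2
        rw [Subgroup.mem_subgroupOf] at h3
        have h4 : (y₁ : G) * g * (y₁ : G)⁻¹ * g⁻¹ ∈ A := by
          simpa [commutatorElement_def] using h3
        have h5 := inv_mem h4
        have h6 : (((y₁ : G) * g * (y₁ : G)⁻¹ * g⁻¹)⁻¹) = g * (y₁ : G) * g⁻¹ * (y₁ : G)⁻¹ := by group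
        rwa [h6] at h5
      have h7 : g * (y₁ : G) * g⁻¹ = (g * (y₁ : G) * g⁻¹ * (y₁ : G)⁻¹) * y₁ := by group
      apply mul_mem
      · exact Subgroup.mem_sup_left ((inferInstance : A.Normal).conj_mem a ha g)
      · apply zpow_mem
        rw [h7]
        exact mul_mem (Subgroup.mem_sup_left h1) (Subgroup.mem_sup_right (Subgroup.mem_zpowers _))
    have hcard : Nat.card N < Nat.card M := Cfsg.Agent.Lib.PComplement.card_lt_of_lt' hNM'
    have hcard2 : Nat.card M ≤ Nat.card (Subgroup.normalizer ((A ⊔ Subgroup.zpowers (y₁ : G) : Subgroup G) : Set G)) :=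
      Subgroup.card_le_of_le hM₁
    have : Nat.card (Subgroup.normalizer ((A ⊔ Subgroup.zpowers (y₁ : G) : Subgroup G) : Set G)) ≤ Nat.card N := hmax₁
    omega

end Cfsg.Agent.S0130
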