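import Cfsg.Statements.S0261
import Cfsg.Agent.Lib.SL2Tori
import Cfsg.Agent.Lib.QuatHom

set_option autoImplicit false
open Cfsg

namespace Cfsg.Agent.S0261

open Matrix Cfsg.Agent.Lib.SL2Tori Cfsg.Agent.Lib.ClassicalSmall Cfsg.Agent.Lib.QuatHom

variable {F : Type*} [Field F] [Fintype F]

/-- `-1` is the only involution of `SL_2(q)`, `q` odd. -/
lemma eq_neg_one_of_mul_self (h2 : (2 : F) ≠ 0) (x : SpecialLinearGroup (Fin 2) F) (hx : x * x = 1)
    (hx1 : x ≠ 1) : x = -1 := by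
  have hm : (x : Matrix (Fin 2) (Fin 2) F) * x = 1 := congrArg Subtype.val hx
  have e00 := congrFun (congrFun hm 0) 0
  have e01 := congrFun (congrFun hm 0) 1
  have e10 := congrFun (congrFun hm 1) 0
  have e11 := congrFun (congrFun hm 1) 1
  simp [Matrix.mul_apply, Fin.sum_univ_two] at e00 e01 e10 e11
  have hdet : x.1.det = 1 := x.2
  rw [Matrix.det_fin_two] at hdet
  have hs : x.1 0 0 + x.1 1 1 ≠ 0 := by
    intro hs
    have hd : x.1 1 1 = - x.1 0 0 := by linear_combination hs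
    rw [hd] at hdet
    apply h2
    linear_combination -(e00 + hdet)
  have hb : x.1 0 1 = 0 := by
    have : (x.1 0 0 + x.1 1 1) * x.1 0 1 = 0 := by linear_combination e01
    exact (mul_eq_zero.1 this).resolve_left hs
  have hc : x.1 1 0 = 0 := by
    have : (x.1 0 0 + x.1 1 1) * x.1 1 0 = 0 := by linear_combination e10
    exact (mul_eq_zero.1 this).resolve_left hs
  have had : x.1 0 0 = x.1 1 1 := by
    have : (x.1 0 0 + x.1 1 1) * (x.1 0 0 - x.1 1 1) = 0 := by linear_combination e00 - e11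
    exact sub_eq_zero.1 ((mul_eq_zero.1 this).resolve_left hs)
  have ha : (x.1 0 0 - 1) * (x.1 0 0 + 1) = 0 := by
    rw [hb] at e00
    linear_combination e00
  rcases mul_eq_zero.1 ha with h | h
  · exfalso
    apply hx1
    apply Subtype.ext
    ext i j
    have h1 : x.1 0 0 = 1 := sub_eq_zero.1 h
    have h1' : x.1 1 1 = 1 := had ▸ h1
    fin_cases i <;> fin_cases j <;> simp [h1, h1', hb, hc]
  · apply Subtype.ext
    change x.1 = -1
    ext i j
    have h1 : x.1 0 0 = -1 := by linear_combination h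
    have h1' : x.1 1 1 = -1 := had ▸ h1
    fin_cases i <;> fin_cases j <;> simp [h1, h1', hb, hc]

lemma two_pow_factorization {N e u : ℕ} (hN : N = 2 ^ e * u) (hu : Odd u) :
    2 ^ N.factorization 2 = 2 ^ e := by
  congr 1
  subst hN
  have hu0 : u ≠ 0 := by rintro rfl; simp at hu
  rw [Nat.factorization_mul (by positivity) hu0, Nat.factorization_pow]
  simp [Nat.factorization_eq_zero_of_not_dvd (Odd.not_two_dvd_nat hu),
    Nat.Prime.factorization_self Nat.prime_two]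

/-- The main step. -/
lemma of_pair (h2 : (2 : F) ≠ 0) {j u : ℕ} (hj : 2 ≤ j) (A W : SpecialLinearGroup (Fin 2) F)
    (hA : orderOf A = 2 ^ j) (hW : W * W = -1) (hc : W * A * W⁻¹ = A⁻¹)
    (hcard : Nat.card (SpecialLinearGroup (Fin 2) F) = 2 ^ (j + 1) * u) (hu : Odd u)
    (P : Sylow 2 (SpecialLinearGroup (Fin 2) F)) :
    ∃ k : ℕ, 1 ≤ k ∧ Nonempty ((P : Subgroup (SpecialLinearGroup (Fin 2) F)) ≃* QuaternionGroup (2 ^ k)) := by
  obtain ⟨k, rfl⟩ : ∃ k, j = k + 1 := ⟨j - 1, by omega⟩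
  refine ⟨k, by omega, ?_⟩
  set n := 2 ^ k with hn
  have : NeZero n := ⟨by positivity⟩
  have hA' : orderOf A = 2 * n := by rw [hA, pow_succ, hn]; ring
  have hn2 : 2 ≤ n := by
    calc 2 = 2 ^ 1 := rfl
      _ ≤ 2 ^ k := Nat.pow_le_pow_right (by norm_num) (by omega)
  have hinv : A ^ n = -1 := by
    apply eq_neg_one_of_mul_self h2
    · rw [← pow_add, ← two_mul, ← hA', pow_orderOf_eq_one]
    · exact pow_ne_one_of_lt_orderOf (by omega) (by omega)
  have hA2 : A ^ 2 ≠ 1 := pow_ne_one_of_lt_orderOf (by norm_num) (by omega)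
  obtain ⟨H, hH, ⟨e⟩⟩ := exists_subgroup_quaternion A W hA2 hA' (by rw [hW, hinv]) hc
  have hH' : Nat.card H = 2 ^ (Nat.card (SpecialLinearGroup (Fin 2) F)).factorization 2 := by
    rw [two_pow_factorization hcard hu, hH, hn]
    ring
  let Q : Sylow 2 (SpecialLinearGroup (Fin 2) F) := Sylow.ofCard H hH'
  exact ⟨(P.equiv Q).trans e⟩

/-- For q odd, the Sylow 2-subgroups of SL_2(q) are generalised quaternion. -/
theorem result {F : Type*} [Field F] [Fintype F] (hF : Odd (Fintype.card F)) (P : Sylow 2 (Matrix.SpecialLinearGroup (Fin 2) F)) : ∃ k : ℕ, 1 ≤ k ∧ Nonempty ((P : Subgroup (Matrix.SpecialLinearGroup (Fin 2) F)) ≃* QuaternionGroup (2 ^ k)) := by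
  have h2 : (2 : F) ≠ 0 := by
    apply Ring.two_ne_zero
    intro h
    rw [FiniteField.even_card_iff_char_two] at h
    obtain ⟨m, hm⟩ := hF
    omega
  have hcard : Nat.card (Matrix.SpecialLinearGroup (Fin 2) F) =
      (Fintype.card F + 1) * Fintype.card F * (Fintype.card F - 1) := card_SL2
  have hq1 : 1 < Fintype.card F := Fintype.one_lt_card
  set q := Fintype.card F with hq
  have hqo := hF
  obtain ⟨s, hs⟩ := hF
  have key : ∀ t : ℕ, t ≠ 0 → 4 ∣ t → ∃ j m, 2 ≤ j ∧ Odd m ∧ t = 2 ^ j * m := by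
    intro t ht h4
    obtain ⟨j, m, hm, rfl⟩ := Nat.exists_eq_two_pow_mul_odd ht
    refine ⟨j, m, ?_, hm, rfl⟩
    by_contra hj
    have hj' : j = 0 ∨ j = 1 := by omega
    obtain ⟨l, rfl⟩ := hm
    rcases hj' with rfl | rfl <;> omega
  by_cases h4 : 4 ∣ q - 1
  · obtain ⟨j, m, hj, hm, htm⟩ := key (q - 1) (by omega) h4
    obtain ⟨A, hA, hc⟩ := exists_split (F := F) (d := 2 ^ j) ⟨m, htm⟩
    have hodd : Odd ((q + 1) / 2) := by
      obtain ⟨l, hl⟩ := h4
      refine ⟨l, ?_⟩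
      omega
    obtain ⟨m', hm'⟩ : ∃ m', q + 1 = 2 * m' := ⟨(q + 1) / 2, by omega⟩
    have hm'o : Odd m' := by
      have : (q + 1) / 2 = m' := by omega
      rwa [this] at hodd
    refine of_pair h2 hj A J hA J_mul_J hc (u := m' * q * m) ?_ ((hm'o.mul hqo).mul hm) P
    rw [hcard, hm', htm]
    ring
  · have h4' : 4 ∣ q + 1 := by omega
    obtain ⟨j, m, hj, hm, htm⟩ := key (q + 1) (by omega) h4'
    have hjpos : 2 < 2 ^ j := by
      calc 2 < 2 ^ 2 := by norm_num
        _ ≤ 2 ^ j := Nat.pow_le_pow_right (by norm_num) hj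
    obtain ⟨A, hA, hW⟩ := exists_nonsplit (F := F) (d := 2 ^ j) ⟨m, htm⟩
    obtain ⟨W, hW1, hW2⟩ := hW hjpos
    obtain ⟨m', hm'⟩ : ∃ m', q - 1 = 2 * m' := ⟨(q - 1) / 2, by omega⟩
    have hm'o : Odd m' := by
      obtain ⟨l, hl⟩ := h4'
      refine Nat.odd_iff.2 ?_
      omega
    refine of_pair h2 hj A W hA hW1 hW2 (u := m * q * m') ?_ ((hm.mul hqo).mul hm'o) P
    rw [hcard, hm', htm]
    ring

end Cfsg.Agent.S0261
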