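import Cfsg.Statements.S0268
import Mathlib

set_option autoImplicit false
open Cfsg

namespace Cfsg.Agent.S0268

/-- For q odd, -1 is the unique involution of SL_2(q). -/
theorem result {F : Type*} [Field F] [Fintype F] (hF : Odd (Fintype.card F)) (g : Matrix.SpecialLinearGroup (Fin 2) F) (h1 : g ≠ 1) (h2 : g * g = 1) : (g : Matrix (Fin 2) (Fin 2) F) = -1 := by
  have hchar : (2 : F) ≠ 0 := by
    intro h
    have h2 : ringChar F = 2 := by
      have := CharP.ringChar_of_prime_eq_zero (R := F) Nat.prime_two (by simpa using h)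
      exact this
    have := (FiniteField.even_card_iff_char_two (F := F)).mp h2
    rw [Nat.odd_iff] at hF
    omega
  obtain ⟨m, hm⟩ := g
  have hd : m 0 0 * m 1 1 - m 0 1 * m 1 0 = 1 := by rw [← Matrix.det_fin_two]; exact hm
  have hs : m * m = 1 := congrArg Subtype.val h2
  have h00 := congrFun (congrFun hs 0) 0
  have h01 := congrFun (congrFun hs 0) 1
  have h10 := congrFun (congrFun hs 1) 0
  have h11 := congrFun (congrFun hs 1) 1
  simp [Matrix.mul_apply, Fin.sum_univ_two] at h00 h01 h10 h11
  have ht : m 0 0 + m 1 1 ≠ 0 := by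
    intro ht
    have hd1 : m 1 1 = - m 0 0 := by linear_combination ht
    rw [hd1] at hd
    apply hchar
    linear_combination -h00 - hd
  have hb : m 0 1 = 0 := by
    have : m 0 1 * (m 0 0 + m 1 1) = 0 := by linear_combination h01
    exact (mul_eq_zero.mp this).resolve_right ht
  have hc : m 1 0 = 0 := by
    have : m 1 0 * (m 0 0 + m 1 1) = 0 := by linear_combination h10
    exact (mul_eq_zero.mp this).resolve_right ht
  rw [hb] at h00 hd
  rw [hc] at h11 hd
  simp at h00 h11 hd
  have had : m 0 0 = m 1 1 := by
    -- a * a = 1, a * d = 1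
    have ha : m 0 0 ≠ 0 := by rintro h; simp [h] at hd
    apply mul_left_cancel₀ ha
    rw [hd]; simpa [pow_two] using h00
  have ha : m 0 0 = 1 ∨ m 0 0 = -1 := by
    have : (m 0 0 - 1) * (m 0 0 + 1) = 0 := by linear_combination h00
    rcases mul_eq_zero.mp this with h | h
    · left; linear_combination h
    · right; linear_combination h
  rcases ha with ha | ha
  · exfalso
    apply h1
    apply Subtype.ext
    ext i j
    fin_cases i <;> fin_cases j <;> simp [hb, hc, ha, ← had]
  · show m = -1
    ext i j
    fin_cases i <;> fin_cases j <;> simp [hb, hc, ha, ← had]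

end Cfsg.Agent.S0268
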