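import Mathlib
import Cfsg.Statements.S0809
import Cfsg.Agent.Lib.SL2Four

set_option autoImplicit false
open Cfsg

namespace Cfsg.Agent.S0809

open Cfsg.Agent.Lib.SL2Core Cfsg.Agent.Lib.SL2Inv Cfsg.Agent.Lib.SL2Four

/-- In SL_2(q), q odd: any two subgroups of order 4 are conjugate, and the normaliser of a subgroup of order 4 has order 2(q − 1) if q ≡ 1 (mod 4) and 2(q + 1) if q ≡ 3 (mod 4); consequently all involutions of PSL_2(q) are conjugate. -/
theorem result {F : Type*} [Field F] [Fintype F] {q : ℕ} (hF : Fintype.card F = q) (hodd : Odd q) (A : Subgroup (Matrix.SpecialLinearGroup (Fin 2) F)) (hA : Nat.card A = 4) : (∀ B : Subgroup (Matrix.SpecialLinearGroup (Fin 2) F), Nat.card B = 4 → ∃ g : Matrix.SpecialLinearGroup (Fin 2) F, B = A.map (MulAut.conj g).toMonoidHom) ∧ (q % 4 = 1 → Nat.card ↥(Subgroup.normalizer (A : Set (Matrix.SpecialLinearGroup (Fin 2) F))) = 2 * (q - 1)) ∧ (q % 4 = 3 → Nat.card ↥(Subgroup.normalizer (A : Set (Matrix.SpecialLinearGroup (Fin 2)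 F))) = 2 * (q + 1)) ∧ (∀ x y : Matrix.ProjectiveSpecialLinearGroup (Fin 2) F, orderOf x = 2 → orderOf y = 2 → IsConj x y) := by
  have h2 : (2 : F) ≠ 0 := two_ne_zero_of_odd (by rw [hF]; exact hodd)
  obtain ⟨g, hg, hgA⟩ := exists_gen h2 A hA
  refine ⟨?_, ?_, ?_, involutions_conj h2⟩
  · intro B hB
    obtain ⟨h, hh, hhB⟩ := exists_gen h2 B hB
    obtain ⟨u, hu⟩ := conj_of_sq h2 g h hg hh
    refine ⟨u, ?_⟩
    ext y
    simp only [Subgroup.mem_map, MulEquiv.coe_toMonoidHom, MulAut.conj_apply]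
    constructor
    · intro hy
      rw [hhB] at hy
      rcases hy with rfl | rfl | rfl | rfl
      · exact ⟨1, one_mem _, by simp⟩
      · exact ⟨g, (hgA g).2 (by simp), hu⟩
      · exact ⟨negS 1, (hgA _).2 (by simp), conj_negS_one u⟩
      · exact ⟨negS g, (hgA _).2 (by simp), by rw [conj_negS, hu]⟩
    · rintro ⟨x, hx, rfl⟩
      rw [hgA] at hx
      rw [hhB]
      rcases hx with rfl | rfl | rfl | rfl
      · simp
      · rw [hu]
        simp
      · rw [conj_negS_one]
        simp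
      · rw [conj_negS, hu]
        simp
  · intro hq
    rw [card_normalizer h2 hg hgA, card_centralizer_of_one h2 hF hq hg]
  · intro hq
    rw [card_normalizer h2 hg hgA, card_centralizer_of_three h2 hF hq hg]

end Cfsg.Agent.S0809
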