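import Mathlib
import Cfsg.Agent.Lib.SL2Torus
import Cfsg.Statements.S2475

set_option autoImplicit false
open Cfsg

namespace Cfsg.Agent.S2475

open Cfsg.Agent.Lib.SL2Core Cfsg.Agent.Lib.SL2Torus

/-- The set of element orders of PSL(2,q): let F be a finite field of characteristic p with q ≥ 4 elements and d = gcd(2, q − 1). The orders of elements of PSL(2,F) are exactly the divisors of p, of (q − 1)/d and of (q + 1)/d. -/
theorem result {F : Type*} [Field F] [Fintype F] (p : ℕ) [Fact p.Prime] [CharP F p] (h4 : 4 ≤ Fintype.card F) :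
    Set.range (orderOf : Matrix.ProjectiveSpecialLinearGroup (Fin 2) F → ℕ) =
      {m : ℕ | m ∣ p ∨ m ∣ (Fintype.card F - 1) / Nat.gcd 2 (Fintype.card F - 1) ∨ m ∣ (Fintype.card F + 1) / Nat.gcd 2 (Fintype.card F - 1)} := by
  classical
  have hgcd : Nat.gcd 2 (Fintype.card F - 1) = Nat.gcd 2 (Fintype.card F + 1) := gcd_two_eq _ (by omega)
  -- a divisor of an order is an order
  have hdvd : ∀ (x : PSL2 F) (m : ℕ), m ∣ orderOf x → m ∈ Set.range (orderOf : PSL2 F → ℕ) := by
    intro x m hm
    exact ⟨x ^ (orderOf x / m), orderOf_pow_orderOf_div (orderOf_pos x).ne' hm⟩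
  ext m
  constructor
  · rintro ⟨g, rfl⟩
    obtain ⟨A, rfl⟩ := proj_surjective g
    show orderOf (proj A) ∣ p ∨ orderOf (proj A) ∣ (Fintype.card F - 1) / Nat.gcd 2 (Fintype.card F - 1) ∨ orderOf (proj A) ∣ (Fintype.card F + 1) / Nat.gcd 2 (Fintype.card F - 1)
    by_cases ht : tr A * tr A = 4
    · left
      exact orderOf_dvd_of_pow_eq_one (proj_pow_of_parabolic p A ht)
    · by_cases hs : ∃ l : F, l * l - tr A * l + 1 = 0
      · obtain ⟨l, hl⟩ := hs
        right; left
        exact orderOf_dvd_of_pow_eq_one (proj_pow_of_split A l hl ht)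
      · right; right
        push Not at hs
        rw [hgcd]
        exact orderOf_dvd_of_pow_eq_one (proj_pow_of_nonsplit A hs)
  · rintro (h | h | h)
    · apply hdvd (proj (E (1 : F))) m
      rw [orderOf_proj_E p]; exact h
    · obtain ⟨w, hw⟩ := IsCyclic.exists_ofOrder_eq_natCard (α := Fˣ)
      rw [Nat.card_eq_fintype_card, Fintype.card_units] at hw
      apply hdvd (proj (diagS w)) m
      rw [orderOf_proj_diagS_gen w hw]; exact h
    · obtain ⟨D⟩ := exists_normOneData (F := F)
      apply hdvd (proj (Cfsg.Agent.Lib.SL2Core.comp D.t)) m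
      rw [orderOf_proj D _ (tr_comp _), ← hgcd]; exact h

end Cfsg.Agent.S2475
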