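import Mathlib
import Cfsg.Statements.S0495
import Cfsg.Agent.Lib.PSL2Rec3
import Cfsg.Agent.S1005

set_option autoImplicit false
set_option linter.style.haveILetI false
open Cfsg

namespace Cfsg.Agent.S0495

open Cfsg.Agent.Lib.PSL2Rec Cfsg.Agent.Lib.SmallGroups2 OnePoint

/-- Logarithm table. -/
def dl : ZMod 7 → Bool × ℕ := fun i =>
  [(false, 0), (false, 0), (false, 1), (true, 0), (false, 2), (true, 2), (true, 1)].getD i.val (false, 0)

theorem chk : Chk 7 dl 2 := by
  unfold Chk tbl
  decide +kernel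

theorem hdl : ∀ i : ZMod 7, i ≠ 0 → i = (if (dl i).1 then 3 else 1) * 2 ^ (dl i).2 := by
  decide +kernel

theorem hg0 : (3 : ZMod 7) ≠ 0 := by decide
theorem hsq : (3 : ZMod 7) ^ 2 = 2 := by decide
theorem h21 : (2 : ZMod 7) ≠ 1 := by decide
theorem h6 : (3 : ZMod 7) ^ 6 = 1 := by decide

/-- A simple group of order 168 is isomorphic to the projective special linear group of dimension 2 over the field with
7 elements. -/
theorem result {G : Type*} [Group G] [Finite G] [IsSimpleGroup G]
    (h : Nat.card G = 168) {F : Type*} [Field F] [Fintype F] (hF : Fintype.card F = 7) :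
    Nonempty (G ≃* Matrix.ProjectiveSpecialLinearGroup (Fin 2) F) := by
  haveI : Fact (Nat.Prime 7) := ⟨by norm_num⟩
  have hna : ¬ IsMulCommutative G := by
    apply not_isMulCommutative_of_not_prime
    rw [h]
    norm_num
  have hG2 : 2 * Nat.card G = 7 * (7 ^ 2 - 1) := by rw [h]; norm_num
  have hc : Nat.card (Sylow 7 G) = 7 + 1 := by
    have h1 := card_sylow_mem_filter (G := G) (p := 7) (a := 1) (m := 24) (by rw [h]; norm_num) (by norm_num) (by norm_num)
    have h2 : Nat.card (Sylow 7 G) ≠ 1 := card_sylow_ne_one hna (by rw [h]; norm_num)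
    have e : (Nat.divisors 24).filter (fun n => n % 7 = 1 % 7) = {1, 8} := by decide +kernel
    rw [e] at h1
    simp only [Finset.mem_insert, Finset.mem_singleton] at h1
    omega
  have hsqval : (((Units.mk0 3 hg0) ^ 2 : (ZMod 7)ˣ) : ZMod 7) = 2 := by
    simp
    exact hsq
  refine recognize (p := 7) hna (by norm_num) hG2 hc 3 2 (Units.mk0 3 hg0) hg0 dl ?_ chk ?_ hF
  · rw [hsqval]
    exact hdl
  · intro L t ht1 ht0 k' hk' hcomm
    have hkk : k' = (Units.mk0 3 hg0) ^ 2 := by
      apply Units.ext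
      rw [hk', hsqval]
    rw [hkk] at hcomm
    -- the element of order 3
    obtain ⟨d, hd⟩ := L.sq_mem_I hna hG2 (Units.mk0 3 hg0)
    have hinj := L.phi_injective hna
    have htd : t * d = d * t := by
      apply hinj
      rw [map_mul, map_mul, hd]
      exact hcomm
    have hd3 : d ^ 3 = 1 := by
      apply hinj
      rw [map_pow, hd, map_one, ← map_pow, ← map_one (mu (ZMod 7))]
      congr 1
      apply Units.ext
      have : (((Units.mk0 3 hg0) ^ 2) ^ 3 : (ZMod 7)ˣ) = (Units.mk0 3 hg0) ^ 6 := by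
        rw [← pow_mul]
      rw [this]
      simp
      exact h6
    have hd1 : d ≠ 1 := by
      rintro rfl
      rw [map_one] at hd
      have h5 := congrArg (fun σ : Equiv.Perm (OnePoint (ZMod 7)) => σ ((1 : ZMod 7) : OnePoint (ZMod 7))) hd
      simp only [Equiv.Perm.coe_one, id_eq] at h5
      rw [mu_coe, mul_one, hsqval] at h5
      exact h21 (OnePoint.coe_eq_coe.mp h5.symm)
    have hod : orderOf d = 3 := orderOf_eq_prime hd3 hd1
    -- the element of order 2
    have htt1 : L.phi (t ^ 2) (∞ : OnePoint (ZMod 7)) = ∞ := by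
      rw [map_pow, pow_two, Equiv.Perm.mul_apply, ht1, ht0]
    have htt0 : L.phi (t ^ 2) ((0 : ZMod 7) : OnePoint (ZMod 7)) = ((0 : ZMod 7) : OnePoint (ZMod 7)) := by
      rw [map_pow, pow_two, Equiv.Perm.mul_apply, ht0, ht1]
    obtain ⟨b, u, hu, he⟩ := L.affine_mem (t ^ 2) htt1
    rw [he, Equiv.Perm.mul_apply, mu_coe, mul_zero, rho_T_coe, zero_add] at htt0
    have hb : b = 0 := OnePoint.coe_eq_coe.mp htt0
    subst hb
    rw [rho_T_zero, one_mul] at he
    have hu3 : u ^ 3 = 1 := L.pow_half_of_mem_I hna hG2 (by norm_num) hu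
    have ht6 : t ^ 6 = 1 := by
      apply hinj
      have : t ^ 6 = (t ^ 2) ^ 3 := by rw [← pow_mul]
      rw [this, map_pow, he, ← map_pow, hu3, map_one, map_one]
    have hu1 : t ^ 3 ≠ 1 := by
      intro h3
      have h4 : L.phi (t ^ 3) (∞ : OnePoint (ZMod 7)) = ∞ := by rw [h3, map_one]; rfl
      rw [map_pow, pow_succ, pow_two, Equiv.Perm.mul_apply, Equiv.Perm.mul_apply, ht1, ht0, ht1] at h4
      exact OnePoint.coe_ne_infty _ h4
    have hu2 : (t ^ 3) ^ 2 = 1 := by rw [← pow_mul]; exact ht6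
    have hou : orderOf (t ^ 3) = 2 := orderOf_eq_prime hu2 hu1
    have hcm : Commute (t ^ 3) d := Commute.pow_left htd 3
    have ho6 : orderOf (t ^ 3 * d) = 6 := by
      rw [hcm.orderOf_mul_eq_mul_orderOf_of_coprime (by rw [hou, hod]; norm_num), hou, hod]
    have := (Cfsg.Agent.S1005.result h).1 (t ^ 3 * d)
    omega

end Cfsg.Agent.S0495
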