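import Mathlib
import Cfsg.Statements.S3919
import Cfsg.Agent.S0112
import Cfsg.Agent.Lib.UniqueSub
import Cfsg.Agent.Lib.MaxClassTwo2
import Cfsg.Agent.Lib.MaxClass
import Cfsg.Agent.Lib.KleinTools
import Cfsg.Agent.Lib.OddPGroup

set_option autoImplicit false
set_option linter.all false
open Cfsg

namespace Cfsg.Agent.S3919

/-- Self-centralizing cyclic subgroup of order four in a quaternion group. -/
theorem quat_key (k : ℕ) (hk : 1 ≤ k) (y : QuaternionGroup (2 ^ k))
    (hy : y * QuaternionGroup.xa 0 = QuaternionGroup.xa 0 * y) :
    y ∈ Subgroup.zpowers (QuaternionGroup.xa 0 : QuaternionGroup (2 ^ k)) := by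
  classical
  haveI : NeZero (2 * 2 ^ k) := ⟨by positivity⟩
  have key : ∀ i : ZMod (2 * 2 ^ k), i = -i → i = 0 ∨ i = ((2 ^ k : ℕ) : ZMod (2 * 2 ^ k)) := by
    intro i hi
    have h0 : i + i = 0 := by
      nth_rewrite 2 [hi]
      simp
    have h1 : ((i.val + i.val : ℕ) : ZMod (2 * 2 ^ k)) = 0 := by
      push_cast
      rw [ZMod.natCast_zmod_val]
      exact h0
    rw [ZMod.natCast_eq_zero_iff] at h1
    obtain ⟨c, hc⟩ := h1
    have h2 : i.val = 2 ^ k * c := by nlinarith
    have h3 : i.val < 2 * 2 ^ k := ZMod.val_lt i
    have hpos : 0 < 2 ^ k := by positivity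
    have h4 : c < 2 := by
      rw [h2] at h3
      nlinarith
    interval_cases c
    · left
      rw [← ZMod.natCast_zmod_val i, h2]
      simp
    · right
      rw [← ZMod.natCast_zmod_val i, h2, mul_one]
  set m : ZMod (2 * 2 ^ k) := ((2 ^ k : ℕ) : ZMod (2 * 2 ^ k)) with hm
  have h2m : m + m = 0 := by
    have : m + m = ((2 * 2 ^ k : ℕ) : ZMod (2 * 2 ^ k)) := by
      rw [hm]; push_cast; ring
    rw [this]
    exact ZMod.natCast_self _
  have hnegm : -m = m := by
    rw [neg_eq_iff_add_eq_zero]
    exact h2m
  have hpow2 : (QuaternionGroup.xa 0 : QuaternionGroup (2 ^ k)) ^ 2 = QuaternionGroup.a m := by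
    rw [pow_two, QuaternionGroup.xa_mul_xa]
    simp [hm]
  have hpow3 : (QuaternionGroup.xa 0 : QuaternionGroup (2 ^ k)) ^ 3 = QuaternionGroup.xa m := by
    rw [pow_succ, hpow2, QuaternionGroup.a_mul_xa]
    simp [hnegm]
  rcases y with i | j
  · -- y = a i
    rw [QuaternionGroup.a_mul_xa, QuaternionGroup.xa_mul_a] at hy
    have h1 : (0 : ZMod (2 * 2 ^ k)) - i = 0 + i := QuaternionGroup.xa.inj hy
    have h2 : i = -i := by
      simp only [zero_sub, zero_add] at h1
      exact h1.symm
    rcases key i h2 with rfl | rfl
    · have : (QuaternionGroup.a 0 : QuaternionGroup (2 ^ k)) = 1 := rfl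
      rw [this]
      exact Subgroup.one_mem _
    · rw [← hpow2]
      exact Subgroup.npow_mem_zpowers _ _
  · rw [QuaternionGroup.xa_mul_xa, QuaternionGroup.xa_mul_xa] at hy
    have h1 := QuaternionGroup.a.inj hy
    have h2 : j = -j := by
      have h3 : ((2 ^ k : ℕ) : ZMod (2 * 2 ^ k)) + 0 - j = ((2 ^ k : ℕ) : ZMod (2 * 2 ^ k)) + j - 0 := h1
      simp only [add_zero, sub_zero] at h3
      have h4 : -j = j := by
        have := congrArg (fun t => t - ((2 ^ k : ℕ) : ZMod (2 * 2 ^ k))) h3
        simpa [sub_eq_add_neg, add_comm, add_left_comm] using this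
      exact h4.symm
    rcases key j h2 with rfl | rfl
    · exact Subgroup.mem_zpowers _
    · rw [← hpow3]
      exact Subgroup.npow_mem_zpowers _ _

theorem result {G : Type*} [Group G] [Finite G] (hna : ¬ IsMulCommutative G) (n : ℕ) (hG : Nat.card G = 2 ^ n) :
    (∀ H : Subgroup G, ¬ IsCyclic ↥H → Subgroup.centralizer (H : Set G) ≤ H) ↔ (⊤ : Subgroup G).lowerCentralSeries (n - 2) ≠ ⊥ := by
  classical
  haveI hf2 : Fact (Nat.Prime 2) := ⟨Nat.prime_two⟩
  have hP : IsPGroup 2 G := IsPGroup.of_card hG
  haveI hnil : Group.IsNilpotent G := hP.isNilpotent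
  have hn : 3 ≤ n := by
    by_contra h
    push Not at h
    apply hna
    interval_cases n
    · have h1 : Nat.card G = 1 := by simpa using hG
      haveI := (Nat.card_eq_one_iff_unique.mp h1).1
      exact ⟨⟨fun a b => Subsingleton.elim _ _⟩⟩
    · have h1 : Nat.card G = 2 := by simpa using hG
      haveI : IsCyclic G := isCyclic_of_prime_card h1
      exact ⟨⟨fun a b => (IsCyclic.commGroup (α := G)).mul_comm a b⟩⟩
    · exact IsPGroup.isMulCommutative_of_card_eq_prime_sq (p := 2) hG
  constructor
  · intro hsc
    have hA : ∃ A : Subgroup G, Nat.card A = 2 ^ 2 ∧ Subgroup.centralizer (A : Set G) = A := by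
      by_cases hE : ∃ A : Subgroup G, Nat.card A = 2 ^ 2 ∧ ¬ IsCyclic A
      · obtain ⟨A, hA1, hA2⟩ := hE
        refine ⟨A, hA1, le_antisymm (hsc A hA2) ?_⟩
        have hcomm := IsPGroup.isMulCommutative_of_card_eq_prime_sq (p := 2) hA1
        intro x hx
        rw [Subgroup.mem_centralizer_iff]
        intro y hy
        exact congrArg Subtype.val (hcomm.is_comm.comm ⟨y, hy⟩ ⟨x, hx⟩)
      · push Not at hE
        -- a central involution
        haveI : Nontrivial G := by
          by_contra hnt
          rw [not_nontrivial_iff_subsingleton] at hnt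
          exact hna ⟨⟨fun a b => Subsingleton.elim _ _⟩⟩
        have hZ : Nontrivial (Subgroup.center G) := hP.center_nontrivial
        obtain ⟨w, hw⟩ := exists_ne (1 : Subgroup.center G)
        have hinv : ∀ v : G, v ≠ 1 → ∃ k, (v ^ k) ^ 2 = 1 ∧ v ^ k ≠ 1 := by
          intro v hv
          obtain ⟨j, hj⟩ := IsPGroup.iff_orderOf.mp hP v
          have hj0 : j ≠ 0 := by
            rintro rfl
            rw [pow_zero, orderOf_eq_one_iff] at hj
            exact hv hj
          obtain ⟨i, rfl⟩ : ∃ i, j = i + 1 := ⟨j - 1, by omega⟩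
          refine ⟨2 ^ i, ?_, ?_⟩
          · rw [← pow_mul, ← pow_succ, ← hj]
            exact pow_orderOf_eq_one v
          · intro h
            have h1 := orderOf_dvd_of_pow_eq_one h
            rw [hj] at h1
            have := Nat.le_of_dvd (by positivity) h1
            rw [pow_succ] at this
            have hpos : 0 < 2 ^ i := by positivity
            omega
        have hw1 : (w : G) ≠ 1 := fun h => hw (Subtype.ext h)
        obtain ⟨k, hk2, hk1⟩ := hinv w hw1
        set z : G := (w : G) ^ k with hz
        have hzc : z ∈ Subgroup.center G := Subgroup.pow_mem _ w.2 k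
        have huniq : ∀ t : G, t ^ 2 = 1 → t ≠ 1 → t = z := by
          intro t ht2 ht1
          by_contra hne
          have hcomm : t * z = z * t := (Subgroup.mem_center_iff.mp hzc t)
          have hK := Cfsg.Agent.Lib.KleinTools.isKleinFour_kleinOf ht2 hk2 hcomm ht1 hk1 hne
          have hc4 : Nat.card (Cfsg.Agent.Lib.KleinTools.kleinOf t z ht2 hk2 hcomm) = 4 := hK.card_four
          have hcyc := hE _ (by rw [hc4]; norm_num)
          exact IsKleinFour.not_isCyclic hcyc
        have hmain := Cfsg.Agent.Lib.UniqueSub.main 2 hP (by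
          intro H K hH hK
          have hgen : ∀ H : Subgroup G, Nat.card H = 2 → H = Subgroup.zpowers z := by
            intro H hH
            haveI : Fact (Nat.Prime (Nat.card H)) := by rw [hH]; exact hf2
            obtain ⟨g, hg⟩ := isCyclic_of_prime_card (α := H) hH |>.exists_generator
            have hg1 : g ≠ 1 := by
              rintro rfl
              have : Nat.card H = 1 := by
                have h3 : ∀ x : H, x = 1 := fun x => by
                  obtain ⟨m, hm⟩ := Subgroup.mem_zpowers_iff.mp (hg x)
                  rw [← hm]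
                  simp
                exact Nat.card_eq_one_iff_unique.mpr ⟨⟨fun a b => by rw [h3 a, h3 b]⟩, ⟨1⟩⟩
              omega
            have hg2 : g ^ 2 = 1 := by rw [← hH]; exact pow_card_eq_one'
            have hg3 : (g : G) = z := huniq g (by exact_mod_cast congrArg Subtype.val hg2)
              (fun h => hg1 (Subtype.ext h))
            apply Subgroup.eq_of_le_of_card_ge
            · intro x hx
              obtain ⟨m, hm⟩ := Subgroup.mem_zpowers_iff.mp (hg ⟨x, hx⟩)
              have h4 := congrArg Subtype.val hm
              rw [Subgroup.mem_zpowers_iff]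
              exact ⟨m, by rw [← hg3, ← Subgroup.coe_zpow]; exact h4⟩
            · rw [Nat.card_zpowers, hH]
              have : orderOf z = 2 := orderOf_eq_prime hk2 hk1
              omega
          rw [hgen H hH, hgen K hK])
        rcases hmain with hcyc | ⟨-, k, ⟨e⟩⟩
        · exfalso
          exact hna ⟨⟨fun a b => (IsCyclic.commGroup (α := G)).mul_comm a b⟩⟩
        · -- quaternion
          have hk : 1 ≤ k := by
            by_contra hk
            have hk0 : k = 0 := by omega
            subst hk0
            apply hna
            have hc : Nat.card G = 2 ^ 2 := by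
              rw [Nat.card_congr e.toEquiv, Nat.card_eq_fintype_card, QuaternionGroup.card]
              norm_num
            exact IsPGroup.isMulCommutative_of_card_eq_prime_sq (p := 2) hc
          haveI : NeZero (2 ^ k) := ⟨by positivity⟩
          let x : G := e.symm (QuaternionGroup.xa 0)
          have hxord : orderOf x = 4 := by
            rw [MulEquiv.orderOf_eq]
            exact QuaternionGroup.orderOf_xa 0
          refine ⟨Subgroup.zpowers x, by rw [Nat.card_zpowers, hxord]; norm_num, ?_⟩
          apply le_antisymm
          · intro y hy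
            have h1 : y * x = x * y :=
              (Subgroup.mem_centralizer_iff.mp hy x (Subgroup.mem_zpowers x)).symm
            have h2 : e y * QuaternionGroup.xa 0 = QuaternionGroup.xa 0 * e y := by
              have := congrArg e h1
              simpa [x] using this
            have h3 := quat_key k hk (e y) h2
            obtain ⟨m, hm⟩ := Subgroup.mem_zpowers_iff.mp h3
            rw [Subgroup.mem_zpowers_iff]
            refine ⟨m, ?_⟩
            apply e.injective
            rw [map_zpow, ← hm]
            simp [x]
          · intro y hy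
            obtain ⟨m, rfl⟩ := Subgroup.mem_zpowers_iff.mp hy
            rw [Subgroup.mem_centralizer_iff]
            intro w hw
            obtain ⟨m', rfl⟩ := Subgroup.mem_zpowers_iff.mp hw
            exact (Commute.refl x).zpow_zpow _ _
    obtain ⟨A, hA1, hA2⟩ := hA
    have hcl := Cfsg.Agent.S0112.key (p := 2) n G hG A hA1 hA2
    intro hbot
    rw [Subgroup.lowerCentralSeries_eq_bot_iff_nilpotencyClass_le, hcl] at hbot
    omega
  · intro hne H hH
    have hup : (⊤ : Subgroup G).lowerCentralSeries (n - 1) = ⊥ :=
      Cfsg.Agent.Lib.MaxClass.lcs_eq_bot_of_card hP hG (by omega)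
    have hcl : Group.nilpotencyClass G = n - 1 := by
      rw [Subgroup.lowerCentralSeries_eq_bot_iff_nilpotencyClass_le] at hup
      have h2 : ¬ Group.nilpotencyClass G ≤ n - 2 := fun h =>
        hne (Subgroup.lowerCentralSeries_eq_bot_iff_nilpotencyClass_le.mpr h)
      omega
    have h4 := Cfsg.Agent.Lib.MaxClassTwo2.four_mul_of_class hn hG hcl
    obtain ⟨c, g, hc, hg, hW, hcenter, hord⟩ := Cfsg.Agent.Lib.MaxClassTwo2.structure_of_four_mul hn hG h4
    set C : Subgroup G := Subgroup.zpowers c with hC
    haveI hCn : C.Normal := Subgroup.normal_of_index_eq_two hc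
    have hCab : ∀ a ∈ C, ∀ b ∈ C, a * b = b * a := by
      intro a ha b hb
      obtain ⟨i, rfl⟩ := Subgroup.mem_zpowers_iff.mp ha
      obtain ⟨j, rfl⟩ := Subgroup.mem_zpowers_iff.mp hb
      exact (Commute.refl c).zpow_zpow _ _
    -- outside C the product with g is inside
    have hout : ∀ x y : G, x ∉ C → y ∉ C → x * y⁻¹ ∈ C := by
      intro x y hx hy
      have h1 := Subgroup.mul_mem_iff_of_index_two hc (a := x) (b := y⁻¹)
      rw [h1]
      simp [hx, hy]
    -- H is not inside C
    obtain ⟨x, hxH, hxC⟩ : ∃ x ∈ H, x ∉ C := by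
      by_contra hcon
      push Not at hcon
      apply hH
      have hle : H ≤ C := hcon
      haveI : IsCyclic C := by rw [hC]; infer_instance
      exact isCyclic_of_injective (Subgroup.inclusion hle) (Subgroup.inclusion_injective hle)
    -- the centralizer in C of x is the center
    have hcen : ∀ u ∈ C, u * x = x * u → u ∈ Subgroup.center G := by
      intro u hu hux
      rw [hcenter]
      refine ⟨hu, ?_⟩
      change u ∈ Subgroup.centralizer {g}
      rw [Subgroup.mem_centralizer_singleton_iff]
      have h1 := hout x g hxC hg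
      have h2 : u * (x * g⁻¹) = (x * g⁻¹) * u := hCab _ hu _ h1
      have h3 : g = (x * g⁻¹)⁻¹ * x := by group
      rw [h3]
      calc u * ((x * g⁻¹)⁻¹ * x) = (u * (x * g⁻¹)⁻¹) * x := by group
        _ = ((x * g⁻¹)⁻¹ * u) * x := by
            rw [hCab u hu _ (C.inv_mem h1)]
        _ = (x * g⁻¹)⁻¹ * (u * x) := by group
        _ = (x * g⁻¹)⁻¹ * (x * u) := by rw [hux]
        _ = (x * g⁻¹)⁻¹ * x * u := by group
    -- the center is in H
    have hZH : Subgroup.center G ≤ H := by
      have hZcard : Nat.card (Subgroup.center G) = 2 := by rw [hcenter]; exact hW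
      -- H ∩ C is nontrivial
      obtain ⟨v, hvH, hvC, hv1⟩ : ∃ v ∈ H, v ∈ C ∧ v ≠ 1 := by
        by_contra hcon
        push Not at hcon
        apply hH
        -- H has at most two elements
        have hle2 : Nat.card H = 2 := by
          have hinj : Function.Injective (fun y : H => ((y : G) : G ⧸ C)) := by
            intro a b hab
            have h1 : (a : G)⁻¹ * b ∈ C := QuotientGroup.eq.mp hab
            have h2 := hcon _ (H.mul_mem (H.inv_mem a.2) b.2) h1
            apply Subtype.ext
            exact (inv_mul_eq_one.mp h2)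
          have h3 : Nat.card H ≤ Nat.card (G ⧸ C) := Nat.card_le_card_of_injective _ hinj
          have h5 : Nat.card (G ⧸ C) = 2 := hc
          have h6 : 2 ∣ Nat.card H := by
            have h7 : orderOf (⟨x, hxH⟩ : H) ∣ Nat.card H := orderOf_dvd_natCard _
            have h8 : orderOf (⟨x, hxH⟩ : H) = orderOf x := Subgroup.orderOf_mk x hxH
            have hx1 : x ≠ 1 := fun h => hxC (by rw [h]; exact C.one_mem)
            obtain ⟨j, hj⟩ := IsPGroup.iff_orderOf.mp hP x
            have hj0 : j ≠ 0 := by
              rintro rfl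
              rw [pow_zero, orderOf_eq_one_iff] at hj
              exact hx1 hj
            rw [h8, hj] at h7
            exact dvd_trans (dvd_pow_self 2 hj0) h7
          have hpos : 0 < Nat.card H := Nat.card_pos
          obtain ⟨t, ht⟩ := h6
          rw [h5] at h3
          omega
        exact isCyclic_of_prime_card hle2
      -- a power of v is the central involution
      obtain ⟨j, hj⟩ := IsPGroup.iff_orderOf.mp hP v
      have hj0 : j ≠ 0 := by
        rintro rfl
        rw [pow_zero, orderOf_eq_one_iff] at hj
        exact hv1 hj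
      obtain ⟨i, rfl⟩ : ∃ i, j = i + 1 := ⟨j - 1, by omega⟩
      set t := v ^ (2 ^ i) with ht
      have ht1 : t ≠ 1 := by
        intro h
        have h1 := orderOf_dvd_of_pow_eq_one h
        rw [hj] at h1
        have := Nat.le_of_dvd (by positivity) h1
        rw [pow_succ] at this
        have hpos : 0 < 2 ^ i := by positivity
        omega
      have ht2 : t ^ 2 = 1 := by
        rw [ht, ← pow_mul, ← pow_succ, ← hj]
        exact pow_orderOf_eq_one v
      have htH : t ∈ H := H.pow_mem hvH _
      have htC : t ∈ C := C.pow_mem hvC _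
      -- the center has a unique nontrivial element, and `C` has a unique involution
      have hZC : Subgroup.center G ≤ C := by rw [hcenter]; exact inf_le_left
      haveI hCcyc : IsCyclic C := by rw [hC]; infer_instance
      -- both subgroups of order 2 in C coincide
      have hzp : Subgroup.zpowers t = Subgroup.center G := by
        have hord2 : orderOf t = 2 := orderOf_eq_prime ht2 ht1
        have hle1 : Subgroup.zpowers t ≤ C := (Subgroup.zpowers_le).mpr htC
        have h1 : (Subgroup.zpowers t).subgroupOf C = (Subgroup.center G).subgroupOf C := by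
          apply Cfsg.Agent.Lib.OddPGroup.eq_of_card_of_isCyclic
          rw [Nat.card_congr (Subgroup.subgroupOfEquivOfLe hle1).toEquiv,
            Nat.card_congr (Subgroup.subgroupOfEquivOfLe hZC).toEquiv, Nat.card_zpowers, hord2, hZcard]
        exact (Subgroup.subgroupOf_inj.mp h1 |> fun h => by
          simpa [inf_eq_left.mpr hle1, inf_eq_left.mpr hZC] using h)
      rw [← hzp, Subgroup.zpowers_le]
      exact htH
    -- conclude
    intro y hy
    have hyx : y * x = x * y :=
      (Subgroup.mem_centralizer_iff.mp hy x hxH).symm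
    by_cases hyC : y ∈ C
    · exact hZH (hcen y hyC hyx)
    · have h1 := hout y x hyC hxC
      have h2 : (y * x⁻¹) * x = x * (y * x⁻¹) := by
        calc (y * x⁻¹) * x = y := by group
          _ = x * (y * x⁻¹) * (x * x⁻¹) := by
              have : x * (y * x⁻¹) = y := by
                calc x * (y * x⁻¹) = (x * y) * x⁻¹ := by group
                  _ = (y * x) * x⁻¹ := by rw [hyx]
                  _ = y := by group
              rw [this]
              simp
          _ = x * (y * x⁻¹) := by simp
      have h3 := hZH (hcen _ h1 h2)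
      have h4 := H.mul_mem h3 hxH
      simpa using h4

end Cfsg.Agent.S3919
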