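import Mathlib
import Cfsg.Statements.S3116

set_option autoImplicit false
open Cfsg

namespace Cfsg.Agent.S3116

theorem aut_pow_apply_of_eq_pow {X : Type*} [Group X] (φ : MulAut X) (x : X) (j : ℕ)
    (h : φ x = x ^ j) (m : ℕ) : (φ ^ m) x = x ^ (j ^ m) := by
  induction m with
  | zero => simp
  | succ m ih =>
    rw [pow_succ', MulAut.mul_apply, ih, map_pow, h, ← pow_mul, pow_succ']

theorem aut_two_group {X : Type*} [Group X] [Finite X] (x y : X) (n : ℕ) (hn : 1 ≤ n)
    (hx : orderOf x = 2 ^ n)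
    (hdich : ∀ g : X, g ∈ Subgroup.zpowers x ∨ ∃ c ∈ Subgroup.zpowers x, g = c * y)
    (hy : y ∉ Subgroup.zpowers x)
    (hord : ∀ a : X, orderOf a = 2 ^ n → a ∈ Subgroup.zpowers x) :
    IsPGroup 2 (MulAut X) := by
  intro φ
  have hxpos : 0 < orderOf x := by rw [hx]; positivity
  -- φ preserves C
  have hC : ∀ ψ : MulAut X, ∀ c ∈ Subgroup.zpowers x, ψ c ∈ Subgroup.zpowers x := by
    intro ψ c hc
    obtain ⟨k, rfl⟩ := Subgroup.mem_zpowers_iff.mp hc
    rw [map_zpow]
    apply Subgroup.zpow_mem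
    apply hord
    rw [MulEquiv.orderOf_eq, hx]
  obtain ⟨j, hj⟩ : ∃ j : ℕ, φ x = x ^ j := by
    have := hC φ x (Subgroup.mem_zpowers x)
    obtain ⟨j, hj⟩ := mem_powers_iff_mem_zpowers.mpr this
    exact ⟨j, hj.symm⟩
  have hcop : Nat.Coprime j (2 ^ n) := by
    have h1 : orderOf (x ^ j) = 2 ^ n := by rw [← hj, MulEquiv.orderOf_eq, hx]
    rw [orderOf_pow' x (by
      rintro rfl
      rw [pow_zero, orderOf_one] at h1
      have : 1 < 2 ^ n := Nat.one_lt_two_pow (by omega)
      omega), hx] at h1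
    have h2 : Nat.gcd (2 ^ n) j = 1 := by
      have hpos : 0 < 2 ^ n := by positivity
      have hd : Nat.gcd (2 ^ n) j ∣ 2 ^ n := Nat.gcd_dvd_left _ _
      obtain ⟨t, ht⟩ := hd
      have ht' : 2 ^ n / Nat.gcd (2 ^ n) j = t := by
        apply Nat.div_eq_of_eq_mul_left (Nat.pos_of_ne_zero (by
          intro h0
          rw [h0] at ht
          simp at ht)) 
        rw [mul_comm]
        exact ht
      rw [ht'] at h1
      rw [h1] at ht
      have hg : 0 < Nat.gcd (2 ^ n) j := Nat.gcd_pos_of_pos_left _ hpos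
      nlinarith
    exact Nat.Coprime.symm h2
  set e := Nat.totient (2 ^ n) with he
  have hje : j ^ e ≡ 1 [MOD 2 ^ n] := Nat.ModEq.pow_totient hcop
  set ψ : MulAut X := φ ^ e with hψ
  have hψx : ψ x = x := by
    rw [hψ, aut_pow_apply_of_eq_pow φ x j hj e]
    have := (pow_eq_pow_iff_modEq (x := x) (n := j ^ e) (m := 1)).mpr (by rw [hx]; exact hje)
    simpa using this
  have hψC : ∀ c ∈ Subgroup.zpowers x, ψ c = c := by
    intro c hc
    obtain ⟨k, rfl⟩ := Subgroup.mem_zpowers_iff.mp hc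
    rw [map_zpow, hψx]
  have hψy : ψ y ∉ Subgroup.zpowers x := by
    intro h
    apply hy
    have := hC ψ⁻¹ _ h
    simpa using this
  obtain ⟨c, hc, hcy⟩ := (hdich (ψ y)).resolve_left hψy
  have hψt : ∀ t : ℕ, (ψ ^ t) y = c ^ t * y := by
    intro t
    induction t with
    | zero => simp
    | succ t ih =>
      rw [pow_succ', MulAut.mul_apply, ih, map_mul, map_pow, hψC c hc, hcy, ← mul_assoc,
        ← pow_succ, pow_succ', mul_assoc]
  have hc_ord : c ^ 2 ^ n = 1 := by
    obtain ⟨k, rfl⟩ := Subgroup.mem_zpowers_iff.mp hc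
    rw [← zpow_natCast, ← zpow_mul, mul_comm, zpow_mul, zpow_natCast, ← hx, pow_orderOf_eq_one]
    simp
  have hfin : ψ ^ 2 ^ n = 1 := by
    ext g
    rcases hdich g with hg | ⟨d, hd, rfl⟩
    · obtain ⟨k, rfl⟩ := Subgroup.mem_zpowers_iff.mp hg
      rw [map_zpow]
      have : (ψ ^ 2 ^ n) x = x := by
        have ht : ∀ t : ℕ, (ψ ^ t) x = x := by
          intro t
          induction t with
          | zero => simp
          | succ t ih => rw [pow_succ', MulAut.mul_apply, ih, hψx]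
        exact ht _
      rw [this]; simp
    · rw [map_mul, hψt, hc_ord, one_mul]
      have ht : ∀ t : ℕ, (ψ ^ t) d = d := by
        intro t
        induction t with
        | zero => simp
        | succ t ih => rw [pow_succ', MulAut.mul_apply, ih, hψC d hd]
      rw [ht]; simp
  have he2 : e = 2 ^ (n - 1) := by
    rw [he, Nat.totient_prime_pow Nat.prime_two (by omega)]
    simp
  refine ⟨(n - 1) + n, ?_⟩
  rw [pow_add, pow_mul, ← he2, ← hψ]
  exact hfin

theorem dihedral_case {X : Type*} [Group X] [Finite X] (h2 : IsPGroup 2 X) (m : ℕ) (hm : 4 ≤ m)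
    (e : X ≃* DihedralGroup m) : IsPGroup 2 (MulAut X) := by
  have : NeZero m := ⟨by omega⟩
  obtain ⟨k, hk⟩ := IsPGroup.iff_card.mp h2
  have hcard : Nat.card X = 2 * m := by
    rw [Nat.card_congr e.toEquiv, DihedralGroup.nat_card]
  have hmk : m ∣ 2 ^ k := by
    rw [← hk, hcard]; exact dvd_mul_left _ _
  obtain ⟨n, _, rfl⟩ := (Nat.dvd_prime_pow Nat.prime_two).mp hmk
  have hn : 1 ≤ n := by
    by_contra h
    have : n = 0 := by omega
    subst this
    simp at hm
  have hr : ∀ i : ZMod (2 ^ n), ∃ t : ℤ, (DihedralGroup.r (1 : ZMod (2 ^ n)) : DihedralGroup (2 ^ n)) ^ t =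
      DihedralGroup.r i := by
    intro i
    refine ⟨(i.val : ℤ), ?_⟩
    simp [DihedralGroup.r_one_zpow]
  apply aut_two_group (e.symm (DihedralGroup.r 1)) (e.symm (DihedralGroup.sr 0)) n hn
  · rw [MulEquiv.orderOf_eq]
    exact DihedralGroup.orderOf_r_one
  · intro g
    have hgg : g = e.symm (e g) := by simp
    rcases he : e g with i | i
    · left
      obtain ⟨t, ht⟩ := hr i
      refine ⟨t, ?_⟩
      show (e.symm (DihedralGroup.r 1)) ^ t = g
      rw [← map_zpow, ht, ← he]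
      simp
    · right
      refine ⟨e.symm (DihedralGroup.r (-i)), ?_, ?_⟩
      · obtain ⟨t, ht⟩ := hr (-i)
        refine ⟨t, ?_⟩
        show (e.symm (DihedralGroup.r 1)) ^ t = _
        rw [← map_zpow, ht]
      · rw [← map_mul, DihedralGroup.r_mul_sr, ← MulEquiv.symm_apply_apply e g, he]
        simp
  · rintro ⟨t, ht⟩
    have h3 : (e.symm (DihedralGroup.r 1)) ^ t = e.symm (DihedralGroup.sr 0) := ht
    rw [← map_zpow] at h3
    have h4 := e.symm.injective h3
    rw [DihedralGroup.r_one_zpow] at h4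
    exact absurd h4 (by simp)
  · intro a ha
    rw [← MulEquiv.orderOf_eq e] at ha
    have h5 : ∃ i, e a = DihedralGroup.r i := by
      rcases he : e a with i | i
      · exact ⟨i, rfl⟩
      · exfalso
        rw [he, DihedralGroup.orderOf_sr] at ha
        have : 2 ^ 2 ≤ 2 ^ n := by omega
        omega
    obtain ⟨i, hi⟩ := h5
    obtain ⟨t, ht⟩ := hr i
    refine ⟨t, ?_⟩
    show (e.symm (DihedralGroup.r 1)) ^ t = a
    rw [← map_zpow, ht, ← hi]
    simp

theorem qd_case {X : Type*} [Group X] [Finite X] (h : Cfsg.IsQuasiDihedral X) : IsPGroup 2 (MulAut X) := by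
  obtain ⟨n, hn, hcard, x, y, hx, hy, hrel⟩ := h
  have hy2 : y * y = 1 := by
    rw [← pow_two, ← hy]; exact pow_orderOf_eq_one y
  have hyinv : y⁻¹ = y := by
    rw [inv_eq_iff_mul_eq_one]; exact hy2
  set C := Subgroup.zpowers x with hC
  have hCcard : Nat.card C = 2 ^ n := by
    rw [hC, Nat.card_zpowers, hx]
  have hidx : C.index = 2 := by
    have := Subgroup.card_mul_index C
    rw [hCcard, hcard, pow_succ] at this
    exact Nat.eq_of_mul_eq_mul_left (by positivity) this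
  have hyC : y ∉ C := by
    intro hyC
    obtain ⟨k, rfl⟩ := Subgroup.mem_zpowers_iff.mp hyC
    have h1 : x ^ k * x * (x ^ k)⁻¹ = x := by
      rw [(Commute.zpow_self x k).eq]; group
    rw [h1] at hrel
    have h2 : x ^ (1 : ℕ) = x ^ (2 ^ (n - 1) - 1) := by simpa using hrel
    rw [pow_eq_pow_iff_modEq, hx] at h2
    have h4 : 2 ≤ n - 1 := by omega
    have h5 : 2 ^ 2 ≤ 2 ^ (n - 1) := Nat.pow_le_pow_right (by norm_num) h4
    have h6 : 2 ^ n = 2 * 2 ^ (n - 1) := by
      rw [← pow_succ']; congr 1; omega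
    have h7 : 1 < 2 ^ n := by omega
    have h8 : 2 ^ (n - 1) - 1 < 2 ^ n := by omega
    have := Nat.ModEq.eq_of_lt_of_lt h2 h7 h8
    omega
  have hdich : ∀ g : X, g ∈ C ∨ ∃ c ∈ C, g = c * y := by
    intro g
    by_cases hg : g ∈ C
    · exact Or.inl hg
    · right
      refine ⟨g * y, ?_, ?_⟩
      · rw [Subgroup.mul_mem_iff_of_index_two hidx]
        exact ⟨fun h => absurd h hg, fun h => absurd h hyC⟩
      · rw [mul_assoc, hy2, mul_one]
  apply aut_two_group x y n (by omega) hx hdich hyC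
  intro a ha
  by_contra haC
  obtain ⟨c, hc, rfl⟩ := (hdich a).resolve_left haC
  obtain ⟨i, rfl⟩ := Subgroup.mem_zpowers_iff.mp hc
  -- the element has order at most 4
  have h1 : (x ^ i * y) ^ 2 = x ^ (i * (2 ^ (n - 1) : ℤ)) := by
    have h3 : y * x ^ i * y⁻¹ = (x ^ (2 ^ (n - 1) - 1)) ^ i := by
      rw [← hrel, conj_zpow]
    have h4 : (2 : ℕ) ^ (n - 1) - 1 + 1 = 2 ^ (n - 1) := by
      have : 1 ≤ 2 ^ (n - 1) := Nat.one_le_two_pow
      omega
    have h5 : (((2 : ℕ) ^ (n - 1) - 1 : ℕ) : ℤ) + 1 = (2 : ℤ) ^ (n - 1) := by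
      exact_mod_cast h4
    calc (x ^ i * y) ^ 2 = x ^ i * (y * x ^ i * y⁻¹) * (y * y) := by
          rw [pow_two]; group
      _ = x ^ i * (x ^ (2 ^ (n - 1) - 1)) ^ i := by rw [h3, hy2, mul_one]
      _ = x ^ (i * (2 ^ (n - 1) : ℤ)) := by
          rw [← h5, ← zpow_natCast, ← zpow_mul, ← zpow_add]
          congr 1
          ring
  have h2 : (x ^ i * y) ^ 4 = 1 := by
    have : (x ^ i * y) ^ 4 = ((x ^ i * y) ^ 2) ^ 2 := by
      rw [← pow_mul]
    rw [this, h1, ← zpow_natCast, ← zpow_mul]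
    have h6 : i * (2 : ℤ) ^ (n - 1) * ((2 : ℕ) : ℤ) = i * ((orderOf x : ℕ) : ℤ) := by
      rw [hx]
      have : n = (n - 1) + 1 := by omega
      conv_rhs => rw [this]
      push_cast
      ring
    rw [h6, zpow_mul, ← zpow_mul, mul_comm, zpow_mul, zpow_natCast, pow_orderOf_eq_one]
    simp
  have h3 : orderOf (x ^ i * y) ∣ 4 := orderOf_dvd_of_pow_eq_one h2
  rw [ha] at h3
  have h4 : 2 ^ 3 ≤ 2 ^ n := Nat.pow_le_pow_right (by norm_num) hn
  have := Nat.le_of_dvd (by norm_num) h3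
  omega

/-- The automorphism group of a dihedral 2-group of order at least 8, or of a quasi-dihedral (semidihedral) 2-group of order at least 16, is a 2-group. -/
theorem result {X : Type*} [Group X] [Finite X] (h2 : IsPGroup 2 X)
    (h : (∃ n : ℕ, 4 ≤ n ∧ Nonempty (X ≃* DihedralGroup n)) ∨ Cfsg.IsQuasiDihedral X) : IsPGroup 2 (MulAut X) := by
  rcases h with ⟨n, hn, ⟨e⟩⟩ | h
  · exact dihedral_case h2 n hn e
  · exact qd_case h

end Cfsg.Agent.S3116
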