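import Mathlib
import Cfsg.Statements.S3224
import Cfsg.Agent.Lib.DihedralIso
import Cfsg.Agent.Lib.SuperSolv2
import Cfsg.Agent.Lib.PCore

set_option autoImplicit false

open Cfsg

namespace Cfsg.Agent.S3224

universe u

section Helpers

variable {S : Type*} [Group S] [Finite S]

theorem mem_of_four {K : Subgroup S} (hK : Nat.card K = 4) {a b c d : S} (ha : a ∈ K) (hb : b ∈ K)
    (hc : c ∈ K) (hd : d ∈ K) (hab : a ≠ b) (hac : a ≠ c) (had : a ≠ d) (hbc : b ≠ c) (hbd : b ≠ d)
    (hcd : c ≠ d) : ∀ g ∈ K, g = a ∨ g = b ∨ g = c ∨ g = d := by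
  classical
  have : Fintype ↥K := Fintype.ofFinite _
  let a' : ↥K := ⟨a, ha⟩
  let b' : ↥K := ⟨b, hb⟩
  let c' : ↥K := ⟨c, hc⟩
  let d' : ↥K := ⟨d, hd⟩
  have hT : ({a', b', c', d'} : Finset ↥K).card = 4 := by
    rw [Finset.card_insert_of_notMem, Finset.card_insert_of_notMem, Finset.card_insert_of_notMem,
      Finset.card_singleton]
    · simp only [Finset.mem_singleton]
      exact fun h => hcd (congrArg Subtype.val h)
    · simp only [Finset.mem_insert, Finset.mem_singleton, not_or]
      exact ⟨fun h => hbc (congrArg Subtype.val h), fun h => hbd (congrArg Subtype.val h)⟩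
    · simp only [Finset.mem_insert, Finset.mem_singleton, not_or]
      exact ⟨fun h => hab (congrArg Subtype.val h), fun h => hac (congrArg Subtype.val h),
        fun h => had (congrArg Subtype.val h)⟩
  have h2 : ({a', b', c', d'} : Finset ↥K) = Finset.univ := by
    apply Finset.eq_univ_of_card
    rw [hT, ← Nat.card_eq_fintype_card, hK]
  intro g hg
  have h3 : (⟨g, hg⟩ : ↥K) ∈ ({a', b', c', d'} : Finset ↥K) := by
    rw [h2]; exact Finset.mem_univ _
  simp only [Finset.mem_insert, Finset.mem_singleton] at h3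
  rcases h3 with h | h | h | h
  · exact Or.inl (congrArg Subtype.val h)
  · exact Or.inr (Or.inl (congrArg Subtype.val h))
  · exact Or.inr (Or.inr (Or.inl (congrArg Subtype.val h)))
  · exact Or.inr (Or.inr (Or.inr (congrArg Subtype.val h)))

theorem two_mul_card_le {H K : Subgroup S} (hle : H ≤ K) {y : S} (hyK : y ∈ K) (hyH : y ∉ H) :
    2 * Nat.card H ≤ Nat.card K := by
  have h1 : H.relIndex K * Nat.card H = Nat.card K := by
    have h2 : (H.subgroupOf K).index * Nat.card (H.subgroupOf K) = Nat.card K := Subgroup.index_mul_card _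
    have h3 : Nat.card (H.subgroupOf K) = Nat.card H :=
      Nat.card_congr (Subgroup.subgroupOfEquivOfLe hle).toEquiv
    rw [h3] at h2
    exact h2
  have h4 : H.relIndex K ≠ 0 := by
    intro h0
    rw [h0, zero_mul] at h1
    exact Nat.card_pos.ne h1
  have h5 : H.relIndex K ≠ 1 := by
    intro h0
    exact hyH (Subgroup.relIndex_eq_one.mp h0 hyK)
  have h6 : 2 ≤ H.relIndex K := by omega
  calc 2 * Nat.card H ≤ H.relIndex K * Nat.card H := Nat.mul_le_mul_right _ h6
    _ = Nat.card K := h1

/-- A subgroup all of whose elements move `v` at most to `v z` has a subgroup of index at most two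
fixing `v`. -/
theorem card_le_two_mul (D : Subgroup S) (v z : S) (hz2 : z * z = 1) (hz1 : z ≠ 1)
    (hzc : ∀ s ∈ D, s * z = z * s)
    (hv : ∀ s ∈ D, s * v * s⁻¹ = v ∨ s * v * s⁻¹ = v * z) :
    Nat.card D ≤ 2 * Nat.card ↥(D ⊓ Subgroup.centralizer ({v} : Set S)) := by
  set S₀ : Subgroup S := D ⊓ Subgroup.centralizer ({v} : Set S) with hS₀
  have hS₀mem : ∀ s, s ∈ S₀ ↔ s ∈ D ∧ s * v * s⁻¹ = v := by
    intro s
    constructor
    · rintro ⟨hs, hc⟩
      refine ⟨hs, ?_⟩
      have := Subgroup.mem_centralizer_iff.mp hc v rfl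
      rw [← this]
      group
    · rintro ⟨hs, hc⟩
      refine ⟨hs, Subgroup.mem_centralizer_iff.mpr ?_⟩
      intro b hb
      rw [Set.mem_singleton_iff] at hb
      rw [hb]
      calc v * s = (s * v * s⁻¹) * s := by rw [hc]
        _ = s * v := by group
  by_cases hall : ∀ s ∈ D, s * v * s⁻¹ = v
  · have h1 : D ≤ S₀ := fun s hs => (hS₀mem s).mpr ⟨hs, hall s hs⟩
    have h2 : Nat.card D ≤ Nat.card S₀ := Nat.le_of_dvd Nat.card_pos (Subgroup.card_dvd_of_le h1)
    omega
  · push Not at hall
    obtain ⟨s₀, hs₀, hs₀v⟩ := hall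
    have hs₀z : s₀ * v * s₀⁻¹ = v * z := (hv s₀ hs₀).resolve_left hs₀v
    let H : Subgroup ↥D := S₀.subgroupOf D
    have hne : v * z ≠ v := by
      intro hh
      exact hz1 (mul_left_cancel (hh.trans (mul_one v).symm))
    have hHi : H.index = 2 := by
      rw [Subgroup.index_eq_two_iff]
      refine ⟨⟨s₀, hs₀⟩, fun b => ?_⟩
      have hb := hv b b.2
      have hHmem : ∀ c : ↥D, c ∈ H ↔ (c : S) * v * (c : S)⁻¹ = v := by
        intro c
        rw [Subgroup.mem_subgroupOf, hS₀mem]
        exact ⟨fun h => h.2, fun h => ⟨c.2, h⟩⟩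
      have hbz : (b : S) * z * (b : S)⁻¹ = z := by
        rw [hzc b b.2]; group
      have hba : ((b * ⟨s₀, hs₀⟩ : ↥D) : S) * v * ((b * ⟨s₀, hs₀⟩ : ↥D) : S)⁻¹ =
          ((b : S) * v * (b : S)⁻¹) * z := by
        show ((b : S) * s₀) * v * ((b : S) * s₀)⁻¹ = _
        calc ((b : S) * s₀) * v * ((b : S) * s₀)⁻¹ = (b : S) * (s₀ * v * s₀⁻¹) * (b : S)⁻¹ := by
              group
          _ = (b : S) * (v * z) * (b : S)⁻¹ := by rw [hs₀z]
          _ = ((b : S) * v * (b : S)⁻¹) * ((b : S) * z * (b : S)⁻¹) := by group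
          _ = _ := by rw [hbz]
      rw [hHmem, hHmem, hba]
      rcases hb with hb | hb
      · rw [hb]
        exact Or.inr ⟨rfl, hne⟩
      · rw [hb]
        refine Or.inl ⟨?_, hne⟩
        rw [mul_assoc, hz2, mul_one]
    have h1 := H.index_mul_card
    have h2 : Nat.card H = Nat.card S₀ :=
      Nat.card_congr (Subgroup.subgroupOfEquivOfLe (inf_le_left : S₀ ≤ D)).toEquiv
    rw [hHi, h2] at h1
    exact h1.ge

/-- Powers of a square root of one. -/
theorem zpow_cases {w : S} (hw : w * w = 1) (i : ℤ) : w ^ i = 1 ∨ w ^ i = w := by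
  have h2 : w ^ (2 : ℤ) = 1 := by
    rw [show (2 : ℤ) = ((2 : ℕ) : ℤ) from rfl, zpow_natCast, pow_two]; exact hw
  rcases Int.even_or_odd i with he | ho
  · left
    obtain ⟨m, rfl⟩ := he
    rw [← two_mul, zpow_mul, h2, one_zpow]
  · right
    obtain ⟨m, rfl⟩ := ho
    rw [zpow_add, zpow_mul, h2, one_zpow, one_mul, zpow_one]

theorem conj_zpow' (x a : S) (n : ℕ) : x * a ^ n * x⁻¹ = (x * a * x⁻¹) ^ n := by
  simp [conj_pow]

end Helpers

theorem sq_one_two_pow (r : ℕ) (hr : 2 ≤ r) (k : ℤ) (h : ((2 : ℤ) ^ r) ∣ k * k - 1) :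
    Odd k ∧ (((2 : ℤ) ^ (r - 1)) ∣ k - 1 ∨ ((2 : ℤ) ^ (r - 1)) ∣ k + 1) := by
  have h2 : (2 : ℤ) ∣ k * k - 1 := (dvd_pow_self (2 : ℤ) (by omega)).trans h
  have hodd : Odd k := by
    rcases Int.even_or_odd k with he | ho
    · exfalso
      obtain ⟨m, rfl⟩ := he
      obtain ⟨t, ht⟩ := h2
      have h3 : (m + m) * (m + m) = 4 * (m * m) := by ring
      rw [h3] at ht
      omega
    · exact ho
  refine ⟨hodd, ?_⟩
  obtain ⟨u, rfl⟩ := hodd
  obtain ⟨s, rfl⟩ : ∃ s, r = s + 2 := ⟨r - 2, by omega⟩
  have h3 : (2 * u + 1) * (2 * u + 1) - 1 = 4 * (u * (u + 1)) := by ring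
  rw [h3, pow_add] at h
  have h4 : (2 : ℤ) ^ s ∣ u * (u + 1) := by
    have h5 : (2 : ℤ) ^ s * 4 ∣ (u * (u + 1)) * 4 := by
      have : (2 : ℤ) ^ 2 = 4 := by norm_num
      rw [this] at h
      rwa [mul_comm (u * (u + 1))]
    exact (mul_dvd_mul_iff_right (by norm_num)).mp h5
  have e1 : s + 2 - 1 = s + 1 := by omega
  rw [e1]
  rcases Int.even_or_odd u with he | ho
  · left
    have h5 : Odd (u + 1) := he.add_one
    have h6 : IsCoprime ((2 : ℤ) ^ s) (u + 1) := (Int.isCoprime_two_left.mpr h5).pow_left
    have h7 := h6.dvd_of_dvd_mul_right h4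
    obtain ⟨t, ht⟩ := h7
    exact ⟨t, by rw [pow_succ]; rw [show 2 * u + 1 - 1 = 2 * u by ring, ht]; ring⟩
  · right
    have h6 : IsCoprime ((2 : ℤ) ^ s) u := (Int.isCoprime_two_left.mpr ho).pow_left
    have h7 := h6.dvd_of_dvd_mul_left h4
    obtain ⟨t, ht⟩ := h7
    exact ⟨t, by
      rw [pow_succ]
      have : 2 * u + 1 + 1 = 2 * (u + 1) := by ring
      rw [this, ht]; ring⟩

/-- The unique involution of a cyclic group. -/
theorem eq_of_sq_one {G : Type*} [Group G] [Finite G] [IsCyclic G] {a b : G}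
    (ha : a ^ 2 = 1) (hb : b ^ 2 = 1) (ha1 : a ≠ 1) (hb1 : b ≠ 1) : a = b := by
  classical
  by_contra hab
  have : Fintype G := Fintype.ofFinite G
  have h := IsCyclic.card_pow_eq_one_le (α := G) (n := 2) (by norm_num)
  have hsub : ({1, a, b} : Finset G) ⊆ Finset.univ.filter (fun x : G => x ^ 2 = 1) := by
    intro x hx
    simp only [Finset.mem_insert, Finset.mem_singleton] at hx
    rcases hx with rfl | rfl | rfl <;> simp [ha, hb]
  have h3 : ({1, a, b} : Finset G).card = 3 := by
    rw [Finset.card_insert_of_notMem, Finset.card_insert_of_notMem, Finset.card_singleton]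
    · simpa using hab
    · simp only [Finset.mem_insert, Finset.mem_singleton, not_or]
      exact ⟨ha1.symm, hb1.symm⟩
  have h4 := Finset.card_le_card hsub
  rw [h3] at h4
  omega

/-- The induction: a cyclic subgroup of index two avoiding `x`. -/
theorem claim : ∀ (n : ℕ) (S : Type u) [Group S] [Finite S], Nat.card S = n → IsPGroup 2 S →
    ∀ x : S, orderOf x = 2 → Nat.card ↥(Subgroup.centralizer ({x} : Set S)) = 4 →
    Nat.card S = 4 ∨ ∃ a : S, (Subgroup.zpowers a).index = 2 ∧ x ∉ Subgroup.zpowers a := by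
  intro n
  induction n using Nat.strong_induction_on with
  | _ n ih =>
  intro S _ _ hn hS x hx hC
  by_cases h4 : Nat.card S = 4
  · exact Or.inl h4
  right
  have hx1 : x ≠ 1 := by
    intro h
    rw [h, orderOf_one] at hx
    omega
  have hx2 : x * x = 1 := by
    have := pow_orderOf_eq_one x
    rwa [hx, pow_two] at this
  have hxi : x⁻¹ = x := by rw [inv_eq_iff_mul_eq_one]; exact hx2
  -- `x` is not central
  have hxnc : ¬ ∀ g : S, g * x = x * g := by
    intro hall
    have h1 : Subgroup.centralizer ({x} : Set S) = ⊤ := by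
      rw [eq_top_iff]
      intro g _
      rw [Subgroup.mem_centralizer_iff]
      intro b hb
      rw [Set.mem_singleton_iff] at hb
      rw [hb]
      exact (hall g).symm
    rw [h1] at hC
    simp at hC
    exact h4 hC
  have hnt : Nontrivial S := ⟨⟨x, 1, hx1⟩⟩
  have hc : Nontrivial (Subgroup.center S) := hS.center_nontrivial
  have hpd : 2 ∣ Nat.card (Subgroup.center S) := by
    obtain ⟨m, hm, hk⟩ := (IsPGroup.nontrivial_iff_card (hS.to_subgroup (Subgroup.center S))).mp hc
    rw [hk]
    exact dvd_pow_self 2 hm.ne'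
  obtain ⟨z', hz'⟩ := exists_prime_orderOf_dvd_card' (G := Subgroup.center S) 2 hpd
  set z : S := (z' : S) with hzdef
  have hzo : orderOf z = 2 := by rw [hzdef, Subgroup.orderOf_coe, hz']
  have hzc : ∀ g : S, g * z = z * g := fun g => (Subgroup.mem_center_iff.mp z'.2 g)
  have hz1 : z ≠ 1 := by
    intro h
    rw [h, orderOf_one] at hzo
    omega
  have hz2 : z * z = 1 := by
    have := pow_orderOf_eq_one z
    rwa [hzo, pow_two] at this
  have hzi : z⁻¹ = z := by rw [inv_eq_iff_mul_eq_one]; exact hz2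
  have hzx : z ≠ x := by
    intro h
    exact hxnc (fun g => h ▸ hzc g)
  -- the centralizer of `x`
  have hmemC : ∀ g : S, g * x = x * g → g ∈ Subgroup.centralizer ({x} : Set S) := by
    intro g hg
    rw [Subgroup.mem_centralizer_iff]
    intro b hb
    rw [Set.mem_singleton_iff] at hb
    rw [hb]
    exact hg.symm
  have hCx : ∀ g ∈ Subgroup.centralizer ({x} : Set S), g = 1 ∨ g = x ∨ g = z ∨ g = x * z :=
    mem_of_four hC (Subgroup.one_mem _) (hmemC x rfl) (hmemC z (hzc x).symm)
      (Subgroup.mul_mem _ (hmemC x rfl) (hmemC z (hzc x).symm))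
      (Ne.symm hx1) (Ne.symm hz1)
      (fun h => hzx (by
        have : x * z = 1 := h.symm
        have h2 : z = x⁻¹ := eq_inv_of_mul_eq_one_right this
        rw [h2, hxi]))
      hzx.symm
      (fun h => hz1 (by
        have : x * 1 = x * z := by rw [mul_one]; exact h
        exact (mul_left_cancel this).symm))
      (fun h => hx1 (by
        have : 1 * z = x * z := by rw [one_mul]; exact h
        exact (mul_right_cancel this).symm))
  obtain ⟨m, hm⟩ := IsPGroup.iff_card.mp hS
  have h4d : 4 ∣ Nat.card S := by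
    rw [← hC]; exact Subgroup.card_subgroup_dvd_card _
  have hm3 : 3 ≤ m := by
    rw [hm] at h4d h4
    by_contra hlt
    have hm2 : m = 0 ∨ m = 1 ∨ m = 2 := by omega
    rcases hm2 with rfl | rfl | rfl <;> simp at h4d h4
  rcases Nat.lt_or_ge m 4 with hm4 | hm4
  · -- order `8`
    have hm8 : m = 3 := by omega
    subst hm8
    have hcard8 : Nat.card S = 8 := by rw [hm]; norm_num
    obtain ⟨a, ha⟩ : ∃ a : S, a * a ≠ 1 := by
      by_contra hall
      push Not at hall
      apply hxnc
      intro g
      have h1 : ∀ u : S, u⁻¹ = u := fun u => by rw [inv_eq_iff_mul_eq_one]; exact hall u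
      calc g * x = (g * x)⁻¹ := (h1 _).symm
        _ = x⁻¹ * g⁻¹ := by group
        _ = x * g := by rw [h1, h1]
    have hzp : IsPGroup 2 (Subgroup.zpowers a) := hS.to_subgroup _
    obtain ⟨t, ht⟩ := IsPGroup.iff_card.mp hzp
    rw [Nat.card_zpowers] at ht
    have hdv : orderOf a ∣ 8 := hcard8 ▸ orderOf_dvd_natCard a
    have ht3 : t ≤ 3 := by
      have := Nat.le_of_dvd (by norm_num) hdv
      rw [ht] at this
      by_contra hlt
      have h5 : 2 ^ 4 ≤ 2 ^ t := Nat.pow_le_pow_right (by norm_num) (by omega)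
      omega
    have ht01 : t ≠ 0 ∧ t ≠ 1 := by
      constructor
      · rintro rfl
        rw [pow_zero] at ht
        exact ha (by rw [orderOf_eq_one_iff.mp ht, mul_one])
      · rintro rfl
        apply ha
        rw [← pow_two]
        have := pow_orderOf_eq_one a
        rwa [ht, pow_one] at this
    have ht4 : t ≠ 3 := by
      rintro rfl
      -- cyclic, hence commutative
      apply hxnc
      have h5 : orderOf a = Nat.card S := by rw [ht, hcard8]; norm_num
      have htop : Subgroup.zpowers a = ⊤ := by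
        apply Subgroup.eq_top_of_card_eq
        rw [Nat.card_zpowers, h5]
      intro g
      have hg : g ∈ Subgroup.zpowers a := by rw [htop]; trivial
      have hxa : x ∈ Subgroup.zpowers a := by rw [htop]; trivial
      obtain ⟨i, rfl⟩ := hg
      obtain ⟨j, hj⟩ := hxa
      rw [← hj]
      show a ^ i * a ^ j = a ^ j * a ^ i
      rw [← zpow_add, ← zpow_add, add_comm]
    have ht2 : t = 2 := by omega
    subst ht2
    refine ⟨a, ?_, ?_⟩
    · have h5 := (Subgroup.zpowers a).index_mul_card
      rw [Nat.card_zpowers, ht, hcard8] at h5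
      omega
    · intro hxa
      -- then `a` centralizes `x`, and `C(x) = ⟨a⟩` contains the two involutions `x, z`
      have hle : Subgroup.zpowers a ≤ Subgroup.centralizer ({x} : Set S) := by
        rw [Subgroup.zpowers_le]
        apply hmemC
        obtain ⟨j, hj⟩ := hxa
        rw [← hj]
        show a * a ^ j = a ^ j * a
        exact ((Commute.refl a).zpow_right j).eq
      have heq : Subgroup.zpowers a = Subgroup.centralizer ({x} : Set S) :=
        Subgroup.eq_of_le_of_card_ge hle (by rw [hC, Nat.card_zpowers, ht]; norm_num)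
      have hzza : z ∈ Subgroup.zpowers a := by
        rw [heq]; exact hmemC z (hzc x).symm
      have hcyc : IsCyclic (Subgroup.zpowers a) := inferInstance
      have h6 := Cfsg.Agent.S3224.eq_of_sq_one (G := Subgroup.zpowers a)
        (a := ⟨x, hxa⟩) (b := ⟨z, hzza⟩)
        (Subtype.ext (by simpa [pow_two] using hx2)) (Subtype.ext (by simpa [pow_two] using hz2))
        (fun h => hx1 (congrArg Subtype.val h)) (fun h => hz1 (congrArg Subtype.val h))
      exact hzx (congrArg Subtype.val h6).symm
  · -- order at least `16`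
    have hcard16 : 16 ≤ Nat.card S := by
      rw [hm]
      calc 16 = 2 ^ 4 := by norm_num
        _ ≤ 2 ^ m := Nat.pow_le_pow_right (by norm_num) hm4
    let Z : Subgroup S := Subgroup.zpowers z
    have hZcases : ∀ w ∈ Z, w = 1 ∨ w = z := by
      rintro _ ⟨i, rfl⟩
      exact zpow_cases hz2 i
    have hZcomm : ∀ g : S, ∀ w ∈ Z, g * w = w * g := by
      intro g w hw
      rcases hZcases w hw with h | h
      · rw [h, mul_one, one_mul]
      · rw [h]; exact hzc g
    have hZn : Z.Normal := ⟨fun n hn g => by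
      rw [hZcomm g n hn]
      simpa using hn⟩
    have hZcard : Nat.card Z = 2 := by
      show Nat.card (Subgroup.zpowers z) = 2
      rw [Nat.card_zpowers, hzo]
    let π := QuotientGroup.mk' Z
    have hπs : Function.Surjective π := QuotientGroup.mk'_surjective _
    have hWcard : Nat.card (S ⧸ Z) * 2 = Nat.card S := by
      have := Cfsg.Agent.Lib.SuperSolv2.card_quotient_mul Z
      rwa [hZcard] at this
    have hπker : ∀ g : S, π g = 1 → g = 1 ∨ g = z := by
      intro g hg
      exact hZcases g ((QuotientGroup.eq_one_iff g).mp hg)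
    have hπz : π z = 1 := (QuotientGroup.eq_one_iff z).mpr (Subgroup.mem_zpowers z)
    have hxn : π x ≠ 1 := by
      intro h
      rcases hπker x h with h1 | h1
      · exact hx1 h1
      · exact hzx h1.symm
    have hπxo : orderOf (π x) = 2 :=
      orderOf_eq_prime (by rw [pow_two, ← map_mul, hx2, map_one]) hxn
    let Db : Subgroup (S ⧸ Z) := Subgroup.centralizer ({π x} : Set (S ⧸ Z))
    have hπxDb : π x ∈ Db := by
      rw [Subgroup.mem_centralizer_iff]
      intro b hb
      rw [Set.mem_singleton_iff] at hb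
      rw [hb]
    have hupper : Nat.card Db ≤ 4 := by
      let D : Subgroup S := Db.comap π
      have hDcard : Nat.card D = Nat.card Db * 2 := by
        have := Cfsg.Agent.Lib.SuperSolv2.card_comap_mk Z Db
        rwa [hZcard] at this
      have hDv : ∀ s ∈ D, s * x * s⁻¹ = x ∨ s * x * s⁻¹ = x * z := by
        intro s hs
        have h1 : π s ∈ Db := hs
        have h2 : π x * π s = π s * π x := Subgroup.mem_centralizer_iff.mp h1 (π x) rfl
        have h3 : π (x⁻¹ * (s * x * s⁻¹)) = 1 := by
          rw [map_mul, map_mul, map_mul, map_inv, map_inv, ← h2]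
          group
        rcases hπker _ h3 with h4 | h4
        · left
          rw [inv_mul_eq_one] at h4
          exact h4.symm
        · right
          rw [← h4]
          group
      have h1 := card_le_two_mul D x z hz2 hz1 (fun s _ => hzc s) hDv
      have h2 : Nat.card ↥(D ⊓ Subgroup.centralizer ({x} : Set S)) ≤ 4 := by
        rw [← hC]
        exact Nat.le_of_dvd Nat.card_pos (Subgroup.card_dvd_of_le inf_le_right)
      omega
    have hS' : IsPGroup 2 (S ⧸ Z) := hS.to_quotient Z
    have hWge : 8 ≤ Nat.card (S ⧸ Z) := by omega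
    have hWnt : Nontrivial (S ⧸ Z) := Finite.one_lt_card_iff_nontrivial.mp (by omega)
    have hcW : Nontrivial (Subgroup.center (S ⧸ Z)) := hS'.center_nontrivial
    have hlower : 4 ≤ Nat.card Db := by
      have h1 : 1 < Nat.card (Subgroup.center (S ⧸ Z)) := Finite.one_lt_card_iff_nontrivial.mpr hcW
      have h2 : π x ∉ Subgroup.center (S ⧸ Z) := by
        intro hmem
        have h3 : Db = ⊤ := by
          rw [eq_top_iff]
          intro g _
          rw [Subgroup.mem_centralizer_iff]
          intro b hb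
          rw [Set.mem_singleton_iff] at hb
          rw [hb]
          exact (Subgroup.mem_center_iff.mp hmem g).symm
        rw [h3] at hupper
        simp at hupper
        omega
      have h3 : Subgroup.center (S ⧸ Z) ≤ Db := by
        intro g hg
        rw [Subgroup.mem_centralizer_iff]
        intro b hb
        rw [Set.mem_singleton_iff] at hb
        rw [hb]
        exact (Subgroup.mem_center_iff.mp hg (π x))
      have h4 := two_mul_card_le h3 hπxDb h2
      omega
    have hDb : Nat.card Db = 4 := le_antisymm hupper hlower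
    rcases ih (Nat.card (S ⧸ Z)) (by omega) (S ⧸ Z) rfl hS' (π x) hπxo hDb with h8 | ⟨ab, hab, hxab⟩
    · omega
    obtain ⟨a, rfl⟩ := hπs ab
    let A : Subgroup S := (Subgroup.zpowers (π a)).comap π
    have hAi : A.index = 2 := by
      show ((Subgroup.zpowers (π a)).comap π).index = 2
      rw [Subgroup.index_comap_of_surjective _ hπs]
      exact hab
    have hAn : A.Normal := Subgroup.normal_of_index_eq_two hAi
    have hxA : x ∉ A := hxab
    have haA : a ∈ A := Subgroup.mem_zpowers (π a)
    have hzA : z ∈ A := (Subgroup.mem_comap (f := π)).mpr (by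
      rw [hπz]
      exact Subgroup.one_mem _)
    have hAelem : ∀ g ∈ A, ∃ i : ℤ, g = a ^ i ∨ g = a ^ i * z := by
      intro g hg
      obtain ⟨i, hi⟩ := (hg : π g ∈ Subgroup.zpowers (π a))
      have hi' : (π a) ^ i = π g := hi
      refine ⟨i, ?_⟩
      have h3 : π ((a ^ i)⁻¹ * g) = 1 := by
        rw [map_mul, map_inv, map_zpow, hi']
        group
      rcases hπker _ h3 with h4 | h4
      · left
        rw [inv_mul_eq_one] at h4
        exact h4.symm
      · right
        rw [← h4]
        group
    have hzmem : z ∈ Subgroup.zpowers a := by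
      by_contra hzn
      have hAc : 2 * Nat.card A = Nat.card S := by
        have := A.index_mul_card
        rwa [hAi] at this
      have hAle : A ≤ Subgroup.zpowers a ⊔ Z := by
        intro g hg
        obtain ⟨i, h1 | h1⟩ := hAelem g hg
        · rw [h1]
          exact (le_sup_left : Subgroup.zpowers a ≤ Subgroup.zpowers a ⊔ Z)
            (Subgroup.zpow_mem _ (Subgroup.mem_zpowers a) i)
        · rw [h1]
          exact Subgroup.mul_mem_sup (Subgroup.zpow_mem _ (Subgroup.mem_zpowers a) i)
            (Subgroup.mem_zpowers z)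
      have h5 : Nat.card A ∣ orderOf a * 2 := by
        have h6 := Cfsg.Agent.Lib.PCore.card_sup_dvd (Subgroup.zpowers a) Z
        rw [Nat.card_zpowers, hZcard] at h6
        exact (Subgroup.card_dvd_of_le hAle).trans h6
      have h6 : 8 ≤ Nat.card A := by omega
      have h7 : Nat.card A ≤ orderOf a * 2 := Nat.le_of_dvd (by
        have := orderOf_pos a
        omega) h5
      have h8 : 4 ≤ orderOf a := by omega
      obtain ⟨t, ht⟩ := IsPGroup.iff_card.mp (hS.to_subgroup (Subgroup.zpowers a))
      rw [Nat.card_zpowers] at ht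
      have ht2 : 2 ≤ t := by
        by_contra hlt
        have h9 : 2 ^ t ≤ 2 ^ 1 := Nat.pow_le_pow_right (by norm_num) (by omega)
        rw [← ht] at h9
        omega
      obtain ⟨e', rfl⟩ : ∃ e', t = e' + 2 := ⟨t - 2, by omega⟩
      set e : ℕ := 2 * 2 ^ e' with he
      have hoe : orderOf a = 2 * e := by rw [ht, he]; ring
      set w : S := a ^ e with hw
      have hw2 : w * w = 1 := by
        rw [hw, ← pow_add, ← two_mul, ← hoe]
        exact pow_orderOf_eq_one a
      have hw1 : w ≠ 1 := by
        apply pow_ne_one_of_lt_orderOf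
        · positivity
        · rw [hoe]
          have : 0 < e := by positivity
          omega
      have hze : z ^ e = 1 := by
        rw [he, pow_mul, pow_two, hz2, one_pow]
      have hpow : ∀ g ∈ A, g ^ e = 1 ∨ g ^ e = w := by
        intro g hg
        have hai : ∀ i : ℤ, (a ^ i) ^ e = w ^ i := by
          intro i
          rw [hw, ← zpow_natCast, ← zpow_natCast, ← zpow_mul, ← zpow_mul, mul_comm]
        obtain ⟨i, h1 | h1⟩ := hAelem g hg
        · rw [h1, hai]
          exact zpow_cases hw2 i
        · rw [h1, (show Commute (a ^ i) z from (hzc _)).mul_pow, hze, mul_one, hai]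
          exact zpow_cases hw2 i
      have hb : x * a * x⁻¹ ∈ A := hAn.conj_mem a haA x
      have hbe : (x * a * x⁻¹) ^ e = x * w * x⁻¹ := by
        rw [hw, conj_zpow']
      have hbe1 : (x * a * x⁻¹) ^ e ≠ 1 := by
        rw [hbe]
        intro h
        apply hw1
        have : x⁻¹ * (x * w * x⁻¹) * x = w := by group
        rw [← this, h]
        group
      have hbew := (hpow _ hb).resolve_left hbe1
      rw [hbe] at hbew
      have hwc : w * x = x * w := by
        calc w * x = (x * w * x⁻¹) * x := by rw [hbew]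
          _ = x * w := by group
      have hwz : w ∈ Subgroup.zpowers a := ⟨(e : ℤ), by simp [hw]⟩
      have hwA : w ∈ A := by
        have : Subgroup.zpowers a ≤ A := (Subgroup.zpowers_le).mpr haA
        exact this hwz
      rcases hCx w (hmemC w hwc) with h | h | h | h
      · exact hw1 h
      · exact hxA (h ▸ hwA)
      · exact hzn (h ▸ hwz)
      · apply hxA
        have h9 : x = w * z⁻¹ := by rw [h]; group
        rw [h9]
        exact A.mul_mem hwA (A.inv_mem hzA)
    have hAeq : Subgroup.zpowers a = A := by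
      apply le_antisymm
      · exact (Subgroup.zpowers_le).mpr haA
      · intro g hg
        obtain ⟨i, h1 | h1⟩ := hAelem g hg
        · rw [h1]
          exact Subgroup.zpow_mem _ (Subgroup.mem_zpowers a) i
        · rw [h1]
          exact Subgroup.mul_mem _ (Subgroup.zpow_mem _ (Subgroup.mem_zpowers a) i) hzmem
    exact ⟨a, by rw [hAeq]; exact hAi, by rw [hAeq]; exact hxA⟩

theorem result {S : Type*} [Group S] [Finite S] (hS : IsPGroup 2 S)
    (x : S) (hx : orderOf x = 2) (hC : Nat.card ↥(Subgroup.centralizer ({x} : Set S)) = 4) :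
    (∃ n : ℕ, Nonempty (S ≃* DihedralGroup n)) ∨ Cfsg.IsQuasiDihedral S ∨ Nat.card S = 4 := by
  rcases claim _ S rfl hS x hx hC with h4 | ⟨a, ha, hxa⟩
  · exact Or.inr (Or.inr h4)
  by_cases h4 : Nat.card S = 4
  · exact Or.inr (Or.inr h4)
  have hx1 : x ≠ 1 := by
    intro h
    rw [h, orderOf_one] at hx
    omega
  have hx2 : x * x = 1 := by
    have := pow_orderOf_eq_one x
    rwa [hx, pow_two] at this
  have hxi : x⁻¹ = x := by rw [inv_eq_iff_mul_eq_one]; exact hx2
  have hcard : 2 * orderOf a = Nat.card S := by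
    have := (Subgroup.zpowers a).index_mul_card
    rwa [ha, Nat.card_zpowers] at this
  obtain ⟨m, hm⟩ := IsPGroup.iff_card.mp hS
  have h4d : 4 ∣ Nat.card S := by
    rw [← hC]; exact Subgroup.card_subgroup_dvd_card _
  have hm3 : 3 ≤ m := by
    rw [hm] at h4d h4
    by_contra hlt
    have hm2 : m = 0 ∨ m = 1 ∨ m = 2 := by omega
    rcases hm2 with rfl | rfl | rfl <;> simp at h4d h4
  obtain ⟨r, rfl⟩ : ∃ r, m = r + 1 := ⟨m - 1, by omega⟩
  have hr2 : 2 ≤ r := by omega
  have hN : orderOf a = 2 ^ r := by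
    rw [hm, pow_succ] at hcard
    omega
  have hAn : (Subgroup.zpowers a).Normal := Subgroup.normal_of_index_eq_two ha
  obtain ⟨k, hk⟩ := hAn.conj_mem a (Subgroup.mem_zpowers a) x
  have hk' : a ^ k = x * a * x⁻¹ := hk
  have hzpowconj : ∀ n : ℤ, x * a ^ n * x⁻¹ = (a ^ k) ^ n := by
    intro n
    rw [hk']
    simp [conj_zpow]
  have hkk : a ^ (k * k - 1) = 1 := by
    have h1 : x * (x * a * x⁻¹) * x⁻¹ = a := by
      have : x * (x * a * x⁻¹) * x⁻¹ = (x * x) * a * (x⁻¹ * x⁻¹) := by group
      rw [this, hxi, hx2]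
      group
    rw [← hk', hzpowconj, ← zpow_mul] at h1
    rw [sub_eq_add_neg, zpow_add, h1, zpow_neg_one]
    group
  have hdvd : ((2 : ℤ) ^ r) ∣ k * k - 1 := by
    have h1 := orderOf_dvd_iff_zpow_eq_one.mpr hkk
    rw [hN] at h1
    exact_mod_cast h1
  obtain ⟨hkodd, hkcases⟩ := sq_one_two_pow r hr2 k hdvd
  have hzdvd : ∀ t : ℤ, ((2 : ℤ) ^ r) ∣ t → a ^ t = 1 := by
    intro t ht
    apply orderOf_dvd_iff_zpow_eq_one.mp
    rw [hN]
    exact_mod_cast ht
  have hinC : ∀ g : S, x * g * x⁻¹ = g → g ∈ Subgroup.centralizer ({x} : Set S) := by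
    intro g hg
    rw [Subgroup.mem_centralizer_iff]
    intro b hb
    rw [Set.mem_singleton_iff] at hb
    rw [hb]
    calc x * g = (x * g * x⁻¹) * x := by group
      _ = g * x := by rw [hg]
  have hxC : x ∈ Subgroup.centralizer ({x} : Set S) := hinC x (by group)
  have hbound : ∀ H : Subgroup S, H ≤ Subgroup.centralizer ({x} : Set S) → x ∉ H → Nat.card H ≤ 2 := by
    intro H hH hxH
    have := two_mul_card_le hH hxC hxH
    omega
  -- the dihedral case
  have hdih : a ^ k = a⁻¹ → (∃ n : ℕ, Nonempty (S ≃* DihedralGroup n)) := by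
    intro h
    haveI : NeZero (orderOf a) := ⟨(orderOf_pos a).ne'⟩
    refine ⟨orderOf a, Cfsg.Agent.Lib.DihedralIso.nonempty_dihedral_of_card a x (pow_orderOf_eq_one a) hx2
      ?_ rfl ?_ (by omega)⟩
    · rw [← h, hk', hxi]
    · intro n hn
      apply hxa
      rw [← hn]
      exact Subgroup.npow_mem_zpowers a n
  have hzpk : ∀ t : ℤ, a ^ k = a ^ t ↔ a ^ (k - t) = 1 := by
    intro t
    rw [zpow_sub, mul_inv_eq_one]
  rcases Nat.lt_or_ge r 3 with hr3 | hr3
  · -- `r = 2`
    have hr : r = 2 := by omega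
    subst hr
    have hk4 : (4 : ℤ) ∣ k - 1 ∨ (4 : ℤ) ∣ k + 1 := by
      obtain ⟨u, rfl⟩ := hkodd
      omega
    rcases hk4 with h | h
    · exfalso
      have h1 : a ^ k = a := by
        have := (hzpk 1).mpr (hzdvd _ (by norm_num; exact h))
        simpa using this
      have h2 : x * a * x⁻¹ = a := by rw [← hk', h1]
      have h3 := hbound (Subgroup.zpowers a) ((Subgroup.zpowers_le).mpr (hinC a h2)) hxa
      rw [Nat.card_zpowers, hN] at h3
      norm_num at h3
    · left
      apply hdih
      have := (hzpk (-1)).mpr (hzdvd _ (by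
        norm_num
        exact h))
      simpa using this
  · rcases hkcases with h | h
    · exfalso
      have h1 : a ^ (2 * k) = a ^ (2 : ℤ) := by
        have h2 : a ^ (2 * k - 2) = 1 := by
          apply hzdvd
          obtain ⟨t, ht⟩ := h
          refine ⟨t, ?_⟩
          have e : (2 : ℤ) ^ r = 2 ^ (r - 1) * 2 := by
            rw [← pow_succ]
            congr 1
            omega
          rw [e]
          linear_combination 2 * ht
        rw [zpow_sub, mul_inv_eq_one] at h2
        exact h2
      have h3 : x * a ^ (2 : ℤ) * x⁻¹ = a ^ (2 : ℤ) := by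
        rw [hzpowconj, ← zpow_mul, mul_comm, h1]
      have h4' := hbound (Subgroup.zpowers (a ^ (2 : ℤ))) ((Subgroup.zpowers_le).mpr (hinC _ h3)) (by
        intro hmem
        apply hxa
        have hle : Subgroup.zpowers (a ^ (2 : ℤ)) ≤ Subgroup.zpowers a :=
          (Subgroup.zpowers_le).mpr (Subgroup.zpow_mem _ (Subgroup.mem_zpowers a) 2)
        exact hle hmem)
      rw [Nat.card_zpowers] at h4'
      have h5 : orderOf (a ^ (2 : ℤ)) = 2 ^ (r - 1) := by
        have e : a ^ (2 : ℤ) = a ^ 2 := by
          rw [show (2 : ℤ) = ((2 : ℕ) : ℤ) from rfl, zpow_natCast]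
        rw [e, orderOf_pow' a (by norm_num), hN]
        have h6 : Nat.gcd (2 ^ r) 2 = 2 := Nat.gcd_eq_right (dvd_pow_self 2 (by omega))
        rw [h6]
        obtain ⟨s, rfl⟩ : ∃ s, r = s + 1 := ⟨r - 1, by omega⟩
        simp [pow_succ]
      rw [h5] at h4'
      have h6 : 2 ^ 2 ≤ 2 ^ (r - 1) := Nat.pow_le_pow_right (by norm_num) (by omega)
      omega
    · obtain ⟨t, ht⟩ := h
      rcases Int.even_or_odd t with he | ho
      · left
        apply hdih
        obtain ⟨u, rfl⟩ := he
        have e : (2 : ℤ) ^ r = 2 ^ (r - 1) * 2 := by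
          rw [← pow_succ]
          congr 1
          omega
        have := (hzpk (-1)).mpr (hzdvd _ ⟨u, by
          rw [sub_neg_eq_add, ht, e]
          ring⟩)
        simpa using this
      · right; left
        obtain ⟨u, rfl⟩ := ho
        refine ⟨r, hr3, ?_, a, x, hN, hx, ?_⟩
        · rw [hm]
        · rw [← hk']
          have e : (2 : ℤ) ^ r = 2 ^ (r - 1) * 2 := by
            rw [← pow_succ]
            congr 1
            omega
          have hpos : 1 ≤ 2 ^ (r - 1) := Nat.one_le_two_pow
          have e2 : a ^ (2 ^ (r - 1) - 1) = a ^ (((2 : ℤ) ^ (r - 1) - 1)) := by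
            rw [← zpow_natCast]
            congr 1
            push_cast [Nat.cast_sub hpos]
            ring
          rw [e2, hzpk]
          apply hzdvd
          refine ⟨u, ?_⟩
          rw [e]
          linear_combination ht

end Cfsg.Agent.S3224
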