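import Mathlib
import Cfsg.Statements.S0731
import Cfsg.Agent.Lib.ZassAbD19
import Cfsg.Agent.Lib.ZassP
import Cfsg.Agent.S0739
import Cfsg.Agent.S0741
import Cfsg.Agent.S0742

set_option autoImplicit false
open Cfsg

namespace Cfsg.Agent.S0731

open MulAction Cfsg.Agent.Lib.ZassCore

/-- Sharp triple transitivity when the two-point stabiliser has order `|Ω| - 2`. -/
theorem sharply_three {G Ω : Type*} [Group G] [Finite G] [MulAction G Ω] [Fintype Ω]
    (hZ : Cfsg.IsZassenhausGroup G Ω) {a b : Ω} (hab : a ≠ b)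
    (hd : Nat.card ↥(stabilizer G a ⊓ stabilizer G b) = Fintype.card Ω - 2) :
    IsMultiplyPretransitive G Ω 3 ∧ ∀ t : Fin 3 ↪ Ω, stabilizer G t = ⊥ := by
  classical
  constructor
  · -- regularity of the two-point stabiliser on the remaining points
    have h3 := Cfsg.Agent.Lib.Zassenhaus.three_le_card hZ
    have hcard : Nat.card {c : Ω // c ≠ a ∧ c ≠ b} = Fintype.card Ω - 2 := by
      rw [Nat.card_eq_fintype_card, Fintype.card_subtype]
      have h1 : (Finset.univ.filter (fun c : Ω => c ≠ a ∧ c ≠ b)) =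
          (Finset.univ.erase a).erase b := by
        ext c
        simp [and_comm]
      rw [h1, Finset.card_erase_of_mem, Finset.card_erase_of_mem (Finset.mem_univ _), Finset.card_univ]
      · omega
      · simp [hab.symm]
    obtain ⟨c₀, hc₀⟩ : Nonempty {c : Ω // c ≠ a ∧ c ≠ b} := by
      have h1 : 0 < Nat.card {c : Ω // c ≠ a ∧ c ≠ b} := by omega
      exact (Nat.card_pos_iff.1 h1).1
    have hreg : ∀ c : Ω, c ≠ a → c ≠ b → ∃ h : G, h • a = a ∧ h • b = b ∧ h • c₀ = c := by
      let f : ↥(stabilizer G a ⊓ stabilizer G b) → {c : Ω // c ≠ a ∧ c ≠ b} := fun h =>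
        ⟨(h : G) • c₀, fun h1 => hc₀.1 (by
            have h2 : (h : G) • c₀ = (h : G) • a := by rw [h1]; exact (h.2.1 : (h : G) • a = a).symm
            exact smul_left_cancel _ h2), fun h1 => hc₀.2 (by
            have h2 : (h : G) • c₀ = (h : G) • b := by rw [h1]; exact (h.2.2 : (h : G) • b = b).symm
            exact smul_left_cancel _ h2)⟩
      have hf : Function.Injective f := by
        intro h h' hh
        have h1 : (h : G) • c₀ = (h' : G) • c₀ := congrArg Subtype.val hh
        have h2 : ((h' : G)⁻¹ * h) • c₀ = c₀ := by rw [mul_smul, h1, inv_smul_smul]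
        have h3 : (h' : G)⁻¹ * h = 1 := Cfsg.Agent.Lib.Zassenhaus.eq_one_of_three hZ hab
          hc₀.2.symm hc₀.1.symm (Subgroup.mul_mem _ (Subgroup.inv_mem _ h'.2.1) h.2.1)
          (Subgroup.mul_mem _ (Subgroup.inv_mem _ h'.2.2) h.2.2) h2
        apply Subtype.ext
        exact (inv_mul_eq_one.mp h3).symm
      have hfb := hf.bijective_of_nat_card_le (by rw [hd, hcard])
      intro c hca hcb
      obtain ⟨h, hh⟩ := hfb.2 ⟨c, hca, hcb⟩
      exact ⟨h, h.2.1, h.2.2, congrArg Subtype.val hh⟩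
    have hto : ∀ t : Fin 3 ↪ Ω, ∃ g : G, g • a = t 0 ∧ g • b = t 1 ∧ g • c₀ = t 2 := by
      intro t
      have h01 : t 0 ≠ t 1 := fun h => absurd (t.injective h) (by decide)
      have h02 : t 0 ≠ t 2 := fun h => absurd (t.injective h) (by decide)
      have h12 : t 1 ≠ t 2 := fun h => absurd (t.injective h) (by decide)
      obtain ⟨g, hg1, hg2⟩ := Cfsg.Agent.Lib.Zassenhaus.two_trans hZ hab h01
      obtain ⟨h, hh1, hh2, hh3⟩ := hreg (g⁻¹ • t 2) (by
          intro h
          apply h02
          rw [← hg1, ← h, smul_inv_smul]) (by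
          intro h
          apply h12
          rw [← hg2, ← h, smul_inv_smul])
      refine ⟨g * h, ?_, ?_, ?_⟩
      · rw [mul_smul, hh1, hg1]
      · rw [mul_smul, hh2, hg2]
      · rw [mul_smul, hh3, smul_inv_smul]
    rw [MulAction.isMultiplyPretransitive_iff]
    intro x y
    obtain ⟨g, hg1, hg2, hg3⟩ := hto x
    obtain ⟨g', hg1', hg2', hg3'⟩ := hto y
    refine ⟨g' * g⁻¹, ?_⟩
    ext i
    have hi : i = 0 ∨ i = 1 ∨ i = 2 := by
      fin_cases i <;> simp
    show (g' * g⁻¹) • x i = y i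
    rcases hi with rfl | rfl | rfl
    · rw [← hg1, ← hg1', mul_smul, inv_smul_smul]
    · rw [← hg2, ← hg2', mul_smul, inv_smul_smul]
    · rw [← hg3, ← hg3', mul_smul, inv_smul_smul]
  · intro t
    rw [eq_bot_iff]
    intro g hg
    rw [Subgroup.mem_bot]
    have hg' : ∀ i, g • t i = t i := by
      intro i
      have h1 : g • t = t := hg
      have h2 := congrArg (fun e : Fin 3 ↪ Ω => e i) h1
      exact h2
    exact hZ.2.2.1 g (t 0) (t 1) (t 2) (fun h => absurd (t.injective h) (by decide))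
      (fun h => absurd (t.injective h) (by decide)) (fun h => absurd (t.injective h) (by decide))
      (hg' 0) (hg' 1) (hg' 2)

/-- When `2 d + 1 = n` with `d` odd, the elements interchanging two points are involutions. -/
theorem swap_invol_odd {G Ω : Type*} [Group G] [Finite G] [MulAction G Ω] [Fintype Ω]
    (hZ : Cfsg.IsZassenhausGroup G Ω) {a b : Ω} (hab : a ≠ b) {F : Subgroup G}
    (hK : IsKernelAt G a F) (hc : ∀ x ∈ F, ∀ y ∈ F, x * y = y * x)
    (hodd : Odd (Nat.card ↥(stabilizer G a ⊓ stabilizer G b)))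
    (h2d : 2 * Nat.card ↥(stabilizer G a ⊓ stabilizer G b) + 1 = Nat.card F)
    (s : G) (hsa : s • a = b) (hsb : s • b = a) : s * s = 1 := by
  classical
  set d := Nat.card ↥(stabilizer G a ⊓ stabilizer G b) with hd
  have hn : Nat.card F + 1 = Fintype.card Ω := Cfsg.Agent.Lib.ZassAbL19.card_F_add_one hZ hab.symm hK
  have hnil : ∀ q : ℕ, q.Prime → q ∣ d → ¬ ∃ N : Subgroup G, N.Normal ∧
      N.index = q ^ (Nat.card G).factorization q := by
    rintro q hq hqd ⟨N, hN, hidx⟩
    have hGc : Nat.card G = Fintype.card Ω * (Fintype.card Ω - 1) * d :=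
      Cfsg.Agent.Lib.ZassH.card_group hZ hab
    have hG0 : Nat.card G ≠ 0 := Nat.card_pos.ne'
    have hqG : q ∣ Nat.card G := by rw [hGc]; exact Dvd.dvd.mul_left hqd _
    have hNc := N.card_mul_index
    rw [hidx] at hNc
    have hqN : ¬ q ∣ Nat.card N := by
      intro h
      apply Nat.pow_succ_factorization_not_dvd hG0 hq
      have h1 : q ^ ((Nat.card G).factorization q + 1) ∣
          Nat.card N * q ^ (Nat.card G).factorization q := by
        rw [pow_succ, mul_comm]
        exact Nat.mul_dvd_mul h (dvd_refl _)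
      rwa [hNc] at h1
    have hN1 : N ≠ ⊥ := by
      intro h
      rw [h, Subgroup.card_bot, one_mul] at hNc
      have h1 : Fintype.card Ω ∣ q ^ (Nat.card G).factorization q := by
        rw [hNc, hGc, mul_assoc]
        exact Dvd.intro _ rfl
      have h2 : Fintype.card Ω - 1 ∣ q ^ (Nat.card G).factorization q := by
        rw [hNc, hGc]
        exact Dvd.dvd.mul_right (Dvd.intro_left _ rfl) _
      have h3 := Cfsg.Agent.Lib.Zassenhaus.three_le_card hZ
      obtain ⟨i, -, hi⟩ := (Nat.dvd_prime_pow hq).1 h1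
      obtain ⟨j, -, hj⟩ := (Nat.dvd_prime_pow hq).1 h2
      have hi0 : i ≠ 0 := by
        rintro rfl
        rw [pow_zero] at hi
        omega
      have hj0 : j ≠ 0 := by
        rintro rfl
        rw [pow_zero] at hj
        omega
      have h4 : q ∣ Fintype.card Ω := by rw [hi]; exact dvd_pow_self q hi0
      have h5 : q ∣ Fintype.card Ω - 1 := by rw [hj]; exact dvd_pow_self q hj0
      have h6 : q ∣ Fintype.card Ω - (Fintype.card Ω - 1) := Nat.dvd_sub h4 h5
      have h7 : Fintype.card Ω - (Fintype.card Ω - 1) = 1 := by omega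
      rw [h7] at h6
      exact hq.one_lt.ne' (Nat.dvd_one.1 h6)
    have hZM := normal_isZassenhaus hZ N hN1
    have hFM := kernel_le hZ hK N hN1
    have hF' := Cfsg.Agent.Lib.ZassAbO19.isKernelAt_subgroupOf hK N hFM
    have hc' : ∀ x ∈ F.subgroupOf N, ∀ y ∈ F.subgroupOf N, x * y = y * x := by
      intro x hx y hy
      exact Subtype.ext (hc _ hx _ hy)
    have hdvd : Nat.card ↥(stabilizer N a ⊓ stabilizer N b) ∣ d :=
      Cfsg.Agent.Lib.ZassAbO19.card_inf_dvd N
    have hodd' : Odd (Nat.card ↥(stabilizer N a ⊓ stabilizer N b)) := Odd.of_dvd_nat hodd hdvd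
    have h1 := Cfsg.Agent.Lib.ZassAbO19.le_two_mul hZM hab hF' hc' hodd'
    have h2 : Nat.card (F.subgroupOf N) = Nat.card F :=
      Nat.card_congr (Subgroup.subgroupOfEquivOfLe hFM).toEquiv
    rw [h2] at h1
    have hdvd2 : Nat.card ↥(stabilizer N a ⊓ stabilizer N b) ∣ Nat.card N :=
      Subgroup.card_subgroup_dvd_card _
    have hne : Nat.card ↥(stabilizer N a ⊓ stabilizer N b) ≠ d := by
      intro h
      rw [h] at hdvd2
      exact hqN (hqd.trans hdvd2)
    have hle := Nat.le_of_dvd hodd.pos hdvd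
    omega
  obtain ⟨-, -, h1⟩ := Cfsg.Agent.S0739.result hZ hab hodd hnil
  have hmem : s * s ∈ stabilizer G a ⊓ stabilizer G b := by
    refine ⟨?_, ?_⟩
    · show (s * s) • a = a
      rw [mul_smul, hsa, hsb]
    · show (s * s) • b = b
      rw [mul_smul, hsb, hsa]
  have h2 := h1 s hsa hsb _ hmem
  have h3 : s * (s * s) * s⁻¹ = s * s := by group
  rw [h3] at h2
  have h4 : (s * s) * (s * s) = 1 := by
    nth_rw 1 [h2]
    exact inv_mul_cancel _
  exact Cfsg.Agent.Lib.ZassInv.eq_one_of_mul_self hZ hodd hmem h4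

/-- A finite Zassenhaus group whose point stabiliser has an abelian regular normal subgroup on the remaining points is sharply triply transitive or isomorphic to `PSL(2, F)` for a finite field `F` of odd characteristic. -/
theorem result {G Ω : Type*} [Group G] [Finite G] [MulAction G Ω] [Finite Ω] (hZ : Cfsg.IsZassenhausGroup G Ω) (x : Ω) (F : Subgroup G) (hFle : F ≤ MulAction.stabilizer G x) (hFn : (F.subgroupOf (MulAction.stabilizer G x)).Normal) (hFab : IsMulCommutative F) (hreg : ∀ y z : Ω, y ≠ x → z ≠ x → ∃! u : F, (u : G) • y = z) : (MulAction.IsMultiplyPretransitive G Ω 3 ∧ ∀ t : Fin 3 ↪ Ω, MulAction.stabilizer G t = ⊥) ∨ ∃ (K : Type) (_ : Field K) (_ : Fintype K), ringChar K ≠ 2 ∧ Nonempty (G ≃* Matrix.ProjectiveSpecialLinearGroup (Fin 2) K) := by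
  classical
  letI := Fintype.ofFinite Ω
  have hK := Cfsg.Agent.Lib.ZassP.isKernelAt_of_regular hZ x F hFle hFn hreg
  have hc : ∀ u ∈ F, ∀ v ∈ F, u * v = v * u := by
    intro u hu v hv
    have := hFab.is_comm.comm ⟨u, hu⟩ ⟨v, hv⟩
    exact congrArg Subtype.val this
  have h3 := Cfsg.Agent.Lib.Zassenhaus.three_le_card hZ
  obtain ⟨b, hb⟩ : ∃ y : Ω, x ≠ y := by
    obtain ⟨y, z, hyz⟩ : ∃ y z : Ω, y ≠ z := by
      have : Nontrivial Ω := Fintype.one_lt_card_iff_nontrivial.1 (by omega)
      exact exists_pair_ne Ω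
    by_cases h : x = y
    · exact ⟨z, h ▸ hyz⟩
    · exact ⟨y, h⟩
  have hn : Nat.card F + 1 = Fintype.card Ω := Cfsg.Agent.Lib.ZassAbL19.card_F_add_one hZ hb.symm hK
  have hdvd := Cfsg.Agent.Lib.ZassAbT19.card_dvd_sub_one hZ hb hK
  set d := Nat.card ↥(stabilizer G x ⊓ stabilizer G b) with hd
  have hd0 : 0 < d := Nat.card_pos
  have hle : Nat.card F - 1 ≤ 2 * d := by
    rcases Nat.even_or_odd d with hev | hodd
    · have := Cfsg.Agent.S0741.result hZ hb hev
      omega
    · exact Cfsg.Agent.Lib.ZassAbO19.le_two_mul hZ hb hK hc hodd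
  obtain ⟨r, hr⟩ := hdvd
  have hr2 : r ≤ 2 := by
    by_contra h
    have : d * 3 ≤ d * r := Nat.mul_le_mul_left _ (by omega)
    omega
  have hr0 : r ≠ 0 := by
    rintro rfl
    omega
  have hcases : r = 1 ∨ r = 2 := by omega
  rcases hcases with rfl | rfl
  · left
    exact sharply_three hZ hb (by omega)
  · right
    have h2d : 2 * d + 1 = Nat.card F := by omega
    have hs2 : ∀ s : G, s • x = b → s • b = x → s * s = 1 := by
      intro s hsa hsb
      rcases Nat.even_or_odd d with hev | hodd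
      · exact Cfsg.Agent.S0742.swap_invol hZ hb hev (by omega) s hsa hsb
      · exact swap_invol_odd hZ hb hK hc hodd h2d s hsa hsb
    obtain ⟨K, hK1, hK2, hcK, hiso⟩ := Cfsg.Agent.Lib.ZassAbD19.psl_of_hyp hZ hb hK hc h2d hs2
    refine ⟨K, hK1, hK2, ?_, hiso⟩
    intro h
    have h1 := FiniteField.even_card_iff_char_two.1 h
    omega

end Cfsg.Agent.S0731
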