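import Mathlib
import Cfsg.Statements.S0107
import Cfsg.Agent.Lib.ThompsonTransfer

set_option autoImplicit false
set_option linter.style.haveILetI false
open Cfsg

namespace Cfsg.Agent.S0107

open Cfsg.Agent.Lib.ThompsonTransfer

theorem eq_of_two_mul {n : ℕ} (hn : 1 ≤ n) {i j : ZMod (2 ^ n)} (hi : 2 * i = 0) (hj : 2 * j = 0) (hi0 : i ≠ 0)
    (hj0 : j ≠ 0) : i = j := by
  haveI : NeZero (2 ^ n) := ⟨by positivity⟩
  have key : ∀ k : ZMod (2 ^ n), 2 * k = 0 → k ≠ 0 → k.val = 2 ^ (n - 1) := by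
    intro k hk hk0
    have h1 : ((2 * k.val : ℕ) : ZMod (2 ^ n)) = 0 := by
      push_cast
      rw [ZMod.natCast_zmod_val, hk]
    rw [ZMod.natCast_eq_zero_iff] at h1
    obtain ⟨m, rfl⟩ : ∃ m, n = m + 1 := ⟨n - 1, by omega⟩
    have e2 : 2 ^ (m + 1) = 2 * 2 ^ m := pow_succ' 2 m
    have h2 : 2 * 2 ^ m ∣ 2 * k.val := e2 ▸ h1
    obtain ⟨c, hc⟩ := Nat.dvd_of_mul_dvd_mul_left (by norm_num) h2
    have hlt : k.val < 2 * 2 ^ m := lt_of_lt_of_eq (ZMod.val_lt k) e2
    have hpos : 0 < 2 ^ m := by positivity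
    have hc2 : c < 2 := by
      rw [hc] at hlt
      nlinarith
    have hc0 : c ≠ 0 := by
      rintro rfl
      apply hk0
      have : k.val = 0 := by simpa using hc
      exact (ZMod.val_eq_zero k).mp this
    have : c = 1 := by omega
    subst this
    simpa using hc
  have e : i.val = j.val := by rw [key i hi hi0, key j hj hj0]
  exact ZMod.val_injective _ e

/-- A finite group with no nontrivial 2-group quotient and dihedral Sylow 2-subgroups of order at least 8 has a single class of involutions. -/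
theorem result {G : Type*} [Group G] [Finite G] (T : Sylow 2 G) (n : ℕ) (hn : 2 ≤ n) (hT : Nonempty ((T : Subgroup G) ≃* DihedralGroup (2 ^ n))) (hO : Cfsg.pResidual 2 G = ⊤) (x y : G) (hx : orderOf x = 2) (hy : orderOf y = 2) : ∃ g : G, g * x * g⁻¹ = y := by
  classical
  haveI : NeZero (2 ^ n) := ⟨by positivity⟩
  obtain ⟨e⟩ := hT
  -- no subgroup of index two
  have hG : ∀ H : Subgroup G, H.index ≠ 2 := by
    intro H hH
    haveI hNorm : H.Normal := Subgroup.normal_of_index_eq_two hH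
    have hle : Cfsg.pResidual 2 G ≤ H := by
      rw [Cfsg.pResidual, Subgroup.closure_le]
      intro g hg
      have hg2 : g ^ 2 ∈ H := Subgroup.sq_mem_of_index_two hH g
      have hco : Nat.Coprime (orderOf g) 2 := hg
      obtain ⟨a, b, hab⟩ : ∃ a b : ℤ, (orderOf g : ℤ) * a + 2 * b = 1 := by
        have := Nat.isCoprime_iff_coprime.mpr hco
        obtain ⟨a, b, hab⟩ := this
        exact ⟨a, b, by push_cast at hab; linarith⟩
      have h1 : g = (g ^ (orderOf g)) ^ a * (g ^ 2) ^ b := by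
        rw [← zpow_natCast g (orderOf g), ← zpow_natCast g 2, ← zpow_mul, ← zpow_mul, ← zpow_add]
        push_cast
        rw [hab, zpow_one]
      rw [h1, pow_orderOf_eq_one, one_zpow, one_mul]
      exact H.zpow_mem hg2 b
    rw [hO, top_le_iff] at hle
    rw [hle, Subgroup.index_top] at hH
    omega
  -- the cyclic maximal subgroup
  let C₀ : Subgroup (T : Subgroup G) := (Subgroup.zpowers (DihedralGroup.r (1 : ZMod (2 ^ n)))).comap e.toMonoidHom
  let M : Subgroup G := C₀.map (T : Subgroup G).subtype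
  have hMT : M ≤ (T : Subgroup G) := Subgroup.map_subtype_le _
  have hidx : M.relIndex (T : Subgroup G) = 2 := by
    have h1 : M.subgroupOf (T : Subgroup G) = C₀ :=
      Subgroup.comap_map_eq_self_of_injective (T : Subgroup G).subtype_injective C₀
    rw [Subgroup.relIndex, h1]
    have h2 : C₀.index = (Subgroup.zpowers (DihedralGroup.r (1 : ZMod (2 ^ n)))).index :=
      Subgroup.index_comap_of_surjective _ e.surjective
    rw [h2]
    have h3 := Subgroup.card_mul_index (Subgroup.zpowers (DihedralGroup.r (1 : ZMod (2 ^ n))))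
    rw [Nat.card_zpowers, DihedralGroup.orderOf_r_one, DihedralGroup.nat_card] at h3
    have hpos : 0 < 2 ^ n := by positivity
    have h4 : 2 ^ n * (Subgroup.zpowers (DihedralGroup.r (1 : ZMod (2 ^ n)))).index = 2 ^ n * 2 := by
      rw [h3]; ring
    exact Nat.eq_of_mul_eq_mul_left hpos h4
  have hT2 : ¬ 2 ∣ (T : Subgroup G).index := T.not_dvd_index
  have hconj : ∀ z : G, orderOf z = 2 → ∃ g : G, g⁻¹ * z * g ∈ M := by
    intro z hz
    refine exists_conj_mem hG _ M hMT hidx hT2 z 1 (by rw [pow_one, ← hz]; exact pow_orderOf_eq_one z) ?_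
    intro m g hm _ _
    have : z ^ m = 1 := orderOf_dvd_iff_pow_eq_one.mp (by rw [hz]; exact hm)
    rw [this]
    simp [M.one_mem]
  -- all elements of order two in `M` coincide
  have huniq : ∀ u ∈ M, ∀ v ∈ M, orderOf u = 2 → orderOf v = 2 → u = v := by
    rintro _ ⟨u, hu, rfl⟩ _ ⟨v, hv, rfl⟩ hou hov
    have hr : ∀ z : ZMod (2 ^ n), DihedralGroup.r z ∈ Subgroup.zpowers (DihedralGroup.r (1 : ZMod (2 ^ n))) := by
      intro z
      have h1 : (DihedralGroup.r (1 : ZMod (2 ^ n))) ^ z.val = DihedralGroup.r z := by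
        rw [DihedralGroup.r_one_pow, ZMod.natCast_zmod_val]
      rw [← h1]
      exact Subgroup.pow_mem _ (Subgroup.mem_zpowers _) _
    have hform : ∀ w ∈ C₀, orderOf (w : G) = 2 → ∃ z : ZMod (2 ^ n), e w = DihedralGroup.r z ∧ 2 * z = 0 ∧ z ≠ 0 := by
      intro w hw ho
      have ho' : orderOf w = 2 := by rwa [Subgroup.orderOf_coe] at ho
      have he : orderOf (e w) = 2 := by rw [MulEquiv.orderOf_eq, ho']
      have hmem : e w ∈ Subgroup.zpowers (DihedralGroup.r (1 : ZMod (2 ^ n))) := hw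
      have hr' : ∃ z, e w = DihedralGroup.r z := by
        obtain ⟨k, hk⟩ := Subgroup.mem_zpowers_iff.mp hmem
        rw [← hk]
        refine ⟨(k : ZMod (2 ^ n)), ?_⟩
        rw [DihedralGroup.r_one_zpow]
      obtain ⟨z, hz⟩ := hr'
      refine ⟨z, hz, ?_, ?_⟩
      · have h2 : (e w) ^ 2 = 1 := by
          have := pow_orderOf_eq_one (e w)
          rwa [he] at this
        rw [hz, pow_two, DihedralGroup.r_mul_r, DihedralGroup.one_def] at h2
        have h3 : z + z = 0 := DihedralGroup.r.inj h2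
        rw [two_mul]; exact h3
      · rintro rfl
        rw [hz] at he
        have : DihedralGroup.r (0 : ZMod (2 ^ n)) = 1 := rfl
        rw [this, orderOf_one] at he
        omega
    obtain ⟨i, hi1, hi2, hi3⟩ := hform u hu hou
    obtain ⟨j, hj1, hj2, hj3⟩ := hform v hv hov
    have hij := eq_of_two_mul (by omega) hi2 hj2 hi3 hj3
    have : u = v := e.injective (by rw [hi1, hj1, hij])
    rw [this]
  obtain ⟨g, hg⟩ := hconj x hx
  obtain ⟨h, hh⟩ := hconj y hy
  have hog : orderOf (g⁻¹ * x * g) = 2 := by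
    have : g⁻¹ * x * g = MulAut.conj g⁻¹ x := by simp
    rw [this, MulEquiv.orderOf_eq, hx]
  have hoh : orderOf (h⁻¹ * y * h) = 2 := by
    have : h⁻¹ * y * h = MulAut.conj h⁻¹ y := by simp
    rw [this, MulEquiv.orderOf_eq, hy]
  have hu := huniq _ hg _ hh hog hoh
  refine ⟨h * g⁻¹, ?_⟩
  calc h * g⁻¹ * x * (h * g⁻¹)⁻¹ = h * (g⁻¹ * x * g) * h⁻¹ := by group
    _ = h * (h⁻¹ * y * h) * h⁻¹ := by rw [hu]
    _ = y := by group

end Cfsg.Agent.S0107
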