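import Cfsg.Statements.S0640
import Mathlib
import Cfsg.Agent.Lib.AutRankTwo

set_option autoImplicit false
open Cfsg

namespace Cfsg.Agent.S0640

variable {R : Type*} [Group R] [Finite R]

/-- Restriction of an automorphism to an invariant subgroup of a finite group. -/
noncomputable def restrictAut (α : MulAut R) (H : Subgroup R) (hH : ∀ x ∈ H, α x ∈ H) : MulAut H :=
  MulEquiv.ofBijective
    (MonoidHom.mk' (fun x : H => (⟨α x, hH x x.2⟩ : H)) (by
      intro a b
      apply Subtype.ext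
      simp))
    (Finite.injective_iff_bijective.mp (by
      intro a b hab
      have h : α a = α b := congrArg Subtype.val hab
      exact Subtype.ext (α.injective h)))

lemma restrictAut_apply (α : MulAut R) (H : Subgroup R) (hH : ∀ x ∈ H, α x ∈ H) (x : H) :
    ((restrictAut α H hH x : H) : R) = α x := rfl

lemma restrictAut_pow (α : MulAut R) (H : Subgroup R) (hH : ∀ x ∈ H, α x ∈ H) (n : ℕ) (x : H) :
    (((restrictAut α H hH) ^ n) x : R) = (α ^ n) x := by
  induction n with
  | zero => simp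
  | succ n ih =>
    rw [pow_succ', pow_succ', MulAut.mul_apply, MulAut.mul_apply, restrictAut_apply, ih]

theorem main {p q : ℕ} [Fact p.Prime] (hp : p ≠ 2) (hR : IsPGroup p R) (hrk : Cfsg.PRankLE p 2 R)
    (hq : q.Prime) (hqp : q ≠ p) (hdvd : q ∣ Nat.card (MulAut R)) : q ∣ p ^ 2 - 1 := by
  classical
  have : Fact q.Prime := ⟨hq⟩
  obtain ⟨α, hα⟩ := exists_prime_orderOf_dvd_card' (G := MulAut R) q hdvd
  have hαq : α ^ q = 1 := by rw [← hα]; exact pow_orderOf_eq_one α
  have hα1 : α ≠ 1 := by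
    rintro rfl
    rw [orderOf_one] at hα
    exact hq.one_lt.ne hα
  let 𝒮 : Set (Subgroup R) := {H | (∀ x ∈ H, α x ∈ H) ∧ ∃ x ∈ H, α x ≠ x}
  have htop : (⊤ : Subgroup R) ∈ 𝒮 := by
    refine ⟨fun x _ => Subgroup.mem_top _, ?_⟩
    by_contra h
    push Not at h
    exact hα1 (MulEquiv.ext fun x => h x (Subgroup.mem_top x))
  obtain ⟨D, hD⟩ := (Set.toFinite 𝒮).exists_minimal ⟨⊤, htop⟩
  obtain ⟨hDinv, x₀, hx₀D, hx₀⟩ := hD.prop
  refine Cfsg.Agent.Lib.AutRankTwo.critical_main (D := D) (hR.to_subgroup D) hp hq hqp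
    (restrictAut α D hDinv) ?_ ?_ ?_ ?_
  · apply MulEquiv.ext
    intro x
    apply Subtype.ext
    rw [restrictAut_pow, hαq]
    rfl
  · intro h
    apply hx₀
    have := congrArg (fun β : MulAut D => ((β ⟨x₀, hx₀D⟩ : D) : R)) h
    exact this
  · intro S hS hinv x hx
    apply Subtype.ext
    rw [restrictAut_apply]
    by_contra hne
    have hS' : S.map D.subtype ∈ 𝒮 := by
      refine ⟨?_, x, ⟨x, hx, rfl⟩, hne⟩
      rintro _ ⟨y, hy, rfl⟩
      exact ⟨_, hinv y hy, rfl⟩
    have hle : S.map D.subtype ≤ D := by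
      rintro _ ⟨y, _, rfl⟩
      exact y.2
    have hge := hD.le_of_le hS' hle
    apply hS
    rw [eq_top_iff]
    intro y _
    obtain ⟨z, hz, hzy⟩ := hge y.2
    have : z = y := Subtype.ext hzy
    rwa [← this]
  · intro A hA hexp
    have h1 := hrk (A.map D.subtype) ⟨⟨by
      rintro ⟨_, a, ha, rfl⟩ ⟨_, b, hb, rfl⟩
      apply Subtype.ext
      have := hA.is_comm.comm ⟨a, ha⟩ ⟨b, hb⟩
      exact congrArg (fun c : A => ((c : D) : R)) this⟩⟩ (by
      rintro _ ⟨a, ha, rfl⟩
      have := hexp a ha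
      exact congrArg D.subtype this)
    have h2 : Nat.card (A.map D.subtype) = Nat.card A :=
      Nat.card_congr (A.equivMapOfInjective D.subtype D.subtype_injective).symm.toEquiv
    rwa [h2] at h1

lemma arith {p q : ℕ} (hpp : p.Prime) (hp : p ≠ 2) (hq : q.Prime) (h : q ∣ p ^ 2 - 1) : q < p := by
  have hp3 : 3 ≤ p := by
    have := hpp.two_le
    omega
  have hodd : Odd p := hpp.odd_of_ne_two hp
  obtain ⟨k, rfl⟩ := hodd
  have hk : 1 ≤ k := by omega
  have h5 : (2 * k + 1) ^ 2 - 1 = 2 * k * (2 * (k + 1)) := by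
    have : (2 * k + 1) ^ 2 = 2 * k * (2 * (k + 1)) + 1 := by ring
    rw [this, Nat.add_sub_cancel]
  rw [h5] at h
  rcases (Nat.Prime.dvd_mul hq).mp h with h1 | h1
  · have := Nat.le_of_dvd (by omega) h1
    omega
  · rcases (Nat.Prime.dvd_mul hq).mp h1 with h2 | h2
    · have := Nat.le_of_dvd (by omega) h2
      omega
    · have := Nat.le_of_dvd (by omega) h2
      omega


/-- For odd p, a prime q ≠ p dividing the order of the automorphism group of a p-group of rank at most 2 divides p² - 1 and is less than p. -/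
theorem result {R : Type*} [Group R] [Finite R] {p : ℕ} [Fact p.Prime] (hp : p ≠ 2) (hR : IsPGroup p R) (hrk : Cfsg.PRankLE p 2 R) (q : ℕ) (hq : q.Prime) (hqp : q ≠ p) (hdvd : q ∣ Nat.card (MulAut R)) : q ∣ p ^ 2 - 1 ∧ q < p := by
  have h := main hp hR hrk hq hqp hdvd
  exact ⟨h, arith Fact.out hp hq h⟩

end Cfsg.Agent.S0640
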