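import Mathlib
import Cfsg.Statements.S3917

set_option autoImplicit false
open Cfsg

namespace Cfsg.Agent.S3917

/-- A finite abelian group whose `p`-torsion has at most `p` elements for each prime `p` is cyclic. -/
theorem isCyclic_of_torsion_le {G : Type*} [CommGroup G] [Finite G]
    (h : ∀ p : ℕ, p.Prime → Nat.card (powMonoidHom p : G →* G).ker ≤ p) : IsCyclic G := by
  classical
  haveI := Fintype.ofFinite G
  have key : ∀ n : ℕ, 0 < n → Nat.card (powMonoidHom n : G →* G).ker ≤ n := by
    intro n hn
    induction n using Nat.recOnMul with
    | zero => omega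
    | one =>
      have : (powMonoidHom 1 : G →* G).ker = ⊥ := by
        ext x
        simp [MonoidHom.mem_ker]
      rw [this]
      simp
    | prime p hp => exact h p hp
    | mul a b ha hb =>
      have ha0 : 0 < a := Nat.pos_of_ne_zero (by rintro rfl; simp at hn)
      have hb0 : 0 < b := Nat.pos_of_ne_zero (by rintro rfl; simp at hn)
      have hia := ha ha0
      have hib := hb hb0
      -- map `x ↦ x ^ b` from the `a*b` torsion to the `a` torsion, with kernel the `b` torsion
      let K := (powMonoidHom (a * b) : G →* G).ker
      let f : K →* (powMonoidHom a : G →* G).ker :=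
        { toFun := fun x => ⟨(x : G) ^ b, by
            have := x.2
            simp only [MonoidHom.mem_ker, powMonoidHom_apply] at this ⊢
            rw [← pow_mul, mul_comm]
            exact this⟩
          map_one' := by
            apply Subtype.ext
            simp
          map_mul' := by
            intro x y
            apply Subtype.ext
            simp [mul_pow] }
      have hker : Nat.card f.ker ≤ b := by
        refine le_trans ?_ hib
        refine Nat.card_le_card_of_injective
          (fun x : f.ker => (⟨(x.1 : G), ?_⟩ : (powMonoidHom b : G →* G).ker)) ?_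
        · have := x.2
          rw [MonoidHom.mem_ker] at this
          have h2 := congrArg Subtype.val this
          simpa [MonoidHom.mem_ker, f] using h2
        · intro x y hxy
          apply Subtype.ext
          apply Subtype.ext
          have := congrArg Subtype.val hxy
          exact this
      have hcard : Nat.card K = Nat.card f.ker * Nat.card f.range := by
        rw [← f.ker.card_mul_index, Subgroup.index_ker]
      have hrange : Nat.card f.range ≤ a := le_trans (Subgroup.card_le_card_group _) hia
      calc Nat.card K = Nat.card f.ker * Nat.card f.range := hcard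
        _ ≤ b * a := Nat.mul_le_mul hker hrange
        _ = a * b := mul_comm _ _
  apply isCyclic_of_card_pow_eq_one_le
  intro n hn
  refine le_trans (le_of_eq ?_) (key n hn)
  rw [← Fintype.card_coe, ← Nat.card_eq_fintype_card]
  refine Nat.card_congr ⟨fun x => ⟨x.1, ?_⟩, fun x => ⟨x.1, ?_⟩, fun _ => rfl, fun _ => rfl⟩
  · simpa [MonoidHom.mem_ker] using (Finset.mem_filter.mp x.2).2
  · exact Finset.mem_filter.mpr ⟨Finset.mem_univ _, by have h := x.2; rw [MonoidHom.mem_ker] at h; simpa using h⟩

theorem not_cyclic_of_exponent {G : Type*} [Group G] [Finite G] (H : Subgroup G) {p : ℕ} (hp : 0 < p)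
    (hexp : ∀ x ∈ H, x ^ p = 1) (hcard : p < Nat.card H) : ¬ IsCyclic H := by
  intro hc
  obtain ⟨g, hg⟩ := hc.exists_generator
  have h1 : orderOf g = Nat.card H := orderOf_eq_card_of_forall_mem_zpowers hg
  have h2 : orderOf g ∣ p := by
    apply orderOf_dvd_of_pow_eq_one
    apply Subtype.ext
    simpa using hexp g g.2
  have := Nat.le_of_dvd hp h2
  omega

/-- Say that a group has self-centralizing non-cyclic subgroups when every non-cyclic subgroup H satisfies C_G(H) ≤ H. A finite abelian group with self-centralizing non-cyclic subgroups is cyclic or elementary abelian of order p² for a prime p. -/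
theorem result {G : Type*} [CommGroup G] [Finite G] (hX : (∀ H : Subgroup G, ¬ IsCyclic ↥H → Subgroup.centralizer (H : Set G) ≤ H)) :
    IsCyclic G ∨ ∃ p : ℕ, p.Prime ∧ Nat.card G = p ^ 2 ∧ Monoid.exponent G = p := by
  classical
  have htop : ∀ H : Subgroup G, ¬ IsCyclic ↥H → H = ⊤ := by
    intro H hH
    have := hX H hH
    rw [eq_top_iff]
    intro x _
    apply this
    rw [Subgroup.mem_centralizer_iff]
    intro y _
    exact mul_comm _ _
  by_cases hc : IsCyclic G
  · exact Or.inl hc
  right
  have hex : ∃ p : ℕ, p.Prime ∧ p < Nat.card (powMonoidHom p : G →* G).ker := by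
    by_contra hno
    push Not at hno
    exact hc (isCyclic_of_torsion_le hno)
  obtain ⟨p, hp, hlt⟩ := hex
  haveI : Fact p.Prime := ⟨hp⟩
  have hker : (powMonoidHom p : G →* G).ker = ⊤ := by
    apply htop
    apply not_cyclic_of_exponent _ hp.pos _ hlt
    intro x hx
    simpa [MonoidHom.mem_ker] using hx
  have hexp : ∀ x : G, x ^ p = 1 := by
    intro x
    have : x ∈ (powMonoidHom p : G →* G).ker := by rw [hker]; trivial
    simpa [MonoidHom.mem_ker] using this
  have hcardG : p < Nat.card G := lt_of_lt_of_le hlt (Subgroup.card_le_card_group _)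
  have hpg : IsPGroup p G := fun x => ⟨1, by simpa using hexp x⟩
  obtain ⟨m, hm⟩ := IsPGroup.iff_card.mp hpg
  have hm2 : 2 ≤ m := by
    by_contra hlt2
    have : m = 0 ∨ m = 1 := by omega
    rcases this with rfl | rfl
    · rw [pow_zero] at hm; have := hp.two_le; omega
    · rw [pow_one] at hm; omega
  have hm' : m = 2 := by
    -- a subgroup of order `p^2` is not cyclic, so it is everything
    have hdvd : p ^ 2 ∣ Nat.card G := by
      rw [hm]
      exact pow_dvd_pow p hm2
    obtain ⟨K, hK⟩ := Sylow.exists_subgroup_card_pow_prime p hdvd
    have hKtop : K = ⊤ := by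
      apply htop
      apply not_cyclic_of_exponent K hp.pos (fun x _ => hexp x)
      rw [hK]
      nlinarith [hp.two_le]
    rw [hKtop] at hK
    have h2 : Nat.card G = p ^ 2 := by simpa using hK
    rw [hm] at h2
    exact Nat.pow_right_injective hp.two_le h2
  refine ⟨p, hp, by rw [hm, hm'], ?_⟩
  have hd : Monoid.exponent G ∣ p := Monoid.exponent_dvd_of_forall_pow_eq_one hexp
  rcases (Nat.dvd_prime hp).mp hd with h1 | h1
  · exfalso
    haveI := Monoid.exp_eq_one_iff.mp h1
    have h3 : Nat.card G = 1 := Nat.card_of_subsingleton (1 : G)
    have := hp.two_le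
    omega
  · exact h1

end Cfsg.Agent.S3917
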