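import Mathlib
import Cfsg.Statements.S1526
import Cfsg.Agent.Lib.FHTMain

set_option autoImplicit false
open Cfsg

namespace Cfsg.Agent.S1526

open Cfsg.Agent.Lib.FrobIrr9 Cfsg.Agent.Lib.TIFrob9

/-- Let G be a finite group of odd order and (L i, H i), i in a finite index type with at least two elements, pairs of subgroups with H i a nontrivial proper normal subgroup of L i such that every non-identity element of H i has its centraliser within L i contained in H i (L i is a Frobenius group with kernel H i), the orders of the H i pairwise coprime, and the underlying set of each H i a TI-subset of G with normaliser L i. If every non-identity element of G is conjugate to an element of some H i, we reach a contradiction. -/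
theorem result {G : Type*} [Group G] [Finite G] (hodd : Odd (Nat.card G)) {ι : Type*} [Fintype ι] (hι : 2 ≤ Fintype.card ι) (L H : ι → Subgroup G) (hHL : ∀ i, H i < L i) (hH1 : ∀ i, H i ≠ ⊥) (hHn : ∀ i, ∀ x ∈ L i, ∀ h ∈ H i, x * h * x⁻¹ ∈ H i) (hfrob : ∀ i, ∀ h ∈ H i, h ≠ 1 → L i ⊓ Subgroup.centralizer ({h} : Set G) ≤ H i) (hcop : ∀ i j, i ≠ j → Nat.Coprime (Nat.card (H i)) (Nat.card (H j))) (hTI : ∀ i, Cfsg.IsTISubset (H i : Set G) ∧ Subgroup.normalizer (H i : Set G) = L i) (hcover : ∀ g : G, g ≠ 1 → ∃ i, ∃ x : G, x * g * x⁻¹ ∈ H i) : False := by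
  classical
  let _ : Fintype G := Fintype.ofFinite G
  have hL : ∀ i, L i = Subgroup.normalizer (H i : Set G) := fun i => (hTI i).2.symm
  let N : ι → Subgroup G := fun i => Subgroup.normalizer (H i : Set G)
  let H' : ∀ i, Subgroup (N i) := fun i => (H i).subgroupOf (N i)
  have inst : ∀ i, (H' i).Normal := fun i => Subgroup.normal_in_normalizer
  let _ : ∀ i, Fintype (N i) := fun i => Fintype.ofFinite _
  have hlt : ∀ i, H i < Subgroup.normalizer (H i : Set G) := fun i => by
    rw [← hL i]; exact hHL i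
  have hC₀ : ∀ i, ∀ k ∈ H i, k ≠ 1 → Subgroup.centralizer ({k} : Set G) ≤ H i := by
    intro i k hk hk1 g hg
    have hg' := Subgroup.mem_centralizer_singleton_iff.mp hg
    have hgN : g ∈ L i := by
      rw [hL i]
      by_contra hgn
      apply hk1
      refine (hTI i).1 g hgn k hk ?_
      have : g * k * g⁻¹ = k := by rw [hg']; group
      rw [this]
      exact hk
    exact hfrob i k hk hk1 ⟨hgN, hg⟩
  have hoddN : ∀ i, Odd (Nat.card (N i)) := fun i =>
    Odd.of_dvd_nat hodd (Subgroup.card_subgroup_dvd_card (N i))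
  have hcoh : ∀ i, Cfsg.IsCoherent (SS (H' i)) {1}ᶜ (Cfsg.indFun (N i)) := fun i =>
    Cfsg.Agent.Lib.SibKernel9.kernel_odd (hH1 i) (hTI i).1 (hlt i) (hC₀ i) (hoddN i)
  have hC : ∀ i, ∀ h ∈ H' i, h ≠ 1 → Subgroup.centralizer ({h} : Set (N i)) ≤ H' i := fun i =>
    Cfsg.Agent.Lib.SibMain9.frob_sub (hC₀ i)
  have hcard : ∀ i, Nat.card (H' i) = Nat.card (H i) := fun i => Cfsg.Agent.Lib.SibKernel9.card_HK
  have hfus : ∀ i, Fus (H' i) := by
    intro i
    have hcop' : (Nat.card (H i)).Coprime (H' i).index := by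
      obtain ⟨k, hk⟩ := Cfsg.Agent.Lib.FrobCohMain9.index_sub_modEq (hC i) (⊥ : Subgroup (H' i))
      rw [Subgroup.index_bot, hcard i] at hk
      rw [hk]
      simp
    exact fus_of_TI (hTI i).1 rfl hcop'
  have hH1' : ∀ i, H' i ≠ ⊥ := by
    intro i h
    apply hH1 i
    rw [eq_bot_iff]
    intro x hx
    have h2 : (⟨x, Subgroup.le_normalizer hx⟩ : N i) ∈ H' i := Subgroup.mem_subgroupOf.mpr hx
    rw [h, Subgroup.mem_bot] at h2
    rw [Subgroup.mem_bot]
    exact congrArg Subtype.val h2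
  have hH2' : ∀ i, H' i ≠ ⊤ := by
    intro i h
    apply (hlt i).not_ge
    intro x hx
    have h2 : (⟨x, hx⟩ : N i) ∈ H' i := by rw [h]; exact Subgroup.mem_top _
    exact Subgroup.mem_subgroupOf.mp h2
  have hcop' : ∀ i j, i ≠ j → Nat.Coprime (Nat.card (H' i)) (Nat.card (H' j)) := by
    intro i j hij
    rw [hcard, hcard]
    exact hcop i j hij
  have hcover' : ∀ g : G, g ≠ 1 → ∃ i, ∃ x : G, ∃ u : N i, u ∈ H' i ∧ x * g * x⁻¹ = u := by
    intro g hg
    obtain ⟨i, x, hx⟩ := hcover g hg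
    exact ⟨i, x, ⟨x * g * x⁻¹, Subgroup.le_normalizer hx⟩, Subgroup.mem_subgroupOf.mpr hx, rfl⟩
  have hne : Nonempty ι := by
    rw [← Fintype.card_pos_iff]
    omega
  have hdec : DecidableEq ι := Classical.decEq ι
  exact Cfsg.Agent.Lib.FHTMain.main (N := N) (H := H') hodd hC hH1' hH2' hfus hcoh hcop' hcover'

end Cfsg.Agent.S1526
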