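import Mathlib
import Cfsg.Statements.S2202
import Cfsg.Agent.Lib.CAInvMain
import Cfsg.Agent.Lib.ZStar
-- import your own Cfsg.Agent.* helpers here

set_option autoImplicit false
open Cfsg

namespace Cfsg.Agent.S2202

/-- Finite groups in which the centralizer of every involution is abelian. Let G be a finite group of even order in which the centralizer of every element of order 2 is abelian. Then the Sylow 2-subgroups of G are cyclic, or a Sylow 2-subgroup of G is normal, or G is isomorphic to the direct product of SL₂(F) for a finite field F of characteristic two and an abelian group of odd order. -/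
theorem result {G : Type*} [Group G] [Finite G] (heven : Even (Nat.card G)) (h : ∀ t : G, orderOf t = 2 → IsMulCommutative ↥(Subgroup.centralizer ({t} : Set G))) :
    (∀ P : Sylow 2 G, IsCyclic ↥P) ∨ (∀ P : Sylow 2 G, (P : Subgroup G).Normal) ∨
    (∃ (F : Type) (_ : Field F) (_ : Fintype F) (A : Type) (_ : CommGroup A) (_ : Finite A), CharP F 2 ∧ Odd (Nat.card A) ∧ Nonempty (G ≃* Matrix.SpecialLinearGroup (Fin 2) F × A)) := by
  classical
  by_cases h1 : ∀ P : Sylow 2 G, IsCyclic ↥P
  · exact Or.inl h1
  by_cases h2 : ∀ P : Sylow 2 G, (P : Subgroup G).Normal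
  · exact Or.inr (Or.inl h2)
  right; right
  push Not at h1 h2
  obtain ⟨P, hP⟩ := h1
  obtain ⟨Q, hQ⟩ := h2
  have hC : ∀ t : G, orderOf t = 2 → ∀ a b : G, a * t = t * a → b * t = t * b → a * b = b * a := by
    intro t ht a b ha hb
    have hmem : ∀ c : G, c * t = t * c → c ∈ Subgroup.centralizer ({t} : Set G) := by
      intro c hc
      rw [Subgroup.mem_centralizer_iff]
      rintro _ rfl
      exact hc.symm
    have := (h t ht).is_comm.comm ⟨a, hmem a ha⟩ ⟨b, hmem b hb⟩
    exact congrArg Subtype.val this
  -- the Sylow subgroup `P` is commutative with a central involution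
  have hPc : IsPGroup 2 (P : Subgroup G) := P.2
  have hPnt : Nontrivial (P : Subgroup G) := by
    by_contra hnt
    rw [not_nontrivial_iff_subsingleton] at hnt
    exact hP inferInstance
  have hz : ∃ z ∈ (P : Subgroup G), orderOf z = 2 ∧ ∀ a ∈ (P : Subgroup G), a * z = z * a := by
    haveI := hPc.center_nontrivial
    obtain ⟨k, hk⟩ := IsPGroup.iff_card.mp (hPc.to_subgroup (Subgroup.center (P : Subgroup G)))
    have hk0 : k ≠ 0 := by
      rintro rfl
      have h1 : 1 < Nat.card (Subgroup.center (P : Subgroup G)) := Finite.one_lt_card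
      omega
    have h2 : 2 ∣ Nat.card (Subgroup.center (P : Subgroup G)) := by
      rw [hk]; exact dvd_pow_self 2 hk0
    obtain ⟨z, hz⟩ := exists_prime_orderOf_dvd_card' 2 h2
    refine ⟨((z : (P : Subgroup G)) : G), (z : (P : Subgroup G)).2, ?_, ?_⟩
    · have e1 : orderOf ((z : (P : Subgroup G)) : G) = orderOf (z : (P : Subgroup G)) :=
        Subgroup.orderOf_coe _
      have e2 : orderOf (z : (P : Subgroup G)) = orderOf z := Subgroup.orderOf_coe _
      rw [e1, e2, hz]
    · intro a ha
      have := (Subgroup.mem_center_iff.mp z.2) ⟨a, ha⟩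
      exact congrArg Subtype.val this
  obtain ⟨z, hzP, hz2, hzc⟩ := hz
  have hPcomm : ∀ a ∈ (P : Subgroup G), ∀ b ∈ (P : Subgroup G), a * b = b * a := fun a ha b hb =>
    hC z hz2 a b (hzc a ha) (hzc b hb)
  -- two involutions in `P`
  have hex1 : ∃ s t : G, orderOf s = 2 ∧ orderOf t = 2 ∧ s ≠ t ∧ s * t = t * s := by
    by_contra hno
    push Not at hno
    have huniq : ∀ x : (P : Subgroup G), orderOf x = 2 → x = ⟨z, hzP⟩ := by
      intro x hx
      apply Subtype.ext
      by_contra hne
      have hx' : orderOf (x : G) = 2 := by rw [Subgroup.orderOf_coe]; exact hx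
      exact hno x z hx' hz2 hne (hPcomm _ x.2 _ hzP)
    rcases Cfsg.Agent.Lib.ZStar.cyclic_or_quat hPc huniq with hc | ⟨n, ⟨e⟩⟩
    · exact hP hc
    · rcases n with _ | n
      · have hc : IsCyclic (QuaternionGroup 1) := QuaternionGroup.quaternionGroup_one_isCyclic
        let e' : QuaternionGroup 1 ≃* (P : Subgroup G) := e.symm
        exact hP (isCyclic_of_surjective e' e'.surjective)
      · haveI : NeZero (2 ^ (n + 1)) := ⟨by positivity⟩
        have hcm : ∀ a b : QuaternionGroup (2 ^ (n + 1)), a * b = b * a := by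
          intro a b
          have h3 := hPcomm _ (e.symm a).2 _ (e.symm b).2
          apply e.symm.injective
          rw [map_mul, map_mul]
          exact Subtype.ext h3
        have h4 := hcm (QuaternionGroup.xa 0) (QuaternionGroup.a 1)
        rw [QuaternionGroup.xa_mul_a, QuaternionGroup.a_mul_xa, QuaternionGroup.xa.injEq] at h4
        have h5 : ((2 : ℕ) : ZMod (2 * 2 ^ (n + 1))) = 0 := by
          have : (2 : ZMod (2 * 2 ^ (n + 1))) = 0 := by linear_combination h4
          exact_mod_cast this
        rw [ZMod.natCast_eq_zero_iff] at h5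
        have h6 : 2 * 2 ^ (n + 1) ≤ 2 := Nat.le_of_dvd (by norm_num) h5
        have h7 : 2 ≤ 2 ^ (n + 1) := by
          rw [pow_succ]
          have : 1 ≤ 2 ^ n := Nat.one_le_two_pow
          omega
        omega
  -- two non commuting involutions
  have hex2 : ∃ s t : G, orderOf s = 2 ∧ orderOf t = 2 ∧ s * t ≠ t * s := by
    by_contra hno
    push Not at hno
    -- all involutions commute, so `Q` is normal
    apply hQ
    have hall : ∀ a ∈ (Q : Subgroup G), ∀ b ∈ (Q : Subgroup G), a * b = b * a := by
      intro a ha b hb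
      obtain ⟨g, rfl⟩ := MulAction.exists_smul_eq G P Q
      rw [Cfsg.Agent.Lib.CAInv.mem_smul_iff] at ha hb
      have h3 := hPcomm _ ha _ hb
      calc a * b = g * ((g⁻¹ * a * g) * (g⁻¹ * b * g)) * g⁻¹ := by group
        _ = g * ((g⁻¹ * b * g) * (g⁻¹ * a * g)) * g⁻¹ := by rw [h3]
        _ = b * a := by group
    -- the elements of even order commute with the involutions of `Q`, hence the normalizer is everything
    have htop : Subgroup.normalizer ((Q : Subgroup G) : Set G) = ⊤ := by
      rw [eq_top_iff]
      intro g _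
      -- `g • Q` and `Q` share an involution
      obtain ⟨y, hyQ, hy2⟩ : ∃ y ∈ (Q : Subgroup G), orderOf y = 2 := by
        obtain ⟨g', rfl⟩ := MulAction.exists_smul_eq G P Q
        exact ⟨_, Cfsg.Agent.Lib.CAInv.conj_mem_smul hzP, Cfsg.Agent.Lib.CAInv.conj_order g' hz2⟩
      have hsub : ∀ R : Sylow 2 G, (R : Subgroup G) ≤ Subgroup.centralizer ({y} : Set G) := by
        intro R a ha
        rw [Subgroup.mem_centralizer_iff]
        intro x hx
        have hxy : x = y := hx
        rw [hxy]
        -- `a` is a 2-element, every involution commutes with `y`; use the Sylow subgroup `R` commutative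
        have hRc : ∀ a ∈ (R : Subgroup G), ∀ b ∈ (R : Subgroup G), a * b = b * a := by
          intro a ha b hb
          obtain ⟨g, rfl⟩ := MulAction.exists_smul_eq G P R
          rw [Cfsg.Agent.Lib.CAInv.mem_smul_iff] at ha hb
          have h3 := hPcomm _ ha _ hb
          calc a * b = g * ((g⁻¹ * a * g) * (g⁻¹ * b * g)) * g⁻¹ := by group
            _ = g * ((g⁻¹ * b * g) * (g⁻¹ * a * g)) * g⁻¹ := by rw [h3]
            _ = b * a := by group
        obtain ⟨w, hwR, hw2⟩ : ∃ w ∈ (R : Subgroup G), orderOf w = 2 := by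
          obtain ⟨g', rfl⟩ := MulAction.exists_smul_eq G P R
          exact ⟨_, Cfsg.Agent.Lib.CAInv.conj_mem_smul hzP, Cfsg.Agent.Lib.CAInv.conj_order g' hz2⟩
        have h3 : w * y = y * w := hno w y hw2 hy2
        exact (hC w hw2 a y (hRc a ha w hwR) h3.symm).symm
      have hQle : (Q : Subgroup G) ≤ (Q : Subgroup G) := le_rfl
      have h4 : ((g • Q : Sylow 2 G) : Subgroup G) ≤ Subgroup.centralizer ({y} : Set G) := hsub _
      have h5 : (Q : Subgroup G) ≤ Subgroup.centralizer ({y} : Set G) := hsub _
      -- every Sylow subgroup centralizes `y`; so it normalizes `Q`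
      have h6 : ((g • Q : Sylow 2 G) : Subgroup G) ≤ Subgroup.normalizer ((Q : Subgroup G) : Set G) := by
        intro a ha
        have h7 : a ∈ Subgroup.centralizer ((Q : Subgroup G) : Set G) := by
          rw [Subgroup.mem_centralizer_iff]
          intro b hb
          have h8 : a * y = y * a := (Subgroup.mem_centralizer_iff.mp (h4 ha) y rfl).symm
          have h9 : b * y = y * b := hall b hb y hyQ
          exact (hC y hy2 a b h8 h9).symm
        exact Cfsg.Agent.Lib.CAInv.Cn_le_Nm Q h7
      have h10 := Cfsg.Agent.Lib.CAInv.le_of_le_Nm (g • Q).2 h6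
      have h11 : (g • Q : Sylow 2 G) = Q := Sylow.ext ((g • Q).is_maximal' Q.2 h10).symm
      exact Cfsg.Agent.Lib.CITElem.mem_Nm_iff.mpr h11
    exact Subgroup.normalizer_eq_top_iff.mp htop
  have hyp : Cfsg.Agent.Lib.CAInv.Hyp G := ⟨hC, hex1, hex2⟩
  obtain ⟨F, hF, hFt, Z, hchar, hodd, hcomm, ⟨e⟩⟩ := hyp.main
  letI : CommGroup Z :=
    { (inferInstance : Group Z) with
      mul_comm := fun a b => Subtype.ext (hcomm a a.2 b b.2) }
  refine ⟨F, hF, hFt, Shrink.{0} Z, inferInstance, inferInstance, hchar, ?_,
    ⟨e.trans ((MulEquiv.refl _).prodCongr (Shrink.mulEquiv : Shrink.{0} Z ≃* Z).symm)⟩⟩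
  have hcard : Nat.card (Shrink.{0} Z) = Nat.card Z := Nat.card_congr (Shrink.mulEquiv : Shrink.{0} Z ≃* Z).toEquiv
  rw [hcard]
  exact hodd

end Cfsg.Agent.S2202
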