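import Mathlib
import Cfsg.Statements.S4073
import Cfsg.Agent.Lib.SelfNormD
import Cfsg.Agent.Lib.ClassicalSmall
import Cfsg.Agent.S0183
import Cfsg.Agent.S2202

set_option autoImplicit false
set_option linter.unusedSectionVars false
set_option linter.unusedVariables false
open Cfsg

namespace Cfsg.Agent.S4073

open Cfsg.Agent.Lib.SelfNormA Cfsg.Agent.Lib.SelfNormB Cfsg.Agent.Lib.SelfNormC
  Cfsg.Agent.Lib.SelfNormD Cfsg.Agent.Lib.FrobNPC

section

variable {F : Type*} [Field F] [CharP F 2]

local notation "SL2" => Matrix.SpecialLinearGroup (Fin 2) F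

/-- `PSL₂(F) ≅ SL₂(F)` in characteristic 2. -/
noncomputable def pslEquivSl :
    Matrix.ProjectiveSpecialLinearGroup (Fin 2) F ≃* SL2 := by
  have h : Subgroup.center SL2 = ⊥ := by
    rw [eq_bot_iff]
    intro A hA
    obtain ⟨r, hr, hrA⟩ := Matrix.SpecialLinearGroup.mem_center_iff.mp hA
    have hr1 : r = 1 := by
      apply sq_one
      simpa using hr
    rw [Subgroup.mem_bot]
    apply Subtype.ext
    rw [← hrA, hr1]
    simp
  exact (QuotientGroup.quotientMulEquivOfEq h).trans QuotientGroup.quotientBot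

/-- Functoriality of `SL₂` in the field. -/
noncomputable def slCongr {K : Type*} [Field K] (φ : F ≃+* K) :
    SL2 ≃* Matrix.SpecialLinearGroup (Fin 2) K :=
  MonoidHom.toMulEquiv (Matrix.SpecialLinearGroup.map (φ : F →+* K))
    (Matrix.SpecialLinearGroup.map (φ.symm : K →+* F))
    (by
      ext g i j
      simp)
    (by
      ext g i j
      simp)

theorem prime_of_pr [Finite F] (hP : Pr SL2) (h4 : 4 ≤ Nat.card F) : (Nat.card F - 1).Prime := by
  classical
  by_contra hnp
  have hcardU : Nat.card Fˣ = Nat.card F - 1 := Nat.card_units F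
  haveI hnt : Nontrivial Fˣ := by
    apply Finite.one_lt_card_iff_nontrivial.mp
    rw [hcardU]
    omega
  have hW : ∃ W : Subgroup Fˣ, W ≠ ⊥ ∧ W ≠ ⊤ := by
    by_contra hno
    push Not at hno
    have : IsSimpleGroup Fˣ := by
      refine ⟨fun N _ => ?_⟩
      by_cases hN : N = ⊥
      · exact Or.inl hN
      · exact Or.inr (hno N hN)
    have hpr := IsSimpleGroup.prime_card (α := Fˣ)
    rw [hcardU] at hpr
    exact hnp hpr
  obtain ⟨W, hW1, hW2⟩ := hW
  obtain ⟨⟨a, haW⟩, ha⟩ := Subgroup.ne_bot_iff_exists_ne_one.mp hW1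
  have ha1 : a ≠ 1 := fun h => ha (Subtype.ext h)
  obtain ⟨ζ, hζ⟩ : ∃ ζ : Fˣ, ζ ∉ W := by
    by_contra hall
    push Not at hall
    apply hW2
    rw [eq_top_iff]
    intro x _
    exact hall x
  let H : Subgroup SL2 :=
    { carrier := {g | g.1 1 0 = 0 ∧ ∃ u ∈ W, (u : F) = g.1 0 0}
      one_mem' := ⟨by simp, 1, W.one_mem, by simp⟩
      mul_mem' := by
        rintro g k ⟨hg, u, hu, hgu⟩ ⟨hk, v, hv, hkv⟩
        refine ⟨?_, u * v, W.mul_mem hu hv, ?_⟩
        · show (g.1 * k.1) 1 0 = 0
          simp [Matrix.mul_apply, Fin.sum_univ_two, hg, hk]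
        · show ((u * v : Fˣ) : F) = (g.1 * k.1) 0 0
          simp [Matrix.mul_apply, Fin.sum_univ_two, hk, hgu, hkv]
      inv_mem' := by
        rintro g ⟨hg, u, hu, hgu⟩
        have hd := det_eq g
        rw [hg, mul_zero, sub_zero, ← hgu] at hd
        refine ⟨?_, u⁻¹, W.inv_mem hu, ?_⟩
        · show (g⁻¹).1 1 0 = 0
          rw [Matrix.SpecialLinearGroup.coe_inv, Matrix.adjugate_fin_two]
          simp [hg]
        · rw [Matrix.SpecialLinearGroup.coe_inv, Matrix.adjugate_fin_two]
          simp only [Matrix.of_apply, Matrix.cons_val', Matrix.cons_val_zero, Matrix.cons_val_fin_one]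
          rw [Units.val_inv_eq_inv_val]
          exact (eq_inv_of_mul_eq_one_right hd).symm }
  let dd : Fˣ → SL2 := fun x => ⟨!![(x : F), 0; 0, ((x⁻¹ : Fˣ) : F)], by
    simp [Matrix.det_fin_two]⟩
  let ee : SL2 := ⟨!![1, 1; 0, 1], by simp [Matrix.det_fin_two]⟩
  have heH : ee ∈ H := ⟨by simp [ee], 1, W.one_mem, by simp [ee]⟩
  have hdH : dd a ∈ H := ⟨by simp [dd], a, haW, by simp [dd]⟩
  have hna : ¬ IsMulCommutative H := by
    intro hc
    have h1 := comm_elim hc hdH heH
    have h2 : (dd a * ee).1 0 1 = (ee * dd a).1 0 1 := congrArg (fun z : SL2 => z.1 0 1) h1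
    have h3 : (dd a * ee).1 0 1 = (a : F) := by
      show ((dd a).1 * ee.1) 0 1 = _
      simp [dd, ee, Matrix.mul_apply, Fin.sum_univ_two]
    have h4 : (ee * dd a).1 0 1 = ((a⁻¹ : Fˣ) : F) := by
      show (ee.1 * (dd a).1) 0 1 = _
      simp [dd, ee, Matrix.mul_apply, Fin.sum_univ_two]
    rw [h3, h4] at h2
    have h5 : ((a : F)) ^ 2 = 1 := by
      have h6 : (a : F) * ((a⁻¹ : Fˣ) : F) = 1 := by simp
      rw [pow_two]
      nth_rewrite 2 [h2]
      exact h6
    apply ha1
    apply Units.ext
    exact sq_one h5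
  have hN : dd ζ ∈ Subgroup.normalizer (H : Set SL2) := by
    apply mem_norm_of_finite
    rintro g ⟨hg, u, hu, hgu⟩
    have hdinv : ((dd ζ)⁻¹).1 = !![((ζ⁻¹ : Fˣ) : F), 0; 0, (ζ : F)] := by
      rw [Matrix.SpecialLinearGroup.coe_inv, Matrix.adjugate_fin_two]
      simp [dd]
    refine ⟨?_, u, hu, ?_⟩
    · show ((dd ζ).1 * g.1 * ((dd ζ)⁻¹).1) 1 0 = 0
      rw [hdinv, Matrix.mul_apply, Fin.sum_univ_two, Matrix.mul_apply, Matrix.mul_apply,
        Fin.sum_univ_two, Fin.sum_univ_two]
      simp [dd, hg]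
    · show (u : F) = ((dd ζ).1 * g.1 * ((dd ζ)⁻¹).1) 0 0
      rw [hdinv, hgu, Matrix.mul_apply, Fin.sum_univ_two, Matrix.mul_apply, Matrix.mul_apply,
        Fin.sum_univ_two, Fin.sum_univ_two]
      simp [dd]
      have hz := ζ.ne_zero
      field_simp
  obtain ⟨_, u, hu, hue⟩ := hP.mem hna hN
  apply hζ
  have : u = ζ := by
    apply Units.ext
    rw [hue]
    simp [dd]
  rwa [← this]

end

theorem false_of_two_group {G : Type*} [Group G] [Finite G] [IsSimpleGroup G]
    (hna : ¬ IsMulCommutative G) (P : Sylow 2 G) (hP : (P : Subgroup G) = ⊤) : False := by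
  haveI : Fact (Nat.Prime 2) := ⟨Nat.prime_two⟩
  have hGp : IsPGroup 2 G := by
    intro g
    obtain ⟨k, hk⟩ := P.isPGroup' ⟨g, by rw [hP]; trivial⟩
    exact ⟨k, by simpa using congrArg Subtype.val hk⟩
  have hcen := hGp.center_nontrivial
  rcases (inferInstance : (Subgroup.center G).Normal).eq_bot_or_eq_top with h | h
  · rw [h] at hcen
    obtain ⟨z, hz⟩ := exists_ne (1 : (⊥ : Subgroup G))
    exact hz (Subsingleton.elim _ _)
  · apply hna
    refine ⟨⟨fun a b => ?_⟩⟩
    have : a ∈ Subgroup.center G := by rw [h]; trivial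
    exact (Subgroup.mem_center_iff.mp this b).symm

/-- Cyclic Sylow 2-subgroups give a normal 2-complement. -/
theorem frobHyp_of_cyclic {G : Type*} [Group G] [Finite G] (P : Sylow 2 G)
    (hP : IsCyclic (P : Subgroup G)) : haveI : Fact (Nat.Prime 2) := ⟨Nat.prime_two⟩
    FrobHyp 2 G := by
  classical
  haveI : Fact (Nat.Prime 2) := ⟨Nat.prime_two⟩
  apply frobHyp_of_sylow P
  intro Q hQP g hg hco
  haveI hQcyc : IsCyclic Q := by
    let ι : Q →* (P : Subgroup G) := Subgroup.inclusion hQP
    exact isCyclic_of_injective ι (Subgroup.inclusion_injective hQP)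
  have hQp : IsPGroup 2 Q := P.isPGroup'.to_le hQP
  obtain ⟨k, hk⟩ := IsPGroup.iff_card.mp hQp
  let α := Subgroup.normalizerMonoidHom Q ⟨g, hg⟩
  have hα1 : α ^ orderOf g = 1 := by
    rw [← map_pow]
    have : (⟨g, hg⟩ : Subgroup.normalizer (Q : Set G)) ^ orderOf g = 1 := by
      apply Subtype.ext
      simpa using pow_orderOf_eq_one g
    rw [this, map_one]
  have hcard : Nat.card (MulAut Q) = Nat.totient (2 ^ k) := by
    rw [IsCyclic.card_mulAut, hk]
  have hα2 : ∃ j : ℕ, Nat.card (MulAut Q) = 2 ^ j := by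
    rw [hcard]
    rcases k with _ | k
    · exact ⟨0, by simp⟩
    · exact ⟨k, by rw [Nat.totient_prime_pow Nat.prime_two (by omega)]; simp⟩
  obtain ⟨j, hj⟩ := hα2
  have hα3 : orderOf α ∣ 2 ^ j := by
    rw [← hj]
    exact orderOf_dvd_natCard α
  have hα4 : orderOf α ∣ orderOf g := orderOf_dvd_of_pow_eq_one hα1
  have hα5 : orderOf α = 1 := Nat.Coprime.eq_one_of_dvd ((hco.pow_right j).coprime_dvd_left hα4) hα3
  have hα6 : α = 1 := orderOf_eq_one_iff.mp hα5
  have hker : (⟨g, hg⟩ : Subgroup.normalizer (Q : Set G)) ∈ (Subgroup.normalizerMonoidHom Q).ker := hα6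
  rw [Subgroup.normalizerMonoidHom_ker] at hker
  exact hker

theorem forward {G : Type*} [Group G] [Finite G] [IsSimpleGroup G]
    (hna : ¬ IsMulCommutative G) (hP : Pr G) :
    ∃ n : ℕ, 2 ≤ n ∧ (2 ^ n - 1).Prime ∧
      Nonempty (G ≃* Matrix.ProjectiveSpecialLinearGroup (Fin 2) (GaloisField 2 n)) := by
  classical
  haveI : Fact (Nat.Prime 2) := ⟨Nat.prime_two⟩
  rcases Nat.even_or_odd (Nat.card G) with heven | hodd
  · have hdiv : 2 ∣ Nat.card G := even_iff_two_dvd.mp heven
    rcases Cfsg.Agent.S2202.result heven (fun t ht => centralizer_comm hna hP (by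
        rintro rfl
        rw [orderOf_one] at ht
        omega)) with hcyc | hnorm | hsl
    · exfalso
      obtain ⟨P⟩ : Nonempty (Sylow 2 G) := inferInstance
      obtain ⟨N, hNn, hNc⟩ := exists_complement_of_sylow P (frobHyp_of_cyclic P (hcyc P))
      rcases hNn.eq_bot_or_eq_top with hbot | htop
      · have hSt : (P : Subgroup G) = ⊤ := by
          have := hNc.sup_eq_top
          rwa [hbot, bot_sup_eq] at this
        exact false_of_two_group hna P hSt
      · have hdis := hNc.disjoint
        rw [htop] at hdis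
        exact (P.ne_bot_of_dvd_card hdiv) (top_disjoint.mp hdis)
    · exfalso
      obtain ⟨P⟩ : Nonempty (Sylow 2 G) := inferInstance
      rcases (hnorm P).eq_bot_or_eq_top with hbot | htop
      · exact (P.ne_bot_of_dvd_card hdiv) hbot
      · exact false_of_two_group hna P htop
    · obtain ⟨F, _, _, A, _, _, hchar, hoddA, ⟨e⟩⟩ := hsl
      haveI : CharP F 2 := hchar
      -- `A` is trivial
      let φ : G →* A := (MonoidHom.snd _ _).comp e.toMonoidHom
      let τ : Matrix.SpecialLinearGroup (Fin 2) F := ⟨!![1, 1; 0, 1], by simp [Matrix.det_fin_two]⟩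
      have hτ1 : τ ≠ 1 := by
        intro h
        have := congrArg (fun z : Matrix.SpecialLinearGroup (Fin 2) F => z.1 0 1) h
        simp [τ] at this
      have hker : φ.ker = ⊤ := by
        rcases (MonoidHom.normal_ker φ).eq_bot_or_eq_top with h | h
        · exfalso
          apply hτ1
          have h1 : e.symm (τ, 1) ∈ φ.ker := by
            rw [MonoidHom.mem_ker]
            simp [φ]
          rw [h, Subgroup.mem_bot] at h1
          have h2 := congrArg e h1
          simp only [MulEquiv.apply_symm_apply, map_one] at h2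
          exact congrArg Prod.fst h2
        · exact h
      have hA : ∀ a : A, a = 1 := by
        intro a
        have h1 : e.symm (1, a) ∈ φ.ker := by rw [hker]; trivial
        rw [MonoidHom.mem_ker] at h1
        simpa [φ] using h1
      let ψ : G →* Matrix.SpecialLinearGroup (Fin 2) F := (MonoidHom.fst _ _).comp e.toMonoidHom
      have hψ : Function.Bijective ψ := by
        constructor
        · rw [injective_iff_map_eq_one]
          intro x hx
          apply e.injective
          rw [map_one]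
          ext1
          · exact hx
          · exact hA _
        · intro s
          exact ⟨e.symm (s, 1), by simp [ψ]⟩
      let e₂ : G ≃* Matrix.SpecialLinearGroup (Fin 2) F := MulEquiv.ofBijective ψ hψ
      have hPF := hP.of_equiv e₂
      obtain ⟨n', hpn, hcardF⟩ := FiniteField.card F 2
      set n : ℕ := (n' : ℕ) with hn
      have hNatCard : Nat.card F = 2 ^ n := by
        rw [Nat.card_eq_fintype_card]
        exact hcardF
      have hn0 : n ≠ 0 := n'.pos.ne'
      -- `n = 1` is impossible
      have hn2 : 2 ≤ n := by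
        by_contra hlt
        have hn1 : n = 1 := by omega
        have hq : Fintype.card F = 2 := by
          rw [hcardF, hn1]; rfl
        have h1 : Nat.card G = 6 := by
          rw [Nat.card_congr e₂.toEquiv, Cfsg.Agent.Lib.ClassicalSmall.card_SL2, hq]
        haveI : Fact (Nat.Prime 3) := ⟨Nat.prime_three⟩
        obtain ⟨g, hg⟩ := exists_prime_orderOf_dvd_card' (G := G) 3 (by rw [h1]; norm_num)
        have hz : Nat.card (Subgroup.zpowers g) = 3 := by rw [Nat.card_zpowers, hg]
        have hi : (Subgroup.zpowers g).index = 2 := by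
          have := (Subgroup.zpowers g).card_mul_index
          rw [hz, h1] at this
          omega
        have hnorm := Subgroup.normal_of_index_eq_two hi
        rcases hnorm.eq_bot_or_eq_top with h | h
        · rw [h, Nat.card_eq_one_iff_unique.mpr ⟨inferInstance, inferInstance⟩] at hz
          omega
        · rw [h, Subgroup.card_top, h1] at hz
          omega
      refine ⟨n, hn2, ?_, ?_⟩
      · have h4 : 4 ≤ Nat.card F := by
          rw [hNatCard]
          calc 4 = 2 ^ 2 := by norm_num
            _ ≤ 2 ^ n := Nat.pow_le_pow_right (by norm_num) hn2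
        have := prime_of_pr hPF h4
        rwa [hNatCard] at this
      · haveI : Finite (GaloisField 2 n) := inferInstance
        letI : Fintype (GaloisField 2 n) := Fintype.ofFinite _
        have hcc : Fintype.card F = Fintype.card (GaloisField 2 n) := by
          rw [← Nat.card_eq_fintype_card, ← Nat.card_eq_fintype_card, hNatCard, GaloisField.card 2 n hn0]
        let φ' : F ≃+* GaloisField 2 n := FiniteField.ringEquivOfCardEq hcc
        exact ⟨e₂.trans ((slCongr φ').trans pslEquivSl.symm)⟩
  · exfalso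
    have hCN : Cfsg.IsCNGroup G := by
      intro g hg
      haveI := centralizer_comm hna hP hg
      open scoped IsMulCommutative in
      infer_instance
    have hs := Cfsg.Agent.S0183.result hodd hCN
    apply hna
    have h2 := (IsSimpleGroup.comm_iff_isSolvable (G := G)).mpr hs
    exact ⟨⟨h2⟩⟩

theorem backward {G : Type*} [Group G] {n : ℕ} (hn : 2 ≤ n) (hp : (2 ^ n - 1).Prime)
    (e : G ≃* Matrix.ProjectiveSpecialLinearGroup (Fin 2) (GaloisField 2 n)) : Pr G := by
  haveI : Fact (Nat.Prime 2) := ⟨Nat.prime_two⟩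
  have hc : Nat.card (GaloisField 2 n) = 2 ^ n := GaloisField.card 2 n (by omega)
  have h1 : SLP (Matrix.SpecialLinearGroup (Fin 2) (GaloisField 2 n)) := slp (by rwa [hc])
  have h2 := h1.pr
  exact (h2.of_equiv pslEquivSl.symm).of_equiv e.symm

/-- Let G be a finite non-abelian simple group. Every non-abelian subgroup of G is self-normalizing if and only if G is isomorphic to PSL₂(2ⁿ) for some n ≥ 2 with 2ⁿ − 1 prime (this includes the alternating group of degree 5 as PSL₂(4)). -/
theorem result {G : Type*} [Group G] [Finite G] [IsSimpleGroup G]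
    (hna : ¬ IsMulCommutative G) :
    (∀ H : Subgroup G, ¬ IsMulCommutative H → Subgroup.normalizer (H : Set G) = H) ↔
    ∃ n : ℕ, 2 ≤ n ∧ (2 ^ n - 1).Prime ∧ Nonempty (G ≃* Matrix.ProjectiveSpecialLinearGroup (Fin 2) (GaloisField 2 n)) := by
  constructor
  · intro h
    exact forward hna h
  · rintro ⟨n, hn, hp, ⟨e⟩⟩
    exact backward hn hp e

end Cfsg.Agent.S4073
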