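import Mathlib
import Cfsg.Statements.S0992
import Cfsg.Agent.Lib.SmallGroups2
-- import your own Cfsg.Agent.* helpers here

set_option autoImplicit false
open Cfsg

namespace Cfsg.Agent.S0992

theorem autPerm_card_dvd {A : Type*} [Group A] [Finite A] (h : Nat.card A = 4) : Nat.card (MulAut A) ∣ 6 := by
  classical
  let φ : MulAut A →* Equiv.Perm {x : A // x ≠ 1} :=
    { toFun := fun f => f.toEquiv.subtypeEquiv (fun x => by simp)
      map_one' := by ext; rfl
      map_mul' := fun f g => by ext; rfl }
  have hφ : Function.Injective φ := by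
    intro f g hfg
    ext x
    by_cases hx : x = 1
    · subst hx; simp
    · have := congrArg (fun e : Equiv.Perm {x : A // x ≠ 1} => (e ⟨x, hx⟩ : A)) hfg
      exact this
  have h1 := Subgroup.card_dvd_of_injective φ hφ
  haveI : Fintype A := Fintype.ofFinite A
  have h2 : Nat.card (Equiv.Perm {x : A // x ≠ 1}) = 6 := by
    have h3 : Fintype.card {x : A // x ≠ 1} = Fintype.card A - 1 := Set.card_ne_eq (1 : A)
    rw [Nat.card_eq_fintype_card, Fintype.card_perm, h3, ← Nat.card_eq_fintype_card, h]
    decide
  rwa [h2] at h1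

theorem isKleinFour_of_card_four_of_not_cyclic {A : Type*} [Group A] (h : Nat.card A = 4) (hc : ¬ IsCyclic A) : IsKleinFour A := by
  haveI : Finite A := Nat.finite_of_card_ne_zero (by omega)
  refine ⟨h, ?_⟩
  have hx : ∀ x : A, x ^ 2 = 1 := by
    intro x
    have h1 : orderOf x ∣ 4 := h ▸ orderOf_dvd_natCard x
    have h2 : orderOf x ≠ 4 := fun h4 => hc (isCyclic_of_orderOf_eq_card x (by rw [h4, h]))
    have h3 : orderOf x ∣ 2 := by
      have : orderOf x ∈ Nat.divisors 4 := by simp [h1]
      have hd : Nat.divisors 4 = {1, 2, 4} := by decide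
      rw [hd] at this
      simp only [Finset.mem_insert, Finset.mem_singleton] at this
      rcases this with h5 | h5 | h5
      · rw [h5]; exact one_dvd _
      · rw [h5]
      · exact absurd h5 h2
    exact orderOf_dvd_iff_pow_eq_one.1 h3
  have hd : Monoid.exponent A ∣ 2 := Monoid.exponent_dvd_of_forall_pow_eq_one hx
  have h2 : Monoid.exponent A = 1 ∨ Monoid.exponent A = 2 := (Nat.dvd_prime Nat.prime_two).1 hd
  rcases h2 with h2 | h2
  · exfalso
    rw [Monoid.exp_eq_one_iff] at h2
    have := Nat.card_of_subsingleton (1 : A)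
    omega
  · exact h2


/-- Let G be a non-abelian finite simple group of even order not divisible by 8, and T a Sylow 2-subgroup. Then T is a Klein four-group and the centralizer of T has index 3 in the normalizer of T. -/
theorem result {G : Type*} [Group G] [Finite G] [IsSimpleGroup G] (hG : ¬ IsMulCommutative G) (h2 : Even (Nat.card G)) (h8 : ¬ 8 ∣ Nat.card G) (T : Sylow 2 G) : IsKleinFour ↥(T : Subgroup G) ∧ (Subgroup.centralizer ((T : Subgroup G) : Set G)).relIndex (Subgroup.normalizer ((T : Subgroup G) : Set G)) = 3 := by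
  classical
  haveI : Fact (Nat.Prime 2) := ⟨Nat.prime_two⟩
  have h2d : 2 ∣ Nat.card G := h2.two_dvd
  -- order of T
  have hTcard : Nat.card (T : Subgroup G) = 2 ^ (Nat.card G).factorization 2 := T.card_eq_multiplicity
  have hk1 : 1 ≤ (Nat.card G).factorization 2 := by
    have hne : Nat.card G ≠ 0 := Nat.card_pos.ne'
    exact (Nat.Prime.dvd_iff_one_le_factorization Nat.prime_two hne).1 h2d
  have hk2 : (Nat.card G).factorization 2 ≤ 2 := by
    by_contra hcon
    push Not at hcon
    apply h8
    have hd : 2 ^ (Nat.card G).factorization 2 ∣ Nat.card G := Nat.ordProj_dvd _ _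
    have : 2 ^ 3 ∣ 2 ^ (Nat.card G).factorization 2 := pow_dvd_pow 2 hcon
    exact (by simpa using this.trans hd)
  have hmin : (Nat.card G).minFac = 2 := (Nat.minFac_eq_two_iff _).2 h2d
  have hncyc : ¬ IsCyclic (T : Subgroup G) := by
    intro hc
    exact Cfsg.Agent.Lib.SmallGroups2.not_normalizer_le_centralizer hG h2d T (IsCyclic.normalizer_le_centralizer hmin hc)
  have hcard4 : Nat.card (T : Subgroup G) = 4 := by
    have : (Nat.card G).factorization 2 = 1 ∨ (Nat.card G).factorization 2 = 2 := by omega
    rcases this with h1 | h1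
    · exfalso
      rw [h1, pow_one] at hTcard
      exact hncyc (isCyclic_of_prime_card hTcard)
    · rw [hTcard, h1]; norm_num
  have hK : IsKleinFour (T : Subgroup G) := isKleinFour_of_card_four_of_not_cyclic hcard4 hncyc
  refine ⟨hK, ?_⟩
  have hcomm : IsMulCommutative (T : Subgroup G) := IsKleinFour.isMulCommutative
  have hd6 : (Subgroup.centralizer ((T : Subgroup G) : Set G)).relIndex (Subgroup.normalizer ((T : Subgroup G) : Set G)) ∣ 6 :=
    (Cfsg.Agent.Lib.SmallGroups2.relIndex_centralizer_normalizer_dvd (T : Subgroup G)).trans (autPerm_card_dvd hcard4)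
  have hne1 : (Subgroup.centralizer ((T : Subgroup G) : Set G)).relIndex (Subgroup.normalizer ((T : Subgroup G) : Set G)) ≠ 1 := by
    intro h1
    exact Cfsg.Agent.Lib.SmallGroups2.not_normalizer_le_centralizer hG h2d T (Subgroup.relIndex_eq_one.1 h1)
  have hodd : ¬ 2 ∣ (Subgroup.centralizer ((T : Subgroup G) : Set G)).relIndex (Subgroup.normalizer ((T : Subgroup G) : Set G)) := by
    intro hd
    have hTC : (T : Subgroup G) ≤ Subgroup.centralizer ((T : Subgroup G) : Set G) := by
      intro x hx
      rw [Subgroup.mem_centralizer_iff]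
      intro y hy
      have := hcomm.is_comm.comm (⟨x, hx⟩ : (T : Subgroup G)) ⟨y, hy⟩
      exact (congrArg Subtype.val this).symm
    have h1 := Subgroup.relIndex_dvd_of_le_left (Subgroup.normalizer ((T : Subgroup G) : Set G)) hTC
    have h3 : (T : Subgroup G).relIndex (Subgroup.normalizer ((T : Subgroup G) : Set G)) ∣ (T : Subgroup G).index :=
      Subgroup.relIndex_dvd_index_of_le Subgroup.le_normalizer
    exact T.not_dvd_index (hd.trans (h1.trans h3))
  have hmem : (Subgroup.centralizer ((T : Subgroup G) : Set G)).relIndex (Subgroup.normalizer ((T : Subgroup G) : Set G)) ∈ Nat.divisors 6 :=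
    Nat.mem_divisors.2 ⟨hd6, by norm_num⟩
  have hdiv : Nat.divisors 6 = {1, 2, 3, 6} := by decide
  rw [hdiv] at hmem
  simp only [Finset.mem_insert, Finset.mem_singleton] at hmem
  rcases hmem with h1 | h1 | h1 | h1
  · exact absurd h1 hne1
  · exfalso; apply hodd; rw [h1]
  · exact h1
  · exfalso; apply hodd; rw [h1]; norm_num

end Cfsg.Agent.S0992
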