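import Mathlib
import Cfsg.Statements.S0499
import Cfsg.Agent.Lib.FrobNPC
import Cfsg.Agent.S0992

set_option autoImplicit false
set_option linter.style.haveILetI false
open Cfsg

namespace Cfsg.Agent.S0499

open Cfsg.Agent.Lib.FrobNPC

variable {G : Type*} [Group G]

/-- Conjugation by `g` as a permutation of a subgroup normalized by `g`. -/
def conjPerm (Q : Subgroup G) (g : G) (hg : g ∈ Subgroup.normalizer (Q : Set G)) : Equiv.Perm Q where
  toFun x := ⟨g * x * g⁻¹, (Subgroup.mem_normalizer_iff.mp hg x).mp x.2⟩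
  invFun x := ⟨g⁻¹ * x * g, by
    have h := (Subgroup.mem_normalizer_iff.mp (Subgroup.inv_mem _ hg) x).mp x.2
    simpa using h⟩
  left_inv x := by apply Subtype.ext; simp [mul_assoc]
  right_inv x := by apply Subtype.ext; simp [mul_assoc]

theorem conjPerm_apply {Q : Subgroup G} {g : G} {hg : g ∈ Subgroup.normalizer (Q : Set G)} (x : Q) :
    ((conjPerm Q g hg x : Q) : G) = g * x * g⁻¹ := rfl

theorem conjPerm_pow {Q : Subgroup G} {g : G} {hg : g ∈ Subgroup.normalizer (Q : Set G)} (k : ℕ) (x : Q) :
    (((conjPerm Q g hg) ^ k) x : G) = g ^ k * x * (g ^ k)⁻¹ := by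
  induction k with
  | zero => simp
  | succ k ih =>
    rw [pow_succ', Equiv.Perm.mul_apply, conjPerm_apply, ih]
    group

/-- A subgroup of order dividing 8 is centralized by every element normalizing it of order prime to `42`. -/
theorem mem_centralizer_of_small [Finite G] (Q : Subgroup G) (hQ : Nat.card Q ∣ 8) (g : G)
    (hg : g ∈ Subgroup.normalizer (Q : Set G)) (hco : (orderOf g).Coprime 42) :
    g ∈ Subgroup.centralizer (Q : Set G) := by
  classical
  haveI := Fintype.ofFinite Q
  set φ := conjPerm Q g hg with hφ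
  have hφo : φ ^ orderOf g = 1 := by
    ext x
    rw [hφ, conjPerm_pow, pow_orderOf_eq_one]
    simp
  have hQ8 : Nat.card Q ≤ 8 := Nat.le_of_dvd (by norm_num) hQ
  have hfive : φ ^ 5 = 1 := by
    ext x
    have hper : Function.IsPeriodicPt φ (orderOf g) x := by
      show φ^[orderOf g] x = x
      rw [Equiv.Perm.iterate_eq_pow, hφo]; rfl
    set l := Function.minimalPeriod φ x with hl
    have hldvd : l ∣ orderOf g := hper.minimalPeriod_dvd
    have hlpos : 0 < l := Nat.pos_of_dvd_of_pos hldvd (orderOf_pos g)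
    have hlle : l ≤ Nat.card Q := by
      rw [Nat.card_eq_fintype_card]
      have hinj := Function.iterate_injOn_Iio_minimalPeriod (f := φ) (x := x)
      have := Finset.card_le_card_of_injOn (s := Finset.range l) (t := Finset.univ)
        (fun i => φ^[i] x) (fun _ _ => Finset.mem_univ _) (by
          intro a ha b hb hab
          apply hinj (by simpa using ha) (by simpa using hb) hab)
      simpa using this
    have hlco : l.Coprime 42 := Nat.Coprime.coprime_dvd_left hldvd hco
    have hl5 : l ∣ 5 := by
      have hle : l ≤ 8 := hlle.trans hQ8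
      have hdec : ∀ l ∈ Finset.range 9, 0 < l → l.Coprime 42 → l ∣ 5 := by decide
      exact hdec l (Finset.mem_range.mpr (by omega)) hlpos hlco
    have h5 : Function.IsPeriodicPt φ 5 x :=
      (Function.isPeriodicPt_minimalPeriod φ x).trans_dvd hl5
    have : φ^[5] x = x := h5
    rw [Equiv.Perm.iterate_eq_pow] at this
    rw [this]; rfl
  haveI : Fact (Nat.Prime 5) := ⟨by norm_num⟩
  let K : Subgroup (Equiv.Perm Q) := Subgroup.zpowers φ
  have hK : IsPGroup 5 K := by
    rintro ⟨k, z, rfl⟩
    refine ⟨1, ?_⟩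
    apply Subtype.ext
    show (φ ^ z) ^ (5 ^ 1) = 1
    rw [pow_one, ← zpow_natCast, ← zpow_mul, mul_comm, zpow_mul, zpow_natCast, hfive, one_zpow]
  have hmod := hK.card_modEq_card_fixedPoints Q
  let F : Subgroup Q := (Subgroup.centralizer ({g} : Set G)).subgroupOf Q
  have hfixF : MulAction.fixedPoints K Q = (F : Set Q) := by
    ext x
    constructor
    · intro hx
      have h1 := hx ⟨φ, Subgroup.mem_zpowers φ⟩
      have h2 : φ x = x := h1
      have h3 : g * x * g⁻¹ = x := congrArg Subtype.val h2
      show (x : G) ∈ Subgroup.centralizer ({g} : Set G)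
      rw [Subgroup.mem_centralizer_singleton_iff]
      calc (x : G) * g = g * x * g⁻¹ * g := by rw [h3]
        _ = g * x := by group
    · intro hx
      have hx' : (x : G) ∈ Subgroup.centralizer ({g} : Set G) := hx
      rw [Subgroup.mem_centralizer_singleton_iff] at hx'
      have h2 : φ x = x := by
        apply Subtype.ext
        rw [hφ, conjPerm_apply, ← hx']
        group
      rintro ⟨k, z, rfl⟩
      exact Equiv.Perm.zpow_apply_eq_self_of_apply_eq_self h2 z
  have hcardF : Nat.card (MulAction.fixedPoints K Q) = Nat.card F := by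
    rw [hfixF]; rfl
  rw [hcardF] at hmod
  have hFdvd : Nat.card F ∣ Nat.card Q := Subgroup.card_subgroup_dvd_card F
  have hkey : ∀ a ∈ Finset.range 9, ∀ b ∈ Finset.range 9, a ∣ 8 → b ∣ a → a % 5 = b % 5 → a = b := by
    decide
  have hFQ : Nat.card F = Nat.card Q := by
    symm
    refine hkey _ (Finset.mem_range.mpr (by omega)) _ (Finset.mem_range.mpr ?_) hQ hFdvd hmod
    have := Nat.le_of_dvd Nat.card_pos hFdvd
    omega
  have hFtop : F = ⊤ := Subgroup.eq_top_of_card_eq F hFQ
  rw [Subgroup.mem_centralizer_iff]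
  intro x hx
  have hxF : (⟨x, hx⟩ : Q) ∈ F := by rw [hFtop]; trivial
  have h1 : x ∈ Subgroup.centralizer ({g} : Set G) := hxF
  rw [Subgroup.mem_centralizer_singleton_iff] at h1
  exact h1

/-- A non-abelian finite simple group of even order has order divisible by 12, 16 or 56. -/
theorem result {G : Type*} [Group G] [Finite G] [IsSimpleGroup G]
    (hG : ¬ IsMulCommutative G) (h2 : Even (Nat.card G)) :
    12 ∣ Nat.card G ∨ 16 ∣ Nat.card G ∨ 56 ∣ Nat.card G := by
  classical
  haveI : Fact (Nat.Prime 2) := ⟨Nat.prime_two⟩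
  by_contra hcon
  push Not at hcon
  obtain ⟨h12, h16, h56⟩ := hcon
  obtain ⟨T⟩ : Nonempty (Sylow 2 G) := inferInstance
  have h8 : 8 ∣ Nat.card G := by
    by_contra h8
    obtain ⟨hK, hrel⟩ := Cfsg.Agent.S0992.result hG h2 h8 T
    apply h12
    have h3 : 3 ∣ Nat.card G := by
      have h4 := Subgroup.relIndex_dvd_card (Subgroup.centralizer ((T : Subgroup G) : Set G))
        (Subgroup.normalizer ((T : Subgroup G) : Set G))
      rw [hrel] at h4
      exact h4.trans (Subgroup.card_subgroup_dvd_card _)
    have h4 : 4 ∣ Nat.card G := by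
      have := Subgroup.card_subgroup_dvd_card (T : Subgroup G)
      rwa [hK.card_four] at this
    have : 3 * 4 ∣ Nat.card G := Nat.Coprime.mul_dvd_of_dvd_of_dvd (by norm_num) h3 h4
    simpa using this
  have h3 : ¬ 3 ∣ Nat.card G := by
    intro h3
    apply h12
    have h4 : 4 ∣ Nat.card G := dvd_trans (by norm_num) h8
    have : 3 * 4 ∣ Nat.card G := Nat.Coprime.mul_dvd_of_dvd_of_dvd (by norm_num) h3 h4
    simpa using this
  have h7 : ¬ 7 ∣ Nat.card G := by
    intro h7
    apply h56
    have : 8 * 7 ∣ Nat.card G := Nat.Coprime.mul_dvd_of_dvd_of_dvd (by norm_num) h8 h7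
    simpa using this
  have hF : FrobHyp 2 G := by
    intro Q hQ g hg hco
    apply mem_centralizer_of_small Q _ g hg
    · have h3' : (orderOf g).Coprime 3 :=
        ((Nat.Prime.coprime_iff_not_dvd Nat.prime_three).mpr
          (fun h => h3 (h.trans (orderOf_dvd_natCard g)))).symm
      have h7' : (orderOf g).Coprime 7 :=
        ((Nat.Prime.coprime_iff_not_dvd (by norm_num : Nat.Prime 7)).mpr
          (fun h => h7 (h.trans (orderOf_dvd_natCard g)))).symm
      have : (orderOf g).Coprime (2 * 3 * 7) :=
        Nat.Coprime.mul_right (Nat.Coprime.mul_right hco h3') h7'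
      simpa using this
    · obtain ⟨j, hj⟩ := IsPGroup.iff_card.mp hQ
      rw [hj]
      have hjdvd : 2 ^ j ∣ Nat.card G := by
        rw [← hj]; exact Subgroup.card_subgroup_dvd_card Q
      have hj3 : j ≤ 3 := by
        by_contra hj3
        apply h16
        have : 16 ∣ 2 ^ j := by
          have e : (16 : ℕ) = 2 ^ 4 := by norm_num
          rw [e]
          exact pow_dvd_pow 2 (by omega)
        exact this.trans hjdvd
      have e : (8 : ℕ) = 2 ^ 3 := by norm_num
      rw [e]
      exact pow_dvd_pow 2 hj3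
  obtain ⟨N, hNn, hNc, k, hk⟩ := exists_normal_complement hF
  rcases hNn.eq_bot_or_eq_top with rfl | rfl
  · -- `G` is a `2`-group
    rw [Subgroup.index_bot] at hk
    have hp : IsPGroup 2 G := IsPGroup.of_card hk
    have hct := hp.center_nontrivial
    have hctop : Subgroup.center G = ⊤ := by
      rcases (inferInstance : (Subgroup.center G).Normal).eq_bot_or_eq_top with h | h
      · exact absurd h ((Subgroup.nontrivial_iff_ne_bot _).mp hct)
      · exact h
    apply hG
    refine ⟨⟨fun a b => ?_⟩⟩
    have ha : a ∈ Subgroup.center G := by rw [hctop]; trivial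
    exact (Subgroup.mem_center_iff.mp ha b).symm
  · rw [Subgroup.card_top] at hNc
    have : 2 ∣ Nat.card G := h2.two_dvd
    have h5 := Nat.Coprime.eq_one_of_dvd hNc.symm this
    omega

end Cfsg.Agent.S0499
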