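import Mathlib
import Cfsg.Statements.S0493
import Cfsg.Agent.Lib.SmallGroups2
import Cfsg.Agent.Lib.BurnsidePQ
import Cfsg.Agent.S0499

set_option autoImplicit false
open Cfsg

namespace Cfsg.Agent.S0493

open Cfsg.Agent.Lib.SmallGroups2

/-- A finite simple group of order at most 100 that is not cyclic has order 60. -/
theorem result {G : Type*} [Group G] [Finite G] [IsSimpleGroup G]
    (hG : ¬ IsCyclic G) (h : Nat.card G ≤ 100) : Nat.card G = 60 := by
  have hna : ¬ IsMulCommutative G := by
    intro hc
    have hp := card_prime_of_isMulCommutative hc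
    haveI : Fact (Nat.card G).Prime := ⟨hp⟩
    exact hG (isCyclic_of_prime_card rfl)
  have hsol : ∀ p q a b : ℕ, p.Prime → q.Prime → Nat.card G = p ^ a * q ^ b → False := by
    intro p q a b hp hq hc
    have hs := Cfsg.Agent.Lib.BurnsidePQ.isSolvable_of_card_eq p q hp hq _ G rfl ⟨a, b, hc⟩
    apply hna
    have := (IsSimpleGroup.comm_iff_isSolvable (G := G)).mpr hs
    exact ⟨⟨fun a b => this _ _⟩⟩
  have h12 : Even (Nat.card G) → 12 ∣ Nat.card G ∨ 16 ∣ Nat.card G ∨ 56 ∣ Nat.card G :=
    Cfsg.Agent.S0499.result hna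
  have hpos : 0 < Nat.card G := Nat.card_pos
  by_contra hne
  haveI : Fact (Nat.Prime 7) := ⟨by norm_num⟩
  have hc84 : Nat.card G = 7 * 12 → False := card_ne_of_candidates_empty (G := G) (p := 7) (m := 12) (by norm_num) (by norm_num) (by decide +kernel)
  generalize h0 : Nat.card G = n at *
  clear hna hG
  interval_cases n
  · exact (hsol 2 3 0 0 (by norm_num) (by norm_num) (by norm_num)).elim
  · exact (hsol 2 3 1 0 (by norm_num) (by norm_num) (by norm_num)).elim
  · exact (hsol 3 2 1 0 (by norm_num) (by norm_num) (by norm_num)).elim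
  · exact (hsol 2 3 2 0 (by norm_num) (by norm_num) (by norm_num)).elim
  · exact (hsol 5 2 1 0 (by norm_num) (by norm_num) (by norm_num)).elim
  · exact (hsol 2 3 1 1 (by norm_num) (by norm_num) (by norm_num)).elim
  · exact (hsol 7 2 1 0 (by norm_num) (by norm_num) (by norm_num)).elim
  · exact (hsol 2 3 3 0 (by norm_num) (by norm_num) (by norm_num)).elim
  · exact (hsol 3 2 2 0 (by norm_num) (by norm_num) (by norm_num)).elim
  · exact (hsol 2 5 1 1 (by norm_num) (by norm_num) (by norm_num)).elim
  · exact (hsol 11 2 1 0 (by norm_num) (by norm_num) (by norm_num)).elim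
  · exact (hsol 2 3 2 1 (by norm_num) (by norm_num) (by norm_num)).elim
  · exact (hsol 13 2 1 0 (by norm_num) (by norm_num) (by norm_num)).elim
  · exact (hsol 2 7 1 1 (by norm_num) (by norm_num) (by norm_num)).elim
  · exact (hsol 3 5 1 1 (by norm_num) (by norm_num) (by norm_num)).elim
  · exact (hsol 2 3 4 0 (by norm_num) (by norm_num) (by norm_num)).elim
  · exact (hsol 17 2 1 0 (by norm_num) (by norm_num) (by norm_num)).elim
  · exact (hsol 2 3 1 2 (by norm_num) (by norm_num) (by norm_num)).elim
  · exact (hsol 19 2 1 0 (by norm_num) (by norm_num) (by norm_num)).elim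
  · exact (hsol 2 5 2 1 (by norm_num) (by norm_num) (by norm_num)).elim
  · exact (hsol 3 7 1 1 (by norm_num) (by norm_num) (by norm_num)).elim
  · exact (hsol 2 11 1 1 (by norm_num) (by norm_num) (by norm_num)).elim
  · exact (hsol 23 2 1 0 (by norm_num) (by norm_num) (by norm_num)).elim
  · exact (hsol 2 3 3 1 (by norm_num) (by norm_num) (by norm_num)).elim
  · exact (hsol 5 2 2 0 (by norm_num) (by norm_num) (by norm_num)).elim
  · exact (hsol 2 13 1 1 (by norm_num) (by norm_num) (by norm_num)).elim
  · exact (hsol 3 2 3 0 (by norm_num) (by norm_num) (by norm_num)).elim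
  · exact (hsol 2 7 2 1 (by norm_num) (by norm_num) (by norm_num)).elim
  · exact (hsol 29 2 1 0 (by norm_num) (by norm_num) (by norm_num)).elim
  · rcases h12 (by decide) with h | h | h <;> revert h <;> decide
  · exact (hsol 31 2 1 0 (by norm_num) (by norm_num) (by norm_num)).elim
  · exact (hsol 2 3 5 0 (by norm_num) (by norm_num) (by norm_num)).elim
  · exact (hsol 3 11 1 1 (by norm_num) (by norm_num) (by norm_num)).elim
  · exact (hsol 2 17 1 1 (by norm_num) (by norm_num) (by norm_num)).elim
  · exact (hsol 5 7 1 1 (by norm_num) (by norm_num) (by norm_num)).elim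
  · exact (hsol 2 3 2 2 (by norm_num) (by norm_num) (by norm_num)).elim
  · exact (hsol 37 2 1 0 (by norm_num) (by norm_num) (by norm_num)).elim
  · exact (hsol 2 19 1 1 (by norm_num) (by norm_num) (by norm_num)).elim
  · exact (hsol 3 13 1 1 (by norm_num) (by norm_num) (by norm_num)).elim
  · exact (hsol 2 5 3 1 (by norm_num) (by norm_num) (by norm_num)).elim
  · exact (hsol 41 2 1 0 (by norm_num) (by norm_num) (by norm_num)).elim
  · rcases h12 (by decide) with h | h | h <;> revert h <;> decide
  · exact (hsol 43 2 1 0 (by norm_num) (by norm_num) (by norm_num)).elim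
  · exact (hsol 2 11 2 1 (by norm_num) (by norm_num) (by norm_num)).elim
  · exact (hsol 3 5 2 1 (by norm_num) (by norm_num) (by norm_num)).elim
  · exact (hsol 2 23 1 1 (by norm_num) (by norm_num) (by norm_num)).elim
  · exact (hsol 47 2 1 0 (by norm_num) (by norm_num) (by norm_num)).elim
  · exact (hsol 2 3 4 1 (by norm_num) (by norm_num) (by norm_num)).elim
  · exact (hsol 7 2 2 0 (by norm_num) (by norm_num) (by norm_num)).elim
  · exact (hsol 2 5 1 2 (by norm_num) (by norm_num) (by norm_num)).elim
  · exact (hsol 3 17 1 1 (by norm_num) (by norm_num) (by norm_num)).elim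
  · exact (hsol 2 13 2 1 (by norm_num) (by norm_num) (by norm_num)).elim
  · exact (hsol 53 2 1 0 (by norm_num) (by norm_num) (by norm_num)).elim
  · exact (hsol 2 3 1 3 (by norm_num) (by norm_num) (by norm_num)).elim
  · exact (hsol 5 11 1 1 (by norm_num) (by norm_num) (by norm_num)).elim
  · exact (hsol 2 7 3 1 (by norm_num) (by norm_num) (by norm_num)).elim
  · exact (hsol 3 19 1 1 (by norm_num) (by norm_num) (by norm_num)).elim
  · exact (hsol 2 29 1 1 (by norm_num) (by norm_num) (by norm_num)).elim
  · exact (hsol 59 2 1 0 (by norm_num) (by norm_num) (by norm_num)).elim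
  · exact hne rfl
  · exact (hsol 61 2 1 0 (by norm_num) (by norm_num) (by norm_num)).elim
  · exact (hsol 2 31 1 1 (by norm_num) (by norm_num) (by norm_num)).elim
  · exact (hsol 3 7 2 1 (by norm_num) (by norm_num) (by norm_num)).elim
  · exact (hsol 2 3 6 0 (by norm_num) (by norm_num) (by norm_num)).elim
  · exact (hsol 5 13 1 1 (by norm_num) (by norm_num) (by norm_num)).elim
  · rcases h12 (by decide) with h | h | h <;> revert h <;> decide
  · exact (hsol 67 2 1 0 (by norm_num) (by norm_num) (by norm_num)).elim
  · exact (hsol 2 17 2 1 (by norm_num) (by norm_num) (by norm_num)).elim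
  · exact (hsol 3 23 1 1 (by norm_num) (by norm_num) (by norm_num)).elim
  · rcases h12 (by decide) with h | h | h <;> revert h <;> decide
  · exact (hsol 71 2 1 0 (by norm_num) (by norm_num) (by norm_num)).elim
  · exact (hsol 2 3 3 2 (by norm_num) (by norm_num) (by norm_num)).elim
  · exact (hsol 73 2 1 0 (by norm_num) (by norm_num) (by norm_num)).elim
  · exact (hsol 2 37 1 1 (by norm_num) (by norm_num) (by norm_num)).elim
  · exact (hsol 3 5 1 2 (by norm_num) (by norm_num) (by norm_num)).elim
  · exact (hsol 2 19 2 1 (by norm_num) (by norm_num) (by norm_num)).elim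
  · exact (hsol 7 11 1 1 (by norm_num) (by norm_num) (by norm_num)).elim
  · rcases h12 (by decide) with h | h | h <;> revert h <;> decide
  · exact (hsol 79 2 1 0 (by norm_num) (by norm_num) (by norm_num)).elim
  · exact (hsol 2 5 4 1 (by norm_num) (by norm_num) (by norm_num)).elim
  · exact (hsol 3 2 4 0 (by norm_num) (by norm_num) (by norm_num)).elim
  · exact (hsol 2 41 1 1 (by norm_num) (by norm_num) (by norm_num)).elim
  · exact (hsol 83 2 1 0 (by norm_num) (by norm_num) (by norm_num)).elim
  · exact (hc84 (by norm_num)).elim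
  · exact (hsol 5 17 1 1 (by norm_num) (by norm_num) (by norm_num)).elim
  · exact (hsol 2 43 1 1 (by norm_num) (by norm_num) (by norm_num)).elim
  · exact (hsol 3 29 1 1 (by norm_num) (by norm_num) (by norm_num)).elim
  · exact (hsol 2 11 3 1 (by norm_num) (by norm_num) (by norm_num)).elim
  · exact (hsol 89 2 1 0 (by norm_num) (by norm_num) (by norm_num)).elim
  · rcases h12 (by decide) with h | h | h <;> revert h <;> decide
  · exact (hsol 7 13 1 1 (by norm_num) (by norm_num) (by norm_num)).elim
  · exact (hsol 2 23 2 1 (by norm_num) (by norm_num) (by norm_num)).elim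
  · exact (hsol 3 31 1 1 (by norm_num) (by norm_num) (by norm_num)).elim
  · exact (hsol 2 47 1 1 (by norm_num) (by norm_num) (by norm_num)).elim
  · exact (hsol 5 19 1 1 (by norm_num) (by norm_num) (by norm_num)).elim
  · exact (hsol 2 3 5 1 (by norm_num) (by norm_num) (by norm_num)).elim
  · exact (hsol 97 2 1 0 (by norm_num) (by norm_num) (by norm_num)).elim
  · exact (hsol 2 7 1 2 (by norm_num) (by norm_num) (by norm_num)).elim
  · exact (hsol 3 11 2 1 (by norm_num) (by norm_num) (by norm_num)).elim
  · exact (hsol 2 5 2 2 (by norm_num) (by norm_num) (by norm_num)).elim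

end Cfsg.Agent.S0493
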