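import Mathlib
import Cfsg.Statements.S0514
import Cfsg.Agent.Lib.FrobNPC

set_option autoImplicit false
set_option linter.style.haveILetI false
open Cfsg

namespace Cfsg.Agent.S0514

open Cfsg.Agent.Lib.FrobNPC

variable {G : Type*} [Group G]

/-- Conjugation by `g` as a permutation of a subgroup normalized by `g`. -/
def conjPerm (Q : Subgroup G) (g : G) (hg : g ∈ Subgroup.normalizer (Q : Set G)) : Equiv.Perm Q where
  toFun x := ⟨g * x * g⁻¹, (Subgroup.mem_normalizer_iff.mp hg x).mp x.2⟩
  invFun x := ⟨g⁻¹ * x * g, by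
    have h := (Subgroup.mem_normalizer_iff.mp (Subgroup.inv_mem _ hg) x).mp x.2
    simpa using h⟩
  left_inv x := by apply Subtype.ext; simp [mul_assoc]
  right_inv x := by apply Subtype.ext; simp [mul_assoc]

theorem conjPerm_apply {Q : Subgroup G} {g : G} {hg : g ∈ Subgroup.normalizer (Q : Set G)} (x : Q) :
    ((conjPerm Q g hg x : Q) : G) = g * x * g⁻¹ := rfl

theorem conjPerm_pow {Q : Subgroup G} {g : G} {hg : g ∈ Subgroup.normalizer (Q : Set G)} (k : ℕ) (x : Q) :
    (((conjPerm Q g hg) ^ k) x : G) = g ^ k * x * (g ^ k)⁻¹ := by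
  induction k with
  | zero => simp
  | succ k ih =>
    rw [pow_succ', Equiv.Perm.mul_apply, conjPerm_apply, ih]
    group

/-- A `p`-element commuted into a coset by a `p'`-element is fixed. -/
theorem coprime_fix {p : ℕ} (x y c : G) (hx : (orderOf x).Coprime p)
    (hcp : ∃ k, c ^ p ^ k = 1)
    (hxc : x * c = c * x) (h : x * y * x⁻¹ = c * y) : x * y = y * x := by
  have hpow : ∀ k : ℕ, x ^ k * y * (x ^ k)⁻¹ = c ^ k * y := by
    intro k
    induction k with
    | zero => simp
    | succ k ih =>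
      have hcomm : x * c ^ k = c ^ k * x := ((Commute.pow_right hxc k)).eq
      calc x ^ (k + 1) * y * (x ^ (k + 1))⁻¹ = x * (x ^ k * y * (x ^ k)⁻¹) * x⁻¹ := by
            rw [pow_succ']; group
        _ = x * (c ^ k * y) * x⁻¹ := by rw [ih]
        _ = c ^ k * (x * y * x⁻¹) := by
            rw [← mul_assoc, hcomm]; group
        _ = c ^ (k + 1) * y := by rw [h, pow_succ]; group
  have h1 := hpow (orderOf x)
  rw [pow_orderOf_eq_one] at h1
  simp only [one_mul, inv_one, mul_one] at h1
  have hc1 : c ^ orderOf x = 1 := by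
    have : y * y⁻¹ = c ^ orderOf x * y * y⁻¹ := by rw [← h1]
    simpa using this.symm
  obtain ⟨k, hk⟩ := hcp
  have h2 : orderOf c ∣ orderOf x := orderOf_dvd_of_pow_eq_one hc1
  have h3 : orderOf c ∣ p ^ k := orderOf_dvd_of_pow_eq_one hk
  have h4 : orderOf c = 1 := by
    have : Nat.Coprime (orderOf x) (p ^ k) := Nat.Coprime.pow_right _ hx
    exact Nat.eq_one_of_dvd_coprimes this h2 h3
  have hc1' : c = 1 := orderOf_eq_one_iff.mp h4
  rw [hc1', one_mul] at h
  calc x * y = x * y * x⁻¹ * x := by group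
    _ = y * x := by rw [h]

/-- An odd-order element acting on a cyclic `2`-group acts trivially. -/
theorem fix_of_cyclic [Finite G] (a g : G) (hodd : (orderOf g).Coprime 2) (e : ℕ) (hae : orderOf a = 2 ^ e)
    (k : ℕ) (hk : g * a * g⁻¹ = a ^ k) : g * a = a * g := by
  have hpow : ∀ j : ℕ, g ^ j * a * (g ^ j)⁻¹ = a ^ (k ^ j) := by
    intro j
    induction j with
    | zero => simp
    | succ j ih =>
      calc g ^ (j + 1) * a * (g ^ (j + 1))⁻¹ = g * (g ^ j * a * (g ^ j)⁻¹) * g⁻¹ := by
            rw [pow_succ']; group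
        _ = g * a ^ (k ^ j) * g⁻¹ := by rw [ih]
        _ = (g * a * g⁻¹) ^ (k ^ j) := by rw [conj_pow]
        _ = a ^ (k ^ (j + 1)) := by rw [hk, ← pow_mul, pow_succ']
  have h1 := hpow (orderOf g)
  rw [pow_orderOf_eq_one] at h1
  simp only [one_mul, inv_one, mul_one] at h1
  -- `a ^ (k ^ o) = a`
  have h2 : a ^ (k ^ orderOf g) = a ^ 1 := by rw [pow_one]; exact h1.symm
  rw [pow_eq_pow_iff_modEq, hae] at h2
  have hoddo : Odd (orderOf g) := Nat.coprime_two_right.mp hodd
  -- `2 ^ e ∣ k - 1`
  have hmod : a ^ k = a ^ 1 := by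
    rw [pow_eq_pow_iff_modEq, hae]
    by_cases he : e = 0
    · subst he
      simp [Nat.ModEq, Nat.mod_one]
    have hkodd : Odd k := by
      by_contra hev
      rw [Nat.not_odd_iff_even] at hev
      have h5 : 2 ∣ k ^ orderOf g := by
        exact dvd_pow hev.two_dvd (orderOf_pos g).ne'
      have h6 : (k ^ orderOf g) % 2 = 1 % 2 :=
        (h2.of_dvd (dvd_pow_self 2 he))
      omega
    -- work in `ℤ`
    have h7 : ((2 ^ e : ℕ) : ℤ) ∣ ((k : ℤ) ^ orderOf g - 1) := by
      have := (Nat.modEq_iff_dvd.mp h2.symm)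
      push_cast at this ⊢
      exact this
    have h8 : ((k : ℤ) - 1) * ∑ i ∈ Finset.range (orderOf g), (k : ℤ) ^ i = (k : ℤ) ^ orderOf g - 1 := by
      rw [mul_comm]
      exact geom_sum_mul _ _
    have h9 : Odd (∑ i ∈ Finset.range (orderOf g), (k : ℤ) ^ i) := by
      have h9' : Odd (∑ i ∈ Finset.range (orderOf g), k ^ i) := by
        rw [Finset.odd_sum_iff_odd_card_odd]
        have : ({x ∈ Finset.range (orderOf g) | Odd (k ^ x)} : Finset ℕ) = Finset.range (orderOf g) := by
          apply Finset.filter_true_of_mem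
          intro x _
          exact Odd.pow hkodd
        rw [this, Finset.card_range]
        exact hoddo
      have h9'' : Odd (((∑ i ∈ Finset.range (orderOf g), k ^ i : ℕ)) : ℤ) := by
        exact_mod_cast h9'
      push_cast at h9''
      exact h9''
    have h10 : IsCoprime ((2 ^ e : ℕ) : ℤ) (∑ i ∈ Finset.range (orderOf g), (k : ℤ) ^ i) := by
      push_cast
      apply IsCoprime.pow_left
      obtain ⟨s, hs⟩ := h9
      refine ⟨-s, 1, ?_⟩
      rw [hs]; ring
    rw [← h8] at h7
    have h11 : ((2 ^ e : ℕ) : ℤ) ∣ ((k : ℤ) - 1) := h10.dvd_of_dvd_mul_right h7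
    have h12 : (1 : ℤ) ≡ k [ZMOD ((2 ^ e : ℕ) : ℤ)] := by
      exact (Int.modEq_iff_dvd).mpr h11
    exact ((Int.natCast_modEq_iff).mp (by exact_mod_cast h12)).symm
  rw [pow_one] at hmod
  rw [hmod] at hk
  calc g * a = g * a * g⁻¹ * g := by group
    _ = a * g := by rw [hk]

/-- Abstract centralizing lemma. -/
theorem centralizes_abstract [Finite G] (R A : Subgroup G) (hR : IsPGroup 2 R) (hAR : A ≤ R)
    (hAc : IsCyclic A) (hinv : ∀ x ∈ R, x ∉ A → x ^ 2 = 1)
    (hco : ∀ x ∈ R, ∀ y ∈ R, x ∉ A → y ∉ A → y * x⁻¹ ∈ A)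
    (hcard : Nat.card R ≤ 2 * Nat.card A) (t : G) (htR : t ∈ R) (ht : t ≠ 1)
    (g : G) (hg : g ∈ Subgroup.normalizer (R : Set G)) (hgt : g * t = t * g)
    (hodd : (orderOf g).Coprime 2) : g ∈ Subgroup.centralizer (R : Set G) := by
  have hconj : ∀ x ∈ R, g * x * g⁻¹ ∈ R := fun x hx => (Subgroup.mem_normalizer_iff.mp hg x).mp hx
  rw [Subgroup.mem_centralizer_iff]
  by_cases hsmall : Nat.card A ≤ 2
  · -- small case
    have hcardR : Nat.card R ≤ 4 := by omega
    intro y hy
    have hy : y ∈ R := hy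
    by_contra hne
    have hne' : g * y * g⁻¹ ≠ y := by
      intro h
      apply hne
      calc y * g = g * y * g⁻¹ * g := by rw [h]
        _ = g * y := by group
    have hne1 : y ≠ 1 := by
      rintro rfl
      apply hne; simp
    have hnet : y ≠ t := by
      rintro rfl
      apply hne; exact hgt.symm
    set y' := g * y * g⁻¹ with hy'
    set z := g * y' * g⁻¹ with hz
    have hy'R : y' ∈ R := hconj y hy
    have hzR : z ∈ R := hconj y' hy'R
    have hconj_inj : ∀ u v : G, g * u * g⁻¹ = g * v * g⁻¹ → u = v := by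
      intro u v huv
      have : g * u = g * v := mul_right_cancel huv
      exact mul_left_cancel this
    have hgone : g * (1 : G) * g⁻¹ = 1 := by group
    have hgtt : g * t * g⁻¹ = t := by rw [hgt]; group
    have hy'1 : y' ≠ 1 := fun h => hne1 (hconj_inj _ _ (by rw [← hy', h, hgone]))
    have hy't : y' ≠ t := fun h => hnet (hconj_inj _ _ (by rw [← hy', h, hgtt]))
    have hz1 : z ≠ 1 := fun h => hy'1 (hconj_inj _ _ (by rw [← hz, h, hgone]))
    have hzt : z ≠ t := fun h => hy't (hconj_inj _ _ (by rw [← hz, h, hgtt]))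
    have hzy' : z ≠ y' := fun h => hne' (hconj_inj _ _ (by rw [← hy', ← hz, h]))
    -- `z = y`
    have hzy : z = y := by
      by_contra hzy
      classical
      have hF : ((({1, t, y, y', z} : Finset G)) : Set G) ⊆ R := by
        intro u hu
        simp only [Finset.coe_insert, Finset.coe_singleton, Set.mem_insert_iff,
          Set.mem_singleton_iff] at hu
        rcases hu with rfl | rfl | rfl | rfl | rfl
        · exact R.one_mem
        · exact htR
        · exact hy
        · exact hy'R
        · exact hzR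
      have h5 : (({1, t, y, y', z} : Finset G).card) = 5 := by
        rw [Finset.card_insert_of_notMem, Finset.card_insert_of_notMem, Finset.card_insert_of_notMem,
          Finset.card_insert_of_notMem, Finset.card_singleton]
        · simp only [Finset.mem_singleton]; exact Ne.symm hzy'
        · simp only [Finset.mem_insert, Finset.mem_singleton, not_or]
          exact ⟨Ne.symm hne', Ne.symm hzy⟩
        · simp only [Finset.mem_insert, Finset.mem_singleton, not_or]
          exact ⟨Ne.symm hnet, Ne.symm hy't, Ne.symm hzt⟩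
        · simp only [Finset.mem_insert, Finset.mem_singleton, not_or]
          exact ⟨Ne.symm ht, Ne.symm hne1, Ne.symm hy'1, Ne.symm hz1⟩
      have h6 := Set.ncard_le_ncard hF (Set.toFinite _)
      rw [Set.ncard_coe_finset, h5] at h6
      have h7 : Nat.card R = (R : Set G).ncard := Nat.card_coe_set_eq _
      omega
    -- so `g ^ 2` fixes `y`
    have hg2 : ∀ k : ℕ, (g ^ 2) ^ k * y * ((g ^ 2) ^ k)⁻¹ = y := by
      intro k
      induction k with
      | zero => simp
      | succ k ih =>
        calc (g ^ 2) ^ (k + 1) * y * ((g ^ 2) ^ (k + 1))⁻¹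
            = (g ^ 2) ^ k * (g * (g * y * g⁻¹) * g⁻¹) * ((g ^ 2) ^ k)⁻¹ := by
              rw [pow_succ]; group
          _ = y := by rw [← hy', ← hz, hzy, ih]
    obtain ⟨m, hm⟩ := Nat.coprime_two_right.mp hodd
    have h1 := hg2 m
    have hgm : g ^ (2 * m) = g⁻¹ := by
      have : g ^ (2 * m) * g = 1 := by rw [← pow_succ, ← hm, pow_orderOf_eq_one]
      exact eq_inv_of_mul_eq_one_left this
    rw [← pow_mul, hgm, inv_inv] at h1
    exact hne' (by
      calc g * y * g⁻¹ = g * (g⁻¹ * y * g) * g⁻¹ := by rw [h1]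
        _ = y := by group)
  · -- large case
    have hbig : 3 ≤ Nat.card A := by omega
    obtain ⟨⟨a, haA⟩, hgen⟩ := hAc.exists_generator
    have hord : orderOf a = Nat.card A := by
      have h1 := orderOf_eq_card_of_forall_mem_zpowers hgen
      rw [← h1]
      exact (Subgroup.orderOf_mk a haA).symm
    have ha2 : a ^ 2 ≠ 1 := by
      intro h
      have := orderOf_le_of_pow_eq_one (by norm_num) h
      omega
    have hgenA : ∀ b ∈ A, ∃ k : ℕ, b = a ^ k := by
      classical
      intro b hb
      have h1 := hgen ⟨b, hb⟩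
      rw [mem_zpowers_iff_mem_range_orderOf] at h1
      obtain ⟨k, -, hk⟩ := Finset.mem_image.mp h1
      refine ⟨k, ?_⟩
      have := congrArg Subtype.val hk
      simpa using this.symm
    have hga : g * a * g⁻¹ ∈ A := by
      by_contra hn
      have h1 := hinv _ (hconj a (hAR haA)) hn
      rw [conj_pow] at h1
      apply ha2
      have : g * (a ^ 2) = g := by
        calc g * a ^ 2 = (g * a ^ 2 * g⁻¹) * g := by group
          _ = g := by rw [h1, one_mul]
      simpa using this
    obtain ⟨k, hk⟩ := hgenA _ hga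
    have haP : IsPGroup 2 A := hR.to_le hAR
    obtain ⟨e, he⟩ := (IsPGroup.iff_card.mp haP)
    have hcomm : g * a = a * g := fix_of_cyclic a g hodd e (by rw [hord, he]) k hk
    have hcommA : ∀ b ∈ A, g * b = b * g := by
      intro b hb
      obtain ⟨j, rfl⟩ := hgenA b hb
      exact (Commute.pow_right hcomm j).eq
    intro x hx
    have hx : x ∈ R := hx
    by_cases hxA : x ∈ A
    · exact (hcommA x hxA).symm
    have hx'A : g * x * g⁻¹ ∉ A := by
      intro h
      apply hxA
      have h1 := hcommA _ h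
      have h2 : x = g * x * g⁻¹ := by
        have h3 : g * (g * x * g⁻¹) * g⁻¹ = g * x * g⁻¹ := by
          rw [h1]; group
        have : g * (g * x * g⁻¹) = g * x := mul_right_cancel h3
        exact (mul_left_cancel this).symm
      rw [h2]; exact h
    have hc := hco x hx _ (hconj x hx) hxA hx'A
    have hcp : ∃ j, (g * x * g⁻¹ * x⁻¹) ^ 2 ^ j = 1 := by
      obtain ⟨j, hj⟩ := haP ⟨_, hc⟩
      exact ⟨j, by simpa using congrArg Subtype.val hj⟩
    exact (coprime_fix g x _ hodd hcp (hcommA _ hc) (by group)).symm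

/-- Data on `2`-subgroups coming from a dihedral Sylow `2`-subgroup. -/
theorem exists_data {X H : Type*} [Group X] [Finite X] [Group H] [Finite H] (S : Sylow 2 X) (n : ℕ) (hn : 2 ≤ n)
    (hS : Nonempty ((S : Subgroup X) ≃* DihedralGroup n)) (ι : H →* X) (hι : Function.Injective ι)
    (R : Subgroup H) (hR : IsPGroup 2 R) :
    ∃ A : Subgroup H, A ≤ R ∧ IsCyclic A ∧ (∀ x ∈ R, x ∉ A → x ^ 2 = 1) ∧
      (∀ x ∈ R, ∀ y ∈ R, x ∉ A → y ∉ A → y * x⁻¹ ∈ A) ∧ Nat.card R ≤ 2 * Nat.card A := by
  haveI : NeZero n := ⟨by omega⟩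
  obtain ⟨e⟩ := hS
  have hR' : IsPGroup 2 (R.map ι) := hR.map ι
  obtain ⟨S', hS'⟩ := hR'.exists_le_sylow
  obtain ⟨h, rfl⟩ := MulAction.exists_smul_eq X S S'
  let e' : ((h • S : Sylow 2 X) : Subgroup X) ≃* DihedralGroup n := (S.equivSMul h).symm.trans e
  have hRmem : ∀ x : R, ι x ∈ ((h • S : Sylow 2 X) : Subgroup X) := fun x => hS' ⟨x, x.2, rfl⟩
  let f₀ : R →* ((h • S : Sylow 2 X) : Subgroup X) := (ι.comp R.subtype).codRestrict _ hRmem
  let f : R →* DihedralGroup n := e'.toMonoidHom.comp f₀
  have hf : Function.Injective f := by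
    intro x y hxy
    have h1 : f₀ x = f₀ y := e'.injective hxy
    have h2 : ι x = ι y := congrArg Subtype.val h1
    exact Subtype.ext (hι h2)
  let A₀ : Subgroup R := (Subgroup.zpowers (DihedralGroup.r (1 : ZMod n))).comap f
  have hrmem : ∀ i : ZMod n, DihedralGroup.r i ∈ Subgroup.zpowers (DihedralGroup.r (1 : ZMod n)) := by
    intro i
    have h1 : (DihedralGroup.r (1 : ZMod n)) ^ i.val = DihedralGroup.r i := by
      rw [DihedralGroup.r_one_pow, ZMod.natCast_zmod_val]
    rw [← h1]
    exact Subgroup.pow_mem _ (Subgroup.mem_zpowers _) _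
  have hsr : ∀ z : DihedralGroup n, z ∉ Subgroup.zpowers (DihedralGroup.r (1 : ZMod n)) →
      ∃ i, z = DihedralGroup.sr i := by
    intro z hz
    cases z with
    | r i => exact absurd (hrmem i) hz
    | sr i => exact ⟨i, rfl⟩
  have hA₀cyc : IsCyclic A₀ := by
    let g₀ : A₀ →* Subgroup.zpowers (DihedralGroup.r (1 : ZMod n)) :=
      (f.comp A₀.subtype).codRestrict _ (fun x => x.2)
    have hg₀ : Function.Injective g₀ := by
      intro x y hxy
      have h1 : f x = f y := congrArg Subtype.val hxy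
      exact Subtype.ext (hf h1)
    exact isCyclic_of_injective g₀ hg₀
  refine ⟨A₀.map R.subtype, ?_, ?_, ?_, ?_, ?_⟩
  · rintro _ ⟨x, -, rfl⟩
    exact x.2
  · have e₁ : A₀ ≃* (A₀.map R.subtype : Subgroup H) := A₀.equivMapOfInjective _ R.subtype_injective
    exact isCyclic_of_surjective e₁.toMonoidHom e₁.surjective
  · intro x hx hxA
    have h1 : f ⟨x, hx⟩ ∉ Subgroup.zpowers (DihedralGroup.r (1 : ZMod n)) := by
      intro h2
      exact hxA ⟨⟨x, hx⟩, h2, rfl⟩
    obtain ⟨i, hi⟩ := hsr _ h1
    have h2 : f (⟨x, hx⟩ ^ 2) = f 1 := by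
      rw [map_pow, hi, map_one]
      exact DihedralGroup.sr_mul_self i ▸ (pow_two _)
    have h3 := hf h2
    simpa using congrArg Subtype.val h3
  · intro x hx y hy hxA hyA
    have h1 : f ⟨x, hx⟩ ∉ Subgroup.zpowers (DihedralGroup.r (1 : ZMod n)) := by
      intro h2
      exact hxA ⟨⟨x, hx⟩, h2, rfl⟩
    have h1' : f ⟨y, hy⟩ ∉ Subgroup.zpowers (DihedralGroup.r (1 : ZMod n)) := by
      intro h2
      exact hyA ⟨⟨y, hy⟩, h2, rfl⟩
    obtain ⟨i, hi⟩ := hsr _ h1
    obtain ⟨j, hj⟩ := hsr _ h1'
    refine ⟨⟨y, hy⟩ * ⟨x, hx⟩⁻¹, ?_, rfl⟩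
    show f (⟨y, hy⟩ * ⟨x, hx⟩⁻¹) ∈ Subgroup.zpowers (DihedralGroup.r (1 : ZMod n))
    rw [map_mul, map_inv, hi, hj]
    have : (DihedralGroup.sr i)⁻¹ = DihedralGroup.sr i := DihedralGroup.inv_sr i
    rw [this, DihedralGroup.sr_mul_sr]
    exact hrmem _
  · -- counting
    have hcardA : Nat.card (A₀.map R.subtype : Subgroup H) = Nat.card A₀ := by
      exact (Nat.card_congr (A₀.equivMapOfInjective _ R.subtype_injective).toEquiv).symm
    rw [hcardA]
    by_cases hall : ∀ y : R, y ∈ A₀
    · have : Nat.card R ≤ Nat.card A₀ := by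
        have : Function.Injective (fun y : R => (⟨y, hall y⟩ : A₀)) := by
          intro a b hab
          exact congrArg Subtype.val hab
        exact Nat.card_le_card_of_injective _ this
      omega
    push Not at hall
    obtain ⟨x, hx⟩ := hall
    classical
    let φ : R → A₀ × Bool := fun y =>
      if hy : y ∈ A₀ then (⟨y, hy⟩, true) else (⟨y * x⁻¹, by
        have h1 : f x ∉ Subgroup.zpowers (DihedralGroup.r (1 : ZMod n)) := hx
        have h2 : f y ∉ Subgroup.zpowers (DihedralGroup.r (1 : ZMod n)) := hy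
        obtain ⟨i, hi⟩ := hsr _ h1
        obtain ⟨j, hj⟩ := hsr _ h2
        show f (y * x⁻¹) ∈ Subgroup.zpowers (DihedralGroup.r (1 : ZMod n))
        rw [map_mul, map_inv, hi, hj]
        have : (DihedralGroup.sr i)⁻¹ = DihedralGroup.sr i := DihedralGroup.inv_sr i
        rw [this, DihedralGroup.sr_mul_sr]
        exact hrmem _⟩, false)
    have hφ : Function.Injective φ := by
      intro a b hab
      by_cases ha : a ∈ A₀ <;> by_cases hb : b ∈ A₀
      · simp only [φ, ha, hb, dif_pos, Prod.mk.injEq, and_true] at hab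
        exact congrArg Subtype.val hab
      · simp [φ, ha, hb] at hab
      · simp [φ, ha, hb] at hab
      · simp only [φ, ha, hb, dif_neg, not_false_eq_true, Prod.mk.injEq, and_true] at hab
        have := congrArg Subtype.val hab
        simpa using this
    have h1 := Nat.card_le_card_of_injective φ hφ
    rw [Nat.card_prod, Nat.card_eq_fintype_card (α := Bool), Fintype.card_bool] at h1
    omega

/-- The theorem for the centralizer of an involution. -/
theorem frobHyp_centralizer {X : Type*} [Group X] [Finite X] (S : Sylow 2 X) (n : ℕ) (hn : 2 ≤ n)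
    (hS : Nonempty ((S : Subgroup X) ≃* DihedralGroup n)) (t : X) (ht : orderOf t = 2) :
    FrobHyp 2 (Subgroup.centralizer ({t} : Set X)) := by
  intro Q hQ g hg hco
  let C := Subgroup.centralizer ({t} : Set X)
  have htC : t ∈ C := by
    rw [Subgroup.mem_centralizer_iff]
    rintro _ rfl
    rfl
  let t' : C := ⟨t, htC⟩
  have hcentral : ∀ c : C, c * t' = t' * c := by
    intro c
    apply Subtype.ext
    have := Subgroup.mem_centralizer_iff.mp c.2 t rfl
    exact this.symm
  have htp : IsPGroup 2 (Subgroup.zpowers t') := by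
    rw [IsPGroup.iff_card]
    refine ⟨1, ?_⟩
    rw [Nat.card_zpowers, pow_one, ← ht]
    exact Subgroup.orderOf_mk t htC
  haveI hnorm : (Subgroup.zpowers t').Normal := by
    constructor
    intro z hz c
    obtain ⟨k, rfl⟩ := Subgroup.mem_zpowers_iff.mp hz
    have h1 : c * t' ^ k * c⁻¹ = t' ^ k := by
      have : Commute c (t' ^ k) := (show Commute c t' from hcentral c).zpow_right k
      rw [this.eq]; group
    rw [h1]
    exact Subgroup.mem_zpowers_iff.mpr ⟨k, rfl⟩
  let R : Subgroup C := Q ⊔ Subgroup.zpowers t'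
  have hR : IsPGroup 2 R := hQ.to_sup_of_normal_right htp
  obtain ⟨A, hAR, hAc, hinv, hcop, hcard⟩ := exists_data S n hn hS C.subtype C.subtype_injective R hR
  have htR : t' ∈ R := (le_sup_right : Subgroup.zpowers t' ≤ R) (Subgroup.mem_zpowers t')
  have htne : t' ≠ 1 := by
    intro h
    have h1 : t = 1 := congrArg Subtype.val h
    rw [h1, orderOf_one] at ht
    omega
  have hgR : g ∈ Subgroup.normalizer (R : Set C) := by
    have key : ∀ u ∈ Subgroup.normalizer (Q : Set C), ∀ x ∈ R, u * x * u⁻¹ ∈ R := by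
      intro u hu x hx
      have hle : R ≤ R.comap (MulAut.conj u).toMonoidHom := by
        refine sup_le ?_ ?_
        · intro y hy
          exact (le_sup_left : Q ≤ R) ((Subgroup.mem_normalizer_iff.mp hu y).mp hy)
        · intro y hy
          exact (le_sup_right : Subgroup.zpowers t' ≤ R) (hnorm.conj_mem y hy u)
      exact hle hx
    rw [Subgroup.mem_normalizer_iff]
    intro x
    constructor
    · exact key g hg x
    · intro hx
      have h1 := key g⁻¹ (Subgroup.inv_mem _ hg) _ hx
      have h2 : g⁻¹ * (g * x * g⁻¹) * g⁻¹⁻¹ = x := by group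
      rwa [h2] at h1
  have := centralizes_abstract R A hR hAR hAc hinv hcop hcard t' htR htne g hgR (hcentral g) hco
  rw [Subgroup.mem_centralizer_iff] at this ⊢
  intro x hx
  exact this x ((le_sup_left : Q ≤ R) hx)

/-- In a finite group whose Sylow 2-subgroups are dihedral of order at least 4, the centralizer of any involution has a
normal subgroup of odd order whose index in the centralizer is a power of 2. -/
theorem result {X : Type*} [Group X] [Finite X]
    (S : Sylow 2 X) (n : ℕ) (hn : 2 ≤ n) (hS : Nonempty ((S : Subgroup X) ≃* DihedralGroup n)) (t : X)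
    (ht : orderOf t = 2) :
    ∃ N : Subgroup (Subgroup.centralizer ({t} : Set X)), N.Normal ∧ Odd (Nat.card N) ∧ ∃ k : ℕ, N.index = 2 ^ k := by
  haveI : Fact (Nat.Prime 2) := ⟨Nat.prime_two⟩
  obtain ⟨N, hN, hco, hk⟩ := exists_normal_complement (frobHyp_centralizer S n hn hS t ht)
  exact ⟨N, hN, Nat.coprime_two_right.mp hco, hk⟩

end Cfsg.Agent.S0514
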