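import Mathlib
import Cfsg.Statements.S0727
import Cfsg.Agent.Lib.Sharp3Even

set_option autoImplicit false
set_option linter.all false
open Cfsg

namespace Cfsg.Agent.S0727

open Cfsg.Agent.Lib.Sharp3Even

/-- A sharply triply transitive permutation group of degree `2^f + 1` is isomorphic to the projective general linear group of degree 2 over the field with `2^f` elements. -/
theorem result {α : Type*} [Fintype α] [DecidableEq α] {f : ℕ} (hf : 1 ≤ f) (hα : Fintype.card α = 2 ^ f + 1) (G : Subgroup (Equiv.Perm α)) (h3 : MulAction.IsMultiplyPretransitive G α 3) (hsharp : ∀ x : Fin 3 ↪ α, MulAction.stabilizer G x = ⊥) : ∃ (F : Type) (_ : Field F) (_ : Fintype F), Fintype.card F = 2 ^ f ∧ Nonempty (G ≃* Matrix.ProjGenLinGroup (Fin 2) F) := by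
  classical
  have hG : Sharp3 G := by
    refine ⟨tr_of_pretransitive h3, ?_⟩
    intro g hg p q r hpq hpr hqr h1 h2 h3'
    let x : Fin 3 ↪ α := ⟨![p, q, r], by
      intro i j h
      fin_cases i <;> fin_cases j <;> simp_all⟩
    have hm : (⟨g, hg⟩ : G) ∈ MulAction.stabilizer G x := by
      rw [MulAction.mem_stabilizer_iff]
      ext i
      fin_cases i
      · exact h1
      · exact h2
      · exact h3'
    rw [hsharp x, Subgroup.mem_bot] at hm
    exact congrArg Subtype.val hm
  have hodd : Odd (Fintype.card α) := by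
    rw [hα]
    obtain ⟨k, rfl⟩ : ∃ k, f = k + 1 := ⟨f - 1, by omega⟩
    exact ⟨2 ^ k, by rw [pow_succ]; ring⟩
  have h3c : 3 ≤ Fintype.card α := by
    rw [hα]
    have : 2 ^ 1 ≤ 2 ^ f := Nat.pow_le_pow_right (by norm_num) hf
    omega
  obtain ⟨a, ha, hc, F, i1, i2, hF, hpgl, -⟩ := main hG hodd h3c
  have haf : a = f := by
    have : 2 ^ a = 2 ^ f := by omega
    exact Nat.pow_right_injective (le_refl 2) this
  subst haf
  exact ⟨F, i1, i2, hF, hpgl⟩

end Cfsg.Agent.S0727
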