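import Cfsg.Statements.S1167
import Mathlib
import Cfsg.Agent.Lib.ZassMain9
import Cfsg.Agent.S0740

set_option autoImplicit false
open Cfsg

namespace Cfsg.Agent.S1167

/-- Let `G` be a finite simple Zassenhaus group on `Ω`, `U` a normal subgroup of `G_a` regular on `Ω` minus `a` which is an abelian 2-group, and `v` an involution with `v • a ≠ a`. Then there is a unique `u₀ ∈ U`, `u₀ ≠ 1`, with `v u₀ v = u₀ v u₀`. -/
theorem result {G Ω : Type*} [Group G] [Finite G] [MulAction G Ω] [Finite Ω]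
    (hZ : Cfsg.IsZassenhausGroup G Ω) [IsSimpleGroup G] {a : Ω}
    (U : Subgroup G) (hUle : U ≤ MulAction.stabilizer G a)
    (hUn : ∀ h ∈ MulAction.stabilizer G a, ∀ u ∈ U, h * u * h⁻¹ ∈ U)
    (hreg : ∀ c d : Ω, c ≠ a → d ≠ a → ∃! u : U, (u : G) • c = d)
    (hU2 : IsPGroup 2 U) (hUab : ∀ u ∈ U, ∀ u' ∈ U, u * u' = u' * u)
    (v : G) (hv1 : v ≠ 1) (hv2 : v * v = 1) (hva : v • a ≠ a) :
    ∃! u₀ : G, u₀ ∈ U ∧ u₀ ≠ 1 ∧ v * u₀ * v = u₀ * v * u₀ := by
  classical
  let _ : Fintype G := Fintype.ofFinite G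
  let _ : Fintype Ω := Fintype.ofFinite Ω
  let _ : Fintype (MulAction.stabilizer G a) := Fintype.ofFinite _
  set b := v • a with hb
  have hab : a ≠ b := Ne.symm hva
  have hvb : v • b = a := by rw [hb, ← mul_smul, hv2, one_smul]
  have hFn : (U.subgroupOf (MulAction.stabilizer G a)).Normal := by
    constructor
    intro n hn g
    rw [Subgroup.mem_subgroupOf] at hn ⊢
    exact hUn g g.2 n hn
  have hK := Cfsg.Agent.Lib.ZassP.isKernelAt_of_regular hZ a U hUle hFn hreg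
  have hKc := hK.card_add_one hab.symm
  rw [Nat.card_eq_fintype_card (α := Ω)] at hKc
  have h3 := Cfsg.Agent.Lib.Zassenhaus.three_le_card hZ
  obtain ⟨k, hk⟩ := IsPGroup.iff_card.mp hU2
  have hk0 : k ≠ 0 := by
    rintro rfl
    rw [pow_zero] at hk
    omega
  have h2U : 2 ∣ Nat.card U := by
    rw [hk]; exact dvd_pow_self 2 hk0
  -- the degree and the two-point stabiliser are odd
  have hodd : Odd (Fintype.card Ω) := by
    obtain ⟨t, ht⟩ := h2U
    exact ⟨t, by omega⟩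
  have hKN : (Cfsg.Agent.Lib.ZassFrob9.KK a U).Normal := Cfsg.Agent.Lib.ZassFrob9.KK_normal hK
  have he : Odd (Nat.card ↥(MulAction.stabilizer G a ⊓ MulAction.stabilizer G b)) := by
    have h1 := Cfsg.Agent.Lib.FrobPartI9.index_mul_ww (Cfsg.Agent.Lib.ZassFrob9.fro hZ hK)
    rw [Cfsg.Agent.Lib.ZassFrob9.card_KK hK, Cfsg.Agent.Lib.ZassFrob9.index_KK hZ hK hab] at h1
    rw [← Nat.not_even_iff_odd]
    intro h2
    have h4 : 2 ∣ Nat.card ↥(MulAction.stabilizer G a ⊓ MulAction.stabilizer G b) *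
        Cfsg.Agent.Lib.FrobPartI9.ww (Cfsg.Agent.Lib.ZassFrob9.KK a U) :=
      Dvd.dvd.mul_right h2.two_dvd _
    omega
  -- the bound
  have hbound : Nat.card U - 1 ≤ 2 * Nat.card ↥(MulAction.stabilizer G a ⊓ MulAction.stabilizer G b) := by
    rcases Cfsg.Agent.Lib.ZassMain9.main_simple hZ hK hab he with h | ⟨p, -, -, hnc, -⟩
    · exact h
    · exfalso
      apply hnc
      refine ⟨⟨fun x y => ?_⟩⟩
      apply Subtype.ext
      apply Subtype.ext
      exact hUab _ (Subgroup.mem_subgroupOf.mp x.2) _ (Subgroup.mem_subgroupOf.mp y.2)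
  obtain ⟨-, p, f, hp, hexp, hcard⟩ := Cfsg.Agent.Lib.ZassP.elementary hZ hab hK (by omega)
  have hp2 : p = 2 := by
    have hf0 : f ≠ 0 := by
      rintro rfl
      rw [pow_zero] at hcard
      omega
    have h4 : p ∣ 2 ^ k := by
      rw [← hk, hcard]; exact dvd_pow_self p hf0
    exact (Nat.prime_dvd_prime_iff_eq hp Nat.prime_two).mp (hp.dvd_of_dvd_pow h4)
  subst hp2
  have hinv : ∀ u ∈ U, u⁻¹ = u := by
    intro u hu
    rw [inv_eq_iff_mul_eq_one, ← sq]
    exact hexp u hu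
  -- the fixed point of `v`
  have hord : orderOf v = 2 := orderOf_eq_prime (by rw [sq]; exact hv2) hv1
  have hfix := ((Cfsg.Agent.S0740.result hZ hab).2.1 v hord rfl hvb).1 hodd
  obtain ⟨hsub, ⟨⟨c, hc⟩⟩⟩ := Nat.card_eq_one_iff_unique.mp hfix
  have hcv : v • c = c := hc
  have huniq : ∀ d : Ω, v • d = d → d = c := fun d hd =>
    congrArg Subtype.val (hsub.elim ⟨d, hd⟩ ⟨c, hc⟩)
  have hca : c ≠ a := by
    rintro rfl
    exact hva hcv
  have hcb : c ≠ b := by
    intro h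
    rw [h, hvb] at hcv
    exact hab hcv
  have hba : b ≠ a := Ne.symm hab
  obtain ⟨u₀, ⟨hu₀U, hu₀b⟩, hu₀uniq⟩ := hK.reg b c hba hca
  have hinvv : v⁻¹ = v := inv_eq_of_mul_eq_one_left hv2
  have hu₀1 : u₀ ≠ 1 := by
    rintro rfl
    rw [one_smul] at hu₀b
    exact hcb hu₀b.symm
  have hu₀i := hinv u₀ hu₀U
  have hK' := hK.conj v
  rw [← hb] at hK'
  refine ⟨u₀, ⟨hu₀U, hu₀1, ?_⟩, ?_⟩
  · -- the relation
    have hy : v * u₀ * v ∈ U.map (MulAut.conj v).toMonoidHom := by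
      refine ⟨u₀, hu₀U, ?_⟩
      simp [MulAut.conj_apply, hinvv]
    have hu₀c : u₀ • c = b := by
      rw [← hu₀b, ← mul_smul]
      have : u₀ * u₀ = 1 := by
        have := hexp u₀ hu₀U
        rwa [sq] at this
      rw [this, one_smul]
    have hu₀a : u₀ • a = a := hK.le u₀ hu₀U
    have hwb : (u₀ * v * u₀) • b = b := by
      rw [mul_smul, mul_smul, hu₀b, hcv, hu₀c]
    have hw : u₀ * v * u₀ ∈ U.map (MulAut.conj v).toMonoidHom := by
      rw [hK'.mem_iff _ hwb]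
      right
      intro d hd hwd
      apply hd
      have h5 : v • (u₀ • d) = u₀ • d := by
        have h6 : u₀ • ((v • (u₀ • d))) = d := by
          rw [← mul_smul, ← mul_smul]; exact hwd
        have h7 : v • (u₀ • d) = u₀⁻¹ • d := eq_inv_smul_iff.mpr h6
        rw [h7, hu₀i]
      have h6 := huniq _ h5
      rw [← hu₀b] at h6
      exact smul_left_cancel _ h6
    have hwa : (u₀ * v * u₀) • a = c := by
      rw [mul_smul, mul_smul, hu₀a, ← hb, hu₀b]
    have hya : (v * u₀ * v) • a = c := by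
      rw [mul_smul, mul_smul, ← hb, hu₀b, hcv]
    exact (hK'.reg a c hab hcb).unique ⟨hy, hya⟩ ⟨hw, hwa⟩
  · -- uniqueness
    rintro u₁ ⟨hu₁U, hu₁1, hrel⟩
    apply hu₀uniq
    refine ⟨hu₁U, ?_⟩
    have hu₁a : u₁ • a = a := hK.le u₁ hu₁U
    have hl : (v * u₁ * v) • b = b := by
      rw [mul_smul, mul_smul, hvb, hu₁a]
    rw [hrel, mul_smul, mul_smul] at hl
    have h7 : v • (u₁ • b) = u₁⁻¹ • b := eq_inv_smul_iff.mpr hl
    rw [hinv u₁ hu₁U] at h7
    exact huniq _ h7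

end Cfsg.Agent.S1167
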