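import Mathlib
import Cfsg.Statements.S0347
import Cfsg.Agent.Lib.SzMain
-- import your own Cfsg.Agent.* helpers here

set_option autoImplicit false
open Cfsg

namespace Cfsg.Agent.S0347

/-- If in a finite simple Zassenhaus group the stabiliser of a point `x` has a normal `2`-subgroup `U` which is
non-abelian and acts regularly on the points other than `x`, then the group is simple of Suzuki order (order-level
predicate `IsSuzuki`). -/
theorem result {G Ω : Type*} [Group G] [Finite G] [MulAction G Ω] [Finite Ω]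
    (hZ : Cfsg.IsZassenhausGroup G Ω) [IsSimpleGroup G]
    (x : Ω) (U : Subgroup G) (hUle : U ≤ MulAction.stabilizer G x) (hUn : (U.subgroupOf (MulAction.stabilizer G x)).Normal)
    (hU2 : IsPGroup 2 U) (hUna : ∃ u v : U, u * v ≠ v * u)
    (hreg : ∀ y z : Ω, y ≠ x → z ≠ x → ∃! u : U, (u : G) • y = z) :
    Cfsg.IsSuzuki G := by
  classical
  let _ : Fintype G := Fintype.ofFinite G
  let _ : Fintype Ω := Fintype.ofFinite Ω
  have h3 := Cfsg.Agent.Lib.Zassenhaus.three_le_card hZ
  have hb : ∃ b : Ω, x ≠ b := by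
    by_contra h
    push Not at h
    have : Subsingleton Ω := ⟨fun p q => by rw [← h p, ← h q]⟩
    have h4 : Fintype.card Ω ≤ 1 := Fintype.card_le_one_iff_subsingleton.mpr this
    omega
  obtain ⟨b, hab⟩ := hb
  have hUn' : ∀ h ∈ MulAction.stabilizer G x, ∀ u ∈ U, h * u * h⁻¹ ∈ U := by
    intro h hh u hu
    have h1 : (⟨u, hUle hu⟩ : MulAction.stabilizer G x) ∈ U.subgroupOf (MulAction.stabilizer G x) := by
      rw [Subgroup.mem_subgroupOf]
      exact hu
    have h2 := hUn.conj_mem _ h1 ⟨h, hh⟩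
    rw [Subgroup.mem_subgroupOf] at h2
    exact h2
  have hUna' : ∃ u ∈ U, ∃ v ∈ U, u * v ≠ v * u := by
    obtain ⟨u, v, huv⟩ := hUna
    exact ⟨u, u.2, v, v.2, fun h => huv (Subtype.ext h)⟩
  obtain ⟨f, hodd, hf1, hq, hn, hΩ, hcyc, hH, hG, hP⟩ :=
    Cfsg.Agent.Lib.SzMain.main hZ hab U hUle hUn' hreg hU2 hUna'
  obtain ⟨m, rfl⟩ := hodd
  refine ⟨inferInstance, m, by omega, ?_⟩
  exact hG

end Cfsg.Agent.S0347
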