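import Mathlib
import Cfsg.Prelude.Def_OddOrderLocal
import Cfsg.Agent.Lib.ThreePrimes

set_option autoImplicit false
open Cfsg

namespace Cfsg.Agent.S1475

/-- Let G be a finite solvable group such that the order of every element is a prime power (1 included). Then at most two distinct primes divide the order of G. -/
theorem result {G : Type*} [Group G] [Finite G] [Group.IsSolvable G] (h : ∀ g : G, IsPrimePow (orderOf g) ∨ g = 1) :
    (Nat.card G).primeFactors.card ≤ 2 := by
  classical
  by_contra hc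
  push Not at hc
  have h3 : 2 < (Nat.card G).primeFactors.card := hc
  obtain ⟨p, hp, q, hq, r, hr, hpq, hpr, hqr⟩ := Finset.two_lt_card.mp h3
  rw [Nat.mem_primeFactors] at hp hq hr
  have key : ∀ (u v : ℕ), u.Prime → v.Prime → u ≠ v → ∀ x : G, orderOf x ≠ u * v := by
    intro u v hu hv huv x hx
    rcases h x with hpp | h1
    · rw [hx] at hpp
      have hdu : u ∣ u * v := dvd_mul_right u v
      have hdv : v ∣ u * v := dvd_mul_left v u
      rw [isPrimePow_nat_iff] at hpp
      obtain ⟨w, k, hw, hk, hwk⟩ := hpp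
      have h1 : u = w := by
        have : u ∣ w ^ k := by rw [hwk]; exact hdu
        exact (Nat.prime_dvd_prime_iff_eq hu hw).mp (hu.dvd_of_dvd_pow this)
      have h2 : v = w := by
        have : v ∣ w ^ k := by rw [hwk]; exact hdv
        exact (Nat.prime_dvd_prime_iff_eq hv hw).mp (hv.dvd_of_dvd_pow this)
      exact huv (h1.trans h2.symm)
    · rw [h1, orderOf_one] at hx
      have : 1 < u * v := Nat.one_lt_mul_iff.mpr ⟨hu.pos, hv.pos, Or.inl hu.one_lt⟩
      omega
  rcases Cfsg.Agent.Lib.ThreePrimes.exists_edge_of_solvable hp.1 hq.1 hr.1 hpq hpr hqr _ G rfl hp.2.1 hq.2.1 hr.2.1 with ⟨x, hx⟩ | ⟨x, hx⟩ | ⟨x, hx⟩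
  · exact key p q hp.1 hq.1 hpq x hx
  · exact key p r hp.1 hr.1 hpr x hx
  · exact key q r hq.1 hr.1 hqr x hx

end Cfsg.Agent.S1475
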