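import Cfsg.Statements.S2589
import Mathlib
import Cfsg.Agent.Lib.SemisimpleSp
import Cfsg.Agent.Lib.SpBasic

set_option autoImplicit false
open Cfsg

namespace Cfsg.Agent.S2589

/-- Two semisimple elements of the finite symplectic group Sp_2m(F) (elements of order prime to the characteristic) are conjugate in Sp_2m(F) if and only if they are conjugate in GL_2m(F). -/
theorem result {F : Type*} [Field F] [Fintype F] {p : ℕ} [Fact p.Prime] [CharP F p] {m : ℕ} (A B : Matrix.symplecticGroup (Fin m) F) (hA : (orderOf A).Coprime p) : IsConj A B ↔ IsConj (A : Matrix (Fin m ⊕ Fin m) (Fin m ⊕ Fin m) F) (B : Matrix (Fin m ⊕ Fin m) (Fin m ⊕ Fin m) F) := by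
  classical
  constructor
  · intro h
    let f : Matrix.symplecticGroup (Fin m) F →* Matrix (Fin m ⊕ Fin m) (Fin m ⊕ Fin m) F :=
      Submonoid.subtype _
    exact f.map_isConj h
  · rintro ⟨c, hc⟩
    have hab : (c : Matrix (Fin m ⊕ Fin m) (Fin m ⊕ Fin m) F) * (A : Matrix (Fin m ⊕ Fin m) (Fin m ⊕ Fin m) F) =
        (B : Matrix (Fin m ⊕ Fin m) (Fin m ⊕ Fin m) F) * c := hc
    have hk : (A : Matrix (Fin m ⊕ Fin m) (Fin m ⊕ Fin m) F) ^ orderOf A = 1 := by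
      let f : Matrix.symplecticGroup (Fin m) F →* Matrix (Fin m ⊕ Fin m) (Fin m ⊕ Fin m) F :=
        Submonoid.subtype _
      have h1 : f (A ^ orderOf A) = 1 := by rw [pow_orderOf_eq_one, map_one]
      rw [map_pow] at h1
      exact h1
    have hG : Cfsg.Agent.Lib.SemisimpleConj.IsGram (Matrix.J (Fin m) F) (-Matrix.J (Fin m) F) (-1 : F) := by
      refine ⟨?_, ?_, ?_, by ring⟩
      · rw [mul_neg, Matrix.J_squared, neg_neg]
      · rw [neg_mul, Matrix.J_squared, neg_neg]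
      · rw [Matrix.J_transpose, neg_smul, one_smul]
    obtain ⟨g, hg1, hg2⟩ := Cfsg.Agent.Lib.SemisimpleSp.sp_conj (p := p) hG
      (fun v => Cfsg.Agent.Lib.SpBasic.ω_self v)
      (a := (A : Matrix (Fin m ⊕ Fin m) (Fin m ⊕ Fin m) F))
      (b := (B : Matrix (Fin m ⊕ Fin m) (Fin m ⊕ Fin m) F))
      (c := c) (c' := ((c⁻¹ : (Matrix (Fin m ⊕ Fin m) (Fin m ⊕ Fin m) F)ˣ) : Matrix (Fin m ⊕ Fin m) (Fin m ⊕ Fin m) F))
      (fun u v => Cfsg.Agent.Lib.SpBasic.mem_symplecticGroup_iff.mp A.2 u v)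
      (fun u v => Cfsg.Agent.Lib.SpBasic.mem_symplecticGroup_iff.mp B.2 u v)
      (Units.mul_inv c) (Units.inv_mul c) hab hk hA
    obtain ⟨γ, hγ⟩ : ∃ γ : Matrix (Fin m ⊕ Fin m) (Fin m ⊕ Fin m) F, ∀ v, γ.mulVec v = g v :=
      ⟨LinearMap.toMatrix' g.toLinearMap, fun v => by rw [LinearMap.toMatrix'_mulVec]; rfl⟩
    have hγm : γ ∈ Matrix.symplecticGroup (Fin m) F := Cfsg.Agent.Lib.SpBasic.mem_symplecticGroup_iff.mpr fun x y => by
      rw [hγ, hγ]
      exact hg1 x y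
    refine isConj_iff.mpr ⟨⟨γ, hγm⟩, ?_⟩
    rw [mul_inv_eq_iff_eq_mul]
    apply Subtype.ext
    show γ * (A : Matrix (Fin m ⊕ Fin m) (Fin m ⊕ Fin m) F) = (B : Matrix (Fin m ⊕ Fin m) (Fin m ⊕ Fin m) F) * γ
    apply Matrix.mulVec_injective
    funext v
    rw [← Matrix.mulVec_mulVec, ← Matrix.mulVec_mulVec, hγ, hγ]
    exact hg2 v

end Cfsg.Agent.S2589
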