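import Mathlib
import Cfsg.Statements.S0118
import Cfsg.Agent.Lib.QdFree
import Cfsg.Agent.Lib.ZJe

set_option autoImplicit false
open Cfsg

namespace Cfsg.Agent.S0118

open Cfsg.Agent.Lib.PCore Cfsg.Agent.Lib.ZJCore Cfsg.Agent.Lib.ZJCore2 Cfsg.Agent.Lib.ZJCore3
open Cfsg.Agent.Lib.ZJStrong Cfsg.Agent.Lib.AlperinControl Cfsg.Agent.Lib.PConstr63
open Cfsg.Agent.Lib.ZJControl Cfsg.Agent.Lib.PPrimeP Cfsg.Agent.Lib.ZJSecBasic Cfsg.Agent.Lib.ZJSection
open Cfsg.Agent.Lib.QdFree Cfsg.Agent.Lib.ZJe Cfsg.Agent.Lib.InvolvesAPI Cfsg.Agent.Lib.QdSection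

set_option linter.unusedSectionVars false
set_option linter.unusedVariables false

universe u

section Basic

variable {G : Type u} [Group G] [Finite G] {p : ℕ} [hpp : Fact p.Prime]

theorem ZT_le (T : Subgroup G) : centerThompsonOf p T ≤ T :=
  inf_le_left.trans (Subgroup.map_subtype_le _)

theorem ZT_cj (g : G) (T : Subgroup G) : centerThompsonOf p (cj g T) = cj g (centerThompsonOf p T) :=
  (map_centerThompsonOf (p := p) (MulAut.conj g).toMonoidHom T
    (fun x _ h => by simpa using h)).symm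

theorem mem_NN_ZT_of_NN {T : Subgroup G} {g : G} (hg : g ∈ NN T) : g ∈ NN (centerThompsonOf p T) := by
  apply mem_NN_of_forall
  intro x hx
  have h1 := ZT_cj (p := p) g T
  rw [cj_eq_of_mem_NN hg] at h1
  rw [h1]
  exact conj_mem_cj hx

theorem ZT_ne_bot {T : Subgroup G} (hT : IsPGroup p T) (hne : T ≠ ⊥) : centerThompsonOf p T ≠ ⊥ := by
  intro h
  have h1 := WW_ne_bot (p := p) (e := p) (dvd_refl p) hT hne
  rw [WW_prime_eq T hT] at h1
  apply h1
  rw [eq_bot_iff]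
  unfold Cfsg.omegaOne
  rw [Subgroup.closure_le]
  rintro x ⟨hx, _⟩
  rw [h] at hx
  exact hx

end Basic

section Mod

open Cfsg.Agent.Lib.SylowConjLemmas

variable {L : Type*} [Group L] [Finite L] {p : ℕ} [hpp : Fact p.Prime]

/-- The ZJ-theorem modulo `O_{p'}`, for a `p`-constrained normalizer-`p`-stable group. -/
theorem zj_e_mod (hp : p ≠ 2) (P : Sylow p L) (hst : IsNormalizerPStable p L) (hcon : IsPConstrained p L)
    (g : L) : ∃ o ∈ pPrimeCore p L, o * g ∈ NN (centerThompsonOf p (P : Subgroup L)) := by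
  set O := pPrimeCore p L with hO
  let π : L →* L ⧸ O := QuotientGroup.mk' O
  have hπ : Function.Surjective π := QuotientGroup.mk'_surjective O
  let Pb : Sylow p (L ⧸ O) := P.mapSurjective hπ
  have hPb : (Pb : Subgroup (L ⧸ O)) = (P : Subgroup L).map π := Sylow.coe_mapSurjective _ _
  have hDp : IsPGroup p (P : Subgroup L) := P.isPGroup'
  have hinjD := inj_mk_of_pgroup hDp
  have hCC : Subgroup.centralizer (pCore p (L ⧸ O) : Set (L ⧸ O)) ≤ pCore p (L ⧸ O) :=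
    isPConstrained_iff.mp hcon
  have hstb : ∀ (V : Subgroup (L ⧸ O)) [V.Normal], IsPGroup p V → IsPStableOn p V :=
    fun V _ hV => isPStableOn_quot hst P V hV
  have hnorm : (centerThompsonOf p (Pb : Subgroup (L ⧸ O))).Normal := zj_e_normal hp Pb hCC hstb
  have hmap : (centerThompsonOf p (P : Subgroup L)).map π = centerThompsonOf p (Pb : Subgroup (L ⧸ O)) := by
    rw [hPb]
    refine map_centerThompsonOf π _ ?_
    intro x hx h1
    exact hinjD x hx 1 (Subgroup.one_mem _) (by rw [map_one]; exact h1)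
  set W := centerThompsonOf p (P : Subgroup L) with hW
  have hWD : W ≤ (P : Subgroup L) := ZT_le _
  have hWp : IsPGroup p W := hDp.to_le hWD
  have h1 : ∀ t ∈ W, g * t * g⁻¹ ∈ W ⊔ O := by
    intro t ht
    have h2 : π (g * t * g⁻¹) ∈ centerThompsonOf p (Pb : Subgroup (L ⧸ O)) := by
      have h3 : π t ∈ centerThompsonOf p (Pb : Subgroup (L ⧸ O)) := by
        rw [← hmap]; exact ⟨t, ht, rfl⟩
      have h4 := hnorm.conj_mem _ h3 (π g)
      simpa [map_mul, map_inv] using h4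
    rw [← hmap] at h2
    obtain ⟨v, hv, hvt⟩ := h2
    have h5 : v⁻¹ * (g * t * g⁻¹) ∈ O := QuotientGroup.eq.mp hvt
    have h6 : g * t * g⁻¹ = v * (v⁻¹ * (g * t * g⁻¹)) := by group
    rw [h6]
    exact Subgroup.mul_mem_sup hv h5
  obtain ⟨o, ho, hoo⟩ := exists_adjust W hWp g h1
  exact ⟨o, ho, mem_NN_of_forall hoo⟩

end Mod

section Main

variable {p : ℕ} [hpp : Fact p.Prime]

/-- The `p`-constrained case. -/
theorem agrees_of_constrained_Z {G : Type*} [Group G] [Finite G] (hp : p ≠ 2) (hst : IsNormalizerPStable p G)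
    {H T : Subgroup G} (hT : IsSyl p T H) (hcon : IsPConstrained p ↥H) {Q : Subgroup G} (hQ : Q ≤ T)
    {g : G} (hg : g ∈ H) (hgQ : cj g Q ≤ T) : Agrees (H ⊓ NN (centerThompsonOf p T)) Q g := by
  have hstL : IsNormalizerPStable p ↥H := Cfsg.Agent.S3836.result hst H
  obtain ⟨S, hS⟩ := hT.sylow_exists
  have hmap : (centerThompsonOf p (S : Subgroup ↥H)).map H.subtype = centerThompsonOf p T := by
    rw [map_centerThompsonOf (p := p) H.subtype _ (fun x _ h => H.subtype_injective (by simpa using h))]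
    congr 1
    rw [hS]
    exact Subgroup.map_subgroupOf_eq_of_le hT.le
  have hNNtrans : ∀ x : ↥H, x ∈ NN (centerThompsonOf p (S : Subgroup ↥H)) → (x : G) ∈ NN (centerThompsonOf p T) := by
    intro x hx
    apply mem_NN_of_forall
    intro y hy
    rw [← hmap] at hy ⊢
    obtain ⟨y₀, hy₀, rfl⟩ := hy
    exact ⟨_, conj_mem_of_mem_NN hx hy₀, rfl⟩
  have hSX : (S : Subgroup ↥H) ≤ NN (centerThompsonOf p (S : Subgroup ↥H)) :=
    fun s hs => mem_NN_ZT_of_NN (Subgroup.le_normalizer hs)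
  have hfac := zj_e_mod hp S hstL hcon
  have hQ' : Q.subgroupOf H ≤ (S : Subgroup ↥H) := by
    rw [hS]
    intro x hx
    exact hQ hx
  have hg' : cj (⟨g, hg⟩ : ↥H) (Q.subgroupOf H) ≤ (S : Subgroup ↥H) := by
    rw [hS]
    rintro _ ⟨a, ha, rfl⟩
    exact hgQ ⟨_, ha, rfl⟩
  obtain ⟨x, hx, hxa⟩ := agree_of_factor (O := pPrimeCore p ↥H) (card_pPrimeCore_coprime p)
    (isSyl_of_sylow S) hSX hfac hQ' ⟨g, hg⟩ hg'
  refine ⟨x, ⟨x.2, hNNtrans x hx⟩, ?_⟩
  intro a ha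
  have hQH : Q ≤ H := hQ.trans hT.le
  have h1 := hxa ⟨a, hQH ha⟩ ha
  exact congrArg Subtype.val h1

/-- The statement proved by induction. -/
def ClaimZ {p : ℕ} (G : Type u) [Group G] (n : ℕ) : Prop :=
  ∀ H : Subgroup G, Nat.card H = n → ∀ T, IsSyl p T H → ∀ Q ≤ T, ∀ h ∈ H, cj h Q ≤ T →
    Agrees (H ⊓ NN (centerThompsonOf p T)) Q h

/-- The case `O_p(H) ≠ 1` of the induction step. -/
theorem case_core' (hp : p ≠ 2) {G : Type u} [Group G] [Finite G] (hSt : ¬ Involves (↥(Cfsg.qd p)) G)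
    {n : ℕ} {H : Subgroup G}
    (hn : Nat.card H = n) {T : Subgroup G} (hT : IsSyl p T H)
    (hcon : ¬ IsPConstrained p ↥H) (hcore : ¬ pCore p ↥H = ⊥)
    (ih : ∀ m, m < n → ClaimZ (p := p) G m) :
    ∀ Q ≤ T, ∀ h ∈ H, cj h Q ≤ T → Agrees (H ⊓ NN (centerThompsonOf p T)) Q h := by
  classical
  set W := centerThompsonOf p T with hW
  have hTW : T ≤ NN W := fun t ht => mem_NN_ZT_of_NN (Subgroup.le_normalizer ht)
  -- pass to `↥H`
  let TL : Subgroup H := T.subgroupOf H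
  let WL : Subgroup H := W.subgroupOf H
  have hmapT : TL.map H.subtype = T := Subgroup.map_subgroupOf_eq_of_le hT.le
  have hTL : IsSyl p TL (⊤ : Subgroup H) := by
    obtain ⟨S, hS'⟩ := hT.sylow_exists
    have := isSyl_of_sylow S
    rwa [hS'] at this
  have hTLW : TL ≤ NN WL := by
    intro t ht
    apply mem_NN_of_forall
    intro x hx
    rw [Subgroup.mem_subgroupOf] at hx ⊢
    exact conj_mem_of_mem_NN (hTW ht) hx
  have hSylOf : ∀ Y : Subgroup G, Y ≤ H → T ≤ Y → IsSyl p T Y := by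
    intro Y hYH hTY
    obtain ⟨T₂, hT₂, hTT₂⟩ := exists_isSyl_ge hTY hT.pgrp
    have := hT.eq_of_le (hT₂.le.trans hYH) hT₂.pgrp hTT₂
    rwa [this] at hT₂
  have ihsub : ∀ Y : Subgroup H, Y ≠ ⊤ → TL ≤ Y → ∀ Q ≤ TL, ∀ y ∈ Y, cj y Q ≤ TL → Agrees (NN WL) Q y := by
    intro Y hY hTY Q hQ y hy hcj
    set Y' := Y.map H.subtype with hY'
    have hY'H : Y' ≤ H := Subgroup.map_subtype_le Y
    have hTY' : T ≤ Y' := by
      intro t ht
      exact ⟨⟨t, hT.le ht⟩, hTY ht, rfl⟩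
    have hcard : Nat.card Y' < n := by
      rw [← hn, hY', Subgroup.card_map_of_injective H.subtype_injective]
      have := card_lt_of_lt (lt_top_iff_ne_top.mpr hY)
      rwa [Subgroup.card_top] at this
    have hQ' : Q.map H.subtype ≤ T := by
      rw [← hmapT]
      exact Subgroup.map_mono hQ
    have hcj' : cj (y : G) (Q.map H.subtype) ≤ T := by
      rintro _ ⟨_, ⟨a, ha, rfl⟩, rfl⟩
      have h1 : y * a * y⁻¹ ∈ TL := hcj (conj_mem_cj ha)
      exact h1
    obtain ⟨x, hx, hxa⟩ := ih _ hcard Y' rfl T (hSylOf Y' hY'H hTY') _ hQ' (y : G) ⟨y, hy, rfl⟩ hcj'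
    obtain ⟨xL, hxL, rfl⟩ := hx.1
    refine ⟨xL, ?_, ?_⟩
    · apply mem_NN_of_forall
      intro w hw
      rw [Subgroup.mem_subgroupOf] at hw ⊢
      exact conj_mem_of_mem_NN hx.2 hw
    · intro a ha
      apply Subtype.ext
      exact hxa a ⟨a, ha, rfl⟩
  have hSH : ¬ Involves (↥(Cfsg.qd p)) ↥H := (stableClass hp).sub G H hSt
  have ihquot : ∀ (V : Subgroup H) [V.Normal], V ≠ ⊥ → IsPGroup p V → ∀ 𝒟' : Set (H ⧸ V), FSet p 𝒟' →
       ∀ H' T' : Subgroup (H ⧸ V), IsSyl p T' H' → ∀ Q' ≤ T', ∀ h' ∈ H', cj h' Q' ≤ T' →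
        Agrees (H' ⊓ NN (WT p 𝒟' T')) Q' h' := by
    intro V _ hV1 _ 𝒟' h𝒟' H' T' hT' Q' hQ' h' hh' hcj
    exact control_sec hp (dvd_refl p) (stableClass hp) _ (H ⧸ V) ((stableClass hp).quot _ V hSH) 𝒟' h𝒟' H' rfl T' hT' Q' hQ' h' hh' hcj
  have key := new_case (dvd_refl p) hTL hTLW hcore hcon ihsub ihquot
  intro Q hQ h hh hcj
  let QL : Subgroup H := Q.subgroupOf H
  have hQH : Q ≤ H := hQ.trans hT.le
  have hQL : QL ≤ TL := fun x hx => hQ hx
  have hcjL : cj (⟨h, hh⟩ : H) QL ≤ TL := by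
    rintro _ ⟨a, ha, rfl⟩
    exact hcj ⟨_, ha, rfl⟩
  obtain ⟨x, hx, hxa⟩ := key QL hQL ⟨h, hh⟩ trivial hcjL
  refine ⟨x, ⟨x.2, ?_⟩, ?_⟩
  · apply mem_NN_of_forall
    intro w hw
    have hWT : W ≤ T := ZT_le T
    have hwH : w ∈ H := hT.le (hWT hw)
    have h1 := conj_mem_of_mem_NN hx (a := ⟨w, hwH⟩) hw
    exact h1
  · intro a ha
    have h1 := hxa ⟨a, hQH ha⟩ ha
    exact congrArg Subtype.val h1


/-- **Main theorem**: `N_H(Z(J_e(T)))` controls strong `H`-fusion in `T`. -/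
theorem control_Z (hp : p ≠ 2) {G : Type u} [Group G] [Finite G] (hSt : ¬ Involves (↥(Cfsg.qd p)) G) :
    ∀ n : ℕ, ClaimZ (p := p) G n := by
  intro n
  induction n using Nat.strong_induction_on with
  | _ n ih =>
  intro H hn T hT
  have hst : IsNormalizerPStable p G := (stableClass hp).stable G hSt
  by_cases hcon : IsPConstrained p ↥H
  · intro Q hQ h hh hhQ
    exact agrees_of_constrained_Z hp hst hT hcon hQ hh hhQ
  by_cases hcore : pCore p ↥H = ⊥
  swap
  · -- the case `O_p(H) ≠ 1`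
    exact case_core' hp hSt hn hT hcon hcore (fun m hm => ih m hm)
  have hlt : ∀ V ≤ H, V ≠ ⊥ → IsPGroup p V → Nat.card ↥(H ⊓ NN V) < Nat.card H := by
    intro V hV hV1 hVp
    by_contra hcon2
    have h1 : H ⊓ NN V = H := Subgroup.eq_of_le_of_card_ge inf_le_left (not_lt.mp hcon2)
    have h2 : H ≤ NN V := by
      rw [← h1]; exact inf_le_right
    have hn' : (V.subgroupOf H).Normal := by
      constructor
      intro x hx g
      rw [Subgroup.mem_subgroupOf] at hx ⊢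
      exact conj_mem_of_mem_NN (h2 g.2) hx
    have hp' : IsPGroup p (V.subgroupOf H) := hVp.comap_of_injective H.subtype H.subtype_injective
    have h3 := le_pCore hn' hp'
    rw [hcore] at h3
    apply hV1
    rw [eq_bot_iff]
    intro x hx
    have h4 : (⟨x, hV hx⟩ : H) ∈ V.subgroupOf H := hx
    have h5 := h3 h4
    rw [Subgroup.mem_bot] at h5
    simpa using congrArg Subtype.val h5
  apply alperin_control hT
  intro Q hQ htm IH g hg
  by_cases hQ0 : Q = ⊥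
  · refine ⟨1, Subgroup.one_mem _, ?_⟩
    intro a ha
    rw [hQ0, Subgroup.mem_bot] at ha
    rw [ha]
    simp
  by_cases hQT : Q = T
  · subst hQT
    exact Agrees.of_mem ⟨hg.1, mem_NN_ZT_of_NN hg.2⟩
  have hQlt : Q < T := lt_of_le_of_ne hQ hQT
  have hQR : Q < T ⊓ NN Q := lt_inf_NN hT.pgrp hQlt
  set R := T ⊓ NN Q with hR
  have hQH : Q ≤ H := hQ.trans hT.le
  have hQp : IsPGroup p Q := hT.pgrp.to_le hQ
  have hcH₁ := hlt Q hQH hQ0 hQp
  have hgQ : cj g Q = Q := cj_eq_of_mem_NN hg.2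
  obtain ⟨n₀, hn₀, hn₀a⟩ := ih _ (by omega) (H ⊓ NN Q) rfl R htm Q hQR.le g hg
    (by rw [hgQ]; exact hQR.le)
  have hDof' : ∀ T' : Subgroup G, R ≤ T' → IsPGroup p T' → centerThompsonOf p T' ≠ ⊥ := by
    intro T' hRT' hT'p
    apply ZT_ne_bot hT'p
    intro h
    apply hQ0
    rw [eq_bot_iff, ← h]
    exact hQR.le.trans hRT'
  have hRcard : Nat.card Q < Nat.card R := by
    refine lt_of_le_of_ne (Subgroup.card_le_of_le hQR.le) fun he' => ?_
    exact hQR.ne (Subgroup.eq_of_le_of_card_ge hQR.le he'.ge)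
  -- climbing up
  have climb : ∀ m : ℕ, ∀ T' : Subgroup G, Nat.card H - Nat.card T' = m → T' ≤ H → IsPGroup p T' → R ≤ T' →
      ∀ n ∈ (H ⊓ NN Q) ⊓ NN (centerThompsonOf p T'), Agrees (H ⊓ NN (centerThompsonOf p T)) Q n := by
    intro m
    induction m using Nat.strong_induction_on with
    | _ m ihm =>
    intro T' hm hT'H hT'p hRT' n hn
    obtain ⟨T'', hT'', hT'T''⟩ := exists_isSyl_ge hT'H hT'p
    by_cases hTT : T' = T''
    · -- `T'` is Sylow in `H`
      subst hTT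
      obtain ⟨k, hk, hkT⟩ := hT.exists_eq_cj hT''
      have hQ₁ : cj k⁻¹ R ≤ T := by
        apply cj_le_iff.mpr
        intro a ha
        have h1 := hRT' ha
        rw [hkT] at h1
        have h2 := mem_cj.mp h1
        simpa using h2
      have hcardQ₁ : Nat.card Q < Nat.card (cj k⁻¹ R) := by rwa [card_cj]
      have hcj : cj k (cj k⁻¹ R) ≤ T := by
        rw [← cj_mul]
        simp only [mul_inv_cancel, cj_one]
        exact inf_le_left
      obtain ⟨y, hy, hya⟩ := IH _ hQ₁ hcardQ₁ k hk hcj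
      have hn₀' : k⁻¹ * n * k ∈ H ⊓ NN (centerThompsonOf p T) := by
        refine ⟨H.mul_mem (H.mul_mem (H.inv_mem hk) hn.1.1) hk, ?_⟩
        have h1 : n ∈ NN (centerThompsonOf p T') := hn.2
        rw [hkT, ZT_cj, ← cj_NN] at h1
        exact mem_cj.mp h1
      refine ⟨y * (k⁻¹ * n * k) * y⁻¹, Subgroup.mul_mem _ (Subgroup.mul_mem _ hy hn₀') (Subgroup.inv_mem _ hy), ?_⟩
      intro a ha
      have ha₀ : k⁻¹ * a * k⁻¹⁻¹ ∈ cj k⁻¹ R := conj_mem_cj (hQR.le ha)
      have h1 := hya _ ha₀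
      have h2 : y * (k⁻¹ * a * k) * y⁻¹ = a := by
        have e1 : k⁻¹ * a * k⁻¹⁻¹ = k⁻¹ * a * k := by group
        rw [e1] at h1
        rw [h1]; group
      have hna : n * a * n⁻¹ ∈ Q := conj_mem_of_mem_NN hn.1.2 ha
      have ha₁ : k⁻¹ * (n * a * n⁻¹) * k⁻¹⁻¹ ∈ cj k⁻¹ R := conj_mem_cj (hQR.le hna)
      have h3 := hya _ ha₁
      have h4 : y * (k⁻¹ * (n * a * n⁻¹) * k) * y⁻¹ = n * a * n⁻¹ := by
        have e1 : k⁻¹ * (n * a * n⁻¹) * k⁻¹⁻¹ = k⁻¹ * (n * a * n⁻¹) * k := by group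
        rw [e1] at h3
        rw [h3]; group
      have h5 : y⁻¹ * a * y = k⁻¹ * a * k := by
        nth_rewrite 1 [← h2]; group
      calc y * (k⁻¹ * n * k) * y⁻¹ * a * (y * (k⁻¹ * n * k) * y⁻¹)⁻¹
          = y * (k⁻¹ * n * k) * (y⁻¹ * a * y) * (k⁻¹ * n * k)⁻¹ * y⁻¹ := by group
        _ = y * (k⁻¹ * n * k) * (k⁻¹ * a * k) * (k⁻¹ * n * k)⁻¹ * y⁻¹ := by rw [h5]
        _ = y * (k⁻¹ * (n * a * n⁻¹) * k) * y⁻¹ := by group
        _ = n * a * n⁻¹ := h4
    · -- climb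
      have hlt' : T' < T'' := lt_of_le_of_ne hT'T'' hTT
      have hgrow : T' < T'' ⊓ NN T' := lt_inf_NN hT''.pgrp hlt'
      set T₂' := T'' ⊓ NN T' with hT₂'
      have hT₂'p : IsPGroup p T₂' := hT''.pgrp.to_le inf_le_left
      have hW1 := hDof' T' hRT' hT'p
      have hWp : IsPGroup p (centerThompsonOf p T') := hT'p.to_le (ZT_le T')
      have hWH : centerThompsonOf p T' ≤ H := (ZT_le T').trans hT'H
      have hT₂'Y : T₂' ≤ H ⊓ NN (centerThompsonOf p T') := by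
        refine le_inf (inf_le_left.trans hT''.le) ?_
        intro x hx
        exact mem_NN_ZT_of_NN hx.2
      obtain ⟨T₂, hT₂, hT₂T₂⟩ := exists_isSyl_ge hT₂'Y hT₂'p
      have hYlt := hlt _ hWH hW1 hWp
      have hRT₂ : R ≤ T₂ := hRT'.trans (hgrow.le.trans hT₂T₂)
      have hQT₂ : Q ≤ T₂ := hQR.le.trans hRT₂
      have hnQ : cj n Q = Q := cj_eq_of_mem_NN hn.1.2
      obtain ⟨n', hn', hn'a⟩ := ih _ (by omega) _ rfl T₂ hT₂ Q hQT₂ n ⟨hn.1.1, hn.2⟩
        (by rw [hnQ]; exact hQT₂)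
      have hn'Q : n' ∈ NN Q := by
        apply mem_NN_of_forall
        intro a ha
        rw [hn'a a ha]
        exact conj_mem_of_mem_NN hn.1.2 ha
      have hT₂H : T₂ ≤ H := hT₂.le.trans inf_le_left
      have hcardT : Nat.card T' < Nat.card T₂ := by
        have hlt₂ : T' < T₂ := lt_of_lt_of_le hgrow hT₂T₂
        refine lt_of_le_of_ne (Subgroup.card_le_of_le hlt₂.le) fun he' => ?_
        exact hlt₂.ne (Subgroup.eq_of_le_of_card_ge hlt₂.le he'.ge)
      have hcardH : Nat.card T₂ ≤ Nat.card H := Subgroup.card_le_of_le hT₂H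
      obtain ⟨x, hx, hxa⟩ := ihm (Nat.card H - Nat.card T₂) (by omega) T₂ rfl hT₂H hT₂.pgrp hRT₂ n'
        ⟨⟨hn'.1.1, hn'Q⟩, hn'.2⟩
      exact ⟨x, hx, fun a ha => (hxa a ha).trans (hn'a a ha)⟩
  obtain ⟨x, hx, hxa⟩ := climb _ R rfl (inf_le_left.trans hT.le) (hT.pgrp.to_le inf_le_left) le_rfl n₀
    ⟨⟨hn₀.1.1, hn₀.1.2⟩, hn₀.2⟩
  exact ⟨x, hx, fun a ha => (hxa a ha).trans (hn₀a a ha)⟩


/-- A `Qd(p)` section gives an `SL₂(p)` section. -/
theorem not_involves_of_free {G : Type u} [Group G]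
    (hfree : ¬ ∃ (H K : Subgroup G) (hK : (K.subgroupOf H).Normal),
      Nonempty ((H ⧸ K.subgroupOf H) ≃* Matrix.SpecialLinearGroup (Fin 2) (ZMod p))) :
    ¬ Involves (↥(Cfsg.qd p)) G := by
  intro hi
  obtain ⟨K₀, f, hf⟩ := exists_surj_of_involves hi
  -- the linear part of an affine matrix
  have hinjA : ∀ (A B : SL2 p) (v w : Fin 2 → ZMod p), aff A v = aff B w → A = B := by
    intro A B v w h
    have h1 := congrArg (fun M : ↥(Cfsg.qd p) => ((M : Matrix.SpecialLinearGroup (Fin 3) (ZMod p)) : Matrix (Fin 3) (Fin 3) (ZMod p))) h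
    simp only [aff_coe] at h1
    apply Subtype.ext
    ext i j
    fin_cases i <;> fin_cases j
    · simpa using congrFun (congrFun h1 0) 0
    · simpa using congrFun (congrFun h1 0) 1
    · simpa using congrFun (congrFun h1 1) 0
    · simpa using congrFun (congrFun h1 1) 1
  choose α v hαv using (aff_surj (p := p))
  let σ : ↥(Cfsg.qd p) →* SL2 p := MonoidHom.mk' α (by
    intro a b
    have h1 : aff (α a * α b) (v a + ((α a : SL2 p) : Matrix (Fin 2) (Fin 2) (ZMod p)).mulVec (v b)) = aff (α (a * b)) (v (a * b)) := by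
      rw [← aff_mul, hαv, hαv, hαv]
    exact (hinjA _ _ _ _ h1).symm)
  have hσ : Function.Surjective σ := by
    intro A
    refine ⟨aff A 0, ?_⟩
    exact hinjA _ _ _ _ (hαv (aff A 0))
  let F : K₀ →* SL2 p := σ.comp f
  have hF : Function.Surjective F := hσ.comp hf
  apply hfree
  have h : (F.ker.map K₀.subtype).subgroupOf K₀ = F.ker :=
    Subgroup.comap_map_eq_self_of_injective K₀.subtype_injective _
  haveI hn : ((F.ker.map K₀.subtype).subgroupOf K₀).Normal := by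
    rw [h]
    infer_instance
  exact ⟨K₀, F.ker.map K₀.subtype, hn,
    ⟨(QuotientGroup.quotientMulEquivOfEq h).trans (QuotientGroup.quotientKerEquivOfSurjective F hF)⟩⟩

end Main

/-- Glauberman's ZJ-Theorem, in the case of groups with no section isomorphic to SL(2,p), p odd: conjugation of subsets of a Sylow p-subgroup P inside P is always induced from the normalizer of Z(J(P)). -/
theorem result {G : Type*} [Group G] [Finite G] {p : ℕ} [Fact p.Prime] (hp : p ≠ 2) (hfree : ¬ ∃ (H K : Subgroup G) (hK : (K.subgroupOf H).Normal), Nonempty ((H ⧸ K.subgroupOf H) ≃* Matrix.SpecialLinearGroup (Fin 2) (ZMod p))) (P : Sylow p G) (A : Set G) (hA : A ⊆ (P : Set G)) (g : G) (hAg : (fun a => g⁻¹ * a * g) '' A ⊆ (P : Set G)) : ∃ n ∈ Subgroup.normalizer (Cfsg.centerThompsonOf p (P : Subgroup G) : Set G), ∀ a ∈ A, n⁻¹ * a * n = g⁻¹ * a * g := by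
  have hSt := not_involves_of_free hfree
  have hQ : Subgroup.closure A ≤ (P : Subgroup G) := (Subgroup.closure_le _).mpr hA
  have hgQ : cj g⁻¹ (Subgroup.closure A) ≤ (P : Subgroup G) := by
    show (Subgroup.closure A).map _ ≤ _
    rw [MonoidHom.map_closure, Subgroup.closure_le]
    rintro _ ⟨a, ha, rfl⟩
    have := hAg ⟨a, ha, rfl⟩
    simpa using this
  obtain ⟨x, hx, hxa⟩ := control_Z hp hSt _ ⊤ rfl _ (isSyl_of_sylow P) _ hQ g⁻¹ trivial hgQ
  refine ⟨x⁻¹, Subgroup.inv_mem _ hx.2, ?_⟩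
  intro a ha
  have := hxa a (Subgroup.subset_closure ha)
  simpa using this

end Cfsg.Agent.S0118
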