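import Mathlib
import Cfsg.Statements.S2301

set_option autoImplicit false
open Cfsg

namespace Cfsg.Agent.S2301

open Matrix

variable {F : Type*} [Field F]

local notation "SL2" => Matrix.SpecialLinearGroup (Fin 2) F

theorem sl2_form (g : SL2) : ∃ a b c d : F, (g : Matrix (Fin 2) (Fin 2) F) = !![a, b; c, d] ∧
    a * d - b * c = 1 := by
  refine ⟨_, _, _, _, Matrix.eta_fin_two _, ?_⟩
  have := g.2
  rwa [Matrix.det_fin_two] at this

/-- An explicit element of SL₂. -/
def mkSL (a b c d : F) (h : a * d - b * c = 1) : SL2 :=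
  ⟨!![a, b; c, d], by rw [Matrix.det_fin_two_of]; exact h⟩

@[simp] theorem coe_mkSL (a b c d : F) (h : a * d - b * c = 1) :
    ((mkSL a b c d h : SL2) : Matrix (Fin 2) (Fin 2) F) = !![a, b; c, d] := rfl

/-- The upper unitriangular element. -/
def uu (b : F) : SL2 := mkSL 1 b 0 1 (by ring)

/-- The trace. -/
def tr (x : SL2) : F := (x : Matrix (Fin 2) (Fin 2) F) 0 0 + (x : Matrix (Fin 2) (Fin 2) F) 1 1

open Classical in
/-- The invariant. -/
noncomputable def tt (x : SL2) : F :=
  if (x : Matrix (Fin 2) (Fin 2) F) 0 1 ≠ 0 then (x : Matrix (Fin 2) (Fin 2) F) 0 1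
  else -(x : Matrix (Fin 2) (Fin 2) F) 1 0

theorem isConj_uu_iff {b b' : F} (hb : b ≠ 0) (hb' : b' ≠ 0) :
    IsConj (uu b) (uu b') ↔ IsSquare (b * b') := by
  rw [isConj_iff]
  constructor
  · rintro ⟨P, hP⟩
    rw [mul_inv_eq_iff_eq_mul] at hP
    obtain ⟨α, β, γ, δ, hform, hdet⟩ := sl2_form P
    have hm := congrArg (fun x : SL2 => (x : Matrix (Fin 2) (Fin 2) F)) hP
    simp only [Matrix.SpecialLinearGroup.coe_mul, hform, uu, coe_mkSL] at hm
    have e00 := congrFun (congrFun hm 0) 0
    have e01 := congrFun (congrFun hm 0) 1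
    simp [Matrix.mul_apply, Fin.sum_univ_two] at e00 e01
    have hγ : γ = 0 := by
      rcases e00 with h | h
      · exact absurd h hb'
      · exact h
    subst hγ
    have hαδ : α * δ = 1 := by simpa using hdet
    have hb'e : b' = α * b * α := by
      have h3 : α * b = b' * δ := by linear_combination e01
      calc b' = b' * (α * δ) := by rw [hαδ]; ring
        _ = α * (b' * δ) := by ring
        _ = _ := by rw [h3]; ring
    refine ⟨α * b, ?_⟩
    rw [hb'e]
    ring
  · rintro ⟨s, hs⟩
    have hs0 : s ≠ 0 := by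
      rintro rfl
      simp at hs
      tauto
    refine ⟨mkSL (s / b) 0 0 (b / s) (by field_simp; ring), ?_⟩
    rw [mul_inv_eq_iff_eq_mul]
    apply Subtype.ext
    simp only [Matrix.SpecialLinearGroup.coe_mul, uu, coe_mkSL]
    ext i j
    fin_cases i <;> fin_cases j <;> simp [Matrix.mul_apply, Fin.sum_univ_two]
    · field_simp
      linear_combination -hs

theorem entries (x : SL2) (a b c d : F) (hx : (x : Matrix (Fin 2) (Fin 2) F) = !![a, b; c, d]) (ht : tr x = 2)
    (hdet : a * d - b * c = 1) : d = 2 - a ∧ (a - 1) ^ 2 + b * c = 0 := by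
  have h : a + d = 2 := by
    simpa [tr, hx] using ht
  have hd : d = 2 - a := by linear_combination h
  refine ⟨hd, ?_⟩
  rw [hd] at hdet
  linear_combination -hdet

theorem eq_one_of (x : SL2) (a b c d : F) (hx : (x : Matrix (Fin 2) (Fin 2) F) = !![a, b; c, d])
    (ha : a = 1) (hb : b = 0) (hc : c = 0) (hd : d = 1) : x = 1 := by
  apply Subtype.ext
  rw [hx, ha, hb, hc, hd]
  ext i j
  fin_cases i <;> fin_cases j <;> simp

theorem tt_of_ne (x : SL2) {a b c d : F} (hform : (x : Matrix (Fin 2) (Fin 2) F) = !![a, b; c, d])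
    (hb : b ≠ 0) : tt x = b := by
  simp [tt, hform, hb]

theorem tt_of_eq (x : SL2) {a c d : F} (hform : (x : Matrix (Fin 2) (Fin 2) F) = !![a, 0; c, d]) :
    tt x = -c := by
  simp [tt, hform]

theorem tt_ne_zero (x : SL2) (hx : x ≠ 1) (htr : tr x = 2) : tt x ≠ 0 := by
  obtain ⟨a, b, c, d, hform, hdet⟩ := sl2_form x
  obtain ⟨hd, hsq⟩ := entries x a b c d hform htr hdet
  by_cases hb : b = 0
  · subst hb
    rw [tt_of_eq x hform]
    intro h0
    have hc : c = 0 := by simpa using h0
    subst hc
    have ha : (a - 1) ^ 2 = 0 := by simpa using hsq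
    have ha1 : a = 1 := sub_eq_zero.mp (pow_eq_zero_iff two_ne_zero |>.mp ha)
    exact hx (eq_one_of x a 0 0 d hform ha1 rfl rfl (by rw [hd, ha1]; ring))
  · rw [tt_of_ne x hform hb]
    exact hb

theorem conj_tt (x : SL2) (hx : x ≠ 1) (htr : tr x = 2) : IsConj (uu (tt x)) x := by
  obtain ⟨a, b, c, d, hform, hdet⟩ := sl2_form x
  obtain ⟨hd, hsq⟩ := entries x a b c d hform htr hdet
  rw [isConj_iff]
  by_cases hb : b = 0
  · subst hb
    have ha : (a - 1) ^ 2 = 0 := by simpa using hsq
    have ha1 : a = 1 := sub_eq_zero.mp (pow_eq_zero_iff two_ne_zero |>.mp ha)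
    have hd1 : d = 1 := by rw [hd, ha1]; ring
    have ht : tt x = -c := by
      simp [tt, hform]
    refine ⟨mkSL 0 1 (-1) 0 (by ring), ?_⟩
    rw [ht, mul_inv_eq_iff_eq_mul]
    apply Subtype.ext
    simp only [Matrix.SpecialLinearGroup.coe_mul, uu, coe_mkSL, hform, ha1, hd1]
    ext i j
    fin_cases i <;> fin_cases j <;> simp [Matrix.mul_apply, Fin.sum_univ_two]
  · have ht : tt x = b := by
      simp [tt, hform, hb]
    refine ⟨mkSL 1 0 (-(a - 1) / b) 1 (by ring), ?_⟩
    rw [ht, mul_inv_eq_iff_eq_mul]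
    apply Subtype.ext
    simp only [Matrix.SpecialLinearGroup.coe_mul, uu, coe_mkSL, hform, hd]
    ext i j
    fin_cases i <;> fin_cases j <;> simp [Matrix.mul_apply, Fin.sum_univ_two]
    · field_simp
      ring
    · field_simp
      linear_combination -hsq
    · field_simp
      ring

theorem order_iff (x : SL2) (p : ℕ) [Fact p.Prime] [CharP F p] :
    orderOf x = p ↔ tr x = 2 ∧ x ≠ 1 := by
  have hp : p.Prime := Fact.out
  constructor
  · intro h
    have h1 : x ^ p = 1 := by rw [← h]; exact pow_orderOf_eq_one x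
    have hne : x ≠ 1 := by
      rintro rfl
      rw [orderOf_one] at h
      exact hp.one_lt.ne h
    refine ⟨?_, hne⟩
    have hm : (x : Matrix (Fin 2) (Fin 2) F) ^ p = 1 := by
      have := congrArg (fun y : SL2 => (y : Matrix (Fin 2) (Fin 2) F)) h1
      simpa using this
    have hN : ((x : Matrix (Fin 2) (Fin 2) F) - 1) ^ p = 0 := by
      rw [sub_pow_char_of_commute p (Commute.one_right _), hm]
      simp
    have hnil : IsNilpotent ((x : Matrix (Fin 2) (Fin 2) F) - 1) := ⟨p, hN⟩
    have htr := (Matrix.isNilpotent_trace_of_isNilpotent hnil).eq_zero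
    rw [Matrix.trace_sub, Matrix.trace_one, Matrix.trace_fin_two] at htr
    simp only [tr]
    simp at htr
    linear_combination htr
  · rintro ⟨ht, hne⟩
    have hN2 : ((x : Matrix (Fin 2) (Fin 2) F) - 1) ^ 2 = 0 := by
      obtain ⟨a, b, c, d, hform, hdet⟩ := sl2_form x
      obtain ⟨hd, hsq⟩ := entries x a b c d hform ht hdet
      rw [hform, hd, pow_two]
      ext i j
      fin_cases i <;> fin_cases j <;> simp [Matrix.mul_apply, Fin.sum_univ_two, Matrix.one_apply]
      · linear_combination hsq
      · ring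
      · ring
      · linear_combination hsq
    have h1 : x ^ p = 1 := by
      apply Subtype.ext
      have hx : (x : Matrix (Fin 2) (Fin 2) F) = ((x : Matrix (Fin 2) (Fin 2) F) - 1) + 1 := by abel
      simp only [Matrix.SpecialLinearGroup.coe_pow, Matrix.SpecialLinearGroup.coe_one]
      rw [hx, add_pow_char_of_commute p (Commute.one_right _)]
      have : ((x : Matrix (Fin 2) (Fin 2) F) - 1 + 1 - 1) ^ p = 0 := by
        simp only [add_sub_cancel_right]
        exact pow_eq_zero_of_le hp.two_le hN2
      simp at this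
      simp [this]
    exact orderOf_eq_prime h1 hne

/-- The set of order-`p` elements whose invariant lies in the square class of `s`. -/
def CC (s : F) : Set SL2 := {x | tr x = 2 ∧ x ≠ 1 ∧ IsSquare (tt x * s)}

/-- All elements of trace 2 other than the identity. -/
def XX : Set SL2 := {x | tr x = 2 ∧ x ≠ 1}

theorem card_XX [Fintype F] : Nat.card (XX : Set SL2) = Fintype.card F ^ 2 - 1 := by
  classical
  let w : {x : SL2 // x ∈ (XX : Set SL2)} → {p : F × F // p ≠ 0} := fun x =>
    ⟨((x.1 : Matrix (Fin 2) (Fin 2) F) 0 1,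
      if (x.1 : Matrix (Fin 2) (Fin 2) F) 0 1 ≠ 0 then (x.1 : Matrix (Fin 2) (Fin 2) F) 0 0 - 1
        else (x.1 : Matrix (Fin 2) (Fin 2) F) 1 0), by
      obtain ⟨a, b, c, d, hform, hdet⟩ := sl2_form x.1
      obtain ⟨hd, hsq⟩ := entries x.1 a b c d hform x.2.1 hdet
      simp only [hform]
      simp only [Matrix.of_apply, Matrix.cons_val', Matrix.cons_val_zero, Matrix.cons_val_one,
        Matrix.cons_val_fin_one]
      intro h0
      have hb : b = 0 := congrArg Prod.fst h0
      have hc : (if b ≠ 0 then a - 1 else c) = 0 := congrArg Prod.snd h0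
      subst hb
      simp at hc
      subst hc
      have ha : (a - 1) ^ 2 = 0 := by simpa using hsq
      have ha1 : a = 1 := sub_eq_zero.mp (pow_eq_zero_iff two_ne_zero |>.mp ha)
      exact x.2.2 (eq_one_of x.1 a 0 0 d hform ha1 rfl rfl (by rw [hd, ha1]; ring))⟩
  have hw : Function.Bijective w := by
    constructor
    · rintro ⟨x, hx⟩ ⟨y, hy⟩ hxy
      have h1 := congrArg (fun p : {p : F × F // p ≠ 0} => p.1.1) hxy
      have h2 := congrArg (fun p : {p : F × F // p ≠ 0} => p.1.2) hxy
      simp only [w] at h1 h2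
      obtain ⟨a, b, c, d, hform, hdet⟩ := sl2_form x
      obtain ⟨hd, hsq⟩ := entries x a b c d hform hx.1 hdet
      obtain ⟨a', b', c', d', hform', hdet'⟩ := sl2_form y
      obtain ⟨hd', hsq'⟩ := entries y a' b' c' d' hform' hy.1 hdet'
      simp only [hform, hform', Matrix.of_apply, Matrix.cons_val', Matrix.cons_val_zero,
        Matrix.cons_val_one, Matrix.cons_val_fin_one] at h1 h2
      subst h1
      apply Subtype.ext
      apply Subtype.ext
      rw [hform, hform']
      by_cases hb : b = 0
      · subst hb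
        simp at h2
        subst h2
        have ha : (a - 1) ^ 2 = 0 := by simpa using hsq
        have ha1 : a = 1 := sub_eq_zero.mp (pow_eq_zero_iff two_ne_zero |>.mp ha)
        have ha' : (a' - 1) ^ 2 = 0 := by simpa using hsq'
        have ha1' : a' = 1 := sub_eq_zero.mp (pow_eq_zero_iff two_ne_zero |>.mp ha')
        rw [hd, hd', ha1, ha1']
      · simp [hb] at h2
        subst h2
        have hcc : c = c' := by
          have : b * c = b * c' := by linear_combination hsq - hsq'
          exact mul_left_cancel₀ hb this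
        rw [hd, hd', hcc]
    · rintro ⟨⟨b, y⟩, hp⟩
      by_cases hb : b = 0
      · subst hb
        have hy : y ≠ 0 := by
          rintro rfl
          exact hp rfl
        let x : SL2 := mkSL 1 0 y 1 (by ring)
        have hx : x ∈ (XX : Set SL2) := by
          refine ⟨?_, ?_⟩
          · simp only [tr, x, coe_mkSL]
            simp
            norm_num
          · intro h1
            have h3 : (x : Matrix (Fin 2) (Fin 2) F) = 1 := by rw [h1]; rfl
            simp only [x, coe_mkSL] at h3
            have e10 := congrFun (congrFun h3 1) 0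
            simp at e10
            exact hy e10
        refine ⟨⟨x, hx⟩, ?_⟩
        apply Subtype.ext
        simp [w, x]
      · let x : SL2 := mkSL (1 + y) b (-y ^ 2 / b) (1 - y) (by field_simp; ring)
        have hx : x ∈ (XX : Set SL2) := by
          refine ⟨?_, ?_⟩
          · simp only [tr, x, coe_mkSL]
            simp
            ring
          · intro h1
            have h3 : (x : Matrix (Fin 2) (Fin 2) F) = 1 := by rw [h1]; rfl
            simp only [x, coe_mkSL] at h3
            have e01 := congrFun (congrFun h3 0) 1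
            simp at e01
            exact hb e01
        refine ⟨⟨x, hx⟩, ?_⟩
        apply Subtype.ext
        simp [w, x, hb]
  rw [Nat.card_congr (Equiv.ofBijective w hw)]
  rw [Nat.card_eq_fintype_card, Fintype.card_subtype_compl]
  simp [Fintype.card_prod, pow_two]

theorem square_of_two_nonsquare [Fintype F] {x y : F} (hx : ¬IsSquare x) (hy : ¬IsSquare y) :
    IsSquare (x * y) := by
  classical
  have hx0 : x ≠ 0 := by
    rintro rfl
    exact hx (by simp)
  have hy0 : y ≠ 0 := by
    rintro rfl
    exact hy (by simp)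
  rw [← quadraticChar_one_iff_isSquare (mul_ne_zero hx0 hy0), map_mul,
    quadraticChar_neg_one_iff_not_isSquare.mpr hx, quadraticChar_neg_one_iff_not_isSquare.mpr hy]
  norm_num

theorem not_square_mul [Fintype F] {x y : F} (hx : IsSquare x) (hx0 : x ≠ 0) (hy : ¬IsSquare y) :
    ¬IsSquare (x * y) := by
  classical
  rw [← quadraticChar_neg_one_iff_not_isSquare] at hy ⊢
  rw [map_mul, hy, (quadraticChar_one_iff_isSquare hx0).mpr hx]
  norm_num

theorem CC_card_eq [Fintype F] (s n : F) (hn : n ≠ 0) :
    Nat.card (CC s : Set SL2) = Nat.card (CC (n * s) : Set SL2) := by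
  classical
  let φ : SL2 → SL2 := fun x => mkSL ((x : Matrix (Fin 2) (Fin 2) F) 0 0) (n * (x : Matrix (Fin 2) (Fin 2) F) 0 1)
    ((x : Matrix (Fin 2) (Fin 2) F) 1 0 / n) ((x : Matrix (Fin 2) (Fin 2) F) 1 1) (by
      have := x.2
      rw [Matrix.det_fin_two] at this
      field_simp
      linear_combination this)
  let ψ : SL2 → SL2 := fun x => mkSL ((x : Matrix (Fin 2) (Fin 2) F) 0 0) ((x : Matrix (Fin 2) (Fin 2) F) 0 1 / n)
    (n * (x : Matrix (Fin 2) (Fin 2) F) 1 0) ((x : Matrix (Fin 2) (Fin 2) F) 1 1) (by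
      have := x.2
      rw [Matrix.det_fin_two] at this
      field_simp
      linear_combination this)
  have hφψ : ∀ x, φ (ψ x) = x := by
    intro x
    apply Subtype.ext
    conv_rhs => rw [Matrix.eta_fin_two (x : Matrix (Fin 2) (Fin 2) F)]
    simp only [φ, ψ, coe_mkSL]
    simp
    field_simp
    exact ⟨trivial, trivial⟩
  have hψφ : ∀ x, ψ (φ x) = x := by
    intro x
    apply Subtype.ext
    conv_rhs => rw [Matrix.eta_fin_two (x : Matrix (Fin 2) (Fin 2) F)]
    simp only [φ, ψ, coe_mkSL]
    simp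
    field_simp
    exact ⟨trivial, trivial⟩
  have h1 : ∀ x ∈ (CC s : Set SL2), φ x ∈ (CC (n * s) : Set SL2) := by
    rintro x ⟨ht, hne, hsq⟩
    refine ⟨by simpa [tr, φ] using ht, ?_, ?_⟩
    · intro h
      apply hne
      rw [← hψφ x, h]
      apply Subtype.ext
      simp only [ψ, coe_mkSL]
      ext i j
      fin_cases i <;> fin_cases j <;> simp
    · obtain ⟨a, b, c, d, hform, hdet⟩ := sl2_form x
      have hφ : ((φ x : SL2) : Matrix (Fin 2) (Fin 2) F) = !![a, n * b; c / n, d] := by
        simp [φ, hform]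
      by_cases hb : b = 0
      · subst hb
        rw [mul_zero] at hφ
        rw [tt_of_eq _ hφ]
        rw [tt_of_eq _ hform] at hsq
        have e : -(c / n) * (n * s) = -c * s := by field_simp
        rwa [e]
      · rw [tt_of_ne _ hφ (mul_ne_zero hn hb)]
        rw [tt_of_ne _ hform hb] at hsq
        have e : n * b * (n * s) = n * n * (b * s) := by ring
        rw [e]
        exact (IsSquare.mul_self n).mul hsq
  have h2 : ∀ x ∈ (CC (n * s) : Set SL2), ψ x ∈ (CC s : Set SL2) := by
    rintro x ⟨ht, hne, hsq⟩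
    refine ⟨by simpa [tr, ψ] using ht, ?_, ?_⟩
    · intro h
      apply hne
      rw [← hφψ x, h]
      apply Subtype.ext
      simp only [φ, coe_mkSL]
      ext i j
      fin_cases i <;> fin_cases j <;> simp
    · obtain ⟨a, b, c, d, hform, hdet⟩ := sl2_form x
      have hψ : ((ψ x : SL2) : Matrix (Fin 2) (Fin 2) F) = !![a, b / n; n * c, d] := by
        simp [ψ, hform]
      by_cases hb : b = 0
      · subst hb
        rw [zero_div] at hψ
        rw [tt_of_eq _ hψ]
        rw [tt_of_eq _ hform] at hsq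
        have e : -(n * c) * s = -c * (n * s) := by ring
        rwa [e]
      · rw [tt_of_ne _ hψ (div_ne_zero hb hn)]
        rw [tt_of_ne _ hform hb] at hsq
        have e : b / n * s = (n⁻¹ * n⁻¹) * (b * (n * s)) := by field_simp
        rw [e]
        exact (IsSquare.mul_self n⁻¹).mul hsq
  exact Nat.card_congr
    { toFun := fun x => ⟨φ x.1, h1 x.1 x.2⟩
      invFun := fun x => ⟨ψ x.1, h2 x.1 x.2⟩
      left_inv := fun x => Subtype.ext (hψφ x.1)
      right_inv := fun x => Subtype.ext (hφψ x.1) }

theorem card_CC [Fintype F] (s n : F) (hs : s ≠ 0) (hn : ¬IsSquare n) :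
    Nat.card (CC s : Set SL2) = (Fintype.card F ^ 2 - 1) / 2 := by
  classical
  have hn0 : n ≠ 0 := by
    rintro rfl
    exact hn (by simp)
  have hunion : (XX : Set SL2) = CC s ∪ CC (n * s) := by
    ext x
    constructor
    · rintro ⟨h1, h2⟩
      by_cases hsq : IsSquare (tt x * s)
      · exact Or.inl ⟨h1, h2, hsq⟩
      · right
        refine ⟨h1, h2, ?_⟩
        have := square_of_two_nonsquare hn hsq
        have e : tt x * (n * s) = n * (tt x * s) := by ring
        rwa [e]
    · rintro (⟨h1, h2, -⟩ | ⟨h1, h2, -⟩) <;> exact ⟨h1, h2⟩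
  have hdisj : Disjoint (CC s : Set SL2) (CC (n * s)) := by
    rw [Set.disjoint_left]
    rintro x ⟨h1, h2, h3⟩ ⟨-, -, h4⟩
    have h0 : tt x * s ≠ 0 := mul_ne_zero (tt_ne_zero x h2 h1) hs
    have e : tt x * (n * s) = (tt x * s) * n := by ring
    rw [e] at h4
    exact not_square_mul h3 h0 hn h4
  have hcard := card_XX (F := F)
  have heq := CC_card_eq s n hn0
  rw [hunion, Nat.card_coe_set_eq, Set.ncard_union_eq hdisj, ← Nat.card_coe_set_eq, ← Nat.card_coe_set_eq, ← heq] at hcard
  omega

/-- Over a finite field with q elements of odd characteristic p, the elements of order p of SL₂ (the non-identity unipotent elements) fall into exactly two conjugacy classes, each of size (q² − 1)/2; two upper unitriangular matrices with non-zero off-diagonal entries b and b′ are conjugate exactly when bb′ is a square. -/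
theorem result {F : Type*} [Field F] [Fintype F] (p : ℕ) [Fact p.Prime] [CharP F p] (hp : p ≠ 2) :
    Nat.card {C : ConjClasses (Matrix.SpecialLinearGroup (Fin 2) F) // ∃ g : Matrix.SpecialLinearGroup (Fin 2) F, orderOf g = p ∧ ConjClasses.mk g = C} = 2 ∧
    (∀ g : Matrix.SpecialLinearGroup (Fin 2) F, orderOf g = p → Nat.card (ConjClasses.mk g).carrier = (Fintype.card F ^ 2 - 1) / 2) ∧
    ∀ g h : Matrix.SpecialLinearGroup (Fin 2) F, (g : Matrix (Fin 2) (Fin 2) F) 0 0 = 1 → (g : Matrix (Fin 2) (Fin 2) F) 1 1 = 1 → (g : Matrix (Fin 2) (Fin 2) F) 1 0 = 0 → (g : Matrix (Fin 2) (Fin 2) F) 0 1 ≠ 0 →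
      (h : Matrix (Fin 2) (Fin 2) F) 0 0 = 1 → (h : Matrix (Fin 2) (Fin 2) F) 1 1 = 1 → (h : Matrix (Fin 2) (Fin 2) F) 1 0 = 0 → (h : Matrix (Fin 2) (Fin 2) F) 0 1 ≠ 0 →
      (IsConj g h ↔ IsSquare ((g : Matrix (Fin 2) (Fin 2) F) 0 1 * (h : Matrix (Fin 2) (Fin 2) F) 0 1)) := by
  classical
  have hchar : ringChar F ≠ 2 := by rwa [ringChar.eq F p]
  obtain ⟨n, hn⟩ := FiniteField.exists_nonsquare hchar
  have hn0 : n ≠ 0 := by
    rintro rfl
    exact hn (by simp)
  have huu : ∀ b : F, b ≠ 0 → orderOf (uu b) = p := by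
    intro b hb
    rw [order_iff]
    refine ⟨?_, ?_⟩
    · simp [tr, uu]
      norm_num
    · intro h
      have h3 : ((uu b : Matrix.SpecialLinearGroup (Fin 2) F) : Matrix (Fin 2) (Fin 2) F) = 1 := by rw [h]; rfl
      simp only [uu, coe_mkSL] at h3
      have e01 := congrFun (congrFun h3 0) 1
      simp at e01
      exact hb e01
  refine ⟨?_, ?_, ?_⟩
  · rw [Nat.card_eq_two_iff]
    refine ⟨⟨ConjClasses.mk (uu 1), uu 1, huu 1 one_ne_zero, rfl⟩,
      ⟨ConjClasses.mk (uu n), uu n, huu n hn0, rfl⟩, ?_, ?_⟩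
    · intro h
      have h2 := congrArg Subtype.val h
      simp only at h2
      rw [ConjClasses.mk_eq_mk_iff_isConj, isConj_uu_iff one_ne_zero hn0, one_mul] at h2
      exact hn h2
    · ext ⟨C, g, hg, rfl⟩
      simp only [Set.mem_insert_iff, Set.mem_singleton_iff, Set.mem_univ, iff_true, Subtype.mk.injEq]
      obtain ⟨htr, hne⟩ := (order_iff g p).mp hg
      have hconj := conj_tt g hne htr
      have ht0 := tt_ne_zero g hne htr
      by_cases hsq : IsSquare (tt g)
      · left
        rw [ConjClasses.mk_eq_mk_iff_isConj]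
        exact hconj.symm.trans ((isConj_uu_iff ht0 one_ne_zero).mpr (by simpa using hsq))
      · right
        rw [ConjClasses.mk_eq_mk_iff_isConj]
        exact hconj.symm.trans ((isConj_uu_iff ht0 hn0).mpr (square_of_two_nonsquare hsq hn))
  · intro g hg
    obtain ⟨htr, hne⟩ := (order_iff g p).mp hg
    have hconj := conj_tt g hne htr
    have ht0 := tt_ne_zero g hne htr
    have hcar : (ConjClasses.mk g).carrier = CC (tt g) := by
      ext x
      rw [ConjClasses.mem_carrier_iff_mk_eq, ConjClasses.mk_eq_mk_iff_isConj]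
      constructor
      · intro hx
        have hord : orderOf x = p := by
          obtain ⟨c, hc⟩ := isConj_iff.mp hx
          have hs : SemiconjBy c x g := by
            rw [SemiconjBy, ← hc]
            group
          exact (SemiconjBy.orderOf_eq c hs).trans hg
        obtain ⟨htrx, hnex⟩ := (order_iff x p).mp hord
        refine ⟨htrx, hnex, ?_⟩
        have h1 := conj_tt x hnex htrx
        have h2 : IsConj (uu (tt x)) (uu (tt g)) := h1.trans (hx.trans hconj.symm)
        exact (isConj_uu_iff (tt_ne_zero x hnex htrx) ht0).mp h2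
      · rintro ⟨h1, h2, h3⟩
        have h4 := conj_tt x h2 h1
        have h5 := (isConj_uu_iff (tt_ne_zero x h2 h1) ht0).mpr h3
        exact h4.symm.trans (h5.trans hconj)
    rw [hcar]
    exact card_CC (tt g) n ht0 hn
  · intro g h h1 h2 h3 h4 h5 h6 h7 h8
    have hg : g = uu ((g : Matrix (Fin 2) (Fin 2) F) 0 1) := by
      apply Subtype.ext
      simp only [uu, coe_mkSL]
      conv_lhs => rw [Matrix.eta_fin_two (g : Matrix (Fin 2) (Fin 2) F), h1, h2, h3]
    have hh : h = uu ((h : Matrix (Fin 2) (Fin 2) F) 0 1) := by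
      apply Subtype.ext
      simp only [uu, coe_mkSL]
      conv_lhs => rw [Matrix.eta_fin_two (h : Matrix (Fin 2) (Fin 2) F), h5, h6, h7]
    rw [← isConj_uu_iff h4 h8, ← hg, ← hh]

end Cfsg.Agent.S2301
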