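import Mathlib
import Cfsg.Statements.S2469
import Cfsg.Agent.Lib.SpSpecPrime
import Cfsg.Agent.Lib.SpOrder

set_option autoImplicit false
open Cfsg

namespace Cfsg.Agent.S2469

open Cfsg.Agent.Lib.SpSpec Cfsg.Agent.Lib.SpCenter

section numeric

/-- The first numeric case. -/
lemma num_A {k l ηk ηl M m : ℕ} (hk : 0 < k) (hl : 0 < l) (hkM : k ∣ M) (hlM : l ∣ M) (hM : M = 2 * m) (hM0 : 0 < M)
    (hkm : ¬ k ∣ m) (hlm : ¬ l ∣ m)
    (hηk : (Odd k ∧ ηk = k) ∨ (Even k ∧ 2 * ηk = k)) (hηl : (Odd l ∧ ηl = l) ∨ (Even l ∧ 2 * ηl = l)) (hkl : ηk ≤ ηl)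
    (hlcmk : ∀ x, k ∣ x → l ∣ x → M ∣ x)
    (hno : ¬ ∃ t : ℕ, Odd t ∧ l = k * t) : 2 * (ηk + ηl) ≤ M := by
  obtain ⟨c, hc⟩ := hkM
  obtain ⟨d, hd⟩ := hlM
  have hcodd : Odd c := by
    rw [← Nat.not_even_iff_odd]
    rintro ⟨c', rfl⟩
    apply hkm
    refine ⟨c', ?_⟩
    have : 2 * m = 2 * (k * c') := by rw [← hM, hc]; ring
    exact Nat.eq_of_mul_eq_mul_left (by norm_num) this
  have hdodd : Odd d := by
    rw [← Nat.not_even_iff_odd]
    rintro ⟨c', rfl⟩
    apply hlm
    refine ⟨c', ?_⟩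
    have : 2 * m = 2 * (l * c') := by rw [← hM, hd]; ring
    exact Nat.eq_of_mul_eq_mul_left (by norm_num) this
  have hkev : 2 ∣ k := by
    have h3 : 2 ∣ k * c := ⟨m, by rw [← hc, hM]⟩
    exact Nat.Coprime.dvd_of_dvd_mul_right (Nat.coprime_two_left.mpr hcodd) h3
  have hlev : 2 ∣ l := by
    have h3 : 2 ∣ l * d := ⟨m, by rw [← hd, hM]⟩
    exact Nat.Coprime.dvd_of_dvd_mul_right (Nat.coprime_two_left.mpr hdodd) h3
  have hηk' : 2 * ηk = k := by
    rcases hηk with ⟨h, -⟩ | ⟨-, h⟩
    · exact absurd (even_iff_two_dvd.mpr hkev) (Nat.not_even_iff_odd.mpr h)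
    · exact h
  have hηl' : 2 * ηl = l := by
    rcases hηl with ⟨h, -⟩ | ⟨-, h⟩
    · exact absurd (even_iff_two_dvd.mpr hlev) (Nat.not_even_iff_odd.mpr h)
    · exact h
  have hkl' : k ≤ l := by omega
  have hc1 : c ≠ 1 := by
    rintro rfl
    rw [mul_one] at hc
    -- `M = k`, so `l ∣ k`, so `l = k`
    have h1 : l ∣ k := by rw [← hc]; exact ⟨d, hd⟩
    have h2 := Nat.le_of_dvd hk h1
    exact hno ⟨1, odd_one, by omega⟩
  have hd1 : d ≠ 1 := by
    rintro rfl
    rw [mul_one] at hd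
    exact hno ⟨c, hcodd, by rw [← hd, hc]⟩
  have hc3 : 3 ≤ c := by
    obtain ⟨t, ht⟩ := hcodd
    omega
  have hd3 : 3 ≤ d := by
    obtain ⟨t, ht⟩ := hdodd
    omega
  have h1 : 3 * k ≤ M := by
    rw [hc, mul_comm]
    exact Nat.mul_le_mul_left k hc3
  have h2 : 3 * l ≤ M := by
    rw [hd, mul_comm]
    exact Nat.mul_le_mul_left l hd3
  omega

/-- The second numeric case. -/
lemma num_B {k l ηk ηl M : ℕ} (hk : 0 < k) (hl : 0 < l) (hkM : k ∣ M) (hlM : l ∣ M) (hM0 : 0 < M)
    (hηk : (Odd k ∧ ηk = k) ∨ (Even k ∧ 2 * ηk = k)) (hηl : (Odd l ∧ ηl = l) ∨ (Even l ∧ 2 * ηl = l)) (hkl : ηk ≤ ηl)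
    (hlcm : ∀ x, k ∣ x → l ∣ x → M ∣ x)
    (hno : ¬ ∃ t : ℕ, Odd t ∧ l = k * t) : ηk + ηl ≤ M := by
  have hk1 : ηk ≤ k := by
    rcases hηk with ⟨-, h⟩ | ⟨-, h⟩ <;> omega
  have hl1 : ηl ≤ l := by
    rcases hηl with ⟨-, h⟩ | ⟨-, h⟩ <;> omega
  by_cases h1 : k ∣ l
  · obtain ⟨t, ht⟩ := h1
    have htev : Even t := by
      rw [← Nat.not_odd_iff_even]
      intro h
      exact hno ⟨t, h, ht⟩
    have hlev : Even l := by
      rw [ht]
      exact htev.mul_left k
    have h2 : 2 * ηl = l := by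
      rcases hηl with ⟨h, -⟩ | ⟨-, h⟩
      · exact absurd hlev (Nat.not_even_iff_odd.mpr h)
      · exact h
    have h3 : l ∣ M := hlM
    have := Nat.le_of_dvd hM0 h3
    omega
  · by_cases h2 : l ∣ k
    · obtain ⟨t, ht⟩ := h2
      have ht2 : 2 ≤ t := by
        rcases t with _ | _ | t
        · simp at ht; omega
        · simp at ht
          exact absurd ⟨1, by omega⟩ h1
        · omega
      have h3 : 2 * l ≤ k := by
        rw [ht, mul_comm]
        exact Nat.mul_le_mul_left l ht2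
      have h4 := Nat.le_of_dvd hM0 hkM
      omega
    · obtain ⟨c, hc⟩ := hkM
      obtain ⟨d, hd⟩ := hlM
      have hc2 : 2 ≤ c := by
        rcases c with _ | _ | c
        · simp at hc; omega
        · simp at hc
          exact absurd (hc ▸ ⟨d, hd⟩) h2
        · omega
      have hd2 : 2 ≤ d := by
        rcases d with _ | _ | d
        · simp at hd; omega
        · simp at hd
          exact absurd (hd ▸ ⟨c, hc⟩) h1
        · omega
      have h3 : 2 * k ≤ M := by
        rw [hc, mul_comm]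
        exact Nat.mul_le_mul_left k hc2
      have h4 : 2 * l ≤ M := by
        rw [hd, mul_comm]
        exact Nat.mul_le_mul_left l hd2
      omega

/-- Order modulo a product of two distinct primes. -/
lemma orderOf_mul_primes {q r s k l : ℕ} (hr : r.Prime) (hs : s.Prime) (hrs : r ≠ s) (hq2 : 2 ≤ q)
    (hk : k = orderOf ((q : ℕ) : ZMod r)) (hl : l = orderOf ((q : ℕ) : ZMod s)) (x : ℕ) :
    orderOf ((q : ℕ) : ZMod (r * s)) ∣ x ↔ k ∣ x ∧ l ∣ x := by
  have hcop : Nat.Coprime r s := (Nat.coprime_primes hr hs).mpr hrs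
  have h1 : ∀ t : ℕ, ((q : ℕ) : ZMod t) ^ x = 1 ↔ q ^ x ≡ 1 [MOD t] := by
    intro t
    rw [← ZMod.natCast_eq_natCast_iff]
    push_cast
    rfl
  rw [orderOf_dvd_iff_pow_eq_one, hk, hl, orderOf_dvd_iff_pow_eq_one, orderOf_dvd_iff_pow_eq_one, h1, h1, h1,
    Nat.modEq_and_modEq_iff_modEq_mul hcop]

end numeric

/-- Adjacency of two odd primes in the prime graph of PSp(2n,q): let F be a finite field of characteristic p with q elements, n ≥ 2 with PSp(2n,F) simple, and let r ≠ s be odd primes different from p dividing the order of PSp(2n,F). Let k, l be the multiplicative orders of q modulo r and s, put η(m) = m for odd m and η(m) = m/2 for even m, and suppose η(k) ≤ η(l). Then PSp(2n,F) has NO element of order r·s if and only if η(k) + η(l) > n and l/k is not an odd integer. -/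
theorem result {F : Type*} [Field F] [Fintype F] (p : ℕ) [Fact p.Prime] [CharP F p] (n : ℕ) (hn : 2 ≤ n) (hsmall : n = 2 → 3 ≤ Fintype.card F)
    (r s : ℕ) (hr : r.Prime) (hs : s.Prime) (hr2 : r ≠ 2) (hs2 : s ≠ 2) (hrp : r ≠ p) (hsp : s ≠ p) (hrs : r ≠ s)
    (hrG : r ∣ Nat.card (Cfsg.PSp n F)) (hsG : s ∣ Nat.card (Cfsg.PSp n F))
    (k l ηk ηl : ℕ) (hk : k = orderOf ((Fintype.card F : ℕ) : ZMod r)) (hl : l = orderOf ((Fintype.card F : ℕ) : ZMod s))
    (hηk : (Odd k ∧ ηk = k) ∨ (Even k ∧ 2 * ηk = k)) (hηl : (Odd l ∧ ηl = l) ∨ (Even l ∧ 2 * ηl = l)) (hkl : ηk ≤ ηl) :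
    (r * s ∉ Set.range (orderOf : Cfsg.PSp n F → ℕ)) ↔ (n < ηk + ηl ∧ ¬ ∃ t : ℕ, Odd t ∧ l = k * t) := by
  classical
  haveI : NeZero n := ⟨by omega⟩
  have hrodd : Odd r := hr.odd_of_ne_two hr2
  have hsodd : Odd s := hs.odd_of_ne_two hs2
  have hpp : p.Prime := Fact.out
  have hq2 : 2 ≤ Fintype.card F := Fintype.one_lt_card
  set q := Fintype.card F with hq
  have hqr : Nat.Coprime q r := card_coprime_prime p hr hrp
  have hqs : Nat.Coprime q s := card_coprime_prime p hs hsp
  have hrsc : Nat.Coprime r s := (Nat.coprime_primes hr hs).mpr hrs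
  have hrsodd : Odd (r * s) := hrodd.mul hsodd
  have hkpos : 0 < k := by rw [hk]; exact orderOf_q_pos hqr hr.ne_zero
  have hlpos : 0 < l := by rw [hl]; exact orderOf_q_pos hqs hs.ne_zero
  constructor
  · -- no element implies the two conditions
    intro hno
    constructor
    · by_contra hle
      apply hno
      have h1 : r ∈ Om ηk F := prime_mem_Om p hr hrp hk hηk
      have h2 : s ∈ Om ηl F := prime_mem_Om p hs hsp hl hηl
      have h3 := lcm_mem_Om h1 h2
      rw [hrsc.lcm_eq_mul] at h3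
      exact mem_range_of_odd (mem_Om_mono h3 (by omega)) hrsodd
    · rintro ⟨t, ht, hlt⟩
      apply hno
      -- `ηl ≤ n` from the order of the group
      have hηln : ηl ≤ n := by
        have h1 : s ∣ Nat.card (Cfsg.Agent.Lib.SpBasic.Sp (Fin n) F) := by
          refine hsG.trans ?_
          exact Subgroup.card_quotient_dvd_card _
        rw [Cfsg.Agent.Lib.SpOrder.card_Sp, ← hq] at h1
        have hsq : ¬ s ∣ q ^ n ^ 2 := by
          intro h
          have := hs.dvd_of_dvd_pow h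
          have h3 := Nat.Coprime.eq_one_of_dvd hqs.symm this
          exact hs.ne_one h3
        have h4 := (hs.dvd_mul.mp h1).resolve_left hsq
        obtain ⟨i, hi, hd⟩ := (Prime.dvd_finset_prod_iff hs.prime _).mp h4
        have hi' : i < n := Finset.mem_range.mp hi
        have h5 : l ∣ 2 * (i + 1) := by
          rw [hl]
          apply orderOf_dvd_of_pow_eq_one
          have h6 : q ^ (2 * (i + 1)) ≡ 1 [MOD s] :=
            ((Nat.modEq_iff_dvd' (Nat.one_le_pow _ _ (by omega))).mpr hd).symm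
          have h7 := (ZMod.natCast_eq_natCast_iff _ _ _).mpr h6
          push_cast at h7
          exact h7
        rcases hηl with ⟨h7, h8⟩ | ⟨h7, h8⟩
        · have h9 : l ∣ i + 1 :=
            (Nat.Coprime.dvd_of_dvd_mul_left (Nat.Coprime.symm (Nat.coprime_two_left.mpr h7))) h5
          have := Nat.le_of_dvd (by omega) h9
          omega
        · have h9 : ηl ∣ i + 1 := by
            rw [← h8] at h5
            exact Nat.dvd_of_mul_dvd_mul_left (by norm_num) h5
          have := Nat.le_of_dvd (by omega) h9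
          omega
      -- the product lies in one torus
      have hmem : r * s ∈ Om ηl F := by
        have hηl0 : ηl ≠ 0 := by
          rcases hηl with ⟨-, h⟩ | ⟨-, h⟩ <;> omega
        apply torus_mem (F := F) p hηl0
        rcases hηk with ⟨hko, hke⟩ | ⟨hke, hke2⟩
        · -- `k` odd, hence `l` odd
          have hlo : Odd l := by rw [hlt]; exact hko.mul ht
          have hηl' : ηl = l := by
            rcases hηl with ⟨-, h⟩ | ⟨h, -⟩
            · exact h
            · exact absurd h (Nat.not_even_iff_odd.mpr hlo)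
          right
          rw [hηl']
          apply hrsc.mul_dvd_of_dvd_of_dvd
          · have h1 : r ∣ q ^ k - 1 := by
              rw [hk]
              exact dvd_pow_sub_one_of_order hq2 hqr hr.ne_zero
            rw [hlt, pow_mul]
            refine h1.trans ?_
            have := Nat.sub_one_dvd_pow_sub_one (q ^ k) t
            simpa using this
          · rw [hl]
            exact dvd_pow_sub_one_of_order hq2 hqs hs.ne_zero
        · -- `k` even
          have hle : Even l := by rw [hlt]; exact hke.mul_right t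
          have hηl' : 2 * ηl = l := by
            rcases hηl with ⟨h, -⟩ | ⟨-, h⟩
            · exact absurd hle (Nat.not_even_iff_odd.mpr h)
            · exact h
          have hr1 := prime_torus_even hr hqr hk hke2
          have hs1 := prime_torus_even hs hqs hl hηl'
          have hηη : ηl = ηk * t := by
            have : 2 * ηl = 2 * (ηk * t) := by rw [hηl', hlt, ← hke2]; ring
            exact Nat.eq_of_mul_eq_mul_left (by norm_num) this
          left
          apply hrsc.mul_dvd_of_dvd_of_dvd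
          · refine hr1.trans ?_
            rw [hηη, pow_mul]
            have := Odd.nat_add_dvd_pow_add_pow (q ^ ηk) 1 ht
            simpa using this
          · exact hs1
      exact mem_range_of_odd (mem_Om_mono hmem hηln) hrsodd
  · rintro ⟨hnlt, hno⟩ hmem
    have hlift : r * s ∈ Om n F := lift_odd hmem hrsodd
    obtain ⟨y, hy⟩ := hlift
    have hrp' : Nat.Coprime r p := (Nat.coprime_primes hr hpp).mpr hrp
    have hsp' : Nat.Coprime s p := (Nat.coprime_primes hs hpp).mpr hsp
    have hcp : Nat.Coprime (r * s) p := Nat.Coprime.mul_left hrp' hsp'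
    obtain ⟨R, hclosed, hexp, hcard, -⟩ := spec_main p y (r * s) 0 hrsodd hcp (by rw [pow_zero, mul_one]; exact hy)
    have hcopq : Nat.Coprime q (r * s) := Nat.Coprime.mul_right hqr hqs
    have hdvdrs : ∀ ω ∈ R, orderOf ω ∣ r * s := fun ω hω => orderOf_dvd_of_pow_eq_one (hclosed.ord ω hω)
    -- orders
    have hex1 : ∃ ω ∈ R, r ∣ orderOf ω := by
      by_contra hcon
      push Not at hcon
      have h1 : r * s ∣ s := by
        apply (hexp s).mp
        intro ω hω
        have h2 : Nat.Coprime (orderOf ω) r :=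
          (Nat.Coprime.symm ((Nat.Prime.coprime_iff_not_dvd hr).mpr (hcon ω hω)))
        rw [← orderOf_dvd_iff_pow_eq_one]
        exact h2.dvd_of_dvd_mul_left (hdvdrs ω hω)
      have h3 : r ∣ s := (Nat.dvd_mul_right r s).trans h1
      exact hrs ((Nat.prime_dvd_prime_iff_eq hr hs).mp h3)
    have hex2 : ∃ ω ∈ R, s ∣ orderOf ω := by
      by_contra hcon
      push Not at hcon
      have h1 : r * s ∣ r := by
        apply (hexp r).mp
        intro ω hω
        have h2 : Nat.Coprime (orderOf ω) s :=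
          (Nat.Coprime.symm ((Nat.Prime.coprime_iff_not_dvd hs).mpr (hcon ω hω)))
        rw [← orderOf_dvd_iff_pow_eq_one]
        exact h2.dvd_of_dvd_mul_right (hdvdrs ω hω)
      have h3 : s ∣ r := (Nat.dvd_mul_left s r).trans h1
      exact hrs ((Nat.prime_dvd_prime_iff_eq hs hr).mp h3).symm
    by_cases hboth : ∃ ω ∈ R, orderOf ω = r * s
    · obtain ⟨ω, hω, hord⟩ := hboth
      obtain ⟨S, e, hSR, hωS, he, hScard, hSexp, hdvd, -, hcase⟩ := hclosed.peel hq2 hrsodd hcopq hω
      rw [hord] at hcase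
      set K' := orderOf ((q : ℕ) : ZMod (r * s)) with hK'
      have hKiff : ∀ x, K' ∣ x ↔ k ∣ x ∧ l ∣ x := orderOf_mul_primes hr hs hrs hq2 hk hl
      have hkK : k ∣ K' := ((hKiff K').mp dvd_rfl).1
      have hlK : l ∣ K' := ((hKiff K').mp dvd_rfl).2
      have hK0 : 0 < K' := orderOf_q_pos hcopq (Nat.mul_ne_zero hr.ne_zero hs.ne_zero)
      have hlcm : ∀ x, k ∣ x → l ∣ x → K' ∣ x := fun x h1 h2 => (hKiff x).mpr ⟨h1, h2⟩
      have hle := Finset.card_le_card hSR
      rcases hcase with ⟨h1, m, hm, hdm⟩ | ⟨h1, -, -⟩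
      · have hnot : ∀ {t kk : ℕ}, t.Prime → t ≠ 2 → kk = orderOf ((q : ℕ) : ZMod t) → t ∣ q ^ m + 1 → ¬ kk ∣ m := by
          intro t kk ht ht2 hkk htd hcontra
          rw [hkk, orderOf_dvd_iff_pow_eq_one] at hcontra
          have h4 : ((q ^ m + 1 : ℕ) : ZMod t) = 0 := (ZMod.natCast_eq_zero_iff _ _).mpr htd
          push_cast at h4
          rw [hcontra] at h4
          have h5 : ((2 : ℕ) : ZMod t) = 0 := by
            push_cast
            linear_combination h4
          have h6 := (ZMod.natCast_eq_zero_iff _ _).mp h5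
          exact ht2 ((Nat.prime_dvd_prime_iff_eq ht Nat.prime_two).mp h6)
        have hkm : ¬ k ∣ m := hnot hr hr2 hk ((Nat.dvd_mul_right r s).trans hdm)
        have hlm : ¬ l ∣ m := hnot hs hs2 hl ((Nat.dvd_mul_left s r).trans hdm)
        have h2 := num_A hkpos hlpos hkK hlK hm hK0 hkm hlm hηk hηl hkl hlcm hno
        omega
      · have h2 := num_B hkpos hlpos hkK hlK hK0 hηk hηl hkl hlcm hno
        omega
    · push Not at hboth
      obtain ⟨ω₁, hω₁, hr1⟩ := hex1
      obtain ⟨ω₂, hω₂, hs1⟩ := hex2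
      have hord1 : orderOf ω₁ = r := by
        obtain ⟨c, hc⟩ := hr1
        have h1 := hdvdrs ω₁ hω₁
        rw [hc] at h1
        have h2 : c ∣ s := Nat.dvd_of_mul_dvd_mul_left hr.pos h1
        rcases (Nat.dvd_prime hs).mp h2 with h3 | h3
        · rw [hc, h3, mul_one]
        · exact absurd (by rw [hc, h3]) (hboth ω₁ hω₁)
      have hord2 : orderOf ω₂ = s := by
        obtain ⟨c, hc⟩ := hs1
        have h1 := hdvdrs ω₂ hω₂
        rw [hc, mul_comm r s] at h1
        have h2 : c ∣ r := Nat.dvd_of_mul_dvd_mul_left hs.pos h1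
        rcases (Nat.dvd_prime hr).mp h2 with h3 | h3
        · rw [hc, h3, mul_one]
        · exact absurd (by rw [hc, h3, mul_comm]) (hboth ω₂ hω₂)
      obtain ⟨S₁, e₁, hS₁R, hω₁S, he₁, hS₁card, hS₁exp, hdvd₁, hclosed₁, hcase₁⟩ := hclosed.peel hq2 hrsodd hcopq hω₁
      have hω₂' : ω₂ ∈ R \ S₁ := by
        rw [Finset.mem_sdiff]
        refine ⟨hω₂, ?_⟩
        intro hin
        rw [hord1] at hS₁exp
        have h1 : ω₂ ^ r = 1 := (hS₁exp r).mpr dvd_rfl ω₂ hin
        have h2 := orderOf_dvd_of_pow_eq_one h1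
        rw [hord2] at h2
        exact hrs ((Nat.prime_dvd_prime_iff_eq hs hr).mp h2).symm
      obtain ⟨S₂, e₂, hS₂R, hω₂S, he₂, hS₂card, hS₂exp, hdvd₂, -, hcase₂⟩ := hclosed₁.peel hq2 hrsodd hcopq hω₂'
      rw [hord1, ← hk] at hcase₁
      rw [hord2, ← hl] at hcase₂
      have h5 : 2 * ηk ≤ S₁.card := by
        apply orbit_card_ge hηk
        rcases hcase₁ with ⟨h1, m, hm, -⟩ | ⟨h1, -⟩
        · exact Or.inl ⟨h1, m, hm⟩
        · exact Or.inr h1
      have h6 : 2 * ηl ≤ S₂.card := by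
        apply orbit_card_ge hηl
        rcases hcase₂ with ⟨h1, m, hm, -⟩ | ⟨h1, -⟩
        · exact Or.inl ⟨h1, m, hm⟩
        · exact Or.inr h1
      have h7 := Finset.card_le_card hS₂R
      have h8 := Finset.card_sdiff_add_card_eq_card hS₁R
      omega

end Cfsg.Agent.S2469
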