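import Mathlib
import Cfsg.Statements.S2472
import Cfsg.Agent.Lib.SpSpecPrime

set_option autoImplicit false
open Cfsg

namespace Cfsg.Agent.S2472

open Cfsg.Agent.Lib.SpSpec Cfsg.Agent.Lib.SpCenter

/-- Adjacency of a prime and the characteristic in the prime graph of PSp(2n,q): let F be a finite field of characteristic p with q elements, n ≥ 2 with PSp(2n,F) simple, and let r ≠ p be an odd prime dividing the order of PSp(2n,F), with k the multiplicative order of q modulo r and η(k) = k for odd k, k/2 for even k. Then PSp(2n,F) has NO element of order r·p if and only if η(k) > n − 1. -/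
theorem result {F : Type*} [Field F] [Fintype F] (p : ℕ) [Fact p.Prime] [CharP F p] (n : ℕ) (hn : 2 ≤ n) (hsmall : n = 2 → 3 ≤ Fintype.card F)
    (r : ℕ) (hr : r.Prime) (hr2 : r ≠ 2) (hrp : r ≠ p) (hrG : r ∣ Nat.card (Cfsg.PSp n F))
    (k ηk : ℕ) (hk : k = orderOf ((Fintype.card F : ℕ) : ZMod r)) (hηk : (Odd k ∧ ηk = k) ∨ (Even k ∧ 2 * ηk = k)) :
    (r * p ∉ Set.range (orderOf : Cfsg.PSp n F → ℕ)) ↔ n - 1 < ηk := by
  classical
  haveI : NeZero n := ⟨by omega⟩
  have hrodd : Odd r := hr.odd_of_ne_two hr2
  have hpp : p.Prime := Fact.out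
  have hcop : Nat.Coprime r p := (Nat.coprime_primes hr hpp).mpr hrp
  have hq2 : 2 ≤ Fintype.card F := Fintype.one_lt_card
  constructor
  · -- no element implies the bound
    intro hno
    by_contra hle
    apply hno
    have h1 : r ∈ Om ηk F := prime_mem_Om p hr hrp hk hηk
    have h2 : p ∈ Om 1 F := transvection_mem p
    have h3 := lcm_mem_Om h1 h2
    rw [hcop.lcm_eq_mul] at h3
    have h4 : r * p ∈ Om n F := mem_Om_mono h3 (by omega)
    obtain ⟨z, hz⟩ := h4
    by_cases hp2 : p = 2
    · -- characteristic two: the centre is trivial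
      subst hp2
      refine ⟨projSp n F z, ?_⟩
      rw [← hz]
      apply orderOf_eq_orderOf_iff.mpr
      intro j
      rw [← map_pow, projSp_eq_one_iff]
      constructor
      · rintro (h | h)
        · exact h
        · rw [h]
          apply Subtype.ext
          show (-1 : Matrix (Fin n ⊕ Fin n) (Fin n ⊕ Fin n) F) = 1
          have h5 : (-1 : F) = 1 := CharTwo.neg_eq 1
          ext a b
          simp only [Matrix.neg_apply, Matrix.one_apply]
          split_ifs
          · exact h5
          · simp
      · exact Or.inl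
    · have hodd : Odd (r * p) := hrodd.mul (hpp.odd_of_ne_two hp2)
      exact mem_range_of_odd ⟨z, hz⟩ hodd
  · -- the bound implies there is no element
    intro hlt hmem
    -- lift to `Sp`
    have hlift : r * p ∈ Om n F := by
      by_cases hp2 : p = 2
      · subst hp2
        obtain ⟨x, hx⟩ := hmem
        obtain ⟨y, rfl⟩ := projSp_surjective n x
        refine ⟨y, ?_⟩
        rw [← hx]
        apply Eq.symm
        apply orderOf_eq_orderOf_iff.mpr
        intro j
        rw [← map_pow, projSp_eq_one_iff]
        constructor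
        · rintro (h | h)
          · exact h
          · rw [h]
            apply Subtype.ext
            show (-1 : Matrix (Fin n ⊕ Fin n) (Fin n ⊕ Fin n) F) = 1
            have h5 : (-1 : F) = 1 := CharTwo.neg_eq 1
            ext a b
            simp only [Matrix.neg_apply, Matrix.one_apply]
            split_ifs
            · exact h5
            · simp
        · exact Or.inl
      · exact lift_odd hmem (hrodd.mul (hpp.odd_of_ne_two hp2))
    obtain ⟨y, hy⟩ := hlift
    obtain ⟨R, hclosed, hexp, hcard, hcard2⟩ := spec_main p y r 1 hrodd hcop (by rw [pow_one]; exact hy)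
    have hcard3 := hcard2 le_rfl
    rw [Nat.sub_self, pow_zero] at hcard3
    have hne : R.Nonempty := by
      rw [Finset.nonempty_iff_ne_empty]
      rintro rfl
      exact hr.ne_one (eq_of_isExp hexp isExp_empty)
    obtain ⟨ω, hω⟩ := hne
    have hq : Nat.Coprime (Fintype.card F) r := card_coprime_prime p hr hrp
    obtain ⟨S, e, hSR, hωS, he, hScard, hSexp, hdvd, -, hcase⟩ := hclosed.peel hq2 hrodd hq hω
    have hord : orderOf ω = r := by
      have h1 : orderOf ω ∣ r := orderOf_dvd_of_pow_eq_one (hclosed.ord ω hω)
      rcases (Nat.dvd_prime hr).mp h1 with h2 | h2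
      · exfalso
        exact hclosed.one (orderOf_eq_one_iff.mp h2 ▸ hω)
      · exact h2
    rw [hord, ← hk] at hcase
    have h5 : 2 * ηk ≤ S.card := by
      apply orbit_card_ge hηk
      rcases hcase with ⟨h1, m, hm, -⟩ | ⟨h1, -⟩
      · exact Or.inl ⟨h1, m, hm⟩
      · exact Or.inr h1
    have h6 := Finset.card_le_card hSR
    omega

end Cfsg.Agent.S2472
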