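import Mathlib
import Cfsg.Statements.S0732
import Cfsg.Agent.Lib.PrimeDegR19

set_option autoImplicit false
set_option linter.unusedSectionVars false
open Cfsg

namespace Cfsg.Agent.S0732

open MulAction Cfsg.Agent.Lib.ZassCore Cfsg.Agent.Lib.PrimeDegS19

universe u v

section
variable {Γ : Type u} {Ω : Type v} [Group Γ] [MulAction Γ Ω] [FaithfulSMul Γ Ω] [Fintype Ω]
  [Finite Γ] {p d : ℕ} [hpf : Fact p.Prime]
  {x : Γ} {a b : Ω} (hx : orderOf x = p) (hxa : x • a = a) (hxu : ∀ c, x • c = c → c = a)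
  (hΩ : Fintype.card Ω = p + 1) [IsPretransitive Γ Ω]
  (hΓ : Nat.card Γ = (p + 1) * p * d) (hd : d < p)

include hx hxa hxu hΩ hΓ hd in
/-- When the group is not a Zassenhaus group, it has a regular normal subgroup. -/
theorem exists_regular (hab : a ≠ b) (hZ : ¬ IsZassenhausGroup Γ Ω) :
    ∃ N : Subgroup Γ, N.Normal ∧ ∀ y z : Ω, ∃! n : N, (n : Γ) • y = z := by
  classical
  have hcH := card_H hx hxa hxu hΩ hΓ hab
  have hx1 : x ≠ 1 := by
    rintro rfl
    rw [orderOf_one] at hx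
    exact hpf.out.one_lt.ne hx
  by_cases hd1 : d = 1
  · have hfree : ∀ g : Γ, ∀ y z : Ω, g ≠ 1 → g • y = y → g • z = z → y = z := by
      intro g y z hg hy hz
      by_contra hyz
      obtain ⟨k, hka, hkb⟩ := two_trans_aux hx hxa hxu hΩ hab hyz
      apply hg
      have h1 : k⁻¹ * g * k ∈ stabilizer Γ a ⊓ stabilizer Γ b := by
        constructor
        · show (k⁻¹ * g * k) • a = a
          rw [mul_smul, mul_smul, hka, hy, ← hka, inv_smul_smul]
        · show (k⁻¹ * g * k) • b = b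
          rw [mul_smul, mul_smul, hkb, hz, ← hkb, inv_smul_smul]
      have h2 : Nat.card ↥(stabilizer Γ a ⊓ stabilizer Γ b) = 1 := by rw [hcH, hd1]
      have h3 := (Nat.card_eq_one_iff_unique.1 h2).1
      have h4 : (⟨_, h1⟩ : ↥(stabilizer Γ a ⊓ stabilizer Γ b)) = 1 := Subsingleton.elim _ _
      have h5 : k⁻¹ * g * k = 1 := congrArg Subtype.val h4
      have h6 : g = k * (k⁻¹ * g * k) * k⁻¹ := by group
      rw [h6, h5]
      group
    have hne : stabilizer Γ a ≠ ⊥ := by
      intro hbot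
      have h1 : x ∈ stabilizer Γ a := hxa
      rw [hbot, Subgroup.mem_bot] at h1
      exact hx1 h1
    obtain ⟨R, hR1, -, hR3⟩ := exists_regular_kernel hfree a b hab hne
    exact ⟨R, hR1, hR3⟩
  · by_contra hno
    push Not at hno
    apply hZ
    have h0 : 0 < d := by
      rw [← hcH]
      exact Nat.card_pos
    have hnt : Nontrivial ↥(stabilizer Γ a ⊓ stabilizer Γ b) := by
      rw [← Finite.one_lt_card_iff_nontrivial, hcH]
      omega
    obtain ⟨h, hh⟩ := exists_ne (1 : ↥(stabilizer Γ a ⊓ stabilizer Γ b))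
    refine ⟨inferInstance, two_trans hx hxa hxu hΩ hab, ?_, ⟨h, fun h1 => hh (Subtype.ext h1), a, b,
      hab, h.2.1, h.2.2⟩, ?_⟩
    · intro g a' b' c' h1 h2 h3 ha hb hc
      exact eq_one_of_three hx hxa hxu hΩ hΓ hd hab g a' b' c' h1 h2 h3 ha hb hc
    · intro N hN hpt
      by_contra hne
      push Not at hne
      obtain ⟨y, z, hyz⟩ := hno N hN
      apply hyz
      obtain ⟨n, hn⟩ := exists_smul_eq N y z
      refine ⟨n, hn, fun m hm => ?_⟩
      have h1 : n⁻¹ * m ∈ stabilizer N y := by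
        rw [mem_stabilizer_iff, mul_smul]
        have h2 : m • y = z := hm
        rw [h2, ← hn, inv_smul_smul]
      rw [hne y, Subgroup.mem_bot] at h1
      exact (inv_mul_eq_one.1 h1).symm
end

/-- A transitive permutation group on `p + 1` points (`p` prime) of order `(p+1) p d` with `d < p` is isomorphic to `PGL(2,p)` with `d = p - 1`, or to `PSL(2,p)` with `2d = p - 1`, or else `p + 1 = 2^q` for a prime `q`, `d = 1` or `d = q`, and the group is permutation-isomorphic to a group of semi-affine maps `x ↦ a φ(x) + b` of the field with `2^q` elements. -/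
theorem result {α : Type*} [Fintype α] [DecidableEq α] {p d : ℕ} (hp : p.Prime) (hα : Fintype.card α = p + 1) (G : Subgroup (Equiv.Perm α)) [MulAction.IsPretransitive G α] (hG : Nat.card G = (p + 1) * p * d) (hd : d < p) : (d = p - 1 ∧ Nonempty (G ≃* Matrix.ProjGenLinGroup (Fin 2) (ZMod p))) ∨ (2 * d = p - 1 ∧ Nonempty (G ≃* Matrix.ProjectiveSpecialLinearGroup (Fin 2) (ZMod p))) ∨ (∃ q : ℕ, q.Prime ∧ p + 1 = 2 ^ q ∧ (d = 1 ∨ d = q) ∧ ∃ e : α ≃ GaloisField 2 q, ∀ g : G, (e.symm.trans (((g : Equiv.Perm α)).trans e)) ∈ Cfsg.semiaffineGroup (GaloisField 2 q)) := by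
  classical
  haveI : Fact p.Prime := ⟨hp⟩
  have hdvd : p ∣ Nat.card G := by
    rw [hG]
    exact Dvd.dvd.mul_right (Dvd.intro_left _ rfl) _
  obtain ⟨x, hx⟩ := exists_prime_orderOf_dvd_card' p hdvd
  have h0 : 0 < d := by
    rcases Nat.eq_zero_or_pos d with h | h
    · rw [h, mul_zero] at hG
      have := Nat.card_pos (α := G)
      omega
    · exact h
  obtain ⟨a, hxa, hxu⟩ := exists_fixed hα hx
  have hp2' := hp.two_le
  obtain ⟨b, hab⟩ : ∃ b : α, a ≠ b := by
    have : Nontrivial α := by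
      rw [← Fintype.one_lt_card_iff_nontrivial, hα]
      omega
    obtain ⟨b, hb⟩ := exists_ne a
    exact ⟨b, hb.symm⟩
  by_cases hdp : d + 1 = p
  · left
    exact ⟨by omega, Cfsg.Agent.Lib.PrimeDegT19.case_a hx hxa hxu hα hG hd hab hdp⟩
  · by_cases hZ : IsZassenhausGroup G α
    · right; left
      obtain ⟨h1, h2⟩ := Cfsg.Agent.Lib.PrimeDegT19.case_b hx hxa hxu hα hG hd hab hZ hdp
      exact ⟨by omega, h2⟩
    · right; right
      obtain ⟨N, hN, hreg⟩ := exists_regular hx hxa hxu hα hG hd hab hZ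
      have hp2 : p ≠ 2 := by
        rintro rfl
        omega
      obtain ⟨q, hq, hpq, hdq, E, hE⟩ :=
        Cfsg.Agent.Lib.PrimeDegR19.case_c hx hxa hxu hα hG hd hN hreg hab hp2
      refine ⟨q, hq, hpq, hdq, E.symm, fun g => ?_⟩
      obtain ⟨c, σ, b₀, h⟩ := hE g
      refine ⟨c, b₀, σ, fun y => ?_⟩
      show E.symm ((g : Equiv.Perm α) (E y)) = _
      have h1 : (g : Equiv.Perm α) (E y) = E ((c : GaloisField 2 q) * σ y + b₀) := h y
      rw [h1, Equiv.symm_apply_apply]

end Cfsg.Agent.S0732
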