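import Mathlib
import Cfsg.Agent.Lib.SmallAut
import Cfsg.Statements.S0084

set_option autoImplicit false
open Cfsg

namespace Cfsg.Agent.S0084



/-- A group whose Sylow 2-subgroups are Klein four-groups and whose order is prime to 3 has a normal 2-complement. -/
theorem result {G : Type*} [Group G] [Finite G] (T : Sylow 2 G) (hT : IsKleinFour T) (h3 : ¬ 3 ∣ Nat.card G) : Cfsg.HasNormalPComplement 2 G := by
  classical
  have hcomm : IsMulCommutative T := IsKleinFour.isMulCommutative
  refine Cfsg.Agent.Lib.SmallAut.npc_of_aut_trivial T hcomm ?_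
  intro q hq hqG hq2 β hβ
  haveI : Fact q.Prime := ⟨hq⟩
  have hc : Nat.card (T : Subgroup G) = 4 := IsKleinFour.card_four
  have hq3 : q ≠ 3 := by
    rintro rfl
    exact h3 hqG
  apply Cfsg.Agent.Lib.SmallAut.aut_eq_one_of_card β hβ
  rw [hc]
  intro d hd hne hmod
  have hd' : d ∈ Nat.divisors 4 := by simp [hd]
  have hdvd : q ∣ 4 - d := (Nat.modEq_iff_dvd' (Nat.le_of_dvd (by norm_num) hd)).1 hmod.symm
  have hdiv : Nat.divisors 4 = {1, 2, 4} := by decide
  rw [hdiv] at hd'
  simp only [Finset.mem_insert, Finset.mem_singleton] at hd'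
  rcases hd' with rfl | rfl | rfl
  · have : q = 3 := (Nat.prime_dvd_prime_iff_eq hq Nat.prime_three).1 hdvd
    exact hq3 this
  · have : q = 2 := (Nat.prime_dvd_prime_iff_eq hq Nat.prime_two).1 hdvd
    exact hq2 this
  · exact hne rfl

end Cfsg.Agent.S0084
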