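import Mathlib
import Cfsg.Agent.Lib.PComplement
import Cfsg.Statements.S0132

set_option autoImplicit false
open Cfsg

namespace Cfsg.Agent.S0132

open scoped commutatorElement in
open Cfsg.Agent.Lib.PComplement Cfsg.Agent.Lib.TransferCore in
/-- The structure of a proper subgroup: nilpotent. -/
lemma isNilpotent_aux {G : Type*} [Group G] [Finite G] {p : ℕ} [Fact p.Prime] (Q : Subgroup G)
    (hQ : IsPGroup p Q) [hQn : Q.Normal] (hcomm : commutator G ≤ Q)
    (hcop : Nat.Coprime (Nat.card (G ⧸ Q)) p) (H : Subgroup G)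
    (hH : Cfsg.HasNormalPComplement p H) : Group.IsNilpotent H := by
  obtain ⟨S, K, hKn, hKc⟩ := hH
  have hquot : IsPGroup p (H ⧸ K) := by
    rw [IsPGroup.iff_card]
    have h1 : Nat.card (H ⧸ K) = Nat.card S := hKc.symm.index_eq_card
    rw [h1]
    exact IsPGroup.iff_card.1 S.2
  haveI : Group.IsNilpotent (H ⧸ K) := hquot.isNilpotent
  -- the `p`-elements of `H` lie in `Q`
  have hpQ : ∀ s ∈ S, (s : G) ∈ Q := by
    intro s hs
    obtain ⟨k, hk⟩ := S.2 ⟨s, hs⟩
    have hk' : (s : G) ^ p ^ k = 1 := by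
      have := congrArg (fun z : H => (z : G)) (congrArg Subtype.val hk)
      simpa using this
    have h1 : orderOf ((s : G) : G ⧸ Q) ∣ p ^ k := by
      apply orderOf_dvd_of_pow_eq_one
      rw [← QuotientGroup.mk_pow, hk']; rfl
    have h2 : orderOf ((s : G) : G ⧸ Q) ∣ Nat.card (G ⧸ Q) := orderOf_dvd_natCard _
    have h3 := Nat.eq_one_of_dvd_coprimes (Nat.Coprime.pow_right k hcop) h2 h1
    exact (QuotientGroup.eq_one_iff _).1 (orderOf_eq_one_iff.1 h3)
  -- `K` meets `Q` trivially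
  have hKQ : ∀ u : H, u ∈ K → (u : G) ∈ Q → u = 1 := by
    intro u hu huQ
    have h1 := (mem_of_complement_iff hKc u).1 hu
    obtain ⟨k, hk⟩ := hQ ⟨u, huQ⟩
    have hk' : (u : G) ^ p ^ k = 1 := congrArg Subtype.val hk
    have hk'' : u ^ p ^ k = 1 := by
      apply Subtype.ext
      simpa using hk'
    have h2 : orderOf u ∣ p ^ k := orderOf_dvd_of_pow_eq_one hk''
    exact orderOf_eq_one_iff.1 (Nat.eq_one_of_dvd_coprimes (Nat.Coprime.pow_right k h1) dvd_rfl h2)
  refine Subgroup.isNilpotent_of_ker_le_center (QuotientGroup.mk' K) ?_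
  rw [QuotientGroup.ker_mk']
  intro k hk
  rw [Subgroup.mem_center_iff]
  intro h
  have htop : h ∈ K ⊔ (S : Subgroup H) := by rw [hKc.sup_eq_top]; trivial
  obtain ⟨k', hk', s, hs, rfl⟩ := Cfsg.Agent.Lib.PGrp.exists_mul_of_mem_sup htop
  have hcs : k * s * k⁻¹ * s⁻¹ = 1 := by
    apply hKQ
    · have : k * s * k⁻¹ * s⁻¹ = k * (s * k⁻¹ * s⁻¹) := by group
      rw [this]
      exact mul_mem hk (hKn.conj_mem _ (inv_mem hk) s)
    · have hsQ := hpQ s hs
      have : ((k * s * k⁻¹ * s⁻¹ : H) : G) = (k : G) * s * (k : G)⁻¹ * (s : G)⁻¹ := by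
        simp
      rw [this]
      exact mul_mem (hQn.conj_mem _ hsQ _) (inv_mem hsQ)
  have hckk : k * k' * k⁻¹ * k'⁻¹ = 1 := by
    apply hKQ
    · exact mul_mem (mul_mem (mul_mem hk hk') (inv_mem hk)) (inv_mem hk')
    · have : ((k * k' * k⁻¹ * k'⁻¹ : H) : G) = ⁅(k : G), (k' : G)⁆ := by
        simp [commutatorElement_def]
      rw [this]
      apply hcomm
      rw [commutator_def]
      exact Subgroup.commutator_mem_commutator (Subgroup.mem_top _) (Subgroup.mem_top _)
  have e1 : k * s = s * k := by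
    calc k * s = (k * s * k⁻¹ * s⁻¹) * (s * k) := by group
      _ = s * k := by rw [hcs, one_mul]
  have e2 : k * k' = k' * k := by
    calc k * k' = (k * k' * k⁻¹ * k'⁻¹) * (k' * k) := by group
      _ = k' * k := by rw [hckk, one_mul]
  calc (k' * s) * k = k' * (s * k) := by group
    _ = k' * (k * s) := by rw [e1]
    _ = (k' * k) * s := by group
    _ = k * (k' * s) := by rw [← e2]; group

/-- A minimal non-p-nilpotent finite group is a minimal non-nilpotent group with a normal Sylow p-subgroup. -/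
theorem result {G : Type*} [Group G] [Finite G] {p : ℕ} [Fact p.Prime] (h1 : ¬ Cfsg.HasNormalPComplement p G) (h2 : ∀ H : Subgroup G, H ≠ ⊤ → Cfsg.HasNormalPComplement p H) : (∀ H : Subgroup G, H ≠ ⊤ → Group.IsNilpotent H) ∧ ¬ Group.IsNilpotent G ∧ ∀ P : Sylow p G, (P : Subgroup G).Normal := by
  classical
  open Cfsg.Agent.Lib.PComplement in
  have hcrit := h1
  rw [hasNormalPComplement_iff_forall] at hcrit
  push Not at hcrit
  obtain ⟨Q, hQ, g, hg, hgc, hgn⟩ := hcrit
  have hH0 : Q ⊔ Subgroup.zpowers g = ⊤ := by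
    by_contra hne
    have h3 := h2 _ hne
    rw [hasNormalPComplement_iff_forall] at h3
    set H₀ := Q ⊔ Subgroup.zpowers g with hH₀
    have hQH : Q ≤ H₀ := le_sup_left
    have hgH : g ∈ H₀ := (le_sup_right : Subgroup.zpowers g ≤ H₀) (Subgroup.mem_zpowers g)
    have hg' : (⟨g, hgH⟩ : H₀) ∈ Subgroup.normalizer ((Q.subgroupOf H₀ : Subgroup H₀) : Set H₀) := by
      rw [Subgroup.mem_normalizer_iff]
      intro x
      rw [Subgroup.mem_subgroupOf, Subgroup.mem_subgroupOf]
      exact Subgroup.mem_set_normalizer_iff.1 hg x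
    have h4 := h3 (Q.subgroupOf H₀) hQ.comap_subtype ⟨g, hgH⟩ hg'
      (by simpa [Subgroup.orderOf_mk] using hgc)
    apply hgn
    rw [Subgroup.mem_centralizer_iff] at h4 ⊢
    intro x hx
    exact congrArg Subtype.val (h4 ⟨x, hQH hx⟩ (Subgroup.mem_subgroupOf.2 hx))
  -- `Q` is normal
  have hQn : Q.Normal := by
    rw [← Subgroup.normalizer_eq_top_iff, eq_top_iff, ← hH0]
    refine sup_le Subgroup.le_normalizer ?_
    rw [Subgroup.zpowers_le]
    exact hg
  -- the quotient is generated by the image of `g`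
  have hgen : Subgroup.zpowers ((g : G) : G ⧸ Q) = ⊤ := by
    rw [eq_top_iff]
    intro y _
    obtain ⟨y, rfl⟩ := QuotientGroup.mk_surjective y
    have hy : y ∈ Q ⊔ Subgroup.zpowers g := by rw [hH0]; trivial
    obtain ⟨n, hn, x, hx, rfl⟩ := Cfsg.Agent.Lib.PGrp.exists_mul_of_mem_sup hy
    obtain ⟨m, rfl⟩ := Subgroup.mem_zpowers_iff.1 hx
    refine Subgroup.mem_zpowers_iff.2 ⟨m, ?_⟩
    have h3 : ((n : G) : G ⧸ Q) = 1 := (QuotientGroup.eq_one_iff n).2 hn
    simp [h3]
  have hcard : Nat.card (G ⧸ Q) = orderOf ((g : G) : G ⧸ Q) := by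
    rw [← Nat.card_zpowers, hgen]
    exact (Nat.card_congr Subgroup.topEquiv.toEquiv).symm
  have hcop : Nat.Coprime (Nat.card (G ⧸ Q)) p := by
    rw [hcard]
    exact Nat.Coprime.coprime_dvd_left (orderOf_map_dvd (QuotientGroup.mk' Q) g) hgc
  have hcomm : commutator G ≤ Q := by
    have hQcyc : IsCyclic (G ⧸ Q) := ⟨⟨g, fun y => by
      have : y ∈ Subgroup.zpowers ((g : G) : G ⧸ Q) := by rw [hgen]; trivial
      exact this⟩⟩
    rw [commutator_def, Subgroup.commutator_le]
    intro a _ b _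
    rw [← QuotientGroup.eq_one_iff]
    letI := hQcyc.commGroup
    have hab : (a : G ⧸ Q) * b = b * a := mul_comm _ _
    rw [commutatorElement_def, QuotientGroup.mk_mul, QuotientGroup.mk_mul, QuotientGroup.mk_mul,
      QuotientGroup.mk_inv, QuotientGroup.mk_inv, hab]
    group
  refine ⟨fun H hH => isNilpotent_aux Q hQ hcomm hcop H (h2 H hH), ?_, ?_⟩
  · intro hnil
    apply hgn
    rw [Subgroup.mem_centralizer_iff]
    intro x hx
    obtain ⟨k, hk⟩ := hQ ⟨x, hx⟩
    have hk' : x ^ p ^ k = 1 := congrArg Subtype.val hk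
    exact commute_of_isNilpotent ⟨k, hk'⟩ hgc
  · intro P
    have hnd : ¬ p ∣ Q.index := by
      intro hd
      have hcop' := hcop
      rw [Nat.coprime_comm, Nat.Prime.coprime_iff_not_dvd Fact.out] at hcop'
      exact hcop' hd
    let Qs : Sylow p G := hQ.toSylow hnd
    have hQs : (Qs : Subgroup G) = Q := rfl
    obtain ⟨x, hx⟩ := MulAction.exists_smul_eq G Qs P
    haveI : (Qs : Subgroup G).Normal := hQn
    rw [← hx, Sylow.smul_eq_of_normal]
    exact hQn

end Cfsg.Agent.S0132
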