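import Mathlib
import Cfsg.Statements.S3050
import Cfsg.Agent.Lib.H73SL2C

set_option autoImplicit false
set_option linter.unusedSectionVars false
set_option linter.unusedVariables false

open Cfsg

namespace Cfsg.Agent.S3050

open Cfsg.Agent.Lib.SL2NaturalModule Cfsg.Agent.Lib.H73SL2A Cfsg.Agent.Lib.H73SL2B
  Cfsg.Agent.Lib.H73SL2C
open scoped IsMulCommutative

theorem char_two {K : Type*} [Field K] [Fintype K] (n : ℕ) (hK : Fintype.card K = 2 ^ n) :
    CharP K 2 := by
  obtain ⟨p, hp⟩ := CharP.exists K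
  haveI := hp
  obtain ⟨m, hpp, hcard⟩ := FiniteField.card K p
  have h1 : p ∣ 2 ^ n := by
    rw [← hK, hcard]
    exact dvd_pow_self _ m.ne_zero
  have h2 := (Nat.prime_dvd_prime_iff_eq hpp Nat.prime_two).mp (hpp.dvd_of_dvd_pow h1)
  rw [h2] at hp
  exact hp

/-- Let G be a finite group with a normal 2-subgroup Q such that G/Q is isomorphic to SL(2, 2ⁿ) with n ≥ 2, and suppose some element of G of order 3 fixes no nonidentity element of Q under conjugation. Then Q is elementary abelian and is the direct product of normal subgroups of G on each of which G acts as SL(2, 2ⁿ) acts on its natural two-dimensional module (a Galois twist of the natural action allowed). -/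
theorem result {G : Type*} [Group G] [Finite G]
    (Q : Subgroup G) [Q.Normal] (hQ : IsPGroup 2 ↥Q) (n : ℕ) (hn : 2 ≤ n)
    (K : Type*) [Field K] [Fintype K] (hK : Fintype.card K = 2 ^ n)
    (e : G ⧸ Q ≃* Matrix.SpecialLinearGroup (Fin 2) K)
    (x : G) (hx : orderOf x = 3) (hfpf : ∀ q ∈ Q, x * q * x⁻¹ = q → q = 1) :
    Cfsg.IsElementaryAbelian 2 Q ∧
      ∃ (k : ℕ) (V : Fin k → Subgroup G), (∀ i, V i ≤ Q ∧ (V i).Normal ∧
        Cfsg.ActsAsSL2OnSection K ⊤ ⊤ (V i) ⊥) ∧ iSupIndep V ∧ ⨆ i, V i = Q := by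
  classical
  haveI hchar : CharP K 2 := char_two n hK
  have hsq : ∀ x : K, ∃ y, y * y = x := by
    intro a
    obtain ⟨r, hr⟩ := FiniteField.isSquare_of_char_two (ringChar.eq K 2) a
    exact ⟨r, hr.symm⟩
  obtain ⟨g, hg1⟩ : ∃ g : Kˣ, (g : K) ≠ 1 := by
    have hcard : 4 ≤ Fintype.card K := by
      rw [hK]
      calc 4 = 2 ^ 2 := rfl
        _ ≤ 2 ^ n := Nat.pow_le_pow_right (by norm_num) hn
    have hlt : ({0, 1} : Finset K).card < (Finset.univ : Finset K).card := by
      rw [Finset.card_univ]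
      exact lt_of_le_of_lt (Finset.card_le_two) (by omega)
    obtain ⟨a, -, ha⟩ := Finset.exists_mem_notMem_of_card_lt_card hlt
    simp only [Finset.mem_insert, Finset.mem_singleton, not_or] at ha
    exact ⟨Units.mk0 a ha.1, ha.2⟩
  have hC : CondT e := cond_of_x e hQ x hx hfpf
  obtain ⟨hab, h2⟩ := elem hsq g hg1 _ G Q hQ e hC rfl
  haveI cQ : IsMulCommutative Q :=
    isMulCommutative_iff.mpr fun x y => Subtype.ext (hab _ x.2 _ y.2)
  refine ⟨⟨cQ, fun a ha => by rw [pow_two]; exact h2 a ha⟩, ?_⟩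
  have hPN : ∀ p ∈ Q, ∀ n ∈ Q, p * n * p⁻¹ = n := by
    intro p hp n hn
    rw [hab p hp n hn, mul_inv_cancel_right]
  letI act := secAct e Q hPN
  haveI F : Fact (HT K (Additive Q)) := ⟨HT_sec e Q hC le_rfl hPN⟩
  have two : ∀ m : Additive Q, m + m = 0 := by
    intro m
    have : m.toMul * m.toMul = 1 := Subtype.ext (h2 _ m.toMul.2)
    exact this
  have M : ∀ m : Additive Q, m ∈ B K (Additive Q) := fun m =>
    main (fun m => two (m + m)) hsq g hg1 m
  obtain ⟨k, coord, hequi, hinj, hsurj⟩ := exists_coords M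
  let pt : ∀ x : G, x ∈ Q → Additive Q := fun x h => Additive.ofMul (⟨x, h⟩ : Q)
  have pt_mul : ∀ (x y : G) (hx : x ∈ Q) (hy : y ∈ Q), pt (x * y) (Q.mul_mem hx hy) = pt x hx + pt y hy :=
    fun _ _ _ _ => rfl
  have hconj : ∀ (g x : G) (hx : x ∈ Q), (e (g : G ⧸ Q)) • pt x hx =
      pt (g * x * g⁻¹) ((inferInstance : Q.Normal).conj_mem x hx g) := by
    intro g x hx
    apply Additive.toMul.injective
    apply Subtype.ext
    exact secAct_mk e Q hPN g (pt x hx)
  have coord_one : ∀ j, coord j (pt 1 Q.one_mem) = 0 := fun j => map_zero (coord j)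
  have coord_inv : ∀ (j) (x : G) (hx : x ∈ Q), coord j (pt x⁻¹ (Q.inv_mem hx)) = - coord j (pt x hx) := by
    intro j x hx
    rw [← map_neg]
    rfl
  -- the subgroups
  let V : Fin k → Subgroup G := fun i =>
    { carrier := {x | ∃ h : x ∈ Q, ∀ j, j ≠ i → coord j (pt x h) = 0}
      mul_mem' := by
        rintro a b ⟨ha, ha'⟩ ⟨hb, hb'⟩
        refine ⟨Q.mul_mem ha hb, fun j hj => ?_⟩
        rw [pt_mul a b ha hb, map_add, ha' j hj, hb' j hj, add_zero]
      one_mem' := ⟨Q.one_mem, fun j _ => coord_one j⟩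
      inv_mem' := by
        rintro a ⟨ha, ha'⟩
        refine ⟨Q.inv_mem ha, fun j hj => ?_⟩
        rw [coord_inv j a ha, ha' j hj, neg_zero] }
  have hVmem : ∀ i x, x ∈ V i ↔ ∃ h : x ∈ Q, ∀ j, j ≠ i → coord j (pt x h) = 0 := fun _ _ => Iff.rfl
  have hVQ : ∀ i, V i ≤ Q := fun i x hx => hx.1
  have hVconj : ∀ i (g x : G), x ∈ V i → g * x * g⁻¹ ∈ V i := by
    rintro i g x ⟨hx, hx'⟩
    refine ⟨(inferInstance : Q.Normal).conj_mem x hx g, fun j hj => ?_⟩
    rw [← hconj g x hx, hequi, hx' j hj, Matrix.mulVec_zero]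
  have hVn : ∀ i, (V i).Normal := fun i => ⟨fun x hx g => hVconj i g x hx⟩
  have hone : ∀ (x : G) (hx : x ∈ Q), (∀ j, coord j (pt x hx) = 0) → x = 1 := by
    intro x hx h
    have h1 := hinj _ h
    have h3 : (⟨x, hx⟩ : Q) = 1 := h1
    exact congrArg Subtype.val h3
  refine ⟨k, V, fun i => ⟨hVQ i, hVn i, ?_⟩, ?_, ?_⟩
  · -- action on `V i`
    refine ⟨?_, bot_le, ?_⟩
    · intro g _
      rw [Subgroup.mem_normalizer_iff]
      intro h
      constructor
      · exact hVconj i g h
      · intro hh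
        have := hVconj i g⁻¹ _ hh
        simpa [mul_assoc] using this
    · let ρ : (⊤ : Subgroup G) →* Matrix.SpecialLinearGroup (Fin 2) K :=
        (e.toMonoidHom.comp (QuotientGroup.mk' Q)).comp (⊤ : Subgroup G).subtype
      let ψ : V i →* Multiplicative (Fin 2 → K) :=
        { toFun := fun u => Multiplicative.ofAdd (coord i (pt u (hVQ i u.2)))
          map_one' := by
            change Multiplicative.ofAdd (coord i (pt 1 Q.one_mem)) = 1
            rw [coord_one]
            rfl
          map_mul' := by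
            intro u w
            change Multiplicative.ofAdd (coord i (pt (u * w) (Q.mul_mem (hVQ i u.2) (hVQ i w.2)))) = _
            rw [pt_mul (u : G) (w : G) (hVQ i u.2) (hVQ i w.2), map_add]
            rfl }
      refine ⟨ρ, ψ, ?_, ?_, ?_, ?_⟩
      · rw [MonoidHom.range_eq_top]
        intro s
        obtain ⟨h, hh⟩ := QuotientGroup.mk_surjective (e.symm s)
        refine ⟨⟨h, Subgroup.mem_top h⟩, ?_⟩
        change e (h : G ⧸ Q) = s
        rw [hh, MulEquiv.apply_symm_apply]
      · intro w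
        obtain ⟨m, hm1, hm2⟩ := hsurj i (Multiplicative.toAdd w)
        have hm : ((m.toMul : Q) : G) ∈ V i := ⟨m.toMul.2, hm2⟩
        refine ⟨⟨_, hm⟩, ?_⟩
        change Multiplicative.ofAdd (coord i m) = w
        rw [hm1]
        rfl
      · rintro ⟨u, hu⟩
        constructor
        · intro h
          have h1 : coord i (pt u (hVQ i hu)) = 0 := Multiplicative.ofAdd.injective h
          rw [Subgroup.mem_bot]
          refine hone u (hVQ i hu) (fun j => ?_)
          by_cases hj : j = i
          · rw [hj]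
            exact h1
          · exact hu.2 j hj
        · intro h
          rw [Subgroup.mem_bot] at h
          have hu1 : (⟨u, hu⟩ : V i) = 1 := Subtype.ext h
          rw [hu1, map_one]
      · rintro ⟨h, -⟩ ⟨u, hu⟩
        refine ⟨⟨h * u * h⁻¹, hVconj i h u hu⟩, rfl, ?_⟩
        change coord i (pt (h * u * h⁻¹) _) = _
        rw [← hconj h u (hVQ i hu), hequi]
        rfl
  · -- independence
    let T : Fin k → Subgroup G := fun i =>
      { carrier := {x | ∃ h : x ∈ Q, coord i (pt x h) = 0}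
        mul_mem' := by
          rintro a b ⟨ha, ha'⟩ ⟨hb, hb'⟩
          refine ⟨Q.mul_mem ha hb, ?_⟩
          rw [pt_mul a b ha hb, map_add, ha', hb', add_zero]
        one_mem' := ⟨Q.one_mem, coord_one i⟩
        inv_mem' := by
          rintro a ⟨ha, ha'⟩
          refine ⟨Q.inv_mem ha, ?_⟩
          rw [coord_inv i a ha, ha', neg_zero] }
    rw [iSupIndep_def]
    intro i
    rw [Subgroup.disjoint_def]
    intro x hx1 hx2
    have hle : (⨆ (j : Fin k) (_ : j ≠ i), V j) ≤ T i := by
      refine iSup_le fun j => iSup_le fun hj => ?_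
      rintro y ⟨hy, hy'⟩
      exact ⟨hy, hy' i hj.symm⟩
    obtain ⟨h1, h2'⟩ := hle hx2
    obtain ⟨h3, h4⟩ := hx1
    refine hone x h3 (fun j => ?_)
    by_cases hj : j = i
    · rw [hj]
      exact h2'
    · exact h4 j hj
  · -- generation
    apply le_antisymm (iSup_le hVQ)
    intro x hx
    have hfin : ∀ m : Additive Q, ((m.toMul : Q) : G) ∈ ⨆ i, V i := by
      intro m
      -- components of `m`
      choose comp hcomp1 hcomp2 using fun i => hsurj i (coord i m)
      have hcompV : ∀ i, ((comp i).toMul : G) ∈ ⨆ i, V i := by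
        intro i
        exact Subgroup.mem_iSup_of_mem i ⟨(comp i).toMul.2, hcomp2 i⟩
      have hsum : m = ∑ i, comp i := by
        rw [← sub_eq_zero]
        apply hinj
        intro j
        rw [map_sub, map_sum, Finset.sum_eq_single j, hcomp1, sub_self]
        · intro l _ hl
          exact hcomp2 l j hl.symm
        · intro h
          exact absurd (Finset.mem_univ j) h
      let S : AddSubgroup (Additive Q) := ((⨆ i, V i).subgroupOf Q).toAddSubgroup
      have hS : ∀ a : Additive Q, a ∈ S ↔ ((a.toMul : Q) : G) ∈ ⨆ i, V i := fun a => Iff.rfl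
      have : m ∈ S := by
        rw [hsum]
        exact sum_mem fun i _ => (hS _).mpr (hcompV i)
      exact (hS _).mp this
    exact hfin (Additive.ofMul (⟨x, hx⟩ : Q))

end Cfsg.Agent.S3050
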