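import Mathlib
import Cfsg.Agent.Lib.FusionAlperin
import Cfsg.Agent.Lib.FusionSat
import Cfsg.Agent.Lib.CosetGraph2
import Cfsg.Statements.S5246

set_option autoImplicit false
open Cfsg

namespace Cfsg.Agent.S5246

open Cfsg.FusionSystem
open Cfsg.Agent.Lib.FusionAlperin
open scoped commutatorElement

section Aux

variable {Ω₀ : Type*} [Group Ω₀] {p₀ : ℕ}

theorem conj_mem_normalizer {Q R : Subgroup Ω₀} {y : Ω₀} (hQR : ∀ a, a ∈ Q ↔ y * a * y⁻¹ ∈ R) {n : Ω₀}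
    (hn : n ∈ Subgroup.normalizer (Q : Set Ω₀)) : y * n * y⁻¹ ∈ Subgroup.normalizer (R : Set Ω₀) := by
  apply Subgroup.mem_normalizer_iff.mpr
  intro a
  have h1 := hQR (y⁻¹ * a * y)
  have e1 : y * (y⁻¹ * a * y) * y⁻¹ = a := by group
  rw [e1] at h1
  have h2 := Subgroup.mem_normalizer_iff.mp hn (y⁻¹ * a * y)
  have h3 := hQR (n * (y⁻¹ * a * y) * n⁻¹)
  have e2 : y * (n * (y⁻¹ * a * y) * n⁻¹) * y⁻¹ = y * n * y⁻¹ * a * (y * n * y⁻¹)⁻¹ := by group
  rw [e2] at h3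
  rw [← h1, h2, h3]

/-- The main lemma: `N_G(Q)/C_G(Q) ≅ Aut_F(R)` for `R = Q^y` inside `P`. -/
theorem key_equiv {P Q R : Subgroup Ω₀} {y : Ω₀} (hRP : R ≤ P)
    (hQR : ∀ a, a ∈ Q ↔ y * a * y⁻¹ ∈ R) (g : Ω₀) (hg : g ∈ Subgroup.normalizer (Q : Set Ω₀))
    (χ : MulAut R) (hχ : ∀ x : R, ((χ x : R) : Ω₀) = (y * g * y⁻¹) * x * (y * g * y⁻¹)⁻¹) :
    χ ∈ (Cfsg.groupFusionSystem P).autGroup R ∧
      ((QuotientGroup.mk (s := (Subgroup.centralizer (Q : Set Ω₀)).subgroupOf (Subgroup.normalizer (Q : Set Ω₀)))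
        (⟨g, hg⟩ : ↥(Subgroup.normalizer (Q : Set Ω₀)))) ∈
        Cfsg.pCore p₀ (↥(Subgroup.normalizer (Q : Set Ω₀)) ⧸
          (Subgroup.centralizer (Q : Set Ω₀)).subgroupOf (Subgroup.normalizer (Q : Set Ω₀))) ↔
      χ ∈ ((Cfsg.pCore p₀ ↥((Cfsg.groupFusionSystem P).autGroup R)).map
        ((Cfsg.groupFusionSystem P).autGroup R).subtype : Subgroup (MulAut ↥R))) := by
  classical
  set F := Cfsg.groupFusionSystem P with hF
  have hmem : ∀ α : MulAut R, ∀ h : Ω₀, (∀ x : R, ((α x : R) : Ω₀) = h * x * h⁻¹) → α ∈ F.autGroup R := by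
    intro α h hα
    exact (mem_autGroup_iff hRP).mpr ⟨hRP, fun x => hRP (α x).2, h, hα⟩
  have hχmem : χ ∈ F.autGroup R := hmem χ _ hχ
  refine ⟨hχmem, ?_⟩
  let N := Subgroup.normalizer (Q : Set Ω₀)
  let f₀ : N →* MulAut R :=
    { toFun := fun n => conjAut R (y * n * y⁻¹) (conj_mem_normalizer hQR n.2)
      map_one' := by
        ext x
        simp
      map_mul' := by
        intro a b
        ext x
        simp only [conjAut_apply, Subgroup.coe_mul, MulAut.mul_apply]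
        group }
  have hf₀ : ∀ n : N, f₀ n ∈ F.autGroup R := fun n => hmem _ (y * n * y⁻¹) (fun x => rfl)
  let f : N →* F.autGroup R := f₀.codRestrict _ hf₀
  have hfapply : ∀ (n : N) (x : R), (((f n : F.autGroup R) : MulAut R) x : Ω₀) = (y * n * y⁻¹) * x * (y * n * y⁻¹)⁻¹ :=
    fun n x => rfl
  have hfs : Function.Surjective f := by
    rintro ⟨α, hα⟩
    obtain ⟨-, -, h, hh⟩ := (mem_autGroup_iff hRP).mp hα
    have hhN : h ∈ Subgroup.normalizer (R : Set Ω₀) := mem_normalizer_of_induces hh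
    have hrev : ∀ a, a ∈ R ↔ y⁻¹ * a * y⁻¹⁻¹ ∈ Q := by
      intro a
      rw [hQR]
      have e1 : y * (y⁻¹ * a * y⁻¹⁻¹) * y⁻¹ = a := by group
      rw [e1]
    have hnN := conj_mem_normalizer (Q := R) (R := Q) (y := y⁻¹) hrev hhN
    refine ⟨⟨_, hnN⟩, ?_⟩
    apply Subtype.ext
    ext x
    rw [hfapply]
    have hh' : ((α x : R) : Ω₀) = h * x * h⁻¹ := hh x
    show _ = ((α x : R) : Ω₀)
    rw [hh']
    simp only []
    group
  have hker : f.ker = (Subgroup.centralizer (Q : Set Ω₀)).subgroupOf N := by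
    ext n
    rw [MonoidHom.mem_ker, Subgroup.mem_subgroupOf, Subgroup.mem_centralizer_iff]
    constructor
    · intro h a ha
      have h1 : (((f n : F.autGroup R) : MulAut R) ⟨_, (hQR a).mp ha⟩ : Ω₀) = y * a * y⁻¹ := by
        rw [h]
        rfl
      rw [hfapply] at h1
      have h2 : y * ((n : Ω₀) * a * (n : Ω₀)⁻¹) * y⁻¹ = y * a * y⁻¹ := by
        rw [← h1]
        simp only []
        group
      have h3 : (n : Ω₀) * a * (n : Ω₀)⁻¹ = a := mul_left_cancel (mul_right_cancel h2)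
      calc a * (n : Ω₀) = (n : Ω₀) * a * (n : Ω₀)⁻¹ * (n : Ω₀) := by rw [h3]
        _ = (n : Ω₀) * a := by group
    · intro h
      apply Subtype.ext
      ext x
      rw [hfapply]
      have h1 : y⁻¹ * (x : Ω₀) * y ∈ Q := by
        rw [hQR]
        have e1 : y * (y⁻¹ * (x : Ω₀) * y) * y⁻¹ = x := by group
        rw [e1]
        exact x.2
      have h2 := h _ h1
      show y * (n : Ω₀) * y⁻¹ * (x : Ω₀) * (y * (n : Ω₀) * y⁻¹)⁻¹ = x
      have e2 : y * (n : Ω₀) * y⁻¹ * (x : Ω₀) * (y * (n : Ω₀) * y⁻¹)⁻¹ =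
          y * ((n : Ω₀) * (y⁻¹ * (x : Ω₀) * y)) * (n : Ω₀)⁻¹ * y⁻¹ := by group
      rw [e2, ← h2]
      group
  let e : (N ⧸ (Subgroup.centralizer (Q : Set Ω₀)).subgroupOf N) ≃* F.autGroup R :=
    (QuotientGroup.quotientMulEquivOfEq hker.symm).trans (QuotientGroup.quotientKerEquivOfSurjective f hfs)
  have hemk : e (QuotientGroup.mk ⟨g, hg⟩) = ⟨χ, hχmem⟩ := by
    apply Subtype.ext
    ext x
    show (((f ⟨g, hg⟩ : F.autGroup R) : MulAut R) x : Ω₀) = _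
    rw [hfapply, hχ]
  have h1 := Cfsg.Agent.Lib.CosetGraph2.mem_pCore_equiv_iff p₀ e (QuotientGroup.mk ⟨g, hg⟩)
  rw [hemk] at h1
  rw [← h1]
  constructor
  · intro h
    exact ⟨⟨χ, hχmem⟩, h, rfl⟩
  · rintro ⟨⟨β, hβ⟩, hβp, hβχ⟩
    have : β = χ := hβχ
    subst this
    exact hβp

/-- From the element form to the subgroup form of quadratic action. -/
theorem comm_eq_bot_of_quad [Finite Ω₀] {Q : Subgroup Ω₀} {g : Ω₀}
    (h : ∀ b ∈ Q, g * (b⁻¹ * (g * b * g⁻¹)) = (b⁻¹ * (g * b * g⁻¹)) * g) :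
    ⁅⁅Q, Subgroup.zpowers g⁆, Subgroup.zpowers g⁆ = ⊥ := by
  rw [Subgroup.commutator_eq_bot_iff_le_centralizer]
  rw [Subgroup.commutator_le]
  intro a ha k hk
  -- write `k` as a natural power of `g`
  have hk' : k ∈ Submonoid.powers g := (mem_powers_iff_mem_zpowers).mpr hk
  obtain ⟨n, rfl⟩ := hk'
  set b := a⁻¹ with hb
  have hbQ : b ∈ Q := Q.inv_mem ha
  set y := b⁻¹ * (g * b * g⁻¹) with hy
  have hyc : Commute g y := h b hbQ
  -- `b⁻¹ g^n b g^{-n} = y ^ n`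
  have hpow : ∀ n : ℕ, b⁻¹ * (g ^ n * b * (g ^ n)⁻¹) = y ^ n := by
    intro n
    induction n with
    | zero => simp
    | succ n ih =>
      have h1 : g ^ n * y * (g ^ n)⁻¹ = y := by
        rw [(hyc.pow_left n).eq]
        group
      have hgb : g * b * g⁻¹ = b * y := by
        rw [hy]
        group
      calc b⁻¹ * (g ^ (n + 1) * b * (g ^ (n + 1))⁻¹) = b⁻¹ * (g ^ n * (g * b * g⁻¹) * (g ^ n)⁻¹) := by
            rw [pow_succ]
            group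
        _ = b⁻¹ * (g ^ n * b * (g ^ n)⁻¹) * (g ^ n * y * (g ^ n)⁻¹) := by
            rw [hgb]
            group
        _ = y ^ n * y := by rw [ih, h1]
        _ = y ^ (n + 1) := (pow_succ _ _).symm
  have hcomm : ⁅a, g ^ n⁆ = y ^ n := by
    rw [← hpow, commutatorElement_def, hb, inv_inv]
    group
  rw [hcomm]
  -- commutes with every element of `zpowers g`
  rw [Subgroup.mem_centralizer_iff]
  intro z hz
  obtain ⟨m, rfl⟩ := hz
  exact ((hyc.pow_right n).zpow_left m).eq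

end Aux

/-- Let p be an odd prime, G a finite group and P a Sylow p-subgroup. Call a fusion system F p-stable when, for every fully normalized subgroup Q and every χ ∈ Aut_F(Q) acting quadratically on Q (that is, χ fixes a⁻¹χ(a) for every a ∈ Q; equivalently χ(a⁻¹)·a·χ(a⁻¹)·χ(χ(a)) = 1), χ lies in O_p(Aut_F(Q)). Then G is p-stable in the normalizer form (for every p-subgroup Q and x ∈ N_G(Q) with [Q, x, x] = 1, the image of x lies in O_p(N_G(Q)/C_G(Q))) if and only if the fusion system of G on P is p-stable. -/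
theorem result {Ω : Type*} [Group Ω] [Finite Ω] {p : ℕ} [Fact p.Prime] (hp : p ≠ 2) (P : Sylow p Ω) : Cfsg.IsNormalizerPStable p Ω ↔ (∀ Q : Subgroup Ω, (Cfsg.groupFusionSystem (P : Subgroup Ω)).IsFullyNormalized Q → ∀ χ : MulAut ↥Q, χ ∈ (Cfsg.groupFusionSystem (P : Subgroup Ω)).autGroup Q → (∀ a : ↥Q, (χ a⁻¹) * a * (χ a⁻¹) * (χ (χ a)) = 1) → χ ∈ ((Cfsg.pCore p ↥((Cfsg.groupFusionSystem (P : Subgroup Ω)).autGroup Q)).map ((Cfsg.groupFusionSystem (P : Subgroup Ω)).autGroup Q).subtype : Subgroup (MulAut ↥Q))) := by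
  classical
  have hpp : p.Prime := Fact.out
  set F := Cfsg.groupFusionSystem (P : Subgroup Ω) with hFdef
  constructor
  · intro hst Q hQ χ hχ hquad
    have hQP : Q ≤ (P : Subgroup Ω) := hQ.1
    obtain ⟨-, -, g, hg⟩ := (mem_autGroup_iff hQP).mp hχ
    have hg' : ∀ x : Q, ((χ x : Q) : Ω) = g * x * g⁻¹ := hg
    have hgN : g ∈ Subgroup.normalizer (Q : Set Ω) := mem_normalizer_of_induces hg'
    have hQp : IsPGroup p Q := P.isPGroup'.to_le hQP
    have hcomm : ⁅⁅Q, Subgroup.zpowers g⁆, Subgroup.zpowers g⁆ = ⊥ := by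
      apply comm_eq_bot_of_quad
      intro b hb
      have h1 := hquad ⟨b, hb⟩
      have h2 : ((χ (⟨b, hb⟩ : Q)⁻¹ : Q) : Ω) = g * b⁻¹ * g⁻¹ := by
        rw [map_inv, Subgroup.coe_inv, hg']
        group
      have h3 : ((χ (χ ⟨b, hb⟩) : Q) : Ω) = g * (g * b * g⁻¹) * g⁻¹ := by
        rw [hg', hg']
      have h4 := congrArg Subtype.val h1
      simp only [Subgroup.coe_mul, Subgroup.coe_one] at h4
      rw [h2, h3] at h4
      -- rotate
      have h5 : b * g * b⁻¹ * g⁻¹ * (g * (g * b * g⁻¹) * g⁻¹) * (g * b⁻¹ * g⁻¹) = 1 := by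
        have e1 : b * g * b⁻¹ * g⁻¹ * (g * (g * b * g⁻¹) * g⁻¹) * (g * b⁻¹ * g⁻¹) =
            (g * b⁻¹ * g⁻¹)⁻¹ * (g * b⁻¹ * g⁻¹ * b * (g * b⁻¹ * g⁻¹) * (g * (g * b * g⁻¹) * g⁻¹)) * (g * b⁻¹ * g⁻¹) := by
          group
        rw [e1, h4]
        group
      have e2 : g * (b⁻¹ * (g * b * g⁻¹)) * g⁻¹ * (b⁻¹ * (g * b * g⁻¹))⁻¹ =
          g * b⁻¹ * g⁻¹ * (g * (g * b * g⁻¹) * g⁻¹) * (g * b⁻¹ * g⁻¹) * b := by group
      have h6 : g * (b⁻¹ * (g * b * g⁻¹)) * g⁻¹ * (b⁻¹ * (g * b * g⁻¹))⁻¹ = 1 := by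
        rw [e2]
        have e3 : g * b⁻¹ * g⁻¹ * (g * (g * b * g⁻¹) * g⁻¹) * (g * b⁻¹ * g⁻¹) * b =
            b⁻¹ * (b * g * b⁻¹ * g⁻¹ * (g * (g * b * g⁻¹) * g⁻¹) * (g * b⁻¹ * g⁻¹)) * b := by group
        rw [e3, h5]
        group
      calc g * (b⁻¹ * (g * b * g⁻¹)) =
          (g * (b⁻¹ * (g * b * g⁻¹)) * g⁻¹ * (b⁻¹ * (g * b * g⁻¹))⁻¹) * ((b⁻¹ * (g * b * g⁻¹)) * g) := by group
        _ = (b⁻¹ * (g * b * g⁻¹)) * g := by rw [h6, one_mul]
    have h1 := hst Q hQp g hgN hcomm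
    have hQQ : ∀ a, a ∈ Q ↔ (1 : Ω) * a * (1 : Ω)⁻¹ ∈ Q := by
      intro a
      simp
    have h2 := (key_equiv (p₀ := p) (P := (P : Subgroup Ω)) hQP hQQ g hgN χ (fun x => by
      rw [hg']
      simp)).2
    exact h2.mp h1
  · intro hyp Q hQp g hgN hcomm
    -- conjugate `Q` into `P`
    obtain ⟨P', hP'⟩ := hQp.exists_le_sylow
    obtain ⟨z, hz⟩ := MulAction.exists_smul_eq Ω P' P
    let R₁ : Subgroup Ω := Q.map (MulAut.conj z).toMonoidHom
    have hR₁ : R₁ ≤ (P : Subgroup Ω) := by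
      rintro _ ⟨a, ha, rfl⟩
      rw [← hz]
      exact ⟨a, hP' ha, rfl⟩
    obtain ⟨R, hR₁R, hfn⟩ := Cfsg.Agent.Lib.FusionSat.exists_fullyNormalized_conj (F := F) hR₁
    obtain ⟨φ, hφ, hφr⟩ := hR₁R
    obtain ⟨-, -, h, hh⟩ := hφ
    have hRP : R ≤ (P : Subgroup Ω) := hfn.1
    set y := h * z with hy
    have hQR : ∀ a, a ∈ Q ↔ y * a * y⁻¹ ∈ R := by
      intro a
      constructor
      · intro ha
        have h1 : z * a * z⁻¹ ∈ R₁ := ⟨a, ha, rfl⟩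
        rw [← hφr]
        refine ⟨⟨_, h1⟩, ?_⟩
        rw [hh]
        simp only [hy]
        group
      · intro ha
        rw [← hφr] at ha
        obtain ⟨⟨b, hb⟩, hbe⟩ := ha
        rw [hh] at hbe
        have h1 : b = z * a * z⁻¹ := by
          have h2 : h * b * h⁻¹ = h * (z * a * z⁻¹) * h⁻¹ := by
            rw [show h * (z * a * z⁻¹) * h⁻¹ = y * a * y⁻¹ by simp only [hy]; group]
            exact hbe
          exact mul_left_cancel (mul_right_cancel h2)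
        rw [h1] at hb
        obtain ⟨c, hc, hce⟩ := hb
        have : c = a := by
          have h2 : z * c * z⁻¹ = z * a * z⁻¹ := hce
          exact mul_left_cancel (mul_right_cancel h2)
        rwa [← this]
    have hN' := conj_mem_normalizer hQR hgN
    set g' := y * g * y⁻¹ with hg'
    let χ : MulAut R := conjAut R g' hN'
    have hχ : ∀ x : R, ((χ x : R) : Ω) = g' * x * g'⁻¹ := fun x => rfl
    obtain ⟨hχmem, hiff⟩ := key_equiv (p₀ := p) (P := (P : Subgroup Ω)) hRP hQR g hgN χ hχ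
    apply hiff.mpr
    apply hyp R hfn χ hχmem
    intro a
    -- the element `b` of `Q`
    set b := y⁻¹ * (a : Ω) * y with hb
    have hbQ : b ∈ Q := by
      rw [hQR, hb]
      have e1 : y * (y⁻¹ * (a : Ω) * y) * y⁻¹ = a := by group
      rw [e1]
      exact a.2
    have h1 : ⁅⁅b, g⁆, g⁆ = 1 := by
      have h2 : ⁅⁅b, g⁆, g⁆ ∈ ⁅⁅Q, Subgroup.zpowers g⁆, Subgroup.zpowers g⁆ :=
        Subgroup.commutator_mem_commutator (Subgroup.commutator_mem_commutator hbQ (Subgroup.mem_zpowers g))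
          (Subgroup.mem_zpowers g)
      rw [hcomm] at h2
      exact Subgroup.mem_bot.mp h2
    have h2 : ⁅⁅(a : Ω), g'⁆, g'⁆ = 1 := by
      have e1 : ⁅⁅(a : Ω), g'⁆, g'⁆ = y * ⁅⁅b, g⁆, g⁆ * y⁻¹ := by
        simp only [commutatorElement_def, hb, hg']
        group
      rw [e1, h1]
      group
    apply Subtype.ext
    simp only [Subgroup.coe_mul, Subgroup.coe_one]
    have h3 : ((χ a⁻¹ : R) : Ω) = g' * (a : Ω)⁻¹ * g'⁻¹ := by
      rw [hχ]
      rfl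
    have h4 : ((χ (χ a) : R) : Ω) = g' * (g' * (a : Ω) * g'⁻¹) * g'⁻¹ := by
      rw [hχ, hχ]
    rw [h3, h4]
    have e2 : g' * (a : Ω)⁻¹ * g'⁻¹ * (a : Ω) * (g' * (a : Ω)⁻¹ * g'⁻¹) * (g' * (g' * (a : Ω) * g'⁻¹) * g'⁻¹) =
        (g' * (a : Ω)⁻¹ * g'⁻¹) * ⁅⁅(a : Ω), g'⁆, g'⁆ * (g' * (a : Ω)⁻¹ * g'⁻¹)⁻¹ := by
      simp only [commutatorElement_def]
      group
    rw [e2, h2]
    group
end Cfsg.Agent.S5246
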