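import Mathlib
import Cfsg.Statements.S3315
import Cfsg.Agent.Lib.QuadCentre
import Cfsg.Agent.Lib.SU3Heis

set_option autoImplicit false

open Cfsg

namespace Cfsg.Agent.S3315

open Cfsg.Agent.Lib.SU3Heis Cfsg.Agent.Lib.QuadCentre

/-- A Sylow 2-subgroup is isomorphic to the explicit one. -/
theorem sylow_equiv {F : Type*} [Field F] [Fintype F] {q k : ℕ} (hq : q = 2 ^ k) (hk : 1 ≤ k)
    (hF : Fintype.card F = q ^ 2) (h2 : (2 : F) = 0)
    (P : Sylow 2 ↥(Cfsg.SU 3 F q)) :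
    Nonempty ((P : Subgroup ↥(Cfsg.SU 3 F q)) ≃* T hF h2) := by
  have hcardT := card_T hF h2
  have hpT : IsPGroup 2 (T hF h2) := by
    rw [IsPGroup.iff_card]
    refine ⟨k * 3, ?_⟩
    rw [hcardT, hq, pow_mul]
  have hcardSU := Cfsg.Agent.Lib.UnitarySU.card_SU hF 3 (by norm_num)
  have h0 : 0 < q := by rw [hq]; positivity
  have hq2 : 2 ≤ q := by
    calc 2 = 2 ^ 1 := by norm_num
      _ ≤ 2 ^ k := Nat.pow_le_pow_right (by norm_num) hk
      _ = q := hq.symm
  have hodd : ¬ 2 ∣ (T hF h2).index := by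
    have hc := Subgroup.card_mul_index (T hF h2)
    rw [hcardT] at hc
    have hq' : 2 ∣ q := by rw [hq]; exact dvd_pow_self 2 (by omega)
    have h3 : (q + 1) * Nat.card ↥(Cfsg.SU 3 F q) = (q + 1) * (q ^ 3 * ((q ^ 2 - 1) * (q ^ 3 + 1))) := by
      rw [hcardSU]
      simp [Finset.prod_range_succ, Nat.even_iff]
      ring
    have h4 := Nat.eq_of_mul_eq_mul_left (by omega) h3
    rw [h4] at hc
    have h5 : (T hF h2).index = (q ^ 2 - 1) * (q ^ 3 + 1) :=
      Nat.eq_of_mul_eq_mul_left (by positivity) hc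
    rw [h5]
    intro h6
    have h7 : 2 ∣ q ^ 2 := dvd_pow hq' (by norm_num)
    have h8 : 2 ∣ q ^ 3 := dvd_pow hq' (by norm_num)
    have h9 : 1 ≤ q ^ 2 := Nat.one_le_pow _ _ h0
    rcases (Nat.Prime.dvd_mul Nat.prime_two).mp h6 with h | h <;> omega
  exact ⟨Sylow.equiv P (hpT.toSylow hodd)⟩

/-- The main statement, for a group isomorphic to the explicit subgroup. -/
theorem centre_of_equiv {R : Type*} [Group R] [Finite R] {F : Type*} [Field F] [Fintype F]
    {q : ℕ} (hF : Fintype.card F = q ^ 2) (h2 : (2 : F) = 0)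
    (S' : Subgroup R) (f : S' ≃* T hF h2) (hidx : S'.index = 2) :
    (Subgroup.center ↥S').map S'.subtype ≤ Subgroup.center R := by
  rintro _ ⟨z, hz, rfl⟩
  rw [Subgroup.mem_center_iff]
  intro r
  have hnorm : S'.Normal := Subgroup.normal_of_index_eq_two hidx
  by_cases hr : r ∈ S'
  · have := Subgroup.mem_center_iff.mp hz ⟨r, hr⟩
    exact congrArg Subtype.val this
  let α : S' ≃* S' := MulAut.conjNormal r
  have hαv : ∀ y : S', ((α y : S') : R) = r * y * r⁻¹ := fun y => MulAut.conjNormal_apply r y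
  let g₀ : S' := ⟨r ^ 2, Subgroup.sq_mem_of_index_two hidx r⟩
  let β : T hF h2 ≃* T hF h2 := f.symm.trans (α.trans f)
  have hβv : ∀ x, β x = f (α (f.symm x)) := fun x => rfl
  have hβ : ∀ x, β (β x) = f g₀ * x * (f g₀)⁻¹ := by
    intro x
    rw [hβv, hβv, MulEquiv.symm_apply_apply]
    have h3 : α (α (f.symm x)) = g₀ * f.symm x * g₀⁻¹ := by
      apply Subtype.ext
      rw [hαv, hαv]
      change r * (r * _ * r⁻¹) * r⁻¹ = r ^ 2 * _ * (r ^ 2)⁻¹
      rw [pow_two]; group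
    rw [h3, map_mul, map_mul, map_inv, MulEquiv.apply_symm_apply]
  have hq0 : 0 < q := by have := Cfsg.Agent.Lib.HermCount.two_le_q hF; omega
  have hfz : f z ∈ Subgroup.center (T hF h2) := by
    rw [Subgroup.mem_center_iff]
    intro y
    have h4 := Subgroup.mem_center_iff.mp hz (f.symm y)
    have h5 := congrArg f h4
    simpa using h5
  have hfix := fix_center hq0 (card_T hF h2) (card_center_T hF h2) (sq_mem_center hF h2)
    (fun _ hz' => sq_of_mem_center hF h2 hz') (fun _ hs => mem_center_of_sq hF h2 hs)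
    (fun _ hc hc1 => card_sqrt hF h2 hc hc1) β (f g₀) hβ (f z) hfz
  rw [hβv, MulEquiv.symm_apply_apply] at hfix
  have h6 : α z = z := f.injective hfix
  have h7 := congrArg Subtype.val h6
  rw [hαv] at h7
  change r * (z : R) = (z : R) * r
  calc r * (z : R) = (r * z * r⁻¹) * r := by group
    _ = _ := by rw [h7]

end Cfsg.Agent.S3315

namespace Cfsg.Agent.S3315

theorem result {R : Type*} [Group R] [Finite R]
    (hR : IsPGroup 2 R) (n : ℕ) (hn : 2 ≤ n) {F : Type*} [Field F] [Fintype F] (hF : Fintype.card F = 4 ^ n)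
    (P : Sylow 2 ↥(Cfsg.SU 3 F (2 ^ n))) (S' : Subgroup R) (hS : Nonempty (↥S' ≃* ↥(P : Subgroup ↥(Cfsg.SU 3 F (2 ^ n)))))
    (hidx : S'.index = 2) :
    (Subgroup.center ↥S').map S'.subtype ≤ Subgroup.center R := by
  obtain ⟨f⟩ := hS
  have hF' : Fintype.card F = (2 ^ n) ^ 2 := by
    rw [hF, ← pow_mul, mul_comm, pow_mul]; norm_num
  have h2 : (2 : F) = 0 := by
    obtain ⟨p, hp⟩ := CharP.exists F
    obtain ⟨m, hpp, hm⟩ := FiniteField.card F p
    have hp2 : p = 2 := by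
      have h1 : p ∣ 2 ^ (n * 2) := by
        rw [pow_mul, ← hF', hm]
        exact dvd_pow_self p m.ne_zero
      exact (Nat.prime_dvd_prime_iff_eq hpp Nat.prime_two).mp (hpp.dvd_of_dvd_pow h1)
    subst hp2
    exact_mod_cast CharP.cast_eq_zero F 2
  obtain ⟨g⟩ := sylow_equiv rfl (by omega) hF' h2 P
  exact centre_of_equiv hF' h2 S' (f.trans g) hidx

end Cfsg.Agent.S3315
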