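import Mathlib
import Cfsg.Statements.S3156
import Cfsg.Agent.S3315

set_option autoImplicit false
set_option linter.style.haveILetI false
set_option linter.unusedSimpArgs false
open Cfsg

namespace Cfsg.Agent.S3156

section Abstract

variable {T : Type*} [Group T]

/-- The commutator of two elements. -/
def cm (a b : T) : T := a * b * a⁻¹ * b⁻¹

/-- The facts about a Sylow 2-subgroup of `U₃(4)` that are used. -/
structure Hyp (T : Type*) [Group T] : Prop where
  card_T : Nat.card T = 64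
  card_Z : Nat.card (Subgroup.center T) = 4
  sq_mem : ∀ t : T, t ^ 2 ∈ Subgroup.center T
  sq_Z : ∀ z ∈ Subgroup.center T, z ^ 2 = 1
  root : ∀ t : T, t ^ 2 = 1 → t ∈ Subgroup.center T
  count : ∀ c ∈ Subgroup.center T, c ≠ 1 → Nat.card {s : T // s ^ 2 = c} = 20

theorem central {z : T} (hz : z ∈ Subgroup.center T) (g : T) : g * z = z * g :=
  Subgroup.mem_center_iff.mp hz g

theorem cm_eq (h : Hyp T) (a b : T) : cm a b = (a * b) ^ 2 * (a ^ 2)⁻¹ * (b ^ 2)⁻¹ := by
  have hc : b * (a ^ 2)⁻¹ = (a ^ 2)⁻¹ * b :=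
    central (Subgroup.inv_mem _ (h.sq_mem a)) b
  calc cm a b = a * b * a * ((a ^ 2)⁻¹ * b) * (b ^ 2)⁻¹ := by
        simp only [cm, pow_two]; group
    _ = a * b * a * (b * (a ^ 2)⁻¹) * (b ^ 2)⁻¹ := by rw [hc]
    _ = _ := by simp only [pow_two]; group

theorem cm_mem (h : Hyp T) (a b : T) : cm a b ∈ Subgroup.center T := by
  rw [cm_eq h]
  exact Subgroup.mul_mem _ (Subgroup.mul_mem _ (h.sq_mem _) (Subgroup.inv_mem _ (h.sq_mem _)))
    (Subgroup.inv_mem _ (h.sq_mem _))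

theorem cm_inv (h : Hyp T) (a b : T) : (cm a b)⁻¹ = cm a b := by
  have := h.sq_Z _ (cm_mem h a b)
  rw [pow_two] at this
  exact inv_eq_of_mul_eq_one_left this

theorem cm_symm (h : Hyp T) (a b : T) : cm b a = cm a b := by
  rw [← cm_inv h a b]
  simp only [cm]; group

theorem sq_mul (h : Hyp T) (a b : T) : (a * b) ^ 2 = a ^ 2 * b ^ 2 * cm a b := by
  have h1 : (a * b) ^ 2 = cm a b * b ^ 2 * a ^ 2 := by
    rw [cm_eq h]; group
  rw [h1, central (h.sq_mem a) (cm a b * b ^ 2), mul_assoc (a ^ 2) (b ^ 2),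
    central (cm_mem h a b) (b ^ 2)]

theorem cm_mul_right (h : Hyp T) (a b c : T) : cm a (b * c) = cm a b * cm a c := by
  have h1 : c * a⁻¹ * c⁻¹ = a⁻¹ * cm a c := by simp only [cm]; group
  calc cm a (b * c) = a * b * (c * a⁻¹ * c⁻¹) * b⁻¹ := by simp only [cm]; group
    _ = a * b * a⁻¹ * (cm a c * b⁻¹) := by rw [h1]; group
    _ = a * b * a⁻¹ * (b⁻¹ * cm a c) := by rw [central (cm_mem h a c)]
    _ = cm a b * cm a c := by simp only [cm]; group

theorem cm_mul_left (h : Hyp T) (a b c : T) : cm (a * b) c = cm a c * cm b c := by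
  rw [cm_symm h c (a * b), cm_mul_right h, cm_symm h a c, cm_symm h b c]

theorem cm_central_right {a z : T} (hz : z ∈ Subgroup.center T) : cm a z = 1 := by
  simp only [cm]
  rw [mul_assoc a, ← central hz a⁻¹]
  group

theorem cm_central_left (h : Hyp T) {a z : T} (hz : z ∈ Subgroup.center T) : cm z a = 1 := by
  rw [cm_symm h, cm_central_right hz]

theorem cm_mul_central_left (h : Hyp T) (a b : T) {z : T} (hz : z ∈ Subgroup.center T) :
    cm (a * z) b = cm a b := by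
  rw [cm_mul_left h, cm_central_left h hz, mul_one]

theorem cm_mul_central_right (h : Hyp T) (a b : T) {z : T} (hz : z ∈ Subgroup.center T) :
    cm a (b * z) = cm a b := by
  rw [cm_mul_right h, cm_central_right hz, mul_one]

theorem map_cm (φ : MulAut T) (a b : T) : φ (cm a b) = cm (φ a) (φ b) := by
  simp only [cm, map_mul, map_inv]

theorem center_map (φ : MulAut T) {z : T} (hz : z ∈ Subgroup.center T) :
    φ z ∈ Subgroup.center T := by
  rw [Subgroup.mem_center_iff]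
  intro g
  have h1 := congrArg φ (central hz (φ.symm g))
  simpa using h1

theorem sq_mul_central (h : Hyp T) (t : T) {z : T} (hz : z ∈ Subgroup.center T) :
    (t * z) ^ 2 = t ^ 2 := by
  have h1 : (t * z) ^ 2 = t ^ 2 * z ^ 2 := by
    rw [pow_two, pow_two, pow_two, mul_assoc t z, ← mul_assoc z t, ← central hz t]
    group
  rw [h1, h.sq_Z z hz, mul_one]

theorem exists_fixed {A : Type*} [Finite A] (f : A → A) (hf : ∀ a, f (f (f a)) = a)
    (hc : ¬ 3 ∣ Nat.card A) : ∃ a, f a = a := by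
  classical
  haveI := Fintype.ofFinite A
  haveI : Fact (Nat.Prime 3) := ⟨by norm_num⟩
  let σ : Equiv.Perm A := ⟨f, fun a => f (f a), fun a => hf a, fun a => hf a⟩
  have hσ : σ ^ 3 ^ 1 = 1 := by
    ext a
    change f (f (f a)) = a
    exact hf a
  rw [Nat.card_eq_fintype_card] at hc
  exact Equiv.Perm.exists_fixed_point_of_prime hc hσ

variable [Finite T]

/-- An automorphism of order three acts nontrivially on the centre. -/
theorem stepA (h : Hyp T) (ρ : MulAut T) (hρ3 : ∀ t, ρ (ρ (ρ t)) = t) (hρ1 : ∃ t, ρ t ≠ t) :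
    ∃ z ∈ Subgroup.center T, ρ z ≠ z := by
  classical
  by_contra hall
  push Not at hall
  by_cases hd : ∃ d : T, d⁻¹ * ρ d ∉ Subgroup.center T
  · obtain ⟨d, hd⟩ := hd
    obtain ⟨v, hv⟩ : ∃ v, v = d⁻¹ * ρ d := ⟨_, rfl⟩
    rw [← hv] at hd
    have hprod : v * (ρ v * ρ (ρ v)) = 1 := by
      simp only [hv, map_mul, map_inv, hρ3]; group
    have hcZ : v ^ 2 ∈ Subgroup.center T := h.sq_mem v
    have hc1 : v ^ 2 ≠ 1 := fun hc => hd (h.root v hc)
    have hcount := h.count _ hcZ hc1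
    obtain ⟨⟨s, hs⟩, hfix⟩ := exists_fixed (A := {s : T // s ^ 2 = v ^ 2})
      (fun s => ⟨ρ s.1, by rw [← map_pow, s.2, map_pow]; exact (by
        rw [← map_pow]; exact hall _ hcZ)⟩)
      (fun s => Subtype.ext (hρ3 s.1)) (by rw [hcount]; norm_num)
    have hsρ : ρ s = s := congrArg Subtype.val hfix
    have hk : cm s (ρ v) = cm s v := by
      have := map_cm ρ s v
      rw [hsρ, hall _ (cm_mem h s v)] at this
      exact this.symm
    have hk2 : cm s (ρ (ρ v)) = cm s v := by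
      have := map_cm ρ s (ρ v)
      rw [hsρ, hall _ (cm_mem h s (ρ v))] at this
      rw [← this, hk]
    have hk1 : cm s v = 1 := by
      have h1 : cm s (v * (ρ v * ρ (ρ v))) = cm s v * (cm s v * cm s v) := by
        rw [cm_mul_right h, cm_mul_right h, hk, hk2]
      rw [hprod, cm_central_right (Subgroup.one_mem _)] at h1
      have h2 := h.sq_Z _ (cm_mem h s v)
      rw [pow_two] at h2
      rw [h2, mul_one] at h1
      exact h1.symm
    have hsv : s * v ∈ Subgroup.center T := by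
      apply h.root
      rw [sq_mul h, hs, hk1, mul_one, ← pow_two, h.sq_Z _ hcZ]
    have hρv : ρ v = v := by
      have := hall _ hsv
      rw [map_mul, hsρ] at this
      exact mul_left_cancel this
    rw [hρv, hρv] at hprod
    have hv3 : v * (v * v) = 1 := hprod
    have hv4 : v ^ 2 * v ^ 2 = 1 := by
      rw [← pow_two]
      exact h.sq_Z _ hcZ
    have : v = 1 := by
      have h5 : v ^ 2 * v ^ 2 = v * (v * (v * v)) := by simp only [pow_two]; group
      rw [h5] at hv4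
      calc v = v * (v * (v * v)) * (v * (v * v))⁻¹ := by group
        _ = 1 := by rw [hv4, hv3]; simp
    apply hc1
    rw [this, one_pow]
  · push Not at hd
    obtain ⟨t, ht⟩ := hρ1
    apply ht
    have h1 := hd t
    set z := t⁻¹ * ρ t with hz
    have h2 : ρ t = t * z := by rw [hz]; group
    have h3 : ρ (ρ t) = t := by
      rw [h2, map_mul, h2, hall z h1, mul_assoc, ← pow_two, h.sq_Z z h1, mul_one]
    have h4 := hρ3 t
    rw [h3] at h4
    exact h4

/-- Hence it has no nontrivial fixed points on the centre. -/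
theorem stepB (h : Hyp T) (ρ : MulAut T) (hρ3 : ∀ t, ρ (ρ (ρ t)) = t) (hρ1 : ∃ t, ρ t ≠ t)
    {z₀ : T} (hz₀ : z₀ ∈ Subgroup.center T) (hz₁ : z₀ ≠ 1) : ρ z₀ ≠ z₀ := by
  classical
  intro hfix
  obtain ⟨y, hy, hρy⟩ := stepA h ρ hρ3 hρ1
  haveI := Fintype.ofFinite (Subgroup.center T)
  have hy1 : y ≠ 1 := by rintro rfl; simp at hρy
  have hyz : y ≠ z₀ := by rintro rfl; exact hρy hfix
  have h1 : ρ y ≠ 1 := fun h' => hy1 (by simpa using h')
  have h2 : ρ (ρ y) ≠ 1 := fun h' => h1 (by simpa using h')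
  have h3 : ρ y ≠ z₀ := by
    intro h'
    apply hyz
    apply ρ.injective
    rw [h', hfix]
  have h4 : ρ (ρ y) ≠ z₀ := by
    intro h'
    apply h3
    apply ρ.injective
    rw [h', hfix]
  have h5 : ρ (ρ y) ≠ y := by
    intro h'
    apply hρy
    have := congrArg ρ h'
    rw [hρ3] at this
    exact this.symm
  have h6 : ρ (ρ y) ≠ ρ y := fun h' => hρy (ρ.injective h')
  let Y : Subgroup.center T := ⟨y, hy⟩
  let S : Finset (Subgroup.center T) :=
    {1, ⟨z₀, hz₀⟩, ⟨y, hy⟩, ⟨ρ y, center_map ρ hy⟩, ⟨ρ (ρ y), center_map ρ (center_map ρ hy)⟩}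
  have hS : S.card = 5 := by
    simp only [S]
    rw [Finset.card_insert_of_notMem, Finset.card_insert_of_notMem, Finset.card_insert_of_notMem,
      Finset.card_insert_of_notMem, Finset.card_singleton]
    all_goals
      simp only [Finset.mem_insert, Finset.mem_singleton, Subtype.mk.injEq, not_or, Subgroup.ext_iff,
        Subtype.ext_iff]
      simp [hz₁, hy1, h1, h2, hyz, hρy.symm, h3, h4, h5.symm, h6.symm, hz₁.symm, hy1.symm, h1.symm,
        h2.symm, hyz.symm, h3.symm, h4.symm]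
  have hle := Finset.card_le_univ S
  rw [hS, ← Nat.card_eq_fintype_card, h.card_Z] at hle
  omega

/-- No fixed points on the central quotient. -/
theorem stepC (h : Hyp T) (ρ : MulAut T) (hρ3 : ∀ t, ρ (ρ (ρ t)) = t) (hρ1 : ∃ t, ρ t ≠ t)
    {t : T} (ht : t⁻¹ * ρ t ∈ Subgroup.center T) : t ∈ Subgroup.center T := by
  by_contra htZ
  have h1 : ρ t = t * (t⁻¹ * ρ t) := by group
  have h2 : ρ (t ^ 2) = t ^ 2 := by
    rw [map_pow, h1, sq_mul_central h t ht]
  refine stepB h ρ hρ3 hρ1 (h.sq_mem t) ?_ h2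
  intro h3
  exact htZ (h.root t h3)

theorem prod_mem (h : Hyp T) (ρ : MulAut T) (hρ3 : ∀ t, ρ (ρ (ρ t)) = t) (hρ1 : ∃ t, ρ t ≠ t)
    (t : T) : t * (ρ t * ρ (ρ t)) ∈ Subgroup.center T := by
  apply stepC h ρ hρ3 hρ1
  simp only [map_mul, hρ3]
  have e : (t * (ρ t * ρ (ρ t)))⁻¹ * (ρ t * (ρ (ρ t) * t)) =
      (ρ (ρ t))⁻¹ * (cm (ρ t)⁻¹ t⁻¹ * (t⁻¹ * ρ (ρ t) * t)) := by
    simp only [cm]; group
  have e2 : (ρ (ρ t))⁻¹ * (cm (ρ t)⁻¹ t⁻¹ * (t⁻¹ * ρ (ρ t) * t)) =
      cm (ρ t)⁻¹ t⁻¹ * cm (ρ (ρ t))⁻¹ t⁻¹ := by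
    rw [← mul_assoc, central (cm_mem h _ _) (ρ (ρ t))⁻¹, mul_assoc]
    congr 1
    simp only [cm]; group
  rw [e, e2]
  exact Subgroup.mul_mem _ (cm_mem h _ _) (cm_mem h _ _)

/-- The centre consists of `1`, `z₁`, `ρ z₁`, `ρ² z₁`. -/
theorem enum_Z (h : Hyp T) (ρ : MulAut T) (hρ3 : ∀ t, ρ (ρ (ρ t)) = t) (hρ1 : ∃ t, ρ t ≠ t)
    {z₁ : T} (hz : z₁ ∈ Subgroup.center T) (hz1 : z₁ ≠ 1) {y : T} (hy : y ∈ Subgroup.center T) :
    y = 1 ∨ y = z₁ ∨ y = ρ z₁ ∨ y = ρ (ρ z₁) := by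
  classical
  by_contra hne
  push Not at hne
  obtain ⟨h1, h2, h3, h4⟩ := hne
  haveI := Fintype.ofFinite (Subgroup.center T)
  have h5 : ρ z₁ ≠ z₁ := stepB h ρ hρ3 hρ1 hz hz1
  have h6 : ρ (ρ z₁) ≠ z₁ := by
    intro h'
    apply h5
    have := congrArg ρ h'
    rw [hρ3] at this
    exact this.symm
  have h7 : ρ (ρ z₁) ≠ ρ z₁ := fun h' => h5 (ρ.injective h')
  have h8 : ρ z₁ ≠ 1 := fun h' => hz1 (by simpa using h')
  have h9 : ρ (ρ z₁) ≠ 1 := fun h' => h8 (by simpa using h')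
  let S : Finset (Subgroup.center T) :=
    {1, ⟨z₁, hz⟩, ⟨ρ z₁, center_map ρ hz⟩, ⟨ρ (ρ z₁), center_map ρ (center_map ρ hz)⟩, ⟨y, hy⟩}
  have hS : S.card = 5 := by
    simp only [S]
    rw [Finset.card_insert_of_notMem, Finset.card_insert_of_notMem, Finset.card_insert_of_notMem,
      Finset.card_insert_of_notMem, Finset.card_singleton]
    all_goals
      simp only [Finset.mem_insert, Finset.mem_singleton, not_or, Subtype.ext_iff]
      simp [hz1, h1, h2, h3, h4, h5, h6, h7, h8, h9, hz1.symm, h1.symm, h2.symm, h3.symm, h4.symm,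
        h5.symm, h6.symm, h7.symm, h8.symm, h9.symm]
  have hle := Finset.card_le_univ S
  rw [hS, ← Nat.card_eq_fintype_card, h.card_Z] at hle
  omega

theorem prod_Z (h : Hyp T) (ρ : MulAut T) (hρ3 : ∀ t, ρ (ρ (ρ t)) = t) (hρ1 : ∃ t, ρ t ≠ t)
    {z₁ : T} (hz : z₁ ∈ Subgroup.center T) : z₁ * (ρ z₁ * ρ (ρ z₁)) = 1 := by
  by_contra hne
  have hm : z₁ * (ρ z₁ * ρ (ρ z₁)) ∈ Subgroup.center T :=
    Subgroup.mul_mem _ hz (Subgroup.mul_mem _ (center_map ρ hz) (center_map ρ (center_map ρ hz)))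
  apply stepB h ρ hρ3 hρ1 hm hne
  simp only [map_mul, hρ3]
  rw [← mul_assoc, central hz]

/-- There are two independent elements fixed by `x` modulo the centre. -/
theorem exists_pair (h : Hyp T) (x : MulAut T) (hx2 : ∀ t, x (x t) = t) :
    ∃ u v : T, u ∉ Subgroup.center T ∧ v ∉ Subgroup.center T ∧ u * v ∉ Subgroup.center T ∧
      u⁻¹ * x u ∈ Subgroup.center T ∧ v⁻¹ * x v ∈ Subgroup.center T := by
  classical
  let π := QuotientGroup.mk' (Subgroup.center T)
  have hπ : ∀ t, π t = 1 ↔ t ∈ Subgroup.center T := fun t => QuotientGroup.eq_one_iff t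
  have hW2 : ∀ a : T ⧸ Subgroup.center T, a * a = 1 := by
    intro a
    obtain ⟨t, rfl⟩ := QuotientGroup.mk'_surjective _ a
    rw [← map_mul, hπ, ← pow_two]
    exact h.sq_mem t
  have hWc : ∀ a b : T ⧸ Subgroup.center T, a * b = b * a := by
    intro a b
    have h1 : (a * b) * (b * a) = 1 := by
      rw [mul_assoc, ← mul_assoc b, hW2, one_mul, hW2]
    exact mul_right_cancel (b := b * a) (by rw [h1, hW2])
  let F : T →* T ⧸ Subgroup.center T := MonoidHom.mk' (fun t => π (t⁻¹ * x t)) (by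
    intro s t
    have e : (s * t)⁻¹ * x (s * t) = t⁻¹ * ((s⁻¹ * x s) * x t) := by
      rw [map_mul]; group
    rw [e, map_mul, map_mul, ← mul_assoc, hWc (π t⁻¹), mul_assoc, ← map_mul π t⁻¹])
  have hF : ∀ t, F t = π (t⁻¹ * x t) := fun _ => rfl
  have hFZ : ∀ z ∈ Subgroup.center T, F z = 1 := by
    intro z hz
    rw [hF, hπ]
    exact Subgroup.mul_mem _ (Subgroup.inv_mem _ hz) (center_map x hz)
  let G : T ⧸ Subgroup.center T →* T ⧸ Subgroup.center T :=
    QuotientGroup.lift (Subgroup.center T) F hFZ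
  have hG : ∀ t, G (π t) = π (t⁻¹ * x t) := fun _ => rfl
  have hGG : ∀ w, G (G w) = 1 := by
    intro w
    obtain ⟨t, rfl⟩ := QuotientGroup.mk'_surjective _ w
    change G (G (π t)) = 1
    rw [hG, hG]
    have e : (t⁻¹ * x t)⁻¹ * x (t⁻¹ * x t) = (x t)⁻¹ * t * ((x t)⁻¹ * t) := by
      rw [map_mul, map_inv, hx2]; group
    rw [e, map_mul, hW2]
  have hcardW : Nat.card (T ⧸ Subgroup.center T) = 16 := by
    have := Subgroup.card_eq_card_quotient_mul_card_subgroup (Subgroup.center T)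
    rw [h.card_T, h.card_Z] at this
    omega
  have hr : G.range ≤ G.ker := by
    rintro _ ⟨w, rfl⟩
    exact hGG w
  have hk : 16 ≤ Nat.card G.ker * Nat.card G.ker := by
    have h1 := Subgroup.card_mul_index G.ker
    rw [hcardW, Subgroup.index_ker] at h1
    have h2 := Subgroup.card_le_of_le hr
    calc 16 = Nat.card G.ker * Nat.card G.range := h1.symm
      _ ≤ _ := Nat.mul_le_mul_left _ h2
  have hk4 : 4 ≤ Nat.card G.ker := by
    by_contra hlt
    have : Nat.card G.ker ≤ 3 := by omega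
    have := Nat.mul_le_mul this this
    omega
  haveI := Fintype.ofFinite G.ker
  rw [Nat.card_eq_fintype_card] at hk4
  obtain ⟨a, ha⟩ : ∃ a : G.ker, a ≠ 1 := by
    by_contra hall
    push Not at hall
    have : (Finset.univ : Finset G.ker) ⊆ {1} := fun y _ => by simp [hall y]
    have := Finset.card_le_card this
    simp at this
    omega
  obtain ⟨b, hb1, hb2⟩ : ∃ b : G.ker, b ≠ 1 ∧ b ≠ a := by
    by_contra hall
    push Not at hall
    have : (Finset.univ : Finset G.ker) ⊆ {1, a} := fun y _ => by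
      by_cases hy : y = 1
      · simp [hy]
      · simp [hall y hy]
    have h3 := Finset.card_le_card this
    have h4 : ({1, a} : Finset G.ker).card ≤ 2 := Finset.card_le_two
    have h5 : (Finset.univ : Finset G.ker).card = Fintype.card G.ker := rfl
    omega
  obtain ⟨u, hu⟩ := QuotientGroup.mk'_surjective (Subgroup.center T) a.1
  obtain ⟨v, hv⟩ := QuotientGroup.mk'_surjective (Subgroup.center T) b.1
  have hu' : π u = a.1 := hu
  have hv' : π v = b.1 := hv
  refine ⟨u, v, ?_, ?_, ?_, ?_, ?_⟩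
  · rw [← hπ, hu']
    intro h1
    exact ha (Subtype.ext h1)
  · rw [← hπ, hv']
    intro h1
    exact hb1 (Subtype.ext h1)
  · rw [← hπ, map_mul, hu', hv']
    intro h1
    apply hb2
    apply Subtype.ext
    have h2 := hW2 b.1
    exact (mul_right_cancel (h1.trans h2.symm)).symm
  · rw [← hπ, ← hG, hu']
    exact a.2
  · rw [← hπ, ← hG, hv']
    exact b.2

omit [Finite T] in
theorem x_fix (h : Hyp T) (x : MulAut T) {t : T} (ht : t⁻¹ * x t ∈ Subgroup.center T) :
    x (t ^ 2) = t ^ 2 := by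
  have h1 : x t = t * (t⁻¹ * x t) := by group
  rw [map_pow, h1, sq_mul_central h t ht]

omit [Finite T] in
theorem aux_central {u a c₁ c₂ : T} (h1 : c₁ ∈ Subgroup.center T) :
    u * a = (u * c₁) * (a * c₂) * (c₁⁻¹ * c₂⁻¹) := by
  have h2 : c₁ * (a * c₂) = (a * c₂) * c₁ := (central h1 _).symm
  calc u * a = u * ((a * c₂) * c₁) * c₁⁻¹ * c₂⁻¹ := by group
    _ = u * (c₁ * (a * c₂)) * c₁⁻¹ * c₂⁻¹ := by rw [h2]
    _ = _ := by group

/-- The main abstract theorem: no `S₃` acts. -/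
theorem no_S3 (h : Hyp T) (ρ x : MulAut T) (hρ3 : ∀ t, ρ (ρ (ρ t)) = t) (hρ1 : ∃ t, ρ t ≠ t)
    (hx2 : ∀ t, x (x t) = t) (hxρ : ∀ t, x (ρ t) = ρ (ρ (x t))) : False := by
  obtain ⟨u, v, hu, hv, huv, hux, hvx⟩ := exists_pair h x hx2
  have hZ := fun {z : T} (hz : z ∈ Subgroup.center T) => center_map ρ hz
  have huvx : (u * v)⁻¹ * x (u * v) ∈ Subgroup.center T := by
    have e : (u * v)⁻¹ * x (u * v) = v⁻¹ * (u⁻¹ * x u) * x v := by
      rw [map_mul]; group
    rw [e, central hux v⁻¹, mul_assoc]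
    exact Subgroup.mul_mem _ hux hvx
  have hz1Z : u ^ 2 ∈ Subgroup.center T := h.sq_mem u
  have hz11 : u ^ 2 ≠ 1 := fun h' => hu (h.root u h')
  have hxz : x (u ^ 2) = u ^ 2 := x_fix h x hux
  generalize hz₁ : u ^ 2 = z₁ at hz1Z hz11 hxz
  have hx1 : x (ρ z₁) = ρ (ρ z₁) := by rw [hxρ, hxz]
  have hx2' : x (ρ (ρ z₁)) = ρ z₁ := by rw [hxρ, hx1, hρ3]
  have h51 : ρ z₁ ≠ z₁ := stepB h ρ hρ3 hρ1 hz1Z hz11
  have h52 : ρ (ρ z₁) ≠ ρ z₁ := fun h' => h51 (ρ.injective h')
  have huniq : ∀ y ∈ Subgroup.center T, y ≠ 1 → x y = y → y = z₁ := by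
    intro y hy hy1 hxy
    rcases enum_Z h ρ hρ3 hρ1 hz1Z hz11 hy with h1 | h1 | h1 | h1
    · exact absurd h1 hy1
    · exact h1
    · rw [h1, hx1] at hxy
      exact absurd hxy h52
    · rw [h1, hx2'] at hxy
      exact absurd hxy.symm h52
  have hv2 : v ^ 2 = z₁ :=
    huniq _ (h.sq_mem v) (fun h' => hv (h.root v h')) (x_fix h x hvx)
  have huv2 : (u * v) ^ 2 = z₁ :=
    huniq _ (h.sq_mem _) (fun h' => huv (h.root _ h')) (x_fix h x huvx)
  have hzz : z₁ * z₁ = 1 := by rw [← pow_two]; exact h.sq_Z _ hz1Z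
  have hB0 : cm u v = z₁ := by
    have h1 := sq_mul h u v
    rw [huv2, hz₁, hv2, hzz, one_mul] at h1
    exact h1.symm
  -- the two products
  have hPu := prod_mem h ρ hρ3 hρ1 u
  have hPv := prod_mem h ρ hρ3 hρ1 v
  have rel1 : cm u v * (cm u (ρ v) * cm u (ρ (ρ v))) = 1 := by
    rw [← cm_mul_right h, ← cm_mul_right h]
    exact cm_central_right hPv
  have hb1 : cm (ρ u) v = ρ (cm u (ρ (ρ v))) := by
    rw [map_cm, hρ3]
  have hb2 : cm (ρ (ρ u)) v = ρ (ρ (cm u (ρ v))) := by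
    rw [map_cm, map_cm, hρ3]
  have rel2 : cm u v * (ρ (cm u (ρ (ρ v))) * ρ (ρ (cm u (ρ v)))) = 1 := by
    rw [← hb1, ← hb2, ← cm_mul_left h, ← cm_mul_left h]
    exact cm_central_left h hPu
  have hxB : x (cm u (ρ v)) = cm u (ρ (ρ v)) := by
    rw [map_cm, hxρ]
    have e1 : x u = u * (u⁻¹ * x u) := by group
    have e2 : x v = v * (v⁻¹ * x v) := by group
    rw [e1, cm_mul_central_left h _ _ hux, e2, map_mul, map_mul]
    exact cm_mul_central_right h _ _ (hZ (hZ hvx))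
  have hBZ := cm_mem h u (ρ v)
  rw [hB0] at rel1 rel2
  rw [← hxB] at rel1 rel2
  rcases enum_Z h ρ hρ3 hρ1 hz1Z hz11 hBZ with hc | hc | hc | hc
  · rw [hc, map_one, one_mul, mul_one] at rel1
    exact hz11 rel1
  · rw [hc, hxz, hzz, mul_one] at rel1
    exact hz11 rel1
  · rw [hc, hx1, hρ3, hzz, mul_one] at rel2
    exact hz11 rel2
  · -- the last case: `u * ρ v` squares to one
    clear hxB
    have hsq : (u * ρ v) ^ 2 = 1 := by
      rw [sq_mul h, hc, hz₁, ← map_pow, hv2]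
      exact mul_assoc _ _ _ |>.trans (prod_Z h ρ hρ3 hρ1 hz1Z)
    have hw := h.root _ hsq
    have hxw := center_map x hw
    rw [map_mul, hxρ] at hxw
    have e1 : x u = u * (u⁻¹ * x u) := by group
    have e2 : x v = v * (v⁻¹ * x v) := by group
    have hw2 : u * ρ (ρ v) ∈ Subgroup.center T := by
      have e3 := aux_central (u := u) (a := ρ (ρ v)) (c₁ := u⁻¹ * x u)
        (c₂ := ρ (ρ (v⁻¹ * x v))) hux
      have e4 : u * (u⁻¹ * x u) = x u := by group
      have e5 : ρ (ρ v) * ρ (ρ (v⁻¹ * x v)) = ρ (ρ (x v)) := by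
        rw [← map_mul, ← map_mul, mul_inv_cancel_left]
      rw [e4, e5] at e3
      rw [e3]
      exact Subgroup.mul_mem _ hxw (Subgroup.mul_mem _ (Subgroup.inv_mem _ hux)
        (Subgroup.inv_mem _ (hZ (hZ hvx))))
    have hdiff : (ρ v)⁻¹ * ρ (ρ v) ∈ Subgroup.center T := by
      have e : (ρ v)⁻¹ * ρ (ρ v) = (u * ρ v)⁻¹ * (u * ρ (ρ v)) := by group
      rw [e]
      exact Subgroup.mul_mem _ (Subgroup.inv_mem _ hw) hw2
    have hrv := stepC h ρ hρ3 hρ1 hdiff
    apply hv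
    have := hZ (hZ hrv)
    rwa [hρ3] at this

end Abstract

open Cfsg.Agent.Lib.SU3Heis in
theorem hyp_T {F : Type*} [Field F] [Fintype F] (hF : Fintype.card F = 4 ^ 2) (h2 : (2 : F) = 0) :
    Hyp (T hF h2) where
  card_T := by rw [card_T hF h2]; norm_num
  card_Z := by rw [card_center_T hF h2]
  sq_mem := sq_mem_center hF h2
  sq_Z := fun _ hz => sq_of_mem_center hF h2 hz
  root := fun _ hs => mem_center_of_sq hF h2 hs
  count := fun c hc hc1 => by rw [card_sqrt hF h2 hc hc1]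

theorem char_two {F : Type*} [Field F] [Fintype F] (hF : Fintype.card F = 16) : (2 : F) = 0 := by
  obtain ⟨p, hp⟩ := CharP.exists F
  obtain ⟨m, hpp, hm⟩ := FiniteField.card F p
  have hp2 : p = 2 := by
    have h1 : p ∣ 2 ^ 4 := by
      rw [show (2 : ℕ) ^ 4 = 16 by norm_num, ← hF, hm]
      exact dvd_pow_self p m.ne_zero
    exact (Nat.prime_dvd_prime_iff_eq hpp Nat.prime_two).mp (hpp.dvd_of_dvd_pow h1)
  subst hp2
  exact_mod_cast CharP.cast_eq_zero F 2

/-- The Sylow 2-subgroups of `PSU₃(4)` are isomorphic to the explicit subgroup. -/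
theorem sylow_PSU {F : Type*} [Field F] [Fintype F] (hF : Fintype.card F = 4 ^ 2) (h2 : (2 : F) = 0)
    (S : Sylow 2 (Cfsg.PSU 3 F 4)) :
    Nonempty (↥(S : Subgroup (Cfsg.PSU 3 F 4)) ≃* Cfsg.Agent.Lib.SU3Heis.T hF h2) := by
  classical
  have hc : Nat.card (Subgroup.center (Cfsg.SU 3 F 4)) = 1 := by
    rw [Cfsg.Agent.Lib.UnitarySU.card_center_SU hF (by norm_num)]
    norm_num
  have hbot : Subgroup.center (Cfsg.SU 3 F 4) = ⊥ := Subgroup.eq_bot_of_card_eq _ hc
  let π : Cfsg.SU 3 F 4 →* Cfsg.PSU 3 F 4 := QuotientGroup.mk' _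
  have hπ : Function.Bijective π := by
    refine ⟨?_, QuotientGroup.mk'_surjective _⟩
    rw [injective_iff_map_eq_one]
    intro a ha
    have : a ∈ Subgroup.center (Cfsg.SU 3 F 4) := (QuotientGroup.eq_one_iff a).mp ha
    rwa [hbot, Subgroup.mem_bot] at this
  let e₀ : Cfsg.SU 3 F 4 ≃* Cfsg.PSU 3 F 4 := MulEquiv.ofBijective π hπ
  let P₀ : Subgroup (Cfsg.SU 3 F 4) := (S : Subgroup (Cfsg.PSU 3 F 4)).map e₀.symm.toMonoidHom
  have hP₀ : IsPGroup 2 P₀ := S.isPGroup'.map _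
  have hidx : ¬ 2 ∣ P₀.index := by
    have : P₀.index = (S : Subgroup (Cfsg.PSU 3 F 4)).index :=
      Subgroup.index_map_of_bijective e₀.symm.bijective _
    rw [this]
    exact S.not_dvd_index
  obtain ⟨g⟩ := Cfsg.Agent.S3315.sylow_equiv (k := 2) (q := 4) (by norm_num) (by norm_num) hF h2
    (hP₀.toSylow hidx)
  have e₁ : ↥(S : Subgroup (Cfsg.PSU 3 F 4)) ≃* P₀ := e₀.symm.subgroupMap _
  exact ⟨e₁.trans g⟩

theorem result {T : Type*} [Group T] [Finite T] (hT : (∃ (F : Type) (_ : Field F) (_ : Fintype F), Fintype.card F = 16 ∧ ∃ S : Sylow 2 (Cfsg.PSU 3 F 4), Nonempty (T ≃* ↥(S : Subgroup (Cfsg.PSU 3 F 4))))) (H : Subgroup (MulAut T)) : ¬ Nonempty (↥H ≃* Equiv.Perm (Fin 3)) := by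
  rintro ⟨e⟩
  obtain ⟨F, _, _, hF, S, ⟨f⟩⟩ := hT
  have hF' : Fintype.card F = 4 ^ 2 := by rw [hF]; norm_num
  have h2 : (2 : F) = 0 := char_two hF
  obtain ⟨g⟩ := sylow_PSU hF' h2 S
  let φ := MulAut.congr (f.trans g)
  let ψ : Equiv.Perm (Fin 3) →* MulAut (Cfsg.Agent.Lib.SU3Heis.T hF' h2) :=
    φ.toMonoidHom.comp (H.subtype.comp e.symm.toMonoidHom)
  have hψ : Function.Injective ψ := by
    intro a b hab
    have h1 := φ.injective hab
    exact e.symm.injective (Subtype.ext h1)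
  let c : Equiv.Perm (Fin 3) := Equiv.swap 0 1 * Equiv.swap 1 2
  let τ : Equiv.Perm (Fin 3) := Equiv.swap 0 1
  have hc3 : c ^ 3 = 1 := by decide
  have hc1 : c ≠ 1 := by decide
  have hτ2 : τ * τ = 1 := by decide
  have hτc : τ * c = c * c * τ := by decide
  have hcc : c * c * c = 1 := by decide
  let ρ := ψ c
  let x := ψ τ
  have hρ3 : ∀ t, ρ (ρ (ρ t)) = t := by
    intro t
    have : ψ (c * c * c) = 1 := by rw [hcc, map_one]
    have h3 := DFunLike.congr_fun this t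
    simpa [map_mul] using h3
  have hρ1 : ∃ t, ρ t ≠ t := by
    by_contra hall
    push Not at hall
    apply hc1
    apply hψ
    rw [map_one]
    exact MulEquiv.ext hall
  have hx2 : ∀ t, x (x t) = t := by
    intro t
    have : ψ (τ * τ) = 1 := by rw [hτ2, map_one]
    have h3 := DFunLike.congr_fun this t
    simpa [map_mul] using h3
  have hxρ : ∀ t, x (ρ t) = ρ (ρ (x t)) := by
    intro t
    have : ψ (τ * c) = ψ (c * c * τ) := by rw [hτc]
    have h3 := DFunLike.congr_fun this t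
    simpa [map_mul] using h3
  exact no_S3 (hyp_T hF' h2) ρ x hρ3 hρ1 hx2 hxρ

end Cfsg.Agent.S3156
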