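import Mathlib
import Cfsg.Statements.S1141
import Cfsg.Agent.S3315
import Cfsg.Agent.Lib.UnitarySU

set_option autoImplicit false
open Cfsg

namespace Cfsg.Agent.S1141

section Aux

open Cfsg.Agent.Lib.SU3Heis Cfsg.Agent.Lib.HermCount

/-- A Sylow subgroup of a quotient by an odd normal subgroup is isomorphic to a Sylow subgroup. -/
theorem sylow_quot {G : Type*} [Group G] [Finite G] (Z : Subgroup G) [Z.Normal]
    (hZ : Nat.Coprime (Nat.card Z) 2) (S : Sylow 2 (G ⧸ Z)) :
    ∃ P : Sylow 2 G, Nonempty ((P : Subgroup G) ≃* (S : Subgroup (G ⧸ Z))) := by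
  have : Fact (Nat.Prime 2) := ⟨Nat.prime_two⟩
  obtain ⟨P, rfl⟩ := Sylow.mapSurjective_surjective (QuotientGroup.mk'_surjective Z) 2 S
  refine ⟨P, ?_⟩
  have hdisj : (P : Subgroup G) ⊓ Z = ⊥ := by
    apply disjoint_iff.mp
    apply Subgroup.disjoint_of_coprime_natCard
    obtain ⟨k, hk⟩ := IsPGroup.iff_card.mp P.isPGroup'
    rw [hk]
    exact (Nat.Coprime.pow_left k (Nat.coprime_comm.mp hZ))
  let f := (QuotientGroup.mk' Z).subgroupMap (P : Subgroup G)
  have hf : Function.Bijective f := by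
    refine ⟨?_, (QuotientGroup.mk' Z).subgroupMap_surjective _⟩
    rw [injective_iff_map_eq_one]
    intro x hx
    have h1 : (x : G) ∈ Z := by
      have := congrArg Subtype.val hx
      exact (QuotientGroup.eq_one_iff _).mp this
    have h3 : (x : G) ∈ (P : Subgroup G) ⊓ Z := ⟨x.2, h1⟩
    rw [hdisj] at h3
    exact Subtype.ext (by simpa using h3)
  exact ⟨(MulEquiv.ofBijective f hf)⟩

/-- The Suzuki property transports along isomorphisms. -/
theorem suzuki_congr {A B : Type*} [Group A] [Group B] (f : A ≃* B)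
    (h : IsSuzukiTwoGroup B) : IsSuzukiTwoGroup A := by
  obtain ⟨hfin, hp, ⟨x, y, hxy⟩, ⟨u, v, huv, hu1, hu2, hv1, hv2⟩, K, hK, hreg⟩ := h
  have := hfin
  refine ⟨Finite.of_equiv _ f.symm.toEquiv, hp.of_injective f.toMonoidHom f.injective,
    ⟨f.symm x, f.symm y, ?_⟩, ⟨f.symm u, f.symm v, ?_, ?_, ?_, ?_, ?_⟩, ?_⟩
  · intro h
    apply hxy
    have := congrArg f h
    simpa using this
  · intro h; exact huv (f.symm.injective h)
  · intro h; apply hu1; simpa using h
  · rw [← map_mul, hu2, map_one]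
  · intro h; apply hv1; simpa using h
  · rw [← map_mul, hv2, map_one]
  · let c : MulAut B ≃* MulAut A := MulAut.congr f.symm
    have hc : ∀ (a : MulAut B) (w : A), c a w = f.symm (a (f w)) := fun _ _ => rfl
    refine ⟨K.map c.toMonoidHom,
      isCyclic_of_surjective (c.toMonoidHom.subgroupMap K)
        (c.toMonoidHom.subgroupMap_surjective K), ?_⟩
    intro a b ha1 ha2 hb1 hb2
    have ha1' : f a ≠ 1 := by simpa using ha1
    have hb1' : f b ≠ 1 := by simpa using hb1
    have ha2' : f a * f a = 1 := by rw [← map_mul, ha2, map_one]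
    have hb2' : f b * f b = 1 := by rw [← map_mul, hb2, map_one]
    obtain ⟨k, hk, huniq⟩ := hreg (f a) (f b) ha1' ha2' hb1' hb2'
    refine ⟨⟨c k.1, k.1, k.2, rfl⟩, ?_, ?_⟩
    · change c k.1 a = b
      rw [hc, hk]; simp
    · rintro ⟨_, k₂, hk₂, rfl⟩ hk₂'
      have h3 : c k₂ a = b := hk₂'
      rw [hc] at h3
      have h4 : k₂ (f a) = f b := by
        rw [← h3]; simp
      have h5 := huniq ⟨k₂, hk₂⟩ h4
      apply Subtype.ext
      have h6 : k₂ = k.1 := congrArg Subtype.val h5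
      change c k₂ = c k.1
      rw [h6]

variable {F : Type*} [Field F] [Fintype F] {q : ℕ}
  (hF : Fintype.card F = q ^ 2) (h2 : (2 : F) = 0)

theorem act_rel (l : Fˣ) (g : T hF h2) :
    (l : F) ^ q * l * η g.1 + ((l : F) ^ q * l * η g.1) ^ q =
      ((l : F) * δ g.1) * ((l : F) * δ g.1) ^ q := by
  have h3 := rel hF h2 g
  have h4 : ((l : F) ^ q * l * η g.1) ^ q = l * (l : F) ^ q * η g.1 ^ q := by
    rw [mul_pow, mul_pow, pow_q_pow_q hF]
  rw [h4, mul_pow]
  linear_combination (l : F) ^ q * l * h3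

/-- The diagonal action of a scalar on `T`. -/
noncomputable def act (l : Fˣ) (g : T hF h2) : T hF h2 :=
  Classical.choose (exists_T hF h2 (act_rel hF h2 l g))

theorem act_δ (l : Fˣ) (g : T hF h2) : δ (act hF h2 l g).1 = (l : F) * δ g.1 :=
  (Classical.choose_spec (exists_T hF h2 (act_rel hF h2 l g))).1

theorem act_η (l : Fˣ) (g : T hF h2) : η (act hF h2 l g).1 = (l : F) ^ q * l * η g.1 :=
  (Classical.choose_spec (exists_T hF h2 (act_rel hF h2 l g))).2

theorem act_mul (l m : Fˣ) (g : T hF h2) : act hF h2 (l * m) g = act hF h2 l (act hF h2 m g) := by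
  apply T_ext hF h2
  · rw [act_δ, act_δ, act_δ, Units.val_mul, mul_assoc]
  · rw [act_η, act_η, act_η, Units.val_mul, mul_pow]
    ring

theorem act_one (g : T hF h2) : act hF h2 1 g = g := by
  apply T_ext hF h2
  · rw [act_δ, Units.val_one, one_mul]
  · rw [act_η, Units.val_one, one_pow, one_mul, one_mul]

theorem act_hom (l : Fˣ) (g g' : T hF h2) :
    act hF h2 l (g * g') = act hF h2 l g * act hF h2 l g' := by
  apply T_ext hF h2
  · rw [act_δ, δ_mul hF h2, δ_mul hF h2, act_δ, act_δ]; ring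
  · rw [act_η, η_mul hF h2, η_mul hF h2, act_η, act_η, act_δ, act_δ, mul_pow]; ring

/-- The action as an automorphism. -/
noncomputable def autE (l : Fˣ) : MulAut (T hF h2) where
  toFun := act hF h2 l
  invFun := act hF h2 l⁻¹
  left_inv g := by rw [← act_mul, inv_mul_cancel, act_one]
  right_inv g := by rw [← act_mul, mul_inv_cancel, act_one]
  map_mul' := act_hom hF h2 l

/-- The action as a homomorphism. -/
noncomputable def autHom : Fˣ →* MulAut (T hF h2) where
  toFun := autE hF h2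
  map_one' := MulEquiv.ext fun g => act_one hF h2 g
  map_mul' l m := MulEquiv.ext fun g => act_mul hF h2 l m g

theorem autHom_apply (l : Fˣ) (g : T hF h2) : autHom hF h2 l g = act hF h2 l g := rfl

/-- The subgroup of the scalars fixed by the `q`-power map. -/
def fixU (q : ℕ) (hq : q ≠ 0) : Subgroup Fˣ where
  carrier := {l | (l : F) ^ q = l}
  mul_mem' := by
    intro a b ha hb
    change ((a * b : Fˣ) : F) ^ q = _
    rw [Units.val_mul, mul_pow, ha, hb]
  one_mem' := by
    change ((1 : Fˣ) : F) ^ q = _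
    rw [Units.val_one, one_pow]
  inv_mem' := by
    intro a ha
    change ((a⁻¹ : Fˣ) : F) ^ q = _
    have ha' : (a : F) ^ q = a := ha
    rw [Units.val_inv_eq_inv_val, inv_pow, ha']

/-- The Sylow 2-subgroup `T` is a Suzuki 2-group. -/
theorem T_suzuki {n : ℕ} (hn : 2 ≤ n) (hF : Fintype.card F = (2 ^ n) ^ 2) (h2 : (2 : F) = 0) :
    IsSuzukiTwoGroup (T hF h2) := by
  classical
  have hq0 : (2 ^ n : ℕ) ≠ 0 := by positivity
  have hq4 : 4 ≤ 2 ^ n := by
    calc 4 = 2 ^ 2 := by norm_num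
      _ ≤ 2 ^ n := Nat.pow_le_pow_right (by norm_num) hn
  have hcardT := card_T hF h2
  have hcardZ := card_center_T hF h2
  have hfinT : Finite (T hF h2) := inferInstance
  refine ⟨hfinT, ?_, ?_, ?_, ?_⟩
  · rw [IsPGroup.iff_card]
    exact ⟨n * 3, by rw [hcardT, pow_mul]⟩
  · by_contra hall
    push Not at hall
    have htop : Subgroup.center (T hF h2) = ⊤ := by
      rw [eq_top_iff]
      intro x _
      rw [Subgroup.mem_center_iff]
      intro g
      exact hall g x
    have h3 : Nat.card (Subgroup.center (T hF h2)) = Nat.card (T hF h2) := by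
      rw [htop]; exact Nat.card_congr Subgroup.topEquiv.toEquiv
    rw [hcardZ, hcardT] at h3
    have h4 : (2 ^ n) ^ 1 < (2 ^ n) ^ 3 := Nat.pow_lt_pow_right (by omega) (by norm_num)
    rw [pow_one] at h4
    omega
  · have h3 : 2 < Nat.card (Subgroup.center (T hF h2)) := by omega
    haveI : Fintype (Subgroup.center (T hF h2)) := Fintype.ofFinite _
    rw [Nat.card_eq_fintype_card] at h3
    obtain ⟨x, y, z, hxy, hxz, hyz⟩ := Fintype.two_lt_card_iff.mp h3
    -- among three distinct elements of the centre at least two are non-trivial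
    have key : ∀ a b : Subgroup.center (T hF h2), a ≠ b → a ≠ 1 → b ≠ 1 →
        ∃ x y : T hF h2, x ≠ y ∧ x ≠ 1 ∧ x * x = 1 ∧ y ≠ 1 ∧ y * y = 1 := by
      intro a b hab ha hb
      refine ⟨a.1, b.1, fun h => hab (Subtype.ext h), fun h => ha (Subtype.ext h), ?_,
        fun h => hb (Subtype.ext h), ?_⟩
      · rw [← pow_two]; exact sq_of_mem_center hF h2 a.2
      · rw [← pow_two]; exact sq_of_mem_center hF h2 b.2
    by_cases hx : x = 1
    · exact key y z hyz (fun h => hxy (hx.trans h.symm)) (fun h => hxz (hx.trans h.symm))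
    · by_cases hy : y = 1
      · exact key x z hxz hx (fun h => hyz (hy.trans h.symm))
      · exact key x y hxy hx hy
  · have hU := fixU (F := F) (2 ^ n) hq0
    refine ⟨(fixU (F := F) (2 ^ n) hq0).map (autHom hF h2),
      isCyclic_of_surjective ((autHom hF h2).subgroupMap _) ((autHom hF h2).subgroupMap_surjective _),
      ?_⟩
    intro x y hx1 hx2 hy1 hy2
    have hxz : δ x.1 = 0 := (mem_center_iff hF h2 x).mp
      (mem_center_of_sq hF h2 (by rw [pow_two]; exact hx2))
    have hyz : δ y.1 = 0 := (mem_center_iff hF h2 y).mp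
      (mem_center_of_sq hF h2 (by rw [pow_two]; exact hy2))
    have hxη : η x.1 ≠ 0 := by
      intro h
      apply hx1
      apply T_ext hF h2
      · rw [hxz, δ_one hF h2]
      · rw [h, η_one hF h2]
    have hyη : η y.1 ≠ 0 := by
      intro h
      apply hy1
      apply T_ext hF h2
      · rw [hyz, δ_one hF h2]
      · rw [h, η_one hF h2]
    have hxq : η x.1 ^ 2 ^ n = η x.1 := by
      have h3 := rel hF h2 x
      rw [hxz, zero_mul] at h3
      linear_combination h3 - η x.1 * h2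
    have hyq : η y.1 ^ 2 ^ n = η y.1 := by
      have h3 := rel hF h2 y
      rw [hyz, zero_mul] at h3
      linear_combination h3 - η y.1 * h2
    set μ : F := η y.1 / η x.1 with hμ
    have hμ0 : μ ≠ 0 := div_ne_zero hyη hxη
    have hμq : μ ^ 2 ^ n = μ := by rw [hμ, div_pow, hxq, hyq]
    obtain ⟨r, hr⟩ : ∃ r, n = r + 1 := ⟨n - 1, by omega⟩
    set l₀ : F := μ ^ 2 ^ r with hl₀
    have hl0 : l₀ ≠ 0 := pow_ne_zero _ hμ0
    have hlsq : l₀ ^ 2 = μ := by
      rw [hl₀, ← pow_mul, ← pow_succ, ← hr, hμq]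
    have hlq : l₀ ^ 2 ^ n = l₀ := by
      rw [hl₀, ← pow_mul, mul_comm, pow_mul, hμq]
    let l : Fˣ := Units.mk0 l₀ hl0
    have hlU : l ∈ fixU (F := F) (2 ^ n) hq0 := hlq
    have hact : ∀ m : Fˣ, m ∈ fixU (F := F) (2 ^ n) hq0 → (autHom hF h2 m x = y ↔ (m : F) ^ 2 = μ) := by
      intro m hm
      have hm' : (m : F) ^ 2 ^ n = m := hm
      rw [autHom_apply]
      constructor
      · intro h
        have h3 := congrArg (fun g : T hF h2 => η g.1) h
        simp only [act_η, hm'] at h3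
        rw [hμ, eq_div_iff hxη, ← h3]
        ring
      · intro h
        apply T_ext hF h2
        · rw [act_δ, hxz, hyz, mul_zero]
        · rw [act_η, hm', hμ] at *
          rw [← pow_two, h]
          field_simp
    refine ⟨⟨autHom hF h2 l, l, hlU, rfl⟩, (hact l hlU).mpr hlsq, ?_⟩
    rintro ⟨_, m, hm, rfl⟩ hk
    have hk' : autHom hF h2 m x = y := hk
    have hm2 := (hact m hm).mp hk'
    have hml : (m : F) = l₀ := by
      have h3 : ((m : F) - l₀) ^ 2 = 0 := by
        have : ((m : F) - l₀) ^ 2 = (m : F) ^ 2 + l₀ ^ 2 - 2 * (m * l₀) := by ring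
        rw [this, hm2, hlsq, h2]
        linear_combination μ * h2
      have h4 := pow_eq_zero_iff (two_ne_zero) |>.mp h3
      exact sub_eq_zero.mp h4
    have hml' : m = l := Units.ext hml
    apply Subtype.ext
    change autHom hF h2 m = autHom hF h2 l
    rw [hml']

theorem main {F : Type*} [Field F] [Fintype F] {n : ℕ} (hn : 2 ≤ n)
    (hF : Fintype.card F = (2 ^ n) ^ 2) (S : Sylow 2 (Cfsg.PSU 3 F (2 ^ n))) :
    Nat.card S = (2 ^ n) ^ 3 ∧ Nat.card (Subgroup.center ↥(S : Subgroup (Cfsg.PSU 3 F (2 ^ n)))) = 2 ^ n ∧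
      Cfsg.IsSuzukiTwoGroup ↥(S : Subgroup (Cfsg.PSU 3 F (2 ^ n))) := by
  have h2 : (2 : F) = 0 := by
    have h3 := FiniteField.cast_card_eq_zero F
    rw [hF] at h3
    push_cast at h3
    exact pow_eq_zero_iff (by positivity) |>.mp (pow_eq_zero_iff (by norm_num) |>.mp h3)
  have hZ : Nat.Coprime (Nat.card (Subgroup.center (SU 3 F (2 ^ n)))) 2 := by
    rw [Cfsg.Agent.Lib.UnitarySU.card_center_SU' hF 3 (by norm_num)]
    exact Nat.Coprime.coprime_dvd_left (Nat.gcd_dvd_left _ _) (by norm_num)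
  obtain ⟨P, ⟨e₁⟩⟩ := sylow_quot (Subgroup.center (SU 3 F (2 ^ n))) hZ S
  obtain ⟨e₂⟩ := Cfsg.Agent.S3315.sylow_equiv (q := 2 ^ n) (k := n) rfl (by omega) hF h2 P
  let e : ↥(S : Subgroup (Cfsg.PSU 3 F (2 ^ n))) ≃* T hF h2 := e₁.symm.trans e₂
  refine ⟨?_, ?_, suzuki_congr e (T_suzuki hn hF h2)⟩
  · exact (Nat.card_congr e.toEquiv).trans (card_T hF h2)
  · exact (Nat.card_congr (Subgroup.centerCongr e).toEquiv).trans (card_center_T hF h2)

end Aux

/-- Let `q = 2^n ≥ 4` and `|F| = q²`. A Sylow 2-subgroup `S` of `PSU₃(q)` has order `q³`, its centre has order `q`, and `S` is a Suzuki 2-group. -/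
theorem result {F : Type*} [Field F] [Fintype F] {n : ℕ} (hn : 2 ≤ n)
    (hF : Fintype.card F = (2 ^ n) ^ 2) (S : Sylow 2 (Cfsg.PSU 3 F (2 ^ n))) :
    Nat.card S = (2 ^ n) ^ 3 ∧ Nat.card (Subgroup.center ↥(S : Subgroup (Cfsg.PSU 3 F (2 ^ n)))) = 2 ^ n ∧
      Cfsg.IsSuzukiTwoGroup ↥(S : Subgroup (Cfsg.PSU 3 F (2 ^ n))) :=
  main hn hF S

end Cfsg.Agent.S1141
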