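import Cfsg.Statements.S0346
import Mathlib
import Cfsg.Agent.Lib.ZassMain9

set_option autoImplicit false
open Cfsg

namespace Cfsg.Agent.S0346

/-- The number of points of a finite simple Zassenhaus group is `p^k + 1` for some prime power `p^k` (the regular normal
subgroup of a point stabiliser is a `p`-group). -/
theorem result {G Ω : Type*} [Group G] [Finite G] [MulAction G Ω] [Fintype Ω]
    (hZ : Cfsg.IsZassenhausGroup G Ω) [IsSimpleGroup G] :
    IsPrimePow (Fintype.card Ω - 1) := by
  classical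
  let _ : Fintype G := Fintype.ofFinite G
  obtain ⟨g, -, a, b, hab, -, -⟩ := hZ.2.2.2.1
  obtain ⟨K, hK⟩ := Cfsg.Agent.Lib.ZassCore.exists_kernel hZ a
  obtain ⟨p, f, hp, hf⟩ := Cfsg.Agent.Lib.ZassMain9.kernel_prime_pow hZ hK hab
  have hKc := hK.card_add_one hab.symm
  rw [Nat.card_eq_fintype_card (α := Ω)] at hKc
  have h3 := Cfsg.Agent.Lib.Zassenhaus.three_le_card hZ
  have h1 : Fintype.card Ω - 1 = p ^ f := by omega
  rw [h1, isPrimePow_nat_iff]
  refine ⟨p, f, hp, ?_, rfl⟩
  rcases Nat.eq_zero_or_pos f with h0 | h0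
  · subst h0
    rw [pow_zero] at hf
    omega
  · exact h0

end Cfsg.Agent.S0346
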