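import Mathlib
import Cfsg.Statements.S5748
import Cfsg.Agent.S0183
import Cfsg.Agent.S2202
import Cfsg.Agent.Lib.CTSL71
import Cfsg.Agent.Lib.TICent71
import Cfsg.Agent.Lib.ClassicalSmall
import Cfsg.Agent.Lib.InvolutionIndexTwo

set_option autoImplicit false
open Cfsg

namespace Cfsg.Agent.S5748

open Matrix

section aux

variable {G : Type*} [Group G] [Finite G]

lemma not_solvable [IsSimpleGroup G] (hG : ¬ IsMulCommutative G) : ¬ Group.IsSolvable G := by
  intro h
  apply hG
  exact ⟨⟨(IsSimpleGroup.comm_iff_isSolvable).2 h⟩⟩

lemma not_pgroup [IsSimpleGroup G] (hG : ¬ IsMulCommutative G) {p : ℕ} [Fact p.Prime]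
    (h : IsPGroup p G) : False := by
  haveI := h.isNilpotent
  exact not_solvable hG inferInstance

lemma center_bot [IsSimpleGroup G] (hG : ¬ IsMulCommutative G) : Subgroup.center G = ⊥ := by
  rcases IsSimpleGroup.eq_bot_or_eq_top_of_normal (Subgroup.center G) inferInstance with h | h
  · exact h
  · exfalso
    apply hG
    refine ⟨⟨fun a b => ?_⟩⟩
    have ha : a ∈ Subgroup.center G := by rw [h]; trivial
    exact (Subgroup.mem_center_iff.mp ha b).symm

lemma no_index_two [IsSimpleGroup G] (hG : ¬ IsMulCommutative G) (H : Subgroup G)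
    (hH : H.index = 2) : False := by
  haveI : H.Normal := Subgroup.normal_of_index_eq_two hH
  rcases IsSimpleGroup.eq_bot_or_eq_top_of_normal H inferInstance with h | h
  · rw [h, Subgroup.index_bot] at hH
    haveI : Fact (Nat.Prime 2) := ⟨Nat.prime_two⟩
    exact not_pgroup hG (p := 2) (IsPGroup.of_card (n := 1) (by simpa using hH))
  · rw [h, Subgroup.index_top] at hH
    omega

lemma not_card_six [IsSimpleGroup G] (hG : ¬ IsMulCommutative G) (h6 : Nat.card G = 6) : False := by
  haveI : Fact (Nat.Prime 3) := ⟨Nat.prime_three⟩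
  obtain ⟨H, hH⟩ := Sylow.exists_subgroup_card_pow_prime (G := G) 3 (n := 1) (by rw [h6]; norm_num)
  apply no_index_two hG H
  have := H.card_mul_index
  rw [hH, h6] at this
  omega

end aux

/-- A finite non-abelian simple group in which commuting is a transitive relation on the non-identity elements (equivalently, every non-identity element has abelian centraliser) is isomorphic to PSL₂ over a field with 2^f elements for some f ≥ 2; conversely these groups have that property. -/
theorem result {G : Type*} [Group G] [Finite G] [IsSimpleGroup G] (hG : ¬ IsMulCommutative G) :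
    (∀ a b c : G, a ≠ 1 → b ≠ 1 → c ≠ 1 → Commute a b → Commute b c → Commute a c) ↔
    ∃ (F : Type) (_ : Field F) (_ : Fintype F) (f : ℕ), 2 ≤ f ∧ Fintype.card F = 2 ^ f ∧ Nonempty (G ≃* Matrix.ProjectiveSpecialLinearGroup (Fin 2) F) := by
  classical
  haveI : Fact (Nat.Prime 2) := ⟨Nat.prime_two⟩
  constructor
  · intro hCT
    have hcomm : ∀ x : G, x ≠ 1 → IsMulCommutative (Subgroup.centralizer ({x} : Set G)) := by
      intro x hx
      refine ⟨⟨fun a b => ?_⟩⟩
      apply Subtype.ext
      show (a : G) * b = b * a
      by_cases ha : (a : G) = 1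
      · simp [ha]
      by_cases hb : (b : G) = 1
      · simp [hb]
      have h1 : Commute (a : G) x := Subgroup.mem_centralizer_singleton_iff.mp a.2
      have h2 : Commute x (b : G) := (Subgroup.mem_centralizer_singleton_iff.mp b.2).symm
      exact (hCT a x b ha hx hb h1 h2).eq
    rcases Nat.even_or_odd (Nat.card G) with heven | hodd
    · rcases Cfsg.Agent.S2202.result heven
        (fun t ht => hcomm t (by rintro rfl; simp at ht)) with h | h | h
      · exfalso
        obtain ⟨P⟩ := (inferInstance : Nonempty (Sylow 2 G))
        obtain ⟨H, hH⟩ := Cfsg.Agent.Lib.InvolutionIndexTwo.exists_index_two_of_isCyclic_sylow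
          heven P (h P)
        exact no_index_two hG H hH
      · exfalso
        obtain ⟨P⟩ := (inferInstance : Nonempty (Sylow 2 G))
        rcases IsSimpleGroup.eq_bot_or_eq_top_of_normal (P : Subgroup G) (h P) with h1 | h1
        · exact P.ne_bot_of_dvd_card (even_iff_two_dvd.mp heven) h1
        · apply not_pgroup hG (p := 2)
          intro g
          have hg : g ∈ (P : Subgroup G) := by rw [h1]; trivial
          obtain ⟨k, hk⟩ := P.isPGroup' ⟨g, hg⟩
          refine ⟨k, ?_⟩
          simpa using congrArg Subtype.val hk
      · obtain ⟨F, _, _, A, _, _, hchar, hA, ⟨e⟩⟩ := h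
        -- `A` is trivial
        have hAtriv : ∀ a : A, a = 1 := by
          intro a
          have hz : e.symm (1, a) ∈ Subgroup.center G := by
            rw [Subgroup.mem_center_iff]
            intro g
            apply e.injective
            rw [map_mul, map_mul, MulEquiv.apply_symm_apply]
            ext1
            · simp
            · simp [mul_comm]
          rw [center_bot hG, Subgroup.mem_bot] at hz
          have := (map_eq_one_iff e.symm e.symm.injective).mp hz
          exact congrArg Prod.snd this
        haveI : Unique A := ⟨⟨1⟩, hAtriv⟩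
        let e₁ : G ≃* Matrix.SpecialLinearGroup (Fin 2) F := e.trans MulEquiv.prodUnique
        obtain ⟨n, -, hn⟩ := FiniteField.card F 2
        refine ⟨F, inferInstance, inferInstance, n, ?_, hn, ⟨e₁.trans Cfsg.Agent.Lib.CTSL71.pslEquiv.symm⟩⟩
        by_contra hlt
        have hn1 : (n : ℕ) = 1 := by
          have := n.pos
          omega
        rw [hn1] at hn
        apply not_card_six hG
        rw [Nat.card_congr e₁.toEquiv, Cfsg.Agent.Lib.ClassicalSmall.card_SL2, hn]
        norm_num
    · exact absurd (Cfsg.Agent.S0183.result hodd (fun g hg =>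
        Cfsg.Agent.Lib.TICent71.nilpotent_of_comm (hcomm g hg))) (not_solvable hG)
  · rintro ⟨F, _, _, f, hf, hcard, ⟨e⟩⟩ a b c _ hb _ hab hbc
    haveI : CharP F 2 := by
      obtain ⟨p, hp⟩ := CharP.exists F
      obtain ⟨n, hpp, hn⟩ := FiniteField.card F p
      have : p = 2 := by
        have h1 : p ∣ 2 ^ f := by
          rw [← hcard, hn]
          exact dvd_pow_self _ n.ne_zero
        exact (Nat.prime_dvd_prime_iff_eq hpp Nat.prime_two).mp (hpp.dvd_of_dvd_pow h1)
      subst this
      exact hp
    exact Cfsg.Agent.Lib.CTSL71.commute_trans_of_equiv (e.trans Cfsg.Agent.Lib.CTSL71.pslEquiv) hb hab hbc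

end Cfsg.Agent.S5748
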