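import Mathlib
import Cfsg.Agent.S0649
import Cfsg.Agent.S0650
import Cfsg.Statements.S3078

set_option autoImplicit false
open Cfsg
open scoped commutatorElement

namespace Cfsg.Agent.S3078

open Cfsg.Agent.S0650 (mem_normalizer_of_forall mul_pow_class_two)

variable {G : Type*} [Group G]

/-- Elements of `Ω₁` of an abelian subgroup. -/
theorem mem_omegaOne_of_comm {p : ℕ} {A : Subgroup G} (hA : ∀ x ∈ A, ∀ y ∈ A, x * y = y * x) {x : G} :
    x ∈ Cfsg.omegaOne p A ↔ x ∈ A ∧ x ^ p = 1 := by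
  constructor
  · intro h
    unfold Cfsg.omegaOne at h
    induction h using Subgroup.closure_induction with
    | mem y hy => exact hy
    | one => exact ⟨A.one_mem, one_pow p⟩
    | mul y z _ _ hy hz =>
      refine ⟨A.mul_mem hy.1 hz.1, ?_⟩
      have hc : Commute y z := hA y hy.1 z hz.1
      rw [hc.mul_pow, hy.2, hz.2, one_mul]
    | inv y _ hy =>
      refine ⟨A.inv_mem hy.1, ?_⟩
      rw [inv_pow, hy.2, inv_one]
  · intro h
    exact Subgroup.subset_closure h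

/-- `Ω₁` is compatible with images under homomorphisms. -/
theorem omegaOne_map_of_injective {X Y : Type*} [Group X] [Group Y] (p : ℕ) (f : X →* Y)
    (hf : Function.Injective f) (H : Subgroup X) :
    (Cfsg.omegaOne p H).map f = Cfsg.omegaOne p (H.map f) := by
  unfold Cfsg.omegaOne
  rw [MonoidHom.map_closure]
  congr 1
  ext x
  constructor
  · rintro ⟨y, ⟨hy, hy2⟩, rfl⟩
    exact ⟨⟨y, hy, rfl⟩, by rw [← map_pow, hy2, map_one]⟩
  · rintro ⟨⟨y, hy, rfl⟩, hy2⟩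
    refine ⟨y, ⟨hy, ?_⟩, rfl⟩
    apply hf
    rw [map_pow, hy2, map_one]

/-- A counting principle: a map `c` from `H` into an overgroup `Y` of `K`, multiplicative modulo `K`, with
`c a ∈ K` only for `a ∈ K`, shows `|H| ≤ |Y|`. -/
theorem card_le_of_twisted {S : Type*} [Group S] [Finite S] (H Y K : Subgroup S)
    (hKH : K ≤ H) (hKY : K ≤ Y) (hn : (K.subgroupOf Y).Normal)
    (c : S → S) (hc : ∀ a ∈ H, c a ∈ Y)
    (hmul : ∀ a₁ ∈ H, ∀ a₂ ∈ H, (c (a₁ * a₂))⁻¹ * (c a₁ * c a₂) ∈ K)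
    (hker : ∀ a ∈ H, c a ∈ K → a ∈ K) : Nat.card H ≤ Nat.card Y := by
  classical
  let f : H → Y ⧸ K.subgroupOf Y := fun a => QuotientGroup.mk ⟨c a, hc a a.2⟩
  have hfmul : ∀ a₁ a₂ : H, f (a₁ * a₂) = f a₁ * f a₂ := by
    intro a₁ a₂
    show (QuotientGroup.mk _ : Y ⧸ K.subgroupOf Y) = QuotientGroup.mk _ * QuotientGroup.mk _
    rw [← QuotientGroup.mk_mul, QuotientGroup.eq]
    exact hmul a₁ a₁.2 a₂ a₂.2
  let φ : H →* Y ⧸ K.subgroupOf Y := MonoidHom.mk' f hfmul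
  have hφker : φ.ker ≤ K.subgroupOf H := by
    intro a ha
    rw [MonoidHom.mem_ker] at ha
    have h1 : (QuotientGroup.mk ⟨c a, hc a a.2⟩ : Y ⧸ K.subgroupOf Y) = 1 := ha
    rw [QuotientGroup.eq_one_iff] at h1
    exact hker a a.2 h1
  have h1 : Nat.card (K.subgroupOf H) = Nat.card K :=
    Nat.card_congr (Subgroup.subgroupOfEquivOfLe hKH).toEquiv
  have h2 : Nat.card (K.subgroupOf Y) = Nat.card K :=
    Nat.card_congr (Subgroup.subgroupOfEquivOfLe hKY).toEquiv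
  have h3 := Subgroup.index_mul_card φ.ker
  have h4 := Subgroup.index_mul_card (K.subgroupOf Y)
  have h5 : Nat.card φ.ker ≤ Nat.card (K.subgroupOf H) := Subgroup.card_le_of_le hφker
  have h6 : φ.ker.index = Nat.card φ.range := Subgroup.index_ker φ
  have h7 : Nat.card φ.range ≤ Nat.card (Y ⧸ K.subgroupOf Y) := by
    exact Subgroup.card_le_card_group _
  have h8 : (K.subgroupOf Y).index = Nat.card (Y ⧸ K.subgroupOf Y) := rfl
  rw [← h3, ← h4, h2, h6, h8]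
  rw [h1] at h5
  exact Nat.mul_le_mul h7 h5

/-- The `Ω₁`-part of Glauberman's replacement. -/
theorem omega_le {S : Type*} [Group S] [Finite S] {p : ℕ} [Fact p.Prime] (hp : p ≠ 2) (hS : IsPGroup p S)
    (B : Subgroup S) [hBn : B.Normal] (A : Subgroup S) (hA : IsMulCommutative A)
    (hBA : ⁅B, B⁆ ≤ A) (hnot : ¬ B ≤ Subgroup.normalizer (A : Set S)) (b : S) (hb : b ∈ B)
    (hbN : b ∈ Subgroup.normalizer ((Subgroup.normalizer (A : Set S)) : Set S))
    (hbA : b ∉ Subgroup.normalizer (A : Set S)) :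
    Nat.card (Cfsg.omegaOne p A) ≤ Nat.card (Cfsg.omegaOne p ((A ⊓ A.map (MulAut.conj (b⁻¹)).toMonoidHom) ⊔
      Subgroup.closure {g : S | ∃ a ∈ A, g = a * b⁻¹ * a⁻¹ * b})) := by
  classical
  have hB2 : p = 2 → IsMulCommutative B := fun h => absurd h hp
  obtain ⟨-, h4, -⟩ := Cfsg.Agent.S0650.result hS B hB2 A hA hBA hnot b hb hbN hbA
  set N : Subgroup S := Subgroup.normalizer (A : Set S) with hN
  set A' : Subgroup S := A.map (MulAut.conj (b⁻¹)).toMonoidHom with hA'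
  set K : Subgroup S := A ⊓ A' with hK
  set D : Subgroup S := Subgroup.closure {g : S | ∃ a ∈ A, g = a * b⁻¹ * a⁻¹ * b} with hD
  set T : Subgroup S := K ⊔ D with hT
  have hA'mem : ∀ x, x ∈ A' ↔ b * x * b⁻¹ ∈ A := by
    intro x
    constructor
    · rintro ⟨y, hy, rfl⟩
      have : b * ((MulAut.conj b⁻¹).toMonoidHom y) * b⁻¹ = y := by
        simp
        group
      rw [this]; exact hy
    · intro h
      refine ⟨b * x * b⁻¹, h, ?_⟩
      simp
      group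
  have hcomA : ∀ x ∈ A, ∀ y ∈ A, x * y = y * x := fun x hx y hy =>
    congrArg Subtype.val (mul_comm' (⟨x, hx⟩ : A) ⟨y, hy⟩)
  have hcomA' : ∀ x ∈ A', ∀ y ∈ A', x * y = y * x := by
    intro x hx y hy
    have h1 := hcomA _ ((hA'mem x).mp hx) _ ((hA'mem y).mp hy)
    have h2 : b * (x * y) * b⁻¹ = b * (y * x) * b⁻¹ := by
      calc b * (x * y) * b⁻¹ = b * x * b⁻¹ * (b * y * b⁻¹) := by group
        _ = b * y * b⁻¹ * (b * x * b⁻¹) := h1
        _ = b * (y * x) * b⁻¹ := by group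
    simpa using h2
  have hcomT : ∀ x ∈ T, ∀ y ∈ T, x * y = y * x := fun x hx y hy =>
    congrArg Subtype.val (mul_comm' (⟨x, hx⟩ : T) ⟨y, hy⟩)
  have hprime : ∀ a ∈ A, b⁻¹ * a * b ∈ A' := by
    intro a ha
    rw [hA'mem]
    have : b * (b⁻¹ * a * b) * b⁻¹ = a := by group
    rw [this]; exact ha
  have hAN : A ≤ N := Subgroup.le_normalizer
  have hconjA : ∀ n ∈ N, ∀ x ∈ A, n * x * n⁻¹ ∈ A := fun n hn x hx =>
    (Subgroup.mem_normalizer_iff.mp hn x).mp hx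
  have hbconjN : ∀ n ∈ N, b * n * b⁻¹ ∈ N := fun n hn =>
    (Subgroup.mem_normalizer_iff.mp hbN n).mp hn
  have hbconjN' : ∀ n ∈ N, b⁻¹ * n * b ∈ N := fun n hn => by
    apply (Subgroup.mem_normalizer_iff.mp hbN _).mpr
    have : b * (b⁻¹ * n * b) * b⁻¹ = n := by group
    rw [this]; exact hn
  have hA'N : A' ≤ N := by
    intro x hx
    have h1 := hbconjN' _ (hAN ((hA'mem x).mp hx))
    have h2 : b⁻¹ * (b * x * b⁻¹) * b = x := by group
    rwa [h2] at h1
  have hconjA' : ∀ n ∈ N, ∀ x ∈ A', n * x * n⁻¹ ∈ A' := by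
    intro n hn x hx
    rw [hA'mem]
    have h1 := hconjA _ (hbconjN n hn) _ ((hA'mem x).mp hx)
    have h2 : b * n * b⁻¹ * (b * x * b⁻¹) * (b * n * b⁻¹)⁻¹ = b * (n * x * n⁻¹) * b⁻¹ := by group
    rwa [h2] at h1
  have hcommK : ∀ x ∈ A, ∀ y ∈ A', x * y * x⁻¹ * y⁻¹ ∈ K := by
    intro x hx y hy
    refine ⟨?_, ?_⟩
    · have h1 := hconjA y (hA'N hy) _ (A.inv_mem hx)
      have h2 : x * y * x⁻¹ * y⁻¹ = x * (y * x⁻¹ * y⁻¹) := by group
      rw [h2]
      exact A.mul_mem hx h1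
    · have h1 := hconjA' x (hAN hx) y hy
      exact A'.mul_mem h1 (A'.inv_mem hy)
  have hKA : ∀ k ∈ K, ∀ x ∈ A, k * x = x * k := fun k hk x hx => hcomA k hk.1 x hx
  have hKA' : ∀ k ∈ K, ∀ x ∈ A', k * x = x * k := fun k hk x hx => hcomA' k hk.2 x hx
  let g : S → S := fun a => a * b⁻¹ * a⁻¹ * b
  have hgdef : ∀ a, g a = a * (b⁻¹ * a⁻¹ * b) := fun a => by simp only [g]; group
  have hgT : ∀ a ∈ A, g a ∈ T := fun a ha =>
    (le_sup_right : D ≤ T) (Subgroup.subset_closure ⟨a, ha, rfl⟩)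
  have hKT : K ≤ T := le_sup_left
  -- multiplication formula
  have hgmul : ∀ a₁ ∈ A, ∀ a₂ ∈ A, (g (a₁ * a₂))⁻¹ * (g a₁ * g a₂) ∈ K := by
    intro a₁ ha₁ a₂ ha₂
    have hy₁ : b⁻¹ * a₁ * b ∈ A' := hprime _ ha₁
    have hy₂ : b⁻¹ * a₂ * b ∈ A' := hprime _ ha₂
    have hy₁' : (b⁻¹ * a₁ * b)⁻¹ ∈ A' := A'.inv_mem hy₁
    have hz := hcommK a₂⁻¹ (A.inv_mem ha₂) _ hy₁'
    set y₁ := b⁻¹ * a₁ * b with hy₁def
    set y₂ := b⁻¹ * a₂ * b with hy₂def
    set z := a₂⁻¹ * y₁⁻¹ * a₂⁻¹⁻¹ * y₁⁻¹⁻¹ with hzdef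
    have hy₂' : y₂⁻¹ ∈ A' := A'.inv_mem hy₂
    have e1 : ∀ a, g a = a * (b⁻¹ * a * b)⁻¹ := fun a => by simp only [g]; group
    have e2 : b⁻¹ * (a₁ * a₂) * b = y₁ * y₂ := by rw [hy₁def, hy₂def]; group
    have key : g a₁ * g a₂ = g (a₁ * a₂) * z := by
      rw [e1, e1, e1, e2, ← hy₁def, ← hy₂def]
      have h12 : y₁ * y₂ = y₂ * y₁ := hcomA' _ hy₁ _ hy₂
      have hcomm := hKA' z hz y₁⁻¹ hy₁'
      have hcomm2 := hKA' z hz y₂⁻¹ hy₂'
      have e3 : y₁⁻¹ * a₂ = a₂ * z * y₁⁻¹ := by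
        rw [hzdef]; group
      calc a₁ * y₁⁻¹ * (a₂ * y₂⁻¹) = a₁ * (y₁⁻¹ * a₂) * y₂⁻¹ := by group
        _ = a₁ * (a₂ * z * y₁⁻¹) * y₂⁻¹ := by rw [e3]
        _ = a₁ * a₂ * (z * y₁⁻¹) * y₂⁻¹ := by group
        _ = a₁ * a₂ * (y₁⁻¹ * z) * y₂⁻¹ := by rw [hcomm]
        _ = a₁ * a₂ * y₁⁻¹ * (z * y₂⁻¹) := by group
        _ = a₁ * a₂ * y₁⁻¹ * (y₂⁻¹ * z) := by rw [hcomm2]
        _ = a₁ * a₂ * (y₁ * y₂)⁻¹ * z := by
            have : (y₁ * y₂)⁻¹ = y₁⁻¹ * y₂⁻¹ := by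
              rw [h12]; group
            rw [this]; group
    rw [key]
    simpa using hz
  -- B and A ∩ B facts
  have hgB : ∀ a, g a ∈ B := by
    intro a
    have h1 : a * b⁻¹ * a⁻¹ ∈ B := hBn.conj_mem _ (B.inv_mem hb) a
    exact B.mul_mem h1 hb
  have hBBK : ⁅B, B⁆ ≤ K := by
    intro u hu
    refine ⟨hBA hu, (hA'mem _).mpr ?_⟩
    exact hBA ((Subgroup.commutator_normal B B).conj_mem u hu b)
  have hABK : A ⊓ B ≤ K := by
    intro a hh
    have ha : a ∈ A := hh.1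
    have haB : a ∈ B := hh.2
    refine ⟨ha, (hA'mem _).mpr ?_⟩
    have h1 : ⁅a⁻¹, b⁆ ∈ ⁅B, B⁆ := Subgroup.commutator_mem_commutator (B.inv_mem haB) hb
    have h2 : b * a * b⁻¹ = a * ⁅a⁻¹, b⁆ := by
      rw [commutatorElement_def]; group
    rw [h2]
    exact A.mul_mem ha (hBA h1)
  have hL1 : ∀ k ∈ K, b⁻¹ * k * b ∈ K := by
    intro k hk
    have hkA := hk.1
    have hkA' := (hA'mem k).mp hk.2
    set t := k⁻¹ * (b * k * b⁻¹) with ht
    have htA : t ∈ A := A.mul_mem (A.inv_mem hkA) hkA'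
    have htB : t ∈ B := by
      have h1 : k⁻¹ * b * k ∈ B := by
        have := hBn.conj_mem b hb k⁻¹
        simpa using this
      have h2 : t = (k⁻¹ * b * k) * b⁻¹ := by rw [ht]; group
      rw [h2]
      exact B.mul_mem h1 (B.inv_mem hb)
    have htK : t ∈ K := hABK ⟨htA, htB⟩
    have hc1 : ⁅t, b⁻¹⁆ ∈ K := hBBK (Subgroup.commutator_mem_commutator htB (B.inv_mem hb))
    have h3 : b⁻¹ * k * b = k * (t⁻¹ * ⁅t, b⁻¹⁆) := by
      rw [commutatorElement_def, ht]; group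
    rw [h3]
    exact K.mul_mem hk (K.mul_mem (K.inv_mem htK) hc1)
  have hgKiff : ∀ a ∈ A, g a ∈ K → a ∈ K := by
    intro a ha h
    refine ⟨ha, ?_⟩
    have h1 : a = g a * (b⁻¹ * a * b) := by simp only [g]; group
    rw [h1]
    exact A'.mul_mem h.2 (hprime a ha)
  -- powers
  have hgp : ∀ a ∈ A, a ^ p = 1 → g a ^ p = 1 := by
    intro a ha hap
    rw [hgdef]
    set y := b⁻¹ * a⁻¹ * b with hydef
    have hy : y ∈ A' := hprime _ (A.inv_mem ha)
    set z := y * a * y⁻¹ * a⁻¹ with hzdef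
    have hzK : z ∈ K := by
      have h1 := hcommK a ha y hy
      have h2 : z = (a * y * a⁻¹ * y⁻¹)⁻¹ := by rw [hzdef]; group
      rw [h2]
      exact K.inv_mem h1
    have hyx : y * a = z * a * y := by rw [hzdef]; group
    have hza := hKA z hzK a ha
    have hzy := hKA' z hzK y hy
    have hpow := mul_pow_class_two hyx hza hzy p
    have hye : y ^ p = 1 := by
      have h2 : y = b⁻¹ * a⁻¹ * b⁻¹⁻¹ := by rw [hydef, inv_inv]
      rw [h2, conj_pow, inv_pow, hap]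
      simp
    have hzp : z ^ p = 1 := by
      have h1 : (y * a * y⁻¹) ^ p = 1 := by rw [conj_pow, hap]; simp
      have h2 : y * a * y⁻¹ = z * a := by rw [hzdef]; group
      rw [h2, (show Commute z a from hza).mul_pow, hap, mul_one] at h1
      exact h1
    rw [hpow, hap, hye, one_mul, one_mul]
    obtain ⟨r, hr⟩ := (Nat.Prime.eq_two_or_odd' (Fact.out : p.Prime)).resolve_left hp
    have h3 : p * (p - 1) / 2 = p * r := by
      have : p - 1 = 2 * r := by omega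
      rw [this, ← mul_assoc, mul_comm p 2, mul_assoc, Nat.mul_div_cancel_left _ (by norm_num)]
    rw [h3, pow_mul, hzp, one_pow]
  -- the count
  set H := Cfsg.omegaOne p A with hH
  set Y := Cfsg.omegaOne p T with hY
  have hHmem : ∀ x, x ∈ H ↔ x ∈ A ∧ x ^ p = 1 := fun x => mem_omegaOne_of_comm hcomA
  have hYmem : ∀ x, x ∈ Y ↔ x ∈ T ∧ x ^ p = 1 := fun x => mem_omegaOne_of_comm hcomT
  let K₀ : Subgroup S := H ⊓ K
  have hK₀H : K₀ ≤ H := inf_le_left
  have hK₀Y : K₀ ≤ Y := by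
    intro x hx
    exact (hYmem x).mpr ⟨hKT hx.2, ((hHmem x).mp hx.1).2⟩
  have hn : (K₀.subgroupOf Y).Normal := by
    constructor
    rintro ⟨k, hkY⟩ hk ⟨t, ht⟩
    have hk' : k ∈ K₀ := hk
    show t * k * t⁻¹ ∈ K₀
    have h1 := hcomT t ((hYmem t).mp ht).1 k ((hYmem k).mp hkY).1
    rw [h1]
    simpa using hk'
  refine card_le_of_twisted H Y K₀ hK₀H hK₀Y hn g ?_ ?_ ?_
  · intro a ha
    have ha' := (hHmem a).mp ha
    exact (hYmem _).mpr ⟨hgT a ha'.1, hgp a ha'.1 ha'.2⟩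
  · intro a₁ ha₁ a₂ ha₂
    have ha₁' := (hHmem a₁).mp ha₁
    have ha₂' := (hHmem a₂).mp ha₂
    have h12 : a₁ * a₂ ∈ H := H.mul_mem ha₁ ha₂
    have h12' := (hHmem _).mp h12
    have hz := hgmul a₁ ha₁'.1 a₂ ha₂'.1
    refine ⟨(hHmem _).mpr ⟨hz.1, ?_⟩, hz⟩
    have hg1 := hgp a₁ ha₁'.1 ha₁'.2
    have hg2 := hgp a₂ ha₂'.1 ha₂'.2
    have hg12 := hgp _ h12'.1 h12'.2
    have hy : (g (a₁ * a₂))⁻¹ * (g a₁ * g a₂) ∈ Y := by
      apply Y.mul_mem (Y.inv_mem ((hYmem _).mpr ⟨hgT _ h12'.1, hg12⟩))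
      exact Y.mul_mem ((hYmem _).mpr ⟨hgT _ ha₁'.1, hg1⟩) ((hYmem _).mpr ⟨hgT _ ha₂'.1, hg2⟩)
    exact ((hYmem _).mp hy).2
  · intro a ha hk
    exact ⟨ha, hgKiff a ((hHmem a).mp ha).1 hk.2⟩

/-- A replacement Theorem for abelian subgroups of p-groups, p odd. Let G be a finite p-group with p odd, A an abelian subgroup of G, and B a subgroup of nilpotency class at most 2 with [B, B] ≤ A, such that A normalizes B but B does not normalize A. Then there is an abelian subgroup A* of G of the same order as A with A ∩ B strictly contained in A* ∩ B, A* contained in N_G(A) and in the normal closure of A, the exponent of A* dividing the exponent of A, and with the subgroup generated by the elements of order dividing p in A of order at most that of the corresponding subgroup of A* (the rank of A is at most the rank of A*). -/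
theorem result {G : Type*} [Group G] [Finite G] {p : ℕ} [Fact p.Prime] (hp : p ≠ 2) (hG : IsPGroup p G) (A B : Subgroup G) (hA : IsMulCommutative A) (hB2 : ⁅⁅B, B⁆, B⁆ = ⊥) (hBA : ⁅B, B⁆ ≤ A) (hAB : A ≤ Subgroup.normalizer (B : Set G)) (hBnA : ¬ B ≤ Subgroup.normalizer (A : Set G)) : ∃ Astar : Subgroup G, IsMulCommutative Astar ∧ Nat.card Astar = Nat.card A ∧ A ⊓ B < Astar ⊓ B ∧ Astar ≤ Subgroup.normalizer (A : Set G) ∧ Astar ≤ Subgroup.normalClosure (A : Set G) ∧ Monoid.exponent Astar ∣ Monoid.exponent A ∧ Nat.card (Cfsg.omegaOne p A) ≤ Nat.card (Cfsg.omegaOne p Astar) := by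
  classical
  set N : Subgroup G := Subgroup.normalizer (B : Set G) with hN
  have hBN : B ≤ N := Subgroup.le_normalizer
  let B' : Subgroup N := B.subgroupOf N
  have hB'n : B'.Normal := Subgroup.normal_in_normalizer
  let A' : Subgroup N := A.subgroupOf N
  have hsub : Function.Injective N.subtype := N.subtype_injective
  have hB'map : B'.map N.subtype = B := Subgroup.map_subgroupOf_eq_of_le hBN
  have hA'map : A'.map N.subtype = A := Subgroup.map_subgroupOf_eq_of_le hAB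
  have hcomA : ∀ x ∈ A, ∀ y ∈ A, x * y = y * x := fun x hx y hy =>
    congrArg Subtype.val (mul_comm' (⟨x, hx⟩ : A) ⟨y, hy⟩)
  have hA' : IsMulCommutative A' := ⟨⟨fun x y => by
    apply Subtype.ext
    apply Subtype.ext
    exact hcomA _ x.2 _ y.2⟩⟩
  have hBA' : ⁅B', B'⁆ ≤ A' := by
    rw [← Subgroup.map_le_map_iff_of_injective hsub, Subgroup.map_commutator, hB'map, hA'map]
    exact hBA
  have hnot : ¬ B' ≤ Subgroup.normalizer (A' : Set N) := by
    intro h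
    apply hBnA
    intro x hx
    apply mem_normalizer_of_forall
    intro a ha
    have hx' : (⟨x, hBN hx⟩ : N) ∈ B' := hx
    have h1 := Subgroup.mem_normalizer_iff.mp (h hx') ⟨a, hAB ha⟩
    exact h1.mp ha
  have hS : IsPGroup p N := hG.to_subgroup N
  have hB2' : p = 2 → IsMulCommutative B' := fun h => absurd h hp
  obtain ⟨b, hb, hb1, hb2⟩ := Cfsg.Agent.S0649.result hS B' hB2' A' hA' hBA' hnot
  obtain ⟨h3, h4, -, h6, -, -, h9, -, -, h12⟩ :=
    Cfsg.Agent.S0650.result hS B' hB2' A' hA' hBA' hnot b hb hb1 hb2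
  have hom := omega_le hp hS B' A' hA' hBA' hnot b hb hb1 hb2
  set T := (A' ⊓ A'.map (MulAut.conj (b⁻¹)).toMonoidHom) ⊔
    Subgroup.closure {g : N | ∃ a ∈ A', g = a * b⁻¹ * a⁻¹ * b} with hT
  have hcardA' : Nat.card A' = Nat.card A := by
    rw [← hA'map]; exact (Subgroup.card_map_of_injective hsub).symm
  refine ⟨T.map N.subtype, ?_, ?_, ?_, ?_, ?_, ?_, ?_⟩
  · refine ⟨⟨fun x y => ?_⟩⟩
    obtain ⟨x, a, ha, rfl⟩ := x
    obtain ⟨y, c, hc, rfl⟩ := y
    apply Subtype.ext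
    have h1 := congrArg (fun t : T => ((t : N) : G)) (mul_comm' (⟨a, ha⟩ : T) ⟨c, hc⟩)
    exact h1
  · rw [Subgroup.card_map_of_injective hsub, h3, hcardA']
  · have hle : A ⊓ B ≤ T.map N.subtype ⊓ B := by
      rintro x ⟨hxA, hxB⟩
      have hxN : x ∈ N := hBN hxB
      have h1 : (⟨x, hxN⟩ : N) ∈ A' ⊓ B' := ⟨hxA, hxB⟩
      exact ⟨⟨⟨x, hxN⟩, (h6.le h1).1, rfl⟩, hxB⟩
    refine lt_of_le_of_ne hle ?_
    intro heq
    apply h6.ne
    apply le_antisymm h6.le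
    rintro y ⟨hyT, hyB⟩
    have h1 : (y : G) ∈ T.map N.subtype ⊓ B := ⟨⟨y, hyT, rfl⟩, hyB⟩
    rw [← heq] at h1
    exact ⟨h1.1, hyB⟩
  · rintro _ ⟨t, ht, rfl⟩
    apply mem_normalizer_of_forall
    intro a ha
    have h1 := Subgroup.mem_normalizer_iff.mp (h9 ht) ⟨a, hAB ha⟩
    exact h1.mp ha
  · rintro _ ⟨t, ht, rfl⟩
    have hle : T ≤ (Subgroup.normalClosure (A : Set G)).comap N.subtype := by
      rw [hT]
      apply sup_le
      · intro k hk
        exact Subgroup.subset_normalClosure hk.1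
      · rw [Subgroup.closure_le]
        rintro _ ⟨a, ha, rfl⟩
        have ha1 : (a : G) ∈ Subgroup.normalClosure (A : Set G) := Subgroup.subset_normalClosure ha
        have hn : (Subgroup.normalClosure (A : Set G)).Normal := inferInstance
        show ((a : G) * (b : G)⁻¹ * (a : G)⁻¹ * (b : G)) ∈ Subgroup.normalClosure (A : Set G)
        have h0 : ((a : G) * (b : G)⁻¹ * (a : G)⁻¹ * (b : G)) = (a : G) * ((b : G)⁻¹ * (a : G)⁻¹ * (b : G)⁻¹⁻¹) := by group
        rw [h0]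
        exact Subgroup.mul_mem _ ha1 (hn.conj_mem _ (Subgroup.inv_mem _ ha1) _)
    exact hle ht
  · have e1 : Monoid.exponent (T.map N.subtype) = Monoid.exponent T :=
      Monoid.exponent_eq_of_mulEquiv (T.equivMapOfInjective N.subtype hsub).symm
    have e2 : Monoid.exponent A' = Monoid.exponent A :=
      Monoid.exponent_eq_of_mulEquiv (Subgroup.subgroupOfEquivOfLe hAB)
    rw [e1, ← e2]
    exact h12 hp
  · have e1 := omegaOne_map_of_injective p N.subtype hsub T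
    have e2 := omegaOne_map_of_injective p N.subtype hsub A'
    rw [hA'map] at e2
    rw [← e1, ← e2, Subgroup.card_map_of_injective hsub, Subgroup.card_map_of_injective hsub]
    exact hom

end Cfsg.Agent.S3078
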