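import Cfsg.Statements.S0253
import Cfsg.Agent.Lib.SL2Table
import Cfsg.Agent.Lib.SLTransfer

set_option autoImplicit false
open Cfsg

namespace Cfsg.Agent.S0253

open Matrix Cfsg.Agent.Lib.SL2Table Cfsg.Agent.Lib.SLTransfer Cfsg.Agent.Lib.ClassicalSmall

/-- Five is prime. -/
instance fact5 : Fact (Nat.Prime 5) := ⟨by norm_num⟩

/-- The left coset table of a subgroup of order 24 of `SL_2(5)`, four bits per entry. -/
def tbl : ℕ := 0x5255555355555455555015555550555555152555555354555555535545555555055155255555555455505551555255535555155552555535555455550555545555555255055555553551555550555553155555455555255535551555555554555255505555552505555553515555554555515555455552555505555355555153555555055555525455525555555545551555355505555545555515555530555552555555535505525555555455155550555525555455551555535555525551555055555555455535515555555055455355555552535555552555555150555555455555045555535555525555515555455553555525555155550555555555555555523401555555555503142555555555555555555555555541302555555555504321555555555555555555555555555555555555555555555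

/-- The action of generators on cosets, four bits per entry. -/
def pit : ℕ := 0xfedcba9876512403fedcba9876504132fedcba9876531024fedcba9876520341fedcba9876543210fedcba9876532104fedcba9876521043fedcba9876510432fedcba9876504321fedcba9876543210fedcba9876543210

/-- The table as a function. -/
def T (a b c d : ZMod 5) : ℕ :=
  (tbl >>> (4 * (a.val + 5 * b.val + 25 * c.val + 125 * d.val))) % 16

/-- The index of a generator. -/
def gidx : Option (Bool × ZMod 5) → ℕ
  | none => 0
  | some (false, t) => 1 + t.val
  | some (true, t) => 6 + t.val

/-- The action of generators on cosets. -/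
def Pi (i : Option (Bool × ZMod 5)) (x : ℕ) : ℕ :=
  (pit >>> (4 * (gidx i * 16 + x))) % 16

theorem check01 : ∀ t a b c d : ZMod 5,
    T (a + t * c) (b + t * d) c d = Pi (some (false, t)) (T a b c d) := by decide +kernel

theorem check10 : ∀ t a b c d : ZMod 5,
    T a b (c + t * a) (d + t * b) = Pi (some (true, t)) (T a b c d) := by decide +kernel

theorem checkneg : ∀ a b c d : ZMod 5, T (-a) (-b) (-c) (-d) = Pi none (T a b c d) := by
  decide +kernel

theorem checkPi : ∀ (i : Option (Bool × ZMod 5)) (x : Fin 5), Pi i x < 5 := by decide +kernel

theorem checkConn : ∀ x : Fin 5, x.val ≠ 0 →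
    ∃ (i : Option (Bool × ZMod 5)) (y : Fin 5), y.val < x.val ∧ Pi i y = x := by decide +kernel

theorem checkNone : ∀ x : Fin 5, Pi none x = x := by decide +kernel

theorem checkOne : T 1 0 0 1 = 0 := by decide +kernel

theorem checkMove : Pi (some (false, 1)) 0 ≠ 0 := by decide +kernel

/-- PSL_2(5) is isomorphic to A_5. -/
theorem result {F : Type*} [Field F] [Fintype F] (hF : Fintype.card F = 5) : Nonempty (Matrix.ProjectiveSpecialLinearGroup (Fin 2) F ≃* alternatingGroup (Fin 5)) := by
  have hp : Nat.Prime 5 := by norm_num
  have e := pslEquiv (n := Fin 2) (ZMod.ringEquivOfPrime F hp hF)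
  obtain ⟨e'⟩ : Nonempty (Matrix.ProjectiveSpecialLinearGroup (Fin 2) (ZMod 5) ≃* alternatingGroup (Fin 5)) := by
    have hq : Fintype.card (ZMod 5) = 5 := ZMod.card 5
    refine nonempty_PSL2_equiv_alternating_of_table 5 (by norm_num) T Pi check01 check10 checkneg
      (fun i x hx => checkPi i ⟨x, hx⟩) checkOne id ?_ (fun x hx => checkNone ⟨x, hx⟩)
      ⟨some (false, 1), 0, by norm_num, checkMove⟩ (by rw [Nat.card_eq_fintype_card, hq]; norm_num) ?_
    · intro x hx hx0
      obtain ⟨i, y, hy, hi⟩ := checkConn ⟨x, hx⟩ hx0
      exact ⟨i, y, y.2, hy, hi⟩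
    · have := card_PSL2 (F := ZMod 5)
      rw [hq] at this
      norm_num [Nat.factorial] at this ⊢
      linarith
  exact ⟨e.symm.trans e'⟩

end Cfsg.Agent.S0253
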