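import Mathlib
import Cfsg.Statements.S4558
import Cfsg.Agent.Lib.CharGalois
import Cfsg.Agent.Lib.CharKernel
import Cfsg.Agent.Lib.CharIntegrality

set_option autoImplicit false
open Cfsg

namespace Cfsg.Agent.S4558

theorem sum_pow_prime_pow {A : Type*} [CommRing A] {p : ℕ} (hp : p.Prime) (j : ℕ) {ι : Type*}
    (s : Finset ι) (f : ι → A) :
    ∃ r : A, (∑ i ∈ s, f i) ^ p ^ j = ∑ i ∈ s, f i ^ p ^ j + p * r := by
  classical
  induction s using Finset.induction_on with
  | empty =>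
    refine ⟨0, ?_⟩
    simp only [Finset.sum_empty, mul_zero, add_zero]
    exact zero_pow (pow_ne_zero _ hp.ne_zero)
  | insert a s ha ih =>
    obtain ⟨r, hr⟩ := ih
    obtain ⟨r', hr'⟩ := exists_add_pow_prime_pow_eq hp (f a) (∑ i ∈ s, f i) j
    rw [Finset.sum_insert ha, Finset.sum_insert ha, hr', hr]
    exact ⟨f a * (∑ i ∈ s, f i) * r' + r, by ring⟩

/-- Let χ be a character of the finite group G and g an element of p-power order for the prime p. If χ g = 0, then p divides the degree of χ. -/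
theorem result {G : Type*} [Group G] [Finite G] (p : ℕ) [Fact p.Prime] (χ : G → ℂ) (hχ : Cfsg.IsCharacter G χ) (g : G) (hg : ∃ j : ℕ, orderOf g = p ^ j) (h0 : χ g = 0) : p ∣ Cfsg.charDegree χ := by
  have hp : p.Prime := Fact.out
  obtain ⟨j, hj⟩ := hg
  obtain ⟨m, μ, hμ, hk⟩ := Lib.CharGalois.exists_roots hχ g
  have hcard : 0 < Nat.card G := Nat.card_pos
  have hint : ∀ i, IsIntegral ℤ (μ i) := fun i =>
    ⟨Polynomial.X ^ Nat.card G - 1, Polynomial.monic_X_pow_sub_C 1 hcard.ne', by simp [hμ i]⟩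
  let ν : Fin m → integralClosure ℤ ℂ := fun i => ⟨μ i, hint i⟩
  obtain ⟨r, hr⟩ := sum_pow_prime_pow hp j Finset.univ ν
  have hr' := congrArg (Subtype.val) hr
  simp only [AddSubmonoidClass.coe_finset_sum, SubmonoidClass.coe_pow, Subalgebra.coe_add,
    Subalgebra.coe_mul, ν] at hr'
  have hpc : (((p : integralClosure ℤ ℂ)) : ℂ) = (p : ℂ) := by simp
  rw [hpc] at hr'
  have h1 : ∑ i, μ i = 0 := by
    have := hk 1
    simp only [pow_one] at this
    rw [← this, h0]
  have h2 : ∑ i, μ i ^ p ^ j = χ 1 := by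
    rw [← hk (p ^ j), ← hj, pow_orderOf_eq_one]
  rw [h1, zero_pow (pow_ne_zero _ hp.ne_zero), h2] at hr'
  rw [Lib.CharKernel.one_eq_charDegree hχ] at hr'
  have hpne : (p : ℂ) ≠ 0 := by exact_mod_cast hp.ne_zero
  have h3 : ((Cfsg.charDegree χ : ℕ) : ℂ) / (p : ℂ) = -(r : ℂ) := by
    field_simp
    linear_combination -hr'
  apply Lib.CharIntegrality.dvd_of_isIntegral_div hp.ne_zero
  rw [h3]
  exact (r.2).neg

end Cfsg.Agent.S4558
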