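import Cfsg.Statements.S4501
import Cfsg.Agent.Lib.S4501Two9

set_option autoImplicit false
open Cfsg

namespace Cfsg.Agent.S4501

open Cfsg.Agent.Lib.S4501Two9 Cfsg.Agent.Lib.S4501One9

/-- Let G be a non-abelian finite simple group and p, q distinct primes. If the order of G is 4·p^a·q^b with a ≤ 2, then G is isomorphic to the alternating group of degree 5. If the order of G is 3·p^a·q^b with a ≤ 2, then G is isomorphic to the alternating group of degree 5 or to PSL(2,7). -/
theorem result {G : Type*} [Group G] [Finite G] [IsSimpleGroup G] (hna : ∃ x y : G, x * y ≠ y * x) (p q a b : ℕ) (hp : p.Prime) (hq : q.Prime) (hpq : p ≠ q) (ha : a ≤ 2) : (Nat.card G = 4 * p ^ a * q ^ b → Nonempty (G ≃* alternatingGroup (Fin 5))) ∧ (Nat.card G = 3 * p ^ a * q ^ b → Nonempty (G ≃* alternatingGroup (Fin 5)) ∨ Nonempty (G ≃* Matrix.ProjectiveSpecialLinearGroup (Fin 2) (ZMod 7))) := by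
  refine ⟨part1 hna hp hq hpq, ?_⟩
  intro h
  have hns := not_solvable hna
  have : Fact (Nat.Prime 2) := ⟨Nat.prime_two⟩
  have : Fact (Nat.Prime 3) := ⟨Nat.prime_three⟩
  have hp3 : p ≠ 3 := by
    rintro rfl
    apply hns
    exact Cfsg.Agent.S0144.result 3 q (a + 1) b hp hq (by rw [h]; ring)
  have hq3 : q ≠ 3 := by
    rintro rfl
    apply hns
    exact Cfsg.Agent.S0144.result p 3 a (b + 1) hp hq (by rw [h]; ring)
  by_cases hq2 : q = 2
  · subst hq2
    exact main_case hna (s := p) (b := b) (e := a) hp hpq hp3 ha (by rw [h]; ring)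
  by_cases hp2 : p = 2
  · subst hp2
    have h3q : ¬ 2 ∣ 3 * q ^ b := by
      intro h5
      rcases Nat.prime_two.dvd_mul.1 h5 with h6 | h6
      · omega
      · exact hq2 ((Nat.prime_dvd_prime_iff_eq Nat.prime_two hq).1
          (Nat.prime_two.dvd_of_dvd_pow h6)).symm
    interval_cases a
    · exfalso
      apply hns
      exact Cfsg.Agent.S0144.result 3 q 1 b Nat.prime_three hq (by rw [h]; ring)
    · exfalso
      obtain ⟨T, hT⟩ := exists_sylow_card (G := G) (p := 2) (n := 1) (m := 3 * q ^ b)
        (by rw [h]; ring) h3q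
      rw [pow_one] at hT
      have hmin : (Nat.card G).minFac = 2 := by
        rw [Nat.minFac_eq_two_iff, h]
        exact ⟨3 * q ^ b, by ring⟩
      have hcyc : IsCyclic (T : Subgroup G) := isCyclic_of_prime_card (p := 2) hT
      have hle := IsCyclic.normalizer_le_centralizer hmin hcyc
      refine false_of_normalizer_le hna T hle ?_
      intro hbot
      rw [hbot, Subgroup.card_bot] at hT
      omega
    · left
      exact part1 hna (p := 3) (q := q) (a := 1) (b := b) Nat.prime_three hq (Ne.symm hq3)
        (by rw [h]; ring)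
  · exfalso
    have hp5 : 5 ≤ p := by
      have := hp.two_le
      by_contra hc
      have : p = 4 := by omega
      subst this
      revert hp
      norm_num
    have hq5 : 5 ≤ q := by
      have := hq.two_le
      by_contra hc
      have : q = 4 := by omega
      subst this
      revert hq
      norm_num
    have h3m : ¬ 3 ∣ p ^ a * q ^ b := by
      intro h5
      rcases Nat.prime_three.dvd_mul.1 h5 with h6 | h6
      · exact hp3 ((Nat.prime_dvd_prime_iff_eq Nat.prime_three hp).1
          (Nat.prime_three.dvd_of_dvd_pow h6)).symm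
      · exact hq3 ((Nat.prime_dvd_prime_iff_eq Nat.prime_three hq).1
          (Nat.prime_three.dvd_of_dvd_pow h6)).symm
    obtain ⟨X, hX⟩ := exists_sylow_card (G := G) (p := 3) (n := 1) (m := p ^ a * q ^ b)
      (by rw [h]; ring) h3m
    rw [pow_one] at hX
    have h3G : 3 ∣ Nat.card G := by
      rw [h]
      exact ⟨p ^ a * q ^ b, by ring⟩
    have hmin : (Nat.card G).minFac = 3 := by
      have hG1 : Nat.card G ≠ 1 := by
        intro h1
        rw [h1] at h3G
        omega
      have hprime := Nat.minFac_prime hG1
      have hle := Nat.minFac_le_of_dvd (by norm_num : 2 ≤ 3) h3G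
      have hdv := Nat.minFac_dvd (Nat.card G)
      rw [h] at hdv
      rw [h] at hprime hle ⊢
      set l := (3 * p ^ a * q ^ b).minFac with hl
      rcases hprime.dvd_mul.1 hdv with h5 | h5
      · rcases hprime.dvd_mul.1 h5 with h6 | h6
        · exact (Nat.prime_dvd_prime_iff_eq hprime Nat.prime_three).1 h6
        · have := (Nat.prime_dvd_prime_iff_eq hprime hp).1 (hprime.dvd_of_dvd_pow h6)
          omega
      · have := (Nat.prime_dvd_prime_iff_eq hprime hq).1 (hprime.dvd_of_dvd_pow h5)
        omega
    have hcyc : IsCyclic (X : Subgroup G) := isCyclic_of_prime_card (p := 3) hX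
    have hle := IsCyclic.normalizer_le_centralizer hmin hcyc
    refine false_of_normalizer_le hna X hle ?_
    intro hbot
    rw [hbot, Subgroup.card_bot] at hX
    omega

end Cfsg.Agent.S4501
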