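import Cfsg.Statements.S3331
import Cfsg.Agent.S4501
import Cfsg.Agent.Lib.FT3Ext

set_option autoImplicit false
set_option linter.style.haveILetI false
set_option linter.unusedSectionVars false
set_option linter.unusedVariables false
open Cfsg

namespace Cfsg.Agent.S3331

open Subgroup Cfsg.Agent.Lib.SelfCent Cfsg.Agent.Lib.PCore Cfsg.Agent.Lib.SelfCent2.Hyp'
open Cfsg.Agent.Lib.FT3Basic Cfsg.Agent.Lib.FT3Char Cfsg.Agent.Lib.FT3Coset Cfsg.Agent.Lib.FT3Dich
open Cfsg.Agent.Lib.FT3Max Cfsg.Agent.Lib.FT3Ext

/-- A group of order six with a non-central involution is the symmetric group of degree three. -/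
theorem perm3_of_card6 {Q : Type*} [Group Q] [Finite Q] (hc : Nat.card Q = 6) {t b : Q} (ht : orderOf t = 2)
    (hb : t * b * t⁻¹ ≠ b) : Nonempty (Q ≃* Equiv.Perm (Fin 3)) := by
  classical
  set H := zpowers t with hH
  have hHc : Nat.card H = 2 := by
    rw [hH, Nat.card_zpowers, ht]
  have hIdx : Nat.card (Q ⧸ H) = 3 := by
    have h1 := Subgroup.card_eq_card_quotient_mul_card_subgroup H
    rw [hc, hHc] at h1
    omega
  let e : (Q ⧸ H) ≃ Fin 3 := Finite.equivFinOfCardEq hIdx
  let φ : Q →* Equiv.Perm (Fin 3) := (Equiv.permCongrHom e).toMonoidHom.comp (MulAction.toPermHom Q (Q ⧸ H))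
  have hinj : Function.Injective φ := by
    rw [injective_iff_map_eq_one]
    intro g hg
    have h1 : MulAction.toPermHom Q (Q ⧸ H) g = 1 := by
      have h2 : (Equiv.permCongrHom e) (MulAction.toPermHom Q (Q ⧸ H) g) = 1 := hg
      exact (map_eq_one_iff _ (Equiv.permCongrHom e).injective).1 h2
    have hact : ∀ x : Q, x⁻¹ * g * x ∈ H := by
      intro x
      have h2 : g • ((x : Q ⧸ H)) = x := by
        have := congrArg (fun p : Equiv.Perm (Q ⧸ H) => p (x : Q ⧸ H)) h1
        simpa using this
      have h3 : ((g * x : Q) : Q ⧸ H) = x := by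
        rw [← h2]
        rfl
      have h4 := QuotientGroup.eq.mp h3
      have h5 : (g * x)⁻¹ * x = x⁻¹ * g⁻¹ * x := by group
      rw [h5] at h4
      have h6 := H.inv_mem h4
      have h7 : (x⁻¹ * g⁻¹ * x)⁻¹ = x⁻¹ * g * x := by group
      rwa [h7] at h6
    have hmem : ∀ y ∈ H, y = 1 ∨ y = t := by
      intro y hy
      obtain ⟨k, rfl⟩ := mem_zpowers_iff.mp hy
      have hsq : t * t = 1 := by
        have := pow_orderOf_eq_one t
        rwa [ht, pow_two] at this
      rw [← zpow_mod_orderOf, ht]
      have hk : k % ((2 : ℕ) : ℤ) = 0 ∨ k % ((2 : ℕ) : ℤ) = 1 := by omega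
      rcases hk with hk | hk
      · left
        rw [hk, zpow_zero]
      · right
        rw [hk, zpow_one]
    have hg1 := hact 1
    simp only [inv_one, one_mul, mul_one] at hg1
    rcases hmem g hg1 with h2 | h2
    · exact h2
    · exfalso
      subst h2
      have hg2 := hact b⁻¹
      rcases hmem _ hg2 with h3 | h3
      · apply hb
        simp only [inv_inv] at h3
        have h4 : g = 1 := by
          have : b * g * b⁻¹ = 1 := h3
          have h5 : b⁻¹ * (b * g * b⁻¹) * b = g := by group
          rw [← h5, this]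
          group
        rw [h4]
        group
      · apply hb
        simp only [inv_inv] at h3
        have h4 : b * g = g * b := by
          calc b * g = (b * g * b⁻¹) * b := by group
            _ = g * b := by rw [h3]
        calc g * b * g⁻¹ = b * g * g⁻¹ := by rw [h4]
          _ = b := by group
  have hcard : Nat.card Q = Nat.card (Equiv.Perm (Fin 3)) := by
    rw [hc, Nat.card_eq_fintype_card, Fintype.card_perm, Fintype.card_fin]
    rfl
  have hbij : Function.Bijective φ := (Nat.bijective_iff_injective_and_card φ).2 ⟨hinj, hcard⟩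
  exact ⟨MulEquiv.ofBijective φ hbij⟩

/-- Let G be a finite group containing a subgroup X of order 3 with C_G(X) = X. Then one of the following holds: G has a nilpotent normal subgroup N of order prime to 3 with G/N of order 3 or isomorphic to Sym(3); or G has an elementary abelian normal 2-subgroup N with G/N isomorphic to the alternating group of degree 5; or G is isomorphic to PSL(2,7). -/
theorem result {G : Type*} [Group G] [Finite G]
    (X : Subgroup G) (hX : Nat.card X = 3) (hC : Subgroup.centralizer (X : Set G) = X) :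
    (∃ (N : Subgroup G) (hN : N.Normal), Group.IsNilpotent N ∧ (Nat.card N).Coprime 3 ∧
        (Nat.card (G ⧸ N) = 3 ∨ Nonempty (G ⧸ N ≃* Equiv.Perm (Fin 3)))) ∨
    (∃ (N : Subgroup G) (hN : N.Normal), IsMulCommutative N ∧ (∀ n ∈ N, n ^ 2 = 1) ∧
        Nonempty (G ⧸ N ≃* alternatingGroup (Fin 5))) ∨
    Nonempty (G ≃* Matrix.ProjectiveSpecialLinearGroup (Fin 2) (ZMod 7)) := by
  classical
  obtain ⟨a, rfl, ha⟩ := Hyp.exists_generator_of_card Nat.prime_three hX
  have hC2 : centralizer ({a} : Set G) = zpowers a := by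
    rw [← hC]
    ext x
    rw [mem_centralizer_singleton_iff, mem_centralizer_iff]
    constructor
    · intro hx y hy
      obtain ⟨k, rfl⟩ := mem_zpowers_iff.mp hy
      have h1 : Commute x a := hx
      exact (h1.zpow_right k).symm.eq
    · intro hx
      exact (hx a (mem_zpowers a)).symm
  have h : Hyp 3 a := ⟨Nat.prime_three, ha, hC2⟩
  set O := pPrimeCore 3 G with hO
  have hnO : O.Normal := O_normal
  have hAO : AInv a O := AInv_O
  have hnd : ¬ 3 ∣ Nat.card O := O_nd
  have hcop : (Nat.card O).Coprime 3 := ((Nat.Prime.coprime_iff_not_dvd Nat.prime_three).mpr hnd).symm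
  have hnil := hAO.isNilpotent h
  have hGc : Nat.card G = Nat.card (G ⧸ O) * Nat.card O := Subgroup.card_eq_card_quotient_mul_card_subgroup O
  have hOpos : 0 < Nat.card O := Nat.card_pos
  rcases dichotomy h with h1 | ⟨t, St, h1⟩ | ⟨⟨t, St⟩, hs, hna⟩
  · left
    refine ⟨O, hnO, hnil, hcop, Or.inl ?_⟩
    have htop : M h hAO = ⊤ := by
      rw [eq_top_iff]
      intro x _
      exact h1 x
    have h2 := card_M h hAO
    rw [htop, Subgroup.card_top] at h2
    rw [h2] at hGc
    have h3 : 3 * Nat.card O = Nat.card (G ⧸ O) * Nat.card O := hGc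
    exact (Nat.eq_of_mul_eq_mul_right hOpos h3).symm
  · left
    refine ⟨O, hnO, hnil, hcop, Or.inr ?_⟩
    -- the index of `M` is two
    have hTq := setup_quot St
    have hidx : (M h hAO).index = 2 := by
      rw [Subgroup.index_eq_two_iff]
      refine ⟨t, fun x => ?_⟩
      by_cases hx : x ∈ M h hAO
      · refine Or.inr ⟨hx, ?_⟩
        intro h2
        apply t_not_mem_M hAO St
        have h3 : x⁻¹ * (x * t) = t := by group
        have h4 := (M h hAO).mul_mem ((M h hAO).inv_mem hx) h2
        rw [h3] at h4
        exact h4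
      · rcases h1 x with h2 | h2
        · exact absurd h2 hx
        · exact Or.inl ⟨h2, hx⟩
    have hGM := Subgroup.card_mul_index (M h hAO)
    rw [card_M, hidx] at hGM
    have hc6 : Nat.card (G ⧸ O) = 6 := by
      have h3 : 6 * Nat.card O = Nat.card (G ⧸ O) * Nat.card O := by
        rw [← hGc, ← hGM]
        ring
      exact (Nat.eq_of_mul_eq_mul_right hOpos h3).symm
    refine perm3_of_card6 hc6 (t := (t : G ⧸ O)) (b := (a : G ⧸ O)) hTq.ht ?_
    rw [hTq.hta]
    exact a_inv_ne hTq.h
  · have hC' := conc_all (Nat.card G) G a rfl h hs hna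
    rcases hC' with ⟨h60, h2, hexp, habel⟩ | ⟨hbot, h168⟩
    · right
      left
      refine ⟨O, hnO, ⟨⟨fun x y => Subtype.ext (habel _ x.2 _ y.2)⟩⟩, ?_, ?_⟩
      · intro n hn
        rw [pow_two]
        exact hexp n hn
      · have hc60 : Nat.card (G ⧸ O) = 60 := by
          rw [hGc] at h60
          exact Nat.eq_of_mul_eq_mul_right hOpos (by rw [h60])
        exact (Cfsg.Agent.S4501.result hna 3 5 1 1 Nat.prime_three (by norm_num) (by norm_num) (by norm_num)).1
          (by rw [hc60]; norm_num)
    · right
      right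
      have hinj : Function.Injective (QuotientGroup.mk' O) := by
        rw [injective_iff_map_eq_one]
        intro x hx
        have h2 : x ∈ O := (QuotientGroup.eq_one_iff x).mp hx
        have h3 : O = ⊥ := hbot
        rw [h3, Subgroup.mem_bot] at h2
        exact h2
      let e : G ≃* (G ⧸ O) := MulEquiv.ofBijective (QuotientGroup.mk' O) ⟨hinj, QuotientGroup.mk'_surjective O⟩
      haveI hsG : IsSimpleGroup G := e.isSimpleGroup
      have hnaG : ∃ x y : G, x * y ≠ y * x := by
        obtain ⟨x, y, hxy⟩ := hna
        refine ⟨e.symm x, e.symm y, fun h3 => hxy ?_⟩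
        have h4 := congrArg e h3
        simpa using h4
      have h3 := (Cfsg.Agent.S4501.result hnaG 7 2 1 3 (by norm_num) Nat.prime_two (by norm_num) (by norm_num)).2
        (by rw [h168]; norm_num)
      rcases h3 with ⟨⟨e2⟩⟩ | h3
      · exfalso
        have h5 := Nat.card_congr e2.toEquiv
        rw [h168, nat_card_alternatingGroup, Nat.card_eq_fintype_card, Fintype.card_fin] at h5
        norm_num [Nat.factorial] at h5
      · exact h3

end Cfsg.Agent.S3331
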