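import Mathlib
import Cfsg.Statements.S3261
import Cfsg.Agent.Lib.D8A6Main
import Cfsg.Agent.Lib.D8Index
import Cfsg.Agent.S0495

set_option autoImplicit false
set_option linter.all false
set_option maxRecDepth 100000

open Cfsg

namespace Cfsg.Agent.S3261

open Equiv Subgroup
open Cfsg.Agent.Lib.D8CentGroup Cfsg.Agent.Lib.D8Fus Cfsg.Agent.Lib.D8Simple

/-- The involution of the model. -/
def tau0 : Perm (Fin 6) := ⟨![1, 0, 3, 2, 4, 5], ![1, 0, 3, 2, 4, 5], by decide, by decide⟩
/-- The element of order four of the model. -/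
def rho0 : Perm (Fin 6) := ⟨![2, 3, 1, 0, 5, 4], ![3, 2, 0, 1, 5, 4], by decide, by decide⟩
/-- A reflection of the model. -/
def s0 : Perm (Fin 6) := ⟨![1, 0, 2, 3, 5, 4], ![1, 0, 2, 3, 5, 4], by decide, by decide⟩

open DihedralGroup in
/-- The model of the centralizer. -/
def f0 : DihedralGroup 4 → Perm (Fin 6)
  | r i => rho0 ^ i.val
  | sr i => s0 * rho0 ^ i.val

theorem f0_mul : ∀ x y, f0 (x * y) = f0 x * f0 y := by decide +kernel

theorem f0_one : f0 1 = 1 := by decide +kernel

theorem f0_inj : Function.Injective f0 := by decide +kernel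

theorem f0_comm : ∀ w, f0 w * tau0 = tau0 * f0 w := by decide +kernel

theorem f0_sign : ∀ w, Perm.sign (f0 w) = 1 := by decide +kernel

theorem f0_surj : ∀ x : Perm (Fin 6), x * tau0 = tau0 * x → Perm.sign x = 1 → ∃ w, f0 w = x := by
  decide +kernel

/-- All double transpositions are conjugate to `tau0`. -/
theorem exists_conj_tau0 {x : Perm (Fin 6)} (h2 : orderOf x = 2) (h4 : x.support.card = 4) :
    ∃ σ : Perm (Fin 6), σ * x * σ⁻¹ = tau0 := by
  have hc : x.cycleType = tau0.cycleType := by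
    obtain ⟨n, hn⟩ := Perm.cycleType_prime_order (σ := x) (by rw [h2]; exact Nat.prime_two)
    have hsum := Perm.sum_cycleType x
    rw [hn, h2, Multiset.sum_replicate, h4] at hsum
    have hn1 : n = 1 := by simp at hsum; omega
    subst hn1
    rw [hn, h2]
    decide +kernel
  have hconj : IsConj x tau0 := Perm.isConj_iff_cycleType_eq.mpr hc
  obtain ⟨c, hc⟩ := isConj_iff.mp hconj
  exact ⟨c, hc⟩

/-- The centralizer in the alternating group. -/
theorem nonempty_cent (αt : ↥(alternatingGroup (Fin 6))) (hαt : orderOf αt = 2)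
    (hsupp : (αt : Equiv.Perm (Fin 6)).support.card = 4) :
    Nonempty (↥(Subgroup.centralizer ({αt} : Set ↥(alternatingGroup (Fin 6)))) ≃* DihedralGroup 4) := by
  have h2 : orderOf (αt : Perm (Fin 6)) = 2 := by
    rw [← hαt]
    exact Subgroup.orderOf_coe αt
  obtain ⟨σ, hσ⟩ := exists_conj_tau0 h2 hsupp
  have hA : ∀ w, σ⁻¹ * f0 w * σ ∈ alternatingGroup (Fin 6) := by
    intro w
    rw [Perm.mem_alternatingGroup]
    simp [f0_sign, mul_comm]
  have hC : ∀ w, (⟨σ⁻¹ * f0 w * σ, hA w⟩ : alternatingGroup (Fin 6)) ∈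
      Subgroup.centralizer ({αt} : Set ↥(alternatingGroup (Fin 6))) := by
    intro w
    rw [mem_centralizer_singleton_iff]
    apply Subtype.ext
    show σ⁻¹ * f0 w * σ * (αt : Perm (Fin 6)) = (αt : Perm (Fin 6)) * (σ⁻¹ * f0 w * σ)
    have hx : (αt : Perm (Fin 6)) = σ⁻¹ * tau0 * σ := by
      rw [← hσ]; group
    rw [hx]
    have h3 := f0_comm w
    calc σ⁻¹ * f0 w * σ * (σ⁻¹ * tau0 * σ) = σ⁻¹ * (f0 w * tau0) * σ := by group
      _ = σ⁻¹ * (tau0 * f0 w) * σ := by rw [h3]
      _ = _ := by group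
  let F : DihedralGroup 4 →* ↥(Subgroup.centralizer ({αt} : Set ↥(alternatingGroup (Fin 6)))) :=
    { toFun := fun w => ⟨⟨σ⁻¹ * f0 w * σ, hA w⟩, hC w⟩
      map_one' := by
        apply Subtype.ext
        apply Subtype.ext
        show σ⁻¹ * f0 1 * σ = 1
        rw [f0_one]
        group
      map_mul' := by
        intro x y
        apply Subtype.ext
        apply Subtype.ext
        show σ⁻¹ * f0 (x * y) * σ = (σ⁻¹ * f0 x * σ) * (σ⁻¹ * f0 y * σ)
        rw [f0_mul]
        group }
  have hb : Function.Bijective F := by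
    constructor
    · intro x y hxy
      have h1 : σ⁻¹ * f0 x * σ = σ⁻¹ * f0 y * σ := congrArg (fun u => ((u : alternatingGroup (Fin 6)) : Perm (Fin 6))) (congrArg Subtype.val hxy)
      apply f0_inj
      simpa using h1
    · rintro ⟨⟨x, hx⟩, hxc⟩
      have h1 : x * (αt : Perm (Fin 6)) = (αt : Perm (Fin 6)) * x := by
        have := mem_centralizer_singleton_iff.1 hxc
        exact congrArg Subtype.val this
      have h3 : (σ * x * σ⁻¹) * tau0 = tau0 * (σ * x * σ⁻¹) := by
        rw [← hσ]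
        calc σ * x * σ⁻¹ * (σ * ↑αt * σ⁻¹) = σ * (x * ↑αt) * σ⁻¹ := by group
          _ = σ * (↑αt * x) * σ⁻¹ := by rw [h1]
          _ = _ := by group
      have h4 : Perm.sign (σ * x * σ⁻¹) = 1 := by
        have hx' : Perm.sign x = 1 := Perm.mem_alternatingGroup.mp hx
        simp [hx', mul_comm]
      obtain ⟨w, hw⟩ := f0_surj _ h3 h4
      refine ⟨w, ?_⟩
      apply Subtype.ext
      apply Subtype.ext
      show σ⁻¹ * f0 w * σ = x
      rw [hw]
      group
  exact ⟨(MulEquiv.ofBijective F hb).symm⟩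

/-- Let α̃ be an involution of the alternating group A₆ that is a product of two disjoint transpositions (it lies in the centre of a Sylow 2-subgroup of A₆; its centralizer is dihedral of order 8). Let G be a finite group that has no subgroup of index 2 and contains an involution α, central in some Sylow 2-subgroup of G, with C_G(α) ≅ C_{A₆}(α̃). Then G is isomorphic to A₆ or to PSL₂(7). -/
theorem result {G : Type*} [Group G] [Finite G]
    (hG : ∀ H : Subgroup G, H.index ≠ 2)
    (αt : ↥(alternatingGroup (Fin 6))) (hαt : orderOf αt = 2) (hsupp : (αt : Equiv.Perm (Fin 6)).support.card = 4)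
    (α : G) (hα : orderOf α = 2) (S : Sylow 2 G) (hαS : α ∈ (S : Subgroup G)) (hαc : ∀ s ∈ (S : Subgroup G), s * α = α * s)
    (e : ↥(Subgroup.centralizer ({α} : Set G)) ≃* ↥(Subgroup.centralizer ({αt} : Set ↥(alternatingGroup (Fin 6))))) :
    Nonempty (G ≃* ↥(alternatingGroup (Fin 6))) ∨
      (∃ (F : Type) (_ : Field F) (_ : Fintype F), Fintype.card F = 7 ∧ Nonempty (G ≃* Matrix.ProjectiveSpecialLinearGroup (Fin 2) F)) := by
  obtain ⟨e0⟩ := nonempty_cent αt hαt hsupp
  let e1 := e.trans e0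
  have hfa : ∃ g, g * α * g⁻¹ = aa e1 := by
    by_contra hno
    obtain ⟨H, hH, -⟩ := Cfsg.Agent.Lib.D8Index.index_two_of_not_fused e1 hα hno
    exact hG H hH
  have hfb : ∃ g, g * α * g⁻¹ = bb e1 := by
    by_contra hno
    obtain ⟨H, hH, -⟩ := Cfsg.Agent.Lib.D8Index.index_two_of_not_fused (eS e1) hα hno
    exact hG H hH
  rcases card_eq e1 hα hfa hfb with h | h
  · right
    have hs := isSimple e1 hα hfa hfb
    have : Fact (Nat.Prime 7) := ⟨by norm_num⟩
    refine ⟨ZMod 7, inferInstance, inferInstance, ZMod.card 7, ?_⟩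
    exact Cfsg.Agent.S0495.result h (ZMod.card 7)
  · left
    exact Cfsg.Agent.Lib.D8A6Main.iso_A6 e1 hα hfa hfb h

end Cfsg.Agent.S3261
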