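import Mathlib
import Cfsg.Statements.S0225
import Cfsg.Agent.Lib.ZStar
import Cfsg.Agent.Lib.KleinTools

set_option autoImplicit false
open Cfsg

namespace Cfsg.Agent.S0225

/-- If a finite group G has even order but contains no Klein four-subgroup (2-rank 1), then some involution z of G is central modulo a normal subgroup of odd order: there is a normal subgroup N of odd order containing every commutator z g z⁻¹ g⁻¹. -/
theorem result {G : Type*} [Group G] [Finite G] (heven : Even (Nat.card G)) (hrank : ∀ E : Subgroup G, ¬ IsKleinFour E) : ∃ z : G, orderOf z = 2 ∧ ∃ N : Subgroup G, N.Normal ∧ Odd (Nat.card N) ∧ ∀ g : G, z * g * z⁻¹ * g⁻¹ ∈ N := by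
  classical
  obtain ⟨z, hz⟩ : ∃ z : G, orderOf z = 2 := by
    have : Fact (Nat.Prime 2) := ⟨Nat.prime_two⟩
    exact exists_prime_orderOf_dvd_card' 2 (even_iff_two_dvd.1 heven)
  have hzz : z ^ 2 = 1 := by rw [← hz]; exact pow_orderOf_eq_one z
  have hz1 : z ≠ 1 := by
    rintro rfl
    simp at hz
  have hI : Cfsg.IsIsolatedInvolution z := by
    refine ⟨hz, ?_⟩
    intro g hc
    by_contra hne
    set w := g * z * g⁻¹ with hw
    have hww : w ^ 2 = 1 := by
      rw [hw, pow_two]
      have : g * z * g⁻¹ * (g * z * g⁻¹) = g * (z * z) * g⁻¹ := by group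
      rw [this, ← pow_two, hzz]
      group
    have hw1 : w ≠ 1 := by
      intro h
      apply hz1
      have : z = g⁻¹ * w * g := by rw [hw]; group
      rw [this, h]
      group
    exact hrank _ (Cfsg.Agent.Lib.KleinTools.isKleinFour_kleinOf hzz hww hc hz1 hw1 (Ne.symm hne))
  refine ⟨z, hz, Cfsg.pPrimeCore 2 G, inferInstance, ?_, ?_⟩
  · have h := Cfsg.Agent.Lib.PCore.card_pPrimeCore_coprime (p := 2) (G := G)
    exact Nat.odd_iff.2 (by
      have := Nat.Coprime.symm h
      rcases Nat.mod_two_eq_zero_or_one (Nat.card (Cfsg.pPrimeCore 2 G)) with h0 | h1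
      · exfalso
        have h2 : 2 ∣ Nat.card (Cfsg.pPrimeCore 2 G) := Nat.dvd_of_mod_eq_zero h0
        have h3 : 2 ∣ 1 := by
          have := Nat.dvd_gcd h2 (dvd_refl 2)
          rwa [Nat.Coprime.gcd_eq_one h] at this
        omega
      · exact h1)
  · intro g
    have h1 := Cfsg.Agent.Lib.ZStar.zstar hI g
    have h2 : z * g * z⁻¹ * g⁻¹ = (g * z * g⁻¹ * z⁻¹)⁻¹ := by group
    rw [h2]
    exact inv_mem h1

end Cfsg.Agent.S0225
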