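import Cfsg.Statements.S0247
import Cfsg.Agent.Lib.TableAction
import Cfsg.Agent.Lib.SpOrder

set_option autoImplicit false
open Cfsg

namespace Cfsg.Agent.S0247

open Matrix Equiv Cfsg.Agent.Lib.TableAction

/-- The index set of the matrices. -/
abbrev I4 := Fin 2 ⊕ Fin 2

/-- First points of a basis of even subsets of six points, modulo the full set. -/
def bx : I4 → Fin 6
  | .inl 0 => 0
  | .inl 1 => 3
  | .inr 0 => 1
  | .inr 1 => 4

/-- Second points of a basis of even subsets of six points, modulo the full set. -/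
def by' : I4 → Fin 6
  | .inl 0 => 1
  | .inl 1 => 4
  | .inr 0 => 2
  | .inr 1 => 5

/-- The dual basis vector. -/
def st : I4 → I4
  | .inl k => .inr k
  | .inr k => .inl k

/-- The action of a permutation on even subsets modulo the full set, in the basis. -/
def M0 (σ : Perm (Fin 6)) : Matrix I4 I4 (ZMod 2) := fun i j =>
  (if σ (bx j) = bx (st i) then 1 else 0) + (if σ (bx j) = by' (st i) then 1 else 0) +
  (if σ (by' j) = bx (st i) then 1 else 0) + (if σ (by' j) = by' (st i) then 1 else 0)

/-- Adjacent transpositions. -/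
def gens (i : Fin 5) : Perm (Fin 6) := swap i.castSucc i.succ

theorem M0_one : M0 1 = 1 := by decide +kernel

theorem M0_mul : ∀ (i : Fin 5) (σ : Perm (Fin 6)), M0 (gens i * σ) = M0 (gens i) * M0 σ := by
  decide +kernel

theorem M0_sp : ∀ i : Fin 5, M0 (gens i) * J (Fin 2) (ZMod 2) * (M0 (gens i))ᵀ = J (Fin 2) (ZMod 2) := by
  decide +kernel

theorem M0_inj : ∀ σ : Perm (Fin 6), M0 σ = 1 → σ = 1 := by decide +kernel

theorem closure_gens : Subgroup.closure (Set.range gens) = ⊤ := by
  rw [eq_top_iff]
  intro σ _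
  have h : σ ∈ Submonoid.closure (Set.range gens) := by
    have := Equiv.Perm.mclosure_swap_castSucc_succ 5
    change Submonoid.closure (Set.range gens) = ⊤ at this
    rw [this]
    trivial
  exact (Submonoid.closure_le (S := (Subgroup.closure (Set.range gens)).toSubmonoid)).2
    Subgroup.subset_closure h

theorem exists_hom : ∃ Φ : Perm (Fin 6) →* Matrix I4 I4 (ZMod 2), ∀ σ, Φ σ = M0 σ :=
  exists_monoidHom_of_table gens closure_gens M0 M0_one M0_mul

theorem M0_mem (σ : Perm (Fin 6)) : M0 σ ∈ symplecticGroup (Fin 2) (ZMod 2) := by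
  obtain ⟨Φ, hΦ⟩ := exists_hom
  have hS : (symplecticGroup (Fin 2) (ZMod 2)).comap Φ = ⊤ :=
    submonoid_eq_top_of_closure gens closure_gens _ (fun i => by
      rw [Submonoid.mem_comap, hΦ, SymplecticGroup.mem_iff]
      exact M0_sp i)
  have : σ ∈ (symplecticGroup (Fin 2) (ZMod 2)).comap Φ := by rw [hS]; trivial
  rw [Submonoid.mem_comap, hΦ] at this
  exact this

/-- Sp_4(2) is isomorphic to the symmetric group S_6. -/
theorem result {F : Type*} [Field F] [Fintype F] (hF : Fintype.card F = 2) : Nonempty (Matrix.symplecticGroup (Fin 2) F ≃* Equiv.Perm (Fin 6)) := by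
  have hp : Nat.Prime 2 := Nat.prime_two
  let e := ZMod.ringEquivOfPrime F hp hF
  obtain ⟨Φ, hΦ⟩ := exists_hom
  let Ψ : Perm (Fin 6) →* symplecticGroup (Fin 2) F :=
    { toFun := fun σ => ⟨(M0 σ).map e, SymplecticGroup.map_mem (M0_mem σ) e⟩
      map_one' := by
        apply Subtype.ext
        change (M0 1).map e = 1
        rw [M0_one]
        exact Matrix.map_one _ (map_zero e) (map_one e)
      map_mul' := by
        intro σ τ
        apply Subtype.ext
        change (M0 (σ * τ)).map e = (M0 σ).map e * (M0 τ).map e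
        rw [← hΦ, map_mul, hΦ, hΦ]
        exact Matrix.map_mul }
  have hinj : Function.Injective Ψ := by
    rw [injective_iff_map_eq_one]
    intro σ hσ
    apply M0_inj
    have h1 : (M0 σ).map e = 1 := congrArg Subtype.val hσ
    ext i j
    have h2 := congrFun (congrFun h1 i) j
    apply e.injective
    rw [Matrix.map_apply] at h2
    rw [h2]
    by_cases hij : i = j
    · subst hij
      simp
    · simp [Matrix.one_apply, hij]
  have hcard : Nat.card (symplecticGroup (Fin 2) F) = Nat.card (Perm (Fin 6)) := by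
    have h := Cfsg.Agent.Lib.SpOrder.card_Sp (F := F) 2
    rw [hF] at h
    rw [h, Nat.card_eq_fintype_card (α := Perm (Fin 6)), Fintype.card_perm, Fintype.card_fin]
    decide
  have hbij : Function.Bijective Ψ := by
    rw [Nat.bijective_iff_injective_and_card]
    exact ⟨hinj, hcard.symm⟩
  exact ⟨(MulEquiv.ofBijective Ψ hbij).symm⟩

end Cfsg.Agent.S0247
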