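import Cfsg.Statements.S0255
import Cfsg.Agent.Lib.SL2Table
import Cfsg.Agent.Lib.SLTransfer

set_option autoImplicit false
open Cfsg

namespace Cfsg.Agent.S0255

open Matrix Cfsg.Agent.Lib.SL2Table Cfsg.Agent.Lib.TableAction Cfsg.Agent.Lib.SLTransfer
  Cfsg.Agent.Lib.ClassicalSmall Cfsg.Agent.Lib.ClassicalCore Cfsg.Agent.Lib.ClassicalSL

/-- Seven is prime. -/
instance fact7 : Fact (Nat.Prime 7) := ⟨by norm_num⟩

/-- The values of a morphism `SL_2(7) → SL_3(2)`, nine bits per entry. -/
def tbl : ℕ := 0x5e00000000000000008e8000000000000000bb8000000000000000e580000000000000006b0000000000000000d09a8000000000000000002e20000000000000000007b000000000000000000730032e000000000000000001ec000000000000000000850013a00000000000000000000710000000000000000000016e0000730000000000000000000012e0000332000000000000000000002a800017b000000000000000000000039a0000002cc000000000000000000000064400000017000000000000000000000009d00000005580000007b8000000000000000000000000c98000000003300000000025400000000000000000000000017200000000075000000000af8000000007980000000000000000000000000025e00000000000e8800000000000ba00000000000b900000000000146000000000007f000000000003180000000000000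1780000000000000d500000000000000bb00000000000001ca000000000000053c0000000000000fa0000000000000111000000000000037600000000000000000000004d40000003840000000000000000000000ad000000037800000000000000000000008e0000001d40000000000000001510000000000000000ec00000000000000005f870000000000000000f10000000000000000de8000000000000000598000000004dc00000000000000000000000018c00000000394000000000fd0000000004f0000000000000000000000000aa0000000006a4000000000000000001d400ec8000000000000000002f8000000000000000000a80000000000000000018d004cc000000000000000002ce00000000000330000000000011e00000000000ca8000000000000000000000000007cc000000000017c000000000003a4000000000011a000000000000000000007740000dd000000000000000000002e800002a4000000000000000000011300000ce0000000000000000000067000000000000008c00000000000002ac00000000000004ac0000000000000d380000000000000f100000000000003b400000000000001f400000000001bc000000000528000000000000000000000000f58000000004640000000029c0000000000000000000000001e40000000005700001de000000000000000000009c8000000000000000000029400007580000000000000000000073000013800000000000000000000d28000000000000000468000000000000000f71d000000000000000058c0000000000000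0066800000000000000045c0000000000000003e400000000001310000000000052c000000000019f000000000001e8000000000000000000000000001a800000000000f28000000000015c0000003bc00000000000000000000001c80000003540000000000000000000000d60000000538000000bc800000000000000000000010b000000000000000000a980338000000000000000000a1000000000000000000678027a0000000000000000006e000000000000000000f9000000000000006200000000000001ae00000000000004f800000000000005a80000000000001e900000000000003160000000000000570000000000006e0000000000000000009e8019e000000000000000000a1000000000000000000ce00000000000000000054c01f200000000000000000000002f200000014e00000000000000000000006b00000003540000001c80000000000000000000000ef000000085800000000003ca000000000000000000000000000d4000000000001e8000000000019f0000000000052c0000000000131000000000002b800000000000000045c00000000000000066800000000000000058c0000000000000001d00000000000000007b91a0000000000000001f2000000000000000000004e000007300000000000000000000758000000000000000000014a0000272000000000000000000007780001a50000000000000000000000000f2000000000a7000000000464000000003d600000000000000000000000014a000000001bc0000000002b800000000000018b00000000000003d2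00000000000002d400000000000009f00000000000000d700000000000000c400000000000005700000000000000000000000338000113000000000000000000002a40000ba0000000000000000000037400000000000000000000ee80000ce000000000003a4000000000017c000000000000000000000000000f98000000000032a0000000000047800000000000cc000000000008d0000000000000000004cc0000000000000000031a002a0000000000000000002f8000000000000000003b2007500000000000000000059c000000002a800000000000000000000000013c000000000fd000000000e50000000000000000000000000318000000004dc0000000035200000000000000037a0000000000000003c400000000000000021c0000000000000000beec0000000000000001510000000000000000b3000000000000000000000011c0000000de0000002b400000000000000000000003840000004d40000000000000000000000dd8000000ea00000000000001da00000000000001e2000000000000069c0000000000000958000000000000156000000000000011800000000000001f4000000000000000001fc0000000000051800000000002e4000000000002e800000000003a20000000000000000000000000012f00000000000630000000002be000000000750000000000000000000000000b900000000095000000000330000000003260000000000000000000000003cc00000015600000000000000000000004e80000001700000006440000000000000000000000b30000000e6800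00000000000000000000f700000aa00000000000000000000cc800012e0000000000000000000073000000000000000000000b700001c400000000000000000000bd80214000000000000000001ec000000000000000000cb800000000000000000398007b000000000000000000b8800000000000000000274000000000000000685ac0000000000000003960000000000000002ee00000000000000023a0000000000000001780000000000000000d400000000000007d00000000000000a780000000000000e5000000000000017600000000000006a800000000000002f00000000000001110000000000000000000000000000000000000000000000000000000000000000000000000000000008f6bfa6cdb12c4f800000000000000000000000000000000000000000000000f0df8d78a7a27e2a00000000000000000000000000000000000000000000000000000000000000000000000000000021efa2b7d559a3ac8000000000000000000000000000000000000000000000000000000000000000000000000000000000000000000000000000000000000000000000000000000000000000000000d1ab3ea567d43eb200000000000000000000000000000000000000000000000000000000000000000000000000000013ef4c51aefde18a800000000000000000000000000000000000000000000001636266f4f5f1e3e0000000000000000000000000000000000000000000000000000000000000000000000000000000000000000000000000000000000000000000000000000000000000000000000000000000000000000000000000000000000000000000000000000000000000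

/-- Numbers as matrices. -/
def dec (n : ℕ) : Matrix (Fin 3) (Fin 3) (ZMod 2) := fun i j =>
  if (n >>> (3 * i.val + j.val)) % 2 = 0 then 0 else 1

/-- The table as a function. -/
def T (a b c d : ZMod 7) : ℕ :=
  (tbl >>> (9 * (a.val + 7 * b.val + 49 * c.val + 343 * d.val))) % 512

/-- The table as a function with matrix values. -/
def TM (a b c d : ZMod 7) : Matrix (Fin 3) (Fin 3) (ZMod 2) := dec (T a b c d)

theorem check01 : ∀ a b c d : ZMod 7,
    TM (a + 1 * c) (b + 1 * d) c d = TM 1 1 0 1 * TM a b c d := by decide +kernel

theorem check10 : ∀ a b c d : ZMod 7,
    TM a b (c + 1 * a) (d + 1 * b) = TM 1 0 1 1 * TM a b c d := by decide +kernel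

theorem checkneg : ∀ a b c d : ZMod 7, TM (-a) (-b) (-c) (-d) = TM a b c d := by decide +kernel

theorem checkone : TM 1 0 0 1 = 1 := by decide +kernel

theorem checkmove : TM 1 1 0 1 ≠ 1 := by decide +kernel

/-- The function on the group. -/
def F7 (g : SpecialLinearGroup (Fin 2) (ZMod 7)) : Matrix (Fin 3) (Fin 3) (ZMod 2) :=
  TM (g.1 0 0) (g.1 0 1) (g.1 1 0) (g.1 1 1)

/-- The generators of `SL_2(7)`. -/
noncomputable def gens3 (i : Option Bool) : SpecialLinearGroup (Fin 2) (ZMod 7) :=
  gen2 (i.map fun b => (b, 1))

theorem T_pow {i j : Fin 2} (h : i ≠ j) (n : ℕ) :
    (SpecialLinearGroup.transvection h (1 : ZMod 7)) ^ n =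
      SpecialLinearGroup.transvection h (n : ZMod 7) := by
  induction n with
  | zero => simp [SpecialLinearGroup.transvection_coeff_zero]
  | succ n ih =>
    rw [pow_succ, ih]
    apply Subtype.ext
    change Matrix.transvection i j _ * Matrix.transvection i j _ = Matrix.transvection i j _
    rw [Matrix.transvection_mul_transvection_same]
    · push_cast
      rfl
    · exact h

theorem closure_gens3 : Subgroup.closure (Set.range gens3) = ⊤ := by
  rw [eq_top_iff, ← closure_transvection_eq_top, Subgroup.closure_le]
  rintro _ ⟨i, j, h, c, rfl⟩
  have hc : c = ((c.val : ℕ) : ZMod 7) := (ZMod.natCast_zmod_val c).symm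
  rw [hc, ← T_pow]
  apply pow_mem
  apply Subgroup.subset_closure
  fin_cases i <;> fin_cases j
  · exact absurd rfl h
  · exact ⟨some false, rfl⟩
  · exact ⟨some true, rfl⟩
  · exact absurd rfl h

/-- The values on generators. -/
def A7 : Option Bool → Matrix (Fin 3) (Fin 3) (ZMod 2)
  | none => 1
  | some false => TM 1 1 0 1
  | some true => TM 1 0 1 1

theorem gens3_none : gens3 none = gen2 none := rfl

theorem gens3_some (b : Bool) : gens3 (some b) = gen2 (some (b, 1)) := rfl

theorem F7_mul' (i : Option Bool) (g : SpecialLinearGroup (Fin 2) (ZMod 7)) :
    F7 (gens3 i * g) = A7 i * F7 g := by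
  unfold F7
  rcases i with _ | _ | _
  · rw [gens3_none]
    simp only [gen_none_apply, A7, one_mul]
    exact checkneg _ _ _ _
  · rw [gens3_some]
    obtain ⟨e1, e2, e3, e4⟩ := gen_false_apply 1 g
    rw [e1, e2, e3, e4]
    exact check01 _ _ _ _
  · rw [gens3_some]
    obtain ⟨e1, e2, e3, e4⟩ := gen_true_apply 1 g
    rw [e1, e2, e3, e4]
    exact check10 _ _ _ _

theorem F7_one : F7 1 = 1 := by
  unfold F7
  have : TM ((1 : SpecialLinearGroup (Fin 2) (ZMod 7)).1 0 0) ((1 : SpecialLinearGroup (Fin 2) (ZMod 7)).1 0 1)
      ((1 : SpecialLinearGroup (Fin 2) (ZMod 7)).1 1 0) ((1 : SpecialLinearGroup (Fin 2) (ZMod 7)).1 1 1) = TM 1 0 0 1 := by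
    congr 1
  rw [this, checkone]

theorem F7_gen (i : Option Bool) : F7 (gens3 i) = A7 i := by
  have := F7_mul' i 1
  rwa [mul_one, F7_one, mul_one] at this

/-- The morphism to matrices. -/
theorem exists_hom : ∃ Φ : SpecialLinearGroup (Fin 2) (ZMod 7) →* Matrix (Fin 3) (Fin 3) (ZMod 2),
    ∀ g, Φ g = F7 g :=
  exists_monoidHom_of_table gens3 closure_gens3 F7 F7_one (fun i g => by rw [F7_mul', F7_gen])

theorem card_PSL3 : Nat.card (ProjectiveSpecialLinearGroup (Fin 3) (ZMod 2)) = 168 := by
  have h1 := card_GL_eq_mul_card_SL (n := Fin 3) (F := ZMod 2)
  rw [Matrix.card_GL_field 3] at h1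
  have h2 := card_center_SL (n := Fin 3) (F := ZMod 2)
  have h3 := Subgroup.card_eq_card_quotient_mul_card_subgroup
    (Subgroup.center (SpecialLinearGroup (Fin 3) (ZMod 2)))
  rw [h2] at h3
  simp only [Fintype.card_fin, ZMod.card, Nat.add_one_sub_one, Nat.gcd_one_right, mul_one] at h1 h3
  rw [Fin.prod_univ_three, h3, one_mul] at h1
  exact h1.symm.trans (by decide)

theorem card_PSL2' : Nat.card (ProjectiveSpecialLinearGroup (Fin 2) (ZMod 7)) = 168 := by
  have := card_PSL2 (F := ZMod 7)
  rw [ZMod.card] at this
  have h : Nat.gcd 2 (7 - 1) = 2 := by decide
  rw [h] at this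
  omega

theorem main : Nonempty (ProjectiveSpecialLinearGroup (Fin 2) (ZMod 7) ≃*
    ProjectiveSpecialLinearGroup (Fin 3) (ZMod 2)) := by
  obtain ⟨Φ, hΦ⟩ := exists_hom
  have hdet : ∀ g, (Φ g).det = 1 := by
    intro g
    have h1 : Φ g * Φ g⁻¹ = 1 := by rw [← map_mul, mul_inv_cancel, map_one]
    have h2 := congrArg Matrix.det h1
    rw [Matrix.det_mul, Matrix.det_one] at h2
    have key : ∀ x y : ZMod 2, x * y = 1 → x = 1 := by decide
    exact key _ _ h2
  let Φ' : SpecialLinearGroup (Fin 2) (ZMod 7) →* SpecialLinearGroup (Fin 3) (ZMod 2) :=
    { toFun := fun g => ⟨Φ g, hdet g⟩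
      map_one' := Subtype.ext (map_one Φ)
      map_mul' := fun a b => Subtype.ext (map_mul Φ a b) }
  let Ψ := (QuotientGroup.mk' (Subgroup.center (SpecialLinearGroup (Fin 3) (ZMod 2)))).comp Φ'
  have hbot : Subgroup.center (SpecialLinearGroup (Fin 3) (ZMod 2)) = ⊥ := by
    apply Subgroup.eq_bot_of_card_eq
    rw [card_center_SL]
    simp
  have : IsSimpleGroup (ProjectiveSpecialLinearGroup (Fin 2) (ZMod 7)) :=
    Matrix.ProjectiveSpecialLinearGroup.rank_two_simple (by rw [Nat.card_eq_fintype_card, ZMod.card]; norm_num)
  have hZ : ∀ z ∈ Subgroup.center (SpecialLinearGroup (Fin 2) (ZMod 7)), Ψ z = 1 := by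
    intro z hz
    rcases center_cases hz with rfl | rfl
    · exact map_one Ψ
    · have h1 : Φ' (gen2 none) = 1 := by
        apply Subtype.ext
        change Φ (gens3 none) = 1
        rw [hΦ, F7_gen]
        rfl
      change (QuotientGroup.mk' _) (Φ' (gen2 none)) = 1
      rw [h1, map_one]
  have hne : ∃ g, Ψ g ≠ 1 := by
    refine ⟨gens3 (some false), fun h => checkmove ?_⟩
    have h1 : Φ' (gens3 (some false)) ∈ Subgroup.center (SpecialLinearGroup (Fin 3) (ZMod 2)) :=
      (QuotientGroup.eq_one_iff _).1 h
    rw [hbot, Subgroup.mem_bot] at h1
    have h2 : Φ (gens3 (some false)) = 1 := congrArg Subtype.val h1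
    rw [hΦ, F7_gen] at h2
    exact h2
  obtain ⟨φ, hφ, -⟩ := exists_injective_of_hom Ψ hZ hne
  have hbij : Function.Bijective φ := by
    rw [Nat.bijective_iff_injective_and_card]
    exact ⟨hφ, by rw [card_PSL3, card_PSL2']⟩
  exact ⟨MulEquiv.ofBijective φ hbij⟩

/-- PSL_2(7) is isomorphic to PSL_3(2). -/
theorem result {F K : Type*} [Field F] [Fintype F] [Field K] [Fintype K] (hF : Fintype.card F = 7) (hK : Fintype.card K = 2) : Nonempty (Matrix.ProjectiveSpecialLinearGroup (Fin 2) F ≃* Matrix.ProjectiveSpecialLinearGroup (Fin 3) K) := by
  have e1 := pslEquiv (n := Fin 2) (ZMod.ringEquivOfPrime F (p := 7) (by norm_num) hF)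
  have e2 := pslEquiv (n := Fin 3) (ZMod.ringEquivOfPrime K (p := 2) Nat.prime_two hK)
  obtain ⟨e⟩ := main
  exact ⟨e1.symm.trans (e.trans e2)⟩

end Cfsg.Agent.S0255
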