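import Cfsg.Statements.S0345
import Mathlib
import Cfsg.Agent.Lib.ZassEvenB9
import Cfsg.Agent.S0740

set_option autoImplicit false
open Cfsg

namespace Cfsg.Agent.S0345

/-- In a finite simple Zassenhaus group the stabiliser `H` of two points `a ≠ b` is cyclic, and some involution
interchanging `a` and `b` inverts every element of `H`. -/
theorem result {G Ω : Type*} [Group G] [Finite G] [MulAction G Ω] [Finite Ω]
    (hZ : Cfsg.IsZassenhausGroup G Ω) [IsSimpleGroup G]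
    {a b : Ω} (hab : a ≠ b) :
    IsCyclic ↥(MulAction.stabilizer G a ⊓ MulAction.stabilizer G b) ∧
      ∃ v : G, orderOf v = 2 ∧ v • a = b ∧ v • b = a ∧ ∀ h ∈ MulAction.stabilizer G a ⊓ MulAction.stabilizer G b, v * h * v⁻¹ = h⁻¹ := by
  classical
  haveI : Fintype Ω := Fintype.ofFinite Ω
  obtain ⟨⟨v, hv2, hva, hvb⟩, -, -⟩ := Cfsg.Agent.S0740.result hZ hab
  rcases Nat.even_or_odd (Nat.card ↥(MulAction.stabilizer G a ⊓ MulAction.stabilizer G b)) with he | ho
  · have hdd := Cfsg.Agent.Lib.ZassEvenB9.card_eq hZ hab he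
    exact ⟨Cfsg.Agent.Lib.ZassEven9.stab_cyclic hZ hab he hdd, v, hv2, hva, hvb,
      fun h hh => Cfsg.Agent.Lib.ZassEven9.swap_inverts hZ hab he hdd hva hvb hh⟩
  · obtain ⟨h1, h3⟩ := Cfsg.Agent.Lib.ZassH.odd_main hZ hab ho
      (Cfsg.Agent.Lib.ZassH.hnil_of_simple hZ hab ho)
    exact ⟨h1, v, hv2, hva, hvb, fun h hh => h3 v hva hvb h hh⟩

end Cfsg.Agent.S0345
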