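import Mathlib
import Cfsg.Statements.S0447
import Cfsg.Agent.Lib.InvolutionDihedral

set_option autoImplicit false
open Cfsg

namespace Cfsg.Agent.S0447



open Equiv.Perm

/-- Cycle type of an even involution of degree at most 7. -/
lemma cycleType_of_even_invol {n : ℕ} (hn : n ≤ 7) (τ : Equiv.Perm (Fin n))
    (hs : Equiv.Perm.sign τ = 1) (h2 : orderOf τ = 2) :
    τ.cycleType = Multiset.replicate 2 2 := by
  have hall : ∀ m ∈ τ.cycleType, m = 2 := by
    intro m hm
    have h1 := Equiv.Perm.dvd_of_mem_cycleType hm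
    have h3 := Equiv.Perm.two_le_of_mem_cycleType hm
    rw [h2] at h1
    have := Nat.le_of_dvd (by norm_num) h1
    omega
  have hrep : τ.cycleType = Multiset.replicate (Multiset.card τ.cycleType) 2 :=
    Multiset.eq_replicate.mpr ⟨rfl, hall⟩
  set k := Multiset.card τ.cycleType with hk
  have hsum : τ.cycleType.sum = k * 2 := by
    rw [hrep]; simp
  have hle : τ.cycleType.sum ≤ n := by
    rw [Equiv.Perm.sum_cycleType]
    have := Finset.card_le_univ τ.support
    simpa using this
  have hne : k ≠ 0 := by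
    intro h0
    have : τ.cycleType = 0 := by rw [hrep, h0]; simp
    rw [Equiv.Perm.cycleType_eq_zero] at this
    rw [this] at h2
    simp at h2
  have hsg := Equiv.Perm.sign_of_cycleType τ
  rw [hs, hsum, ← hk] at hsg
  have hk3 : k ≤ 3 := by omega
  have : k = 2 := by
    interval_cases k
    · exact absurd rfl hne
    · exact absurd hsg (by decide)
    · rfl
    · exact absurd hsg (by decide)
  rw [hrep, this]

/-- Any two even involutions of degree at most 7 are conjugate under an even permutation. -/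
lemma exists_even_conj {n : ℕ} (hn : n ≤ 7) (τ s : Equiv.Perm (Fin n))
    (hτ : Equiv.Perm.sign τ = 1) (h2τ : orderOf τ = 2)
    (hs : Equiv.Perm.sign s = 1) (h2s : orderOf s = 2) :
    ∃ g : Equiv.Perm (Fin n), Equiv.Perm.sign g = 1 ∧ g * τ * g⁻¹ = s := by
  have hc : IsConj τ s := by
    rw [Equiv.Perm.isConj_iff_cycleType_eq, cycleType_of_even_invol hn τ hτ h2τ,
      cycleType_of_even_invol hn s hs h2s]
  obtain ⟨c, hc⟩ := isConj_iff.mp hc
  by_cases hsc : Equiv.Perm.sign c = 1
  · exact ⟨c, hsc, hc⟩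
  · have hτ1 : τ ≠ 1 := by
      rintro rfl
      simp at h2τ
    obtain ⟨a, ha⟩ : ∃ a, τ a ≠ a := by
      by_contra h
      push Not at h
      exact hτ1 (Equiv.ext h)
    have hττ : τ (τ a) = a := by
      have : τ ^ 2 = 1 := by rw [← h2τ]; exact pow_orderOf_eq_one τ
      have h' := congrArg (fun f : Equiv.Perm (Fin n) => f a) this
      simpa [pow_two] using h'
    have hcomm : τ * Equiv.swap a (τ a) = Equiv.swap a (τ a) * τ := by
      ext b
      simp only [Equiv.Perm.coe_mul, Function.comp_apply]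
      by_cases hb1 : b = a
      · subst hb1
        simp [hττ]
      · by_cases hb2 : b = τ a
        · subst hb2
          simp [hττ]
        · have h1 : τ b ≠ a := fun h => hb2 (τ.injective (h.trans hττ.symm))
          have h2 : τ b ≠ τ a := fun h => hb1 (τ.injective h)
          rw [Equiv.swap_apply_of_ne_of_ne hb1 hb2, Equiv.swap_apply_of_ne_of_ne h1 h2]
    refine ⟨c * Equiv.swap a (τ a), ?_, ?_⟩
    · have : Equiv.Perm.sign c = -1 := by
        rcases Int.units_eq_one_or (Equiv.Perm.sign c) with h | h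
        · exact absurd h hsc
        · exact h
      rw [Equiv.Perm.sign_mul, this, Equiv.Perm.sign_swap ha.symm]
      decide
    · have : c * Equiv.swap a (τ a) * τ * (c * Equiv.swap a (τ a))⁻¹ = c * τ * c⁻¹ := by
        rw [mul_inv_rev, Equiv.swap_inv]
        calc c * Equiv.swap a (τ a) * τ * (Equiv.swap a (τ a) * c⁻¹)
            = c * (Equiv.swap a (τ a) * τ) * (Equiv.swap a (τ a) * c⁻¹) := by group
          _ = c * (τ * Equiv.swap a (τ a)) * (Equiv.swap a (τ a) * c⁻¹) := by rw [hcomm]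
          _ = c * τ * (Equiv.swap a (τ a) * Equiv.swap a (τ a)) * c⁻¹ := by group
          _ = c * τ * c⁻¹ := by rw [Equiv.swap_mul_self, mul_one]
      rw [this, hc]

/-- A central involution acting freely on a set of size `2 * m`, `m` odd, has sign `-1`. -/
lemma sign_free_invol {α : Type*} [Fintype α] [DecidableEq α] (f : Equiv.Perm α)
    (hf : f ^ 2 = 1) (hfree : ∀ a, f a ≠ a) (m : ℕ) (hm : Odd m) (hc : Fintype.card α = 2 * m) :
    Equiv.Perm.sign f = -1 := by
  have hall : ∀ k ∈ f.cycleType, k = 2 := by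
    intro k hk
    have h1 := Equiv.Perm.dvd_of_mem_cycleType hk
    have h3 := Equiv.Perm.two_le_of_mem_cycleType hk
    have h4 : orderOf f ∣ 2 := orderOf_dvd_of_pow_eq_one hf
    have := Nat.le_of_dvd (by norm_num) (h1.trans h4)
    omega
  have hrep : f.cycleType = Multiset.replicate (Multiset.card f.cycleType) 2 :=
    Multiset.eq_replicate.mpr ⟨rfl, hall⟩
  have hsum : f.cycleType.sum = 2 * m := by
    rw [Equiv.Perm.sum_cycleType, ← hc]
    have : f.support = Finset.univ := by
      ext a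
      simp [hfree a]
    rw [this, Finset.card_univ]
  have hk : Multiset.card f.cycleType = m := by
    have : f.cycleType.sum = Multiset.card f.cycleType * 2 := by
      conv_lhs => rw [hrep]
      simp
    omega
  rw [Equiv.Perm.sign_of_cycleType, hsum, hk]
  have : Odd (2 * m + m) := by
    rcases hm with ⟨r, rfl⟩
    exact ⟨3 * r + 1, by ring⟩
  exact this.neg_one_pow

/-- Index `2 * odd` and `z ∉ R` give a complement to `⟨z⟩`. -/
lemma exists_complement {H : Type*} [Group H] [Finite H] (Z R : Subgroup H) (z : H)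
    (hZ : Nat.card Z = 2) (hzZ : z ∈ Z) (hz1 : z ≠ 1) (hzc : ∀ g, g * z = z * g) (hz2 : z ^ 2 = 1)
    (hzR : z ∉ R) (m : ℕ) (hm : Odd m) (hidx : R.index = 2 * m) :
    ∃ L : Subgroup H, Z.IsComplement' L := by
  classical
  have : Fintype (H ⧸ R) := Fintype.ofFinite _
  let ρ : H →* ℤˣ := (Equiv.Perm.sign (α := H ⧸ R)).comp (MulAction.toPermHom H (H ⧸ R))
  have hρz : ρ z = -1 := by
    apply sign_free_invol (MulAction.toPerm z : Equiv.Perm (H ⧸ R)) ?_ ?_ m hm
    · rw [← hidx, Subgroup.index_eq_card, Nat.card_eq_fintype_card]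
    · change (MulAction.toPermHom H (H ⧸ R) z) ^ 2 = 1
      rw [← map_pow, hz2, map_one]
    · intro a
      induction a using QuotientGroup.induction_on with
      | H g =>
        intro h
        apply hzR
        have h' : z • ((g : H ⧸ R)) = (g : H ⧸ R) := h
        rw [MulAction.Quotient.smul_coe, QuotientGroup.eq] at h'
        have : (z * g)⁻¹ * g = g⁻¹ * z⁻¹ * g := by group
        simp only [smul_eq_mul] at h'
        have hh : (z * g)⁻¹ * g = z⁻¹ := by
          rw [← hzc g]; group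
        rw [hh] at h'
        simpa using R.inv_mem h'
  have hsurj : Function.Surjective ρ := by
    intro u
    rcases Int.units_eq_one_or u with rfl | rfl
    · exact ⟨1, map_one ρ⟩
    · exact ⟨z, hρz⟩
  refine ⟨ρ.ker, Subgroup.isComplement'_of_card_mul_and_disjoint ?_ ?_⟩
  · have h1 : ρ.ker.index = 2 := by
      rw [Subgroup.index_ker, MonoidHom.range_eq_top.mpr hsurj]
      simp [Nat.card_eq_fintype_card, Fintype.card_units_int]
    have h2 := Subgroup.card_mul_index ρ.ker
    rw [hZ, ← h2, h1, mul_comm]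
  · rw [Subgroup.disjoint_def]
    intro g hg hk
    -- `Z = {1, z}`
    by_contra hg1
    have hZ' : ∀ c ∈ Z, c = 1 ∨ c = z := by
      intro c hc
      by_contra hcc
      push Not at hcc
      have : (3 : ℕ) ≤ Nat.card Z := by
        have : Fintype Z := Fintype.ofFinite _
        rw [Nat.card_eq_fintype_card]
        have : ({⟨1, Z.one_mem⟩, ⟨z, hzZ⟩, ⟨c, hc⟩} : Finset Z).card = 3 := by
          rw [Finset.card_eq_three]
          refine ⟨_, _, _, ?_, ?_, ?_, rfl⟩
          · simpa [Subtype.ext_iff] using hz1.symm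
          · simpa [Subtype.ext_iff] using hcc.1.symm
          · simpa [Subtype.ext_iff] using hcc.2.symm
        rw [← this]
        exact Finset.card_le_univ _
      omega
    rcases hZ' g hg with rfl | rfl
    · exact hg1 rfl
    · rw [MonoidHom.mem_ker, hρz] at hk
      exact absurd hk (by decide)


/-- Main combinatorial step of the first part. -/
lemma aux_false {H A : Type*} [Group H] [Finite H] [Group A] [Finite A]
    (π : H →* A) (hsurj : Function.Surjective π) (hker : π.ker = Subgroup.center H)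
    (hZ : Nat.card (Subgroup.center H) = 2)
    (hns : ∀ L : Subgroup H, ¬ (Subgroup.center H).IsComplement' L)
    (hQ : ∀ s : A, orderOf s = 2 → ∀ h, π h = s → h ^ 2 = 1)
    (s t : A) (hs : orderOf s = 2) (ht : orderOf t = 2) (hst : s ≠ t)
    (k : ℕ) (hk0 : 0 < k) (hk : orderOf (s * t) = k)
    (hkk : ∀ g : H, π g = s * t → g ^ k = 1)
    (m : ℕ) (hm : Odd m) (hcard : Nat.card A = 2 * k * m) : False := by
  obtain ⟨s', hs'⟩ := hsurj s
  obtain ⟨t', ht'⟩ := hsurj t
  have hs1 : s ≠ 1 := by rintro rfl; simp at hs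
  have ht1 : t ≠ 1 := by rintro rfl; simp at ht
  have hs'2 : orderOf s' = 2 := by
    have : Fact (Nat.Prime 2) := ⟨Nat.prime_two⟩
    apply orderOf_eq_prime (hQ s hs s' hs')
    rintro rfl
    exact hs1 (by rw [← hs', map_one])
  have ht'2 : orderOf t' = 2 := by
    have : Fact (Nat.Prime 2) := ⟨Nat.prime_two⟩
    apply orderOf_eq_prime (hQ t ht t' ht')
    rintro rfl
    exact ht1 (by rw [← ht', map_one])
  have hst' : s' ≠ t' := by
    rintro rfl
    exact hst (hs'.symm.trans ht')
  have hord : orderOf (s' * t') = k := by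
    apply Nat.dvd_antisymm
    · exact orderOf_dvd_of_pow_eq_one (hkk _ (by rw [map_mul, hs', ht']))
    · have := orderOf_map_dvd π (s' * t')
      rwa [map_mul, hs', ht', hk] at this
  obtain ⟨e1⟩ := Cfsg.Agent.Lib.InvolutionDihedral.closure_pair_equiv s' t' hs'2 ht'2 hst'
  obtain ⟨e2⟩ := Cfsg.Agent.Lib.InvolutionDihedral.closure_pair_equiv s t hs ht hst
  set R := Subgroup.closure ({s', t'} : Set H) with hR
  have hcR : Nat.card R = 2 * k := by
    rw [Nat.card_congr e1.toEquiv, hord, DihedralGroup.nat_card]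
  have hcR2 : Nat.card (Subgroup.closure ({s, t} : Set A)) = 2 * k := by
    rw [Nat.card_congr e2.toEquiv, hk, DihedralGroup.nat_card]
  have hmap : R.map π = Subgroup.closure ({s, t} : Set A) := by
    rw [hR, MonoidHom.map_closure, Set.image_pair, hs', ht']
  -- central element
  have hnt : Nontrivial (Subgroup.center H) := by
    rw [← Finite.one_lt_card_iff_nontrivial, hZ]
    norm_num
  obtain ⟨⟨z, hzZ⟩, hz1⟩ := exists_ne (1 : Subgroup.center H)
  have hz1' : z ≠ 1 := fun h => hz1 (Subtype.ext h)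
  have hz2 : z ^ 2 = 1 := by
    have : orderOf z ∣ 2 := by
      rw [← hZ]
      exact Subgroup.orderOf_dvd_natCard _ hzZ
    exact orderOf_dvd_iff_pow_eq_one.mp this
  have hzc : ∀ g, g * z = z * g := fun g => (Subgroup.mem_center_iff.mp hzZ g)
  -- `z ∉ R`
  have hπz : π z = 1 := by
    have : z ∈ π.ker := hker ▸ hzZ
    exact this
  have hzR : z ∉ R := by
    intro hzR
    let f : R → (R.map π) := fun r => ⟨π r, Subgroup.mem_map_of_mem π r.2⟩
    have hf : Function.Surjective f := by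
      rintro ⟨y, r, hr, rfl⟩
      exact ⟨⟨r, hr⟩, rfl⟩
    have hc : Nat.card R = Nat.card (R.map π) := by
      rw [hcR, hmap, hcR2]
    have hinj := ((Nat.bijective_iff_surjective_and_card f).mpr ⟨hf, hc⟩).1
    have : (⟨z, hzR⟩ : R) = 1 := by
      apply hinj
      apply Subtype.ext
      simp [f, hπz]
    exact hz1' (congrArg Subtype.val this)
  -- index
  have hcH : Nat.card H = 2 * Nat.card A := by
    have h1 := Subgroup.card_mul_index π.ker
    rw [Subgroup.index_ker, MonoidHom.range_eq_top.mpr hsurj, Subgroup.card_top, hker, hZ] at h1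
    exact h1.symm
  have hidx : R.index = 2 * m := by
    have h1 := Subgroup.card_mul_index R
    rw [hcR, hcH, hcard] at h1
    have h2 : 0 < 2 * k := by omega
    apply Nat.eq_of_mul_eq_mul_left h2
    rw [h1]
    ring
  obtain ⟨L, hL⟩ := exists_complement (Subgroup.center H) R z hZ hzZ hz1' hzc hz2 hzR m hm hidx
  exact hns L hL

open Equiv in
lemma aux_of_perm_k2 {n : ℕ} {H : Type*} [Group H] [Finite H]
    (π : H →* alternatingGroup (Fin n)) (hsurj : Function.Surjective π)
    (hker : π.ker = Subgroup.center H)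
    (hZ : Nat.card (Subgroup.center H) = 2)
    (hns : ∀ L : Subgroup H, ¬ (Subgroup.center H).IsComplement' L)
    (hQ : ∀ s : alternatingGroup (Fin n), orderOf s = 2 → ∀ h, π h = s → h ^ 2 = 1)
    (s t : Perm (Fin n))
    (hs : Perm.sign s = 1) (ht : Perm.sign t = 1) (hs2 : s ^ 2 = 1) (ht2 : t ^ 2 = 1)
    (hs1 : s ≠ 1) (ht1 : t ≠ 1) (hst : s ≠ t) (hst2 : (s * t) ^ 2 = 1) (hst1 : s * t ≠ 1)
    (m : ℕ) (hm : Odd m) (hcard : Nat.card (alternatingGroup (Fin n)) = 2 * 2 * m) : False := by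
  have : Fact (Nat.Prime 2) := ⟨Nat.prime_two⟩
  have ord : ∀ (a : Perm (Fin n)) (ha : a ∈ alternatingGroup (Fin n)), a ^ 2 = 1 → a ≠ 1 →
      orderOf (⟨a, ha⟩ : alternatingGroup (Fin n)) = 2 := by
    intro a ha h2 h1
    rw [Subgroup.orderOf_mk]
    exact orderOf_eq_prime h2 h1
  have hsm : s ∈ alternatingGroup (Fin n) := hs
  have htm : t ∈ alternatingGroup (Fin n) := ht
  have hstm : (⟨s, hsm⟩ * ⟨t, htm⟩ : alternatingGroup (Fin n)) = ⟨s * t, mul_mem hsm htm⟩ := rfl
  refine aux_false π hsurj hker hZ hns hQ ⟨s, hsm⟩ ⟨t, htm⟩ (ord _ _ hs2 hs1) (ord _ _ ht2 ht1)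
    (fun h => hst (congrArg Subtype.val h)) 2 (by norm_num) ?_ ?_ m hm hcard
  · rw [hstm]; exact ord _ _ hst2 hst1
  · intro g hg
    rw [hstm] at hg
    exact hQ _ (ord _ _ hst2 hst1) g hg

open Equiv in
lemma aux_of_perm_k4 {n : ℕ} {H : Type*} [Group H] [Finite H]
    (π : H →* alternatingGroup (Fin n)) (hsurj : Function.Surjective π)
    (hker : π.ker = Subgroup.center H)
    (hZ : Nat.card (Subgroup.center H) = 2)
    (hns : ∀ L : Subgroup H, ¬ (Subgroup.center H).IsComplement' L)
    (hQ : ∀ s : alternatingGroup (Fin n), orderOf s = 2 → ∀ h, π h = s → h ^ 2 = 1)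
    (s t : Perm (Fin n))
    (hs : Perm.sign s = 1) (ht : Perm.sign t = 1) (hs2 : s ^ 2 = 1) (ht2 : t ^ 2 = 1)
    (hs1 : s ≠ 1) (ht1 : t ≠ 1) (hst : s ≠ t) (hst2 : ((s * t) ^ 2) ^ 2 = 1)
    (hst1 : (s * t) ^ 2 ≠ 1)
    (m : ℕ) (hm : Odd m) (hcard : Nat.card (alternatingGroup (Fin n)) = 2 * 4 * m) : False := by
  have : Fact (Nat.Prime 2) := ⟨Nat.prime_two⟩
  have ord : ∀ (a : Perm (Fin n)) (ha : a ∈ alternatingGroup (Fin n)), a ^ 2 = 1 → a ≠ 1 →
      orderOf (⟨a, ha⟩ : alternatingGroup (Fin n)) = 2 := by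
    intro a ha h2 h1
    rw [Subgroup.orderOf_mk]
    exact orderOf_eq_prime h2 h1
  have hsm : s ∈ alternatingGroup (Fin n) := hs
  have htm : t ∈ alternatingGroup (Fin n) := ht
  have hstm : (⟨s, hsm⟩ * ⟨t, htm⟩ : alternatingGroup (Fin n)) = ⟨s * t, mul_mem hsm htm⟩ := rfl
  have hst4 : (⟨s * t, mul_mem hsm htm⟩ : alternatingGroup (Fin n)) ^ 2
      = ⟨(s * t) ^ 2, pow_mem (mul_mem hsm htm) 2⟩ := rfl
  have hord2 := ord _ (pow_mem (mul_mem hsm htm) 2) hst2 hst1
  refine aux_false π hsurj hker hZ hns hQ ⟨s, hsm⟩ ⟨t, htm⟩ (ord _ _ hs2 hs1) (ord _ _ ht2 ht1)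
    (fun h => hst (congrArg Subtype.val h)) 4 (by norm_num) ?_ ?_ m hm hcard
  · rw [hstm, Subgroup.orderOf_mk]
    exact orderOf_eq_prime_pow (p := 2) (n := 1) (by simpa using hst1) (by
      have : (s * t) ^ (2 ^ (1 + 1)) = ((s * t) ^ 2) ^ 2 := by rw [← pow_mul]; norm_num
      rw [this, hst2])
  · intro g hg
    rw [hstm] at hg
    have h := hQ _ hord2 (g ^ 2) (by rw [map_pow, hg, hst4])
    rw [← pow_mul] at h
    exact h

/-- The first part: a non-central involution cannot exist. -/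
lemma involution_mem_center {n : ℕ} (hn : n ≤ 7) {H : Type} [Group H] [Finite H]
    (hH : Cfsg.IsNonsplitDoubleCover H (alternatingGroup (Fin n))) (x : H) (hx : orderOf x = 2) :
    x ∈ Subgroup.center H := by
  classical
  obtain ⟨hZ, ⟨φ⟩, hns⟩ := hH
  by_contra hxZ
  let π : H →* alternatingGroup (Fin n) :=
    φ.toMonoidHom.comp (QuotientGroup.mk' (Subgroup.center H))
  have hsurj : Function.Surjective π := φ.surjective.comp (QuotientGroup.mk'_surjective _)
  have hker : π.ker = Subgroup.center H := by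
    ext g
    simp [π, MonoidHom.mem_ker]
  have hπx : π x ≠ 1 := by
    intro h
    apply hxZ
    rw [← hker]
    exact h
  have : Fact (Nat.Prime 2) := ⟨Nat.prime_two⟩
  have hx2 : x ^ 2 = 1 := by rw [← hx]; exact pow_orderOf_eq_one x
  have hτ2 : orderOf (π x) = 2 := orderOf_eq_prime (by rw [← map_pow, hx2, map_one]) hπx
  have hτ2' : orderOf ((π x : alternatingGroup (Fin n)) : Equiv.Perm (Fin n)) = 2 := by
    rw [Subgroup.orderOf_coe, hτ2]
  have hτs : Equiv.Perm.sign ((π x : alternatingGroup (Fin n)) : Equiv.Perm (Fin n)) = 1 :=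
    (π x).2
  have hcy := cycleType_of_even_invol hn _ hτs hτ2'
  have hn4 : 4 ≤ n := by
    have h1 : ((π x : alternatingGroup (Fin n)) : Equiv.Perm (Fin n)).cycleType.sum ≤ n := by
      rw [Equiv.Perm.sum_cycleType]
      have := Finset.card_le_univ ((π x : alternatingGroup (Fin n)) : Equiv.Perm (Fin n)).support
      simpa using this
    rw [hcy] at h1
    simpa using h1
  have hQ : ∀ s : alternatingGroup (Fin n), orderOf s = 2 → ∀ h, π h = s → h ^ 2 = 1 := by
    intro s hs h hh
    have hs' : orderOf (s : Equiv.Perm (Fin n)) = 2 := by rw [Subgroup.orderOf_coe, hs]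
    obtain ⟨g, hg, hgg⟩ := exists_even_conj hn _ _ hτs hτ2' s.2 hs'
    obtain ⟨g', hg'⟩ := hsurj ⟨g, hg⟩
    have hconj : π (g' * x * g'⁻¹) = s := by
      apply Subtype.ext
      rw [map_mul, map_mul, map_inv, hg']
      exact hgg
    have hc : (g' * x * g'⁻¹)⁻¹ * h ∈ Subgroup.center H := by
      rw [← hker, MonoidHom.mem_ker, map_mul, map_inv, hconj, hh, inv_mul_cancel]
    set c := (g' * x * g'⁻¹)⁻¹ * h with hcdef
    have hhc : h = (g' * x * g'⁻¹) * c := by rw [hcdef]; group
    have hc2 : c ^ 2 = 1 := by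
      have : orderOf c ∣ 2 := by
        rw [← hZ]
        exact Subgroup.orderOf_dvd_natCard _ hc
      exact orderOf_dvd_iff_pow_eq_one.mp this
    have hcm : Commute (g' * x * g'⁻¹) c :=
      (Subgroup.mem_center_iff.mp hc _)
    rw [hhc, hcm.mul_pow, hc2, mul_one, conj_pow, hx2]
    simp
  have hcardA : ∀ (k : ℕ), n = k → Nat.card (alternatingGroup (Fin n)) = k.factorial / 2 := by
    rintro k rfl
    have : Nontrivial (Fin n) := Fin.nontrivial_iff_two_le.mpr (by omega)
    rw [nat_card_alternatingGroup]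
    simp
  have hn' : n = 4 ∨ n = 5 ∨ n = 6 ∨ n = 7 := by omega
  rcases hn' with rfl | rfl | rfl | rfl
  · refine aux_of_perm_k2 π hsurj hker hZ hns hQ (Equiv.swap 0 1 * Equiv.swap 2 3)
      (Equiv.swap 0 2 * Equiv.swap 1 3) (by decide) (by decide) (by decide) (by decide) (by decide)
      (by decide) (by decide) (by decide) (by decide) 3 (by decide) ?_
    rw [hcardA 4 rfl]; decide
  · refine aux_of_perm_k2 π hsurj hker hZ hns hQ (Equiv.swap 0 1 * Equiv.swap 2 3)
      (Equiv.swap 0 2 * Equiv.swap 1 3) (by decide) (by decide) (by decide) (by decide) (by decide)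
      (by decide) (by decide) (by decide) (by decide) 15 (by decide) ?_
    rw [hcardA 5 rfl]; decide
  · refine aux_of_perm_k4 π hsurj hker hZ hns hQ (Equiv.swap 0 2 * Equiv.swap 4 5)
      (Equiv.swap 0 1 * Equiv.swap 2 3) (by decide) (by decide) (by decide) (by decide) (by decide)
      (by decide) (by decide) (by decide) (by decide) 45 (by decide) ?_
    rw [hcardA 6 rfl]; decide
  · refine aux_of_perm_k4 π hsurj hker hZ hns hQ (Equiv.swap 0 2 * Equiv.swap 4 5)
      (Equiv.swap 0 1 * Equiv.swap 2 3) (by decide) (by decide) (by decide) (by decide) (by decide)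
      (by decide) (by decide) (by decide) (by decide) 315 (by decide) ?_
    rw [hcardA 7 rfl]; decide

/-- The first part of the statement. -/
theorem part1 (n : ℕ) (H : Type) (_ : Group H) (_ : Finite H) (hn : n ≤ 7)
    (hH : Cfsg.IsNonsplitDoubleCover H (alternatingGroup (Fin n))) (x y : H)
    (hx : orderOf x = 2) (hy : orderOf y = 2) : x = y := by
  have hxZ := involution_mem_center hn hH x hx
  have hyZ := involution_mem_center hn hH y hy
  by_contra hne
  have hZ := hH.1
  have hx1 : x ≠ 1 := by rintro rfl; simp at hx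
  have hy1 : y ≠ 1 := by rintro rfl; simp at hy
  have : (3 : ℕ) ≤ Nat.card (Subgroup.center H) := by
    classical
    have : Fintype (Subgroup.center H) := Fintype.ofFinite _
    rw [Nat.card_eq_fintype_card]
    have : ({⟨1, Subgroup.one_mem _⟩, ⟨x, hxZ⟩, ⟨y, hyZ⟩} : Finset (Subgroup.center H)).card = 3 := by
      rw [Finset.card_eq_three]
      refine ⟨_, _, _, ?_, ?_, ?_, rfl⟩
      · simpa [Subtype.ext_iff] using hx1.symm
      · simpa [Subtype.ext_iff] using hy1.symm
      · simpa [Subtype.ext_iff] using hne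
    rw [← this]
    exact Finset.card_le_univ _
  omega




/-- Sixteen by sixteen matrices over the field with three elements. -/
abbrev A := Matrix (Fin 16) (Fin 16) (ZMod 3)

/-- A monomial matrix: `e_v ↦ c v • e_{π v}`. -/
def mono (π : Fin 16 → Fin 16) (c : Fin 16 → ZMod 3) : A :=
  Matrix.of fun u v => if u = π v then c v else 0

lemma mono_mul (π π' : Fin 16 → Fin 16) (c c' : Fin 16 → ZMod 3) :
    mono π c * mono π' c' = mono (π ∘ π') (fun v => c (π' v) * c' v) := by
  ext u v
  simp only [mono, Matrix.mul_apply, Matrix.of_apply, Function.comp_apply]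
  rw [Finset.sum_eq_single (π' v)]
  · simp
  · intro w _ hw
    simp [hw]
  · simp

lemma mono_neg (π : Fin 16 → Fin 16) (c c' : Fin 16 → ZMod 3) (h : ∀ v, c' v = - c v) :
    mono π c' = - mono π c := by
  ext u v
  simp only [mono, Matrix.neg_apply, Matrix.of_apply, h]
  split <;> simp

lemma mono_id_one : mono id (fun _ => 1) = (1 : A) := by
  ext u v
  simp only [mono, Matrix.of_apply, id, Matrix.one_apply]

/-- Entrywise form of commuting with a monomial matrix with involutive support map. -/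
lemma entry_of_comm (M : A) (π : Fin 16 → Fin 16) (c : Fin 16 → ZMod 3)
    (hπ : ∀ v, π (π v) = v) (h : M * mono π c = mono π c * M) (u v : Fin 16) :
    M u (π v) * c v = c (π u) * M (π u) v := by
  have h' := congrFun (congrFun h u) v
  simp only [mono, Matrix.mul_apply, Matrix.of_apply] at h'
  rw [Finset.sum_eq_single (π v), Finset.sum_eq_single (π u)] at h'
  · simpa [hπ] using h'
  · intro w _ hw
    have : u ≠ π w := by
      rintro rfl
      exact hw (hπ w).symm
    simp [this]
  · simp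
  · intro w _ hw
    simp [hw]
  · simp


/-- The translations of the sixteen basis vectors. -/
def pi : Fin 8 → Fin 16 → Fin 16 :=
  ![![1,0,3,2,5,4,7,6,9,8,11,10,13,12,15,14],
    ![2,3,0,1,6,7,4,5,10,11,8,9,14,15,12,13],
    ![3,2,1,0,7,6,5,4,11,10,9,8,15,14,13,12],
    ![4,5,6,7,0,1,2,3,12,13,14,15,8,9,10,11],
    ![5,4,7,6,1,0,3,2,13,12,15,14,9,8,11,10],
    ![6,7,4,5,2,3,0,1,14,15,12,13,10,11,8,9],
    ![7,6,5,4,3,2,1,0,15,14,13,12,11,10,9,8],
    ![15,14,13,12,11,10,9,8,7,6,5,4,3,2,1,0]]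

/-- The signs of the generators. -/
def cc : Fin 8 → Fin 16 → ZMod 3 :=
  ![![1,-1,1,-1,1,-1,1,-1,1,-1,1,-1,1,-1,1,-1],
    ![1,-1,-1,1,1,-1,-1,1,1,-1,-1,1,1,-1,-1,1],
    ![1,1,-1,-1,-1,-1,1,1,1,1,-1,-1,-1,-1,1,1],
    ![1,-1,-1,1,-1,1,1,-1,1,-1,-1,1,-1,1,1,-1],
    ![1,1,1,1,-1,-1,-1,-1,1,1,1,1,-1,-1,-1,-1],
    ![1,-1,1,-1,-1,1,-1,1,1,-1,1,-1,-1,1,-1,1],
    ![1,1,-1,-1,1,1,-1,-1,-1,-1,1,1,-1,-1,1,1],
    ![1,1,-1,-1,1,1,-1,-1,1,1,-1,-1,1,1,-1,-1]]

/-- Words in the generators which give diagonal matrices separating the basis vectors. -/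
def zl : Fin 4 → List (Fin 8) := ![[1, 3, 5],[0, 3, 4],[0, 1, 2],[0, 1, 2, 3, 4, 5, 6]]

/-- Words reaching every basis vector from the zeroth one. -/
def pathOf : Fin 16 → List (Fin 8) :=
  ![[],[0],[1],[2],[3],[4],[5],[6],[7, 6],[7, 5],[7, 4],[7, 3],[7, 2],[7, 1],[7, 0],[7]]

/-- The eight generators of the Clifford algebra. -/
def t (k : Fin 8) : A := mono (pi k) (cc k)

lemma pi_invol : ∀ k v, pi k (pi k v) = v := by decide

lemma cc_sq : ∀ k v, cc k (pi k v) * cc k v = -1 := by decide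

lemma cc_ne : ∀ k v, cc k v ≠ 0 := by decide

set_option maxRecDepth 100000 in
lemma pi_comm : ∀ i j v, pi i (pi j v) = pi j (pi i v) := by decide

set_option maxRecDepth 100000 in
lemma cc_anti : ∀ i j, i ≠ j → ∀ v,
    cc i (pi j v) * cc j v = - (cc j (pi i v) * cc i v) := by decide

lemma t_sq (k : Fin 8) : t k * t k = -1 := by
  unfold t
  rw [mono_mul]
  have h1 : (pi k ∘ pi k) = id := funext (pi_invol k)
  rw [h1, mono_neg id (fun _ => 1) (fun v => cc k (pi k v) * cc k v) (fun v => by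
    rw [cc_sq]), mono_id_one]

lemma t_anti (i j : Fin 8) (h : i ≠ j) : t i * t j = - (t j * t i) := by
  unfold t
  rw [mono_mul, mono_mul]
  have h1 : (pi i ∘ pi j) = (pi j ∘ pi i) := funext (pi_comm i j)
  rw [h1]
  exact mono_neg _ _ _ (cc_anti i j h)

lemma three_eq_zero : (3 : A) = 0 := by
  have : ((3 : ℕ) : A) = 0 := CharP.cast_eq_zero A 3
  exact_mod_cast this

/-- The reflections. -/
def r (i j : Fin 8) : A := t i - t j

lemma r_sq (i j : Fin 8) (h : i ≠ j) : r i j * r i j = 1 := by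
  unfold r
  have h1 := t_sq i
  have h2 := t_sq j
  have h3 := t_anti i j h
  have : (t i - t j) * (t i - t j) = t i * t i + t j * t j - (t i * t j + t j * t i) := by
    noncomm_ring
  have h6 : t i * t j + t j * t i = 0 := by rw [h3]; simp
  rw [this, h1, h2, h6]
  have h4 : (3 : A) = 0 := three_eq_zero
  have h5 : (-1 : A) + -1 - 0 = 1 - 3 := by norm_num
  rw [h5, h4, sub_zero]

lemma r_mul_t (i j : Fin 8) (h : i ≠ j) (k : Fin 8) :
    r i j * t k = - (t (Equiv.swap i j k) * r i j) := by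
  unfold r
  by_cases hki : k = i
  · subst hki
    rw [Equiv.swap_apply_left, sub_mul, mul_sub, t_sq, t_sq]
    noncomm_ring
  · by_cases hkj : k = j
    · subst hkj
      rw [Equiv.swap_apply_right, sub_mul, mul_sub, t_sq, t_sq]
      noncomm_ring
    · rw [Equiv.swap_apply_of_ne_of_ne hki hkj, sub_mul, mul_sub, t_anti i k (Ne.symm hki),
        t_anti j k (Ne.symm hkj)]
      noncomm_ring

lemma r_anti (i j k l : Fin 8) (h1 : i ≠ k) (h2 : i ≠ l) (h3 : j ≠ k) (h4 : j ≠ l) :
    r i j * r k l = - (r k l * r i j) := by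
  unfold r
  have e1 : (t i - t j) * (t k - t l) = t i * t k - t i * t l - t j * t k + t j * t l := by
    noncomm_ring
  have e2 : (t k - t l) * (t i - t j) = t k * t i - t k * t j - t l * t i + t l * t j := by
    noncomm_ring
  rw [e1, e2, t_anti i k h1, t_anti i l h2, t_anti j k h3, t_anti j l h4]
  noncomm_ring

/-- The reflection as a unit. -/
def ru (i j : Fin 8) (h : i ≠ j) : Aˣ := ⟨r i j, r i j, r_sq i j h, r_sq i j h⟩

/-! ### The commutant of the generators -/

/-- Support map of a word. -/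
def wP : List (Fin 8) → Fin 16 → Fin 16
  | [] => id
  | k :: l => pi k ∘ wP l

/-- Coefficients of a word. -/
def wC : List (Fin 8) → Fin 16 → ZMod 3
  | [] => fun _ => 1
  | k :: l => fun v => cc k (wP l v) * wC l v

lemma word_prod (l : List (Fin 8)) : (l.map t).prod = mono (wP l) (wC l) := by
  induction l with
  | nil => simpa [wP, wC] using mono_id_one.symm
  | cons k l ih =>
    rw [List.map_cons, List.prod_cons, ih]
    exact mono_mul _ _ _ _

lemma zl_id : ∀ j v, wP (zl j) v = v := by decide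

lemma zl_sep : ∀ u v : Fin 16, u ≠ v → ∃ j, wC (zl j) u = - wC (zl j) v ∧ wC (zl j) v ≠ 0 := by
  decide +kernel

lemma path_spec : ∀ u : Fin 16, (pathOf u).foldr pi 0 = u := by decide

lemma comm_list {R ι : Type*} [Monoid R] (M : R) (f : ι → R) (h : ∀ k, M * f k = f k * M)
    (l : List ι) : M * (l.map f).prod = (l.map f).prod * M := by
  induction l with
  | nil => simp
  | cons k l ih =>
    rw [List.map_cons, List.prod_cons, ← mul_assoc, h k, mul_assoc, ih, mul_assoc]

lemma comm_word (M : A) (hM : ∀ k, M * t k = t k * M) (l : List (Fin 8)) :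
    M * mono (wP l) (wC l) = mono (wP l) (wC l) * M := by
  have h2 : M * (l.map t).prod = (l.map t).prod * M := by
    induction l with
    | nil => simp
    | cons k l ih =>
      rw [List.map_cons, List.prod_cons, ← mul_assoc, hM k, mul_assoc, ih, mul_assoc]
  rwa [word_prod l] at h2

/-- Only scalars commute with all generators. -/
lemma scalar_of_comm (M : A) (hM : ∀ k, M * t k = t k * M) :
    M = Matrix.scalar (Fin 16) (M 0 0) := by
  have hoff : ∀ u v : Fin 16, u ≠ v → M u v = 0 := by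
    intro u v huv
    obtain ⟨j, h1, h2⟩ := zl_sep u v huv
    have h3 := entry_of_comm M (wP (zl j)) (wC (zl j)) (fun v => by rw [zl_id, zl_id])
      (comm_word M hM (zl j)) u v
    rw [zl_id, zl_id, h1] at h3
    have h4 : (2 : ZMod 3) * wC (zl j) v * M u v = 0 := by
      linear_combination h3
    have h5 : (2 : ZMod 3) ≠ 0 := by decide
    simpa [h5, h2] using h4
  have hdiag : ∀ k u, M (pi k u) (pi k u) = M u u := by
    intro k u
    have h := entry_of_comm M (pi k) (cc k) (pi_invol k) (hM k) u (pi k u)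
    rw [pi_invol] at h
    have h2 := cc_ne k (pi k u)
    rw [mul_comm] at h
    exact (mul_left_cancel₀ h2 h).symm
  have hpath : ∀ l : List (Fin 8), M (l.foldr pi 0) (l.foldr pi 0) = M 0 0 := by
    intro l
    induction l with
    | nil => rfl
    | cons k l ih =>
      rw [List.foldr_cons, hdiag, ih]
  ext u v
  by_cases huv : u = v
  · subst huv
    have := hpath (pathOf u)
    rw [path_spec] at this
    simp [this]
  · rw [hoff u v huv]
    simp [Matrix.scalar_apply, Matrix.diagonal, huv]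

/-- Units commuting with all the generators are `±1`. -/
lemma unit_of_comm (M : Aˣ) (hM : ∀ k, (M : A) * t k = t k * (M : A)) : M = 1 ∨ M = -1 := by
  have hs := scalar_of_comm (M : A) hM
  have hc : ∀ c : ZMod 3, c = 0 ∨ c = 1 ∨ c = -1 := by decide
  rcases hc ((M : A) 0 0) with h | h | h
  · exfalso
    rw [h, map_zero] at hs
    have := M.mul_inv
    rw [hs, zero_mul] at this
    exact zero_ne_one this
  · left
    ext1
    rw [hs, h, map_one, Units.val_one]
  · right
    ext1
    rw [hs, h, map_neg, map_one, Units.val_neg, Units.val_one]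


/-! ### The group -/

open Equiv in
/-- The double cover: pairs of an even permutation and a matrix inducing it on the generators. -/
def HH : Subgroup (Perm (Fin 8) × Aˣ) where
  carrier := {g | Perm.sign g.1 = 1 ∧ ∀ k, ((g.2 : Aˣ) : A) * t k = t (g.1 k) * ((g.2 : Aˣ) : A)}
  mul_mem' := by
    rintro ⟨σ, M⟩ ⟨τ, N⟩ ⟨h1, h2⟩ ⟨h3, h4⟩
    refine ⟨by
        change Perm.sign (σ * τ) = 1
        rw [map_mul]
        have h1' : Perm.sign σ = 1 := h1
        have h3' : Perm.sign τ = 1 := h3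
        rw [h1', h3', one_mul], fun k => ?_⟩
    change ((M * N : Aˣ) : A) * t k = t ((σ * τ) k) * ((M * N : Aˣ) : A)
    rw [Units.val_mul, mul_assoc, h4 k, ← mul_assoc, h2 (τ k), mul_assoc]
    rfl
  one_mem' := ⟨map_one _, fun k => by simp⟩
  inv_mem' := by
    rintro ⟨σ, M⟩ ⟨h1, h2⟩
    refine ⟨by change Perm.sign σ⁻¹ = 1; rw [map_inv, h1, inv_one], fun k => ?_⟩
    change (((M⁻¹ : Aˣ) : A)) * t k = t (σ⁻¹ k) * ((M⁻¹ : Aˣ) : A)
    have := h2 (σ⁻¹ k)
    change (M : A) * t (σ⁻¹ k) = t (σ (σ⁻¹ k)) * (M : A) at this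
    rw [show σ (σ⁻¹ k) = k by simp] at this
    calc ((M⁻¹ : Aˣ) : A) * t k
        = ((M⁻¹ : Aˣ) : A) * (t k * ((M : A) * ((M⁻¹ : Aˣ) : A))) := by simp
      _ = ((M⁻¹ : Aˣ) : A) * ((t k * (M : A)) * ((M⁻¹ : Aˣ) : A)) := by rw [mul_assoc]
      _ = ((M⁻¹ : Aˣ) : A) * (((M : A) * t (σ⁻¹ k)) * ((M⁻¹ : Aˣ) : A)) := by rw [this]
      _ = t (σ⁻¹ k) * ((M⁻¹ : Aˣ) : A) := by
        rw [← mul_assoc, ← mul_assoc, Units.inv_mul, one_mul]

instance : Finite HH := inferInstance

open Equiv in
lemma exists_lift (σ : Perm (Fin 8)) :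
    ∃ M : Aˣ, ∀ k, (M : A) * t k = ((Perm.sign σ : ℤ) : A) * (t (σ k) * (M : A)) := by
  induction σ using Equiv.Perm.swap_induction_on with
  | one => exact ⟨1, by simp⟩
  | swap_mul f x y hxy ih =>
    obtain ⟨M, hM⟩ := ih
    refine ⟨ru x y hxy * M, fun k => ?_⟩
    have hs : ((Perm.sign (swap x y * f) : ℤ) : A) = - ((Perm.sign f : ℤ) : A) := by
      rw [Perm.sign_mul, Perm.sign_swap hxy]
      simp
    have hcm : ∀ a : A, a * ((Perm.sign f : ℤ) : A) = ((Perm.sign f : ℤ) : A) * a :=
      fun a => (Int.cast_commute _ a).symm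
    rw [hs, Units.val_mul, mul_assoc, hM k]
    change r x y * _ = _
    rw [← mul_assoc, hcm, mul_assoc, ← mul_assoc (r x y), r_mul_t x y hxy (f k)]
    change _ = _ * (t (swap x y (f k)) * (r x y * (M : A)))
    noncomm_ring

open Equiv in
lemma exists_lift_even (σ : Perm (Fin 8)) (hσ : Perm.sign σ = 1) :
    ∃ M : Aˣ, ∀ k, (M : A) * t k = t (σ k) * (M : A) := by
  obtain ⟨M, hM⟩ := exists_lift σ
  refine ⟨M, fun k => ?_⟩
  rw [hM, hσ]
  simp

/-- The projection to the alternating group. -/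
def pr : HH →* alternatingGroup (Fin 8) where
  toFun g := ⟨g.1.1, g.2.1⟩
  map_one' := rfl
  map_mul' _ _ := rfl

lemma pr_surjective : Function.Surjective pr := by
  rintro ⟨σ, hσ⟩
  obtain ⟨M, hM⟩ := exists_lift_even σ hσ
  exact ⟨⟨(σ, M), hσ, hM⟩, rfl⟩

/-- The central involution. -/
def zz : HH := ⟨(1, -1), map_one _, fun k => by simp⟩

lemma zz_ne_one : zz ≠ 1 := by
  intro h
  have h1 : ((-1 : Aˣ) : A) = ((1 : Aˣ) : A) := congrArg (fun g : HH => ((g.1.2 : Aˣ) : A)) h
  have h2 := congrFun (congrFun h1 0) 0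
  revert h2
  simp only [Units.val_neg, Units.val_one, Matrix.neg_apply, Matrix.one_apply_eq]
  decide

lemma ker_pr : ∀ g : HH, pr g = 1 ↔ g = 1 ∨ g = zz := by
  rintro ⟨⟨σ, M⟩, hs, hM⟩
  constructor
  · intro h
    have hσ : σ = 1 := congrArg Subtype.val h
    subst hσ
    rcases unit_of_comm M (fun k => by simpa using hM k) with rfl | rfl
    · left; rfl
    · right; rfl
  · rintro (h | h)
    · rw [h, map_one]
    · rw [h]; rfl

lemma zz_central (g : HH) : g * zz = zz * g := by
  apply Subtype.ext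
  apply Prod.ext
  · simp [zz]
  · simp [zz]

lemma center_eq : Subgroup.center HH = pr.ker := by
  ext g
  constructor
  · intro hg
    have : pr g ∈ Subgroup.center (alternatingGroup (Fin 8)) := by
      rw [Subgroup.mem_center_iff]
      intro a
      obtain ⟨b, rfl⟩ := pr_surjective a
      rw [← map_mul, ← map_mul, Subgroup.mem_center_iff.mp hg b]
    rw [alternatingGroup.center_eq_bot (by simp)] at this
    exact this
  · intro hg
    rcases (ker_pr g).mp hg with rfl | rfl
    · exact Subgroup.one_mem _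
    · rw [Subgroup.mem_center_iff]
      exact zz_central

lemma mem_center_iff' (g : HH) : g ∈ Subgroup.center HH ↔ g = 1 ∨ g = zz := by
  rw [center_eq, MonoidHom.mem_ker, ker_pr]

lemma card_center : Nat.card (Subgroup.center HH) = 2 := by
  classical
  rw [Nat.card_eq_two_iff]
  refine ⟨⟨1, Subgroup.one_mem _⟩, ⟨zz, (mem_center_iff' zz).mpr (Or.inr rfl)⟩, ?_, ?_⟩
  · intro h
    exact zz_ne_one (congrArg Subtype.val h).symm
  · ext ⟨g, hg⟩
    simp only [Set.mem_insert_iff, Set.mem_singleton_iff, Set.mem_univ, iff_true, Subtype.mk.injEq]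
    exact (mem_center_iff' g).mp hg

lemma zz_sq : zz * zz = 1 := by
  apply Subtype.ext
  apply Prod.ext
  · simp [zz]
  · simp [zz]

lemma ru_val (i j : Fin 8) (h : i ≠ j) : ((ru i j h : Aˣ) : A) = r i j := rfl

open Equiv in
lemma lift_two (i j k l : Fin 8) (hij : i ≠ j) (hkl : k ≠ l) (m : Fin 8) :
    (r i j * r k l) * t m = t ((swap i j * swap k l) m) * (r i j * r k l) := by
  rw [mul_assoc, r_mul_t k l hkl, mul_neg, ← mul_assoc, r_mul_t i j hij, neg_mul, neg_neg,
    Perm.coe_mul, Function.comp_apply, mul_assoc]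

lemma sq_r2 (i j k l : Fin 8) (hij : i ≠ j) (hkl : k ≠ l) (h1 : k ≠ i) (h2 : k ≠ j)
    (h3 : l ≠ i) (h4 : l ≠ j) : (r i j * r k l) * (r i j * r k l) = -1 := by
  rw [mul_assoc, ← mul_assoc (r k l), r_anti k l i j h1 h2 h3 h4, neg_mul, mul_neg, mul_assoc,
    r_sq k l hkl, mul_one, r_sq i j hij]

lemma HH_ext (g h : HH) (h1 : g.1.1 = h.1.1) (h2 : ((g.1.2 : Aˣ) : A) = ((h.1.2 : Aˣ) : A)) :
    g = h :=
  Subtype.ext (Prod.ext h1 (Units.ext h2))

/-- A lift of `(0 1)(2 3)`, with square the central involution. -/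
def xx : HH :=
  ⟨(Equiv.swap 0 1 * Equiv.swap 2 3, ru 0 1 (by decide) * ru 2 3 (by decide)), by decide, fun m => by
    rw [Units.val_mul, ru_val, ru_val]
    exact lift_two _ _ _ _ (by decide) (by decide) m⟩

/-- A lift of `(4 5)(6 7)`, with square the central involution. -/
def xx' : HH :=
  ⟨(Equiv.swap 4 5 * Equiv.swap 6 7, ru 4 5 (by decide) * ru 6 7 (by decide)), by decide, fun m => by
    rw [Units.val_mul, ru_val, ru_val]
    exact lift_two _ _ _ _ (by decide) (by decide) m⟩

lemma xx_val : ((xx.1.2 : Aˣ) : A) = r 0 1 * r 2 3 := rfl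

lemma xx'_val : ((xx'.1.2 : Aˣ) : A) = r 4 5 * r 6 7 := rfl

lemma zz_val : ((zz.1.2 : Aˣ) : A) = -1 := rfl

lemma mul_val (g h : HH) : (((g * h).1.2 : Aˣ) : A) = ((g.1.2 : Aˣ) : A) * ((h.1.2 : Aˣ) : A) := rfl

lemma xx_sq : xx * xx = zz := by
  apply HH_ext
  · change (Equiv.swap (0 : Fin 8) 1 * Equiv.swap 2 3) * (Equiv.swap (0 : Fin 8) 1 * Equiv.swap 2 3) = 1
    decide
  · rw [mul_val, xx_val, zz_val]
    exact sq_r2 _ _ _ _ (by decide) (by decide) (by decide) (by decide) (by decide) (by decide)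

lemma xx'_sq : xx' * xx' = zz := by
  apply HH_ext
  · change (Equiv.swap (4 : Fin 8) 5 * Equiv.swap 6 7) * (Equiv.swap (4 : Fin 8) 5 * Equiv.swap 6 7) = 1
    decide
  · rw [mul_val, xx'_val, zz_val]
    exact sq_r2 _ _ _ _ (by decide) (by decide) (by decide) (by decide) (by decide) (by decide)

lemma xx_comm : xx * xx' = xx' * xx := by
  apply HH_ext
  · change (Equiv.swap (0 : Fin 8) 1 * Equiv.swap 2 3) * (Equiv.swap (4 : Fin 8) 5 * Equiv.swap 6 7)
      = (Equiv.swap (4 : Fin 8) 5 * Equiv.swap 6 7) * (Equiv.swap (0 : Fin 8) 1 * Equiv.swap 2 3)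
    decide
  · rw [mul_val, mul_val, xx_val, xx'_val]
    have a1 := r_anti 0 1 4 5 (by decide) (by decide) (by decide) (by decide)
    have a2 := r_anti 0 1 6 7 (by decide) (by decide) (by decide) (by decide)
    have a3 := r_anti 2 3 4 5 (by decide) (by decide) (by decide) (by decide)
    have a4 := r_anti 2 3 6 7 (by decide) (by decide) (by decide) (by decide)
    calc r 0 1 * r 2 3 * (r 4 5 * r 6 7)
        = r 0 1 * (r 2 3 * r 4 5) * r 6 7 := by noncomm_ring
      _ = - ((r 0 1 * r 4 5) * r 2 3 * r 6 7) := by rw [a3]; noncomm_ring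
      _ = (r 4 5 * r 0 1) * (r 2 3 * r 6 7) := by rw [a1]; noncomm_ring
      _ = - (r 4 5 * (r 0 1 * r 6 7) * r 2 3) := by rw [a4]; noncomm_ring
      _ = r 4 5 * r 6 7 * (r 0 1 * r 2 3) := by rw [a2]; noncomm_ring

/-- The product `(0 1)(2 3)(4 5)(6 7)`. -/
def yy : HH := xx * xx'

lemma yy_sq : yy * yy = 1 := by
  have : yy * yy = (xx * xx) * (xx' * xx') := by
    change xx * xx' * (xx * xx') = _
    rw [mul_assoc, ← mul_assoc xx' xx, ← xx_comm]
    group
  rw [this, xx_sq, xx'_sq, zz_sq]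

lemma yy_perm : (yy.1.1 : Equiv.Perm (Fin 8)) ≠ 1 := by
  change (Equiv.swap (0 : Fin 8) 1 * Equiv.swap 2 3) * (Equiv.swap (4 : Fin 8) 5 * Equiv.swap 6 7) ≠ 1
  decide

lemma yy_ne_one : yy ≠ 1 := by
  intro h
  exact yy_perm (congrArg (fun g : HH => g.1.1) h)

lemma yy_ne_zz : zz ≠ yy := by
  intro h
  exact yy_perm (congrArg (fun g : HH => g.1.1) h).symm

lemma nonsplit (L : Subgroup HH) : ¬ (Subgroup.center HH).IsComplement' L := by
  intro hL
  obtain ⟨⟨c, l⟩, hcl⟩ := hL.2 xx
  have hcl' : (c : HH) * (l : HH) = xx := hcl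
  have hc : (c : HH) = 1 ∨ (c : HH) = zz := (mem_center_iff' _).mp c.2
  have hcc : (c : HH) * (c : HH) = 1 := by
    rcases hc with h | h <;> rw [h]
    · simp
    · exact zz_sq
  have hcz : ∀ g : HH, g * (c : HH) = (c : HH) * g := fun g => Subgroup.mem_center_iff.mp c.2 g
  have hz : (l : HH) * (l : HH) = zz := by
    rw [← xx_sq, ← hcl']
    calc (l : HH) * l = ((c : HH) * c) * (l * l) := by rw [hcc, one_mul]
      _ = c * (c * l) * l := by group
      _ = c * (l * c) * l := by rw [hcz]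
      _ = c * l * (c * l) := by group
  have hzL : zz ∈ L := hz ▸ L.mul_mem l.2 l.2
  have hzC : zz ∈ Subgroup.center HH := (mem_center_iff' _).mpr (Or.inr rfl)
  exact zz_ne_one (Subgroup.disjoint_def.mp hL.disjoint hzC hzL)

theorem part2 : ∃ (H : Type) (_ : Group H) (_ : Finite H),
    Cfsg.IsNonsplitDoubleCover H (alternatingGroup (Fin 8)) ∧
      ∃ x y : H, x ≠ y ∧ orderOf x = 2 ∧ orderOf y = 2 := by
  refine ⟨HH, inferInstance, inferInstance, ⟨card_center, ⟨?_⟩, nonsplit⟩, zz, yy, yy_ne_zz, ?_, ?_⟩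
  · exact (QuotientGroup.quotientMulEquivOfEq center_eq).trans
      (QuotientGroup.quotientKerEquivOfSurjective pr pr_surjective)
  · exact orderOf_eq_prime (p := 2) (by rw [pow_two, zz_sq]) zz_ne_one
  · exact orderOf_eq_prime (p := 2) (by rw [pow_two, yy_sq]) yy_ne_one


/-- Involutions in double covers of alternating groups: for n ≤ 7, a finite non-split double cover of the alternating group of degree n has exactly one element of order 2 (the central one); for degree 8 there is a non-split double cover with two distinct involutions. -/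
theorem result : (∀ (n : ℕ) (H : Type) (_ : Group H) (_ : Finite H), n ≤ 7 → Cfsg.IsNonsplitDoubleCover H (alternatingGroup (Fin n)) → ∀ x y : H, orderOf x = 2 → orderOf y = 2 → x = y) ∧ ∃ (H : Type) (_ : Group H) (_ : Finite H), Cfsg.IsNonsplitDoubleCover H (alternatingGroup (Fin 8)) ∧ ∃ x y : H, x ≠ y ∧ orderOf x = 2 ∧ orderOf y = 2 := by
  exact ⟨part1, part2⟩

end Cfsg.Agent.S0447
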