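import Mathlib
import Cfsg.Statements.S0460
import Cfsg.Agent.Lib.OnChk
import Cfsg.Agent.Lib.OnJ1
import Cfsg.Agent.Lib.OnM11
import Cfsg.Agent.TcData.ON.Fin

set_option autoImplicit false
set_option maxRecDepth 100000
open Cfsg

namespace Cfsg.Agent.S0460

open Cfsg.Spor Cfsg.Agent.Lib.TcBits Cfsg.Agent.Lib.TcPres Cfsg.Agent.Lib.PresEmb Cfsg.Agent.Lib.OnChk
open Cfsg.Agent.TcData.ON Cfsg.Agent.TcData.ON.I122760 Cfsg.Agent.TcData.ON.Fin

/-- the group -/
abbrev GO : Type := PresentedGroup RR

theorem fix_high (h : GO) : ∀ i, 122760 ≤ i → Phi h i = i := by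
  intro i hi
  have hH : (⊤ : Subgroup GO) ≤ (MulAction.stabilizer (Equiv.Perm ℕ) i).comap Phi := by
    rw [← PresentedGroup.closure_range_of, Subgroup.closure_le]
    rintro _ ⟨x, rfl⟩
    show Phi (PresentedGroup.of x) ∈ MulAction.stabilizer (Equiv.Perm ℕ) i
    rw [MulAction.mem_stabilizer_iff]
    have e : Phi (PresentedGroup.of x) = progPerm (pr x) := by
      simp [Phi, repOf, genPerm]
    rw [e]
    exact hab x i hi
  have := hH (Subgroup.mem_top h)
  exact this

theorem lt_of_lt (h : GO) (i : ℕ) (hi : i < 122760) : Phi h i < 122760 := by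
  by_contra hc
  have h1 := fix_high h (Phi h i) (by omega)
  have h2 := (Phi h).injective h1
  omega

/-- the action on the points -/
noncomputable def Psi : GO →* Equiv.Perm (Fin 122760) where
  toFun h :=
    { toFun := fun i => ⟨Phi h i.1, lt_of_lt h i.1 i.2⟩
      invFun := fun i => ⟨Phi h⁻¹ i.1, lt_of_lt h⁻¹ i.1 i.2⟩
      left_inv := fun i => by
        apply Fin.ext
        show Phi h⁻¹ (Phi h i.1) = i.1
        rw [← Equiv.Perm.mul_apply, ← map_mul]
        simp
      right_inv := fun i => by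
        apply Fin.ext
        show Phi h (Phi h⁻¹ i.1) = i.1
        rw [← Equiv.Perm.mul_apply, ← map_mul]
        simp }
  map_one' := by
    ext i
    simp
  map_mul' a b := by
    ext i
    simp

theorem Psi_apply (h : GO) (i : Fin 122760) : (Psi h i).val = Phi h i.val := rfl

theorem Psi_inj : Function.Injective Psi := by
  rw [injective_iff_map_eq_one]
  intro h hh
  apply main.2
  rw [map_one]
  ext i
  by_cases hi : i < 122760
  · have := congrArg (fun p => (p ⟨i, hi⟩ : Fin 122760).val) hh
    simpa [Psi_apply] using this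
  · simpa using fix_high h i (by omega)

/-- the group of permutations -/
noncomputable def HP : Subgroup (Equiv.Perm (Fin 122760)) := Psi.range

/-- the isomorphism -/
noncomputable def eP : GO ≃* HP := MonoidHom.ofInjective Psi_inj

theorem isON : Cfsg.IsON HP := by
  haveI := final.1
  exact ⟨eP.symm.isSimpleGroup, by rw [← Nat.card_congr eP.toEquiv, final.2]⟩

theorem trans : MulAction.IsPretransitive HP (Fin 122760) := by
  have key : ∀ y : Fin 122760, ∃ h : HP, h • (0 : Fin 122760) = y := by
    intro y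
    obtain ⟨g, hg⟩ := hs y.1 y.2
    refine ⟨⟨Psi g, g, rfl⟩, ?_⟩
    apply Fin.ext
    have e : ((⟨Psi g, g, rfl⟩ : HP) • (0 : Fin 122760)).val = Phi g (0 : Fin 122760).val := rfl
    rw [e, Fin.val_zero]
    exact hg
  refine ⟨fun x y => ?_⟩
  obtain ⟨h1, rfl⟩ := key x
  obtain ⟨h2, rfl⟩ := key y
  exact ⟨h2 * h1⁻¹, by simp [mul_smul]⟩

theorem card_stab : Nat.card (MulAction.stabilizer HP (0 : Fin 122760)) = 3753792 := by
  haveI := trans
  have h1 := Subgroup.card_mul_index (MulAction.stabilizer HP (0 : Fin 122760))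
  have h2 : (MulAction.stabilizer HP (0 : Fin 122760)).index = 122760 := by
    rw [MulAction.index_stabilizer, MulAction.orbit_eq_univ]
    simp [Set.ncard_univ]
  have h3 : Nat.card HP = 460815505920 := isON.2
  rw [h2, h3] at h1
  exact Nat.eq_of_mul_eq_mul_right (by norm_num : 0 < 122760) (h1.trans (by norm_num))

/-! ### the subgroups -/

/-- the Janko group -/
noncomputable def fJ : Cfsg.Agent.Lib.OnJ1.PJ →* GO :=
  PresentedGroup.toGroup (rels := _) (f := fun g => PresentedGroup.mk RR (FreeGroup.mk (AJ g))) (by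
    rintro r (⟨x, hx, y, hy, rfl⟩ | hr)
    · exact absurd hx (by simp [coxNodes, Cfsg.Agent.Lib.OJ1Pres.edges])
    · exact rel_of_slices hR hv main.2 AJ r (chkJ r hr))

/-- the Mathieu group -/
noncomputable def fM : Cfsg.Agent.Lib.OnM11.PM →* GO :=
  PresentedGroup.toGroup (rels := _) (f := fun g => PresentedGroup.mk RR (FreeGroup.mk (AM g))) (by
    rintro r (⟨x, hx, y, hy, rfl⟩ | hr)
    · exact absurd hx (by simp [coxNodes, Cfsg.Agent.Lib.OM11Pres.edges])
    · exact rel_of_slices hR hv main.2 AM r (chkM r hr))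

theorem fJ_ne : eP.toMonoidHom.comp fJ ≠ 1 := by
  intro h
  have h1 : fJ (PresentedGroup.of .y) = 1 := by
    apply eP.injective
    have := DFunLike.congr_fun h (PresentedGroup.of .y)
    simpa using this
  have h2 : fJ (PresentedGroup.of .y) = PresentedGroup.mk RR (FreeGroup.mk (AJ .y)) := by
    simp [fJ]
  rw [h2] at h1
  exact ne_one_of_slice hR hv (AJ .y) neJ h1

theorem fM_ne : eP.toMonoidHom.comp fM ≠ 1 := by
  intro h
  have h1 : fM (PresentedGroup.of .y) = 1 := by
    apply eP.injective
    have := DFunLike.congr_fun h (PresentedGroup.of .y)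
    simpa using this
  have h2 : fM (PresentedGroup.of .y) = PresentedGroup.mk RR (FreeGroup.mk (AM .y)) := by
    simp [fM]
  rw [h2] at h1
  exact ne_one_of_slice hR hv (AM .y) neM h1

/-- The O'Nan group exists as a transitive permutation group of degree 122760: simple of order 460815505920, point stabiliser of order 3753792, and containing simple subgroups of orders 175560 and 7920. -/
theorem result : ∃ H : Subgroup (Equiv.Perm (Fin 122760)), Cfsg.IsON H ∧ MulAction.IsPretransitive H (Fin 122760) ∧ Nat.card (MulAction.stabilizer H (0 : Fin 122760)) = 3753792 ∧ (∃ K : Subgroup H, Cfsg.IsJ1 K) ∧ (∃ K : Subgroup H, Cfsg.IsM11 K) :=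
  ⟨HP, isON, trans, card_stab, ⟨_, Cfsg.Agent.Lib.OnJ1.isJ1_range _ fJ_ne⟩,
    ⟨_, Cfsg.Agent.Lib.OnM11.isM11_range _ fM_ne⟩⟩

end Cfsg.Agent.S0460
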