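import Cfsg.Statements.S0496
import Cfsg.Agent.H87Ord.O720
import Cfsg.Agent.H87Ord.Sweep

set_option autoImplicit false
open Cfsg

namespace Cfsg.Agent.S0496
open Cfsg.Agent

/-- A non-abelian finite simple group of order at most 1092 has order 60, 168, 360, 504, 660 or 1092. -/
theorem result {G : Type*} [Group G] [Finite G] [IsSimpleGroup G]
    (hG : ¬ IsMulCommutative G) (h : Nat.card G ≤ 1092) :
    Nat.card G = 60 ∨ Nat.card G = 168 ∨ Nat.card G = 360 ∨ Nat.card G = 504 ∨ Nat.card G = 660 ∨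
      Nat.card G = 1092 := by
  have hn1 : ¬ Nat.card G ≤ 1 := by
    intro h1
    have h0 : 0 < Nat.card G := Nat.card_pos
    have hone : Nat.card G = 1 := by omega
    have hsub : Subsingleton G := (Nat.card_eq_one_iff_unique.1 hone).1
    exact not_subsingleton G hsub
  have hm := List.all_eq_true.1 H87Ord.sweep_1092 (Nat.card G) (List.mem_range.2 (by omega))
  simp only [Bool.or_eq_true, decide_eq_true_eq, beq_iff_eq] at hm
  rcases hm with ((((((((((h1 | h1) | h1) | h1) | h1) | h1) | h1) | h1) | h1) | h1) | h1) | h1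
  · exact absurd h1 hn1
  · exact Or.inl h1
  · exact Or.inr (Or.inl h1)
  · exact Or.inr (Or.inr (Or.inl h1))
  · exact Or.inr (Or.inr (Or.inr (Or.inl h1)))
  · exact Or.inr (Or.inr (Or.inr (Or.inr (Or.inl h1))))
  · exact absurd h1 (H87Ord.card_ne_720 hG)
  · exact absurd h1 (H87Ord.card_ne_756 hG)
  · exact absurd h1 (H87Ord.card_ne_1008 hG)
  · exact absurd h1 (H87Ord.card_ne_1080 hG)
  · exact Or.inr (Or.inr (Or.inr (Or.inr (Or.inr h1))))
  · exact (H87Ord.sieve_sound hG h1).elim

end Cfsg.Agent.S0496
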