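import Mathlib
import Cfsg.Agent.S0536
import Cfsg.Agent.S0042
import Cfsg.Agent.Lib.FrobeniusThm
import Cfsg.Agent.Lib.SuperSolv2
import Cfsg.Agent.Lib.Frobenius
-- Template for statement S0556 (row 556; see /opt/grader/pristine/manifest.json for weights).
-- Copy to Cfsg/Agent/S0556.lean and replace the sorry. The statement below is byte-identical to the frozen
-- statement Cfsg.CfsgFrozen.S0556 (Cfsg/Statements/S0556.lean; the theorem Cfsg.abelian_maximal_subgroup_third_derived_trivial);
-- the grader kernel-checks Cfsg.Agent.S0556.result against that frozen type. Keep the theorem IN THIS FILE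
-- (a `result` declared elsewhere and merely imported here is not credited); helpers may live anywhere
-- under Cfsg/Agent/.
import Cfsg.Statements.S0556
-- import your own Cfsg.Agent.* helpers here

set_option autoImplicit false
set_option linter.style.haveILetI false
open Cfsg

namespace Cfsg.Agent.S0556

open Subgroup
open scoped Pointwise commutatorElement

variable {G : Type*} [Group G]

theorem comm_of_mem (H : Subgroup G) (hH : IsMulCommutative H) {a b : G} (ha : a ∈ H)
    (hb : b ∈ H) : a * b = b * a := by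
  have := hH.is_comm.comm ⟨a, ha⟩ ⟨b, hb⟩
  exact congrArg Subtype.val this

theorem commutator_eq_bot_of_comm (L : Subgroup G) (hL : ∀ a ∈ L, ∀ b ∈ L, a * b = b * a) :
    ⁅L, L⁆ = ⊥ := by
  rw [eq_bot_iff, Subgroup.commutator_le]
  intro a ha b hb
  rw [Subgroup.mem_bot, commutatorElement_eq_one_iff_mul_comm]
  exact hL a ha b hb

theorem derived_three_of_le_comm (L : Subgroup G) (hL : ∀ a ∈ L, ∀ b ∈ L, a * b = b * a)
    (h : derivedSeries G 2 ≤ L) : derivedSeries G 3 = ⊥ := by
  have h1 : derivedSeries G 3 = ⁅derivedSeries G 2, derivedSeries G 2⁆ := rfl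
  rw [h1, eq_bot_iff, ← commutator_eq_bot_of_comm L hL]
  exact Subgroup.commutator_mono h h

theorem derived_two_of_le_comm (L : Subgroup G) (hL : ∀ a ∈ L, ∀ b ∈ L, a * b = b * a)
    (h : commutator G ≤ L) : derivedSeries G 2 = ⊥ := by
  have h0 : derivedSeries G 1 = commutator G := derivedSeries_one G
  have h1 : derivedSeries G 2 = ⁅derivedSeries G 1, derivedSeries G 1⁆ := rfl
  rw [h1, h0, eq_bot_iff, ← commutator_eq_bot_of_comm L hL]
  exact Subgroup.commutator_mono h h

/-- The normal case. -/
theorem normal_case [Finite G] (A : Subgroup G) (hA : IsCoatom A) (hab : IsMulCommutative A)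
    [A.Normal] : derivedSeries G 2 = ⊥ := by
  apply derived_two_of_le_comm A (fun a ha b hb => comm_of_mem A hab ha hb)
  rw [← Subgroup.Normal.quotient_commutative_iff_commutator_le]
  have hp : (Nat.card (G ⧸ A)).Prime := Cfsg.Agent.S0536.index_prime_of_normal_coatom A hA
  haveI : Fact (Nat.card (G ⧸ A)).Prime := ⟨hp⟩
  haveI : IsCyclic (G ⧸ A) := isCyclic_of_prime_card rfl
  exact ⟨⟨fun a b => (IsCyclic.commGroup (α := G ⧸ A)).mul_comm a b⟩⟩

theorem mem_normalizer_of_conj_le [Finite G] {A : Subgroup G} {g : G}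
    (h : MulAut.conj g • A ≤ A) : g ∈ normalizer (A : Set G) := by
  have hc : Nat.card (MulAut.conj g • A : Subgroup G) = Nat.card A := by
    exact Nat.card_congr (Subgroup.equivSMul (MulAut.conj g) A).symm.toEquiv
  have heq : MulAut.conj g • A = A := Subgroup.eq_of_le_of_card_ge h (by rw [hc])
  rw [Subgroup.mem_normalizer_iff]
  intro x
  constructor
  · intro hx
    have : g * x * g⁻¹ ∈ MulAut.conj g • A := by
      rw [Cfsg.Agent.Lib.Frobenius.mem_conj_iff]
      have : g⁻¹ * (g * x * g⁻¹) * g = x := by group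
      rwa [this]
    exact h this
  · intro hx
    rw [← heq] at hx
    rw [Cfsg.Agent.Lib.Frobenius.mem_conj_iff] at hx
    have e : g⁻¹ * (g * x * g⁻¹) * g = x := by group
    rwa [e] at hx

/-- In the non-normal case the intersection with a conjugate is central. -/
theorem inf_conj_le_center [Finite G] (A : Subgroup G) (hA : IsCoatom A) (hab : IsMulCommutative A)
    (hnn : normalizer (A : Set G) = A) {g x : G} (hg : g ∉ A) (hx : x ∈ A)
    (hx' : g⁻¹ * x * g ∈ A) : x ∈ center G := by
  have hCA : A ≤ centralizer {x} := by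
    intro y hy
    rw [mem_centralizer_singleton_iff]
    exact comm_of_mem A hab hy hx
  have hCg : MulAut.conj g • A ≤ centralizer {x} := by
    intro y hy
    rw [Cfsg.Agent.Lib.Frobenius.mem_conj_iff] at hy
    rw [mem_centralizer_singleton_iff]
    have h1 := comm_of_mem A hab hy hx'
    have h2 : g * ((g⁻¹ * y * g) * (g⁻¹ * x * g)) * g⁻¹ = g * ((g⁻¹ * x * g) * (g⁻¹ * y * g)) * g⁻¹ := by
      rw [h1]
    have h3 : g * ((g⁻¹ * y * g) * (g⁻¹ * x * g)) * g⁻¹ = y * x := by group
    have h4 : g * ((g⁻¹ * x * g) * (g⁻¹ * y * g)) * g⁻¹ = x * y := by group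
    rw [h3, h4] at h2
    exact h2
  have hCtop : centralizer {x} = ⊤ := by
    by_contra hne
    have h1 : centralizer {x} = A := by
      by_contra hne2
      exact hne (hA.2 _ (lt_of_le_of_ne hCA (Ne.symm hne2)))
    rw [h1] at hCg
    have h2 := mem_normalizer_of_conj_le hCg
    rw [hnn] at h2
    exact hg h2
  rw [Subgroup.mem_center_iff]
  intro y
  have : y ∈ centralizer {x} := hCtop ▸ mem_top y
  rw [mem_centralizer_singleton_iff] at this
  exact this

/-- A Frobenius group with nilpotent kernel and an abelian maximal complement has abelian kernel. -/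
theorem frob_case {H : Type*} [Group H] [Finite H] (B : Subgroup H) (hB : IsCoatom B)
    (hab : IsMulCommutative B) (hF : Cfsg.IsFrobeniusComplement B) : derivedSeries H 2 = ⊥ := by
  obtain ⟨N, hN1, hNn, hNc⟩ := Cfsg.Agent.Lib.FrobeniusThm.exists_kernel_subgroup hF
  obtain ⟨N', hN1', _, hNil⟩ := Cfsg.Agent.S0042.result B hF
  have hNN' : N' = N := SetLike.coe_injective (hN1'.trans hN1.symm)
  rw [hNN'] at hNil
  haveI := hNn
  haveI := hNil
  have hinf : N ⊓ B = ⊥ := hNc.disjoint.eq_bot
  have hsup : N ⊔ B = ⊤ := hNc.sup_eq_top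
  have hNbot : N ≠ ⊥ := by
    rintro rfl
    rw [bot_sup_eq] at hsup
    exact hB.1 hsup
  haveI hNnt : Nontrivial N := (Subgroup.nontrivial_iff_ne_bot N).2 hNbot
  set C : Subgroup H := (center N).map N.subtype with hCdef
  haveI hCn : C.Normal :=
    Cfsg.Agent.Lib.SuperSolv2.normal_map_subtype_of_characteristic N (center N)
  have hCN : C ≤ N := Subgroup.map_subtype_le _
  have hCbot : C ≠ ⊥ := by
    intro h
    have h1 := Group.IsNilpotent.center_ne_bot (G := N)
    apply h1
    rw [hCdef] at h
    exact (Subgroup.map_eq_bot_iff_of_injective _ N.subtype_injective).1 h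
  have hCB : C ⊔ B = ⊤ := by
    apply hB.2
    refine lt_of_le_of_ne le_sup_right ?_
    intro h
    have h1 : C ≤ B := by
      rw [h]
      exact le_sup_left
    apply hCbot
    rw [eq_bot_iff, ← hinf]
    exact le_inf hCN h1
  have hNC : N ≤ C := by
    intro x hx
    have hu : x ∈ C ⊔ B := hCB ▸ mem_top _
    rw [← SetLike.mem_coe, Subgroup.normal_mul] at hu
    obtain ⟨c, hc, b, hb, hcb⟩ := Set.mem_mul.mp hu
    have hbN : b ∈ N := by
      have : b = c⁻¹ * x := by rw [← hcb]; group
      rw [this]
      exact N.mul_mem (N.inv_mem (hCN hc)) hx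
    have hb1 : b = 1 := by
      have : b ∈ N ⊓ B := ⟨hbN, hb⟩
      rw [hinf, Subgroup.mem_bot] at this
      exact this
    rw [hb1, mul_one] at hcb
    rw [← hcb]
    exact hc
  have hNab : ∀ a ∈ N, ∀ b ∈ N, a * b = b * a := by
    intro a ha b hb
    obtain ⟨z, hz, rfl⟩ := hNC ha
    have := Subgroup.mem_center_iff.1 hz ⟨b, hb⟩
    exact (congrArg Subtype.val this).symm
  apply derived_two_of_le_comm N hNab
  rw [← Subgroup.Normal.quotient_commutative_iff_commutator_le]
  refine ⟨⟨fun x y => ?_⟩⟩
  obtain ⟨x, rfl⟩ := QuotientGroup.mk_surjective x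
  obtain ⟨y, rfl⟩ := QuotientGroup.mk_surjective y
  have hdec : ∀ u : H, ∃ b ∈ B, (u : H ⧸ N) = (b : H ⧸ N) := by
    intro u
    have hu : u ∈ N ⊔ B := hsup ▸ mem_top _
    rw [← SetLike.mem_coe, Subgroup.normal_mul] at hu
    obtain ⟨n, hn, b, hb, hnb⟩ := Set.mem_mul.mp hu
    refine ⟨b, hb, ?_⟩
    rw [QuotientGroup.eq]
    rw [← hnb]
    have : (n * b)⁻¹ * b = b⁻¹ * n⁻¹ * b := by group
    rw [this]
    have h1 := hNn.conj_mem n⁻¹ (N.inv_mem hn) b⁻¹
    simpa using h1
  obtain ⟨b1, hb1, h1⟩ := hdec x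
  obtain ⟨b2, hb2, h2⟩ := hdec y
  rw [h1, h2, ← QuotientGroup.mk_mul, ← QuotientGroup.mk_mul, comm_of_mem B hab hb1 hb2]


/-- If a finite group has a maximal subgroup that is abelian, then the third term of its derived series is trivial (so the group is solvable of derived length at most three). -/
theorem result {G : Type*} [Group G] [Finite G] (A : Subgroup G) (hA : IsCoatom A) [IsMulCommutative A] : derivedSeries G 3 = ⊥ := by
  classical
  by_cases hn : A.Normal
  · have h2 := normal_case A hA inferInstance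
    refine derived_three_of_le_comm ⊥ ?_ (by rw [h2])
    intro a ha b hb
    rw [Subgroup.mem_bot] at ha hb
    rw [ha, hb]
  have habA : IsMulCommutative A := inferInstance
  have hAc : ∀ a ∈ A, ∀ b ∈ A, a * b = b * a := fun a ha b hb => comm_of_mem A habA ha hb
  have hnn : normalizer (A : Set G) = A := by
    by_contra hne
    have h1 := hA.2 _ (lt_of_le_of_ne (Subgroup.le_normalizer) (Ne.symm hne))
    exact hn (Subgroup.normalizer_eq_top_iff.1 h1)
  have hZA : center G ≤ A := by
    intro z hz
    rw [← hnn, Subgroup.mem_normalizer_iff]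
    intro x
    have hzx := Subgroup.mem_center_iff.1 hz x
    have : z * x * z⁻¹ = x := by rw [← hzx]; group
    rw [this]
  set Z := center G with hZ
  set q := QuotientGroup.mk' Z with hq
  have hqs : Function.Surjective q := QuotientGroup.mk'_surjective Z
  set B : Subgroup (G ⧸ Z) := A.map q with hBdef
  have hBc : IsCoatom B := Cfsg.Agent.Lib.SuperSolv2.isCoatom_map_mk hA hZA
  have hqmem : ∀ g : G, q g ∈ B → g ∈ A := by
    intro g hg
    obtain ⟨a, ha, hag⟩ := hg
    have h1 : a⁻¹ * g ∈ Z := by
      rw [← QuotientGroup.ker_mk' Z, MonoidHom.mem_ker]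
      change q (a⁻¹ * g) = 1
      rw [map_mul, map_inv, hag, inv_mul_cancel]
    have h2 : g = a * (a⁻¹ * g) := by group
    rw [h2]
    exact A.mul_mem ha (hZA h1)
  have hBab : IsMulCommutative B := by
    refine ⟨⟨fun x y => ?_⟩⟩
    obtain ⟨x, a, ha, hax⟩ := x
    obtain ⟨y, b, hb, hby⟩ := y
    apply Subtype.ext
    change x * y = y * x
    rw [← hax, ← hby, ← map_mul, ← map_mul, hAc a ha b hb]
  have hF : Cfsg.IsFrobeniusComplement B := by
    refine ⟨?_, hBc.1, ?_⟩
    · intro hbot
      apply hn
      have h1 : A ≤ Z := by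
        intro a ha
        have : q a ∈ B := ⟨a, ha, rfl⟩
        rw [hbot, Subgroup.mem_bot] at this
        rw [← QuotientGroup.ker_mk' Z, MonoidHom.mem_ker]
        exact this
      have h2 : A = Z := le_antisymm h1 hZA
      rw [h2]
      exact inferInstance
    · intro h hh
      obtain ⟨g, rfl⟩ := hqs h
      have hg : g ∉ A := by
        intro hg
        exact hh ⟨g, hg, rfl⟩
      rw [eq_bot_iff]
      intro y hy
      obtain ⟨hy1, hy2⟩ := Subgroup.mem_inf.1 hy
      rw [Cfsg.Agent.Lib.Frobenius.mem_conj_iff] at hy2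
      obtain ⟨a, ha, rfl⟩ := hy1
      have h1 : q (g⁻¹ * a * g) ∈ B := by
        rw [map_mul, map_mul, map_inv]
        exact hy2
      have h2 := hqmem _ h1
      have h3 := inf_conj_le_center A hA habA hnn hg ha h2
      rw [Subgroup.mem_bot]
      have h4 : a ∈ q.ker := by rwa [QuotientGroup.ker_mk' Z]
      exact h4
  have h2 := frob_case B hBc hBab hF
  have h3 : derivedSeries G 2 ≤ Z := by
    have h4 : (derivedSeries G 2).map q = derivedSeries (G ⧸ Z) 2 := map_derivedSeries_eq hqs 2
    rw [h2] at h4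
    rw [← QuotientGroup.ker_mk' Z]
    intro x hx
    have : q x ∈ (derivedSeries G 2).map q := ⟨x, hx, rfl⟩
    rw [h4, Subgroup.mem_bot] at this
    exact this
  refine derived_three_of_le_comm Z ?_ h3
  intro a ha b _
  exact (Subgroup.mem_center_iff.1 ha b).symm

end Cfsg.Agent.S0556
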