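import Cfsg.Statements.S0638
import Mathlib
import Cfsg.Agent.Lib.OmegaCyc2
import Cfsg.Agent.Lib.PSolv
import Cfsg.Agent.Lib.OddPGroup

set_option autoImplicit false
open Cfsg

namespace Cfsg.Agent.S0638

universe u

theorem main {R : Type u} [Group R] [Finite R] {p : ℕ} [Fact p.Prime] (hp : p ≠ 2) (hR : IsPGroup p R)
    (hm : Cfsg.IsMetacyclic R) (hnc : ¬ IsCyclic R) :
    ∃ A : Subgroup R, (∀ x, x ∈ A ↔ x ^ p = 1) ∧ (∀ x ∈ A, ∀ y ∈ A, x * y = y * x) ∧ Nat.card A = p ^ 2 := by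
  classical
  have hpp : p.Prime := Fact.out
  let ℳ : Set (Subgroup R) := {N | IsCyclic N ∧ ∃ _ : N.Normal, IsCyclic (R ⧸ N)}
  obtain ⟨N₀, hN₀n, hN₀c, hN₀q⟩ := hm
  have hN₀ : N₀ ∈ ℳ := ⟨hN₀c, hN₀n, hN₀q⟩
  obtain ⟨N, hN⟩ := (Set.toFinite ℳ).exists_maximal ⟨N₀, hN₀⟩
  obtain ⟨hNc, hNn, hNq⟩ := hN.prop
  have hNne : N ≠ ⊤ := by
    rintro rfl
    apply hnc
    exact isCyclic_of_surjective (Subgroup.topEquiv : (⊤ : Subgroup R) ≃* R).toMonoidHom
      (Subgroup.topEquiv : (⊤ : Subgroup R) ≃* R).surjective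
  let π := QuotientGroup.mk' N
  have hπ : Function.Surjective π := QuotientGroup.mk'_surjective N
  have hQ : IsPGroup p (R ⧸ N) := hR.of_surjective π hπ
  have hdvd : p ∣ Nat.card (R ⧸ N) := by
    obtain ⟨k, hk⟩ := IsPGroup.iff_card.mp hQ
    rcases k with _ | k
    · exfalso
      apply hNne
      rw [pow_zero] at hk
      have : N.index = 1 := hk
      exact Subgroup.index_eq_one.mp this
    · rw [hk]
      exact dvd_pow_self p (Nat.succ_ne_zero k)
  obtain ⟨w, hw⟩ := exists_prime_orderOf_dvd_card' (G := R ⧸ N) p hdvd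
  have hcomm : ∀ a b : R ⧸ N, a * b = b * a := fun a b => hNq.isMulCommutative.is_comm.comm a b
  let T : Subgroup R := (Subgroup.zpowers w).comap π
  have hTn : T.Normal := by
    constructor
    intro x hx g
    rw [Subgroup.mem_comap] at hx ⊢
    have : π (g * x * g⁻¹) = π x := by
      rw [map_mul, map_mul, map_inv, hcomm (π g) (π x), mul_inv_cancel_right]
    rwa [this]
  have hNT : N ≤ T := by
    intro x hx
    have : π x = 1 := by simpa [π] using hx
    rw [Subgroup.mem_comap, this]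
    exact one_mem _
  have hcardT : Nat.card T = p * Nat.card N := by
    have := Cfsg.Agent.Lib.PSolv.card_comap_of_surjective π hπ (Subgroup.zpowers w)
    rw [Nat.card_zpowers, hw, QuotientGroup.ker_mk'] at this
    exact this
  have hNeT : N ≠ T := by
    intro h
    have h1 : Nat.card N = p * Nat.card N := by
      conv_lhs => rw [h]
      exact hcardT
    have h2 : 0 < Nat.card N := Nat.card_pos
    have h3 := hpp.two_le
    nlinarith
  have hTq : IsCyclic (R ⧸ T) := by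
    refine isCyclic_of_surjective (QuotientGroup.map N T (MonoidHom.id R) hNT) ?_
    intro y
    obtain ⟨r, rfl⟩ := QuotientGroup.mk_surjective y
    exact ⟨(r : R ⧸ N), rfl⟩
  have hTnc : ¬ IsCyclic T := by
    intro hc
    have hTm : T ∈ ℳ := ⟨hc, hTn, hTq⟩
    exact hNeT (le_antisymm hNT (hN.le_of_ge hTm hNT))
  have hi : N.relIndex T = p := by
    have h1 := Subgroup.card_mul_index (N.subgroupOf T)
    have h2 : Nat.card (N.subgroupOf T) = Nat.card N :=
      Nat.card_congr (Subgroup.subgroupOfEquivOfLe hNT).toEquiv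
    rw [h2, hcardT, mul_comm p] at h1
    exact Nat.eq_of_mul_eq_mul_left Nat.card_pos h1
  obtain ⟨A, hA1, hA2, hA3⟩ := Cfsg.Agent.Lib.OmegaCyc2.omega_of_relIndex hp hR T N hNT hNc hi hTnc
  refine ⟨A, ?_, hA2, hA3⟩
  intro x
  rw [hA1]
  refine ⟨fun h => h.2, fun hx => ⟨?_, hx⟩⟩
  -- `π x` has order dividing `p` in a cyclic group, so lies in `⟨w⟩`
  rw [Subgroup.mem_comap]
  have hx' : (π x) ^ p = 1 := by rw [← map_pow, hx, map_one]
  rcases (Nat.dvd_prime hpp).mp (orderOf_dvd_of_pow_eq_one hx') with h | h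
  · rw [orderOf_eq_one_iff] at h
    rw [h]
    exact one_mem _
  · have : Subgroup.zpowers (π x) = Subgroup.zpowers w :=
      Cfsg.Agent.Lib.OddPGroup.eq_of_card_of_isCyclic (by rw [Nat.card_zpowers, Nat.card_zpowers, h, hw])
    rw [← this]
    exact Subgroup.mem_zpowers _


/-- For odd p, in a non-cyclic metacyclic p-group the elements of order dividing p generate an elementary abelian subgroup of order p². -/
theorem result {R : Type*} [Group R] [Finite R] {p : ℕ} [Fact p.Prime] (hp : p ≠ 2) (hR : IsPGroup p R) (hm : Cfsg.IsMetacyclic R) (hnc : ¬ IsCyclic R) : Cfsg.IsElementaryAbelian p (Cfsg.omegaOne p (⊤ : Subgroup R)) ∧ Nat.card ↥(Cfsg.omegaOne p (⊤ : Subgroup R)) = p ^ 2 := by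
  obtain ⟨A, h1, h2, h3⟩ := main hp hR hm hnc
  have hAeq : Cfsg.omegaOne p (⊤ : Subgroup R) = A := by
    apply le_antisymm
    · unfold Cfsg.omegaOne
      rw [Subgroup.closure_le]
      intro x hx
      exact (h1 x).2 hx.2
    · intro x hx
      exact Subgroup.subset_closure ⟨trivial, (h1 x).1 hx⟩
  rw [hAeq]
  exact ⟨⟨⟨⟨fun a b => Subtype.ext (h2 a a.2 b b.2)⟩⟩, fun a ha => (h1 a).1 ha⟩, h3⟩

end Cfsg.Agent.S0638
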