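import Mathlib
import Cfsg.Statements.S0652
import Cfsg.Agent.Lib.ZJCore

set_option autoImplicit false
open Cfsg

namespace Cfsg.Agent.S0652

/-- For odd p and D normal in the p-group S, the elementary abelian subgroups of D of largest order satisfy the replacement property for class-2 normal subgroups of S. -/
theorem result {S : Type*} [Group S] [Finite S] {p : ℕ} [Fact p.Prime] (hS : IsPGroup p S) (hp : p ≠ 2) (D : Subgroup S) [D.Normal] : ∀ (B : Subgroup S) [B.Normal], ⁅⁅B, B⁆, B⁆ = ⊥ → (∃ U ∈ (Set.image (fun A : Subgroup ↥D => A.map D.subtype) (Cfsg.maxElementaryAbelianSubgroups p ↥D)), ⁅B, B⁆ ≤ U ∧ ¬ B ≤ U) → ∃ A ∈ (Set.image (fun A : Subgroup ↥D => A.map D.subtype) (Cfsg.maxElementaryAbelianSubgroups p ↥D)), ⁅B, B⁆ ≤ A ∧ ¬ B ≤ A ∧ B ≤ Subgroup.normalizer (A : Set S) := by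
  intro B _ _ hex
  obtain ⟨U, hU, h1, h2⟩ := hex
  refine Cfsg.Agent.Lib.ZJCore.replacement_general hS hp _ ?_ ?_ B U hU h1 h2
  · rintro _ ⟨A, hA, rfl⟩
    have := hA.1.1
    exact ⟨⟨fun x y => by
      obtain ⟨x, a, ha, rfl⟩ := x
      obtain ⟨y, b, hb, rfl⟩ := y
      apply Subtype.ext
      show ((a : D) : S) * (b : D) = (b : D) * (a : D)
      have := congrArg (fun t : A => ((t : D) : S)) (mul_comm' (⟨a, ha⟩ : A) ⟨b, hb⟩)
      exact this⟩⟩
  · rintro _ ⟨A, hA, rfl⟩ b T hT hcard hcomm hexp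
    -- T ≤ D
    have hAD : A.map D.subtype ≤ D := Subgroup.map_subtype_le _
    have hTD : T ≤ D := by
      rw [hT]
      apply sup_le
      · exact inf_le_left.trans hAD
      · rw [Subgroup.closure_le]
        rintro _ ⟨a, ha, rfl⟩
        have haD := hAD ha
        have h3 : b⁻¹ * a⁻¹ * b ∈ D := by
          have := (inferInstance : D.Normal).conj_mem a⁻¹ (D.inv_mem haD) b⁻¹
          simpa using this
        have h4 : a * b⁻¹ * a⁻¹ * b = a * (b⁻¹ * a⁻¹ * b) := by group
        rw [SetLike.mem_coe, h4]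
        exact D.mul_mem haD h3
    have hexpA : Monoid.exponent ↥(A.map D.subtype) ∣ p := by
      apply Monoid.exponent_dvd_of_forall_pow_eq_one
      rintro ⟨_, a, ha, rfl⟩
      apply Subtype.ext
      show ((a : D) : S) ^ p = 1
      have := hA.1.2 a ha
      exact congrArg (fun t : D => (t : S)) this
    have hTexp : ∀ t ∈ T, t ^ p = 1 := by
      intro t ht
      have h5 : (⟨t, ht⟩ : T) ^ p = 1 :=
        Monoid.exponent_dvd_iff_forall_pow_eq_one.mp (hexp.trans hexpA) _
      exact congrArg Subtype.val h5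
    refine ⟨T.subgroupOf D, ⟨⟨?_, ?_⟩, ?_⟩, Subgroup.map_subgroupOf_eq_of_le hTD⟩
    · exact ⟨⟨fun x y => by
        apply Subtype.ext
        apply Subtype.ext
        show ((x : D) : S) * ((y : D) : S) = ((y : D) : S) * ((x : D) : S)
        exact congrArg Subtype.val (mul_comm' (⟨((x : D) : S), x.2⟩ : T) ⟨((y : D) : S), y.2⟩)⟩⟩
    · intro a ha
      apply Subtype.ext
      exact hTexp _ ha
    · intro C hC
      have h5 := hA.2 C hC
      have h6 : Nat.card (T.subgroupOf D) = Nat.card T :=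
        Nat.card_congr (Subgroup.subgroupOfEquivOfLe hTD).toEquiv
      have h7 : Nat.card ↥(A.map D.subtype) = Nat.card A :=
        Subgroup.card_map_of_injective D.subtype_injective
      rw [h6, hcard, h7]
      exact h5

end Cfsg.Agent.S0652
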