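-- Statement S0657
import Mathlib
import Cfsg.Agent.Lib.QuadP
import Cfsg.Statements.S0657

set_option autoImplicit false
open Cfsg

namespace Cfsg.Agent.S0657

/-- For odd p, a group that fails to be p-stable modulo its largest normal subgroup of order prime to p, and whose upper p-series does not stop there, has a section isomorphic to SL(2, p). -/
theorem result {G : Type*} [Group G] [Finite G] {p : ℕ} [Fact p.Prime] (hp : p ≠ 2) (hO : Cfsg.pPrimeCore p G < Cfsg.pPrimePCore p G) (hns : ¬ Cfsg.IsPStable p (G ⧸ Cfsg.pPrimeCore p G)) : ∃ (K L : Subgroup G) (hL : (L.subgroupOf K).Normal), K ≤ ⊤ ∧ Nonempty ((K ⧸ L.subgroupOf K) ≃* Matrix.SpecialLinearGroup (Fin 2) (ZMod p)) := by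
  classical
  have hp_odd : Odd p := (Fact.out : p.Prime).odd_of_ne_two hp
  by_contra hfree
  apply hns
  refine ⟨hp_odd, ?_, ?_⟩
  · intro hb
    have h1 : Cfsg.pPrimePCore p G = Cfsg.pPrimeCore p G := by
      unfold Cfsg.pPrimePCore
      rw [hb, MonoidHom.comap_bot, QuotientGroup.ker_mk']
    exact hO.ne h1.symm
  · intro A P hA hP hAP _ _ hq x hx
    obtain ⟨a, ha, rfl⟩ := hx
    have haA : (a : G ⧸ Cfsg.pPrimeCore p G) ∈ A := Subgroup.mem_subgroupOf.mp ha
    have hq' : ⁅⁅P, Subgroup.zpowers (a : G ⧸ Cfsg.pPrimeCore p G)⁆, Subgroup.zpowers (a : G ⧸ Cfsg.pPrimeCore p G)⁆ = ⊥ := by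
      rw [eq_bot_iff, ← hq]
      have h1 : Subgroup.zpowers (a : G ⧸ Cfsg.pPrimeCore p G) ≤ A := by
        rwa [Subgroup.zpowers_le]
      exact Subgroup.commutator_mono (Subgroup.commutator_mono le_rfl h1) h1
    rcases Cfsg.Agent.Lib.QuadP.normalizer_or_involves hp P hP a a.2 hq' with h1 | h1
    · exact h1
    · exfalso
      apply hfree
      have h2 := Cfsg.Agent.Lib.InvolvesAPI.Involves.trans
        (Cfsg.Agent.Lib.InvolvesAPI.Involves.trans h1 (Cfsg.Agent.Lib.QuadP.involves_of_subgroup _))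
        (Cfsg.Agent.Lib.QuadP.involves_of_quot (Cfsg.pPrimeCore p G))
      obtain ⟨K, L, hL, ⟨e⟩⟩ := h2
      exact ⟨K, L, hL, le_top, ⟨e⟩⟩

end Cfsg.Agent.S0657
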