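import Mathlib
import Cfsg.Agent.Lib.QdFree
import Cfsg.Statements.S0664
-- import your own Cfsg.Agent.* helpers here

set_option autoImplicit false
open Cfsg

namespace Cfsg.Agent.S0664



/-- Glauberman's ZJ-Theorem in its section-free form: for odd p, a finite group with no section isomorphic to Qd(p) whose largest normal p-subgroup contains its centralizer has Z(J(S)) normal, J(S) the abelian-version Thompson subgroup of a Sylow p-subgroup S. -/
theorem result {G : Type*} [Group G] [Finite G] {p : ℕ} [Fact p.Prime] (hp : p ≠ 2) (hfree : ¬ ∃ (K R : Subgroup G) (hR : (R.subgroupOf K).Normal), Nonempty ((K ⧸ R.subgroupOf K) ≃* ↥(Cfsg.qd p))) (hc : Subgroup.centralizer (Cfsg.pCore p G : Set G) ≤ Cfsg.pCore p G) (S : Sylow p G) : (Cfsg.centerThompsonAOf ((S : Subgroup G))).Normal := by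
  classical
  have hfree' : ¬ Cfsg.Involves ↥(Cfsg.qd p) G := hfree
  have hst := Cfsg.Agent.Lib.QdFree.stable_of_free hp hfree'
  have hcon : Cfsg.IsPConstrained p G := Cfsg.Agent.Lib.PConstr63.isPConstrained_of_charC hc
  have hb : Cfsg.pPrimeCore p G = ⊥ := Cfsg.Agent.Lib.PConstr63.pPrimeCore_eq_bot_of_charC hc
  have hSC : Cfsg.IsStronglyClosed (S : Subgroup G) (S : Subgroup G) := ⟨le_rfl, fun x hx k hk => hk⟩
  constructor
  intro n hn g
  obtain ⟨o, ho, h1⟩ := Cfsg.Agent.Lib.ZJControl.zj_mod hp 0 S (S : Subgroup G) hSC hst hcon g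
  rw [hb, Subgroup.mem_bot] at ho
  subst ho
  rw [one_mul, Cfsg.Agent.Lib.ZJControl.WW_zero_eq] at h1
  exact (Subgroup.mem_normalizer_iff.mp h1 n).mp hn

end Cfsg.Agent.S0664
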