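import Cfsg.Statements.S0690
import Cfsg.Agent.Lib.ZPerfH
import Cfsg.Agent.Lib.Kegel

set_option autoImplicit false
set_option linter.style.haveILetI false
open Cfsg

namespace Cfsg.Agent.S0690

/-- Zassenhaus: a perfect non-trivial group of fixed-point-free automorphisms of a finite group is isomorphic to `SL(2,5)`. -/
theorem result {K : Type*} [Group K] [Finite K] (G : Subgroup (MulAut K)) (hfpf : ∀ φ ∈ G, φ ≠ 1 → ∀ k : K, φ k = k → k = 1) (hperf : commutator G = ⊤) (hne : G ≠ ⊥) : Nonempty (G ≃* Matrix.SpecialLinearGroup (Fin 2) (ZMod 5)) := by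
  classical
  haveI hGnt : Nontrivial G := (Subgroup.nontrivial_iff_ne_bot G).mpr hne
  have hcard : Nat.card G ≠ 1 := by
    intro h
    obtain ⟨g, hg⟩ := exists_ne (1 : G)
    exact hg ((Nat.card_eq_one_iff_unique.mp h).1.elim _ _)
  obtain ⟨q, hq, hqd⟩ := Nat.exists_prime_and_dvd hcard
  haveI : Fact q.Prime := ⟨hq⟩
  obtain ⟨α, hα⟩ := exists_prime_orderOf_dvd_card' (G := G) q hqd
  have hα1 : (α : MulAut K) ≠ 1 := by
    intro h
    have : α = 1 := Subtype.ext h
    rw [this, orderOf_one] at hα
    exact hq.one_lt.ne hα
  haveI hKnt : Nontrivial K := by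
    by_contra h
    rw [not_nontrivial_iff_subsingleton] at h
    apply hα1
    ext k
    exact Subsingleton.elim _ _
  have hKnil : Group.IsNilpotent K := by
    apply Cfsg.Agent.Lib.Kegel.nilpotent_of_fpf (α : MulAut K) (hfpf _ α.2 hα1) hq
    have := pow_orderOf_eq_one α
    rw [hα] at this
    exact congrArg Subtype.val this
  have hZnt : Nontrivial (Subgroup.center K) := by
    by_contra hc
    rw [not_nontrivial_iff_subsingleton] at hc
    have hbot : Subgroup.center K = ⊥ := by
      rw [eq_bot_iff]
      intro c hc'
      have : (⟨c, hc'⟩ : Subgroup.center K) = 1 := Subsingleton.elim _ _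
      exact Subgroup.mem_bot.mpr (congrArg Subtype.val this)
    have hser : ∀ n, Subgroup.upperCentralSeries K n = ⊥ := by
      intro n
      induction n with
      | zero => rfl
      | succ n ih =>
        rw [eq_bot_iff]
        intro c hc'
        rw [Subgroup.mem_upperCentralSeries_succ_iff, ih] at hc'
        rw [← hbot, Subgroup.mem_center_iff]
        intro y
        have := hc' y
        rw [Subgroup.mem_bot, commutatorElement_eq_one_iff_mul_comm] at this
        exact this.symm
    obtain ⟨n, hn⟩ := hKnil.nilpotent
    rw [hser n] at hn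
    obtain ⟨k, hk⟩ := exists_ne (1 : K)
    have : k ∈ (⊥ : Subgroup K) := by rw [hn]; trivial
    exact hk (Subgroup.mem_bot.mp this)
  letI : CommGroup (Subgroup.center K) :=
    { (inferInstance : Group (Subgroup.center K)) with
      mul_comm := fun a b => Subtype.ext (Subgroup.mem_center_iff.mp b.2 a) }
  -- the action on the centre
  let act : G →* MulAut (Subgroup.center K) :=
    { toFun := fun g =>
        { toFun := fun c => ⟨(g : MulAut K) c, by
            rw [Subgroup.mem_center_iff]
            intro y
            obtain ⟨y', rfl⟩ := (g : MulAut K).surjective y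
            rw [← map_mul, ← map_mul, (Subgroup.mem_center_iff.mp c.2 y')]⟩
          invFun := fun c => ⟨(g : MulAut K)⁻¹ c, by
            rw [Subgroup.mem_center_iff]
            intro y
            obtain ⟨y', rfl⟩ := ((g : MulAut K)⁻¹).surjective y
            rw [← map_mul, ← map_mul, (Subgroup.mem_center_iff.mp c.2 y')]⟩
          left_inv := fun c => Subtype.ext (by simp)
          right_inv := fun c => Subtype.ext (by simp)
          map_mul' := fun a b => Subtype.ext (map_mul _ _ _) }
      map_one' := by
        ext c
        rfl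
      map_mul' := fun a b => by
        ext c
        rfl }
  have hact : Cfsg.Agent.Lib.FpfNorm.IsFpf act := by
    intro g hg v hv
    have h1 : (g : MulAut K) v = v := congrArg Subtype.val hv
    have h2 := hfpf g g.2 (fun h => hg (Subtype.ext h)) v h1
    exact Subtype.ext h2
  exact Cfsg.Agent.Lib.ZPerfH.Z_main (V := Subgroup.center K) hperf act hact

end Cfsg.Agent.S0690
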