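import Mathlib
import Cfsg.Statements.S0729
import Cfsg.Agent.Lib.SharpWrap
import Cfsg.Agent.S0728
import Cfsg.Agent.Lib.Kegel
-- import your own Cfsg.Agent.* helpers here

set_option autoImplicit false
open Cfsg

namespace Cfsg.Agent.S0729

/-- In a sharply triply transitive group of even degree at least 6, the two-point stabiliser `H = G_{a,b}` has a normal subgroup of index 2 that is normalised by the element `s` interchanging `a, b` and fixing a third point `c`. -/
theorem result {α : Type*} [Fintype α] [DecidableEq α] (heven : Even (Fintype.card α)) (h6 : 6 ≤ Fintype.card α) (G : Subgroup (Equiv.Perm α)) (h3 : MulAction.IsMultiplyPretransitive G α 3) (hsharp : ∀ x : Fin 3 ↪ α, MulAction.stabilizer G x = ⊥) {a b c : α} (hab : a ≠ b) (hac : a ≠ c) (hbc : b ≠ c) (s : G) (hsa : s • a = b) (hsb : s • b = a) (hsc : s • c = c) : ∃ N : Subgroup G, N ≤ MulAction.stabilizer G a ⊓ MulAction.stabilizer G b ∧ (N.subgroupOf (MulAction.stabilizer G a ⊓ MulAction.stabilizer G b)).Normal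 ∧ N.relIndex (MulAction.stabilizer G a ⊓ MulAction.stabilizer G b) = 2 ∧ ∀ n ∈ N, s * n * s⁻¹ ∈ N := by
  classical
  haveI hfinG : Finite G := inferInstance
  have hne : ∀ {p q r : α}, p ≠ q → p ≠ r → q ≠ r → Function.Injective ![p, q, r] := by
    intro p q r hpq hpr hqr i j h
    fin_cases i <;> fin_cases j <;> simp_all
  have hS : Cfsg.Agent.Lib.SharpWrap.Sharp3 G α := by
    constructor
    · intro a b c a' b' c' h1 h2 h3' h4 h5 h6'
      let x : Fin 3 ↪ α := ⟨![a, b, c], hne h1 h2 h3'⟩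
      let y : Fin 3 ↪ α := ⟨![a', b', c'], hne h4 h5 h6'⟩
      obtain ⟨g, hg⟩ := h3.exists_smul_eq x y
      refine ⟨g, ?_, ?_, ?_⟩
      · exact congrArg (fun f : Fin 3 ↪ α => f 0) hg
      · exact congrArg (fun f : Fin 3 ↪ α => f 1) hg
      · exact congrArg (fun f : Fin 3 ↪ α => f 2) hg
    · intro g a b c h1 h2 h3' h4 h5 h6'
      let x : Fin 3 ↪ α := ⟨![a, b, c], hne h1 h3' h2⟩
      have hm : g ∈ MulAction.stabilizer G x := by
        rw [MulAction.mem_stabilizer_iff]
        ext i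
        fin_cases i
        · exact h4
        · exact h5
        · exact h6'
      rw [hsharp x, Subgroup.mem_bot] at hm
      exact hm
  have hs2 : s * s = 1 := by
    apply hS.uniq (s * s) a b c hab hbc hac
    · rw [mul_smul, hsa, hsb]
    · rw [mul_smul, hsb, hsa]
    · rw [mul_smul, hsc, hsc]
  have hsinv : s⁻¹ = s := inv_eq_of_mul_eq_one_left hs2
  set H : Subgroup G := MulAction.stabilizer G a ⊓ MulAction.stabilizer G b with hH
  have hmemH : ∀ g : G, g ∈ H ↔ g • a = a ∧ g • b = b := by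
    intro g
    rw [hH, Subgroup.mem_inf, MulAction.mem_stabilizer_iff, MulAction.mem_stabilizer_iff]
  obtain ⟨N₀, hN₀⟩ := Cfsg.Agent.Lib.SharpWrap.exists_index_two hS
    (by rwa [Nat.card_eq_fintype_card]) (by rwa [Nat.card_eq_fintype_card]) hab
    (fun A B hA hB hA3 hB3 => Cfsg.Agent.S0728.result heven h6 G h3 hsharp hab A B hA hB hA3 hB3)
  have hsH : ∀ h ∈ H, MulAut.conj s h ∈ H := by
    intro h hh
    rw [hmemH] at hh ⊢
    rw [MulAut.conj_apply, hsinv]
    constructor
    · rw [mul_smul, mul_smul, hsa, hh.2, hsb]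
    · rw [mul_smul, mul_smul, hsb, hh.1, hsa]
  let σ : MulAut H := Cfsg.Agent.Lib.Kegel.restr (MulAut.conj s) H hsH
  have hσ : ∀ x : H, ((σ x : H) : G) = s * x * s⁻¹ := fun _ => rfl
  have hσσ : ∀ x, σ (σ x) = x := by
    intro x
    apply Subtype.ext
    rw [hσ, hσ, hsinv]
    calc s * (s * (x : G) * s) * s = (s * s) * x * (s * s) := by group
      _ = x := by rw [hs2]; simp
  obtain ⟨N', hN', hinv⟩ := Cfsg.Agent.Lib.SharpWrap.exists_invariant_index_two σ hσσ N₀ hN₀
  have h9 : (N'.map H.subtype).subgroupOf H = N' :=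
    Subgroup.comap_map_eq_self_of_injective H.subtype_injective N'
  refine ⟨N'.map H.subtype, Subgroup.map_subtype_le N', ?_, ?_, ?_⟩
  · rw [h9]
    exact Subgroup.normal_of_index_eq_two hN'
  · rw [Subgroup.relIndex, h9]
    exact hN'
  · rintro n ⟨x, hx, rfl⟩
    exact ⟨σ x, hinv x hx, rfl⟩

end Cfsg.Agent.S0729
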