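import Mathlib
import Cfsg.Statements.S0730
import Cfsg.Agent.Lib.Sharp3Odd
import Cfsg.Agent.S0729

set_option autoImplicit false
set_option linter.all false
open Cfsg

namespace Cfsg.Agent.S0730

open Cfsg.Agent.Lib.Sharp3Even Cfsg.Agent.Lib.Sharp3Odd

/-- A sharply triply transitive group of degree `p^f + 1`, `p` an odd prime and `f` odd, is isomorphic to the projective general linear group of degree 2 over the field with `p^f` elements (for even `f` there is a second, twisted, group). -/
theorem result {α : Type*} [Fintype α] [DecidableEq α] {p f : ℕ} (hp : p.Prime) (hp2 : p ≠ 2) (hfo : Odd f) (hα : Fintype.card α = p ^ f + 1) (G : Subgroup (Equiv.Perm α)) (h3 : MulAction.IsMultiplyPretransitive G α 3) (hsharp : ∀ x : Fin 3 ↪ α, MulAction.stabilizer G x = ⊥) : ∃ (F : Type) (_ : Field F) (_ : Fintype F), Fintype.card F = p ^ f ∧ Nonempty (G ≃* Matrix.ProjGenLinGroup (Fin 2) F) := by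
  classical
  have hG : Sharp3 G := by
    refine ⟨tr_of_pretransitive h3, ?_⟩
    intro g hg a b c hab hac hbc h1 h2 h3'
    let x : Fin 3 ↪ α := ⟨![a, b, c], by
      intro i j h
      fin_cases i <;> fin_cases j <;> simp_all⟩
    have hm : (⟨g, hg⟩ : G) ∈ MulAction.stabilizer G x := by
      rw [MulAction.mem_stabilizer_iff]
      ext i
      fin_cases i
      · exact h1
      · exact h2
      · exact h3'
    rw [hsharp x, Subgroup.mem_bot] at hm
    exact congrArg Subtype.val hm
  have hpodd : Odd p := hp.odd_of_ne_two hp2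
  have hfpos : 0 < f := hfo.pos
  have hp3 : 3 ≤ p := by
    have := hp.two_le
    omega
  have hq3 : 3 ≤ p ^ f := by
    calc 3 ≤ p := hp3
      _ = p ^ 1 := (pow_one p).symm
      _ ≤ p ^ f := Nat.pow_le_pow_right (by omega) hfpos
  obtain ⟨i, o, e, hio, hie, hoe⟩ := Fintype.two_lt_card_iff.mp (by omega : 2 < Fintype.card α)
  obtain ⟨σ, hσ, hσi, hσo, hσe⟩ := hG.tr hio hie hoe hio.symm hoe hie
  have hcardX : Fintype.card {x : α // x ≠ i} = p ^ f := by
    rw [Fintype.card_subtype_compl, Fintype.card_subtype_eq, hα]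
    omega
  have hoddX : Odd (Fintype.card {x : α // x ≠ i}) := by
    rw [hcardX]
    exact hpodd.pow
  have hcomm : ∀ g ∈ stabTwo G i o, ∀ k ∈ stabTwo G i o, g * k = k * g := by
    by_cases h6 : 6 ≤ Fintype.card α
    · -- the subgroup of index two
      have heven : Even (Fintype.card α) := by
        rw [hα]
        exact (hpodd.pow).add_one
      obtain ⟨N, hNle, -, hN2, hNσ⟩ := Cfsg.Agent.S0729.result heven h6 G h3 hsharp hio hie hoe
        (⟨σ, hσ⟩ : G) hσi hσo hσe
      let T : Subgroup G := MulAction.stabilizer G i ⊓ MulAction.stabilizer G o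
      have hmemT : ∀ g : G, g ∈ T ↔ g.1 i = i ∧ g.1 o = o := by
        intro g
        rw [Subgroup.mem_inf, MulAction.mem_stabilizer_iff, MulAction.mem_stabilizer_iff]
        rfl
      let K : Subgroup (Equiv.Perm α) := N.map G.subtype
      have hKH : K ≤ stabTwo G i o := by
        rintro _ ⟨g, hg, rfl⟩
        have := (hmemT g).1 (hNle hg)
        exact ⟨g.2, this.1, this.2⟩
      have hcardK : Nat.card K = Nat.card N :=
        Nat.card_congr (Subgroup.equivMapOfInjective N _ G.subtype_injective).symm.toEquiv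
      have hcardT : Nat.card T = Nat.card (stabTwo G i o) := by
        refine Nat.card_congr (Equiv.ofBijective (fun g : T => (⟨g.1.1, g.1.2, ((hmemT g.1).1 g.2).1,
          ((hmemT g.1).1 g.2).2⟩ : stabTwo G i o)) ⟨?_, ?_⟩)
        · intro a b h
          exact Subtype.ext (Subtype.ext (congrArg (fun y : stabTwo G i o => y.1) h))
        · rintro ⟨g, hg, hgi, hgo⟩
          exact ⟨⟨⟨g, hg⟩, (hmemT _).2 ⟨hgi, hgo⟩⟩, rfl⟩
      have hK2 : 2 * Nat.card K = Nat.card (stabTwo G i o) := by
        rw [hcardK, ← hcardT, ← hN2, Subgroup.relIndex]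
        have h5 := (N.subgroupOf T).index_mul_card
        have h6 : Nat.card (N.subgroupOf T) = Nat.card N :=
          Nat.card_congr (Subgroup.subgroupOfEquivOfLe hNle).toEquiv
        rw [h6] at h5
        exact h5
      have hKσ : ∀ g ∈ K, σ * g * σ⁻¹ ∈ K := by
        rintro _ ⟨g, hg, rfl⟩
        exact ⟨_, hNσ g hg, rfl⟩
      apply comm_of_index_two hG hio hie hoe hσ hσi hσo hσe K hKH hK2 hKσ
      intro m hm
      rw [hcardX] at hm
      have hdvd : m ∣ p ^ f := ⟨m, hm.symm⟩
      obtain ⟨k, -, rfl⟩ := (Nat.dvd_prime_pow hp).mp hdvd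
      rw [← pow_add] at hm
      have h7 := Nat.pow_right_injective hp.two_le hm
      obtain ⟨l, hl⟩ := hfo
      omega
    · -- degree four
      have hq : p ^ f = 3 := by
        have h7 : p ^ f < 5 := by omega
        have h8 : p ^ f ≠ 4 := by
          intro h9
          have h10 : Odd (p ^ f) := hpodd.pow
          rw [h9] at h10
          exact absurd h10 (by decide)
        omega
      have hcardH := card_stabTwo hG hio hie hoe
      rw [hcardX, hq] at hcardH
      have h2 : Nat.card (stabTwo G i o) = 2 := by omega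
      haveI : Fact (Nat.Prime 2) := ⟨Nat.prime_two⟩
      haveI : IsCyclic (stabTwo G i o) := isCyclic_of_prime_card h2
      intro g hg k hk
      have := IsCyclic.commutative.is_comm.comm (⟨g, hg⟩ : stabTwo G i o) ⟨k, hk⟩
      exact congrArg Subtype.val this
  obtain ⟨F, i1, i2, hF, hpgl⟩ := pgl_of_comm hG hio hie hoe hσ hσi hσo hσe hoddX hcomm
  exact ⟨F, i1, i2, hF.trans hcardX, hpgl⟩

end Cfsg.Agent.S0730
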