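import Cfsg.Statements.S0983
import Mathlib
import Cfsg.Agent.Lib.OrdR3640B
import Cfsg.Agent.Lib.OrdR3640D
import Cfsg.Agent.Lib.OrdR3640E
import Cfsg.Agent.Lib.OrdR3640F
import Cfsg.Agent.Lib.OrdR3640G
import Cfsg.Agent.S0977

set_option autoImplicit false
open Cfsg

namespace Cfsg.Agent.S0983

/-- A non-abelian finite simple group of order greater than 3640 and at most 6232 has order 4080, 5616, 6048 or 6072. -/
theorem result {G : Type*} [Group G] [Finite G] [IsSimpleGroup G] (hG : ¬ IsMulCommutative G) (h1 : 3640 < Nat.card G) (h2 : Nat.card G ≤ 6232) : Nat.card G = 4080 ∨ Nat.card G = 5616 ∨ Nat.card G = 6048 ∨ Nat.card G = 6072 := by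
  classical
  rcases Cfsg.Agent.Lib.OrdR3640B.cover h1 h2 with hL | ⟨p, a, hc⟩
  · by_contra hcon
    push Not at hcon
    obtain ⟨n1, n2, n3, n4⟩ := hcon
    simp only [Cfsg.Agent.Lib.OrdR3640B.listL, List.mem_cons, List.not_mem_nil, or_false] at hL
    rcases hL with h | h | h | h | h | h | h | h | h | h | h | h | h | h | h | h | h | h | h | h | h | h | h | h | h | h | h | h | h | h | h | h | h | h | h | h | h | h | h | h | h | h | h | h | h | h | h | h | h | h | h | h | h | h | h | h | h | h | h | h | h | h | h | h | h | h | h | h | h | h | h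
    · exact Cfsg.Agent.Lib.OrdR3640B.ne_3648 hG h
    · exact Cfsg.Agent.Lib.OrdR3640B.ne_3672 hG h
    · exact Cfsg.Agent.Lib.OrdR3640B.ne_3696 hG h
    · exact Cfsg.Agent.Lib.OrdR3640B.ne_3744 hG h
    · exact Cfsg.Agent.Lib.OrdR3640D.ne_3780 hG h
    · exact Cfsg.Agent.Lib.OrdR3640B.ne_3800 hG h
    · exact Cfsg.Agent.Lib.OrdR3640B.ne_3840 hG h
    · exact Cfsg.Agent.Lib.OrdR3640B.ne_3888 hG h
    · exact Cfsg.Agent.Lib.OrdR3640B.ne_3960 hG h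
    · exact Cfsg.Agent.Lib.OrdR3640B.ne_3968 hG h
    · exact Cfsg.Agent.Lib.OrdR3640B.ne_4000 hG h
    · exact Cfsg.Agent.Lib.OrdR3640B.ne_4032 hG h
    · exact n1 h
    · exact Cfsg.Agent.Lib.OrdR3640B.ne_4160 hG h
    · exact Cfsg.Agent.Lib.OrdR3640F.ne_4200 hG h
    · exact Cfsg.Agent.Lib.OrdR3640B.ne_4212 hG h
    · exact Cfsg.Agent.Lib.OrdR3640B.ne_4224 hG h
    · exact Cfsg.Agent.Lib.OrdR3640B.ne_4284 hG h
    · exact Cfsg.Agent.S0977.result h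
    · exact Cfsg.Agent.Lib.OrdR3640B.ne_4368 hG h
    · exact Cfsg.Agent.Lib.OrdR3640B.ne_4400 hG h
    · exact Cfsg.Agent.Lib.OrdR3640B.ne_4416 hG h
    · exact Cfsg.Agent.Lib.OrdR3640D.ne_4480 hG h
    · exact Cfsg.Agent.Lib.OrdR3640B.ne_4500 hG h
    · exact Cfsg.Agent.Lib.OrdR3640B.ne_4512 hG h
    · exact Cfsg.Agent.Lib.OrdR3640D.ne_4536 hG h
    · exact Cfsg.Agent.Lib.OrdR3640B.ne_4560 hG h
    · exact Cfsg.Agent.Lib.OrdR3640B.ne_4563 hG h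
    · exact Cfsg.Agent.Lib.OrdR3640D.ne_4620 hG h
    · exact Cfsg.Agent.Lib.OrdR3640B.ne_4680 hG h
    · exact Cfsg.Agent.Lib.OrdR3640D.ne_4725 hG h
    · exact Cfsg.Agent.Lib.OrdR3640B.ne_4752 hG h
    · exact Cfsg.Agent.Lib.OrdR3640B.ne_4760 hG h
    · exact Cfsg.Agent.Lib.OrdR3640B.ne_4800 hG h
    · exact Cfsg.Agent.Lib.OrdR3640B.ne_4896 hG h
    · exact Cfsg.Agent.Lib.OrdR3640B.ne_4900 hG h
    · exact Cfsg.Agent.Lib.OrdR3640B.ne_4928 hG h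
    · exact Cfsg.Agent.Lib.OrdR3640B.ne_4960 hG h
    · exact Cfsg.Agent.Lib.OrdR3640B.ne_5040 hG h
    · exact Cfsg.Agent.Lib.OrdR3640B.ne_5104 hG h
    · exact Cfsg.Agent.Lib.OrdR3640B.ne_5148 hG h
    · exact Cfsg.Agent.Lib.OrdR3640B.ne_5184 hG h
    · exact Cfsg.Agent.Lib.OrdR3640B.ne_5200 hG h
    · exact Cfsg.Agent.Lib.OrdR3640B.ne_5220 hG h
    · exact Cfsg.Agent.Lib.OrdR3640B.ne_5236 hG h
    · exact Cfsg.Agent.Lib.OrdR3640B.ne_5280 hG h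
    · exact Cfsg.Agent.Lib.OrdR3640B.ne_5292 hG h
    · exact Cfsg.Agent.Lib.OrdR3640B.ne_5320 hG h
    · exact Cfsg.Agent.Lib.OrdR3640B.ne_5376 hG h
    · exact Cfsg.Agent.Lib.OrdR3640G.ne_5400 hG h
    · exact Cfsg.Agent.Lib.OrdR3640E.ne_5460 hG h
    · exact Cfsg.Agent.Lib.OrdR3640B.ne_5472 hG h
    · exact Cfsg.Agent.Lib.OrdR3640B.ne_5508 hG h
    · exact Cfsg.Agent.Lib.OrdR3640B.ne_5520 hG h
    · exact Cfsg.Agent.Lib.OrdR3640B.ne_5544 hG h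
    · exact Cfsg.Agent.Lib.OrdR3640F.ne_5600 hG h
    · exact n2 h
    · exact Cfsg.Agent.Lib.OrdR3640B.ne_5700 hG h
    · exact Cfsg.Agent.Lib.OrdR3640B.ne_5724 hG h
    · exact Cfsg.Agent.Lib.OrdR3640B.ne_5760 hG h
    · exact Cfsg.Agent.Lib.OrdR3640B.ne_5852 hG h
    · exact Cfsg.Agent.Lib.OrdR3640G.ne_5880 hG h
    · exact Cfsg.Agent.Lib.OrdR3640B.ne_5940 hG h
    · exact Cfsg.Agent.Lib.OrdR3640B.ne_5952 hG h
    · exact Cfsg.Agent.Lib.OrdR3640F.ne_6000 hG h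
    · exact n3 h
    · exact n4 h
    · exact Cfsg.Agent.Lib.OrdR3640B.ne_6075 hG h
    · exact Cfsg.Agent.Lib.OrdR3640B.ne_6080 hG h
    · exact Cfsg.Agent.Lib.OrdR3640B.ne_6120 hG h
    · exact Cfsg.Agent.Lib.OrdR3640B.ne_6160 hG h
  · exact (Cfsg.Agent.Lib.OrdR3640B.chk_sound hG hc rfl).elim

end Cfsg.Agent.S0983
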