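import Mathlib
import Cfsg.Statements.S0994
import Cfsg.Agent.Lib.SmallGroups2
-- import your own Cfsg.Agent.* helpers here

set_option autoImplicit false
open Cfsg

namespace Cfsg.Agent.S0994


/-- No finite simple group has order 1188 = 2^2 * 3^3 * 11. -/
theorem result {G : Type*} [Group G] [Finite G] [IsSimpleGroup G] : Nat.card G ≠ 1188 := by
  haveI : Fact (Nat.Prime 11) := ⟨by norm_num⟩
  have := Cfsg.Agent.Lib.SmallGroups2.card_ne_of_candidates_empty (G := G) (p := 11) (m := 108) (by norm_num) (by norm_num) (by decide +kernel)
  simpa using this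

end Cfsg.Agent.S0994
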