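import Mathlib
import Cfsg.Statements.S0999
import Cfsg.Agent.Lib.RigR
-- import your own Cfsg.Agent.* helpers here

set_option autoImplicit false
open Cfsg

namespace Cfsg.Agent.S0999

open Cfsg.Agent.Lib.RigR

/-- Let G be a non-cyclic finite simple group and p a prime divisor of its order with p^3 > |G|. Then p > 3 and G is isomorphic to the projective special linear group of dimension 2 over the field with p elements, or p - 1 is a power of 2 and G is isomorphic to that group over the field with p - 1 elements. -/
theorem result {G : Type*} [Group G] [Finite G] [IsSimpleGroup G] (hG : ¬ IsCyclic G) (p : ℕ) (hp : p.Prime) (hdvd : p ∣ Nat.card G) (hbig : Nat.card G < p ^ 3) : (∃ (F : Type) (_ : Field F) (_ : Fintype F), Fintype.card F = p ∧ 3 < p ∧ Nonempty (G ≃* Matrix.ProjectiveSpecialLinearGroup (Fin 2) F)) ∨ (∃ (m : ℕ) (F : Type) (_ : Field F) (_ : Fintype F), Fintype.card F = 2 ^ m ∧ p = 2 ^ m + 1 ∧ 3 < p ∧ Nonempty (G ≃* Matrix.ProjectiveSpecialLinearGroup (Fin 2) F)) := by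
  classical
  haveI : Fact p.Prime := ⟨hp⟩
  have hnab : ¬ ∀ a b : G, a * b = b * a := by
    intro hc
    apply hG
    letI : CommGroup G := { (inferInstance : Group G) with mul_comm := hc }
    exact IsSimpleGroup.isCyclic
  have hperf : _root_.commutator G = ⊤ := by
    have hN : (_root_.commutator G).Normal := inferInstance
    rcases hN.eq_bot_or_eq_top with h1 | h1
    · exfalso
      apply hnab
      intro a b
      have h2 : a * b * a⁻¹ * b⁻¹ ∈ _root_.commutator G := by
        rw [_root_.commutator_def]
        exact Subgroup.commutator_mem_commutator (Subgroup.mem_top a) (Subgroup.mem_top b)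
      rw [h1, Subgroup.mem_bot] at h2
      calc a * b = (a * b * a⁻¹ * b⁻¹) * (b * a) := by group
        _ = b * a := by rw [h2, one_mul]
    · exact h1
  obtain ⟨P⟩ : Nonempty (Sylow p G) := inferInstance
  have hP : ¬ (P : Subgroup G).Normal := by
    intro hn
    have hne : (P : Subgroup G) ≠ ⊥ := by
      intro h
      have h1 := P.not_dvd_index
      rw [h, Subgroup.index_bot] at h1
      exact h1 hdvd
    have htop : (P : Subgroup G) = ⊤ := (hn.eq_bot_or_eq_top).resolve_left hne
    have hpg : IsPGroup p G := by
      intro g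
      obtain ⟨k, hk⟩ := P.isPGroup' ⟨g, by rw [htop]; exact Subgroup.mem_top g⟩
      exact ⟨k, congrArg Subtype.val hk⟩
    haveI : Group.IsNilpotent G := hpg.isNilpotent
    have h3 := Group.IsSolvable.commutator_lt_top_of_nontrivial G
    rw [hperf] at h3
    exact lt_irrefl _ h3
  have h2 : ∀ N : Subgroup G, N.Normal → Nat.card N ≠ 2 := by
    intro N hN hc
    rcases hN.eq_bot_or_eq_top with h1 | h1
    · rw [h1, Subgroup.card_bot] at hc
      omega
    · rw [h1, Subgroup.card_top] at hc
      apply hG
      exact isCyclic_of_prime_card (p := 2) hc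
  exact Cfsg.Agent.Lib.RigR.big_main hperf p hdvd hbig P hP h2

end Cfsg.Agent.S0999
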