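import Mathlib
import Cfsg.Statements.S1133
import Cfsg.Agent.Lib.HuaR

set_option autoImplicit false
open Cfsg

namespace Cfsg.Agent.S1133

/-- In the rank-one set-up (`G` finite and doubly transitive on `Ω`, `t` an involution moving `a`, `Q` normal in `G_a` with `G_a = Q D`, `Q ⊓ D = 1` for the two-point stabiliser `D = G_a ⊓ G_{t • a}`, `|Q|` even, `|D|` odd), with the action faithful and `G` containing two distinct commuting involutions, with `V = C_D(t)`, `K` the elements of `D` inverted by `t` and `W = C_V(K)`: `V/W` is cyclic, i.e. `V = W ⟨v⟩` for some `v ∈ V`. -/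
theorem result {G Ω : Type*} [Group G] [Finite G] [MulAction G Ω] [FaithfulSMul G Ω] {a : Ω} {t : G} {Q : Subgroup G}
    (hS : Cfsg.IsRankOneSetup G Ω a t Q)
    (h2 : ∃ x y : G, x ≠ 1 ∧ y ≠ 1 ∧ x ≠ y ∧ x * x = 1 ∧ y * y = 1 ∧ x * y = y * x) :
    ∃ v ∈ (MulAction.stabilizer G a ⊓ MulAction.stabilizer G (t • a)) ⊓ Subgroup.centralizer {t},
      ((MulAction.stabilizer G a ⊓ MulAction.stabilizer G (t • a)) ⊓ Subgroup.centralizer {t} ⊓ Subgroup.centralizer (Cfsg.invertedBy (MulAction.stabilizer G a ⊓ MulAction.stabilizer G (t • a)) t)) ⊔ Subgroup.closure {v} =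
        (MulAction.stabilizer G a ⊓ MulAction.stabilizer G (t • a)) ⊓ Subgroup.centralizer {t} := by
  obtain ⟨v₀, hv₀, hv₀t, hgen⟩ := Cfsg.Agent.Lib.HuaR.exists_gen_V hS h2
  have hcen : ∀ {x : G}, t * x = x * t → x ∈ Subgroup.centralizer ({t} : Set G) := by
    intro x hx
    rw [Subgroup.mem_centralizer_iff]
    intro y hy
    rw [Set.mem_singleton_iff] at hy
    rw [hy]
    exact hx
  have hcen' : ∀ {x : G}, x ∈ Subgroup.centralizer ({t} : Set G) → t * x = x * t := by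
    intro x hx
    exact (Subgroup.mem_centralizer_iff.mp hx) t rfl
  refine ⟨v₀, ⟨hv₀, hcen hv₀t⟩, le_antisymm ?_ ?_⟩
  · apply sup_le
    · exact inf_le_left
    · rw [Subgroup.closure_le]
      intro x hx
      rw [Set.mem_singleton_iff] at hx
      rw [hx]
      exact ⟨hv₀, hcen hv₀t⟩
  · rintro v ⟨hvD, hvt⟩
    obtain ⟨n, hn⟩ := hgen v hvD (hcen' hvt)
    have hzp : v₀ ^ n ∈ (Subgroup.closure ({v₀} : Set G)) := Subgroup.mem_closure_singleton.mpr ⟨n, rfl⟩
    have hw : (v₀ ^ n)⁻¹ * v ∈ (MulAction.stabilizer G a ⊓ MulAction.stabilizer G (t • a)) ⊓ Subgroup.centralizer {t} ⊓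
        Subgroup.centralizer (Cfsg.invertedBy (MulAction.stabilizer G a ⊓ MulAction.stabilizer G (t • a)) t) := by
      have hD : v₀ ^ n ∈ (MulAction.stabilizer G a ⊓ MulAction.stabilizer G (t • a)) := Subgroup.zpow_mem _ hv₀ n
      have hcc : v₀ ^ n ∈ Subgroup.centralizer ({t} : Set G) := Subgroup.zpow_mem _ (hcen hv₀t) n
      have hw1 : (v₀ ^ n)⁻¹ * v ∈ (MulAction.stabilizer G a ⊓ MulAction.stabilizer G (t • a)) :=
        Subgroup.mul_mem _ (Subgroup.inv_mem _ hD) hvD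
      have hw2 : (v₀ ^ n)⁻¹ * v ∈ Subgroup.centralizer ({t} : Set G) :=
        Subgroup.mul_mem _ (Subgroup.inv_mem _ hcc) hvt
      refine ⟨⟨hw1, hw2⟩, ?_⟩
      exact Subgroup.mem_centralizer_iff.mpr (fun k hk => (hn k hk).symm)
    have e : v = (v₀ ^ n) * ((v₀ ^ n)⁻¹ * v) := by group
    rw [e, sup_comm]
    exact Subgroup.mul_mem_sup hzp hw

end Cfsg.Agent.S1133
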