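import Mathlib
import Cfsg.Statements.S1135
import Cfsg.Agent.Lib.RankOne4
-- import your own Cfsg.Agent.* helpers here

set_option autoImplicit false
open Cfsg

namespace Cfsg.Agent.S1135

/-- In the rank-one set-up (`G` finite and doubly transitive on `Ω`, `t` an involution moving `a`, `Q` normal in `G_a` with `G_a = Q D`, `Q ⊓ D = 1` for the two-point stabiliser `D = G_a ⊓ G_{t • a}`, `|Q|` even, `|D|` odd), with the action faithful and `G` containing two distinct commuting involutions: if `x = u v` with `u, v` involutions and `x² ≠ 1`, then `x` is conjugate to `u' t` for some involution `u'` of `G_a`, and `|C_G(x)|` is odd. -/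
theorem result {G Ω : Type*} [Group G] [Finite G] [MulAction G Ω] [FaithfulSMul G Ω] {a : Ω} {t : G} {Q : Subgroup G}
    (hS : Cfsg.IsRankOneSetup G Ω a t Q)
    (h2 : ∃ x y : G, x ≠ 1 ∧ y ≠ 1 ∧ x ≠ y ∧ x * x = 1 ∧ y * y = 1 ∧ x * y = y * x)
    (u v : G) (hu1 : u ≠ 1) (hu2 : u * u = 1) (hv1 : v ≠ 1) (hv2 : v * v = 1) (hx : (u * v) * (u * v) ≠ 1) :
    (∃ g : G, ∃ u' ∈ Cfsg.involutionsIn (MulAction.stabilizer G a : Set G), g * (u * v) * g⁻¹ = u' * t) ∧
      Odd (Nat.card ↥(Subgroup.centralizer {u * v})) := by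
  open Cfsg.Agent.Lib.RankOne Cfsg.Agent.Lib.RankOne4 in
  have hform := conj_to_form hS h2 hu1 hu2 hv1 hv2 hx
  refine ⟨hform, ?_⟩
  by_contra hodd
  rw [Nat.not_odd_iff_even] at hodd
  obtain ⟨z, hz1, hz2, -⟩ : ∃ z : ↥(Subgroup.centralizer {u * v}), z ≠ 1 ∧ z * z = 1 ∧ True := by
    have : Fact (Nat.Prime 2) := ⟨Nat.prime_two⟩
    obtain ⟨z, hz⟩ := exists_prime_orderOf_dvd_card' 2 (even_iff_two_dvd.mp hodd)
    refine ⟨z, ?_, ?_, trivial⟩
    · intro h0
      rw [h0, orderOf_one] at hz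
      omega
    · have h5 := pow_orderOf_eq_one z
      rw [hz, pow_two] at h5
      exact h5
  obtain ⟨g, u', hu', e⟩ := hform
  have hz1' : (z : G) ≠ 1 := fun h => hz1 (Subtype.ext h)
  have hz2' : (z : G) * z = 1 := congrArg Subtype.val hz2
  have hzc : (z : G) * (u * v) = (u * v) * z :=
    ((Subgroup.mem_centralizer_singleton_iff.mp z.2))
  -- conjugate by `g`
  refine odd_centralizer_aux hS h2 hu'.2.1 hu'.2.2 (u := u') (w := g * z * g⁻¹) ?_ ?_ ?_ ?_
  · rw [← e]
    intro h0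
    apply hx
    have h6 : g * (u * v) * g⁻¹ * (g * (u * v) * g⁻¹) = g * ((u * v) * (u * v)) * g⁻¹ := by group
    rw [h6] at h0
    have h7 : (u * v) * (u * v) = g⁻¹ * (g * ((u * v) * (u * v)) * g⁻¹) * g := by group
    rw [h7, h0]; group
  · intro h0
    apply hz1'
    have h7 : (z : G) = g⁻¹ * (g * z * g⁻¹) * g := by group
    rw [h7, h0]; group
  · have h6 : g * (z : G) * g⁻¹ * (g * z * g⁻¹) = g * ((z : G) * z) * g⁻¹ := by group
    rw [h6, hz2']; group
  · rw [← e]
    calc g * (z : G) * g⁻¹ * (g * (u * v) * g⁻¹) = g * ((z : G) * (u * v)) * g⁻¹ := by group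
      _ = g * ((u * v) * z) * g⁻¹ := by rw [hzc]
      _ = g * (u * v) * g⁻¹ * (g * z * g⁻¹) := by group

end Cfsg.Agent.S1135
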