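import Mathlib
import Cfsg.Statements.S1187
import Cfsg.Agent.Lib.ZStar
import Cfsg.Agent.Lib.Glauberman2

set_option autoImplicit false
open Cfsg

namespace Cfsg.Agent.S1187

open Cfsg.Agent.Lib Cfsg.Agent.Lib.PCore

/-- Let z be an isolated involution of the finite group G and p a prime. If Q is a p-subgroup normalized by z that is maximal among p-subgroups normalized by z, then Q is a Sylow p-subgroup of G. -/
theorem result {G : Type*} [Group G] [Finite G] (z : G) (hz : Cfsg.IsIsolatedInvolution z) {p : ℕ} [Fact p.Prime] (Q : Subgroup G) (hQ : IsPGroup p Q) (hzQ : z ∈ Subgroup.normalizer (Q : Set G)) (hmax : ∀ R : Subgroup G, IsPGroup p R → z ∈ Subgroup.normalizer (R : Set G) → Q ≤ R → R = Q) : ∃ P : Sylow p G, (P : Subgroup G) = Q := by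
  classical
  have hpp : p.Prime := Fact.out
  by_cases hp2 : p = 2
  · subst hp2
    have hzx : IsPGroup 2 (Subgroup.zpowers z) :=
      Isolated.isPGroup_zpowers (p := 2) ⟨1, by rw [hz.1]; rfl⟩
    have hzle : Subgroup.zpowers z ≤ Subgroup.normalizer (Q : Set G) := by
      rw [Subgroup.zpowers_le]
      exact hzQ
    have hsup : IsPGroup 2 ↥(Q ⊔ Subgroup.zpowers z) := hQ.to_sup_of_normal_left' hzx hzle
    obtain ⟨S, hS⟩ := hsup.exists_le_sylow
    refine ⟨S, ?_⟩
    apply hmax _ S.isPGroup'
    · apply Subgroup.le_normalizer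
      exact hS (Subgroup.mem_sup_right (Subgroup.mem_zpowers z))
    · exact le_sup_left.trans hS
  · obtain ⟨P, hP⟩ := hQ.exists_le_sylow
    refine ⟨P, ?_⟩
    set K := pPrimeCore 2 G with hK
    have hKn : K.Normal := inferInstance
    have hZ : ∀ g : G, g * z * g⁻¹ * z⁻¹ ∈ K := fun g => ZStar.zstar hz g
    set L : Subgroup G := (P : Subgroup G) ⊔ K with hL
    have hKL : K ≤ L := le_sup_right
    have hPL : (P : Subgroup G) ≤ L := le_sup_left
    have hzi : z⁻¹ = z := EmbInvol.inv_of_order hz.1
    -- `z` normalizes `L`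
    have hzL : z ∈ Subgroup.normalizer (L : Set G) := by
      have hstep : ∀ l ∈ L, z * l * z⁻¹ ∈ L := by
        intro l hl
        have h1 : z * l * z⁻¹ * l⁻¹ ∈ K := by
          have h2 := K.inv_mem (hZ l)
          have e : (l * z * l⁻¹ * z⁻¹)⁻¹ = z * l * z⁻¹ * l⁻¹ := by group
          rwa [e] at h2
        have e : z * l * z⁻¹ = (z * l * z⁻¹ * l⁻¹) * l := by group
        rw [e]
        exact L.mul_mem (hKL h1) hl
      rw [Subgroup.mem_normalizer_iff]
      intro l
      refine ⟨hstep l, fun hl => ?_⟩
      have h1 := hstep _ hl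
      have e : z * (z * l * z⁻¹) * z⁻¹ = l := by
        calc z * (z * l * z⁻¹) * z⁻¹ = z * (z * l * z) * z := by rw [hzi]
          _ = (z * z) * l * (z * z) := by group
          _ = l := by rw [EmbInvol.mul_self_of_order hz.1]; group
      rwa [e] at h1
    have hAL : Subgroup.zpowers z ≤ Subgroup.normalizer (L : Set G) := by
      rw [Subgroup.zpowers_le]
      exact hzL
    have hLodd : Nat.Coprime 2 (Nat.card L) := by
      have h1 : Nat.card L ∣ Nat.card (P : Subgroup G) * Nat.card K := card_sup_dvd _ _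
      have h2 : Nat.Coprime 2 (Nat.card K) := (card_pPrimeCore_coprime 2).symm
      have h3 : Nat.Coprime 2 (Nat.card (P : Subgroup G)) := by
        rw [Sylow.card_eq_multiplicity]
        apply Nat.Coprime.pow_right
        exact (Nat.coprime_primes Nat.prime_two hpp).2 (Ne.symm hp2)
      exact Nat.Coprime.coprime_dvd_right h1 (Nat.Coprime.mul_right h3 h2)
    have hcop : (Nat.card (Subgroup.zpowers z)).Coprime (Nat.card L) := by
      rw [Nat.card_zpowers, hz.1]
      exact hLodd
    have hsolv : Group.IsSolvable (Subgroup.zpowers z) ∨ Group.IsSolvable L := by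
      left
      infer_instance
    have hQL : Q ≤ L := hP.trans hPL
    obtain ⟨P₀, hP₀, hP₀n⟩ := Glauberman2.exists_invariant_sylow_containing hAL hcop hsolv p hQL hQ
      (by
        rw [Subgroup.zpowers_le]
        exact hzQ)
    have hP₀Q := hmax _ (P₀.isPGroup'.map L.subtype) (hP₀n (Subgroup.mem_zpowers z)) hP₀
    -- comparing orders
    have hcardQ : Nat.card Q = Nat.card (P₀ : Subgroup L) := by
      rw [← hP₀Q]
      exact Subgroup.card_map_of_injective L.subtype_injective
    have hPp : IsPGroup p ((P : Subgroup G).subgroupOf L) :=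
      P.isPGroup'.comap_of_injective L.subtype L.subtype_injective
    obtain ⟨R, hR⟩ := hPp.exists_le_sylow
    have hcardP : Nat.card (P : Subgroup G) = Nat.card ((P : Subgroup G).subgroupOf L) :=
      (Nat.card_congr (Subgroup.subgroupOfEquivOfLe hPL).toEquiv).symm
    have hle : Nat.card (P : Subgroup G) ≤ Nat.card Q := by
      rw [hcardP, hcardQ, Sylow.card_eq_multiplicity P₀, ← Sylow.card_eq_multiplicity R]
      exact Nat.le_of_dvd Nat.card_pos (Subgroup.card_dvd_of_le hR)
    exact (Subgroup.eq_of_le_of_card_ge hP hle).symm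

end Cfsg.Agent.S1187
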