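import Mathlib
import Cfsg.Statements.S1248
import Cfsg.Agent.S3156

set_option autoImplicit false
open Cfsg
open scoped commutatorElement

namespace Cfsg.Agent.S1248

/-- The facts about the Sylow 2-subgroup of `U₃(4)` which we use. -/
structure Facts (H : Type*) [Group H] : Prop where
  card : Nat.card H = 64
  card_Z : Nat.card (Subgroup.center H) = 4
  sq_mem : ∀ t : H, t ^ 2 ∈ Subgroup.center H
  sq_Z : ∀ z ∈ Subgroup.center H, z ^ 2 = 1
  root : ∀ t : H, t ^ 2 = 1 → t ∈ Subgroup.center H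
  comm : ∀ z ∈ Subgroup.center H, ∃ x y : H, z = x * y * x⁻¹ * y⁻¹

theorem Facts.of_equiv {H K : Type*} [Group H] [Group K] (e : H ≃* K) (h : Facts H) : Facts K := by
  have hc : ∀ z : H, z ∈ Subgroup.center H ↔ e z ∈ Subgroup.center K := by
    intro z
    rw [Subgroup.mem_center_iff, Subgroup.mem_center_iff]
    constructor
    · intro hz g
      obtain ⟨g, rfl⟩ := e.surjective g
      rw [← map_mul, ← map_mul, hz]
    · intro hz g
      apply e.injective
      rw [map_mul, map_mul, hz]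
  have hc' : ∀ z : K, z ∈ Subgroup.center K ↔ e.symm z ∈ Subgroup.center H := by
    intro z
    rw [hc, e.apply_symm_apply]
  refine ⟨?_, ?_, ?_, ?_, ?_, ?_⟩
  · rw [← Nat.card_congr e.toEquiv]; exact h.card
  · rw [← Nat.card_congr (Subgroup.centerCongr e).toEquiv]; exact h.card_Z
  · intro t
    rw [hc', map_pow]
    exact h.sq_mem _
  · intro z hz
    rw [hc'] at hz
    have := h.sq_Z _ hz
    apply e.symm.injective
    rw [map_pow, this, map_one]
  · intro t ht
    rw [hc']
    apply h.root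
    rw [← map_pow, ht, map_one]
  · intro z hz
    rw [hc'] at hz
    obtain ⟨x, y, hxy⟩ := h.comm _ hz
    refine ⟨e x, e y, ?_⟩
    apply e.symm.injective
    rw [hxy]
    simp

open Cfsg.Agent.Lib.SU3Heis in
theorem facts_T {F : Type*} [Field F] [Fintype F] (hF : Fintype.card F = 4 ^ 2) (h2 : (2 : F) = 0) :
    Facts (T hF h2) := by
  refine ⟨?_, ?_, sq_mem_center hF h2, fun _ hz => sq_of_mem_center hF h2 hz,
    fun _ ht => mem_center_of_sq hF h2 ht, ?_⟩
  · rw [card_T]; norm_num
  · rw [card_center_T]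
  · intro z hz
    have hd := (mem_center_iff hF h2 z).mp hz
    have hrel := rel hF h2 z
    rw [hd] at hrel
    have h1 : (η z.1) ^ 4 = η z.1 := by
      simp only [zero_mul] at hrel
      linear_combination hrel - η z.1 * h2
    obtain ⟨s, hs⟩ := Cfsg.Agent.Lib.UnitaryE.exists_trace_eq hF h1
    obtain ⟨s1, hs1⟩ := Cfsg.Agent.Lib.UnitaryE.exists_trace_eq hF (t := 1) (by simp)
    obtain ⟨s2, hs2⟩ := Cfsg.Agent.Lib.UnitaryE.exists_trace_eq hF (t := s * s ^ 4) (by
      rw [mul_pow, Cfsg.Agent.Lib.FFNorm.pow_pow_self hF, mul_comm])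
    obtain ⟨x, hx1, hx2⟩ := exists_T hF h2 (d := (1 : F)) (e := s1) (by simpa using hs1)
    obtain ⟨y, hy1, hy2⟩ := exists_T hF h2 (d := s) (e := s2) hs2
    refine ⟨x, y, ?_⟩
    have hcomm : z * (y * x) = x * y := by
      apply T_ext hF h2
      · rw [δ_mul, δ_mul, δ_mul, hd, hx1, hy1]
        ring
      · rw [η_mul, η_mul, η_mul, δ_mul, hd, hx1, hy1, hx2, hy2, ← hs]
        simp only [one_pow, one_mul]
        linear_combination (s ^ 4) * h2
    rw [eq_comm]
    calc x * y * x⁻¹ * y⁻¹ = z * (y * x) * x⁻¹ * y⁻¹ := by rw [hcomm]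
      _ = z := by group

theorem conclude {H : Type*} [Group H] (h : Facts H) :
    Nat.card H = 64 ∧ IsKleinFour (Subgroup.center H) ∧
      Subgroup.center H = Subgroup.closure {x : H | orderOf x = 2} ∧
      Subgroup.center H = commutator H ∧
      Nat.card (H ⧸ Subgroup.center H) = 16 ∧
      ∀ x : H ⧸ Subgroup.center H, x ^ 2 = 1 := by
  refine ⟨h.card, ?_, ?_, ?_, ?_, ?_⟩
  · haveI : Fact (Nat.Prime 2) := ⟨Nat.prime_two⟩
    haveI : Finite (Subgroup.center H) := Nat.finite_of_card_ne_zero (by rw [h.card_Z]; norm_num)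
    haveI : Nontrivial (Subgroup.center H) := by
      apply Finite.one_lt_card_iff_nontrivial.mp
      rw [h.card_Z]; norm_num
    refine ⟨h.card_Z, ?_⟩
    rw [Monoid.exponent_eq_prime_iff Nat.prime_two]
    intro g hg
    apply orderOf_eq_prime _ hg
    apply Subtype.ext
    simpa using h.sq_Z g.1 g.2
  · apply le_antisymm
    · intro z hz
      by_cases hz1 : z = 1
      · rw [hz1]; exact Subgroup.one_mem _
      · apply Subgroup.subset_closure
        haveI : Fact (Nat.Prime 2) := ⟨Nat.prime_two⟩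
        exact orderOf_eq_prime (h.sq_Z z hz) hz1
    · rw [Subgroup.closure_le]
      intro x hx
      apply h.root
      rw [← (hx : orderOf x = 2)]
      exact pow_orderOf_eq_one x
  · apply le_antisymm
    · intro z hz
      obtain ⟨x, y, rfl⟩ := h.comm z hz
      exact Subgroup.commutator_mem_commutator (Subgroup.mem_top x) (Subgroup.mem_top y)
    · rw [commutator_def, Subgroup.commutator_le]
      intro a _ b _
      have hc : b * (a ^ 2)⁻¹ = (a ^ 2)⁻¹ * b :=
        Subgroup.mem_center_iff.mp (Subgroup.inv_mem _ (h.sq_mem a)) b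
      have : ⁅a, b⁆ = (a * b) ^ 2 * (a ^ 2)⁻¹ * (b ^ 2)⁻¹ := by
        calc ⁅a, b⁆ = a * b * a * ((a ^ 2)⁻¹ * b) * (b ^ 2)⁻¹ := by
              simp only [commutatorElement_def, pow_two]; group
          _ = a * b * a * (b * (a ^ 2)⁻¹) * (b ^ 2)⁻¹ := by rw [hc]
          _ = _ := by simp only [pow_two]; group
      rw [this]
      exact Subgroup.mul_mem _ (Subgroup.mul_mem _ (h.sq_mem _) (Subgroup.inv_mem _ (h.sq_mem _)))
        (Subgroup.inv_mem _ (h.sq_mem _))
  · have := Subgroup.card_eq_card_quotient_mul_card_subgroup (Subgroup.center H)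
    rw [h.card, h.card_Z] at this
    omega
  · intro x
    obtain ⟨t, rfl⟩ := QuotientGroup.mk_surjective x
    rw [← QuotientGroup.mk_pow]
    exact (QuotientGroup.eq_one_iff _).mpr (h.sq_mem t)

theorem facts_sylow {F : Type*} [Field F] [Fintype F] (hF : Fintype.card F = 16)
    (S : Sylow 2 (Cfsg.PSU 3 F 4)) : Facts (S : Subgroup (Cfsg.PSU 3 F 4)) := by
  have hF' : Fintype.card F = 4 ^ 2 := by rw [hF]; norm_num
  have h2 : (2 : F) = 0 := Cfsg.Agent.S3156.char_two hF
  obtain ⟨g⟩ := Cfsg.Agent.S3156.sylow_PSU hF' h2 S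
  exact Facts.of_equiv g.symm (facts_T hF' h2)

/-- Let F be a field with 16 elements and S a Sylow 2-subgroup of PSU(3) over F (the unitary group U₃(4)). Then |S| = 64; the centre Z(S) is a Klein four-group and coincides with the subgroup generated by the involutions of S and with the derived subgroup; and every element of S ⧸ Z(S) squares to the identity, S ⧸ Z(S) having order 16. -/
theorem result {F : Type*} [Field F] [Fintype F] (hF : Fintype.card F = 16) (S : Sylow 2 (Cfsg.PSU 3 F 4)) : Nat.card S = 64 ∧ IsKleinFour (Subgroup.center (S : Subgroup (Cfsg.PSU 3 F 4))) ∧ Subgroup.center (S : Subgroup (Cfsg.PSU 3 F 4)) = Subgroup.closure {x : (S : Subgroup (Cfsg.PSU 3 F 4)) | orderOf x = 2} ∧ Subgroup.center (S : Subgroup (Cfsg.PSU 3 F 4)) = commutator (S : Subgroup (Cfsg.PSU 3 F 4)) ∧ Nat.card ((S : Subgroup (Cfsg.PSU 3 F 4)) ⧸ Subgroup.center (S : Subgroup (Cfsg.PSU 3 F 4))) = 16 ∧ ∀ x : (S : Subgroup (Cfsg.PSU 3 F 4)) ⧸ Subgroup.center (S : Subgroup (Cfsg.PSU 3 F 4)),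 x ^ 2 = 1 :=
  conclude (facts_sylow hF S)

end Cfsg.Agent.S1248
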