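import Mathlib
import Cfsg.Statements.S1249

set_option autoImplicit false
open Cfsg

namespace Cfsg.Agent.S1249

/-- Let P and Q be Sylow p-subgroups of the finite group G both containing the subgroup A. If A is strongly closed in P, then A is strongly closed in Q. -/
theorem result {G : Type*} [Group G] [Finite G] {p : ℕ} [Fact p.Prime] (P Q : Sylow p G) (A : Subgroup G) (hAQ : A ≤ Q) (hA : Cfsg.IsStronglyClosed A (P : Subgroup G)) : Cfsg.IsStronglyClosed A (Q : Subgroup G) := by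
  obtain ⟨hAP, hcl⟩ := hA
  refine ⟨hAQ, ?_⟩
  obtain ⟨c, hc⟩ := MulAction.exists_smul_eq G P Q
  -- membership in Q via c
  have hQ : ∀ x : G, x ∈ (Q : Subgroup G) ↔ c⁻¹ * x * c ∈ (P : Subgroup G) := by
    intro x
    rw [← hc, Sylow.coe_subgroup_smul, Subgroup.mem_pointwise_smul_iff_inv_smul_mem]
    simp [MulAut.smul_def, MulAut.conj_apply, mul_assoc]
  -- conjugation by c⁻¹ maps A into A
  have h1 : ∀ a ∈ A, c⁻¹ * a * c ∈ A := by
    intro a ha
    have : c⁻¹ * a * c⁻¹⁻¹ ∈ (P : Subgroup G) := by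
      have := (hQ a).1 (hAQ ha)
      simpa using this
    have := hcl a ha c⁻¹ this
    simpa using this
  -- so conjugation by c maps A into A (finiteness)
  have h2 : ∀ a ∈ A, c * a * c⁻¹ ∈ A := by
    classical
    haveI : Fintype G := Fintype.ofFinite G
    intro a ha
    have hord : c ^ orderOf c = 1 := pow_orderOf_eq_one c
    have hpos : 0 < orderOf c := orderOf_pos c
    have key : ∀ n : ℕ, ∀ b ∈ A, (c⁻¹) ^ n * b * ((c⁻¹) ^ n)⁻¹ ∈ A := by
      intro n
      induction n with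
      | zero => intro b hb; simpa using hb
      | succ n ih =>
        intro b hb
        have := ih _ (h1 b hb)
        have e : (c⁻¹) ^ (n + 1) * b * ((c⁻¹) ^ (n + 1))⁻¹ = (c⁻¹) ^ n * (c⁻¹ * b * c) * ((c⁻¹) ^ n)⁻¹ := by
          rw [pow_succ]; group
        rw [e]; exact this
    have := key (orderOf c - 1) a ha
    have e : (c⁻¹) ^ (orderOf c - 1) = c := by
      have h3 : (c⁻¹) ^ (orderOf c - 1) * c⁻¹ = 1 := by
        rw [← pow_succ, Nat.sub_add_cancel hpos, inv_pow, hord, inv_one]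
      exact (mul_inv_eq_one.mp h3)
    rw [e] at this
    exact this
  intro x hx g hg
  have hg1 : c⁻¹ * (g * x * g⁻¹) * c ∈ (P : Subgroup G) := (hQ _).1 hg
  have e : c⁻¹ * (g * x * g⁻¹) * c = (c⁻¹ * g) * x * (c⁻¹ * g)⁻¹ := by group
  rw [e] at hg1
  have := hcl x hx _ hg1
  rw [← e] at this
  have h3 := h2 _ this
  have e2 : c * (c⁻¹ * (g * x * g⁻¹) * c) * c⁻¹ = g * x * g⁻¹ := by group
  rw [e2] at h3
  exact h3

end Cfsg.Agent.S1249
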