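import Mathlib
import Cfsg.Statements.S1250

set_option autoImplicit false
open Cfsg

namespace Cfsg.Agent.S1250

/-- Let S be a Sylow p-subgroup of the finite group G, A ≤ S strongly closed in S, and N a normal subgroup. Then the image of A in G ⧸ N is strongly closed in the image of S (which is a Sylow p-subgroup of G ⧸ N). -/
theorem result {G : Type*} [Group G] [Finite G] {p : ℕ} [Fact p.Prime] (S : Sylow p G) (A : Subgroup G) (hA : Cfsg.IsStronglyClosed A (S : Subgroup G)) (N : Subgroup G) [N.Normal] : Cfsg.IsStronglyClosed (A.map (QuotientGroup.mk' N)) ((S : Subgroup G).map (QuotientGroup.mk' N)) := by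
  classical
  obtain ⟨hAS, hcl⟩ := hA
  refine ⟨Subgroup.map_mono hAS, ?_⟩
  rintro _ ⟨x, hx, rfl⟩ gbar hg
  obtain ⟨g, rfl⟩ := QuotientGroup.mk'_surjective N gbar
  -- y = g x g⁻¹ is in S N
  set y : G := g * x * g⁻¹ with hy
  have hyimg : (QuotientGroup.mk' N) y ∈ (S : Subgroup G).map (QuotientGroup.mk' N) := by
    have : (QuotientGroup.mk' N) g * (QuotientGroup.mk' N) x * ((QuotientGroup.mk' N) g)⁻¹ = (QuotientGroup.mk' N) y := by
      simp [hy]
    rwa [this] at hg
  -- K := S ⊔ N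
  let K : Subgroup G := (S : Subgroup G) ⊔ N
  have hSK : (S : Subgroup G) ≤ K := le_sup_left
  have hyK : y ∈ K := by
    obtain ⟨s, hs, hse⟩ := hyimg
    have : s⁻¹ * y ∈ N := by
      rw [← QuotientGroup.eq_one_iff]
      have h2 : ((s⁻¹ * y : G) : G ⧸ N) = ((QuotientGroup.mk' N) s)⁻¹ * (QuotientGroup.mk' N) y := by
        simp
      rw [h2, ← hse]; simp
    have := K.mul_mem (le_sup_left (a := (S : Subgroup G)) hs) (le_sup_right (b := N) this)
    simpa using this
  -- y has p-power order: it is conjugate to x ∈ S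
  have hxp : IsPGroup p (Subgroup.zpowers y) := by
    rw [IsPGroup.iff_orderOf]
    intro a
    obtain ⟨k, hk⟩ := (Subgroup.mem_zpowers_iff.mp a.2)
    have hxord : ∃ m, orderOf x = p ^ m := by
      have := (S.2.to_le hAS)
      obtain ⟨m, hm⟩ := (IsPGroup.iff_orderOf.mp this) ⟨x, hx⟩
      refine ⟨m, ?_⟩
      simpa using hm
    obtain ⟨m, hm⟩ := hxord
    have hyord : orderOf y = p ^ m := by
      rw [hy, ← hm]
      have := orderOf_injective (MulAut.conj g).toMonoidHom (MulAut.conj g).injective x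
      simpa [MulAut.conj_apply] using this
    have hd : orderOf (a : G) ∣ p ^ m := by
      rw [← hk, ← hyord]
      exact orderOf_dvd_of_pow_eq_one (by
        rw [← zpow_natCast, ← zpow_mul, mul_comm, zpow_mul, zpow_natCast, pow_orderOf_eq_one, one_zpow])
    obtain ⟨j, -, hj⟩ := (Nat.dvd_prime_pow Fact.out).mp hd
    refine ⟨j, ?_⟩
    simpa using hj
  -- conjugate y into S by an element of K
  let S' : Sylow p K := S.subtype hSK
  have hT' : IsPGroup p ((Subgroup.zpowers y).subgroupOf K) :=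
    hxp.comap_of_injective K.subtype K.subtype_injective
  obtain ⟨Q, hQ⟩ := hT'.exists_le_sylow
  obtain ⟨u, hu⟩ := MulAction.exists_smul_eq K Q S'
  have h1 : (⟨y, hyK⟩ : K) ∈ (Q : Subgroup K) :=
    hQ (Subgroup.mem_subgroupOf.mpr (Subgroup.mem_zpowers y))
  have h2 : u * ⟨y, hyK⟩ * u⁻¹ ∈ ((u • Q : Sylow p K) : Subgroup K) := by
    rw [Sylow.smul_def, Sylow.pointwise_smul_def]
    exact ⟨_, h1, rfl⟩
  rw [hu] at h2
  have h3 : (u : G) * y * (u : G)⁻¹ ∈ (S : Subgroup G) := by
    have h3' : u * ⟨y, hyK⟩ * u⁻¹ ∈ ((S : Subgroup G).subgroupOf K) := h2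
    exact Subgroup.mem_subgroupOf.mp h3'
  -- strong closure: u y u⁻¹ ∈ A
  have h4 : (u : G) * y * (u : G)⁻¹ ∈ A := by
    have e : (u : G) * y * (u : G)⁻¹ = ((u : G) * g) * x * ((u : G) * g)⁻¹ := by
      rw [hy]; group
    rw [e] at h3 ⊢
    exact hcl x hx _ h3
  -- write u = n s with n ∈ N, s ∈ S
  obtain ⟨s, hs, n, hn, hu'⟩ := Subgroup.mem_sup_of_normal_right.mp u.2
  -- s⁻¹ (u y u⁻¹) s ∈ A by strong closure again
  have h5 : s⁻¹ * ((u : G) * y * (u : G)⁻¹) * s ∈ A := by
    have hmem : s⁻¹ * ((u : G) * y * (u : G)⁻¹) * s ∈ (S : Subgroup G) :=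
      (S : Subgroup G).mul_mem ((S : Subgroup G).mul_mem ((S : Subgroup G).inv_mem hs) (hAS h4)) hs
    have := hcl _ h4 s⁻¹ (by simpa using hmem)
    simpa using this
  -- its image equals that of y up to N
  refine ⟨s⁻¹ * ((u : G) * y * (u : G)⁻¹) * s, h5, ?_⟩
  · -- image computation
    have e : (QuotientGroup.mk' N) (s⁻¹ * ((u : G) * y * (u : G)⁻¹) * s) = (QuotientGroup.mk' N) (g * x * g⁻¹) := by
      rw [← hu']
      have hnn : (QuotientGroup.mk' N) n = 1 := (QuotientGroup.eq_one_iff n).mpr hn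
      simp only [hy, map_mul, map_inv, hnn, mul_one]
      group
    simpa using e

end Cfsg.Agent.S1250
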