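import Mathlib
import Cfsg.Statements.S1251
import Cfsg.Agent.Lib.ZStar

set_option autoImplicit false
open Cfsg

namespace Cfsg.Agent.S1251

open Cfsg.Agent.Lib Cfsg.Agent.Lib.PCore

universe u

theorem core_eq_bot_of_equiv {A B : Type*} [Group A] [Group B] [Finite A] [Finite B] (e : A ≃* B)
    (h : oddCore A = ⊥) : oddCore B = ⊥ := by
  have h1 : (pPrimeCore 2 B).map e.symm.toMonoidHom ≤ pPrimeCore 2 A := by
    apply le_pPrimeCore
    · exact Subgroup.Normal.map inferInstance _ e.symm.surjective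
    · rw [Subgroup.card_map_of_injective e.symm.injective]
      exact card_pPrimeCore_coprime 2
  have h2 : oddCore A = pPrimeCore 2 A := rfl
  rw [← h2, h, le_bot_iff] at h1
  exact (Subgroup.map_eq_bot_iff_of_injective _ e.symm.injective).1 h1

theorem aux : ∀ (n : ℕ) {X : Type u} [Group X] [Finite X], Nat.card X = n →
    ∀ (T : Sylow 2 X) (A H : Subgroup X), A ≤ (T : Subgroup X) →
    (∀ a ∈ A, ∀ g : X, g * a * g⁻¹ ∈ (T : Subgroup X) → g * a * g⁻¹ ∈ A) →
    H.Normal → H ⊔ A = ⊤ → H ⊓ A = ⊥ → oddCore H = ⊥ → ∀ a ∈ A, ∀ h ∈ H, a * h = h * a := by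
  intro n
  induction n using Nat.strong_induction_on with
  | _ n IH =>
  intro X _ _ hcard T A H hAT hcl hHn htop hdisj hO
  classical
  by_cases hA : A = ⊥
  · subst hA
    intro a ha h _
    rw [Subgroup.mem_bot.1 ha]
    simp
  -- a central involution of `A`
  obtain ⟨a₀, ha₀A, ha₀2, ha₀c⟩ : ∃ a₀ ∈ A, orderOf a₀ = 2 ∧ ∀ b ∈ A, b * a₀ = a₀ * b := by
    have hAp : IsPGroup 2 A := T.isPGroup'.to_le hAT
    have hnt : Nontrivial A := (Subgroup.nontrivial_iff_ne_bot A).2 hA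
    have hcn := hAp.center_nontrivial
    have hcp : IsPGroup 2 (Subgroup.center A) := hAp.to_subgroup _
    obtain ⟨k, hk⟩ := IsPGroup.iff_card.1 hcp
    have hk0 : k ≠ 0 := by
      rintro rfl
      have := Finite.one_lt_card (α := Subgroup.center A)
      rw [hk] at this
      simp at this
    have h2 : 2 ∣ Nat.card (Subgroup.center A) := by
      rw [hk]
      exact dvd_pow_self 2 hk0
    obtain ⟨y, hy⟩ := exists_prime_orderOf_dvd_card' 2 h2
    refine ⟨((y : A) : X), (y : A).2, ?_, ?_⟩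
    · rw [Subgroup.orderOf_coe, Subgroup.orderOf_coe]
      exact hy
    · intro b hb
      have h3 := (Subgroup.mem_center_iff.1 y.2) ⟨b, hb⟩
      exact congrArg Subtype.val h3
  have haa : a₀ * a₀ = 1 := EmbInvol.mul_self_of_order ha₀2
  have hai : a₀⁻¹ = a₀ := inv_eq_of_mul_eq_one_left haa
  -- conjugates of `a₀` in `A`
  have hconj : ∀ x : X, x * a₀ * x⁻¹ ∈ A → x * a₀ * x⁻¹ = a₀ := by
    intro x hx
    have hxm : x ∈ H ⊔ A := by rw [htop]; trivial
    obtain ⟨h, hh, c, hc, rfl⟩ := Subgroup.mem_sup_of_normal_left.mp hxm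
    have e : h * c * a₀ * (h * c)⁻¹ = h * a₀ * h⁻¹ := by
      calc h * c * a₀ * (h * c)⁻¹ = h * (c * a₀) * c⁻¹ * h⁻¹ := by group
        _ = h * (a₀ * c) * c⁻¹ * h⁻¹ := by rw [ha₀c c hc]
        _ = h * a₀ * h⁻¹ := by group
    rw [e] at hx ⊢
    have h1 : h * a₀ * h⁻¹ * a₀⁻¹ ∈ H := by
      have h2 : a₀ * h⁻¹ * a₀⁻¹ ∈ H := hHn.conj_mem _ (H.inv_mem hh) a₀
      have e2 : h * a₀ * h⁻¹ * a₀⁻¹ = h * (a₀ * h⁻¹ * a₀⁻¹) := by group
      rw [e2]
      exact H.mul_mem hh h2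
    have h3 : h * a₀ * h⁻¹ * a₀⁻¹ ∈ A := A.mul_mem hx (A.inv_mem ha₀A)
    have h4 : h * a₀ * h⁻¹ * a₀⁻¹ ∈ H ⊓ A := ⟨h1, h3⟩
    rw [hdisj] at h4
    exact mul_inv_eq_one.1 (Subgroup.mem_bot.1 h4)
  -- elements of `T`-conjugates
  have hTconj : ∀ (T₁ : Sylow 2 X) (x : X), a₀ ∈ (T₁ : Subgroup X) → x * a₀ * x⁻¹ ∈ (T₁ : Subgroup X) →
      x * a₀ * x⁻¹ = a₀ := by
    intro T₁ x h1 h2
    obtain ⟨y, hy⟩ := MulAction.exists_smul_eq X T₁ T
    have hmem : ∀ b ∈ (T₁ : Subgroup X), y * b * y⁻¹ ∈ (T : Subgroup X) := by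
      intro b hb
      rw [← hy]
      exact Subgroup.mem_pointwise_smul_iff_inv_smul_mem.2 (by
        simpa [MulAut.smul_def, Subgroup.smul_def, mul_assoc] using hb)
    have h3 := hconj y (hcl a₀ ha₀A y (hmem _ h1))
    have h4 : (y * x) * a₀ * (y * x)⁻¹ = y * (x * a₀ * x⁻¹) * y⁻¹ := by group
    have h5 := hconj (y * x) (hcl a₀ ha₀A (y * x) (by rw [h4]; exact hmem _ h2))
    rw [h4] at h5
    have h6 : y * (x * a₀ * x⁻¹) * y⁻¹ = y * a₀ * y⁻¹ := by rw [h5, h3]
    exact mul_left_cancel (mul_right_cancel h6)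
  have hI : IsIsolatedInvolution a₀ := by
    refine ⟨ha₀2, fun g hg => ?_⟩
    have hyy : (g * a₀ * g⁻¹) * (g * a₀ * g⁻¹) = 1 := by
      calc g * a₀ * g⁻¹ * (g * a₀ * g⁻¹) = g * (a₀ * a₀) * g⁻¹ := by group
        _ = 1 := by rw [haa]; simp
    obtain ⟨T₁, hT₁⟩ := (ZStarKey.isPGroup_closure_pair haa hyy hg).exists_le_sylow
    exact hTconj T₁ g (hT₁ (Subgroup.subset_closure (by simp)))
      (hT₁ (Subgroup.subset_closure (by simp)))
  -- `a₀` centralizes `H`
  have hZ := ZStar.zstar hI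
  have hcent : ∀ h ∈ H, a₀ * h = h * a₀ := by
    intro h hh
    have h1 : h * a₀ * h⁻¹ * a₀⁻¹ ∈ pPrimeCore 2 X := hZ h
    have h2 : h * a₀ * h⁻¹ * a₀⁻¹ ∈ H := by
      have h3 : a₀ * h⁻¹ * a₀⁻¹ ∈ H := hHn.conj_mem _ (H.inv_mem hh) a₀
      have e2 : h * a₀ * h⁻¹ * a₀⁻¹ = h * (a₀ * h⁻¹ * a₀⁻¹) := by group
      rw [e2]
      exact H.mul_mem hh h3
    set M : Subgroup H := (pPrimeCore 2 X).subgroupOf H with hM
    have hMn : M.Normal := Subgroup.Normal.subgroupOf (inferInstance : (pPrimeCore 2 X).Normal) H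
    have hMc : (Nat.card M).Coprime 2 := by
      have h3 : Nat.card M ∣ Nat.card (pPrimeCore 2 X) := by
        have h4 : Nat.card M = Nat.card (M.map H.subtype) :=
          (Subgroup.card_map_of_injective H.subtype_injective).symm
        rw [h4]
        apply Subgroup.card_dvd_of_le
        rw [Subgroup.map_le_iff_le_comap]
        exact fun x hx => hx
      exact Nat.Coprime.coprime_dvd_left h3 (card_pPrimeCore_coprime 2)
    have h5 : (⟨_, h2⟩ : H) ∈ pPrimeCore 2 H := le_pPrimeCore hMn hMc (by exact h1)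
    have h6 : oddCore H = pPrimeCore 2 H := rfl
    rw [← h6, hO] at h5
    have h7 : h * a₀ * h⁻¹ * a₀⁻¹ = 1 := congrArg Subtype.val (Subgroup.mem_bot.1 h5)
    have h8 : h * a₀ * h⁻¹ = a₀ := mul_inv_eq_one.1 h7
    calc a₀ * h = (h * a₀ * h⁻¹) * h := by rw [h8]
      _ = h * a₀ := by group
  -- the subgroup `C`
  set C : Subgroup X := A ⊓ Subgroup.centralizer (H : Set X) with hC
  have hmemC : ∀ c : X, c ∈ C ↔ c ∈ A ∧ ∀ h ∈ H, c * h = h * c := by
    intro c
    rw [hC, Subgroup.mem_inf, Subgroup.mem_centralizer_iff]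
    constructor
    · rintro ⟨h1, h2⟩
      exact ⟨h1, fun h hh => (h2 h hh).symm⟩
    · rintro ⟨h1, h2⟩
      exact ⟨h1, fun h hh => (h2 h hh).symm⟩
  have hCn : C.Normal := by
    constructor
    intro c hc x
    have hxm : x ∈ H ⊔ A := by rw [htop]; trivial
    obtain ⟨h, hh, b, hb, rfl⟩ := Subgroup.mem_sup_of_normal_left.mp hxm
    obtain ⟨hcA, hcH⟩ := (hmemC c).1 hc
    have hbc : (b * c * b⁻¹) ∈ C := by
      rw [hmemC]
      refine ⟨A.mul_mem (A.mul_mem hb hcA) (A.inv_mem hb), fun k hk => ?_⟩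
      have h1 : b⁻¹ * k * b ∈ H := by
        have := hHn.conj_mem k hk b⁻¹
        simpa using this
      have h2 := hcH _ h1
      calc b * c * b⁻¹ * k = b * (c * (b⁻¹ * k * b)) * b⁻¹ := by group
        _ = b * ((b⁻¹ * k * b) * c) * b⁻¹ := by rw [h2]
        _ = k * (b * c * b⁻¹) := by group
    have e : h * b * c * (h * b)⁻¹ = h * (b * c * b⁻¹) * h⁻¹ := by group
    rw [e]
    have h3 := ((hmemC _).1 hbc).2 h hh
    rw [← h3]
    have e2 : b * c * b⁻¹ * h * h⁻¹ = b * c * b⁻¹ := by group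
    rw [e2]
    exact hbc
  have ha₀C : a₀ ∈ C := (hmemC a₀).2 ⟨ha₀A, hcent⟩
  have hCne : C ≠ ⊥ := by
    intro h0
    rw [h0] at ha₀C
    exact EmbInvol.ne_one_of_order ha₀2 (Subgroup.mem_bot.1 ha₀C)
  have hCA : C ≤ A := inf_le_left
  have hCT : C ≤ (T : Subgroup X) := hCA.trans hAT
  -- the quotient
  set f : X →* X ⧸ C := QuotientGroup.mk' C with hf
  have hfs : Function.Surjective f := QuotientGroup.mk'_surjective C
  have hfk : ∀ x : X, f x = 1 ↔ x ∈ C := fun x => QuotientGroup.eq_one_iff x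
  have hlt : Nat.card (X ⧸ C) < n := by
    have h1 : 1 < Nat.card C := Subgroup.one_lt_card_iff_ne_bot C |>.2 hCne
    have h2 := Subgroup.card_mul_index C
    have h3 : 0 < C.index := Nat.pos_of_ne_zero Subgroup.index_ne_zero_of_finite
    rw [← Subgroup.index_eq_card, ← hcard, ← h2]
    nlinarith
  have hHf : Function.Injective (f.subgroupMap H) := by
    rw [injective_iff_map_eq_one]
    intro h hh
    have h1 : f (h : X) = 1 := congrArg Subtype.val hh
    have h2 : (h : X) ∈ C := (hfk _).1 h1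
    have h3 : (h : X) ∈ H ⊓ A := ⟨h.2, hCA h2⟩
    rw [hdisj] at h3
    exact Subtype.ext (Subgroup.mem_bot.1 h3)
  let e : H ≃* H.map f := MulEquiv.ofBijective (f.subgroupMap H) ⟨hHf, f.subgroupMap_surjective H⟩
  have hmain := IH _ hlt rfl (T.mapSurjective hfs) (A.map f) (H.map f)
    (Subgroup.map_mono hAT)
    (by
      rintro _ ⟨a, ha, rfl⟩ g hg
      obtain ⟨g, rfl⟩ := hfs g
      have h1 : f (g * a * g⁻¹) ∈ (T : Subgroup X).map f := by
        simpa [map_mul, map_inv] using hg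
      obtain ⟨t, ht, hft⟩ := h1
      have h2 : t⁻¹ * (g * a * g⁻¹) ∈ C := by
        rw [← hfk, map_mul, map_inv, ← hft, inv_mul_cancel]
      have h3 : g * a * g⁻¹ ∈ (T : Subgroup X) := by
        have e2 : g * a * g⁻¹ = t * (t⁻¹ * (g * a * g⁻¹)) := by group
        rw [e2]
        exact Subgroup.mul_mem _ ht (hCT h2)
      have h4 := hcl a ha g h3
      exact ⟨_, h4, by simp [map_mul, map_inv]⟩)
    (Subgroup.Normal.map hHn f hfs)
    (by
      rw [← Subgroup.map_sup, htop]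
      exact Subgroup.map_top_of_surjective f hfs)
    (by
      rw [eq_bot_iff]
      rintro x ⟨⟨h, hh, rfl⟩, ⟨a, ha, hfa⟩⟩
      have h1 : a⁻¹ * h ∈ C := by
        rw [← hfk, map_mul, map_inv, hfa, inv_mul_cancel]
      have h2 : h ∈ A := by
        have e2 : h = a * (a⁻¹ * h) := by group
        rw [e2]
        exact A.mul_mem ha (hCA h1)
      have h3 : h ∈ H ⊓ A := ⟨hh, h2⟩
      rw [hdisj] at h3
      rw [Subgroup.mem_bot.1 h3, map_one]
      exact Subgroup.one_mem _)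
    (core_eq_bot_of_equiv e hO)
  intro a ha h hh
  have h1 := hmain (f a) ⟨a, ha, rfl⟩ (f h) ⟨h, hh, rfl⟩
  have h2 : a * h * a⁻¹ * h⁻¹ ∈ C := by
    rw [← hfk]
    simp only [map_mul, map_inv]
    rw [h1]
    group
  have h3 : a * h * a⁻¹ * h⁻¹ ∈ H := by
    have h4 : a * h * a⁻¹ ∈ H := hHn.conj_mem h hh a
    exact H.mul_mem h4 (H.inv_mem hh)
  have h5 : a * h * a⁻¹ * h⁻¹ ∈ H ⊓ A := ⟨h3, hCA h2⟩
  rw [hdisj] at h5
  have h6 := Subgroup.mem_bot.1 h5
  have h7 : a * h * a⁻¹ = h := mul_inv_eq_one.1 h6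
  calc a * h = (a * h * a⁻¹) * a := by group
    _ = h * a := by rw [h7]

/-- Let S be a Sylow 2-subgroup of the finite group G and A ≤ S strongly closed in S. If H is a subgroup normalized by A with no nontrivial normal subgroup of odd order and A ∩ H = 1, then A ≤ C_G(H). -/
theorem result {G : Type*} [Group G] [Finite G] (S : Sylow 2 G) (A : Subgroup G) (hA : Cfsg.IsStronglyClosed A (S : Subgroup G)) (H : Subgroup G) (hAH : A ≤ Subgroup.normalizer (H : Set G)) (hO : Cfsg.oddCore ↥H = ⊥) (hdisj : A ⊓ H = ⊥) : A ≤ Subgroup.centralizer (H : Set G) := by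
  classical
  set X : Subgroup G := H ⊔ A with hX
  have hHX : H ≤ X := le_sup_left
  have hAX : A ≤ X := le_sup_right
  have hXn : X ≤ Subgroup.normalizer (H : Set G) := sup_le Subgroup.le_normalizer hAH
  have hA2 : IsPGroup 2 A := S.isPGroup'.to_le hA.1
  have hA'2 : IsPGroup 2 (A.subgroupOf X) := hA2.comap_of_injective X.subtype X.subtype_injective
  obtain ⟨T, hT⟩ := hA'2.exists_le_sylow
  have hTG : IsPGroup 2 ((T : Subgroup X).map X.subtype) := T.isPGroup'.map _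
  obtain ⟨S', hS'⟩ := hTG.exists_le_sylow
  obtain ⟨y, hy⟩ := MulAction.exists_smul_eq G S' S
  have hmem : ∀ b ∈ (S' : Subgroup G), y * b * y⁻¹ ∈ (S : Subgroup G) := by
    intro b hb
    rw [← hy]
    exact Subgroup.mem_pointwise_smul_iff_inv_smul_mem.2 (by
      simpa [MulAut.smul_def, Subgroup.smul_def, mul_assoc] using hb)
  have hAS' : A ≤ (S' : Subgroup G) := by
    intro a ha
    exact hS' ⟨⟨a, hAX ha⟩, hT ha, rfl⟩
  have hyA : ∀ a ∈ A, y * a * y⁻¹ ∈ A := fun a ha => hA.2 a ha y (hmem a (hAS' ha))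
  -- conjugation by `y` permutes `A`
  have hyA' : ∀ b ∈ A, ∃ a ∈ A, y * a * y⁻¹ = b := by
    have hle : A.map (MulAut.conj y).toMonoidHom ≤ A := by
      rintro _ ⟨a, ha, rfl⟩
      exact hyA a ha
    have heq : A.map (MulAut.conj y).toMonoidHom = A :=
      Subgroup.eq_of_le_of_card_ge hle (by
        rw [Subgroup.card_map_of_injective (MulAut.conj y).injective])
    intro b hb
    rw [← heq] at hb
    obtain ⟨a, ha, rfl⟩ := hb
    exact ⟨a, ha, rfl⟩
  have hres := aux _ rfl T (A.subgroupOf X) (H.subgroupOf X) hT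
    (by
      intro a ha g hg
      rw [Subgroup.mem_subgroupOf] at ha ⊢
      have h1 : ((g * a * g⁻¹ : X) : G) ∈ (S' : Subgroup G) := hS' ⟨_, hg, rfl⟩
      have h2 := hmem _ h1
      have h3 : y * ((g * a * g⁻¹ : X) : G) * y⁻¹ = (y * g) * a * (y * g)⁻¹ := by
        simp only [Subgroup.coe_mul, InvMemClass.coe_inv]
        group
      rw [h3] at h2
      have h4 := hA.2 a ha (y * g) h2
      obtain ⟨c, hc, hcy⟩ := hyA' _ h4
      have h5 : ((g * a * g⁻¹ : X) : G) = c := by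
        have h6 : y * c * y⁻¹ = y * ((g * a * g⁻¹ : X) : G) * y⁻¹ := by rw [hcy, h3]
        exact (mul_left_cancel (mul_right_cancel h6)).symm
      rw [h5]
      exact hc)
    ((Subgroup.normal_subgroupOf_iff_le_normalizer hHX).2 hXn)
    (by
      rw [← Subgroup.subgroupOf_sup hHX hAX]
      exact Subgroup.subgroupOf_self X)
    (by
      rw [eq_bot_iff]
      rintro x ⟨h1, h2⟩
      have h3 : (x : G) ∈ A ⊓ H := ⟨h2, h1⟩
      rw [hdisj] at h3
      exact Subtype.ext (Subgroup.mem_bot.1 h3))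
    (core_eq_bot_of_equiv (Subgroup.subgroupOfEquivOfLe hHX).symm hO)
  intro a ha
  rw [Subgroup.mem_centralizer_iff]
  intro h hh
  have h1 := hres ⟨a, hAX ha⟩ ha ⟨h, hHX hh⟩ hh
  exact (congrArg Subtype.val h1).symm

end Cfsg.Agent.S1251
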