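-- Statement S1305
import Mathlib
import Cfsg.Agent.Lib.StdForm
import Cfsg.Statements.S1305

set_option autoImplicit false
open Cfsg

namespace Cfsg.Agent.S1305

open Cfsg.Agent.S3153 Cfsg.Agent.Lib.LocalCore

set_option linter.unusedSectionVars false

section
open scoped commutatorElement

variable {Y : Type*} [Group Y]

/-- The commutator of products with commuting factors. -/
theorem comm_prod {d j m n : Y} (h1 : Commute d m) (h2 : Commute d n) (h3 : Commute j m)
    (h4 : Commute j n) : ⁅d * m, j * n⁆ = ⁅d, j⁆ * ⁅m, n⁆ := by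
  have e1 : d * m * (j * n) = d * j * (m * n) := by
    rw [mul_assoc d m, ← mul_assoc m j n, h3.symm.eq, mul_assoc j m n, mul_assoc d j]
  have e2 : (d * m)⁻¹ * (j * n)⁻¹ = (n * m)⁻¹ * (j * d)⁻¹ := by
    rw [← mul_inv_rev, ← mul_inv_rev]
    congr 1
    rw [mul_assoc j n, ← mul_assoc n d m, h2.symm.eq, mul_assoc d n m, mul_assoc j d]
  have hc : Commute (m * n * (n * m)⁻¹) (j * d)⁻¹ := by
    apply Commute.inv_right
    have hmj : Commute (j * d) m := h3.mul_left h1
    have hnj : Commute (j * d) n := h4.mul_left h2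
    exact ((hmj.mul_right hnj).mul_right ((hnj.mul_right hmj).inv_right)).symm
  rw [commutatorElement_def, commutatorElement_def, commutatorElement_def]
  calc d * m * (j * n) * (d * m)⁻¹ * (j * n)⁻¹
      = d * m * (j * n) * ((d * m)⁻¹ * (j * n)⁻¹) := by group
    _ = d * j * (m * n) * ((n * m)⁻¹ * (j * d)⁻¹) := by rw [e1, e2]
    _ = d * j * (m * n * (n * m)⁻¹ * (j * d)⁻¹) := by group
    _ = d * j * ((j * d)⁻¹ * (m * n * (n * m)⁻¹)) := by rw [hc.eq]
    _ = d * j * d⁻¹ * j⁻¹ * (m * n * m⁻¹ * n⁻¹) := by group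

/-- A commuting element commutes with a commutator. -/
theorem comm_of_perfect {J : Subgroup Y} (hJ : ⁅J, J⁆ = J) {H : Subgroup Y}
    (h : ∀ x ∈ J, ∀ y ∈ J, ⁅x, y⁆ ∈ H) : J ≤ H := by
  rw [← hJ, Subgroup.commutator_le]
  exact h

variable [Finite Y]

/-- Decomposition of the layer with respect to a component. -/
theorem decomp_one {J : Subgroup Y} (hJ : IsComponent J) {k : Y} (hk : k ∈ layer Y) :
    ∃ j ∈ J, ∃ m ∈ Subgroup.centralizer (J : Set Y), k = j * m := by
  have hle : layer Y ≤ J ⊔ Subgroup.centralizer (J : Set Y) := by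
    refine sSup_le fun L hL => ?_
    by_cases h : L = J
    · rw [h]; exact le_sup_left
    · exact le_trans (comp_le_centralizer_of_ne hL hJ h) le_sup_right
  exact exists_decomp (fun p hp m hm => (Subgroup.mem_centralizer_iff.mp hm p hp)) (hle hk)

/-- Decomposition of the layer with respect to two distinct components. -/
theorem decomp_two {J J' : Subgroup Y} (hJ : IsComponent J) (hJ' : IsComponent J') (hne : J ≠ J')
    {k : Y} (hk : k ∈ layer Y) :
    ∃ j ∈ J, ∃ j' ∈ J', ∃ m ∈ Subgroup.centralizer (J : Set Y) ⊓ Subgroup.centralizer (J' : Set Y),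
      k = j * j' * m := by
  have hle : layer Y ≤ (J ⊔ J') ⊔ (Subgroup.centralizer (J : Set Y) ⊓ Subgroup.centralizer (J' : Set Y)) := by
    refine sSup_le fun L hL => ?_
    by_cases h : L = J
    · rw [h]; exact le_trans le_sup_left le_sup_left
    by_cases h' : L = J'
    · rw [h']; exact le_trans le_sup_right le_sup_left
    · exact le_trans (le_inf (comp_le_centralizer_of_ne hL hJ h) (comp_le_centralizer_of_ne hL hJ' h'))
        le_sup_right
  have hc : ∀ p ∈ J ⊔ J', ∀ m ∈ Subgroup.centralizer (J : Set Y) ⊓ Subgroup.centralizer (J' : Set Y),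
      p * m = m * p := by
    intro p hp m hm
    have : J ⊔ J' ≤ Subgroup.centralizer ({m} : Set Y) := by
      refine sup_le (fun x hx => ?_) (fun x hx => ?_)
      · rw [Subgroup.mem_centralizer_iff]
        rintro y (rfl : y = m)
        exact (Subgroup.mem_centralizer_iff.mp hm.1 x hx).symm
      · rw [Subgroup.mem_centralizer_iff]
        rintro y (rfl : y = m)
        exact (Subgroup.mem_centralizer_iff.mp hm.2 x hx).symm
    exact (Subgroup.mem_centralizer_iff.mp (this hp) m rfl).symm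
  obtain ⟨p, hp, m, hm, rfl⟩ := exists_decomp hc (hle hk)
  have hcJ : ∀ x ∈ J, ∀ y ∈ J', x * y = y * x :=
    commutator_eq_bot_iff_elementwise.mp (comp_commute_of_ne hJ hJ' hne)
  obtain ⟨j, hj, j', hj', rfl⟩ := exists_decomp hcJ hp
  exact ⟨j, hj, j', hj', m, hm, rfl⟩

/-- The first case: `a` normalizes `J` and `K` centralizes `C_J(a)`. -/
theorem case_one {J K : Subgroup Y} (hJ : IsComponent J) (hKp : ⁅K, K⁆ = K) (hKE : K ≤ layer Y)
    {a : Y} (ha2 : a ^ 2 = 1) (haK : ∀ k ∈ K, a * k = k * a) (haJ : ∀ x ∈ J, a * x * a⁻¹ ∈ J)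
    (hcomm : ∀ k ∈ K, ∀ d ∈ J, a * d = d * a → k * d = d * k) :
    ∀ k ∈ K, ∀ x ∈ J, k * x = x * k := by
  have hainv : a⁻¹ = a := by
    have : a * a = 1 := by rw [← pow_two, ha2]
    exact (eq_inv_of_mul_eq_one_left this).symm
  set CJ := Subgroup.centralizer (J : Set Y) with hCJ
  have hmem : ∀ {m : Y}, m ∈ CJ ↔ ∀ x ∈ J, x * m = m * x := by
    intro m
    exact Subgroup.mem_centralizer_iff
  -- conjugation by `a` preserves `CJ`
  have haC : ∀ m ∈ CJ, a * m * a⁻¹ ∈ CJ := by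
    intro m hm
    rw [hmem]
    intro x hx
    have h1 : a * x * a⁻¹ ∈ J := haJ x hx
    have h2 := hmem.mp hm _ h1
    have haa : a * a = 1 := by rw [← pow_two, ha2]
    have hxx : x = a * (a * x * a⁻¹) * a⁻¹ := by
      rw [hainv]
      calc x = (a * a) * x * (a * a) := by rw [haa]; group
        _ = a * (a * x * a) * a := by group
    set y := a * x * a⁻¹ with hy
    rw [hxx]
    calc a * y * a⁻¹ * (a * m * a⁻¹) = a * (y * m) * a⁻¹ := by group
      _ = a * (m * y) * a⁻¹ := by rw [h2]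
      _ = a * m * a⁻¹ * (a * y * a⁻¹) := by group
  -- decomposition and the action of `a`
  have hdec : ∀ k ∈ K, ∃ j ∈ J, ∃ m ∈ CJ, k = j * m ∧
      ∃ z ∈ J, z ∈ CJ ∧ a * j * a⁻¹ = j * z := by
    intro k hk
    obtain ⟨j, hj, m, hm, rfl⟩ := decomp_one hJ (hKE hk)
    refine ⟨j, hj, m, hm, rfl, j⁻¹ * (a * j * a⁻¹), J.mul_mem (J.inv_mem hj) (haJ j hj), ?_, by group⟩
    have hfix : (a * j * a⁻¹) * (a * m * a⁻¹) = j * m := by
      have := haK _ hk
      calc (a * j * a⁻¹) * (a * m * a⁻¹) = a * (j * m) * a⁻¹ := by group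
        _ = (j * m) * a * a⁻¹ := by rw [this]
        _ = j * m := by group
    have hz : j⁻¹ * (a * j * a⁻¹) = m * (a * m * a⁻¹)⁻¹ := by
      calc j⁻¹ * (a * j * a⁻¹) = j⁻¹ * ((a * j * a⁻¹) * (a * m * a⁻¹)) * (a * m * a⁻¹)⁻¹ := by group
        _ = j⁻¹ * (j * m) * (a * m * a⁻¹)⁻¹ := by rw [hfix]
        _ = m * (a * m * a⁻¹)⁻¹ := by group
    rw [hz]
    exact CJ.mul_mem hm (CJ.inv_mem (haC m hm))
  -- commutators land in `D ⊔ CJ`
  set D : Subgroup Y := J ⊓ Subgroup.centralizer ({a} : Set Y) with hD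
  have hDmem : ∀ {d : Y}, d ∈ D ↔ d ∈ J ∧ a * d = d * a := by
    intro d
    constructor
    · rintro ⟨h1, h2⟩
      exact ⟨h1, (Subgroup.mem_centralizer_iff.mp h2 a rfl)⟩
    · rintro ⟨h1, h2⟩
      refine ⟨h1, Subgroup.mem_centralizer_iff.mpr ?_⟩
      rintro y (rfl : y = a)
      exact h2
  have hcomm1 : ∀ k₁ ∈ K, ∀ k₂ ∈ K, ⁅k₁, k₂⁆ ∈ D ⊔ CJ := by
    intro k₁ hk₁ k₂ hk₂
    obtain ⟨j₁, hj₁, m₁, hm₁, rfl, z₁, hz₁, hz₁', e₁⟩ := hdec k₁ hk₁
    obtain ⟨j₂, hj₂, m₂, hm₂, rfl, z₂, hz₂, hz₂', e₂⟩ := hdec k₂ hk₂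
    have c1 : Commute j₁ m₁ := hmem.mp hm₁ j₁ hj₁
    have c2 : Commute j₁ m₂ := hmem.mp hm₂ j₁ hj₁
    have c3 : Commute j₂ m₁ := hmem.mp hm₁ j₂ hj₂
    have c4 : Commute j₂ m₂ := hmem.mp hm₂ j₂ hj₂
    rw [comm_prod c1 c2 c3 c4]
    refine Subgroup.mul_mem _ (Subgroup.mem_sup_left ?_) (Subgroup.mem_sup_right ?_)
    · rw [hDmem]
      refine ⟨J.mul_mem (J.mul_mem (J.mul_mem hj₁ hj₂) (J.inv_mem hj₁)) (J.inv_mem hj₂), ?_⟩
      have e : a * ⁅j₁, j₂⁆ * a⁻¹ = ⁅j₁, j₂⁆ := by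
        have : a * ⁅j₁, j₂⁆ * a⁻¹ = ⁅a * j₁ * a⁻¹, a * j₂ * a⁻¹⁆ := by
          simp only [commutatorElement_def]; group
        rw [this, e₁, e₂]
        have d1 : Commute j₁ z₁ := hmem.mp hz₁' j₁ hj₁
        have d2 : Commute j₁ z₂ := hmem.mp hz₂' j₁ hj₁
        have d3 : Commute j₂ z₁ := hmem.mp hz₁' j₂ hj₂
        have d4 : Commute j₂ z₂ := hmem.mp hz₂' j₂ hj₂
        rw [comm_prod d1 d2 d3 d4]
        have d5 : z₁ * z₂ = z₂ * z₁ := (hmem.mp hz₂' z₁ hz₁)
        have : ⁅z₁, z₂⁆ = 1 := by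
          rw [commutatorElement_def, d5]; group
        rw [this, mul_one]
      calc a * ⁅j₁, j₂⁆ = a * ⁅j₁, j₂⁆ * a⁻¹ * a := by group
        _ = ⁅j₁, j₂⁆ * a := by rw [e]
    · exact CJ.mul_mem (CJ.mul_mem (CJ.mul_mem hm₁ hm₂) (CJ.inv_mem hm₁)) (CJ.inv_mem hm₂)
  have hK1 : K ≤ D ⊔ CJ := comm_of_perfect hKp hcomm1
  have hDC : ∀ p ∈ D, ∀ m ∈ CJ, p * m = m * p := fun p hp m hm => hmem.mp hm p (hDmem.mp hp).1
  -- so commutators of `K` are in `CJ`
  have hcomm2 : ∀ k₁ ∈ K, ∀ k₂ ∈ K, ⁅k₁, k₂⁆ ∈ CJ := by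
    intro k₁ hk₁ k₂ hk₂
    obtain ⟨d₁, hd₁, m₁, hm₁, e₁⟩ := exists_decomp hDC (hK1 hk₁)
    obtain ⟨j₂, hj₂, m₂, hm₂, rfl, -⟩ := hdec k₂ hk₂
    have hd₁J := (hDmem.mp hd₁).1
    have hcc : Commute d₁ j₂ := by
      have h1 := hcomm (j₂ * m₂) hk₂ d₁ hd₁J (hDmem.mp hd₁).2
      have c : d₁ * m₂ = m₂ * d₁ := hmem.mp hm₂ d₁ hd₁J
      have h2 : j₂ * d₁ * m₂ = d₁ * j₂ * m₂ := by
        calc j₂ * d₁ * m₂ = j₂ * (d₁ * m₂) := by group
          _ = j₂ * (m₂ * d₁) := by rw [c]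
          _ = j₂ * m₂ * d₁ := by group
          _ = d₁ * (j₂ * m₂) := h1
          _ = d₁ * j₂ * m₂ := by group
      exact (mul_right_cancel h2).symm
    rw [e₁]
    have c1 : Commute d₁ m₁ := hmem.mp hm₁ d₁ hd₁J
    have c2 : Commute d₁ m₂ := hmem.mp hm₂ d₁ hd₁J
    have c3 : Commute j₂ m₁ := hmem.mp hm₁ j₂ hj₂
    have c4 : Commute j₂ m₂ := hmem.mp hm₂ j₂ hj₂
    rw [comm_prod c1 c2 c3 c4]
    have : ⁅d₁, j₂⁆ = 1 := by
      rw [commutatorElement_def, hcc.eq]; group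
    rw [this, one_mul]
    exact CJ.mul_mem (CJ.mul_mem (CJ.mul_mem hm₁ hm₂) (CJ.inv_mem hm₁)) (CJ.inv_mem hm₂)
  have hK2 : K ≤ CJ := comm_of_perfect hKp hcomm2
  intro k hk x hx
  exact (hmem.mp (hK2 hk) x hx).symm

/-- The second case, commuting with the diagonal. -/
theorem case_two_a {J J' K : Subgroup Y} (hJ : IsComponent J) (hJ' : IsComponent J') (hne : J ≠ J')
    (hKE : K ≤ layer Y) {a : Y} (haJ : ∀ x ∈ J, a * x * a⁻¹ ∈ J')
    (hcomm : ∀ k ∈ K, ∀ x ∈ J, k * (x * (a * x * a⁻¹)) = (x * (a * x * a⁻¹)) * k) :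
    ∀ k ∈ K, ∀ x ∈ J, k * x = x * k := by
  have hcJ : ∀ x ∈ J, ∀ y ∈ J', x * y = y * x :=
    commutator_eq_bot_iff_elementwise.mp (comp_commute_of_ne hJ hJ' hne)
  intro k hk x hx
  obtain ⟨j, hj, j', hj', m, hm, rfl⟩ := decomp_two hJ hJ' hne (hKE hk)
  have hmJ : ∀ y ∈ J, y * m = m * y := fun y hy => Subgroup.mem_centralizer_iff.mp hm.1 y hy
  have hmJ' : ∀ y ∈ J', y * m = m * y := fun y hy => Subgroup.mem_centralizer_iff.mp hm.2 y hy
  have key : ∀ q ∈ J, j⁻¹ * q⁻¹ * j * q ∈ J ⊓ J' := by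
    intro q hq
    have hs : a * q * a⁻¹ ∈ J' := haJ q hq
    set s := a * q * a⁻¹ with hsdef
    have h := hcomm _ hk q hq
    rw [← hsdef] at h
    have h1 : j * q * (j' * s) = q * j * (s * j') := by
      have e1 : j * j' * m * (q * s) = j * q * (j' * s) * m := by
        have c1 : m * q = q * m := (hmJ q hq).symm
        have c2 : m * s = s * m := (hmJ' s hs).symm
        have c3 : j' * q = q * j' := (hcJ q hq j' hj').symm
        calc j * j' * m * (q * s) = j * j' * (m * q) * s := by group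
          _ = j * (j' * q) * m * s := by rw [c1]; group
          _ = j * q * j' * (m * s) := by rw [c3]; group
          _ = j * q * (j' * s) * m := by rw [c2]; group
      have e2 : q * s * (j * j' * m) = q * j * (s * j') * m := by
        have c3 : s * j = j * s := (hcJ j hj s hs).symm
        calc q * s * (j * j' * m) = q * (s * j) * j' * m := by group
          _ = q * j * (s * j') * m := by rw [c3]; group
      rw [e1, e2] at h
      exact mul_right_cancel h
    have h2 : j⁻¹ * q⁻¹ * j * q = s * j' * s⁻¹ * j'⁻¹ := by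
      calc j⁻¹ * q⁻¹ * j * q = (q * j)⁻¹ * (j * q * (j' * s)) * (j' * s)⁻¹ := by group
        _ = (q * j)⁻¹ * (q * j * (s * j')) * (j' * s)⁻¹ := by rw [h1]
        _ = s * j' * s⁻¹ * j'⁻¹ := by group
    refine ⟨J.mul_mem (J.mul_mem (J.mul_mem (J.inv_mem hj) (J.inv_mem hq)) hj) hq, ?_⟩
    rw [h2]
    exact J'.mul_mem (J'.mul_mem (J'.mul_mem hs hj') (J'.inv_mem hs)) (J'.inv_mem hj')
  have hcen : (⟨j⁻¹, J.inv_mem hj⟩ : J) ∈ Subgroup.center ↥J := by
    apply qs_second_center hJ.2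
    rintro ⟨q, hq⟩
    rw [Subgroup.mem_center_iff]
    rintro ⟨r, hr⟩
    apply Subtype.ext
    have hq' := (key q⁻¹ (J.inv_mem hq)).2
    have e : j⁻¹ * q * j * q⁻¹ = j⁻¹ * (q⁻¹)⁻¹ * j * q⁻¹ := by group
    show r * (j⁻¹ * q * (j⁻¹)⁻¹ * q⁻¹) = (j⁻¹ * q * (j⁻¹)⁻¹ * q⁻¹) * r
    rw [inv_inv, e]
    exact hcJ r hr _ hq'
  have hjx : j⁻¹ * x = x * j⁻¹ := by
    have := Subgroup.mem_center_iff.mp hcen ⟨x, hx⟩
    exact (congrArg Subtype.val this).symm
  have hjx' : j * x = x * j := by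
    calc j * x = j * (x * j⁻¹) * j := by group
      _ = j * (j⁻¹ * x) * j := by rw [hjx]
      _ = x * j := by group
  have c3 : j' * x = x * j' := (hcJ x hx j' hj').symm
  have c4 : m * x = x * m := (hmJ x hx).symm
  calc j * j' * m * x = j * j' * (m * x) := by group
    _ = j * (j' * x) * m := by rw [c4]; group
    _ = (j * x) * j' * m := by rw [c3]; group
    _ = x * (j * j' * m) := by rw [hjx']; group

/-- The diagonal map. -/
def diagHom (J J' : Subgroup Y) (a : Y) (haJ : ∀ x ∈ J, a * x * a⁻¹ ∈ J')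
    (hcJ : ∀ x ∈ J, ∀ y ∈ J', x * y = y * x) : ↥J →* Y where
  toFun x := x.1 * (a * x.1 * a⁻¹)
  map_one' := by simp
  map_mul' := by
    rintro ⟨x, hx⟩ ⟨y, hy⟩
    show x * y * (a * (x * y) * a⁻¹) = x * (a * x * a⁻¹) * (y * (a * y * a⁻¹))
    have c : (a * x * a⁻¹) * y = y * (a * x * a⁻¹) := (hcJ y hy _ (haJ x hx)).symm
    calc x * y * (a * (x * y) * a⁻¹) = x * (y * (a * x * a⁻¹)) * (a * y * a⁻¹) := by group
      _ = x * ((a * x * a⁻¹) * y) * (a * y * a⁻¹) := by rw [c]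
      _ = x * (a * x * a⁻¹) * (y * (a * y * a⁻¹)) := by group

/-- The second case, inside the product. -/
theorem case_two_b {J J' K : Subgroup Y} (hJ : IsComponent J) (hJ' : IsComponent J') (hne : J ≠ J')
    (hKp : ⁅K, K⁆ = K) (hKJ : K ≤ J ⊔ J') {a : Y} (ha2 : a ^ 2 = 1)
    (haK : ∀ k ∈ K, a * k = k * a)
    (haJ : ∀ x ∈ J, a * x * a⁻¹ ∈ J') (haJ' : ∀ x ∈ J', a * x * a⁻¹ ∈ J) :
    ∀ k ∈ K, ∃ x ∈ J, k = x * (a * x * a⁻¹) := by
  have hcJ : ∀ x ∈ J, ∀ y ∈ J', x * y = y * x :=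
    commutator_eq_bot_iff_elementwise.mp (comp_commute_of_ne hJ hJ' hne)
  have haa : a * a = 1 := by rw [← pow_two, ha2]
  have hainv : a⁻¹ = a := (eq_inv_of_mul_eq_one_left haa).symm
  set φ := diagHom J J' a haJ hcJ with hφ
  set W : Subgroup Y := J ⊓ J' with hW
  have hφW : ∀ p ∈ φ.range, ∀ w ∈ W, p * w = w * p := by
    rintro _ ⟨⟨x, hx⟩, rfl⟩ w hw
    show x * (a * x * a⁻¹) * w = w * (x * (a * x * a⁻¹))
    have c1 : x * w = w * x := hcJ x hx w hw.2
    have c2 : (a * x * a⁻¹) * w = w * (a * x * a⁻¹) := (hcJ w hw.1 _ (haJ x hx)).symm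
    calc x * (a * x * a⁻¹) * w = x * ((a * x * a⁻¹) * w) := by group
      _ = (x * w) * (a * x * a⁻¹) := by rw [c2]; group
      _ = w * (x * (a * x * a⁻¹)) := by rw [c1]; group
  have hle : K ≤ φ.range ⊔ W := by
    intro k hk
    obtain ⟨x, hx, y, hy, rfl⟩ := exists_decomp hcJ (hKJ hk)
    have hfix : (a * x * a⁻¹) * (a * y * a⁻¹) = x * y := by
      have := haK _ hk
      calc (a * x * a⁻¹) * (a * y * a⁻¹) = a * (x * y) * a⁻¹ := by group
        _ = (x * y) * a * a⁻¹ := by rw [this]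
        _ = x * y := by group
    set sx := a * x * a⁻¹ with hsx
    set sy := a * y * a⁻¹ with hsy
    have hsx' : sx ∈ J' := haJ x hx
    have hsy' : sy ∈ J := haJ' y hy
    have hc : sy * sx = x * y := by
      rw [← hfix]; exact hcJ sy hsy' sx hsx'
    have hw1 : x⁻¹ * sy = y * sx⁻¹ := by
      calc x⁻¹ * sy = x⁻¹ * (sy * sx) * sx⁻¹ := by group
        _ = x⁻¹ * (x * y) * sx⁻¹ := by rw [hc]
        _ = y * sx⁻¹ := by group
    have hwW : x⁻¹ * sy ∈ W :=
      ⟨J.mul_mem (J.inv_mem hx) hsy', by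
        rw [hw1]; exact J'.mul_mem hy (J'.inv_mem hsx')⟩
    have hss : a * sy * a⁻¹ = y := by
      rw [hsy, hainv]
      calc a * (a * y * a) * a = (a * a) * y * (a * a) := by group
        _ = y := by rw [haa]; group
    have hφs : φ ⟨sy, hsy'⟩ = sy * y := by
      show sy * (a * sy * a⁻¹) = sy * y
      rw [hss]
    have e : x * y = sy * y * (x⁻¹ * sy)⁻¹ := by
      have c : y * (x⁻¹ * sy)⁻¹ = (x⁻¹ * sy)⁻¹ * y := by
        have := hcJ _ (W.inv_mem hwW).1 y hy
        exact this.symm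
      calc x * y = sy * (x⁻¹ * sy)⁻¹ * y := by group
        _ = sy * ((x⁻¹ * sy)⁻¹ * y) := by group
        _ = sy * (y * (x⁻¹ * sy)⁻¹) := by rw [c]
        _ = sy * y * (x⁻¹ * sy)⁻¹ := by group
    rw [e, ← hφs]
    exact Subgroup.mul_mem _ (Subgroup.mem_sup_left ⟨_, rfl⟩)
      (Subgroup.mem_sup_right (W.inv_mem hwW))
  have hcomm : ∀ k₁ ∈ K, ∀ k₂ ∈ K, ⁅k₁, k₂⁆ ∈ φ.range := by
    intro k₁ hk₁ k₂ hk₂
    obtain ⟨d₁, hd₁, w₁, hw₁, rfl⟩ := exists_decomp hφW (hle hk₁)
    obtain ⟨d₂, hd₂, w₂, hw₂, rfl⟩ := exists_decomp hφW (hle hk₂)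
    have c1 : Commute d₁ w₁ := hφW d₁ hd₁ w₁ hw₁
    have c2 : Commute d₁ w₂ := hφW d₁ hd₁ w₂ hw₂
    have c3 : Commute d₂ w₁ := hφW d₂ hd₂ w₁ hw₁
    have c4 : Commute d₂ w₂ := hφW d₂ hd₂ w₂ hw₂
    rw [comm_prod c1 c2 c3 c4]
    have hww : ⁅w₁, w₂⁆ = 1 := by
      have : w₁ * w₂ = w₂ * w₁ := hcJ w₁ hw₁.1 w₂ hw₂.2
      rw [commutatorElement_def, this]; group
    rw [hww, mul_one]
    exact φ.range.mul_mem (φ.range.mul_mem (φ.range.mul_mem hd₁ hd₂) (φ.range.inv_mem hd₁))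
      (φ.range.inv_mem hd₂)
  have hK : K ≤ φ.range := comm_of_perfect hKp hcomm
  intro k hk
  obtain ⟨⟨x, hx⟩, rfl⟩ := hK hk
  exact ⟨x, hx, rfl⟩

/-- The join of two components is subnormal. -/
theorem sup_comp_subnormal {J J' : Subgroup Y} (hJ : IsComponent J) (hJ' : IsComponent J') :
    (J ⊔ J').IsSubnormal := by
  refine Subgroup.IsSubnormal.step (J ⊔ J') (layer Y)
    (sup_le (comp_le_layer hJ) (comp_le_layer hJ')) (layer_normal.isSubnormal) ?_
  apply Subgroup.normal_subgroupOf_of_le_normalizer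
  refine sSup_le fun L hL => ?_
  by_cases h : L = J
  · rw [h]; exact le_trans le_sup_left Subgroup.le_normalizer
  by_cases h' : L = J'
  · rw [h']; exact le_trans le_sup_right Subgroup.le_normalizer
  intro y hy
  have h1 := comp_le_centralizer_of_ne hL hJ h hy
  have h2 := comp_le_centralizer_of_ne hL hJ' h' hy
  have hle : J ⊔ J' ≤ Subgroup.centralizer ({y} : Set Y) := by
    refine sup_le (fun x hx => ?_) (fun x hx => ?_)
    · rw [Subgroup.mem_centralizer_iff]
      rintro z (rfl : z = y)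
      exact (Subgroup.mem_centralizer_iff.mp h1 x hx).symm
    · rw [Subgroup.mem_centralizer_iff]
      rintro z (rfl : z = y)
      exact (Subgroup.mem_centralizer_iff.mp h2 x hx).symm
  rw [Subgroup.mem_normalizer_iff]
  intro x
  constructor
  · intro hx
    have : y * x = x * y := Subgroup.mem_centralizer_iff.mp (hle hx) y rfl
    rw [this]; simpa using hx
  · intro hx
    have hz : y * x * y⁻¹ ∈ J ⊔ J' := hx
    have e : y * (y * x * y⁻¹) = (y * x * y⁻¹) * y := Subgroup.mem_centralizer_iff.mp (hle hz) y rfl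
    have hx' : x = y * x * y⁻¹ := by
      calc x = y⁻¹ * ((y * x * y⁻¹) * y) := by group
        _ = y⁻¹ * (y * (y * x * y⁻¹)) := by rw [e]
        _ = y * x * y⁻¹ := by group
    rw [hx']
    exact hz

/-- The dichotomy. -/
theorem dichotomy {K : Subgroup Y} {a : Y} (ha2 : a ^ 2 = 1)
    (hKa : K ≤ Subgroup.centralizer ((Subgroup.zpowers a : Subgroup Y) : Set Y))
    (hKc : IsComponent (K.subgroupOf (Subgroup.centralizer ((Subgroup.zpowers a : Subgroup Y) : Set Y))))
    (hKq : IsQuasisimple ↥K) (hKE : K ≤ layer Y) :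
    ∃ J : Subgroup Y, IsComponent J ∧ (K ≤ J ∨ (J.map (MulAut.conj a).toMonoidHom ≠ J ∧
      ∀ k ∈ K, ∃ x ∈ J, k = x * (a * x * a⁻¹))) := by
  set Ca : Subgroup Y := Subgroup.centralizer ((Subgroup.zpowers a : Subgroup Y) : Set Y) with hCa
  have hmemCa : ∀ {y : Y}, a * y = y * a → y ∈ Ca := by
    intro y hy
    rw [hCa, Subgroup.mem_centralizer_iff]
    rintro _ ⟨n, rfl⟩
    have : Commute a y := hy
    exact (this.zpow_left n).eq
  have haCa : ∀ y ∈ Ca, a * y = y * a := fun y hy =>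
    Subgroup.mem_centralizer_iff.mp hy a (Subgroup.mem_zpowers a)
  have haK : ∀ k ∈ K, a * k = k * a := fun k hk => haCa k (hKa hk)
  have hKp : ⁅K, K⁆ = K := Subgroup.isPerfect_iff.mp hKq.1
  have haa : a * a = 1 := by rw [← pow_two, ha2]
  have hainv : a⁻¹ = a := (eq_inv_of_mul_eq_one_left haa).symm
  -- a component not commuting with `K`
  have hex : ∃ J : Subgroup Y, IsComponent J ∧ ¬ ∀ k ∈ K, ∀ x ∈ J, k * x = x * k := by
    by_contra hcon
    push Not at hcon
    apply qs_not_comm hKq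
    have hle : layer Y ≤ Subgroup.centralizer (K : Set Y) := by
      refine sSup_le fun L hL => ?_
      intro x hx
      rw [Subgroup.mem_centralizer_iff]
      intro k hk
      exact hcon L hL k hk x hx
    refine ⟨⟨?_⟩⟩
    rintro ⟨x, hx⟩ ⟨y, hy⟩
    apply Subtype.ext
    exact (Subgroup.mem_centralizer_iff.mp (hle (hKE hy)) x hx)
  obtain ⟨J, hJ, hnc⟩ := hex
  refine ⟨J, hJ, ?_⟩
  set J' : Subgroup Y := J.map (MulAut.conj a).toMonoidHom with hJ'def
  have hJ' : IsComponent J' := comp_conj hJ a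
  have haJ : ∀ x ∈ J, a * x * a⁻¹ ∈ J' := fun x hx => ⟨x, hx, rfl⟩
  have haJ' : ∀ x ∈ J', a * x * a⁻¹ ∈ J := by
    rintro _ ⟨x, hx, rfl⟩
    have : a * ((MulAut.conj a).toMonoidHom x) * a⁻¹ = x := by
      show a * (a * x * a⁻¹) * a⁻¹ = x
      rw [hainv]
      calc a * (a * x * a) * a = (a * a) * x * (a * a) := by group
        _ = x := by rw [haa]; group
    rw [this]; exact hx
  have hmemK : ∀ {k : Y} (hk : k ∈ K), (⟨k, hKa hk⟩ : Ca) ∈ K.subgroupOf Ca := fun hk => hk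
  by_cases hJJ : J' = J
  · left
    have haJJ : ∀ x ∈ J, a * x * a⁻¹ ∈ J := fun x hx => hJJ ▸ haJ x hx
    rcases comp_le_or_commute hKc (hJ.1.subgroupOf (K := Ca)) with h | h
    · intro k hk
      exact h (hmemK hk)
    · exfalso
      apply hnc
      refine case_one hJ hKp hKE ha2 haK haJJ ?_
      intro k hk d hd hda
      have hdCa : d ∈ Ca := hmemCa hda
      have := commutator_eq_bot_iff_elementwise.mp h ⟨k, hKa hk⟩ (hmemK hk) ⟨d, hdCa⟩ hd
      exact congrArg Subtype.val this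
  · right
    refine ⟨hJJ, ?_⟩
    have hne : J ≠ J' := fun h => hJJ h.symm
    rcases comp_le_or_commute hKc ((sup_comp_subnormal hJ hJ').subgroupOf (K := Ca)) with h | h
    · refine case_two_b hJ hJ' hne hKp ?_ ha2 haK haJ haJ'
      intro k hk
      exact h (hmemK hk)
    · exfalso
      apply hnc
      refine case_two_a hJ hJ' hne hKE haJ ?_
      intro k hk x hx
      have hd : a * (x * (a * x * a⁻¹)) = (x * (a * x * a⁻¹)) * a := by
        have c : x * (a * x * a⁻¹) = (a * x * a⁻¹) * x :=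
          (commutator_eq_bot_iff_elementwise.mp (comp_commute_of_ne hJ hJ' hne)) x hx _ (haJ x hx)
        set σ := a * x * a⁻¹ with hσ
        have e1 : a * x = σ * a := by rw [hσ]; group
        have e2 : a * σ = x * a := by
          rw [hσ]
          calc a * (a * x * a⁻¹) = (a * a) * x * a⁻¹ := by group
            _ = x * a := by rw [haa, hainv]; group
        calc a * (x * σ) = (a * x) * σ := by group
          _ = σ * (a * σ) := by rw [e1]; group
          _ = (σ * x) * a := by rw [e2]; group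
          _ = (x * σ) * a := by rw [c]
      have hdCa := hmemCa hd
      have hdm : x * (a * x * a⁻¹) ∈ (J ⊔ J') := Subgroup.mul_mem _ (Subgroup.mem_sup_left hx) (Subgroup.mem_sup_right (haJ x hx))
      have := commutator_eq_bot_iff_elementwise.mp h ⟨k, hKa hk⟩ (hmemK hk) ⟨_, hdCa⟩ hdm
      exact congrArg Subtype.val this

/-- The rank lift in the swap case. -/
theorem rank_lift {J J' K B V : Subgroup Y} (hJ : IsComponent J) (hJ' : IsComponent J') (hne : J ≠ J')
    {a : Y} (ha2 : a ^ 2 = 1) (hJ'def : J' = J.map (MulAut.conj a).toMonoidHom)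
    (hdiag : ∀ x ∈ J, x * (a * x * a⁻¹) ∈ K)
    (hinj : ∀ x ∈ J, x * (a * x * a⁻¹) = 1 → x = 1)
    (hK : ∀ k ∈ K, ∃ x ∈ J, k = x * (a * x * a⁻¹))
    (haB : a ∈ B) (hBc : ∀ u ∈ B, ∀ v ∈ B, u * v = v * u) (hB2 : ∀ u ∈ B, u ^ 2 = 1)
    (hBK : ∀ u ∈ B, ∀ k ∈ K, u * k = k * u)
    (hVK : V ≤ K) (hVc : ∀ u ∈ V, ∀ v ∈ V, u * v = v * u) (hV2 : ∀ u ∈ V, u ^ 2 = 1)
    (hV4 : 2 < Nat.card V) :
    ∃ Bs : Subgroup Y, (∀ u ∈ Bs, ∀ x ∈ J, u * x = x * u) ∧ (∀ u ∈ Bs, ∀ v ∈ Bs, u * v = v * u) ∧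
      (∀ u ∈ Bs, u ^ 2 = 1) ∧ Nat.card B < Nat.card Bs := by
  classical
  have haa : a * a = 1 := by rw [← pow_two, ha2]
  have hainv : a⁻¹ = a := (eq_inv_of_mul_eq_one_left haa).symm
  have haJ : ∀ x ∈ J, a * x * a⁻¹ ∈ J' := fun x hx => hJ'def ▸ ⟨x, hx, rfl⟩
  have hss : ∀ x : Y, a * (a * x * a⁻¹) * a⁻¹ = x := by
    intro x
    rw [hainv]
    calc a * (a * x * a) * a = (a * a) * x * (a * a) := by group
      _ = x := by rw [haa]; group
  have haJ' : ∀ x ∈ J', a * x * a⁻¹ ∈ J := by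
    intro x hx
    rw [hJ'def] at hx
    obtain ⟨y, hy, rfl⟩ := hx
    show a * (a * y * a⁻¹) * a⁻¹ ∈ J
    rw [hss]; exact hy
  have hcJ : ∀ x ∈ J, ∀ y ∈ J', x * y = y * x :=
    commutator_eq_bot_iff_elementwise.mp (comp_commute_of_ne hJ hJ' hne)
  have hJp : ⁅J, J⁆ = J := comp_perfect hJ
  have hua : ∀ u ∈ B, u * a = a * u := fun u hu => hBc u hu a haB
  -- an element of `B` normalizing `J` centralizes `J`
  have hnorm : ∀ u ∈ B, (∀ x ∈ J, u * x * u⁻¹ ∈ J) → ∀ x ∈ J, u * x = x * u := by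
    intro u hu hun
    have hfix : ∀ x ∈ J, ∃ z ∈ J, (∀ r ∈ J, r * z = z * r) ∧ u * x * u⁻¹ = x * z := by
      intro x hx
      refine ⟨x⁻¹ * (u * x * u⁻¹), J.mul_mem (J.inv_mem hx) (hun x hx), ?_, by group⟩
      set y := u * x * u⁻¹ with hy
      have hyJ : y ∈ J := hun x hx
      have hk := hBK u hu _ (hdiag x hx)
      have e1 : u * (a * x * a⁻¹) * u⁻¹ = a * y * a⁻¹ := by
        have h1 : u * a = a * u := hua u hu
        have h2 : a⁻¹ * u⁻¹ = u⁻¹ * a⁻¹ := by
          rw [← mul_inv_rev, ← mul_inv_rev, h1]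
        calc u * (a * x * a⁻¹) * u⁻¹ = (u * a) * x * (a⁻¹ * u⁻¹) := by group
          _ = (a * u) * x * (u⁻¹ * a⁻¹) := by rw [h1, h2]
          _ = a * y * a⁻¹ := by rw [hy]; group
      have e2 : y * (a * y * a⁻¹) = x * (a * x * a⁻¹) := by
        rw [← e1]
        calc y * (u * (a * x * a⁻¹) * u⁻¹) = u * (x * (a * x * a⁻¹)) * u⁻¹ := by rw [hy]; group
          _ = (x * (a * x * a⁻¹)) * u * u⁻¹ := by rw [hk]
          _ = x * (a * x * a⁻¹) := by group
      have e3 : x⁻¹ * y = (a * x * a⁻¹) * (a * y * a⁻¹)⁻¹ := by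
        calc x⁻¹ * y = x⁻¹ * (y * (a * y * a⁻¹)) * (a * y * a⁻¹)⁻¹ := by group
          _ = x⁻¹ * (x * (a * x * a⁻¹)) * (a * y * a⁻¹)⁻¹ := by rw [e2]
          _ = (a * x * a⁻¹) * (a * y * a⁻¹)⁻¹ := by group
      intro r hr
      rw [e3]
      exact hcJ r hr _ (J'.mul_mem (haJ x hx) (J'.inv_mem (haJ y hyJ)))
    have hcomm : ∀ x ∈ J, ∀ y ∈ J, ⁅x, y⁆ ∈ Subgroup.centralizer ({u} : Set Y) := by
      intro x hx y hy
      obtain ⟨z, hz, hz1, e1⟩ := hfix x hx
      obtain ⟨w, hw, hw1, e2⟩ := hfix y hy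
      rw [Subgroup.mem_centralizer_iff]
      rintro r (rfl : r = u)
      have h : r * ⁅x, y⁆ * r⁻¹ = ⁅r * x * r⁻¹, r * y * r⁻¹⁆ := by
        simp only [commutatorElement_def]; group
      rw [e1, e2] at h
      have c1 : Commute x z := hz1 x hx
      have c2 : Commute x w := hw1 x hx
      have c3 : Commute y z := hz1 y hy
      have c4 : Commute y w := hw1 y hy
      rw [comm_prod c1 c2 c3 c4] at h
      have hzw : ⁅z, w⁆ = 1 := by
        have : z * w = w * z := hw1 z hz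
        rw [commutatorElement_def, this]; group
      rw [hzw, mul_one] at h
      calc r * ⁅x, y⁆ = r * ⁅x, y⁆ * r⁻¹ * r := by group
        _ = ⁅x, y⁆ * r := by rw [h]
    have hle := comm_of_perfect hJp hcomm
    intro x hx
    exact (Subgroup.mem_centralizer_iff.mp (hle hx) u rfl)
  -- the dichotomy for elements of `B`
  have hB01 : ∀ u ∈ B, (∀ x ∈ J, u * x = x * u) ∨ (∀ x ∈ J, (a * u) * x = x * (a * u)) := by
    intro u hu
    set L := J.map (MulAut.conj u).toMonoidHom with hL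
    have hLc : IsComponent L := comp_conj hJ u
    by_cases h1 : L = J
    · left
      apply hnorm u hu
      intro x hx
      have : u * x * u⁻¹ ∈ L := ⟨x, hx, rfl⟩
      rwa [h1] at this
    by_cases h2 : L = J'
    · right
      apply hnorm (a * u) (B.mul_mem haB hu)
      intro x hx
      have h3 : u * x * u⁻¹ ∈ J' := by
        rw [← h2]; exact ⟨x, hx, rfl⟩
      have h4 := haJ' _ h3
      have e : a * u * x * (a * u)⁻¹ = a * (u * x * u⁻¹) * a⁻¹ := by group
      rw [e]; exact h4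
    · exfalso
      -- `L` is a third component
      set L' := L.map (MulAut.conj a).toMonoidHom with hL'
      have hL'c : IsComponent L' := comp_conj hLc a
      have hL'J : ∀ z ∈ L', a * z * a⁻¹ ∈ L := by
        rintro _ ⟨z, hz, rfl⟩
        show a * (a * z * a⁻¹) * a⁻¹ ∈ L
        rw [hss]; exact hz
      have hne1 : L' ≠ L := by
        intro h
        apply hne
        apply le_antisymm
        · -- x ∈ J → x ∈ J'
          intro x hx
          have h5 : u * x * u⁻¹ ∈ L := ⟨x, hx, rfl⟩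
          rw [← h] at h5
          obtain ⟨w, hw, hw1⟩ := h5
          obtain ⟨y, hy, rfl⟩ := hw
          have hw2 : a * (u * y * u⁻¹) * a⁻¹ = u * x * u⁻¹ := hw1
          have e : a * (u * y * u⁻¹) * a⁻¹ = u * (a * y * a⁻¹) * u⁻¹ := by
            have h1 : u * a = a * u := hua u hu
            have h2 : a⁻¹ * u⁻¹ = u⁻¹ * a⁻¹ := by
              rw [← mul_inv_rev, ← mul_inv_rev, h1]
            calc a * (u * y * u⁻¹) * a⁻¹ = (a * u) * y * (u⁻¹ * a⁻¹) := by group
              _ = (u * a) * y * (a⁻¹ * u⁻¹) := by rw [h1, h2]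
              _ = u * (a * y * a⁻¹) * u⁻¹ := by group
          rw [e] at hw2
          have : x = a * y * a⁻¹ := (mul_left_cancel (mul_right_cancel hw2)).symm
          rw [this]
          exact haJ y hy
        · intro x hx
          have hxs := haJ' x hx
          have h5 : u * (a * x * a⁻¹) * u⁻¹ ∈ L := ⟨_, hxs, rfl⟩
          rw [← h] at h5
          obtain ⟨w, hw, hw1⟩ := h5
          obtain ⟨y, hy, rfl⟩ := hw
          have hw2 : a * (u * y * u⁻¹) * a⁻¹ = u * (a * x * a⁻¹) * u⁻¹ := hw1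
          have e : a * (u * y * u⁻¹) * a⁻¹ = u * (a * y * a⁻¹) * u⁻¹ := by
            have h1 : u * a = a * u := hua u hu
            have h2 : a⁻¹ * u⁻¹ = u⁻¹ * a⁻¹ := by
              rw [← mul_inv_rev, ← mul_inv_rev, h1]
            calc a * (u * y * u⁻¹) * a⁻¹ = (a * u) * y * (u⁻¹ * a⁻¹) := by group
              _ = (u * a) * y * (a⁻¹ * u⁻¹) := by rw [h1, h2]
              _ = u * (a * y * a⁻¹) * u⁻¹ := by group
          rw [e] at hw2
          have h6 : a * y * a⁻¹ = a * x * a⁻¹ := mul_left_cancel (mul_right_cancel hw2)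
          have h7 : y = x := mul_left_cancel (mul_right_cancel h6)
          rw [← h7]; exact hy
      -- `L` commutes with `J`, `J'`, `L'`
      have hLJ := commutator_eq_bot_iff_elementwise.mp (comp_commute_of_ne hLc hJ h1)
      have hLJ' := commutator_eq_bot_iff_elementwise.mp (comp_commute_of_ne hLc hJ' h2)
      have hLL' := commutator_eq_bot_iff_elementwise.mp (comp_commute_of_ne hLc hL'c hne1.symm)
      apply comp_not_comm hLc
      refine ⟨⟨?_⟩⟩
      rintro ⟨z, hz⟩ ⟨y, hy⟩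
      apply Subtype.ext
      show z * y = y * z
      -- `y = u x u⁻¹`
      obtain ⟨x, hx, rfl⟩ := hy
      have hk := hBK u hu _ (hdiag x hx)
      set y := u * x * u⁻¹ with hy
      have hy' : (MulAut.conj u).toMonoidHom x = y := rfl
      rw [hy']
      have e1 : u * (a * x * a⁻¹) * u⁻¹ = a * y * a⁻¹ := by
        have h1 : u * a = a * u := hua u hu
        have h2 : a⁻¹ * u⁻¹ = u⁻¹ * a⁻¹ := by
          rw [← mul_inv_rev, ← mul_inv_rev, h1]
        calc u * (a * x * a⁻¹) * u⁻¹ = (u * a) * x * (a⁻¹ * u⁻¹) := by group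
          _ = (a * u) * x * (u⁻¹ * a⁻¹) := by rw [h1, h2]
          _ = a * y * a⁻¹ := by rw [hy]; group
      have e2 : y * (a * y * a⁻¹) = x * (a * x * a⁻¹) := by
        rw [← e1]
        calc y * (u * (a * x * a⁻¹) * u⁻¹) = u * (x * (a * x * a⁻¹)) * u⁻¹ := by rw [hy]; group
          _ = (x * (a * x * a⁻¹)) * u * u⁻¹ := by rw [hk]
          _ = x * (a * x * a⁻¹) := by group
      have c1 : z * x = x * z := hLJ z hz x hx
      have c2 : z * (a * x * a⁻¹) = (a * x * a⁻¹) * z := hLJ' z hz _ (haJ x hx)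
      have hyL' : a * y * a⁻¹ ∈ L' := ⟨y, ⟨x, hx, rfl⟩, rfl⟩
      have c3 : z * (a * y * a⁻¹) = (a * y * a⁻¹) * z := hLL' z hz _ hyL'
      have e3 : z * (y * (a * y * a⁻¹)) = (y * (a * y * a⁻¹)) * z := by
        rw [e2]
        calc z * (x * (a * x * a⁻¹)) = (z * x) * (a * x * a⁻¹) := by group
          _ = x * (z * (a * x * a⁻¹)) := by rw [c1]; group
          _ = x * ((a * x * a⁻¹) * z) := by rw [c2]
          _ = x * (a * x * a⁻¹) * z := by group
      have e4 : (z * y) * (a * y * a⁻¹) = (y * z) * (a * y * a⁻¹) := by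
        calc (z * y) * (a * y * a⁻¹) = z * (y * (a * y * a⁻¹)) := by group
          _ = (y * (a * y * a⁻¹)) * z := e3
          _ = y * ((a * y * a⁻¹) * z) := by group
          _ = y * (z * (a * y * a⁻¹)) := by rw [c3]
          _ = (y * z) * (a * y * a⁻¹) := by group
      exact mul_right_cancel e4
  -- the subgroup `B₀`
  set CJ : Subgroup Y := Subgroup.centralizer (J : Set Y) with hCJ
  have hCJmem : ∀ {u : Y}, u ∈ CJ ↔ ∀ x ∈ J, u * x = x * u := by
    intro u
    rw [hCJ, Subgroup.mem_centralizer_iff]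
    exact ⟨fun h x hx => (h x hx).symm, fun h x hx => (h x hx).symm⟩
  set B₀ : Subgroup Y := B ⊓ CJ with hB₀
  have hcardB : Nat.card B ≤ Nat.card B₀ * 2 := by
    let f : B → B₀ × Bool := fun u =>
      if h : u.1 ∈ CJ then (⟨u.1, u.2, h⟩, false)
      else (⟨a * u.1, B.mul_mem haB u.2, by
        rcases hB01 u.1 u.2 with h1 | h1
        · exact absurd (hCJmem.mpr h1) h
        · exact hCJmem.mpr h1⟩, true)
    have hf : Function.Injective f := by
      rintro ⟨u, hu⟩ ⟨v, hv⟩ huv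
      by_cases h1 : u ∈ CJ <;> by_cases h2 : v ∈ CJ
      · have h3 : u = v := by
          simpa [f, h1, h2, Subtype.ext_iff] using huv
        exact Subtype.ext h3
      · simp [f, h1, h2] at huv
      · simp [f, h1, h2] at huv
      · have h3 : u = v := by
          simpa [f, h1, h2, Subtype.ext_iff] using huv
        exact Subtype.ext h3
    have := Nat.card_le_card_of_injective f hf
    rwa [Nat.card_prod, Nat.card_eq_fintype_card (α := Bool), Fintype.card_bool] at this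
  -- the map `φ`
  set φ := diagHom J J' a haJ hcJ with hφ
  have hφinj : Function.Injective φ := by
    rw [injective_iff_map_eq_one]
    rintro ⟨x, hx⟩ h
    exact Subtype.ext (hinj x hx h)
  let VJ : Subgroup ↥J := V.comap φ
  have hcardVJ : Nat.card V ≤ Nat.card VJ := by
    let f : V → VJ := fun v => by
      refine ⟨⟨(hK v.1 (hVK v.2)).choose, (hK v.1 (hVK v.2)).choose_spec.1⟩, ?_⟩
      show φ _ ∈ V
      have : φ ⟨(hK v.1 (hVK v.2)).choose, (hK v.1 (hVK v.2)).choose_spec.1⟩ = v.1 :=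
        (hK v.1 (hVK v.2)).choose_spec.2.symm
      rw [this]; exact v.2
    have hf : Function.Injective f := by
      intro v w hvw
      apply Subtype.ext
      have h1 := (hK v.1 (hVK v.2)).choose_spec.2
      have h2 := (hK w.1 (hVK w.2)).choose_spec.2
      have h3 : (hK v.1 (hVK v.2)).choose = (hK w.1 (hVK w.2)).choose :=
        congrArg (fun z : VJ => (z.1.1 : Y)) hvw
      rw [h1, h2, h3]
    exact Nat.card_le_card_of_injective f hf
  let ψ : ↥J →* Y := (MulAut.conj a).toMonoidHom.comp J.subtype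
  have hψinj : Function.Injective ψ :=
    (MulAut.conj a).injective.comp J.subtype_injective
  let V' : Subgroup Y := VJ.map ψ
  have hcardV' : Nat.card V' = Nat.card VJ :=
    (Nat.card_congr (VJ.equivMapOfInjective ψ hψinj).toEquiv).symm
  have hV'mem : ∀ v ∈ V', ∃ x ∈ J, x * (a * x * a⁻¹) ∈ V ∧ v = a * x * a⁻¹ := by
    rintro _ ⟨⟨x, hx⟩, hxV, rfl⟩
    exact ⟨x, hx, hxV, rfl⟩
  have hV'c : ∀ u ∈ V', ∀ v ∈ V', u * v = v * u := by
    intro u hu v hv
    obtain ⟨x, hx, hxV, rfl⟩ := hV'mem u hu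
    obtain ⟨y, hy, hyV, rfl⟩ := hV'mem v hv
    have h1 := hVc _ hxV _ hyV
    have h2 : φ ⟨x, hx⟩ * φ ⟨y, hy⟩ = φ ⟨y, hy⟩ * φ ⟨x, hx⟩ := h1
    rw [← map_mul, ← map_mul] at h2
    have h3 : x * y = y * x := congrArg Subtype.val (hφinj h2)
    calc a * x * a⁻¹ * (a * y * a⁻¹) = a * (x * y) * a⁻¹ := by group
      _ = a * (y * x) * a⁻¹ := by rw [h3]
      _ = a * y * a⁻¹ * (a * x * a⁻¹) := by group
  have hV'2 : ∀ u ∈ V', u ^ 2 = 1 := by
    intro u hu
    obtain ⟨x, hx, hxV, rfl⟩ := hV'mem u hu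
    have h1 := hV2 _ hxV
    have h2 : φ ⟨x, hx⟩ ^ 2 = 1 := h1
    rw [← map_pow] at h2
    have h3 : (⟨x, hx⟩ : J) ^ 2 = 1 := hφinj (by rw [h2, map_one])
    have h4 : x ^ 2 = 1 := congrArg Subtype.val h3
    rw [pow_two] at h4 ⊢
    calc a * x * a⁻¹ * (a * x * a⁻¹) = a * (x * x) * a⁻¹ := by group
      _ = 1 := by rw [h4]; group
  have hBV : ∀ p ∈ B₀, ∀ q ∈ V', p * q = q * p := by
    intro p hp q hq
    obtain ⟨x, hx, -, rfl⟩ := hV'mem q hq
    have h1 : p * a = a * p := hua p hp.1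
    have h2 : a⁻¹ * p = p * a⁻¹ := by
      calc a⁻¹ * p = a⁻¹ * (p * a) * a⁻¹ := by group
        _ = a⁻¹ * (a * p) * a⁻¹ := by rw [h1]
        _ = p * a⁻¹ := by group
    have h3 : p * x = x * p := hCJmem.mp hp.2 x hx
    calc p * (a * x * a⁻¹) = (p * a) * x * a⁻¹ := by group
      _ = a * (p * x) * a⁻¹ := by rw [h1]; group
      _ = a * x * (p * a⁻¹) := by rw [h3]; group
      _ = a * x * (a⁻¹ * p) := by rw [h2]
      _ = a * x * a⁻¹ * p := by group
  have htriv : ∀ w, w ∈ B₀ → w ∈ V' → w = 1 := by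
    intro w hw hw'
    obtain ⟨x, hx, -, rfl⟩ := hV'mem w hw'
    have h1 : (a * x * a⁻¹) * a = a * (a * x * a⁻¹) := hua _ hw.1
    have h2 : a * (a * x * a⁻¹) * a⁻¹ = a * x * a⁻¹ := by
      rw [← h1]; group
    have h3 : x = a * x * a⁻¹ := by rw [← h2, hss]
    have h4 : x * (a * x * a⁻¹) = 1 := by
      have := hB2 _ hw.1
      rw [pow_two] at this
      rw [← h3] at this ⊢
      exact this
    rw [hinj x hx h4]
    group
  refine ⟨B₀ ⊔ V', ?_, ?_, ?_, ?_⟩
  · intro u hu x hx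
    obtain ⟨p, hp, q, hq, rfl⟩ := exists_decomp hBV hu
    obtain ⟨y, hy, -, rfl⟩ := hV'mem q hq
    have h1 : p * x = x * p := hCJmem.mp hp.2 x hx
    have h2 : x * (a * y * a⁻¹) = (a * y * a⁻¹) * x := hcJ x hx _ (haJ y hy)
    calc p * (a * y * a⁻¹) * x = p * ((a * y * a⁻¹) * x) := by group
      _ = (p * x) * (a * y * a⁻¹) := by rw [← h2]; group
      _ = x * (p * (a * y * a⁻¹)) := by rw [h1]; group
  · intro u hu v hv
    obtain ⟨p, hp, q, hq, rfl⟩ := exists_decomp hBV hu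
    obtain ⟨p', hp', q', hq', rfl⟩ := exists_decomp hBV hv
    have h1 : p * p' = p' * p := hBc p hp.1 p' hp'.1
    have h2 : q * q' = q' * q := hV'c q hq q' hq'
    have h3 : q * p' = p' * q := (hBV p' hp' q hq).symm
    have h4 : p * q' = q' * p := hBV p hp q' hq'
    calc p * q * (p' * q') = p * (q * p') * q' := by group
      _ = (p * p') * (q * q') := by rw [h3]; group
      _ = (p' * p) * (q' * q) := by rw [h1, h2]
      _ = p' * (p * q') * q := by group
      _ = p' * q' * (p * q) := by rw [h4]; group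
  · intro u hu
    obtain ⟨p, hp, q, hq, rfl⟩ := exists_decomp hBV hu
    have c : Commute p q := hBV p hp q hq
    rw [c.mul_pow, hB2 p hp.1, hV'2 q hq, one_mul]
  · let f : B₀ × V' → ↥(B₀ ⊔ V') := fun x =>
      ⟨x.1.1 * x.2.1, Subgroup.mul_mem _ (Subgroup.mem_sup_left x.1.2) (Subgroup.mem_sup_right x.2.2)⟩
    have hf : Function.Injective f := by
      rintro ⟨⟨u, hu⟩, ⟨v, hv⟩⟩ ⟨⟨u', hu'⟩, ⟨v', hv'⟩⟩ h
      have h1 : u * v = u' * v' := congrArg Subtype.val h
      have h2 : u'⁻¹ * u = v' * v⁻¹ := by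
        calc u'⁻¹ * u = u'⁻¹ * (u * v) * v⁻¹ := by group
          _ = u'⁻¹ * (u' * v') * v⁻¹ := by rw [h1]
          _ = v' * v⁻¹ := by group
      have h3 : u'⁻¹ * u = 1 := htriv _ (B₀.mul_mem (B₀.inv_mem hu') hu)
        (by rw [h2]; exact V'.mul_mem hv' (V'.inv_mem hv))
      have h4 : u = u' := by
        calc u = u' * (u'⁻¹ * u) := by group
          _ = u' := by rw [h3]; group
      subst h4
      have h5 : v = v' := mul_left_cancel h1
      subst h5
      rfl
    have h := Nat.card_le_card_of_injective f hf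
    rw [Nat.card_prod, hcardV'] at h
    have hpos : 0 < Nat.card B₀ := Nat.card_pos
    have h3 : 3 ≤ Nat.card VJ := by omega
    have : Nat.card B₀ * 3 ≤ Nat.card B₀ * Nat.card VJ := Nat.mul_le_mul_left _ h3
    omega

end

theorem isPComponent_of_subnormal_qs {H : Type*} [Group H] [Finite H] {B : Subgroup H} (hB : B.IsSubnormal)
    (hq : IsQuasisimple ↥B) {b : H} (hb : b ∈ B) (hb2 : b ^ 2 = 1) (hb1 : b ≠ 1) :
    IsPComponent 2 B := by
  set π : H →* H ⧸ pPrimeCore 2 H := QuotientGroup.mk' (pPrimeCore 2 H) with hπ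
  have hodd : Odd (Nat.card (pPrimeCore 2 H)) := Cfsg.Agent.Lib.StdForm.odd_oddCore
  have hbY : b ∉ pPrimeCore 2 H := fun h => hb1 (odd_no_involution hodd h hb2)
  have hbπ : π b ≠ 1 := by
    intro h
    apply hbY
    have : b ∈ π.ker := h
    rwa [QuotientGroup.ker_mk'] at this
  -- the image is quasisimple
  have hnt : Nontrivial ↥(B.map π) := by
    refine ⟨⟨⟨π b, b, hb, rfl⟩, 1, ?_⟩⟩
    intro h
    exact hbπ (congrArg Subtype.val h)
  let f : B →* B.map π := (π.comp B.subtype).codRestrict _ (fun x => ⟨x, x.2, rfl⟩)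
  have hf : Function.Surjective f := by
    rintro ⟨_, x, hx, rfl⟩
    exact ⟨⟨x, hx⟩, rfl⟩
  have hqi : IsQuasisimple ↥(B.map π) := Cfsg.Agent.Lib.PComp.qs_of_surjective hq f hf
  have hnorm : (B.map π).IsSubnormal := hB.map (QuotientGroup.mk'_surjective _)
  refine ⟨hB, ⟨hnorm, hqi⟩, ?_⟩
  intro K hK hle hmap
  rcases qs_subnormal hq (K.subgroupOf B) hK.subgroupOf with h | h
  · exact le_antisymm hle (Subgroup.subgroupOf_eq_top.mp h)
  · exfalso
    apply qs_not_comm hqi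
    refine ⟨⟨?_⟩⟩
    have hcomm : ∀ x ∈ K, ∀ y ∈ B, x * y = y * x := by
      intro x hx y hy
      have h1 : (⟨x, hle hx⟩ : B) ∈ K.subgroupOf B := hx
      have h2 := Subgroup.mem_center_iff.mp (h h1) ⟨y, hy⟩
      exact (congrArg Subtype.val h2).symm
    rintro ⟨x, hx⟩ ⟨y, hy⟩
    apply Subtype.ext
    rw [← hmap] at hx hy
    obtain ⟨x', hx', rfl⟩ := hx
    obtain ⟨y', hy', rfl⟩ := hy
    show π x' * π y' = π y' * π x'
    rw [← map_mul, ← map_mul, hcomm x' hx' y' (hle hy')]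



/-- The template's statement. -/
theorem result {G : Type*} [Group G] [Finite G] (hO : Cfsg.oddCore G = ⊥) (hB : Cfsg.HasBProperty G) (hct : Cfsg.IsComponentType G) (a : G) (ha : orderOf a = 2) (K : Subgroup G) (hKa : K ≤ Subgroup.centralizer ({a} : Set G)) (hK : Cfsg.IsComponent (K.subgroupOf (Subgroup.centralizer ({a} : Set G)))) (hmax : ∀ y : G, orderOf y = 2 → ∀ K' : Subgroup G, K' ≤ Subgroup.centralizer ({y} : Set G) → Cfsg.IsComponent (K'.subgroupOf (Subgroup.centralizer ({y} : Set G))) → Nat.card ↥K' ≤ Nat.card ↥K ∧ (Nat.card ↥K' = Nat.card ↥K → ∀ k : ℕ, Cfsg.PRankLE 2 k ↥(Subgroup.centralizer ({a} : Set G) ⊓ Subgroup.centralizer (K : Set G)) → Cfsg.PRankLE 2 k ↥(Subgroup.centralizer ({y} : Set G) ⊓ Subgroup.centralizer (K' : Set G)))) (hrk : ¬ Cfsg.PRankLE 2 1 ↥K) (B : Subgroup G) (hBle : B ≤ Subgroup.centralizer ({a} : Set G) ⊓ Subgroup.centralizer (K : Set G)) (hBel : Cfsg.IsElementaryAbelian 2 B) (hBmax : ∀ B' : Subgroup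 G, B' ≤ Subgroup.centralizer ({a} : Set G) ⊓ Subgroup.centralizer (K : Set G) → Cfsg.IsElementaryAbelian 2 B' → Nat.card ↥B' ≤ Nat.card ↥B) (b : G) (hb : b ∈ B) (hb1 : b ≠ 1) : K ≤ Subgroup.centralizer ({b} : Set G) ∧ Cfsg.IsComponent (K.subgroupOf (Subgroup.centralizer ({b} : Set G))) := by
  classical
  have hBa : ∀ u ∈ B, u * a = a * u := fun u hu =>
    (Subgroup.mem_centralizer_iff.mp (hBle hu).1 a rfl).symm
  have hBK : ∀ u ∈ B, ∀ k ∈ K, u * k = k * u := fun u hu k hk =>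
    (Subgroup.mem_centralizer_iff.mp (hBle hu).2 k hk).symm
  have hBc : ∀ u ∈ B, ∀ v ∈ B, u * v = v * u := by
    have := hBel.1
    intro u hu v hv
    have h := mul_comm' (⟨u, hu⟩ : B) ⟨v, hv⟩
    exact congrArg Subtype.val h
  have hB2 : ∀ u ∈ B, u ^ 2 = 1 := hBel.2
  have hKb : K ≤ Subgroup.centralizer ({b} : Set G) := by
    intro k hk
    rw [Subgroup.mem_centralizer_iff]
    rintro z (rfl : z = b)
    exact hBK z hb k hk
  refine ⟨hKb, ?_⟩
  by_cases hba : b = a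
  · subst hba; exact hK
  have ha2 : a ^ 2 = 1 := by rw [← ha, pow_orderOf_eq_one]
  have haK : ∀ k ∈ K, a * k = k * a := fun k hk =>
    Subgroup.mem_centralizer_iff.mp (hKa hk) a rfl
  -- `a ∈ B`
  have haB : a ∈ B := by
    by_contra hnot
    set Z : Subgroup G := Subgroup.zpowers a with hZ
    have hZmem : ∀ z ∈ Z, (z * a = a * z) ∧ (∀ k ∈ K, z * k = k * z) ∧ z ^ 2 = 1 ∧ ∀ u ∈ B, u * z = z * u := by
      rintro _ ⟨n, rfl⟩
      refine ⟨?_, ?_, ?_, ?_⟩
      · exact (Commute.zpow_left (Commute.refl a) n).eq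
      · intro k hk
        have c : Commute a k := haK k hk
        exact (c.zpow_left n).eq
      · show (a ^ n) ^ 2 = 1
        rw [← zpow_natCast, zpow_comm, zpow_natCast, ha2]; simp
      · intro u hu
        have c : Commute u a := hBa u hu
        exact (c.zpow_right n).eq
    have hcomm : ∀ p ∈ B, ∀ q ∈ Z, p * q = q * p := fun p hp q hq => (hZmem q hq).2.2.2 p hp
    have hle := hBmax (B ⊔ Z) ?_ ?_
    · have hlt : (B : Set G) ⊂ ((B ⊔ Z : Subgroup G) : Set G) := by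
        refine ⟨fun x hx => Subgroup.mem_sup_left hx, fun h => hnot ?_⟩
        exact h (Subgroup.mem_sup_right (Subgroup.mem_zpowers a))
      have := Set.ncard_lt_ncard hlt (Set.toFinite _)
      rw [← Nat.card_coe_set_eq, ← Nat.card_coe_set_eq] at this
      exact absurd hle (not_le.mpr this)
    · refine sup_le hBle ?_
      intro z hz
      obtain ⟨h1, h2, -, -⟩ := hZmem z hz
      refine Subgroup.mem_inf.mpr ⟨?_, ?_⟩
      · rw [Subgroup.mem_centralizer_iff]
        rintro y (rfl : y = a)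
        exact h1.symm
      · rw [Subgroup.mem_centralizer_iff]
        intro k hk
        exact (h2 k hk).symm
    · refine ⟨⟨⟨?_⟩⟩, ?_⟩
      · rintro ⟨x, hx⟩ ⟨y, hy⟩
        apply Subtype.ext
        obtain ⟨p, hp, q, hq, rfl⟩ := exists_decomp hcomm hx
        obtain ⟨p', hp', q', hq', rfl⟩ := exists_decomp hcomm hy
        have h1 : p * p' = p' * p := hBc p hp p' hp'
        have h2 : q * q' = q' * q := by
          obtain ⟨n, rfl⟩ := hq
          obtain ⟨m, rfl⟩ := hq'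
          exact ((Commute.refl a).zpow_zpow n m).eq
        have h3 : q * p' = p' * q := (hcomm p' hp' q hq).symm
        have h4 : p * q' = q' * p := hcomm p hp q' hq'
        show p * q * (p' * q') = p' * q' * (p * q)
        calc p * q * (p' * q') = p * (q * p') * q' := by group
          _ = (p * p') * (q * q') := by rw [h3]; group
          _ = (p' * p) * (q' * q) := by rw [h1, h2]
          _ = p' * (p * q') * q := by group
          _ = p' * q' * (p * q) := by rw [h4]; group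
      · intro x hx
        obtain ⟨p, hp, q, hq, rfl⟩ := exists_decomp hcomm hx
        have c : Commute p q := hcomm p hp q hq
        rw [c.mul_pow, hB2 p hp, (hZmem q hq).2.2.1, one_mul]
  -- work in `Y = C(b)`
  have hb2 : b ^ 2 = 1 := hB2 b hb
  have hbord : orderOf b = 2 := orderOf_eq_prime hb2 hb1
  set Y : Subgroup G := Subgroup.centralizer ({b} : Set G) with hY
  have hBY : B ≤ Y := by
    intro u hu
    rw [hY, Subgroup.mem_centralizer_iff]
    rintro z (rfl : z = b)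
    exact hBc z hb u hu
  have haY : a ∈ Y := hBY haB
  let a' : Y := ⟨a, haY⟩
  have ha'2 : a' ^ 2 = 1 := Subtype.ext ha2
  let K' : Subgroup Y := K.subgroupOf Y
  have hKq : IsQuasisimple ↥K := qs_of_mulEquiv (Subgroup.subgroupOfEquivOfLe hKa) hK.2
  have hK'q : IsQuasisimple ↥K' := qs_of_mulEquiv (Subgroup.subgroupOfEquivOfLe hKb).symm hKq
  set Ca : Subgroup Y := Subgroup.centralizer ((Subgroup.zpowers a' : Subgroup Y) : Set Y) with hCa
  have hmemCa : ∀ {y : Y}, a' * y = y * a' → y ∈ Ca := by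
    intro y hy
    rw [hCa, Subgroup.mem_centralizer_iff]
    rintro _ ⟨n, rfl⟩
    have : Commute a' y := hy
    exact (this.zpow_left n).eq
  have hCaa : ∀ y ∈ Ca, a' * y = y * a' := fun y hy =>
    Subgroup.mem_centralizer_iff.mp hy a' (Subgroup.mem_zpowers a')
  have hK'a : K' ≤ Ca := by
    intro k hk
    apply hmemCa
    apply Subtype.ext
    exact haK k.1 hk
  have hK'c : IsComponent (K'.subgroupOf Ca) := by
    refine ⟨?_, qs_of_mulEquiv (Subgroup.subgroupOfEquivOfLe hK'a).symm hK'q⟩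
    let f : Ca →* Subgroup.centralizer ({a} : Set G) :=
      { toFun := fun y => ⟨y.1.1, by
          rw [Subgroup.mem_centralizer_iff]
          rintro z (rfl : z = a)
          exact congrArg Subtype.val (hCaa y.1 y.2)⟩
        map_one' := rfl
        map_mul' := fun _ _ => rfl }
    have h := hK.1.comap f
    have e : (K.subgroupOf (Subgroup.centralizer ({a} : Set G))).comap f = K'.subgroupOf Ca := by
      ext y
      rfl
    rwa [e] at h
  -- an involution of `K`
  have hrk' := hrk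
  unfold PRankLE at hrk'
  push Not at hrk'
  obtain ⟨A, hAc, hA2, hAcard⟩ := hrk'
  have hA1 : ∃ v ∈ A, v ≠ 1 := by
    by_contra hcon
    push Not at hcon
    have : A = ⊥ := (Subgroup.eq_bot_iff_forall A).mpr hcon
    rw [this] at hAcard
    simp at hAcard
  obtain ⟨v, hvA, hv1⟩ := hA1
  have hv2 : (v : G) ^ 2 = 1 := congrArg Subtype.val (hA2 v hvA)
  have hvne : (v : G) ≠ 1 := fun h => hv1 (Subtype.ext h)
  -- `K'` lies in the 2-layer and so in the layer
  have hK'pc : IsPComponent 2 (K'.subgroupOf Ca) := by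
    refine isPComponent_of_subnormal_qs hK'c.1 hK'c.2
      (b := ⟨⟨v.1, hKb v.2⟩, hK'a (show (⟨v.1, hKb v.2⟩ : Y) ∈ K' from v.2)⟩)
      (show (⟨v.1, hKb v.2⟩ : Y) ∈ K' from v.2) ?_ ?_
    · exact Subtype.ext (Subtype.ext hv2)
    · intro h
      exact hvne (congrArg (fun z : Ca => (z.1 : G)) h)
  have hTp : IsPGroup 2 (Subgroup.zpowers a') := by
    rintro ⟨x, n, rfl⟩
    refine ⟨1, ?_⟩
    apply Subtype.ext
    show (a' ^ n) ^ 2 ^ 1 = 1
    rw [← zpow_natCast, zpow_comm, zpow_natCast, pow_one, ha'2]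
    simp
  have hbal := Cfsg.Agent.Lib.LBalanceTwo.map_pLayer_centralizer_le hTp
  have hK'L : K' ≤ pLayer 2 ↥Y := by
    intro x hx
    apply hbal
    refine ⟨⟨x, hK'a hx⟩, ?_, rfl⟩
    exact (le_sSup hK'pc : K'.subgroupOf Ca ≤ pLayer 2 ↥Ca) hx
  have hcommY : ⁅pLayer 2 ↥Y, oddCore ↥Y⁆ = ⊥ := by
    have h := hB b hbord
    rw [hO, le_bot_iff] at h
    exact (Subgroup.map_eq_bot_iff_of_injective _ Y.subtype_injective).mp h
  have hLE : pLayer 2 ↥Y ≤ layer ↥Y := by
    refine sSup_le fun L hL => ?_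
    have hL' : IsPComponent 2 L := hL
    have h1 : ⁅L, pPrimeCore 2 ↥Y⁆ = ⊥ := by
      rw [eq_bot_iff, ← hcommY]
      exact Subgroup.commutator_mono (le_sSup hL) le_rfl
    exact comp_le_layer ((Cfsg.Agent.Lib.PComp.pc_isComponent_iff_commute hL').mpr h1)
  obtain ⟨J, hJ, hcases⟩ := dichotomy ha'2 hK'a hK'c hK'q (le_trans hK'L hLE)
  -- the component of `C(b)` in `G`
  set JG : Subgroup G := J.map Y.subtype with hJG
  have hJGle : JG ≤ Y := by
    rintro _ ⟨x, -, rfl⟩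
    exact x.2
  have hJGeq : JG.subgroupOf Y = J := by
    ext x
    constructor
    · rintro ⟨y, hy, hxy⟩
      have : y = x := Subtype.ext hxy
      rwa [← this]
    · intro hx
      exact ⟨x, hx, rfl⟩
  have hJGc : IsComponent (JG.subgroupOf Y) := by rw [hJGeq]; exact hJ
  obtain ⟨hcard, hrank⟩ := hmax b hbord JG hJGle hJGc
  have hcardJ : Nat.card JG = Nat.card J :=
    (Nat.card_congr (J.equivMapOfInjective Y.subtype Y.subtype_injective).toEquiv).symm
  have hcardK' : Nat.card K' = Nat.card K :=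
    Nat.card_congr (Subgroup.subgroupOfEquivOfLe hKb).toEquiv
  rcases hcases with h1 | ⟨hne, h2⟩
  · have hle : Nat.card J ≤ Nat.card K' := by omega
    have : K' = J := Subgroup.eq_of_le_of_card_ge h1 hle
    have e : K.subgroupOf Y = J := this
    rw [e]
    exact hJ
  · exfalso
    set J' : Subgroup Y := J.map (MulAut.conj a').toMonoidHom with hJ'def
    have hJ' : IsComponent J' := comp_conj hJ a'
    have hneJ : J ≠ J' := fun h => hne h.symm
    have hcJ : ∀ x ∈ J, ∀ y ∈ J', x * y = y * x :=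
      commutator_eq_bot_iff_elementwise.mp (comp_commute_of_ne hJ hJ' hneJ)
    have haJ : ∀ x ∈ J, a' * x * a'⁻¹ ∈ J' := fun x hx => ⟨x, hx, rfl⟩
    set φ := diagHom J J' a' haJ hcJ with hφ
    have hK'φ : K' ≤ φ.range := by
      intro k hk
      obtain ⟨x, hx, e⟩ := h2 k hk
      exact ⟨⟨x, hx⟩, e.symm⟩
    have hrc : Nat.card φ.range ≤ Nat.card J :=
      Nat.card_le_card_of_surjective φ.rangeRestrict φ.rangeRestrict_surjective
    have hcK := Nat.card_le_card_of_injective _ (Subgroup.inclusion_injective hK'φ)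
    have hK'eq : K' = φ.range := Subgroup.eq_of_le_of_card_ge hK'φ (by omega)
    have hφinj : Function.Injective φ := by
      have hb := Function.Surjective.bijective_of_nat_card_le φ.rangeRestrict_surjective (by omega)
      have h3 := hb.1
      intro x y hxy
      apply h3
      exact Subtype.ext hxy
    have hdiag : ∀ x ∈ J, x * (a' * x * a'⁻¹) ∈ K' := by
      intro x hx
      rw [hK'eq]
      exact ⟨⟨x, hx⟩, rfl⟩
    have hinj : ∀ x ∈ J, x * (a' * x * a'⁻¹) = 1 → x = 1 := by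
      intro x hx h
      have h4 : φ ⟨x, hx⟩ = φ 1 := by rw [map_one]; exact h
      exact congrArg Subtype.val (hφinj h4)
    -- the elementary subgroups
    let BY : Subgroup Y := B.subgroupOf Y
    have hcardBY : Nat.card BY = Nat.card B :=
      Nat.card_congr (Subgroup.subgroupOfEquivOfLe hBY).toEquiv
    let V : Subgroup Y := A.map (Subgroup.inclusion hKb)
    have hcardV : Nat.card V = Nat.card A :=
      (Nat.card_congr (A.equivMapOfInjective _ (Subgroup.inclusion_injective hKb)).toEquiv).symm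
    have hVK : V ≤ K' := by
      rintro _ ⟨x, -, rfl⟩
      exact x.2
    have hVc : ∀ u ∈ V, ∀ w ∈ V, u * w = w * u := by
      rintro _ ⟨x, hx, rfl⟩ _ ⟨y, hy, rfl⟩
      have h3 : x * y = y * x := congrArg Subtype.val (mul_comm' (⟨x, hx⟩ : A) ⟨y, hy⟩)
      rw [← map_mul, ← map_mul, h3]
    have hV2 : ∀ u ∈ V, u ^ 2 = 1 := by
      rintro _ ⟨x, hx, rfl⟩
      rw [← map_pow, hA2 x hx, map_one]
    have hV4 : 2 < Nat.card V := by
      rw [hcardV]
      simpa using hAcard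
    obtain ⟨Bs, hBs1, hBs2, hBs3, hBs4⟩ := rank_lift (B := BY) (V := V) hJ hJ' hneJ ha'2 hJ'def hdiag
      hinj h2 haB (fun u hu w hw => Subtype.ext (hBc _ hu _ hw))
      (fun u hu => Subtype.ext (hB2 _ hu))
      (fun u hu k hk => Subtype.ext (hBK _ hu _ hk)) hVK hVc hV2 hV4
    -- the rank bound
    have hBp : IsPGroup 2 B := by
      rintro ⟨x, hx⟩
      exact ⟨2 ^ 0 + 1 - 1 + 0, Subtype.ext (by simpa using hB2 x hx)⟩
    obtain ⟨r, hr⟩ := (IsPGroup.iff_card (p := 2)).mp hBp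
    have hrk1 : PRankLE 2 r ↥(Subgroup.centralizer ({a} : Set G) ⊓ Subgroup.centralizer (K : Set G)) := by
      intro A1 hA1c hA12
      have h5 := hBmax (A1.map (Subgroup.subtype _)) ?_ ?_
      · have e : Nat.card (A1.map (Subgroup.subtype _)) = Nat.card A1 :=
          (Nat.card_congr (A1.equivMapOfInjective _ (Subgroup.subtype_injective _)).toEquiv).symm
        rw [← hr, ← e]
        exact h5
      · rintro _ ⟨x, -, rfl⟩
        exact x.2
      · refine ⟨⟨⟨?_⟩⟩, ?_⟩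
        · rintro ⟨_, x, hx, rfl⟩ ⟨_, y, hy, rfl⟩
          apply Subtype.ext
          have h3 : x * y = y * x := congrArg Subtype.val (mul_comm' (⟨x, hx⟩ : A1) ⟨y, hy⟩)
          show (x : G) * (y : G) = (y : G) * (x : G)
          exact congrArg Subtype.val h3
        · rintro _ ⟨x, hx, rfl⟩
          exact congrArg Subtype.val (hA12 x hx)
    have hJK : Nat.card JG = Nat.card K :=
      le_antisymm hcard (by rw [hcardJ, ← hcardK']; exact le_trans hcK hrc)
    have hrk2 := hrank hJK r hrk1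
    -- the subgroup in `G`
    set W : Subgroup G := Subgroup.centralizer ({b} : Set G) ⊓ Subgroup.centralizer (JG : Set G) with hW
    have hBsW : Bs.map Y.subtype ≤ W := by
      rintro _ ⟨u, hu, rfl⟩
      refine Subgroup.mem_inf.mpr ⟨u.2, ?_⟩
      rw [Subgroup.mem_centralizer_iff]
      rintro _ ⟨x, hx, rfl⟩
      exact congrArg Subtype.val (hBs1 u hu x hx).symm
    let Bs' : Subgroup W := (Bs.map Y.subtype).subgroupOf W
    have hcardBs : Nat.card Bs' = Nat.card Bs := by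
      have e1 : Nat.card Bs' = Nat.card (Bs.map Y.subtype) :=
        Nat.card_congr (Subgroup.subgroupOfEquivOfLe hBsW).toEquiv
      have e2 : Nat.card (Bs.map Y.subtype) = Nat.card Bs :=
        (Nat.card_congr (Bs.equivMapOfInjective _ Y.subtype_injective).toEquiv).symm
      rw [e1, e2]
    have h6 := hrk2 Bs' ?_ ?_
    · rw [hcardBs, ← hr] at h6
      omega
    · refine ⟨⟨?_⟩⟩
      rintro ⟨⟨x, hxW⟩, hx⟩ ⟨⟨y, hyW⟩, hy⟩
      have hx1 : x ∈ Bs.map Y.subtype := hx
      have hy1 : y ∈ Bs.map Y.subtype := hy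
      obtain ⟨x', hx', hxe⟩ := hx1
      obtain ⟨y', hy', hye⟩ := hy1
      apply Subtype.ext
      apply Subtype.ext
      show x * y = y * x
      rw [← hxe, ← hye]
      exact congrArg Subtype.val (hBs2 x' hx' y' hy')
    · rintro ⟨x, hxW⟩ hx
      have hx1 : x ∈ Bs.map Y.subtype := hx
      obtain ⟨x', hx', hxe⟩ := hx1
      apply Subtype.ext
      show x ^ 2 = 1
      rw [← hxe]
      exact congrArg Subtype.val (hBs3 x' hx')

end Cfsg.Agent.S1305
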