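import Cfsg.Statements.S1307
import Cfsg.Agent.Lib.ZStar
import Cfsg.Agent.Lib.LocalCore
import Cfsg.Agent.Lib.PMinimalComp
import Cfsg.Agent.Lib.SmallPrimeClosed
-- import your own Cfsg.Agent.* helpers here

set_option autoImplicit false
open Cfsg

namespace Cfsg.Agent.S1307

open Cfsg.Agent.Lib.LocalCore Cfsg.Agent.Lib.PCore

/-- Under `2`-rank at most one, commuting involutions agree. -/
theorem eq_of_commute_of_rank {X : Type*} [Group X] [Finite X] (hr : PRankLE 2 1 X) {a b : X}
    (ha : orderOf a = 2) (hb : orderOf b = 2) (hab : Commute a b) : a = b := by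
  classical
  by_contra hne
  let A : Subgroup X := Subgroup.closure {a, b}
  have hcomm : ∀ x ∈ ({a, b} : Set X), ∀ y ∈ ({a, b} : Set X), x * y = y * x := by
    rintro x (rfl | rfl) y (rfl | rfl)
    · rfl
    · exact hab
    · exact hab.symm
    · rfl
  letI cg : CommGroup A := Subgroup.closureCommGroupOfComm hcomm
  have hAc : IsMulCommutative A := ⟨⟨fun x y => mul_comm x y⟩⟩
  have hA2 : ∀ x ∈ A, x ^ 2 = 1 := by
    intro x hx
    have h1 : ∀ (y : A), (y : X) ^ 2 = 1 → ∀ (z : A), (z : X) ^ 2 = 1 → ((y * z : A) : X) ^ 2 = 1 := by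
      intro y hy z hz
      have hc : (y : X) * z = z * y := congrArg Subtype.val (mul_comm y z)
      show ((y : X) * z) ^ 2 = 1
      rw [(show Commute (y : X) z from hc).mul_pow, hy, hz, one_mul]
    induction hx using Subgroup.closure_induction with
    | mem x hx =>
      rcases hx with rfl | rfl
      · rw [← ha]; exact pow_orderOf_eq_one _
      · rw [← hb]; exact pow_orderOf_eq_one _
    | one => simp
    | mul x y hx hy ihx ihy => exact h1 ⟨x, hx⟩ ihx ⟨y, hy⟩ ihy
    | inv x _ ih => rw [inv_pow, ih, inv_one]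
  have hcard := hr A hAc hA2
  have ha1 : a ≠ 1 := by
    rintro rfl
    simp at ha
  have hb1 : b ≠ 1 := by
    rintro rfl
    simp at hb
  have h3 : 3 ≤ Nat.card A := by
    haveI : Fintype A := Fintype.ofFinite A
    rw [Nat.card_eq_fintype_card]
    have hs : ({1, ⟨a, Subgroup.subset_closure (Or.inl rfl)⟩, ⟨b, Subgroup.subset_closure (Or.inr rfl)⟩} : Finset A).card = 3 := by
      rw [Finset.card_eq_three]
      refine ⟨_, _, _, ?_, ?_, ?_, rfl⟩
      · intro h; exact ha1 (congrArg Subtype.val h).symm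
      · intro h; exact hb1 (congrArg Subtype.val h).symm
      · intro h; exact hne (congrArg Subtype.val h)
    rw [← hs]
    exact Finset.card_le_univ _
  omega


/-- Let G be finite, x an involution and L ≤ C_G(x) a component of C_G(x) of even order and 2-rank 1, such that L is a component of C_G(y) for every involution y ∈ C_G(L). Then some involution of L is a classical involution of G. -/
theorem result {G : Type*} [Group G] [Finite G] (x : G) (hx : orderOf x = 2) (L : Subgroup G) (hLx : L ≤ Subgroup.centralizer ({x} : Set G)) (hL : Cfsg.IsComponent (L.subgroupOf (Subgroup.centralizer ({x} : Set G)))) (heven : Even (Nat.card ↥L)) (hrk : Cfsg.PRankLE 2 1 ↥L) (hne : ∀ y : G, orderOf y = 2 → y ∈ Subgroup.centralizer (L : Set G) → L ≤ Subgroup.centralizer ({y} : Set G) ∧ Cfsg.IsComponent (L.subgroupOf (Subgroup.centralizer ({y} : Set G)))) : ∃ t ∈ L, Cfsg.IsClassicalInvolution t := by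
  classical
  haveI hf : Fact (Nat.Prime 2) := ⟨Nat.prime_two⟩
  have hq : IsQuasisimple ↥L := qs_of_mulEquiv (Subgroup.subgroupOfEquivOfLe hLx) hL.2
  have hd : 2 ∣ Nat.card ↥L := heven.two_dvd
  obtain ⟨Sy⟩ : Nonempty (Sylow 2 ↥L) := inferInstance
  have hperf : commutator ↥L = ⊤ := qs_commutator hq
  -- an involution
  obtain ⟨z, hz⟩ : ∃ z : ↥L, orderOf z = 2 := exists_prime_orderOf_dvd_card' 2 hd
  have huniq : ∀ {a b : ↥L}, orderOf a = 2 → orderOf b = 2 → Commute a b → a = b :=
    fun ha hb hab => eq_of_commute_of_rank hrk ha hb hab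
  have hiso : IsIsolatedInvolution z := by
    refine ⟨hz, fun g hg => (huniq hz ?_ hg).symm⟩
    rw [← hz]
    exact MulEquiv.orderOf_eq (MulAut.conj g) z
  have hzs : InZStar 2 z := Cfsg.Agent.Lib.ZStar.zstar hiso
  have hcore : pPrimeCore 2 ↥L ≤ Subgroup.center ↥L := by
    rcases qs_normal hq (pPrimeCore 2 ↥L) with h1 | h1
    · exfalso
      exact not_dvd_card_pPrimeCore 2 (by rw [h1, Subgroup.card_top]; exact hd)
    · exact h1
  have hzc : z ∈ Subgroup.center ↥L := by
    have h1 : ⁅⁅(⊤ : Subgroup ↥L), Subgroup.zpowers z⁆, (⊤ : Subgroup ↥L)⁆ = ⊥ := by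
      have h2 : ⁅(⊤ : Subgroup ↥L), Subgroup.zpowers z⁆ ≤ Subgroup.center ↥L := by
        rw [Subgroup.commutator_le]
        intro g _ w hw
        obtain ⟨k, rfl⟩ := Subgroup.mem_zpowers_iff.mp hw
        have hcz : ∀ (n : ℤ), g * z ^ n * g⁻¹ * (z ^ n)⁻¹ ∈ Subgroup.center ↥L := by
          intro n
          have h3 : g * z * g⁻¹ * z⁻¹ ∈ Subgroup.center ↥L := hcore (hzs g)
          set c := g * z * g⁻¹ * z⁻¹ with hc
          have h4 : g * z * g⁻¹ = c * z := by rw [hc]; group
          have h5 : g * z ^ n * g⁻¹ = (c * z) ^ n := by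
            rw [← h4]
            exact (map_zpow (MulAut.conj g) z n)
          have h6 : Commute c z := (Subgroup.mem_center_iff.mp h3 z).symm
          rw [h5, h6.mul_zpow]
          simpa using Subgroup.zpow_mem _ h3 n
        have := hcz k
        simpa [commutatorElement_def] using this
      rw [← le_bot_iff]
      refine (Subgroup.commutator_mono h2 le_rfl).trans ?_
      rw [le_bot_iff, Subgroup.commutator_eq_bot_iff_le_centralizer]
      intro c hc
      rw [Subgroup.mem_centralizer_iff]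
      intro g _
      exact Subgroup.mem_center_iff.mp hc g
    have h2 : ⁅⁅(⊤ : Subgroup ↥L), (⊤ : Subgroup ↥L)⁆, Subgroup.zpowers z⁆ = ⊥ := by
      apply Subgroup.commutator_commutator_eq_bot_of_rotate h1
      rw [Subgroup.commutator_comm (Subgroup.zpowers z) ⊤]
      exact h1
    rw [← commutator_def, hperf, Subgroup.commutator_eq_bot_iff_le_centralizer] at h2
    rw [Subgroup.mem_center_iff]
    intro g
    exact (Subgroup.mem_centralizer_iff.mp (h2 (Subgroup.mem_top g)) z (Subgroup.mem_zpowers z)).symm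
  -- all involutions of the Sylow subgroup agree
  have hzS : z ∈ (Sy : Subgroup ↥L) := by
    have h1 : IsPGroup 2 ↥(Subgroup.zpowers z) := by
      apply IsPGroup.of_card (n := 1)
      rw [Nat.card_zpowers, hz, pow_one]
    obtain ⟨g, hg⟩ := Cfsg.Agent.Lib.SylowConjLemmas.exists_conj_mem Sy (Subgroup.zpowers z) h1
    have h2 : g * z * g⁻¹ = z := by
      rw [Subgroup.mem_center_iff.mp hzc g]
      group
    have h3 := hg z (Subgroup.mem_zpowers z)
    rwa [h2] at h3
  have hall : ∀ x : ↥(Sy : Subgroup ↥L), orderOf x = 2 → x = ⟨z, hzS⟩ := by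
    intro x hx
    apply Subtype.ext
    apply huniq ((Subgroup.orderOf_coe x).trans hx) hz
    exact (Subgroup.mem_center_iff.mp hzc x.1)
  have hcyc : ¬ IsCyclic ↥(Sy : Subgroup ↥L) := by
    intro hc
    obtain ⟨Q, K, hKn, hK⟩ := Cfsg.Agent.Lib.SmallPrimeClosed.main (p := 2) (G := ↥L)
      (fun q hq _ => hq.two_le) Sy (Or.inl hc)
    obtain ⟨s, hs⟩ := IsPGroup.iff_card.mp Q.isPGroup'
    haveI := hKn
    have hq2 : IsPGroup 2 (↥L ⧸ K) := by
      apply IsPGroup.of_card (n := s)
      rw [← Subgroup.index_eq_card, hK.symm.index_eq_card, hs]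
    have h1 := Cfsg.Agent.Lib.PResid.pResidual_le_of_isPGroup_quotient hq2
    have h2 : (⊤ : Subgroup ↥L) ≤ Cfsg.pResidual 2 ↥L :=
      Cfsg.Agent.Lib.PMinimalComp.perfect_le_pResidual ⊤ (by rw [← commutator_def, hperf])
    have h3 : K = ⊤ := top_le_iff.mp (h2.trans h1)
    have h4 : Nat.card (Q : Subgroup ↥L) = 1 := by
      rw [← hK.symm.index_eq_card, h3, Subgroup.index_top]
    have h5 : (Q : Subgroup ↥L) = ⊥ := Subgroup.card_eq_one.mp h4
    apply Q.not_dvd_index
    rw [h5, Subgroup.index_bot]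
    exact hd
  obtain ⟨m, e⟩ : ∃ m : ℕ, Nonempty (↥(Sy : Subgroup ↥L) ≃* QuaternionGroup (2 ^ (m + 1))) := by
    rcases Cfsg.Agent.Lib.ZStar.cyclic_or_quat Sy.isPGroup' hall with hc | ⟨n, ⟨e⟩⟩
    · exact absurd hc hcyc
    · rcases n with _ | m
      · exfalso
        apply hcyc
        haveI : IsCyclic (QuaternionGroup (2 ^ 0)) := by
          rw [pow_zero]
          exact QuaternionGroup.quaternionGroup_one_isCyclic
        exact isCyclic_of_surjective e.symm e.symm.surjective
      · exact ⟨m, ⟨e⟩⟩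
  have ht : orderOf (z : G) = 2 := (Subgroup.orderOf_coe z).trans hz
  have htC : (z : G) ∈ Subgroup.centralizer (L : Set G) := by
    rw [Subgroup.mem_centralizer_iff]
    intro h hh
    have := Subgroup.mem_center_iff.mp hzc ⟨h, hh⟩
    exact congrArg Subtype.val this
  obtain ⟨h1, h2⟩ := hne (z : G) ht htC
  exact ⟨z, z.2, ht, L, h1, z.2, h2.1, Sy, m, e⟩

end Cfsg.Agent.S1307
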