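import Mathlib
import Cfsg.Statements.S1323
import Cfsg.Agent.Lib.LocalCore
import Cfsg.Agent.Lib.Replacement

set_option autoImplicit false
open Cfsg Equiv
open Cfsg.Agent.Lib.LocalCore

namespace Cfsg.Agent.S1323

variable {α : Type*} [DecidableEq α] [Fintype α]

/-- Pointwise stabilizer of a finite set in the alternating group. -/
def LL (S : Finset α) : Subgroup (alternatingGroup α) where
  carrier := {g | ∀ x ∈ S, g.1 x = x}
  mul_mem' := by
    intro a b ha hb x hx
    have h1 := hb x hx
    have h2 := ha x hx
    simp only [Subgroup.coe_mul, Perm.mul_apply]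
    rw [h1, h2]
  one_mem' := by
    intro x _
    simp
  inv_mem' := by
    intro a ha x hx
    have h2 := ha x hx
    simp only [InvMemClass.coe_inv]
    rw [Equiv.Perm.inv_eq_iff_eq]
    exact h2.symm

theorem mem_LL {S : Finset α} {g : alternatingGroup α} : g ∈ LL S ↔ ∀ x ∈ S, g.1 x = x := Iff.rfl

/-- A three-cycle `a → b → c → a`. -/
def cyc (a b c : α) (hab : a ≠ b) (hbc : b ≠ c) : alternatingGroup α :=
  ⟨swap a b * swap b c, by
    rw [Equiv.Perm.mem_alternatingGroup, Perm.sign_mul, Perm.sign_swap hab, Perm.sign_swap hbc]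
    decide⟩

section cyc
variable {a b c : α} (hab : a ≠ b) (hbc : b ≠ c)

theorem cyc_a (hac : a ≠ c) : (cyc a b c hab hbc).1 a = b := by
  have h1 : swap b c a = a := swap_apply_of_ne_of_ne hab hac
  change (swap a b * swap b c) a = b
  rw [Perm.mul_apply, h1, swap_apply_left]

theorem cyc_other {x : α} (hxa : x ≠ a) (hxb : x ≠ b) (hxc : x ≠ c) :
    (cyc a b c hab hbc).1 x = x := by
  change (swap a b * swap b c) x = x
  rw [Perm.mul_apply, swap_apply_of_ne_of_ne hxb hxc, swap_apply_of_ne_of_ne hxa hxb]

theorem cyc_mem {S : Finset α} (ha : a ∉ S) (hb : b ∉ S) (hc : c ∉ S) : cyc a b c hab hbc ∈ LL S := by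
  intro x hx
  apply cyc_other
  · rintro rfl; exact ha hx
  · rintro rfl; exact hb hx
  · rintro rfl; exact hc hx

/-- If `h` commutes with the cycle then `h a` is one of the three points. -/
theorem mem_of_commute_cyc (hac : a ≠ c) {h : alternatingGroup α} (hc : h * cyc a b c hab hbc = cyc a b c hab hbc * h) :
    h.1 a = a ∨ h.1 a = b ∨ h.1 a = c := by
  by_contra hcon
  push Not at hcon
  obtain ⟨h1, h2, h3⟩ := hcon
  have e := congrArg (fun u : alternatingGroup α => u.1 a) hc
  simp only [Subgroup.coe_mul, Perm.mul_apply] at e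
  rw [cyc_a hab hbc hac, cyc_other hab hbc h1 h2 h3] at e
  have : b = a := h.1.injective e
  exact hab this.symm

end cyc

omit [Fintype α] in
theorem pick0 [Fintype α] {S R : Finset α} (h : R.card < Sᶜ.card) : ∃ x, x ∉ S ∧ x ∉ R := by
  obtain ⟨x, hx, hx'⟩ := Finset.exists_mem_notMem_of_card_lt_card h
  exact ⟨x, by simpa using hx, hx'⟩

/-- Moving points. -/
theorem exists_move {S : Finset α} (hS : 3 ≤ Sᶜ.card) {x : α} (hx : x ∉ S) :
    ∃ h ∈ LL S, h.1 x ≠ x := by
  obtain ⟨a, ha, hax⟩ := pick0 (S := S) (R := {x}) (by simp; omega)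
  obtain ⟨b, hb, hbx⟩ := pick0 (S := S) (R := {x, a}) (by
    have : ({x, a} : Finset α).card ≤ 2 := Finset.card_le_two
    omega)
  simp only [Finset.mem_singleton, Finset.mem_insert, not_or] at hax hbx
  refine ⟨cyc x a b (Ne.symm hax) (Ne.symm hbx.2), cyc_mem _ _ hx ha hb, ?_⟩
  rw [cyc_a _ _ (Ne.symm hbx.1)]
  exact hax

theorem map_conj_LL (S : Finset α) (g : alternatingGroup α) :
    (LL S).map (MulAut.conj g).toMonoidHom = LL (S.image g.1) := by
  ext h
  constructor
  · rintro ⟨k, hk, rfl⟩ x hx
    obtain ⟨y, hy, rfl⟩ := Finset.mem_image.1 hx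
    have h1 := hk y hy
    change (g * k * g⁻¹).1 (g.1 y) = g.1 y
    have h2 : (g.1)⁻¹ (g.1 y) = y := by simp
    simp only [Subgroup.coe_mul, Perm.mul_apply, InvMemClass.coe_inv]
    rw [h2, h1]
  · intro hh
    refine ⟨g⁻¹ * h * g, ?_, by simp [mul_assoc]⟩
    intro x hx
    have h1 := hh (g.1 x) (Finset.mem_image_of_mem _ hx)
    have h2 : (g.1)⁻¹ (g.1 x) = x := by simp
    simp only [Subgroup.coe_mul, Perm.mul_apply, InvMemClass.coe_inv]
    rw [h1, h2]

theorem LL_inj {S S' : Finset α} (hS : 3 ≤ Sᶜ.card) (hS' : 3 ≤ S'ᶜ.card) (h : LL S = LL S') :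
    S = S' := by
  apply Finset.Subset.antisymm
  · intro x hx
    by_contra hx'
    obtain ⟨k, hk, hkx⟩ := exists_move hS' hx'
    exact hkx ((h ▸ hk : k ∈ LL S) x hx)
  · intro x hx
    by_contra hx'
    obtain ⟨k, hk, hkx⟩ := exists_move hS hx'
    exact hkx ((h ▸ hk : k ∈ LL S') x hx)

theorem card_compl_image (S : Finset α) (g : alternatingGroup α) :
    (S.image g.1)ᶜ.card = Sᶜ.card := by
  rw [Finset.card_compl, Finset.card_compl, Finset.card_image_of_injective _ g.1.injective]

theorem mem_normalizer_LL {S : Finset α} (hS : 3 ≤ Sᶜ.card) {g : alternatingGroup α} :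
    g ∈ Subgroup.normalizer (LL S : Set (alternatingGroup α)) ↔ S.image g.1 = S := by
  constructor
  · intro h
    have h1 := map_conj_of_mem_normalizer h
    rw [map_conj_LL] at h1
    exact LL_inj (by rwa [card_compl_image]) hS h1
  · intro h
    apply Cfsg.Agent.Lib.Replacement.mem_normalizer_of_forall
    intro x hx
    have h1 : g * x * g⁻¹ ∈ (LL S).map (MulAut.conj g).toMonoidHom := ⟨x, hx, rfl⟩
    rw [map_conj_LL, h] at h1
    exact h1

theorem image_compl_eq {S : Finset α} {g : alternatingGroup α} :
    Sᶜ.image g.1 = Sᶜ ↔ S.image g.1 = S := by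
  have key : ∀ S : Finset α, S.image g.1 = S → Sᶜ.image g.1 = Sᶜ := by
    intro S h
    have h1 : (Sᶜ.image g.1) = (S.image g.1)ᶜ := by
      ext x
      simp only [Finset.mem_image, Finset.mem_compl]
      constructor
      · rintro ⟨y, hy, rfl⟩ ⟨z, hz, hzy⟩
        have : z = y := g.1.injective hzy
        exact hy (this ▸ hz)
      · intro hx
        refine ⟨g.1.symm x, ?_, by simp⟩
        intro hh
        exact hx ⟨_, hh, by simp⟩
    rw [h1, h]
  constructor
  · intro h
    have := key _ h
    simpa using this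
  · exact key S

theorem centralizer_LL {T : Finset α} (hT : 5 ≤ Tᶜ.card) :
    Subgroup.centralizer (LL T : Set (alternatingGroup α)) = LL Tᶜ := by
  ext h
  rw [Subgroup.mem_centralizer_iff]
  constructor
  · intro hc x hx
    have hx' : x ∉ T := by simpa using hx
    obtain ⟨a, ha, hax⟩ := pick0 (S := T) (R := {x}) (by simp; omega)
    obtain ⟨b, hb, hbx⟩ := pick0 (S := T) (R := {x, a}) (by
      have : ({x, a} : Finset α).card ≤ 2 := Finset.card_le_two
      omega)
    obtain ⟨d, hd, hdx⟩ := pick0 (S := T) (R := {x, a, b}) (by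
      have : ({x, a, b} : Finset α).card ≤ 3 := Finset.card_le_three
      omega)
    obtain ⟨e, he, hex⟩ := pick0 (S := T) (R := {x, a, b, d}) (by
      have : ({x, a, b, d} : Finset α).card ≤ 4 := Finset.card_le_four
      omega)
    simp only [Finset.mem_singleton, Finset.mem_insert, not_or] at hax hbx hdx hex
    have h1 := mem_of_commute_cyc (Ne.symm hax) (Ne.symm hbx.2) (Ne.symm hbx.1)
      (hc _ (cyc_mem (Ne.symm hax) (Ne.symm hbx.2) hx' ha hb)).symm
    have h2 := mem_of_commute_cyc (Ne.symm hdx.1) (Ne.symm hex.2.2.2) (Ne.symm hex.1)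
      (hc _ (cyc_mem (Ne.symm hdx.1) (Ne.symm hex.2.2.2) hx' hd he)).symm
    rcases h1 with h1 | h1 | h1
    · exact h1
    · rcases h2 with h2 | h2 | h2
      · exact h2
      · exact absurd (h1.symm.trans h2).symm hdx.2.1
      · exact absurd (h1.symm.trans h2).symm hex.2.1
    · rcases h2 with h2 | h2 | h2
      · exact h2
      · exact absurd (h1.symm.trans h2).symm hdx.2.2
      · exact absurd (h1.symm.trans h2).symm hex.2.2.1
  · intro hh k hk
    have hd : Perm.Disjoint k.1 h.1 := by
      intro x
      by_cases hx : x ∈ T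
      · exact Or.inl (hk x hx)
      · exact Or.inr (hh x (by simpa using hx))
    exact Subtype.ext hd.commute.eq

/-- An involution moving at most three points is a transposition. -/
theorem sign_of_small {σ : Perm α} {R : Finset α} (h2 : σ * σ = 1) (h1 : σ ≠ 1)
    (hR : ∀ x, x ∉ R → σ x = x) (hc : R.card ≤ 3) : Perm.sign σ = -1 := by
  have hs : ∀ x, σ (σ x) = x := fun x => by
    have := congrArg (fun u : Perm α => u x) h2
    simpa using this
  obtain ⟨x, hx⟩ : ∃ x, σ x ≠ x := by
    by_contra hcon
    push Not at hcon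
    exact h1 (Equiv.ext hcon)
  have hxR : x ∈ R := by
    by_contra h
    exact hx (hR x h)
  have hsxR : σ x ∈ R := by
    by_contra h
    have := hR _ h
    rw [hs] at this
    exact hx this.symm
  have heq : σ = swap x (σ x) := by
    ext z
    by_cases hz1 : z = x
    · subst hz1; simp
    by_cases hz2 : z = σ x
    · subst hz2; simp [hs]
    rw [swap_apply_of_ne_of_ne hz1 hz2]
    by_cases hzR : z ∈ R
    · by_contra hne
      have hsz : σ z ∈ R := by
        by_contra h
        have := hR _ h
        rw [hs] at this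
        exact hne this.symm
      have h3 : ({x, σ x, z, σ z} : Finset α) ⊆ R := by
        intro w hw
        simp only [Finset.mem_insert, Finset.mem_singleton] at hw
        rcases hw with rfl | rfl | rfl | rfl <;> assumption
      have hn1 : σ z ≠ x := fun h => hz2 (by rw [← h, hs])
      have hn2 : σ z ≠ σ x := fun h => hz1 (σ.injective h)
      have h4 : ({x, σ x, z, σ z} : Finset α).card = 4 := by
        rw [Finset.card_insert_of_notMem, Finset.card_insert_of_notMem,
          Finset.card_insert_of_notMem, Finset.card_singleton]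
        · simpa using fun h : z = σ z => hne h.symm
        · simp only [Finset.mem_insert, Finset.mem_singleton, not_or]
          exact ⟨fun h => hz2 h.symm, fun h => hn2 h.symm⟩
        · simp only [Finset.mem_insert, Finset.mem_singleton, not_or]
          exact ⟨fun h => hx h.symm, fun h => hz1 h.symm, fun h => hn1 h.symm⟩
      have := Finset.card_le_card h3
      omega
    · exact hR z hzR
  rw [heq, Perm.sign_swap hx.symm]

/-- The tight embedding. -/
theorem tight {T : Finset α} (hT : T.card = 4) (hα : 9 ≤ Fintype.card α) :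
    IsTightlyEmbedded (LL Tᶜ) := by
  have hcc : 3 ≤ (Tᶜᶜ : Finset α).card := by
    rw [compl_compl]; omega
  constructor
  · -- the Klein element
    have hpos : T.Nonempty := Finset.card_pos.1 (by omega)
    obtain ⟨a, ha⟩ := hpos
    have h3 : (T.erase a).card = 3 := by rw [Finset.card_erase_of_mem ha, hT]
    obtain ⟨b, c, d, hbc, hbd, hcd, hE⟩ := Finset.card_eq_three.1 h3
    have hmem : ∀ z, z ∈ T ↔ z = a ∨ z = b ∨ z = c ∨ z = d := by
      intro z
      have : z ∈ insert a (T.erase a) ↔ z ∈ T := by
        rw [Finset.insert_erase ha]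
      rw [← this, hE]
      simp
    have hab : a ≠ b := by
      have : b ∈ T.erase a := by rw [hE]; simp
      exact (Finset.ne_of_mem_erase this).symm
    let y : alternatingGroup α := ⟨swap a b * swap c d, by
      rw [Equiv.Perm.mem_alternatingGroup, Perm.sign_mul, Perm.sign_swap hab, Perm.sign_swap hcd]
      decide⟩
    have hac : a ≠ c := by
      have : c ∈ T.erase a := by rw [hE]; simp
      exact (Finset.ne_of_mem_erase this).symm
    have had : a ≠ d := by
      have : d ∈ T.erase a := by rw [hE]; simp
      exact (Finset.ne_of_mem_erase this).symm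
    have hyL : y ∈ LL Tᶜ := by
      intro x hx
      have hx' : x ∉ T := by simpa using hx
      rw [hmem] at hx'
      push Not at hx'
      change (swap a b * swap c d) x = x
      rw [Perm.mul_apply, swap_apply_of_ne_of_ne hx'.2.2.1 hx'.2.2.2,
        swap_apply_of_ne_of_ne hx'.1 hx'.2.1]
    have hy1 : y ≠ 1 := by
      intro h
      have e := congrArg (fun u : alternatingGroup α => u.1 a) h
      change (swap a b * swap c d) a = a at e
      rw [Perm.mul_apply, swap_apply_of_ne_of_ne hac had, swap_apply_left] at e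
      exact hab e.symm
    have hy2 : y ^ 2 = 1 := by
      apply Subtype.ext
      change (swap a b * swap c d) ^ 2 = 1
      have hc : Commute (swap a b) (swap c d) := by
        apply Perm.Disjoint.commute
        intro x
        by_cases h1 : x = a
        · subst h1; right; exact swap_apply_of_ne_of_ne hac had
        by_cases h2 : x = b
        · subst h2; right; exact swap_apply_of_ne_of_ne hbc hbd
        · left; exact swap_apply_of_ne_of_ne h1 h2
      rw [hc.mul_pow, pow_two, pow_two, swap_mul_self, swap_mul_self, mul_one]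
    have hord : orderOf (⟨y, hyL⟩ : ↥(LL Tᶜ)) = 2 := by
      apply orderOf_eq_prime
      · exact Subtype.ext hy2
      · intro h
        exact hy1 (congrArg Subtype.val h)
    have := orderOf_dvd_natCard (⟨y, hyL⟩ : ↥(LL Tᶜ))
    rw [hord] at this
    exact even_iff_two_dvd.2 this
  · intro g hg
    rw [mem_normalizer_LL hcc, image_compl_eq] at hg
    rw [map_conj_LL]
    by_contra hodd
    rw [Nat.not_odd_iff_even] at hodd
    have h2 : Nat.Prime 2 := Nat.prime_two
    have : Fact (Nat.Prime 2) := ⟨h2⟩
    obtain ⟨y, hy⟩ := exists_prime_orderOf_dvd_card' 2 (even_iff_two_dvd.1 hodd)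
    have hy2 : (y : alternatingGroup α) ^ 2 = 1 := by
      have := pow_orderOf_eq_one y
      rw [hy] at this
      exact congrArg Subtype.val this
    have hy1 : (y : alternatingGroup α) ≠ 1 := by
      intro h
      have : y = 1 := Subtype.ext h
      rw [this, orderOf_one] at hy
      omega
    have hyT := y.2.1
    have hyT' := y.2.2
    set R : Finset α := T ∩ T.image g.1 with hRdef
    have hfix : ∀ x, x ∉ R → (y : alternatingGroup α).1 x = x := by
      intro x hx
      by_cases hxT : x ∈ T
      · have hx2 : x ∉ T.image g.1 := fun h => hx (Finset.mem_inter.2 ⟨hxT, h⟩)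
        have : x ∈ (Tᶜ).image g.1 := by
          have hsurj : ∃ z, g.1 z = x := ⟨g.1.symm x, by simp⟩
          obtain ⟨z, rfl⟩ := hsurj
          refine Finset.mem_image_of_mem _ ?_
          rw [Finset.mem_compl]
          intro hz
          exact hx2 (Finset.mem_image_of_mem _ hz)
        exact hyT' x this
      · exact hyT x (by simpa using hxT)
    have hRc : R.card ≤ 3 := by
      have h3 : R.card ≤ T.card := Finset.card_le_card Finset.inter_subset_left
      by_contra hh
      have h4 : R = T := Finset.eq_of_subset_of_card_le Finset.inter_subset_left (by omega)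
      have h5 : T ⊆ T.image g.1 := by
        intro x hx
        have : x ∈ R := h4 ▸ hx
        exact (Finset.mem_inter.1 this).2
      apply hg
      symm
      apply Finset.eq_of_subset_of_card_le h5
      rw [Finset.card_image_of_injective _ g.1.injective]
    have hsign := sign_of_small (σ := (y : alternatingGroup α).1) (R := R)
      (by
        have := congrArg Subtype.val hy2
        simpa [pow_two] using this)
      (fun h => hy1 (Subtype.ext h)) hfix hRc
    have hmem := (y : alternatingGroup α).2
    rw [Equiv.Perm.mem_alternatingGroup, hsign] at hmem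
    exact absurd hmem (by decide)

/-- The subgroup is isomorphic to an alternating group. -/
theorem qs_LL {T : Finset α} (hT : 5 ≤ Tᶜ.card) : IsQuasisimple ↥(LL T) := by
  classical
  let β := {x // x ∉ T}
  have hβ : 5 ≤ Nat.card β := by
    rw [Nat.card_eq_fintype_card, Fintype.card_subtype_compl]
    rw [Finset.card_compl] at hT
    simpa [Fintype.card_coe] using hT
  have hs : IsSimpleGroup (alternatingGroup β) := alternatingGroup.isSimpleGroup hβ
  have hc : commutator (alternatingGroup β) = ⊤ := commutator_alternatingGroup_eq_top hβ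
  have hq : IsQuasisimple (alternatingGroup β) := by
    apply qs_of_perfect hc
    intro N hN
    rcases hs.eq_bot_or_eq_top_of_normal N hN with h | h
    · right; rw [h]; exact bot_le
    · left; exact h
  let φ : alternatingGroup β →* alternatingGroup α :=
    { toFun := fun s => ⟨Perm.ofSubtype s.1, by
        rw [Equiv.Perm.mem_alternatingGroup, Perm.sign_ofSubtype]
        exact s.2⟩
      map_one' := by
        apply Subtype.ext
        simp
      map_mul' := by
        intro a b
        apply Subtype.ext
        simp }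
  have hinj : Function.Injective φ := by
    intro a b hab
    have h1 : Perm.ofSubtype a.1 = Perm.ofSubtype b.1 := congrArg Subtype.val hab
    exact Subtype.ext (Perm.ofSubtype_injective h1)
  have hrange : φ.range = LL T := by
    ext g
    constructor
    · rintro ⟨s, rfl⟩ x hx
      change Perm.ofSubtype s.1 x = x
      exact Perm.ofSubtype_apply_of_not_mem _ (by simpa using hx)
    · intro hg
      have hp : ∀ x, g.1 x ∉ T ↔ x ∉ T := by
        intro x
        constructor
        · intro hx hxT
          rw [hg x hxT] at hx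
          exact hx hxT
        · intro hx hgx
          have h1 := hg _ hgx
          have := g.1.injective h1
          exact hx (this ▸ hgx)
      have hs1 : Perm.ofSubtype (Perm.subtypePerm (p := fun x => x ∉ T) g.1 hp) = g.1 :=
        Perm.ofSubtype_subtypePerm (p := fun x => x ∉ T) hp (fun x hx => by
          intro hxT
          exact hx (hg x hxT))
      refine ⟨⟨Perm.subtypePerm (p := fun x => x ∉ T) g.1 hp, ?_⟩, Subtype.ext hs1⟩
      rw [Equiv.Perm.mem_alternatingGroup, ← Perm.sign_ofSubtype, hs1]
      exact g.2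
  have e : alternatingGroup β ≃* ↥(LL T) :=
    (MonoidHom.ofInjective hinj).trans (MulEquiv.subgroupCongr hrange)
  exact qs_of_mulEquiv e hq

theorem not_commute {T : Finset α} (hT : T.card = 4) (hα : 9 ≤ Fintype.card α)
    (g : alternatingGroup α) (hg : (LL T).map (MulAut.conj g).toMonoidHom ≠ LL T) :
    ⁅LL T, (LL T).map (MulAut.conj g).toMonoidHom⁆ ≠ ⊥ := by
  intro hbot
  rw [map_conj_LL] at hg hbot
  have hc := commutator_eq_bot_iff_elementwise.1 hbot
  set T' := T.image g.1 with hT'
  have hT'card : T'.card = 4 := by rw [hT', Finset.card_image_of_injective _ g.1.injective, hT]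
  have hne : T ≠ T' := fun h => hg (by rw [← h])
  have hcT : Tᶜ.card = Fintype.card α - 4 := by rw [Finset.card_compl, hT]
  have hcT' : T'ᶜ.card = Fintype.card α - 4 := by rw [Finset.card_compl, hT'card]
  obtain ⟨y, hyT, hyT'⟩ : ∃ y ∈ T, y ∉ T' := by
    by_contra hcon
    push Not at hcon
    exact hne (Finset.eq_of_subset_of_card_le hcon (by omega))
  obtain ⟨z, hzT, hzT'⟩ : ∃ z, z ∉ T ∧ z ∉ T' := by
    have hc2 : (T ∪ T').card ≤ 8 := by
      have := Finset.card_union_le T T'
      omega
    obtain ⟨z, hz⟩ := pick0 (S := T ∪ T') (R := (∅ : Finset α)) (by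
      rw [Finset.card_compl]
      simp only [Finset.card_empty]
      omega)
    simp only [Finset.mem_union, not_or] at hz
    exact ⟨z, hz.1.1, hz.1.2⟩
  obtain ⟨x₁, hx₁, hx₁z⟩ := pick0 (S := T) (R := {z}) (by simp; omega)
  obtain ⟨x₂, hx₂, hx₂z⟩ := pick0 (S := T) (R := {z, x₁}) (by
    have : ({z, x₁} : Finset α).card ≤ 2 := Finset.card_le_two
    omega)
  obtain ⟨y₂, hy₂, hy₂z⟩ := pick0 (S := T') (R := {z, y}) (by
    have : ({z, y} : Finset α).card ≤ 2 := Finset.card_le_two
    omega)
  simp only [Finset.mem_singleton, Finset.mem_insert, not_or] at hx₁z hx₂z hy₂z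
  have hzy : z ≠ y := fun h => hzT (h ▸ hyT)
  have hc₁ : cyc z x₁ x₂ (Ne.symm hx₁z) (Ne.symm hx₂z.2) ∈ LL T :=
    cyc_mem _ _ hzT hx₁ hx₂
  have hc₂ : cyc z y y₂ hzy (Ne.symm hy₂z.2) ∈ LL T' := cyc_mem _ _ hzT' hyT' hy₂
  have h := hc _ hc₁ _ hc₂
  have e := congrArg (fun u : alternatingGroup α => u.1 z) h
  simp only [Subgroup.coe_mul, Perm.mul_apply] at e
  rw [cyc_a _ _ (Ne.symm hy₂z.1), cyc_a _ _ (Ne.symm hx₂z.1), hc₁ y hyT] at e
  have e2 : (cyc z y y₂ hzy (Ne.symm hy₂z.2)).1 z = (cyc z y y₂ hzy (Ne.symm hy₂z.2)).1 x₁ := by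
    rw [cyc_a _ _ (Ne.symm hy₂z.1)]
    exact e
  exact hx₁z ((cyc z y y₂ hzy (Ne.symm hy₂z.2)).1.injective e2).symm

theorem standard {T : Finset α} (hT : T.card = 4) (hα : 9 ≤ Fintype.card α) :
    IsStandardSubgroup (LL T) := by
  have h5 : 5 ≤ Tᶜ.card := by
    rw [Finset.card_compl, hT]; omega
  have hcc : 3 ≤ (Tᶜᶜ : Finset α).card := by
    rw [compl_compl]; omega
  refine ⟨qs_LL h5, ?_, not_commute hT hα, ?_⟩
  · rw [centralizer_LL h5]
    exact tight hT hα
  · rw [centralizer_LL h5]
    ext g
    rw [mem_normalizer_LL (by omega), mem_normalizer_LL hcc, image_compl_eq]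

/-- For n ≥ 9, the subgroup of the alternating group on Fin n fixing each of the points 0, 1, 2, 3 is a standard subgroup. -/
theorem result (n : ℕ) (h4 : 4 ≤ n) (hn : 9 ≤ n) : Cfsg.IsStandardSubgroup (⨅ i : Fin 4, MulAction.stabilizer ↥(alternatingGroup (Fin n)) (Fin.castLE h4 i : Fin n)) := by
  have hT : (Finset.univ.image (Fin.castLE h4)).card = 4 := by
    rw [Finset.card_image_of_injective _ (Fin.castLE_injective h4)]
    simp
  have h := standard hT (by simpa using hn)
  have e : (⨅ i : Fin 4, MulAction.stabilizer ↥(alternatingGroup (Fin n)) (Fin.castLE h4 i : Fin n)) =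
      LL (Finset.univ.image (Fin.castLE h4)) := by
    ext g
    rw [Subgroup.mem_iInf, mem_LL]
    constructor
    · intro hg x hx
      obtain ⟨i, -, rfl⟩ := Finset.mem_image.1 hx
      exact MulAction.mem_stabilizer_iff.1 (hg i)
    · intro hg i
      exact MulAction.mem_stabilizer_iff.2 (hg _ (Finset.mem_image_of_mem _ (Finset.mem_univ i)))
  rw [e]
  exact h

end Cfsg.Agent.S1323
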