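import Mathlib
import Cfsg.Statements.S1339
import Cfsg.Agent.Lib.PCore
import Cfsg.Agent.Lib.CharTwoLocal

set_option autoImplicit false
open Cfsg
open Cfsg.Agent.Lib.PCore

namespace Cfsg.Agent.S1339

section matrices

variable {F : Type*} [Field F] {n : ℕ} {i j : Fin n}

/-- The shape of a matrix in the centralizer. -/
def IsC (i j : Fin n) (M : Matrix (Fin n) (Fin n) F) : Prop :=
  (∀ k, k ≠ i → M k i = 0) ∧ (∀ l, l ≠ j → M j l = 0) ∧ M i i = 1 ∧ M j j = 1

/-- The shape of a matrix in `Q`. -/
def IsQ (i j : Fin n) (M : Matrix (Fin n) (Fin n) F) : Prop :=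
  ∀ k l, k ≠ i → l ≠ j → M k l = (1 : Matrix (Fin n) (Fin n) F) k l

theorem isQ_mul {M N : Matrix (Fin n) (Fin n) F} (hM : IsQ i j M) (hN : IsQ i j N)
    (hNC : IsC i j N) : IsQ i j (M * N) := by
  intro k l hk hl
  have h1 : (M * N) k l = ((1 : Matrix (Fin n) (Fin n) F) * N) k l := by
    rw [Matrix.mul_apply, Matrix.mul_apply]
    refine Finset.sum_congr rfl fun r _ => ?_
    by_cases hr : r = j
    · subst hr
      rw [hNC.2.1 l hl, mul_zero, mul_zero]
    · rw [hM k r hk hr]
  rw [h1, one_mul]
  exact hN k l hk hl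

/-- `a = M - 1` has `a³ = 0`. -/
theorem cube_eq_zero {M : Matrix (Fin n) (Fin n) F} (hM : IsQ i j M) (hMC : IsC i j M) :
    (M - 1) * (M - 1) * (M - 1) = 0 := by
  set a := M - 1 with ha
  have h1 : ∀ k l, k ≠ i → l ≠ j → a k l = 0 := by
    intro k l hk hl
    rw [ha, Matrix.sub_apply, hM k l hk hl, sub_self]
  have h2 : ∀ k, a k i = 0 := by
    intro k
    rw [ha, Matrix.sub_apply]
    by_cases hk : k = i
    · subst hk
      rw [hMC.2.2.1, Matrix.one_apply_eq, sub_self]
    · rw [hMC.1 k hk, Matrix.one_apply_ne hk, sub_self]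
  have h3 : ∀ l, a j l = 0 := by
    intro l
    rw [ha, Matrix.sub_apply]
    by_cases hl : l = j
    · subst hl
      rw [hMC.2.2.2, Matrix.one_apply_eq, sub_self]
    · rw [hMC.2.1 l hl, Matrix.one_apply_ne (Ne.symm hl), sub_self]
  have h4 : ∀ k l, (k ≠ i ∨ l ≠ j) → (a * a) k l = 0 := by
    intro k l hkl
    rw [Matrix.mul_apply]
    refine Finset.sum_eq_zero fun r _ => ?_
    by_cases hri : r = i
    · subst hri
      rw [h2 k, zero_mul]
    by_cases hrj : r = j
    · subst hrj
      rw [h3 l, mul_zero]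
    rcases hkl with hk | hl
    · rw [h1 k r hk hrj, zero_mul]
    · rw [h1 r l hri hl, mul_zero]
  ext k l
  rw [Matrix.mul_apply, Matrix.zero_apply]
  refine Finset.sum_eq_zero fun r _ => ?_
  by_cases hk : k = i
  · by_cases hr : r = j
    · subst hr
      rw [h3 l, mul_zero]
    · rw [h4 k r (Or.inr hr), zero_mul]
  · rw [h4 k r (Or.inl hk), zero_mul]

theorem isQ_conj {M N M' : Matrix (Fin n) (Fin n) F} (hMM' : M * M' = 1) (hMC : IsC i j M)
    (hM'C : IsC i j M') (hN : IsQ i j N) : IsQ i j (M * N * M') := by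
  intro k l hk hl
  have e : M * N * M' = 1 + M * (N - 1) * M' := by
    rw [Matrix.mul_sub, Matrix.sub_mul, Matrix.mul_one, hMM', add_sub_cancel]
  rw [e, Matrix.add_apply]
  have h0 : (M * (N - 1) * M') k l = 0 := by
    rw [Matrix.mul_apply]
    refine Finset.sum_eq_zero fun s _ => ?_
    by_cases hs : s = j
    · subst hs
      rw [hM'C.2.1 l hl, mul_zero]
    · rw [Matrix.mul_apply]
      have : ∑ r, M k r * (N - 1) r s = 0 := by
        refine Finset.sum_eq_zero fun r _ => ?_
        by_cases hr : r = i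
        · subst hr
          rw [hMC.1 k hk, zero_mul]
        · rw [Matrix.sub_apply, hN r s hr hs, sub_self, mul_zero]
      rw [this, zero_mul]
  rw [h0, add_zero]

end matrices

section main

variable {F : Type*} [Field F] [Fintype F] [DecidableEq F] {n : ℕ} {i j : Fin n}

theorem eq_zero_or_one (hF : Fintype.card F = 2) (x : F) : x = 0 ∨ x = 1 := by
  by_contra hcon
  push Not at hcon
  have h : ({0, 1, x} : Finset F).card ≤ Fintype.card F := Finset.card_le_univ _
  rw [hF, Finset.card_eq_three.2 ⟨0, 1, x, zero_ne_one, hcon.1.symm, hcon.2.symm, rfl⟩] at h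
  omega

theorem add_self_eq_zero' (hF : Fintype.card F = 2) (x : F) : x + x = 0 := by
  have h1 : (1 : F) + 1 = 0 := by
    rcases eq_zero_or_one hF ((1 : F) + 1) with h | h
    · exact h
    · exfalso
      have : (1 : F) = 0 := by
        have h2 : (1 : F) + 1 = 1 + 0 := by rw [h, add_zero]
        exact add_left_cancel h2
      exact one_ne_zero this
  rcases eq_zero_or_one hF x with h | h
  · rw [h, add_zero]
  · rw [h, h1]

/-- Elements of the centralizer have the right shape. -/
theorem isC_of_comm (hF : Fintype.card F = 2) {M : Matrix (Fin n) (Fin n) F}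
    (hdet : M.det = 1) (h : M * Matrix.transvection i j (1 : F) = Matrix.transvection i j (1 : F) * M) :
    IsC i j M := by
  have h1 : M * Matrix.single i j (1 : F) = Matrix.single i j (1 : F) * M := by
    unfold Matrix.transvection at h
    rw [Matrix.mul_add, Matrix.add_mul, Matrix.mul_one, Matrix.one_mul] at h
    exact add_left_cancel h
  have hcol : ∀ k, k ≠ i → M k i = 0 := by
    intro k hk
    have := congrFun (congrFun h1 k) j
    rw [Matrix.mul_single_apply_same, Matrix.single_mul_apply_of_ne _ _ _ _ _ hk, mul_one] at this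
    exact this
  have hrow : ∀ l, l ≠ j → M j l = 0 := by
    intro l hl
    have := congrFun (congrFun h1 i) l
    rw [Matrix.mul_single_apply_of_ne _ _ _ _ _ hl, Matrix.single_mul_apply_same, one_mul] at this
    exact this.symm
  have hdet0 : M.det ≠ 0 := by rw [hdet]; exact one_ne_zero
  refine ⟨hcol, hrow, ?_, ?_⟩
  · rcases eq_zero_or_one hF (M i i) with h0 | h0
    · exfalso
      apply hdet0
      apply Matrix.det_eq_zero_of_column_eq_zero i
      intro k
      by_cases hk : k = i
      · rw [hk, h0]
      · exact hcol k hk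
    · exact h0
  · rcases eq_zero_or_one hF (M j j) with h0 | h0
    · exfalso
      apply hdet0
      apply Matrix.det_eq_zero_of_row_eq_zero j
      intro l
      by_cases hl : l = j
      · rw [hl, h0]
      · exact hrow l hl
    · exact h0

end main

/-- Let F be a field with 2 elements, n ≥ 3, and t ∈ SL(n, F) a transvection (t = 1 + E_{ij}, i ≠ j). Then the generalized Fitting subgroup of C(t) is O_2(C(t)). -/
theorem result {F : Type*} [Field F] [Fintype F] [DecidableEq F] (hF : Fintype.card F = 2) (n : ℕ) (hn : 3 ≤ n) (i j : Fin n) (hij : i ≠ j) (t : Matrix.SpecialLinearGroup (Fin n) F) (ht : (t : Matrix (Fin n) (Fin n) F) = Matrix.transvection i j 1) : Cfsg.generalizedFittingSubgroup ↥(Subgroup.centralizer ({t} : Set (Matrix.SpecialLinearGroup (Fin n) F))) = Cfsg.pCore 2 ↥(Subgroup.centralizer ({t} : Set (Matrix.SpecialLinearGroup (Fin n) F))) := by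
  classical
  set C := Subgroup.centralizer ({t} : Set (Matrix.SpecialLinearGroup (Fin n) F)) with hC
  -- shape of elements of `C`
  have hshape : ∀ g : ↥C, IsC i j (((g : Matrix.SpecialLinearGroup (Fin n) F)) : Matrix (Fin n) (Fin n) F) := by
    intro g
    apply isC_of_comm hF (g : Matrix.SpecialLinearGroup (Fin n) F).2
    have h1 : (g : Matrix.SpecialLinearGroup (Fin n) F) * t = t * g :=
      (Subgroup.mem_centralizer_singleton_iff.1 g.2)
    have h2 := congrArg (fun x : Matrix.SpecialLinearGroup (Fin n) F => (x : Matrix (Fin n) (Fin n) F)) h1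
    simp only [Matrix.SpecialLinearGroup.coe_mul, ht] at h2
    exact h2
  have : Finite F := inferInstance
  -- the subgroup `Q`
  have hone : IsQ i j (1 : Matrix (Fin n) (Fin n) F) := fun _ _ _ _ => rfl
  have hpow : ∀ (g : ↥C), IsQ i j (((g : Matrix.SpecialLinearGroup (Fin n) F)) : Matrix (Fin n) (Fin n) F) →
      ∀ m : ℕ, IsQ i j (((g ^ m : ↥C) : Matrix.SpecialLinearGroup (Fin n) F) : Matrix (Fin n) (Fin n) F) := by
    intro g hg m
    induction m with
    | zero => simpa using hone
    | succ m ih =>
      rw [pow_succ]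
      exact isQ_mul ih hg (hshape g)
  let Q : Subgroup ↥C :=
    { carrier := {g | IsQ i j (((g : Matrix.SpecialLinearGroup (Fin n) F)) : Matrix (Fin n) (Fin n) F)}
      one_mem' := hone
      mul_mem' := fun {a b} ha hb => isQ_mul ha hb (hshape b)
      inv_mem' := fun {a} ha => by
        have h1 : a * a ^ (orderOf a - 1) = 1 := by
          rw [← pow_succ', Nat.sub_add_cancel (orderOf_pos a), pow_orderOf_eq_one]
        have h2 : a⁻¹ = a ^ (orderOf a - 1) := inv_eq_of_mul_eq_one_right h1
        rw [h2]
        exact hpow a ha _ }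
  have hadd : ∀ A : Matrix (Fin n) (Fin n) F, A + A = 0 := by
    intro A
    ext k l
    exact add_self_eq_zero' hF _
  have hQ2 : IsPGroup 2 ↥Q := by
    intro g
    refine ⟨2, ?_⟩
    set M : Matrix (Fin n) (Fin n) F := ((((g : ↥Q) : ↥C) : Matrix.SpecialLinearGroup (Fin n) F) : Matrix (Fin n) (Fin n) F) with hM
    have hc := cube_eq_zero (M := M) g.2 (hshape g)
    have h1 : M ^ (2 ^ 2) = 1 := by
      set a := M - 1 with ha
      have hMa : M = 1 + a := by rw [ha]; abel
      have h2 : M * M = 1 + a * a := by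
        rw [hMa]
        have : (1 + a) * (1 + a) = 1 + (a + a) + a * a := by noncomm_ring
        rw [this, hadd, add_zero]
      have h3 : M ^ (2 ^ 2) = (M * M) * (M * M) := by
        norm_num
        rw [pow_succ, pow_succ, pow_succ, pow_one]
        noncomm_ring
      rw [h3, h2]
      have h4 : (1 + a * a) * (1 + a * a) = 1 + (a * a + a * a) + a * a * a * a := by noncomm_ring
      rw [h4, hadd, hc]
      simp
    apply Subtype.ext
    apply Subtype.ext
    apply Subtype.ext
    simpa using h1
  have hQn : Q.Normal := by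
    refine ⟨fun g hg h => ?_⟩
    have h1 : (((h : Matrix.SpecialLinearGroup (Fin n) F) : Matrix (Fin n) (Fin n) F)) *
        (((h⁻¹ : ↥C) : Matrix.SpecialLinearGroup (Fin n) F) : Matrix (Fin n) (Fin n) F) = 1 := by
      have := congrArg (fun x : ↥C => (((x : Matrix.SpecialLinearGroup (Fin n) F)) : Matrix (Fin n) (Fin n) F))
        (mul_inv_cancel h)
      exact this
    exact isQ_conj h1 (hshape h) (hshape h⁻¹) hg
  have hO : Q ≤ Cfsg.pCore 2 ↥C := le_pCore hQn hQ2
  apply Cfsg.Agent.Lib.CharTwoLocal.generalizedFitting_eq_pCore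
  intro g hg
  apply hO
  set M : Matrix (Fin n) (Fin n) F := (((g : Matrix.SpecialLinearGroup (Fin n) F)) : Matrix (Fin n) (Fin n) F) with hM
  have hgC : IsC i j M := hshape g
  change IsQ i j M
  intro r s hr hs
  by_cases hrj : r = j
  · subst hrj
    rw [hgC.2.1 s hs, Matrix.one_apply_ne (Ne.symm hs)]
  -- the transvection
  have hτdet : (Matrix.transvection i r (1 : F)).det = 1 :=
    Matrix.det_transvection_of_ne i r (Ne.symm hr) 1
  let τ₀ : Matrix.SpecialLinearGroup (Fin n) F := ⟨Matrix.transvection i r 1, hτdet⟩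
  have hτC : τ₀ ∈ C := by
    rw [hC, Subgroup.mem_centralizer_singleton_iff]
    apply Subtype.ext
    change Matrix.transvection i r (1 : F) * (t : Matrix (Fin n) (Fin n) F) = (t : Matrix (Fin n) (Fin n) F) * Matrix.transvection i r (1 : F)
    rw [ht]
    unfold Matrix.transvection
    have e1 : Matrix.single i r (1 : F) * Matrix.single i j (1 : F) = 0 :=
      Matrix.single_mul_single_of_ne _ _ _ _ hr _
    have e2 : Matrix.single i j (1 : F) * Matrix.single i r (1 : F) = 0 :=
      Matrix.single_mul_single_of_ne _ _ _ _ (Ne.symm hij) _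
    simp only [Matrix.add_mul, Matrix.mul_add, e1, e2, Matrix.mul_one, Matrix.one_mul, add_zero]
    abel
  let τ : ↥C := ⟨τ₀, hτC⟩
  have hτQ : τ ∈ Q := by
    intro k l hk hl
    change (Matrix.transvection i r (1 : F)) k l = _
    unfold Matrix.transvection
    rw [Matrix.add_apply, Matrix.single_apply_of_row_ne (Ne.symm hk), add_zero]
  have hcomm : τ * g = g * τ := Subgroup.mem_centralizer_iff.1 hg τ (hO hτQ)
  have h1 : M * Matrix.single i r (1 : F) = Matrix.single i r (1 : F) * M := by
    have h2 := congrArg (fun x : ↥C => (((x : Matrix.SpecialLinearGroup (Fin n) F)) : Matrix (Fin n) (Fin n) F)) hcomm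
    change Matrix.transvection i r (1 : F) * M = M * Matrix.transvection i r (1 : F) at h2
    unfold Matrix.transvection at h2
    rw [Matrix.mul_add, Matrix.add_mul, Matrix.mul_one, Matrix.one_mul] at h2
    exact (add_left_cancel h2).symm
  have h3 := congrFun (congrFun h1 i) s
  by_cases hsr : s = r
  · subst hsr
    rw [Matrix.mul_single_apply_same, Matrix.single_mul_apply_same, hgC.2.2.1, one_mul, one_mul] at h3
    rw [Matrix.one_apply_eq]
    exact h3.symm
  · rw [Matrix.mul_single_apply_of_ne _ _ _ _ _ hsr, Matrix.single_mul_apply_same, one_mul] at h3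
    rw [Matrix.one_apply_ne (Ne.symm hsr)]
    exact h3.symm

end Cfsg.Agent.S1339
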