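import Mathlib
import Cfsg.Statements.S1340
import Cfsg.Agent.Lib.SLBlock
import Cfsg.Agent.Lib.LocalCore
import Cfsg.Agent.Lib.PComp
import Cfsg.Agent.Lib.PCore

set_option autoImplicit false
set_option linter.unusedSectionVars false
open Cfsg Matrix
open Cfsg.Agent.Lib.LocalCore Cfsg.Agent.Lib.SLBlock Cfsg.Agent.Lib.PCore

namespace Cfsg.Agent.S1340

theorem neg_one_ne {F : Type*} [Field F] [Fintype F] (hF : Odd (Fintype.card F)) : (-1 : F) ≠ 1 := by
  intro h
  have hc : ringChar F = 2 := by
    have h3 : (2 : F) = 0 := by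
      have : (1 : F) + 1 = 0 := by
        nth_rewrite 1 [← h]
        ring
      rw [← this]
      norm_num
    have := CharTwo.of_one_ne_zero_of_two_eq_zero (R := F) one_ne_zero h3
    exact ringChar.eq F 2
  have h4 := FiniteField.even_card_of_char_two hc
  exact (Nat.not_even_iff_odd.2 hF) (Nat.even_iff.2 h4)

variable {α F : Type*} [DecidableEq α] [Fintype α] [Field F] [Fintype F] [DecidableEq F]

/-- The diagonal element. -/
def tt (i₀ : α) : GL α F where
  val := diagonal fun i => if i = i₀ then -1 else 1
  inv := diagonal fun i => if i = i₀ then -1 else 1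
  val_inv := by
    rw [diagonal_mul_diagonal, ← diagonal_one]
    congr 1
    ext i
    by_cases hi : i = i₀ <;> simp [hi]
  inv_val := by
    rw [diagonal_mul_diagonal, ← diagonal_one]
    congr 1
    ext i
    by_cases hi : i = i₀ <;> simp [hi]

theorem main_thm (h2 : (-1 : F) ≠ 1) (i₀ : α) (a b : α) (hab : a ≠ b) (ha : a ≠ i₀) (hb : b ≠ i₀)
    (hq : IsQuasisimple ↥(blockSub F i₀)) :
    ∃ t : GL α F, orderOf t = 2 ∧ t ∉ Subgroup.center (GL α F) ∧
      HasComponent (↥(Subgroup.centralizer ({t} : Set (GL α F))) ⧸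
        oddCore ↥(Subgroup.centralizer ({t} : Set (GL α F)))) := by
  classical
  set t : GL α F := tt i₀ with htdef
  set d : α → F := fun i => if i = i₀ then -1 else 1 with hd
  have htv : (t : Matrix α α F) = diagonal d := rfl
  have hdne : ∀ j, j ≠ i₀ → d j ≠ d i₀ := by
    intro j hj
    simp only [hd, hj, if_false, if_true]
    exact h2.symm
  have ht2 : t ^ 2 = 1 := by
    rw [pow_two]
    apply Units.ext
    exact t.val_inv
  have ht1 : t ≠ 1 := by
    intro h
    have h3 : (t : Matrix α α F) = 1 := by rw [h]; rfl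
    have h4 := congrFun (congrFun h3 i₀) i₀
    rw [htv] at h4
    simp [hd] at h4
    exact h2 h4
  refine ⟨t, orderOf_eq_prime ht2 ht1, ?_, ?_⟩
  · intro hc
    -- a transvection does not commute with `t`
    have h3 := Subgroup.mem_center_iff.1 hc
        (SpecialLinearGroup.toGL (SpecialLinearGroup.transvection hb.symm (1 : F)))
    have h4 : ((SpecialLinearGroup.toGL (SpecialLinearGroup.transvection hb.symm (1 : F)) : GL α F) :
        Matrix α α F) * diagonal d = diagonal d * (SpecialLinearGroup.toGL (SpecialLinearGroup.transvection hb.symm (1 : F)) : GL α F) :=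
      congrArg Units.val h3
    have h5 := (isBD_of_commute hdne h4 b hb).1
    change (SpecialLinearGroup.transvection hb.symm (1 : F)).1 i₀ b = 0 at h5
    rw [SpecialLinearGroup.transvection_coe, Matrix.add_apply, one_apply_ne hb.symm, zero_add,
      single_apply_same] at h5
    exact one_ne_zero h5
  · set C := Subgroup.centralizer ({t} : Set (GL α F)) with hC
    have hBD : ∀ c ∈ C, IsBD i₀ (c : GL α F).1 := by
      intro c hc
      apply isBD_of_commute hdne
      have h1 : c * t = t * c := Subgroup.mem_centralizer_singleton_iff.1 hc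
      exact congrArg Units.val h1
    -- the block subgroup in `GL`
    set J : Subgroup (GL α F) := (blockSub F i₀).map SpecialLinearGroup.toGL with hJ
    have hJC : J ≤ C := by
      rintro _ ⟨g, hg, rfl⟩
      rw [hC, Subgroup.mem_centralizer_singleton_iff]
      apply Units.ext
      change g.1 * diagonal d = diagonal d * g.1
      ext i j
      rw [mul_diagonal, diagonal_mul]
      by_cases hi : i = i₀
      · subst hi
        rw [hg.1 j]
        by_cases hj : j = i
        · subst hj; simp
        · simp [hj]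
      · by_cases hj : j = i₀
        · subst hj
          rw [hg.2 i]
          simp [hi]
        · simp only [hd, hi, hj, if_false]
          ring
    set K₀ : Subgroup ↥C := J.subgroupOf C with hK₀
    have hK₀n : K₀.Normal := by
      constructor
      intro x hx c
      rw [hK₀, Subgroup.mem_subgroupOf] at hx ⊢
      obtain ⟨g, hg, hgx⟩ := hx
      have hc' : ((c⁻¹ : ↥C) : GL α F) ∈ C := (c⁻¹).2
      have h1 : ((c : ↥C) : GL α F).1 * (((c⁻¹ : ↥C) : GL α F)).1 = 1 := by
        have := congrArg (fun u : ↥C => (u : GL α F).1) (mul_inv_cancel c)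
        simpa using this
      have hx' : IsB1 i₀ ((x : ↥C) : GL α F).1 := by
        rw [← hgx]; exact hg
      have hB := isB1_conj (hBD c c.2) (hBD _ hc') h1 hx'
      have hdet : (((c * x * c⁻¹ : ↥C) : GL α F) : Matrix α α F).det = 1 := by
        have h3 : (((c * x * c⁻¹ : ↥C) : GL α F) : Matrix α α F) =
            ((c : ↥C) : GL α F).1 * ((x : ↥C) : GL α F).1 * ((c⁻¹ : ↥C) : GL α F).1 := rfl
        rw [h3, det_mul, det_mul, mul_right_comm, ← det_mul, h1, det_one, one_mul]
        rw [← hgx]
        exact g.2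
      exact ⟨⟨_, hdet⟩, hB, Units.ext rfl⟩
    have hq₀ : IsQuasisimple ↥K₀ := by
      have e1 : ↥(blockSub F i₀) ≃* ↥J :=
        Subgroup.equivMapOfInjective _ _ SpecialLinearGroup.toGL_injective
      exact qs_of_mulEquiv (e1.trans (Subgroup.subgroupOfEquivOfLe hJC).symm) hq
    -- the image in the quotient
    set O := oddCore ↥C with hO
    set K : Subgroup (↥C ⧸ O) := K₀.map (QuotientGroup.mk' O) with hK
    have hKn : K.Normal := hK₀n.map _ (QuotientGroup.mk'_surjective _)
    refine ⟨K, hKn.isSubnormal, ?_⟩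
    -- nontriviality
    have hnt : Nontrivial ↥K := by
      have hm1 : (-1 : F) ≠ 0 := neg_ne_zero.2 one_ne_zero
      set y := SpecialLinearGroup.diag2n hab (-1 : F) hm1 with hy
      have hycoe : y.1 = diagonal (fun k => if k = a then (-1 : F) else if k = b then (-1 : F)⁻¹ else 1) :=
        SpecialLinearGroup.diag2n_coe hab (-1 : F) hm1
      have hinv : (-1 : F)⁻¹ = -1 := by simp
      rw [hinv] at hycoe
      have hyB : y ∈ blockSub F i₀ := by
        constructor
        · intro k
          rw [hycoe]
          by_cases hk : k = i₀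
          · subst hk; simp [ha.symm, hb.symm]
          · rw [diagonal_apply_ne _ (Ne.symm hk)]; simp [hk]
        · intro k
          rw [hycoe]
          by_cases hk : k = i₀
          · subst hk; simp [ha.symm, hb.symm]
          · rw [diagonal_apply_ne _ hk]; simp [hk]
      have hyJ : SpecialLinearGroup.toGL y ∈ J := ⟨y, hyB, rfl⟩
      set x : ↥C := ⟨_, hJC hyJ⟩ with hx
      have hxK₀ : x ∈ K₀ := Subgroup.mem_subgroupOf.2 hyJ
      have hx2 : x ^ 2 = 1 := by
        rw [pow_two]
        apply Subtype.ext
        apply Units.ext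
        change y.1 * y.1 = 1
        rw [hycoe, diagonal_mul_diagonal, ← diagonal_one]
        congr 1
        ext k
        by_cases h1 : k = a
        · simp [h1]
        · by_cases h3 : k = b <;> simp [h1, h3]
      have hx1 : x ≠ 1 := by
        intro h
        have h3 : y.1 = 1 := congrArg (fun u : ↥C => (u : GL α F).1) h
        have h4 := congrFun (congrFun h3 a) a
        rw [hycoe] at h4
        simp at h4
        exact h2 h4
      have hordx : orderOf x = 2 := orderOf_eq_prime hx2 hx1
      refine ⟨⟨⟨QuotientGroup.mk' O x, ⟨x, hxK₀, rfl⟩⟩, 1, fun h => ?_⟩⟩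
      have h3 : QuotientGroup.mk' O x = 1 := congrArg Subtype.val h
      have h4 : x ∈ O := (QuotientGroup.eq_one_iff x).1 h3
      have h5 : orderOf (⟨x, h4⟩ : ↥O) ∣ Nat.card ↥O := orderOf_dvd_natCard _
      rw [Subgroup.orderOf_mk, hordx] at h5
      have h6 := card_pPrimeCore_coprime (G := ↥C) 2
      have h7 := Nat.Coprime.coprime_dvd_left h5 h6
      exact absurd h7 (by norm_num)
    exact Cfsg.Agent.Lib.PComp.qs_of_surjective hq₀ ((QuotientGroup.mk' O).subgroupMap K₀)
      ((QuotientGroup.mk' O).subgroupMap_surjective K₀)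

/-- Let F be a finite field of odd order and n ≥ 3 with (n, |F|) ≠ (3, 3). Then GL(n, F) has a non-central involution t such that C(t) / O(C(t)) has a component. -/
theorem result {F : Type*} [Field F] [Fintype F] [DecidableEq F] (hF : Odd (Fintype.card F)) (n : ℕ) (hn : 3 ≤ n) (h33 : ¬ (n = 3 ∧ Fintype.card F = 3)) : ∃ t : Matrix.GeneralLinearGroup (Fin n) F, orderOf t = 2 ∧ t ∉ Subgroup.center (Matrix.GeneralLinearGroup (Fin n) F) ∧ Cfsg.HasComponent (↥(Subgroup.centralizer ({t} : Set (Matrix.GeneralLinearGroup (Fin n) F))) ⧸ Cfsg.oddCore ↥(Subgroup.centralizer ({t} : Set (Matrix.GeneralLinearGroup (Fin n) F)))) := by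
  set i₀ : Fin n := ⟨0, by omega⟩ with hi₀
  set a : Fin n := ⟨1, by omega⟩ with ha
  set b : Fin n := ⟨2, by omega⟩ with hb
  have hcard : Fintype.card {i : Fin n // i ≠ i₀} = n - 1 := by
    simp [Fintype.card_subtype_compl]
  have hq : IsQuasisimple ↥(blockSub F i₀) := by
    apply qs_blockSub
    by_cases h3 : n = 3
    · right
      refine ⟨by rw [hcard]; omega, ?_⟩
      have hc : Fintype.card F ≠ 3 := fun h => h33 ⟨h3, h⟩
      rw [Nat.card_eq_fintype_card]
      have h2 : 1 < Fintype.card F := Fintype.one_lt_card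
      obtain ⟨r, hr⟩ := hF
      omega
    · left
      rw [hcard]; omega
  exact main_thm (neg_one_ne hF) i₀ a b (by simp [ha, hb, Fin.ext_iff]) (by simp [ha, hi₀, Fin.ext_iff]) (by simp [hb, hi₀, Fin.ext_iff]) hq

end Cfsg.Agent.S1340
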