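import Mathlib
import Cfsg.Statements.S1458
import Cfsg.Agent.Lib.ZJe
import Cfsg.Agent.Lib.BGStable
import Cfsg.Agent.Lib.StableW
import Cfsg.Agent.Lib.PPrimeP

set_option autoImplicit false
open Cfsg

namespace Cfsg.Agent.S1458

/-- Let G be a solvable group of odd order, p a prime and S a Sylow p-subgroup of G. Then the subgroup generated by the centre of the Thompson subgroup of S and O_{p'}(G) is normal in G. -/
theorem result {G : Type*} [Group G] [Finite G] [Group.IsSolvable G] (hodd : Odd (Nat.card G)) (p : ℕ) [Fact p.Prime] (S : Sylow p G) :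
    (Cfsg.centerThompsonOf p (S : Subgroup G) ⊔ Cfsg.pPrimeCore p G).Normal := by
  classical
  set N := Cfsg.pPrimeCore p G with hN
  have hNn : N.Normal := Cfsg.pPrimeCore_normal p G
  by_cases hp : p = 2
  · subst hp
    have hS1 : (S : Subgroup G) = ⊥ := by
      obtain ⟨k, hk⟩ := IsPGroup.iff_card.mp S.isPGroup'
      have h1 : Odd (Nat.card (S : Subgroup G)) := hodd.of_dvd_nat (Subgroup.card_subgroup_dvd_card _)
      rcases k with _ | k
      · exact Subgroup.card_eq_one.mp (by simpa using hk)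
      · exfalso
        rw [hk] at h1
        exact (Nat.not_even_iff_odd.2 h1) ((Nat.even_pow' (Nat.succ_ne_zero k)).2 (by norm_num))
    have h2 : Cfsg.centerThompsonOf 2 (S : Subgroup G) = ⊥ := by
      rw [eq_bot_iff, ← hS1]
      refine inf_le_left.trans ?_
      unfold Cfsg.thompsonSubgroupOf
      exact Subgroup.map_subtype_le _
    rw [h2, bot_sup_eq]
    exact hNn
  let π := QuotientGroup.mk' N
  have hπ : Function.Surjective π := QuotientGroup.mk'_surjective N
  have hXodd : Odd (Nat.card (G ⧸ N)) := hodd.of_dvd_nat (Subgroup.card_quotient_dvd_card N)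
  have hc : Subgroup.centralizer (Cfsg.pCore p (G ⧸ N) : Set (G ⧸ N)) ≤ Cfsg.pCore p (G ⧸ N) :=
    Cfsg.Agent.Lib.PCore.centralizer_pCore_le p (Cfsg.Agent.Lib.PCore.pPrimeCore_quotient_pPrimeCore p)
  have hst : ∀ (V : Subgroup (G ⧸ N)) [V.Normal], IsPGroup p V → Cfsg.IsPStableOn p V := by
    intro V _ hV a ha
    exact Cfsg.Agent.Lib.BGStable.quadratic_mem_pCore hp hXodd V hV a
      (fun x hx => Cfsg.Agent.Lib.StableW.elem_of_quad ha hx)
  have hnorm := Cfsg.Agent.Lib.ZJe.zj_e_normal hp (S.mapSurjective hπ) hc hst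
  rw [Sylow.coe_mapSurjective] at hnorm
  have hinj : ∀ x ∈ (S : Subgroup G), π x = 1 → x = 1 := by
    intro x hx h1
    have h2 : x ∈ (S : Subgroup G) ⊓ N := ⟨hx, (QuotientGroup.eq_one_iff x).1 h1⟩
    rw [Cfsg.Agent.Lib.PPrimeP.inf_pPrimeCore_eq_bot S.isPGroup'] at h2
    exact h2
  rw [← Cfsg.Agent.Lib.ZJe.map_centerThompsonOf π _ hinj] at hnorm
  have h3 : ((Cfsg.centerThompsonOf p (S : Subgroup G)).map π).comap π =
      Cfsg.centerThompsonOf p (S : Subgroup G) ⊔ N := by
    rw [Subgroup.comap_map_eq, QuotientGroup.ker_mk']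
  rw [← h3]
  exact Subgroup.Normal.comap hnorm π

end Cfsg.Agent.S1458
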