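import Mathlib
import Cfsg.Statements.S1522
import Cfsg.Agent.Lib.CohCentral

set_option autoImplicit false
open Cfsg

namespace Cfsg.Agent.S1522

open Cfsg.Agent.Lib.CharBasic Cfsg.Agent.Lib.GenChar Cfsg.Agent.Lib.CharInd
  Cfsg.Agent.Lib.CharInduction Cfsg.Agent.Lib.InducedIrr Cfsg.Agent.Lib.CoherenceBasic
  Cfsg.Agent.Lib.CohCentral

/-- Let K be a nilpotent normal subgroup of the finite group L of odd order with [K,K] < K < L and L/[K,K] a Frobenius group with kernel K/[K,K] (elements of K outside [K,K] are centralised modulo [K,K] only from inside K); let (S, τ, R) be a coherence system from L to G with S the functions induced from non-principal irreducible characters of K. Let Z be a nontrivial normal subgroup of L contained in the centre of K, and suppose every member of S outside S(Z) is an irreducible character of L. Then S minus S(Z) is the set of irreducible characters χ of L with χ z ≠ χ 1 for some z ∈ Z, and it is coherent. -/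
theorem result {L : Type*} [Group L] [Fintype L] {G : Type*} [Group G] [Fintype G] (K : Subgroup L) [hK : K.Normal] (hsolv : Group.IsSolvable K) (τ : (L → ℂ) → (G → ℂ)) (R : (L → ℂ) → Finset (G → ℂ)) (hS : Cfsg.IsCoherenceSystem (Cfsg.inducedIrrAbove K ⊥) τ R) (hodd : Odd (Nat.card L)) (hnil : Group.IsNilpotent K) (hH₁K : ⁅K, K⁆ < K) (hKL : K < ⊤) (hfrob : ∀ k ∈ K, k ∉ ⁅K, K⁆ → ∀ x : L, x * k * x⁻¹ * k⁻¹ ∈ ⁅K, K⁆ → x ∈ K) (Z : Subgroup L) [Z.Normal] (hZ1 : Z ≠ ⊥) (hZK : Z ≤ K) (hZc : ∀ z ∈ Z, ∀ k ∈ K, z * k = k * z) (hirr : ∀ χ ∈ Cfsg.inducedIrrAbove K ⊥ \ Cfsg.inducedIrrAbove K Z, Cfsg.IsIrrCharacter L χ) : Cfsg.inducedIrrAbove K ⊥ \ Cfsg.inducedIrrAbove K Z = {χ | Cfsg.IsIrrCharacter L χ ∧ ∃ z ∈ Z, χ z ≠ χ 1} ∧ Cfsg.IsCoherent (Cfsg.inducedIrrAbove K ⊥ \ Cfsg.inducedIrrAbove K Z) {1}ᶜ τ := by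
  classical
  letI : Fintype K := Fintype.ofFinite K
  have hNTmem : ∀ θ : K → ℂ, IsIrrCharacter K θ → NT K Z θ →
      indFun K θ ∈ inducedIrrAbove K ⊥ \ inducedIrrAbove K Z := by
    intro θ hθ hnt
    refine ⟨⟨θ, hθ, ?_, ?_, rfl⟩, ?_⟩
    · rintro rfl
      obtain ⟨a, -, hne⟩ := hnt
      exact hne rfl
    · intro a ha
      have h1 : a = 1 := Subtype.ext (Subgroup.mem_bot.mp ha)
      rw [h1]
    · rintro ⟨θ', h1, h2, h3, h4⟩
      have h5 := triv_of_ind_eq K Z hZK (IsIrrCharacter.isCharacter hθ) (fun a ha => by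
        rw [h4]
        exact indFun_eq_one_of_triv K Z hZK h3 ha)
      obtain ⟨a, ha, hne⟩ := hnt
      exact hne (h5 a ha)
  have hTset : inducedIrrAbove K ⊥ \ inducedIrrAbove K Z = Tset K Z := by
    ext φ
    constructor
    · rintro ⟨⟨θ, h1, h2, h3, rfl⟩, h5⟩
      refine ⟨θ, h1, ?_, rfl⟩
      by_contra hnt
      apply h5
      refine ⟨θ, h1, h2, ?_, rfl⟩
      intro a ha
      by_contra hne
      exact hnt ⟨a, ha, hne⟩
    · rintro ⟨θ, h1, h2, rfl⟩
      exact hNTmem θ h1 h2
  have hI : ∀ θ : K → ℂ, IsIrrCharacter K θ → NT K Z θ → IsIrrCharacter L (indFun K θ) :=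
    fun θ h1 h2 => hirr _ (hNTmem θ h1 h2)
  constructor
  · ext χ
    constructor
    · intro h
      rw [hTset] at h
      obtain ⟨θ, h1, h2, rfl⟩ := h
      refine ⟨hI θ h1 h2, ?_⟩
      by_contra hcon
      push Not at hcon
      have h5 := triv_of_ind_eq K Z hZK (IsIrrCharacter.isCharacter h1) hcon
      obtain ⟨a, ha, hne⟩ := h2
      exact hne (h5 a ha)
    · rintro ⟨hχ, z, hz, hne⟩
      rw [hTset]
      have hc := IsIrrCharacter.isCharacter hχ
      obtain ⟨m, hm⟩ := exists_nat_decomp (isCharacter_restrict K hc)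
      have hex : ∃ i, m i ≠ 0 ∧ NT K Z (i : K → ℂ) := by
        by_contra hcon
        push Not at hcon
        apply hne
        have h1 := congrFun hm ⟨z, hZK hz⟩
        have h2 := congrFun hm 1
        simp only [Finset.sum_apply, Pi.smul_apply, smul_eq_mul, OneMemClass.coe_one] at h1 h2
        rw [h1, h2]
        refine Finset.sum_congr rfl fun i _ => ?_
        by_cases hi : m i = 0
        · rw [hi, zero_smul, zero_smul]
        · have h3 := hcon i hi
          have h4 : (i : K → ℂ) ⟨z, hZK hz⟩ = (i : K → ℂ) 1 := by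
            by_contra h5
            exact h3 ⟨⟨z, hZK hz⟩, hz, h5⟩
          rw [h4]
      obtain ⟨i, hi, hnt⟩ := hex
      refine ⟨i, i.2, hnt, ?_⟩
      have hI' := hI i i.2 hnt
      by_contra hneq
      have h0 := classInner_irr_ne hI' hχ (Ne.symm hneq)
      rw [frobenius K _ (isClassFunction_of_isCharacter hc), hm] at h0
      have h1 : classInner (∑ j, m j • (j : K → ℂ)) (i : K → ℂ) = 0 := by
        rw [← classInner_conj_symm, h0, map_zero]
      rw [classInner_nat_decomp m _ i.2] at h1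
      exact hi (by exact_mod_cast h1)
  · rw [hTset]
    have hcop : ∀ q : ℕ, q.Prime → q ∣ K.index → ¬ q ∣ Nat.card K := fun q hq h1 h2 =>
      coprime_of_frob K hnil hfrob hq h2 h1
    have hsub : Tset K Z ⊆ inducedIrrAbove K ⊥ := by
      rw [← hTset]
      exact Set.diff_subset
    exact coherent_general hnil hodd hcop τ _ Z inferInstance rfl hZ1 hZK hZc hI
      (fun φ hφ => hS.conj_ne φ (hsub hφ)) (iso_mono hS.isometry (zspanOn_mono hsub))
      (fun α hα => hS.map_one α (zspanOn_mono hsub hα))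

end Cfsg.Agent.S1522
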