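import Mathlib
import Cfsg.Statements.S1618
import Cfsg.Agent.Lib.ZStar
import Cfsg.Agent.Lib.Glauberman2
import Cfsg.Agent.Lib.OrbitFix

set_option autoImplicit false
open Cfsg

namespace Cfsg.Agent.S1618

open Cfsg.Agent.Lib Cfsg.Agent.Lib.PCore

theorem commutator_le_of_sup {G : Type*} [Group G] {N : Subgroup G} {x : G} (hN : N.Normal)
    (htop : N ⊔ Subgroup.zpowers x = ⊤) : commutator G ≤ N := by
  have hdec : ∀ g : G, ∃ k : ℤ, (QuotientGroup.mk' N) g = (QuotientGroup.mk' N) x ^ k := by
    intro g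
    have hg : g ∈ N ⊔ Subgroup.zpowers x := by rw [htop]; trivial
    obtain ⟨n, hn, z, hz, rfl⟩ := Subgroup.mem_sup_of_normal_left.mp hg
    obtain ⟨k, rfl⟩ := Subgroup.mem_zpowers_iff.mp hz
    refine ⟨k, ?_⟩
    have h0 : QuotientGroup.mk' N n = 1 := (QuotientGroup.eq_one_iff n).mpr hn
    rw [map_mul, map_zpow, h0, one_mul]
  show ⁅(⊤ : Subgroup G), (⊤ : Subgroup G)⁆ ≤ N
  rw [Subgroup.commutator_le]
  intro a _ b _
  rw [← QuotientGroup.eq_one_iff]
  show QuotientGroup.mk' N _ = 1
  obtain ⟨k, hk⟩ := hdec a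
  obtain ⟨l, hl⟩ := hdec b
  rw [map_commutatorElement, hk, hl, commutatorElement_eq_one_iff_commute]
  exact (Commute.refl _).zpow_zpow k l

/-- A group generated by a class of involutions whose pairwise products (of distinct members) have p-power order for a fixed odd prime p has nilpotent derived subgroup. -/
theorem result {G : Type*} [Group G] [Finite G] (p : ℕ) (hp : p.Prime) (hodd : p ≠ 2) {D : Set G} (hinv : ∀ d ∈ D, orderOf d = 2) (hconj : ∃ d ∈ D, D = conjugatesOf d) (hgen : Subgroup.closure D = ⊤) (hprod : ∀ x ∈ D, ∀ y ∈ D, x ≠ y → ∃ k : ℕ, orderOf (x * y) = p ^ k) : Group.IsNilpotent ↥(commutator G) := by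
  classical
  obtain ⟨a, haD, hD⟩ := hconj
  have : Fact p.Prime := ⟨hp⟩
  have ha : orderOf a = 2 := hinv a haD
  have haa : a * a = 1 := EmbInvol.mul_self_of_order ha
  have hai : a⁻¹ = a := inv_eq_of_mul_eq_one_left haa
  have hmem : ∀ g : G, g * a * g⁻¹ ∈ D := by
    intro g
    rw [hD]
    exact isConj_iff.2 ⟨g, rfl⟩
  have hmem' : ∀ x ∈ D, ∃ g : G, x = g * a * g⁻¹ := by
    intro x hx
    rw [hD] at hx
    obtain ⟨g, rfl⟩ := isConj_iff.1 hx
    exact ⟨g, rfl⟩
  have hp2 : Nat.Coprime p 2 := (Nat.coprime_primes hp Nat.prime_two).2 hodd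
  -- `a` is isolated
  have hI : IsIsolatedInvolution a := by
    refine ⟨ha, fun g hg => ?_⟩
    by_contra hne
    set x := g * a * g⁻¹ with hx
    have hxD : x ∈ D := hmem g
    obtain ⟨k, hk⟩ := hprod a haD x hxD (Ne.symm hne)
    have hxx : x * x = 1 := EmbInvol.mul_self_of_order (hinv x hxD)
    have h1 : (a * x) * (a * x) = 1 := by
      calc a * x * (a * x) = a * (x * a) * x := by group
        _ = a * (a * x) * x := by rw [hg.eq.symm]
        _ = (a * a) * (x * x) := by group
        _ = 1 := by rw [haa, hxx, one_mul]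
    have h2 : orderOf (a * x) ∣ 2 := orderOf_dvd_of_pow_eq_one (by rw [sq]; exact h1)
    rw [hk] at h2
    have h3 : p ^ k = 1 := Nat.Coprime.eq_one_of_dvd (hp2.pow_left k) h2
    rw [h3] at hk
    have h4 : a * x = 1 := orderOf_eq_one_iff.1 hk
    apply hne
    have h5 : x = a⁻¹ := eq_inv_of_mul_eq_one_right h4
    rw [h5, hai]
  -- the odd core
  set K := pPrimeCore 2 G with hK
  have hKn : K.Normal := inferInstance
  have hZ : ∀ g : G, g * a * g⁻¹ * a⁻¹ ∈ K := fun g => ZStar.zstar hI g
  have htop : K ⊔ Subgroup.zpowers a = ⊤ := by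
    rw [eq_top_iff, ← hgen, Subgroup.closure_le]
    intro x hx
    obtain ⟨g, rfl⟩ := hmem' x hx
    have e : g * a * g⁻¹ = (g * a * g⁻¹ * a⁻¹) * a := by group
    rw [e]
    exact Subgroup.mul_mem _ (Subgroup.mem_sup_left (hZ g))
      (Subgroup.mem_sup_right (Subgroup.mem_zpowers a))
  have hor : ∀ g : G, g ∈ K ∨ g * a ∈ K := by
    intro g
    have hg : g ∈ K ⊔ Subgroup.zpowers a := by rw [htop]; trivial
    obtain ⟨n, hn, y, hy, rfl⟩ := Subgroup.mem_sup_of_normal_left.mp hg
    obtain ⟨k, rfl⟩ := Subgroup.mem_zpowers_iff.mp hy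
    rcases Int.even_or_odd' k with ⟨j, rfl | rfl⟩
    · left
      have : a ^ (2 * j) = 1 := by
        rw [zpow_mul, zpow_two, haa, one_zpow]
      rw [this, mul_one]
      exact hn
    · right
      have : a ^ (2 * j + 1) * a = 1 := by
        rw [zpow_add_one, zpow_mul, zpow_two, haa, one_zpow, one_mul, haa]
      rw [mul_assoc, this, mul_one]
      exact hn
  have hoddK : ∀ v : G, Odd (orderOf v) → v ∈ K := by
    intro v hv
    have hvv : v * v ∈ K := by
      rcases hor v with h | h
      · exact K.mul_mem h h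
      · have h1 : a * (v * a) * a⁻¹ ∈ K := hKn.conj_mem _ h a
        have h2 : a * (v * a) * a⁻¹ = a * v := by group
        rw [h2] at h1
        have h3 := K.mul_mem h h1
        have h4 : v * a * (a * v) = v * (a * a) * v := by group
        rw [h4, haa, mul_one] at h3
        exact h3
    obtain ⟨w, hw, hwv⟩ := IsolatedInvol.exists_sqrt_of_odd hv
    obtain ⟨m, hm⟩ := hv
    have h1 : v = (v * v) ^ (m + 1) := by
      rw [← sq, ← pow_mul]
      have : 2 * (m + 1) = orderOf v + 1 := by omega
      rw [this, pow_succ, pow_orderOf_eq_one, one_mul]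
    rw [h1]
    exact K.pow_mem hvv _
  have hKodd : Nat.Coprime (Nat.card K) 2 := card_pPrimeCore_coprime 2
  -- invariant Sylow subgroups
  have hinvS : ∀ (q : ℕ) [Fact q.Prime], q ≠ 2 → ∃ S : Sylow q G,
      a ∈ Subgroup.normalizer ((S : Subgroup G) : Set G) := by
    intro q _ hq2
    have hqq : q.Prime := Fact.out
    have hAK : Subgroup.zpowers a ≤ Subgroup.normalizer (K : Set G) := by
      have : Subgroup.normalizer (K : Set G) = ⊤ := Subgroup.normalizer_eq_top_iff.2 hKn
      rw [this]
      exact le_top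
    have hcop : (Nat.card (Subgroup.zpowers a)).Coprime (Nat.card K) := by
      rw [Nat.card_zpowers, ha]
      exact hKodd.symm
    have hsolv : Group.IsSolvable (Subgroup.zpowers a) ∨ Group.IsSolvable K := by
      left
      infer_instance
    obtain ⟨P, hP⟩ := Glauberman2.exists_invariant_sylow hAK hcop hsolv q
    set P' : Subgroup G := (P : Subgroup K).map K.subtype with hP'
    have hP'p : IsPGroup q P' := P.isPGroup'.map _
    obtain ⟨S, hS⟩ := hP'p.exists_le_sylow
    have hSK : (S : Subgroup G) ≤ K := by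
      intro s hs
      apply hoddK
      obtain ⟨j, hj⟩ := (IsPGroup.iff_orderOf.1 S.isPGroup') ⟨s, hs⟩
      rw [Subgroup.orderOf_mk] at hj
      rw [hj]
      exact Odd.pow (hqq.odd_of_ne_two hq2)
    have hSP : (S : Subgroup G).subgroupOf K = P := by
      apply P.is_maximal'
      · exact S.isPGroup'.comap_of_injective K.subtype K.subtype_injective
      · intro u hu
        exact hS ⟨u, hu, rfl⟩
    have hSeq : (S : Subgroup G) = P' := by
      apply le_antisymm _ hS
      intro s hs
      refine ⟨⟨s, hSK hs⟩, ?_, rfl⟩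
      rw [← hSP]
      exact hs
    refine ⟨S, ?_⟩
    rw [hSeq]
    exact hP (Subgroup.mem_zpowers a)
  set L : Subgroup G := Subgroup.centralizer ({a} : Set G) with hL
  have hmemL : ∀ y : G, y ∈ L ↔ y * a = a * y := fun y => Subgroup.mem_centralizer_singleton_iff
  -- Sylow subgroups for other primes lie in `L`
  have hSL : ∀ (q : ℕ) [Fact q.Prime], q ≠ p → ∃ S : Sylow q G, (S : Subgroup G) ≤ L := by
    intro q _ hqp
    have hqq : q.Prime := Fact.out
    by_cases hq2 : q = 2
    · subst hq2
      obtain ⟨S, hS⟩ := (Isolated.isPGroup_zpowers (p := 2) (x := a) ⟨1, by rw [ha]; rfl⟩).exists_le_sylow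
      refine ⟨S, ?_⟩
      intro y hy
      rw [hmemL]
      have h1 := Isolated.conj_eq_of_mem_pgroup (p := 2) hI.2 S.isPGroup'
        (hS (Subgroup.mem_zpowers a)) hy
      calc y * a = (y * a * y⁻¹) * y := by group
        _ = a * y := by rw [h1]
    · obtain ⟨S, hS⟩ := hinvS q hq2
      refine ⟨S, ?_⟩
      intro y hy
      rw [hmemL]
      by_contra hne
      set v := y⁻¹ * (a * y * a⁻¹) with hv
      have hay : a * y * a⁻¹ ∈ (S : Subgroup G) := (Subgroup.mem_normalizer_iff.1 hS y).1 hy
      have hvS : v ∈ (S : Subgroup G) := Subgroup.mul_mem _ (Subgroup.inv_mem _ hy) hay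
      have hv1 : v ≠ 1 := by
        intro h0
        apply hne
        have h1 : a * y * a⁻¹ = y := by
          rw [hv] at h0
          exact (inv_mul_eq_one.1 h0).symm
        calc y * a = (a * y * a⁻¹) * a := by rw [h1]
          _ = a * y := by group
      have hinvv : a * v * a⁻¹ = v⁻¹ := by
        rw [hv, hai]
        calc a * (y⁻¹ * (a * y * a)) * a = a * y⁻¹ * a * y * (a * a) := by group
          _ = a * y⁻¹ * a * y := by rw [haa, mul_one]
          _ = (y⁻¹ * (a * y * a))⁻¹ := by
            rw [mul_inv_rev, mul_inv_rev, mul_inv_rev, hai]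
            group
      obtain ⟨j, hj⟩ := (IsPGroup.iff_orderOf.1 S.isPGroup') ⟨v, hvS⟩
      rw [Subgroup.orderOf_mk] at hj
      have hvodd : Odd (orderOf v) := by
        rw [hj]
        exact Odd.pow (hqq.odd_of_ne_two hq2)
      obtain ⟨w, hw, hwv⟩ := IsolatedInvol.exists_sqrt_of_odd hvodd
      obtain ⟨e, he⟩ := Subgroup.mem_zpowers_iff.1 hwv
      have hinvw : a * w * a⁻¹ = w⁻¹ := by
        rw [← he]
        have h1 : a * v ^ e * a⁻¹ = (a * v * a⁻¹) ^ e := by
          rw [conj_zpow]
        rw [h1, hinvv, inv_zpow]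
      have hxD : a * v ∈ D := by
        have h1 := hmem w⁻¹
        have h2 : w⁻¹ * a * w⁻¹⁻¹ = a * v := by
          have h3 : a * w = w⁻¹ * a := by
            rw [← hinvw]
            group
          rw [inv_inv, ← h3, ← hw]
          group
        rwa [h2] at h1
      have hne2 : a ≠ a * v := by
        intro h0
        apply hv1
        have : a * v = a * 1 := by rw [← h0, mul_one]
        exact mul_left_cancel this
      obtain ⟨k, hk⟩ := hprod a haD _ hxD hne2
      have h3 : a * (a * v) = v := by rw [← mul_assoc, haa, one_mul]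
      rw [h3, hj] at hk
      -- `q ^ j = p ^ k` with `v ≠ 1`
      have hj0 : j ≠ 0 := by
        rintro rfl
        apply hv1
        rw [pow_zero] at hj
        exact orderOf_eq_one_iff.1 hj
      have h4 : q ∣ p ^ k := by
        rw [← hk]
        exact dvd_pow_self q hj0
      exact hqp ((Nat.prime_dvd_prime_iff_eq hqq hp).1 (hqq.dvd_of_dvd_pow h4))
  -- the index of `L`
  have hidx : L.index = p ^ L.index.primeFactorsList.length := by
    apply Nat.eq_prime_pow_of_unique_prime_dvd Subgroup.index_ne_zero_of_finite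
    intro q hq hqd
    by_contra hqp
    haveI : Fact q.Prime := ⟨hq⟩
    obtain ⟨S, hS⟩ := hSL q hqp
    exact S.not_dvd_index (hqd.trans (Subgroup.index_dvd_of_le hS))
  -- the invariant Sylow subgroup for `p`
  obtain ⟨P, hP⟩ := hinvS p hodd
  have hcop : L.index.Coprime (P : Subgroup G).index := by
    rw [hidx]
    exact Nat.Coprime.pow_left _ ((Nat.Prime.coprime_iff_not_dvd hp).2 P.not_dvd_index)
  have hDP : ∀ x ∈ D, x ∈ (P : Subgroup G) ⊔ Subgroup.zpowers a := by
    intro x hx
    obtain ⟨g, rfl⟩ := hmem' x hx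
    obtain ⟨b, hb, l, hl, rfl⟩ := OrbitFix.exists_mul_of_coprime L P hcop g
    have hl' : l * a * l⁻¹ = a := by
      rw [(hmemL l).1 hl]
      group
    have e : b * l * a * (b * l)⁻¹ = b * (a * b⁻¹ * a⁻¹) * a := by
      calc b * l * a * (b * l)⁻¹ = b * (l * a * l⁻¹) * b⁻¹ := by group
        _ = b * a * b⁻¹ := by rw [hl']
        _ = b * (a * b⁻¹ * a⁻¹) * a := by group
    rw [e]
    have h1 : a * b⁻¹ * a⁻¹ ∈ (P : Subgroup G) :=
      (Subgroup.mem_normalizer_iff.1 hP _).1 (Subgroup.inv_mem _ hb)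
    exact Subgroup.mul_mem _ (Subgroup.mem_sup_left (Subgroup.mul_mem _ hb h1))
      (Subgroup.mem_sup_right (Subgroup.mem_zpowers a))
  have htopP : (P : Subgroup G) ⊔ Subgroup.zpowers a = ⊤ := by
    rw [eq_top_iff, ← hgen, Subgroup.closure_le]
    exact hDP
  have hPn : (P : Subgroup G).Normal := by
    rw [← Subgroup.normalizer_eq_top_iff, eq_top_iff, ← htopP]
    apply sup_le Subgroup.le_normalizer
    rw [Subgroup.zpowers_le]
    exact hP
  have hle := commutator_le_of_sup hPn htopP
  have hpg : IsPGroup p (commutator G) := P.isPGroup'.to_le hle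
  exact hpg.isNilpotent

end Cfsg.Agent.S1618
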