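import Cfsg.Statements.S1644
import Cfsg.Agent.Lib.JUG5
import Cfsg.Agent.Lib.JOrdC

set_option autoImplicit false
open Cfsg

namespace Cfsg.Agent.S1644

/-- The first Janko group recognised by an involution centraliser, at the level of isomorphism: a finite simple group with abelian Sylow 2-subgroups of order 8 and an involution whose centraliser is isomorphic to Z/2 × A₅ is isomorphic to the subgroup of GL(7, 11) generated by the two explicit Janko matrices. -/
theorem result {G : Type*} [Group G] [Finite G] [IsSimpleGroup G] (S : Sylow 2 G) (hS : IsMulCommutative (S : Subgroup G)) (h8 : Nat.card S = 8) (t : G) (ht : orderOf t = 2) (e : (Subgroup.centralizer ({t} : Set G)) ≃* Multiplicative (ZMod 2) × alternatingGroup (Fin 5)) : Cfsg.Spor.IsoJ1 G := by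
  haveI : Fact (Nat.Prime 2) := ⟨Nat.prime_two⟩
  have h1 := S.card_eq_multiplicity
  rw [h8] at h1
  have hn : Nat.card G ≠ 0 := Nat.card_pos.ne'
  have h2 := Nat.ordProj_mul_ordCompl_eq_self (Nat.card G) 2
  have h3 : ¬ 2 ∣ Nat.card G / 2 ^ (Nat.card G).factorization 2 := Nat.not_dvd_ordCompl Nat.prime_two hn
  have hk : Odd (Nat.card G / 2 ^ (Nat.card G).factorization 2) := by
    rw [← Nat.not_even_iff_odd, even_iff_two_dvd]
    exact h3
  have hG : Nat.card G = 8 * (Nat.card G / 2 ^ (Nat.card G).factorization 2) :=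
    h2.symm.trans (by rw [← h1])
  have hG' := Cfsg.Agent.Lib.JOrdC.card_main ht e hk hG
  exact Cfsg.Agent.Lib.JUG5.main_iso e ht hG'

end Cfsg.Agent.S1644
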