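import Cfsg.Statements.S1666
import Mathlib
import Cfsg.Agent.Lib.RankHS
import Cfsg.Agent.Lib.CoSimpleM22
import Cfsg.Agent.Lib.GolayChain

set_option autoImplicit false
open Cfsg

namespace Cfsg.Agent.S1666

open Cfsg.Agent.Lib.CoConf Cfsg.Agent.Lib.RankHS MulAction

set_option linter.style.haveILetI false

/-- The order of the Mathieu group of degree 22. -/
theorem card_M22 : Nat.card Cfsg.Spor.M22 = 443520 := by
  have h : Cfsg.Spor.M22 = Cfsg.Agent.Lib.Golay.G [0, 23] := by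
    ext g
    simp only [Cfsg.Spor.M22, Cfsg.Spor.M23, Subgroup.mem_inf, MulAction.mem_stabilizer_iff,
      Equiv.Perm.smul_def, Cfsg.Agent.Lib.Golay.mem_G, List.mem_cons, List.not_mem_nil, or_false,
      forall_eq_or_imp, forall_eq]
    have p0 : Cfsg.Agent.Lib.Golay.pt 0 = (some 0 : Cfsg.GolayPt) := by simp [Cfsg.Agent.Lib.Golay.pt]
    have p23 : Cfsg.Agent.Lib.Golay.pt 23 = (none : Cfsg.GolayPt) := by simp [Cfsg.Agent.Lib.Golay.pt]
    rw [p0, p23]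
    tauto
  rw [h]
  exact Cfsg.Agent.Lib.Golay.card_G2

/-- The vector `v`. -/
def vS : LL := Cfsg.Spor.leechV

/-- The vector `w`. -/
def wS : LL := -(vS + Cfsg.Spor.leechU')

theorem norm_vS : sqNorm (vS : GolayPt → ℤ) = 48 := by
  show sqNorm Cfsg.Spor.vecV = 48
  decide +kernel

theorem norm_wS : sqNorm (wS : GolayPt → ℤ) = 48 := by
  show sqNorm (-(Cfsg.Spor.vecV + Cfsg.Spor.vecU')) = 48
  decide +kernel

theorem dot_vS_wS : dotInt (vS : GolayPt → ℤ) (wS : GolayPt → ℤ) = -32 := by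
  show dotInt Cfsg.Spor.vecV (-(Cfsg.Spor.vecV + Cfsg.Spor.vecU')) = -32
  decide +kernel

/-- The Higman-Sims group as a joint stabiliser inside the lattice group. -/
def hsEquiv : Cfsg.Spor.HS ≃* ↥(stb vS ⊓ stb wS) where
  toFun σ := ⟨⟨σ.1, σ.2.1.1⟩, σ.2.1.2, by
    show (⟨σ.1, σ.2.1.1⟩ : Co0) • wS = wS
    have h1 : (⟨σ.1, σ.2.1.1⟩ : Co0) • vS = vS := σ.2.1.2
    have h2 : (⟨σ.1, σ.2.1.1⟩ : Co0) • Cfsg.Spor.leechU' = Cfsg.Spor.leechU' := σ.2.2
    simp only [wS]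
    rw [smul_neg', smul_add', h1, h2]⟩
  invFun k := ⟨k.1.1, ⟨k.1.2, k.2.1⟩, by
    show (k.1 : Co0) • Cfsg.Spor.leechU' = Cfsg.Spor.leechU'
    have h1 : (k.1 : Co0) • vS = vS := k.2.1
    have h2 : (k.1 : Co0) • wS = wS := k.2.2
    have e : Cfsg.Spor.leechU' = -wS - vS := by
      simp only [wS]
      abel
    rw [e, sub_eq_add_neg, smul_add', smul_neg', smul_neg', h1, h2]⟩
  left_inv σ := rfl
  right_inv k := rfl
  map_mul' a b := rfl

/-- Suborbit sizes for the action on a set of vectors. -/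
theorem orbit_ncard' {K : Subgroup Co0} {A : List (LL × ℤ)} (hK1 : ∀ k ∈ K, ∀ p ∈ A, k • p.1 = p.1)
    (hK2 : ∀ k : Co0, (∀ p ∈ A, k • p.1 = p.1) → k ∈ K) (x₀ b : DS A) {d : ℤ}
    (hb : dotInt ((x₀ : LL) : GolayPt → ℤ) ((b : LL) : GolayPt → ℤ) = d) (ht : TransOn ((x₀.1, d) :: A)) :
    letI := dsAct hK1
    (orbit (stabilizer K x₀) b).ncard = (DS ((x₀.1, d) :: A)).ncard := by
  letI := dsAct hK1
  rw [← Set.ncard_image_of_injective _ Subtype.val_injective]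
  congr 1
  ext y
  constructor
  · rintro ⟨z, ⟨m, rfl⟩, rfl⟩
    have h1 : ((m : K) : Co0) • x₀.1 = x₀.1 := congrArg Subtype.val m.2
    refine mem_DS_cons.2 ⟨smul_mem_DS (hK1 _ m.1.2) b.2, ?_⟩
    have h2 := dot_smul ((m : K) : Co0) x₀.1 b.1
    rw [h1] at h2
    exact h2.trans hb
  · intro hy
    obtain ⟨h1, h2⟩ := mem_DS_cons.1 hy
    obtain ⟨k, hk, e⟩ := ht b.1 (mem_DS_cons.2 ⟨b.2, hb⟩) y hy
    have hkK : k ∈ K := hK2 k fun p hp => hk p (List.mem_cons_of_mem _ hp)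
    refine ⟨⟨y, h1⟩, ⟨⟨⟨k, hkK⟩, Subtype.ext (hk (x₀.1, d) (by simp))⟩, Subtype.ext e⟩, rfl⟩

/-- Recognition of the Higman–Sims group as a rank 3 permutation group: a transitive permutation group on 100 points in which the stabiliser of a point is isomorphic to the Mathieu group M₂₂ and has two further orbits, of sizes 22 and 77, is isomorphic to the Higman–Sims group. -/
theorem result {Ω : Type*} [Fintype Ω] [DecidableEq Ω] (hΩ : Fintype.card Ω = 100) (G : Subgroup (Equiv.Perm Ω)) [MulAction.IsPretransitive G Ω] (a : Ω)  (e : MulAction.stabilizer G a ≃* Cfsg.Spor.M22) (b c : Ω) (hb : (MulAction.orbit (MulAction.stabilizer G a) b).ncard = 22) (hc : (MulAction.orbit (MulAction.stabilizer G a) c).ncard = 77) : Cfsg.Spor.IsoHS G := by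
  classical
  have hstab : Nat.card (MulAction.stabilizer G a) = 443520 :=
    (Nat.card_congr e.toEquiv).trans card_M22
  have horb : MulAction.orbit G a = Set.univ := MulAction.orbit_eq_univ G a
  have hG : Nat.card G = 44352000 := by
    have h1 := Subgroup.card_mul_index (MulAction.stabilizer G a)
    rw [MulAction.index_stabilizer, horb, Set.ncard_univ, Nat.card_eq_fintype_card (α := Ω), hΩ, hstab] at h1
    omega
  have hD₁ : Data G a b c := ⟨hΩ, hb, hc⟩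
  -- the lattice side
  let A : List (LL × ℤ) := [(wS, -24), (vS, 24)]
  have hK1 : ∀ k ∈ stb vS ⊓ stb wS, ∀ p ∈ A, k • p.1 = p.1 := by
    intro k hk p hp
    simp only [A, List.mem_cons, List.not_mem_nil, or_false] at hp
    rcases hp with rfl | rfl
    · exact hk.2
    · exact hk.1
  have hK2 : ∀ k : Co0, (∀ p ∈ A, k • p.1 = p.1) → k ∈ stb vS ⊓ stb wS := by
    intro k hk
    exact ⟨hk (vS, 24) (by simp [A]), hk (wS, -24) (by simp [A])⟩
  letI := dsAct hK1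
  have hfin : Finite (DS A) := (finite_DS A).to_subtype
  letI : Fintype (DS A) := Fintype.ofFinite _
  have hN : (DS A).ncard = 100 := ncard_100 vS wS norm_vS norm_wS dot_vS_wS
  have hcard : Fintype.card (DS A) = 100 := by
    rw [← Nat.card_eq_fintype_card, Nat.card_coe_set_eq, hN]
  haveI : IsPretransitive ↥(stb vS ⊓ stb wS) (DS A) := ⟨by
    intro x y
    obtain ⟨k, hk, e⟩ := transOn_100' vS wS norm_vS norm_wS dot_vS_wS x.1 x.2 y.1 y.2
    exact ⟨⟨k, hK2 k hk⟩, Subtype.ext e⟩⟩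
  obtain ⟨x₀, hx₀⟩ : (DS A).Nonempty := Set.nonempty_of_ncard_ne_zero (by rw [hN]; norm_num)
  have hR := rank_hs vS wS x₀ norm_vS norm_wS dot_vS_wS hx₀
  have h8 : (DS ((x₀, 8) :: A)).ncard = 22 := by simpa using hR.1 8 (by decide)
  have h16 : (DS ((x₀, 16) :: A)).ncard = 77 := by simpa using hR.1 16 (by decide)
  obtain ⟨b₀, hb₀⟩ : (DS ((x₀, 8) :: A)).Nonempty := Set.nonempty_of_ncard_ne_zero (by rw [h8]; norm_num)
  obtain ⟨c₀, hc₀⟩ : (DS ((x₀, 16) :: A)).Nonempty := Set.nonempty_of_ncard_ne_zero (by rw [h16]; norm_num)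
  obtain ⟨hb1, hb2⟩ := mem_DS_cons.1 hb₀
  obtain ⟨hc1, hc2⟩ := mem_DS_cons.1 hc₀
  have hD₂ : Data ↥(stb vS ⊓ stb wS) (⟨x₀, hx₀⟩ : DS A) ⟨b₀, hb1⟩ ⟨c₀, hc1⟩ := by
    refine ⟨hcard, ?_, ?_⟩
    · rw [orbit_ncard' hK1 hK2 ⟨x₀, hx₀⟩ ⟨b₀, hb1⟩ hb2 (hR.2.1 8 (by decide) (by norm_num)), h8]
    · rw [orbit_ncard' hK1 hK2 ⟨x₀, hx₀⟩ ⟨c₀, hc1⟩ hc2 (hR.2.1 16 (by decide) (by norm_num)), h16]
  haveI : FaithfulSMul ↥(stb vS ⊓ stb wS) (DS A) := by
    haveI := hs_simple vS wS norm_vS norm_wS dot_vS_wS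
    let ρ := MulAction.toPermHom ↥(stb vS ⊓ stb wS) (DS A)
    rcases IsSimpleGroup.eq_bot_or_eq_top_of_normal ρ.ker ρ.normal_ker with h | h
    · refine ⟨fun {k₁ k₂} hk => ?_⟩
      apply (MonoidHom.ker_eq_bot_iff ρ).1 h
      apply Equiv.ext
      intro y
      exact hk y
    · exfalso
      obtain ⟨k, hk⟩ := MulAction.exists_smul_eq ↥(stb vS ⊓ stb wS) (⟨x₀, hx₀⟩ : DS A) ⟨b₀, hb1⟩
      have hk1 : k ∈ ρ.ker := by
        rw [h]
        trivial
      have hk2 : ρ k = 1 := hk1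
      have hk3 : ρ k (⟨x₀, hx₀⟩ : DS A) = ⟨x₀, hx₀⟩ := by
        rw [hk2]
        rfl
      have hk4 : (⟨b₀, hb1⟩ : DS A) = ⟨x₀, hx₀⟩ := hk.symm.trans hk3
      have hk5 : b₀ = x₀ := congrArg Subtype.val hk4
      rw [hk5, dot_self, hx₀.1] at hb2
      norm_num at hb2
  obtain ⟨φ⟩ := iso_of_rank hD₁ hD₂ hG (card_hs vS wS norm_vS norm_wS dot_vS_wS)
  exact ⟨φ.trans hsEquiv.symm⟩

end Cfsg.Agent.S1666
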