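import Mathlib
import Cfsg.Statements.S1893
import Cfsg.Agent.Lib.StableFit
import Cfsg.Agent.Lib.BGFit1
-- import your own Cfsg.Agent.* helpers here

set_option autoImplicit false
open Cfsg

namespace Cfsg.Agent.S1893


open Subgroup
open scoped commutatorElement
open Cfsg.Agent.Lib.PCore Cfsg.Agent.Lib.StableFit

/-- The reduced theorem. -/
theorem reduced {X : Type*} [Group X] [Finite X] [Group.IsSolvable X] (π : Set ℕ) (h2 : 2 ∉ π) (h3 : 3 ∉ π)
    (hO : ∀ (q : ℕ) [Fact q.Prime], q ∉ π → pCore q X = ⊥) (F₁ A : Subgroup X)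
    (hF₁ : fittingSubgroup X ≤ F₁) (hnorm : F₁ ≤ normalizer (A : Set X))
    (hself : F₁ ⊓ centralizer (A : Set X) ≤ A) : centralizer (A : Set X) ≤ A := by
  have hF : ∀ q : ℕ, q.Prime → q ∣ Nat.card (fittingSubgroup X) → 5 ≤ q := by
    intro q hq hd
    haveI : Fact q.Prime := ⟨hq⟩
    have hqπ : q ∈ π := by
      by_contra hnot
      have h1 := fittingSubgroup_le_sup (G := X) q
      rw [hO q hnot, bot_sup_eq] at h1
      have h4 : (Nat.card (fittingSubgroup X)).Coprime q :=
        Nat.Coprime.coprime_dvd_left (Subgroup.card_dvd_of_le h1) (card_pPrimeCore_coprime q)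
      exact hq.one_lt.ne' (Nat.eq_one_of_dvd_coprimes h4 hd dvd_rfl)
    have hq2 : q ≠ 2 := fun h => h2 (h ▸ hqπ)
    have hq3 : q ≠ 3 := fun h => h3 (h ▸ hqπ)
    have hq4 : q ≠ 4 := by
      rintro rfl
      exact absurd hq (by norm_num)
    have := hq.two_le
    omega
  have hle : centralizer (A : Set X) ≤ fittingSubgroup X := by
    apply le_fitting_of_quad hF
    intro x hx f hf
    have hfF₁ : f ∈ F₁ := hF₁ hf
    have h4 : ⁅f, x⁆ ∈ centralizer (A : Set X) := by
      have hn : f ∈ normalizer (A : Set X) := hnorm hfF₁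
      have h5 : f * x * f⁻¹ ∈ centralizer (A : Set X) := by
        rw [Subgroup.mem_centralizer_iff]
        intro a ha
        have ha' : f⁻¹ * a * f ∈ A := by
          have := (hn (f⁻¹ * a * f)).mpr (by
            have e : f * (f⁻¹ * a * f) * f⁻¹ = a := by group
            rw [e]
            exact ha)
          exact this
        have h6 := (Subgroup.mem_centralizer_iff.mp hx) _ ha'
        calc a * (f * x * f⁻¹) = f * ((f⁻¹ * a * f) * x) * f⁻¹ := by group
          _ = f * (x * (f⁻¹ * a * f)) * f⁻¹ := by rw [h6]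
          _ = f * x * f⁻¹ * a := by group
      rw [commutatorElement_def]
      exact mul_mem h5 (inv_mem hx)
    have h7 : ⁅f, x⁆ ∈ fittingSubgroup X := by
      have e : ⁅f, x⁆ = f * (x * f⁻¹ * x⁻¹) := by
        simp only [commutatorElement_def]
        group
      rw [e]
      have : (fittingSubgroup X).Normal := inferInstance
      exact mul_mem hf (this.conj_mem _ (inv_mem hf) x)
    have h8 : ⁅f, x⁆ ∈ A := hself (Subgroup.mem_inf.2 ⟨hF₁ h7, h4⟩)
    rw [commutatorElement_eq_one_iff_mul_comm]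
    exact (Subgroup.mem_centralizer_iff.mp hx) _ h8
  intro c hc
  exact hself (Subgroup.mem_inf.2 ⟨hF₁ (hle hc), hc⟩)

/-- Normal `q`-subgroups lie in Hall subgroups. -/
theorem pCore_le_of_index {X : Type*} [Group X] [Finite X] {q : ℕ} [hq : Fact q.Prime] (T : Subgroup X)
    (hT : ¬ q ∣ T.index) : pCore q X ≤ T := by
  obtain ⟨P⟩ : Nonempty (Sylow q T) := inferInstance
  have hcard : Nat.card ((P : Subgroup T).map T.subtype) = q ^ (Nat.card X).factorization q := by
    rw [Subgroup.card_map_of_injective T.subtype_injective, P.card_eq_multiplicity,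
      ← T.card_mul_index, Nat.factorization_mul Nat.card_pos.ne' (by
        intro h
        rw [h] at hT
        exact hT (dvd_zero q))]
    simp [Nat.factorization_eq_zero_of_not_dvd hT]
  have h1 := pCore_le_sylow q (Sylow.ofCard _ hcard)
  have h2 : ((Sylow.ofCard _ hcard : Sylow q X) : Subgroup X) ≤ T := by
    show (P : Subgroup T).map T.subtype ≤ T
    exact map_subtype_le _
  exact h1.trans h2

/-- Let S be a finite solvable group, π a set of primes containing neither 2 nor 3, H a Hall π-subgroup of S, and A a self-centralizing normal subgroup of the Fitting subgroup F(H). Then C_S(A) = A × D for a normal subgroup D of C_S(A) whose order has no prime divisor in π. -/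
theorem result {S : Type*} [Group S] [Finite S] [Group.IsSolvable S]
    (π : Set ℕ) (h2 : 2 ∉ π) (h3 : 3 ∉ π) (H : Subgroup S) (hH : Cfsg.IsPiHall π H)
    (A : Subgroup S) (hA : Cfsg.IsSCN ((Cfsg.fittingSubgroup H).map H.subtype) A) :
    ∃ D : Subgroup S, D ≤ Subgroup.centralizer (A : Set S) ∧
      (∀ c ∈ Subgroup.centralizer (A : Set S), ∀ d ∈ D, c * d * c⁻¹ ∈ D) ∧
      A ⊓ D = ⊥ ∧ A ⊔ D = Subgroup.centralizer (A : Set S) ∧
      ∀ q : ℕ, q.Prime → q ∣ Nat.card D → q ∉ π := by
  classical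
  obtain ⟨hAF, hFN, hFC⟩ := hA
  have hNn : (piCore (πᶜ) S).Normal := piCore_normal _ _
  have hNp : ∀ q : ℕ, q.Prime → q ∣ Nat.card (piCore (πᶜ) S) → q ∉ π :=
    Cfsg.Agent.Lib.BGTrans.piCore_primes (πᶜ)
  have hFH : (fittingSubgroup H).map H.subtype ≤ H := map_subtype_le _
  have hAH : A ≤ H := hAF.trans hFH
  have hAC : A ≤ centralizer (A : Set S) := by
    intro a ha
    have h : a ∈ (fittingSubgroup H).map H.subtype ⊓ centralizer (A : Set S) := by
      rw [hFC]
      exact ha
    exact h.2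
  -- `H` and the core
  have hHN : H ⊓ piCore (πᶜ) S = ⊥ := by
    by_contra hne
    have h1 : Nat.card (H ⊓ piCore (πᶜ) S : Subgroup S) ≠ 1 := fun h => hne (Subgroup.eq_bot_of_card_eq _ h)
    obtain ⟨q, hq, hd⟩ := Nat.exists_prime_and_dvd h1
    have a1 : H ⊓ piCore (πᶜ) S ≤ piCore (πᶜ) S := inf_le_right
    have a2 : H ⊓ piCore (πᶜ) S ≤ H := inf_le_left
    exact hNp q hq (hd.trans (Subgroup.card_dvd_of_le a1))
      (hH.1 q hq (hd.trans (Subgroup.card_dvd_of_le a2)))
  have hHNe : ∀ x ∈ H, x ∈ piCore (πᶜ) S → x = 1 := by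
    intro x hx hxN
    have h4 : x ∈ H ⊓ piCore (πᶜ) S := Subgroup.mem_inf.2 ⟨hx, hxN⟩
    rw [hHN] at h4
    exact h4
  let mk := QuotientGroup.mk' (piCore (πᶜ) S)
  have hmk : Function.Surjective mk := QuotientGroup.mk'_surjective _
  have hmk1 : ∀ x, mk x = 1 → x ∈ piCore (πᶜ) S := fun x h => (QuotientGroup.eq_one_iff x).mp h
  have hO : ∀ (q : ℕ) [Fact q.Prime], q ∉ π → pCore q (S ⧸ piCore (πᶜ) S) = ⊥ := by
    intro q _ hq
    exact Cfsg.Agent.Lib.BGFit1.pCore_quotient_piCore hq
  -- the Fitting subgroup of the quotient lies in the image of `H`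
  have hFH' : fittingSubgroup (S ⧸ piCore (πᶜ) S) ≤ H.map mk := by
    rw [fittingSubgroup_eq_iSup_pCore]
    refine iSup_le fun q => ?_
    haveI : Fact (q : ℕ).Prime := ⟨q.2⟩
    by_cases hqπ : (q : ℕ) ∈ π
    · apply pCore_le_of_index
      intro hd
      exact hH.2 q q.2 hqπ (hd.trans (Subgroup.index_map_dvd H hmk))
    · rw [hO q hqπ]
      exact bot_le
  -- the image of `F(H)`
  have hF₁ : fittingSubgroup (S ⧸ piCore (πᶜ) S) ≤ ((fittingSubgroup H).map H.subtype).map mk := by
    intro f hf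
    obtain ⟨h, hh, rfl⟩ := hFH' hf
    let E : Subgroup H := (fittingSubgroup (S ⧸ piCore (πᶜ) S)).comap (mk.comp H.subtype)
    haveI hEn : E.Normal := Subgroup.Normal.comap inferInstance _
    have hEnil : Group.IsNilpotent E := by
      let φ : E →* fittingSubgroup (S ⧸ piCore (πᶜ) S) :=
        ((mk.comp H.subtype).comp E.subtype).codRestrict _ (fun e => e.2)
      have hφ : φ.ker ≤ center E := by
        intro e he
        have h1 : mk ((e : H) : S) = 1 := congrArg Subtype.val he
        have h2 : ((e : H) : S) = 1 := hHNe _ (e : H).2 (hmk1 _ h1)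
        have h3 : e = 1 := Subtype.ext (Subtype.ext h2)
        rw [h3]
        exact one_mem _
      haveI : Group.IsNilpotent (fittingSubgroup (S ⧸ piCore (πᶜ) S)) := isNilpotent_fittingSubgroup
      exact Subgroup.isNilpotent_of_ker_le_center φ hφ
    have hEle : E ≤ fittingSubgroup H := le_fittingSubgroup hEn hEnil
    have hhE : (⟨h, hh⟩ : H) ∈ E := hf
    exact ⟨h, ⟨⟨h, hh⟩, hEle hhE, rfl⟩, rfl⟩
  have hnorm : ((fittingSubgroup H).map H.subtype).map mk ≤ normalizer ((A.map mk : Subgroup _) : Set _) :=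
    (Subgroup.map_mono hFN).trans (Subgroup.le_normalizer_map _)
  have hself : ((fittingSubgroup H).map H.subtype).map mk ⊓ centralizer ((A.map mk : Subgroup _) : Set _) ≤ A.map mk := by
    rintro _ ⟨⟨f, hf, rfl⟩, hc⟩
    refine ⟨f, ?_, rfl⟩
    rw [← hFC]
    refine Subgroup.mem_inf.2 ⟨hf, ?_⟩
    rw [Subgroup.mem_centralizer_iff]
    intro a ha
    have h1 := (Subgroup.mem_centralizer_iff.mp hc) (mk a) ⟨a, ha, rfl⟩
    have h2 : mk (a * f * a⁻¹ * f⁻¹) = 1 := by
      rw [map_mul, map_mul, map_mul, map_inv, map_inv, h1]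
      group
    have h3 := hHNe _ (mul_mem (mul_mem (mul_mem (hAH ha) (hFH hf)) (inv_mem (hAH ha))) (inv_mem (hFH hf)))
      (hmk1 _ h2)
    have h5 : ⁅a, f⁆ = 1 := h3
    exact commutatorElement_eq_one_iff_mul_comm.mp h5
  have hmain := reduced π h2 h3 hO _ _ hF₁ hnorm hself
  refine ⟨piCore (πᶜ) S ⊓ centralizer (A : Set S), inf_le_right, ?_, ?_, ?_, ?_⟩
  · intro c hc d hd
    exact Subgroup.mem_inf.2 ⟨hNn.conj_mem d hd.1 c, mul_mem (mul_mem hc hd.2) (inv_mem hc)⟩
  · rw [eq_bot_iff]
    intro x hx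
    exact hHNe x (hAH hx.1) hx.2.1
  · apply le_antisymm
    · exact sup_le hAC inf_le_right
    · intro c hc
      have h1 : mk c ∈ centralizer ((A.map mk : Subgroup _) : Set _) := by
        rw [Subgroup.mem_centralizer_iff]
        rintro _ ⟨a, ha, rfl⟩
        rw [← map_mul, ← map_mul, (Subgroup.mem_centralizer_iff.mp hc) a ha]
      obtain ⟨a, ha, e⟩ := hmain h1
      have h2 : a⁻¹ * c ∈ piCore (πᶜ) S := by
        apply hmk1
        rw [map_mul, map_inv, e]
        group
      have h3 : a⁻¹ * c ∈ piCore (πᶜ) S ⊓ centralizer (A : Set S) :=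
        Subgroup.mem_inf.2 ⟨h2, mul_mem (inv_mem (hAC ha)) hc⟩
      have e2 : c = a * (a⁻¹ * c) := by group
      rw [e2]
      exact mul_mem (Subgroup.mem_sup_left ha) (Subgroup.mem_sup_right h3)
  · intro q hq hd
    have a1 : piCore (πᶜ) S ⊓ centralizer (A : Set S) ≤ piCore (πᶜ) S := inf_le_left
    exact hNp q hq (hd.trans (Subgroup.card_dvd_of_le a1))

end Cfsg.Agent.S1893
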