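import Mathlib
import Cfsg.Statements.S1903
import Cfsg.Agent.Lib.Order320
import Cfsg.Agent.Lib.SquaringIso2
import Cfsg.Agent.Lib.SU3Heis
import Cfsg.Agent.Lib.UnitarySU
import Cfsg.Agent.S1141

set_option autoImplicit false
set_option linter.style.haveILetI false
set_option linter.unusedSectionVars false
set_option linter.unusedVariables false
open Cfsg

namespace Cfsg.Agent.S1903

open Matrix
open Cfsg.Agent.Lib.SU3Heis Cfsg.Agent.Lib.HermCount Cfsg.Agent.S1141 Cfsg.Agent.Lib.Order320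

section Target

variable {F : Type*} [Field F] [Fintype F] (hF : Fintype.card F = 4 ^ 2) (h2 : (2 : F) = 0)

/-- The fixed field of `x ↦ x ^ 4`. -/
def fix4 (hF : Fintype.card F = 4 ^ 2) : Subfield F :=
  (Cfsg.Agent.Lib.HermForm.frobQ hF).eqLocusField (RingHom.id F)

omit h2 in
theorem mem_fix4 {x : F} : x ∈ fix4 hF ↔ x ^ 4 = x := Iff.rfl

theorem autE_δ (l : Fˣ) (g : T hF h2) : δ (autE hF h2 l g).1 = (l : F) * δ g.1 := act_δ hF h2 l g

theorem autE_η (l : Fˣ) (hl : (l : F) ^ 5 = 1) (g : T hF h2) : η (autE hF h2 l g).1 = η g.1 := by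
  have h := act_η hF h2 l g
  have h3 : (l : F) ^ 4 * l = 1 := by rw [← pow_succ]; exact hl
  rw [h3, one_mul] at h
  exact h

theorem T_iso {P : Type*} [Group P] [Finite P] (ζ : Fˣ)
    (hΦ : 1 + (ζ : F) + (ζ : F) ^ 2 + (ζ : F) ^ 3 + (ζ : F) ^ 4 = 0)
    (hP : Nat.card P = 64) (hZ : Nat.card (Subgroup.center P) = 4) (hexp : ∀ z ∈ Subgroup.center P, z * z = 1)
    (hZP : Subgroup.center P ≤ commutator P) (τ : P ≃* P) (τ5 : ∀ y, τ (τ (τ (τ (τ y)))) = y) (hτ : ∃ y, τ y ≠ y) :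
    ∃ φ : P ≃* T hF h2, ∀ x, φ (τ x) = autE hF h2 ζ (φ x) := by
  have hF16 : Fintype.card F = 16 := by rw [hF]; norm_num
  have hζ5 : (ζ : F) ^ 5 = 1 := by linear_combination ((ζ : F) - 1) * hΦ
  obtain ⟨Ψ, Pm, Ps, Pτ, hk⟩ := exists_Psi hP hZ τ τ5 hτ hF16 h2 (ζ : F) hΦ
  have hfix : ∀ z ∈ Subgroup.center P, τ z = z := fun z hz => center_fixed hP hZ τ τ5 hz
  obtain ⟨i, ia, ii, kP, ci, sqX, hf, iτ⟩ :=
    exists_iota hZ hexp τ hfix hZP hF16 h2 (ζ : F) hΦ Ψ Pm Ps Pτ hk (fix4 hF) (fun x => mem_fix4 hF)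
  have hq : (4 : ℕ) ≠ 0 := by norm_num
  have hex : ∀ b : fix4 hF, ∃ g : T hF h2, δ g.1 = 0 ∧ η g.1 = (b : F) := by
    intro b
    apply exists_T hF h2
    have hb : (b : F) ^ 4 = b := (mem_fix4 hF).mp b.2
    rw [hb, zero_mul]
    linear_combination (b : F) * h2
  choose j hj1 hj2 using hex
  refine Cfsg.Agent.Lib.SquaringIso.iso_of_sq_equiv (A := F) (B := fix4 hF)
    Ψ (fun g => δ g.1) Pm (fun x y => δ_mul hF h2 x y) Ps ?_ i j ia ?_ ii ?_ kP ?_ ci ?_ sqX ?_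
    τ (autE hF h2 ζ) (fun a => (ζ : F) * a) τ5 ?_ Pτ ?_ ?_ iτ ?_
  · intro d
    obtain ⟨e, he⟩ := Cfsg.Agent.Lib.UnitaryE.exists_trace_eq hF (nrm_fixed hF d)
    obtain ⟨g, hg, -⟩ := exists_T hF h2 he
    exact ⟨g, hg⟩
  · intro u v
    apply T_ext hF h2
    · rw [δ_mul hF h2, hj1, hj1, hj1, add_zero]
    · rw [η_mul hF h2, hj2, hj2, hj2, hj1, hj1, Subfield.coe_add, zero_pow hq, zero_mul, add_zero]
  · intro b h
    have h3 := hj2 b
    rw [h, η_one hF h2] at h3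
    exact Subtype.ext h3.symm
  · intro y
    constructor
    · intro h
      have h0 : δ y.1 = 0 := h
      have h3 := rel hF h2 y
      rw [h0, zero_mul] at h3
      have h5 : η y.1 ^ 4 = η y.1 := by linear_combination h3 - (η y.1) * h2
      refine ⟨⟨η y.1, (mem_fix4 hF).mpr h5⟩, ?_⟩
      apply T_ext hF h2
      · rw [h0, hj1]
      · rw [hj2]
    · rintro ⟨b, rfl⟩
      exact hj1 b
  · intro b y
    apply T_ext hF h2
    · rw [δ_mul hF h2, δ_mul hF h2, hj1, zero_add, add_zero]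
    · rw [η_mul hF h2, η_mul hF h2, hj1, hj2, zero_pow hq, zero_mul, mul_zero]
      ring
  · intro x y b hxy hb
    have h5 := hf x b hb
    have h0 : Ψ x = δ y.1 := hxy
    apply T_ext hF h2
    · show δ (y * y).1 = _
      rw [δ_mul hF h2, hj1]
      linear_combination (δ y.1) * h2
    · show η (y * y).1 = _
      rw [η_mul hF h2, hj2, h5, h0]
      linear_combination (η y.1) * h2
  · intro y
    apply T_ext hF h2
    · simp only [autE_δ]
      linear_combination (δ y.1) * hζ5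
    · simp only [autE_η hF h2 ζ hζ5]
  · intro y
    exact autE_δ hF h2 ζ y
  · intro a
    show a + (ζ : F) * a + (ζ : F) * ((ζ : F) * a) + (ζ : F) * ((ζ : F) * ((ζ : F) * a)) +
      (ζ : F) * ((ζ : F) * ((ζ : F) * ((ζ : F) * a))) = 0
    linear_combination a * hΦ
  · intro b
    apply T_ext hF h2
    · rw [autE_δ, hj1, mul_zero]
    · rw [autE_η hF h2 ζ hζ5]

/-- The involution `M(0, 1)`, swapping the first two coordinates. -/
def t0 : T hF h2 :=
  ⟨mkSU hF h2 0 1 (by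
    simp only [one_pow, mul_zero, zero_mul]
    linear_combination h2), 0, 1, by
    simp only [one_pow, mul_zero, zero_mul]
    linear_combination h2, rfl⟩

theorem t0_δ : δ (t0 hF h2).1 = 0 := M_δ 0 1
theorem t0_η : η (t0 hF h2).1 = 1 := M_η 0 1

theorem t0_central (y : T hF h2) : y * t0 hF h2 = t0 hF h2 * y := by
  have hq : (4 : ℕ) ≠ 0 := by norm_num
  apply T_ext hF h2
  · rw [δ_mul hF h2, δ_mul hF h2, t0_δ, add_zero, zero_add]
  · rw [η_mul hF h2, η_mul hF h2, t0_δ, t0_η, zero_pow hq, zero_mul, mul_zero, add_zero, add_zero, add_comm]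

/-- The diagonal matrices. -/
def hMat (ζ : F) (k : ℕ) : Matrix (Fin 3) (Fin 3) F :=
  !![ζ ^ (3 * k), 0, 0; 0, ζ ^ (3 * k), 0; 0, 0, ζ ^ (4 * k)]

theorem hMat_mul (ζ : F) (k l : ℕ) : hMat ζ k * hMat ζ l = hMat ζ (k + l) := by
  ext i j
  fin_cases i <;> fin_cases j <;>
    simp [hMat, Matrix.mul_apply, Fin.sum_univ_three, mul_add, pow_add]

theorem hMat_zero (ζ : F) : hMat ζ 0 = 1 := by
  ext i j
  fin_cases i <;> fin_cases j <;> simp [hMat]

theorem hMat_det {ζ : F} (hζ : ζ ^ 5 = 1) : (hMat ζ 1).det = 1 := by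
  rw [Matrix.det_fin_three]
  simp [hMat]
  linear_combination (ζ ^ 5 + 1) * hζ

theorem hMat_pres {ζ : F} (hζ : ζ ^ 5 = 1) (u v : Fin 3 → F) :
    hermForm 3 F 4 (hMat ζ 1 *ᵥ u) (hMat ζ 1 *ᵥ v) = hermForm 3 F 4 u v := by
  have h0 : ∀ w : Fin 3 → F, (hMat ζ 1 *ᵥ w) 0 = ζ ^ 3 * w 0 := by
    intro w; simp [hMat, mulVec, dotProduct, Fin.sum_univ_three]
  have h1 : ∀ w : Fin 3 → F, (hMat ζ 1 *ᵥ w) 1 = ζ ^ 3 * w 1 := by
    intro w; simp [hMat, mulVec, dotProduct, Fin.sum_univ_three]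
  have h3 : ∀ w : Fin 3 → F, (hMat ζ 1 *ᵥ w) 2 = ζ ^ 4 * w 2 := by
    intro w; simp [hMat, mulVec, dotProduct, Fin.sum_univ_three]
  simp only [hermForm, Fin.sum_univ_three, h0, h1, h3, mul_pow]
  have e1 : (ζ ^ 3) ^ 4 * ζ ^ 3 = 1 := by
    have : (ζ ^ 3) ^ 4 * ζ ^ 3 = (ζ ^ 5) ^ 3 := by ring
    rw [this, hζ, one_pow]
  have e2 : (ζ ^ 4) ^ 4 * ζ ^ 4 = 1 := by
    have : (ζ ^ 4) ^ 4 * ζ ^ 4 = (ζ ^ 5) ^ 4 := by ring
    rw [this, hζ, one_pow]
  linear_combination (u 0 * v 0 ^ 4 + u 1 * v 1 ^ 4) * e1 + (u 2 * v 2 ^ 4) * e2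

/-- The diagonal element of order 5. -/
def hh {ζ : F} (hζ : ζ ^ 5 = 1) : SU 3 F 4 :=
  ⟨⟨hMat ζ 1, hMat_det hζ⟩, fun u v => hMat_pres hζ u v⟩

theorem hh_pow {ζ : F} (hζ : ζ ^ 5 = 1) (k : ℕ) : ((hh hζ) ^ k).1.1 = hMat ζ k := by
  induction k with
  | zero => rw [hMat_zero]; rfl
  | succ k ih =>
    rw [pow_succ, ← hMat_mul, ← ih]
    rfl

theorem hMat_conj (hq : True) {ζ : F} (hζ : ζ ^ 5 = 1) (d e : F) :
    hMat ζ 1 * M 4 d e = M 4 (ζ * d) e * hMat ζ 1 := by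
  ext i j
  fin_cases i <;> fin_cases j <;>
    simp [hMat, M, Matrix.mul_apply, Fin.sum_univ_three, mul_pow] <;>
    first
    | ring1
    | linear_combination (- ζ ^ 3 * d ^ 4) * hζ

theorem hh_conj (ζ : Fˣ) (hζ : (ζ : F) ^ 5 = 1) (y : T hF h2) :
    (autE hF h2 ζ y).1 * hh hζ = hh hζ * y.1 := by
  apply Subtype.ext
  apply Subtype.ext
  show (autE hF h2 ζ y).1.1.1 * hMat (ζ : F) 1 = hMat (ζ : F) 1 * y.1.1.1
  rw [coe_eq hF h2 (autE hF h2 ζ y), coe_eq hF h2 y, autE_δ, autE_η hF h2 ζ hζ, hMat_conj trivial hζ]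

theorem hh_comm_t {ζ : F} (hζ : ζ ^ 5 = 1) : hh hζ * (t0 hF h2).1 = (t0 hF h2).1 * hh hζ := by
  apply Subtype.ext
  apply Subtype.ext
  show hMat ζ 1 * M 4 0 1 = M 4 0 1 * hMat ζ 1
  ext i j
  fin_cases i <;> fin_cases j <;>
    simp [hMat, M, Matrix.mul_apply, Fin.sum_univ_three, mul_comm]

include h2 in
theorem comm_entries (A : Matrix (Fin 3) (Fin 3) F) (hc : A * M 4 0 1 = M 4 0 1 * A) :
    A 1 1 = A 0 0 ∧ A 1 0 = A 0 1 ∧ A 1 2 = A 0 2 ∧ A 2 1 = A 2 0 := by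
  have e : ∀ i j : Fin 3, (A * M 4 (0 : F) 1) i j = (M 4 (0 : F) 1 * A) i j := fun i j => by rw [hc]
  have e00 := e 0 0
  have e02 := e 0 2
  have e20 := e 2 0
  have e01 := e 0 1
  simp [M, Matrix.mul_apply, Fin.sum_univ_three] at e00 e02 e20 e01
  refine ⟨?_, ?_, ?_, ?_⟩
  · linear_combination -e01
  · linear_combination -e00
  · linear_combination -e02 - A 0 2 * h2
  · linear_combination e20 - A 2 0 * h2

theorem mulVec_entries (A : Matrix (Fin 3) (Fin 3) F) (a b c : F) :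
    (A *ᵥ ![a, b, c]) 0 = A 0 0 * a + A 0 1 * b + A 0 2 * c ∧
    (A *ᵥ ![a, b, c]) 1 = A 1 0 * a + A 1 1 * b + A 1 2 * c ∧
    (A *ᵥ ![a, b, c]) 2 = A 2 0 * a + A 2 1 * b + A 2 2 * c := by
  simp [mulVec, dotProduct, Fin.sum_univ_three]

include h2 in
theorem lam_pow (A : Matrix (Fin 3) (Fin 3) F)
    (hA : ∀ u v, hermForm 3 F 4 (A *ᵥ u) (A *ᵥ v) = hermForm 3 F 4 u v) (hc : A * M 4 0 1 = M 4 0 1 * A) :
    (A 0 0 + A 0 1) ^ 5 = 1 := by
  obtain ⟨h11, h10, h12, h21⟩ := comm_entries h2 A hc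
  have h := hA ![1, 0, 0] ![1, 1, 0]
  simp only [hermForm, Fin.sum_univ_three, (mulVec_entries A _ _ _).1, (mulVec_entries A _ _ _).2.1,
    (mulVec_entries A _ _ _).2.2, h11, h10, h21] at h
  simp at h
  have h3 : A 2 0 + A 2 0 = 0 := by linear_combination (A 2 0) * h2
  rw [h3] at h
  simp at h
  have h4 : A 0 1 + A 0 0 = A 0 0 + A 0 1 := add_comm _ _
  rw [h4] at h
  linear_combination h

theorem mem_T_of (g : SU 3 F 4) (hc : g * (t0 hF h2).1 = (t0 hF h2).1 * g) (h1 : g.1.1 0 0 + g.1.1 0 1 = 1) :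
    g ∈ T hF h2 := by
  set A := g.1.1 with hAdef
  have hc' : A * M 4 0 1 = M 4 0 1 * A := congrArg (fun z : SU 3 F 4 => z.1.1) hc
  have hA : ∀ u v, hermForm 3 F 4 (A *ᵥ u) (A *ᵥ v) = hermForm 3 F 4 u v := fun u v => g.2 u v
  have hdet : A.det = 1 := g.1.2
  obtain ⟨h11, h10, h12, h21⟩ := comm_entries h2 A hc'
  rw [Matrix.det_fin_three, h11, h10, h12, h21] at hdet
  set p := A 0 0 with hp
  set r := A 0 1 with hr
  set u := A 0 2 with hu
  set w := A 2 0 with hw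
  set s := A 2 2 with hs
  have hs1 : s = 1 := by
    linear_combination hdet - (p - r + 1) * s * h1 + (r * s - u * w * (r - p)) * h2
  have H1 := hA ![0, 0, 1] ![1, 0, 0]
  have H2 := hA ![1, 0, 0] ![1, 0, 0]
  simp only [hermForm, Fin.sum_univ_three, (mulVec_entries A _ _ _).1, (mulVec_entries A _ _ _).2.1,
    (mulVec_entries A _ _ _).2.2, h11, h10, h12, h21] at H1 H2
  simp at H1 H2
  have hpow : p ^ 4 + r ^ 4 = 1 := by
    have := add_pow_q hF p r
    rw [h1, one_pow] at this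
    exact this.symm
  have H1' : u * p ^ 4 + u * r ^ 4 + s * w ^ 4 = 0 := H1
  have H2' : p * p ^ 4 + r * r ^ 4 + w * w ^ 4 = 1 := H2
  have hu' : u = w ^ 4 := by
    linear_combination H1' - u * hpow - w ^ 4 * hs1 - w ^ 4 * h2
  have hp' : p = 1 + r := by linear_combination h1 - r * h2
  have hp4 : p ^ 4 = 1 + r ^ 4 := by linear_combination hpow - (r ^ 4) * h2
  have hrel : r + r ^ 4 = w * w ^ 4 := by
    linear_combination H2' - p ^ 4 * hp' - (1 + r) * hp4 - (r ^ 5 + w ^ 5) * h2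
  refine ⟨w, r, hrel, ?_⟩
  ext i j
  fin_cases i <;> fin_cases j
  · show p = 1 + r
    exact hp'
  · show r = r
    rfl
  · show u = w ^ 4
    exact hu'
  · show A 1 0 = r
    exact h10
  · show A 1 1 = 1 + r
    rw [h11]
    exact hp'
  · show A 1 2 = w ^ 4
    rw [h12]
    exact hu'
  · show w = w
    rfl
  · show A 2 1 = w
    exact h21
  · show s = 1
    exact hs1

/-- Elements of the centralizer of `t`. -/
theorem centralizer_gen (ζ : Fˣ) (hζ : (ζ : F) ^ 5 = 1) (hprim : IsPrimitiveRoot (ζ : F) 5) (g : SU 3 F 4)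
    (hc : g * (t0 hF h2).1 = (t0 hF h2).1 * g) : ∃ (y : T hF h2) (k : ℕ), g = y.1 * (hh hζ) ^ k := by
  have hc' : g.1.1 * M 4 0 1 = M 4 0 1 * g.1.1 := congrArg (fun z : SU 3 F 4 => z.1.1) hc
  have hl := lam_pow h2 g.1.1 (fun u v => g.2 u v) hc'
  obtain ⟨n, -, hn⟩ := hprim.eq_pow_of_pow_eq_one hl
  set l := g.1.1 0 0 + g.1.1 0 1 with hldef
  have hl0 : l ≠ 0 := by
    rintro h
    rw [h, zero_pow (by norm_num)] at hl
    exact zero_ne_one hl
  set k := 2 * n with hk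
  have hzk : (ζ : F) ^ (3 * k) = l := by
    have : (ζ : F) ^ (3 * k) = ((ζ : F) ^ 5) ^ n * (ζ : F) ^ n := by
      rw [hk, ← pow_mul, ← pow_add]
      congr 1
      ring
    rw [this, hζ, one_pow, one_mul, hn]
  let g₁ : SU 3 F 4 := g * ((hh hζ) ^ k)⁻¹
  have hg₁ : g₁ * (hh hζ) ^ k = g := by simp [g₁]
  have hct : (hh hζ) ^ k * (t0 hF h2).1 = (t0 hF h2).1 * (hh hζ) ^ k :=
    (Commute.pow_left (hh_comm_t hF h2 hζ) k).eq
  have hc₁ : g₁ * (t0 hF h2).1 = (t0 hF h2).1 * g₁ := by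
    have h3 : ((hh hζ) ^ k)⁻¹ * (t0 hF h2).1 = (t0 hF h2).1 * ((hh hζ) ^ k)⁻¹ := by
      rw [inv_mul_eq_iff_eq_mul, ← mul_assoc, hct, mul_assoc, mul_inv_cancel, mul_one]
    simp only [g₁]
    rw [mul_assoc, h3, ← mul_assoc, hc, mul_assoc]
  have hmat : g₁.1.1 * hMat (ζ : F) k = g.1.1 := by
    have := congrArg (fun z : SU 3 F 4 => z.1.1) hg₁
    have h3 : (g₁ * (hh hζ) ^ k).1.1 = g₁.1.1 * ((hh hζ) ^ k).1.1 := rfl
    simp only [h3, hh_pow] at this
    exact this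
  have e0 : g₁.1.1 0 0 * l = g.1.1 0 0 := by
    have := congrFun (congrFun hmat 0) 0
    simp [Matrix.mul_apply, Fin.sum_univ_three, hMat, hzk] at this
    exact this
  have e1 : g₁.1.1 0 1 * l = g.1.1 0 1 := by
    have := congrFun (congrFun hmat 0) 1
    simp [Matrix.mul_apply, Fin.sum_univ_three, hMat, hzk] at this
    exact this
  have h1 : g₁.1.1 0 0 + g₁.1.1 0 1 = 1 := by
    apply mul_right_cancel₀ hl0
    rw [add_mul, e0, e1, one_mul]
  exact ⟨⟨g₁, mem_T_of hF h2 g₁ hc₁ h1⟩, k, hg₁.symm⟩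

theorem hh_pow_T {ζ : F} (hζ : ζ ^ 5 = 1) (hprim : IsPrimitiveRoot ζ 5) (k : ℕ) (h : (hh hζ) ^ k ∈ T hF h2) : 5 ∣ k := by
  obtain ⟨d, e, -, he⟩ := h
  rw [hh_pow] at he
  have h3 := congrFun (congrFun he 2) 2
  simp [hMat, M] at h3
  have h4 := hprim.dvd_of_pow_eq_one _ h3
  omega

theorem t0_order : orderOf ((t0 hF h2).1 : SU 3 F 4) = 2 := by
  haveI : Fact (Nat.Prime 2) := ⟨Nat.prime_two⟩
  apply orderOf_eq_prime
  · have h3 := sq_of_mem_center hF h2 ((mem_center_iff hF h2 (t0 hF h2)).mpr (t0_δ hF h2))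
    have h4 := congrArg Subtype.val h3
    exact h4
  · intro h
    have h3 : t0 hF h2 = 1 := Subtype.ext h
    have h4 := t0_η hF h2
    rw [h3, η_one hF h2] at h4
    exact zero_ne_one h4

/-- The recognition, in `SU₃(4)`. -/
theorem main_SU {G : Type*} [Group G] [Finite G] (hG : Nat.card G = 320) (hD : Nat.card (commutator G) = 64)
    (hZ : IsKleinFour (Subgroup.center (commutator G))) :
    Nonempty (G ≃* Subgroup.centralizer ({(t0 hF h2).1} : Set (SU 3 F 4))) := by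
  classical
  haveI : Fact (Nat.Prime 5) := ⟨by norm_num⟩
  have hF16 : Fintype.card F = 16 := by rw [hF]; norm_num
  -- the scalar `ζ`
  have hcu : Nat.card Fˣ = 15 := by
    rw [Nat.card_eq_fintype_card, Fintype.card_units, hF16]
  obtain ⟨ζ, hζo⟩ := exists_prime_orderOf_dvd_card' (G := Fˣ) 5 (by rw [hcu]; norm_num)
  have hζ5u : ζ ^ 5 = 1 := by rw [← hζo]; exact pow_orderOf_eq_one ζ
  have hζ5 : (ζ : F) ^ 5 = 1 := by
    have := congrArg Units.val hζ5u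
    simpa using this
  have hζ1 : (ζ : F) ≠ 1 := by
    intro h
    have h3 : ζ = 1 := Units.ext h
    rw [h3, orderOf_one] at hζo
    norm_num at hζo
  have hΦ : 1 + (ζ : F) + (ζ : F) ^ 2 + (ζ : F) ^ 3 + (ζ : F) ^ 4 = 0 := by
    apply mul_left_cancel₀ (sub_ne_zero.mpr hζ1)
    linear_combination hζ5
  have hprim : IsPrimitiveRoot (ζ : F) 5 := by
    have := orderOf_eq_prime (p := 5) hζ5 hζ1
    rw [← this]
    exact IsPrimitiveRoot.orderOf _
  -- the structure of `G`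
  obtain ⟨x, hx5, hxd, hgen, hτ, hZP⟩ := G_struct hG hD hZ
  set P := commutator G with hPdef
  have hZ4 : Nat.card (Subgroup.center P) = 4 := IsKleinFour.card_four
  have hZexp : ∀ z ∈ Subgroup.center P, z * z = 1 := by
    intro z hz
    have h1 : (⟨z, hz⟩ : Subgroup.center P) ^ 2 = 1 := by
      rw [← IsKleinFour.exponent_two (G := Subgroup.center P)]
      exact Monoid.pow_exponent_eq_one _
    have h2 := congrArg Subtype.val h1
    rw [pow_two] at h2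
    exact h2
  let τ : P ≃* P := MulAut.conjNormal x
  have hτa : ∀ y : P, ((τ y : P) : G) = x * y * x⁻¹ := fun y => MulAut.conjNormal_apply x y
  have τ5 : ∀ y, τ (τ (τ (τ (τ y)))) = y := by
    intro y
    apply Subtype.ext
    simp only [hτa]
    have : x * (x * (x * (x * (x * (y : G) * x⁻¹) * x⁻¹) * x⁻¹) * x⁻¹) * x⁻¹ = x ^ 5 * (y : G) * (x ^ 5)⁻¹ := by
      simp only [pow_succ, pow_zero, one_mul, _root_.mul_inv_rev, mul_assoc]
    rw [this, hx5]
    simp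
  obtain ⟨φ₀, hφ₀⟩ := T_iso hF h2 ζ hΦ hD hZ4 hZexp hZP τ τ5 hτ
  -- the homomorphism into the centralizer
  let C₀ : Subgroup (SU 3 F 4) := Subgroup.centralizer ({(t0 hF h2).1} : Set (SU 3 F 4))
  have memC : ∀ g, g ∈ C₀ ↔ g * (t0 hF h2).1 = (t0 hF h2).1 * g := by
    intro g
    exact Subgroup.mem_centralizer_singleton_iff
  let φ₁ : P →* C₀ := ((T hF h2).subtype.comp φ₀.toMonoidHom).codRestrict C₀ (by
    intro p
    rw [memC]
    have := t0_central hF h2 (φ₀ p)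
    exact congrArg Subtype.val this)
  have hφ₁ : ∀ p : P, ((φ₁ p : C₀) : SU 3 F 4) = (φ₀ p).1 := fun p => rfl
  let x₂ : C₀ := ⟨hh hζ5, (memC _).mpr (hh_comm_t hF h2 hζ5)⟩
  have hx₂ : ∀ k : ℕ, ((x₂ ^ k : C₀) : SU 3 F 4) = (hh hζ5) ^ k := fun k => rfl
  apply semi_iso P φ₁ ?_ x x₂ hx5 ?_ ?_ ?_ ?_ ?_ hxd ?_
  · intro a b hab
    apply φ₀.injective
    apply Subtype.ext
    exact congrArg (fun z : C₀ => (z : SU 3 F 4)) hab
  · apply Subtype.ext
    show ((x₂ ^ 5 : C₀) : SU 3 F 4) = 1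
    rw [hx₂]
    apply Subtype.ext
    apply Subtype.ext
    show ((hh hζ5) ^ 5).1.1 = 1
    rw [hh_pow]
    have h15 : (ζ : F) ^ 15 = 1 := by
      have : (ζ : F) ^ 15 = ((ζ : F) ^ 5) ^ 3 := by ring
      rw [this, hζ5, one_pow]
    have h20 : (ζ : F) ^ 20 = 1 := by
      have : (ζ : F) ^ 20 = ((ζ : F) ^ 5) ^ 4 := by ring
      rw [this, hζ5, one_pow]
    ext i j
    fin_cases i <;> fin_cases j <;> simp [hMat, h15, h20]
  · intro p hp
    exact Subgroup.Normal.conj_mem inferInstance p hp x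
  · intro p hp
    apply Subtype.ext
    have h3 : (⟨x * p * x⁻¹, hp⟩ : P) = τ p := Subtype.ext (hτa p).symm
    rw [h3, hφ₁, hφ₀]
    have h4 := hh_conj hF h2 ζ hζ5 (φ₀ p)
    show (autE hF h2 ζ (φ₀ p)).1 = hh hζ5 * (φ₀ p).1 * (hh hζ5)⁻¹
    rw [← h4, mul_inv_cancel_right]
  · exact hgen
  · intro g
    obtain ⟨y, k, hyk⟩ := centralizer_gen hF h2 ζ hζ5 hprim g.1 ((memC _).mp g.2)
    refine ⟨φ₀.symm y, k, ?_⟩
    apply Subtype.ext
    rw [hyk]
    show y.1 * (hh hζ5) ^ k = ((φ₀ (φ₀.symm y)) : T hF h2).1 * _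
    rw [MulEquiv.apply_symm_apply]
    rfl
  · rintro k ⟨p, hp⟩
    apply hh_pow_T hF h2 hζ5 hprim
    have h3 : (φ₀ p).1 = (hh hζ5) ^ k := congrArg Subtype.val hp
    rw [← h3]
    exact (φ₀ p).2

end Target

/-- A finite group of order 320 whose derived subgroup has order 64 and has centre a Klein four-group is isomorphic to the centralizer of an involution in PSU₃(4). -/
theorem result {G : Type*} [Group G] [Finite G] (hG : Nat.card G = 320) (hD : Nat.card (commutator G) = 64)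
    (hZ : IsKleinFour (Subgroup.center (commutator G)))
    {F : Type*} [Field F] [Fintype F] (hF : Fintype.card F = 16) :
    ∃ t : Cfsg.PSU 3 F 4, orderOf t = 2 ∧ Nonempty (G ≃* Subgroup.centralizer ({t} : Set (Cfsg.PSU 3 F 4))) := by
  have hF' : Fintype.card F = 4 ^ 2 := by rw [hF]; norm_num
  have h2 : (2 : F) = 0 := by
    have h16 : ((16 : ℕ) : F) = 0 := by
      rw [← hF]
      exact Nat.cast_card_eq_zero F
    have h3 : (2 : F) ^ 4 = 0 := by
      norm_num at h16 ⊢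
      exact h16
    exact pow_eq_zero_iff (by norm_num) |>.mp h3
  have hcen : Nat.card (Subgroup.center (SU 3 F 4)) = 1 := by
    rw [Cfsg.Agent.Lib.UnitarySU.card_center_SU hF' (by norm_num)]
    rfl
  have hbot : Subgroup.center (SU 3 F 4) = ⊥ := Subgroup.eq_bot_of_card_eq _ hcen
  let π : SU 3 F 4 →* Cfsg.PSU 3 F 4 := QuotientGroup.mk' _
  have hπ : Function.Bijective π := by
    refine ⟨?_, QuotientGroup.mk'_surjective _⟩
    rw [injective_iff_map_eq_one]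
    intro a ha
    have h3 : a ∈ Subgroup.center (SU 3 F 4) := (QuotientGroup.eq_one_iff a).mp ha
    rw [hbot] at h3
    exact h3
  let e : SU 3 F 4 ≃* Cfsg.PSU 3 F 4 := MulEquiv.ofBijective π hπ
  refine ⟨e (t0 hF' h2).1, ?_, ?_⟩
  · rw [MulEquiv.orderOf_eq]
    exact t0_order hF' h2
  · obtain ⟨f⟩ := main_SU hF' h2 hG hD hZ
    let C₀ := Subgroup.centralizer ({(t0 hF' h2).1} : Set (SU 3 F 4))
    let C₁ := Subgroup.centralizer ({e (t0 hF' h2).1} : Set (Cfsg.PSU 3 F 4))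
    have mem0 : ∀ g, g ∈ C₀ ↔ g * (t0 hF' h2).1 = (t0 hF' h2).1 * g := fun g =>
      Subgroup.mem_centralizer_singleton_iff
    have mem1 : ∀ g, g ∈ C₁ ↔ g * e (t0 hF' h2).1 = e (t0 hF' h2).1 * g := fun g =>
      Subgroup.mem_centralizer_singleton_iff
    let f₁ : C₀ →* C₁ := (e.toMonoidHom.comp C₀.subtype).codRestrict C₁ (by
      intro g
      rw [mem1]
      have := (mem0 g.1).mp g.2
      have h3 := congrArg e this
      simpa using h3)
    have hf₁ : Function.Bijective f₁ := by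
      constructor
      · intro a b hab
        apply Subtype.ext
        apply e.injective
        exact congrArg Subtype.val hab
      · rintro ⟨b, hb⟩
        obtain ⟨a, rfl⟩ := e.surjective b
        have ha : a ∈ C₀ := by
          rw [mem0]
          apply e.injective
          rw [map_mul, map_mul]
          exact (mem1 _).mp hb
        exact ⟨⟨a, ha⟩, rfl⟩
    exact ⟨f.trans (MulEquiv.ofBijective f₁ hf₁)⟩

end Cfsg.Agent.S1903
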