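import Mathlib
import Cfsg.Statements.S1910
import Cfsg.Agent.Lib.FrobNPC
import Cfsg.Agent.Lib.FullyRamGroup

set_option autoImplicit false
open Cfsg

namespace Cfsg.Agent.S1910

section Aux

variable {G : Type*} [Group G]

theorem not_odd_of_two_elt {K : Subgroup G} [Finite G] {a : G} (ha : a ∈ K) (h1 : a ≠ 1) (h2 : ∃ k : ℕ, a ^ 2 ^ k = 1) :
    ¬ Odd (Nat.card K) := by
  intro hodd
  obtain ⟨k, hk⟩ := h2
  have hd : orderOf a ∣ 2 ^ k := orderOf_dvd_of_pow_eq_one hk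
  obtain ⟨j, -, hj⟩ := (Nat.dvd_prime_pow Nat.prime_two).mp hd
  have hd2 : orderOf a ∣ Nat.card K := by
    have := orderOf_dvd_natCard (⟨a, ha⟩ : K)
    rwa [Subgroup.orderOf_mk] at this
  have hj0 : j ≠ 0 := by
    intro h0
    rw [h0, pow_zero, orderOf_eq_one_iff] at hj
    exact h1 hj
  have h2d : 2 ∣ orderOf a := by
    rw [hj]
    exact dvd_pow_self 2 hj0
  exact (Nat.not_even_iff_odd.mpr hodd) (even_iff_two_dvd.mpr (h2d.trans hd2))

theorem tight_mem_normalizer [Finite G] {Q : Subgroup G} (hQ : Cfsg.IsTightlyEmbedded Q) {a x : G} (ha : a ∈ Q)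
    (h1 : a ≠ 1) (h2 : ∃ k : ℕ, a ^ 2 ^ k = 1) (hc : x * a = a * x) :
    x ∈ Subgroup.normalizer (Q : Set G) := by
  by_contra hx
  have hodd := hQ.2 x hx
  have hmem : a ∈ Q ⊓ Q.map (MulAut.conj x).toMonoidHom := by
    refine ⟨ha, a, ha, ?_⟩
    show x * a * x⁻¹ = a
    rw [hc]
    group
  exact not_odd_of_two_elt hmem h1 h2 hodd

/-- Every element of `Q ⊔ A` factors, when `A` normalizes `Q`. -/
theorem exists_mul_of_sup {Q A : Subgroup G} (hA : A ≤ Subgroup.normalizer (Q : Set G)) {s : G} (hs : s ∈ Q ⊔ A) :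
    ∃ q ∈ Q, ∃ a ∈ A, s = q * a := by
  have hconj : ∀ a ∈ A, ∀ q ∈ Q, a * q * a⁻¹ ∈ Q := fun a ha q hq =>
    (Subgroup.mem_normalizer_iff.mp (hA ha) q).mp hq
  let W : Subgroup G :=
    { carrier := {x | ∃ q ∈ Q, ∃ a ∈ A, x = q * a}
      mul_mem' := by
        rintro _ _ ⟨q, hq, a, ha, rfl⟩ ⟨q', hq', a', ha', rfl⟩
        refine ⟨q * (a * q' * a⁻¹), Q.mul_mem hq (hconj a ha q' hq'), a * a', A.mul_mem ha ha', ?_⟩
        group
      one_mem' := ⟨1, Q.one_mem, 1, A.one_mem, by simp⟩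
      inv_mem' := by
        rintro _ ⟨q, hq, a, ha, rfl⟩
        refine ⟨a⁻¹ * q⁻¹ * a⁻¹⁻¹, hconj _ (A.inv_mem ha) _ (Q.inv_mem hq), a⁻¹, A.inv_mem ha, ?_⟩
        group }
  have hle : Q ⊔ A ≤ W := sup_le (fun q hq => ⟨q, hq, 1, A.one_mem, by simp⟩) (fun a ha => ⟨1, Q.one_mem, a, ha, by simp⟩)
  exact hle hs

/-- The map `a ↦ [x, a]`. -/
theorem psi_lemma [Finite G] {p : ℕ} [Fact p.Prime] {X Y A B : Subgroup G} (hX : IsPGroup p X) (hYX : Y ≤ X)
    (hAX : A ≤ X) (hBY : B ≤ Y) (hdec : ∀ s ∈ X, ∃ y ∈ Y, ∃ a ∈ A, s = y * a)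
    (hAY : ∀ a ∈ A, ∀ y ∈ Y, a * y * a⁻¹ ∈ Y) (hdisj : ∀ a ∈ A, a ∈ Y → a = 1)
    (hcomm : ∀ a ∈ A, ∀ b ∈ B, a * b = b * a)
    (hfree : ∀ a ∈ A, a ≠ 1 → ∀ y ∈ Y, y * a = a * y → y ∈ B) (hne : B ≠ Y) :
    ∃ f : A →* B, Function.Injective f := by
  let W : Subgroup G :=
    { carrier := {x | ∃ b ∈ B, ∃ a ∈ A, x = b * a}
      mul_mem' := by
        rintro _ _ ⟨b, hb, a, ha, rfl⟩ ⟨b', hb', a', ha', rfl⟩
        refine ⟨b * b', B.mul_mem hb hb', a * a', A.mul_mem ha ha', ?_⟩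
        calc b * a * (b' * a') = b * (a * b') * a' := by group
          _ = b * (b' * a) * a' := by rw [hcomm a ha b' hb']
          _ = b * b' * (a * a') := by group
      one_mem' := ⟨1, B.one_mem, 1, A.one_mem, by simp⟩
      inv_mem' := by
        rintro _ ⟨b, hb, a, ha, rfl⟩
        refine ⟨b⁻¹, B.inv_mem hb, a⁻¹, A.inv_mem ha, ?_⟩
        have h1 : a⁻¹ * b⁻¹ = b⁻¹ * a⁻¹ := by
          rw [← mul_inv_rev, ← mul_inv_rev, hcomm a ha b hb]
        rw [mul_inv_rev, h1] }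
  have hWmem : ∀ x, x ∈ W ↔ ∃ b ∈ B, ∃ a ∈ A, x = b * a := fun x => Iff.rfl
  have hAW : A ≤ W := fun a ha => ⟨1, B.one_mem, a, ha, by simp⟩
  have hBW : B ≤ W := fun b hb => ⟨b, hb, 1, A.one_mem, by simp⟩
  have hWX : W ≤ X := by
    rintro _ ⟨b, hb, a, ha, rfl⟩
    exact X.mul_mem (hYX (hBY hb)) (hAX ha)
  have hWne : W ≠ X := by
    intro hEq
    apply hne
    refine le_antisymm hBY ?_
    intro y hy
    have h1 : y ∈ W := by
      rw [hEq]
      exact hYX hy
    obtain ⟨b, hb, a, ha, rfl⟩ := h1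
    have h2 : a ∈ Y := by
      have := Y.mul_mem (Y.inv_mem (hBY hb)) hy
      simpa using this
    rw [hdisj a ha h2, mul_one]
    exact hb
  obtain ⟨t, ht, htW, htN⟩ := Cfsg.Agent.Lib.FrobNPC.exists_normalizer_step hX hWX hWne
  obtain ⟨x, hx, a₀, ha₀, rfl⟩ := hdec t ht
  have hxW : x ∉ W := fun h => htW (W.mul_mem h (hAW ha₀))
  have hxN : x ∈ Subgroup.normalizer (W : Set G) := by
    have h1 : a₀⁻¹ ∈ Subgroup.normalizer (W : Set G) := Subgroup.le_normalizer (hAW (A.inv_mem ha₀))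
    have h2 := mul_mem htN h1
    simpa using h2
  have hxB : x ∉ B := fun h => hxW (hBW h)
  have hval : ∀ a ∈ A, x * a * x⁻¹ * a⁻¹ ∈ B := by
    intro a ha
    have h1 : x * a * x⁻¹ ∈ W := (Subgroup.mem_normalizer_iff.mp hxN a).mp (hAW ha)
    obtain ⟨b, hb, a', ha', h2⟩ := h1
    have h3 : x * a * x⁻¹ * a⁻¹ ∈ Y := by
      have h4 := Y.mul_mem hx (hAY a ha _ (Y.inv_mem hx))
      convert h4 using 1
      group
    have h5 : a' * a⁻¹ ∈ Y := by
      have h6 := Y.mul_mem (Y.inv_mem (hBY hb)) h3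
      convert h6 using 1
      rw [h2]
      group
    have h7 : a' * a⁻¹ = 1 := hdisj _ (A.mul_mem ha' (A.inv_mem ha)) h5
    have h8 : a' = a := mul_inv_eq_one.mp h7
    rw [h2, h8]
    simpa using hb
  let f : A →* B :=
    { toFun := fun a => ⟨x * a * x⁻¹ * (a : G)⁻¹, hval a a.2⟩
      map_one' := by
        apply Subtype.ext
        simp
      map_mul' := by
        rintro ⟨a, ha⟩ ⟨a', ha'⟩
        apply Subtype.ext
        show x * (a * a') * x⁻¹ * (a * a')⁻¹ = (x * a * x⁻¹ * a⁻¹) * (x * a' * x⁻¹ * a'⁻¹)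
        have h1 : (x * a' * x⁻¹ * a'⁻¹) * a⁻¹ = a⁻¹ * (x * a' * x⁻¹ * a'⁻¹) := by
          have h2 := hcomm a⁻¹ (A.inv_mem ha) _ (hval a' ha')
          exact h2.symm
        calc x * (a * a') * x⁻¹ * (a * a')⁻¹ = x * a * x⁻¹ * ((x * a' * x⁻¹ * a'⁻¹) * a⁻¹) := by group
          _ = x * a * x⁻¹ * (a⁻¹ * (x * a' * x⁻¹ * a'⁻¹)) := by rw [h1]
          _ = _ := by group }
  refine ⟨f, ?_⟩
  rw [injective_iff_map_eq_one]
  rintro ⟨a, ha⟩ h1
  have h2 : x * a * x⁻¹ * a⁻¹ = 1 := congrArg Subtype.val h1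
  have h3 : x * a = a * x := by
    have h4 : x * a * x⁻¹ = a := mul_inv_eq_one.mp h2
    calc x * a = (x * a * x⁻¹) * x := by group
      _ = a * x := by rw [h4]
  by_contra hne1
  have hne2 : a ≠ 1 := fun h => hne1 (Subtype.ext h)
  exact hxB (hfree a ha hne2 x hx h3)

/-- A `p`-subgroup of `K` lies in a subgroup of `K` of index prime to `p`. -/
theorem exists_sylow_over [Finite G] {p : ℕ} [Fact p.Prime] {W K : Subgroup G} (hW : IsPGroup p W) (hWK : W ≤ K) :
    ∃ X : Subgroup G, W ≤ X ∧ X ≤ K ∧ IsPGroup p X ∧ ¬ p ∣ X.relIndex K := by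
  have hW' : IsPGroup p (W.subgroupOf K) := hW.comap_of_injective K.subtype Subtype.coe_injective
  obtain ⟨P, hP⟩ := hW'.exists_le_sylow
  refine ⟨(P : Subgroup K).map K.subtype, ?_, Subgroup.map_subtype_le _, ?_, ?_⟩
  · intro w hw
    exact ⟨⟨w, hWK hw⟩, hP hw, rfl⟩
  · exact P.isPGroup'.map K.subtype
  · have h1 : ((P : Subgroup K).map K.subtype).subgroupOf K = P :=
      Subgroup.comap_map_eq_self_of_injective K.subtype_injective _
    show ¬ p ∣ (((P : Subgroup K).map K.subtype).subgroupOf K).index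
    rw [h1]
    exact P.not_dvd_index

/-- Intersecting with a normal subgroup keeps the index prime to `p`. -/
theorem inf_index [Finite G] {p : ℕ} {X H K : Subgroup G} (hHK : H ≤ K) (hK : K ≤ Subgroup.normalizer (H : Set G))
    (hX : ¬ p ∣ X.relIndex K) : ¬ p ∣ (X ⊓ H).relIndex H := by
  intro hd
  apply hX
  haveI : (H.subgroupOf K).Normal := Subgroup.normal_subgroupOf_iff_le_normalizer hHK |>.mpr hK
  have h1 := Cfsg.Agent.Lib.FullyRamGroup.relIndex_dvd_index_right (X.subgroupOf K) (H.subgroupOf K)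
  rw [Subgroup.relIndex_subgroupOf hHK] at h1
  rw [Subgroup.inf_relIndex_right] at hd
  exact hd.trans h1

theorem card_mul_relIndex_of_le {H K : Subgroup G} (h : H ≤ K) : Nat.card H * H.relIndex K = Nat.card K := by
  have h1 := Subgroup.card_mul_index (H.subgroupOf K)
  rwa [Nat.card_congr (Subgroup.subgroupOfEquivOfLe h).toEquiv] at h1

/-- A `p`-subgroup of `K` has order dividing that of a subgroup of index prime to `p`. -/
theorem card_dvd_of_index [Finite G] {p : ℕ} (hp : p.Prime) {H K L : Subgroup G} (hHK : H ≤ K) (hL : IsPGroup p L)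
    (hLK : Nat.card L ∣ Nat.card K) (hH : ¬ p ∣ H.relIndex K) : Nat.card L ∣ Nat.card H := by
  haveI : Fact p.Prime := ⟨hp⟩
  obtain ⟨a, ha⟩ := IsPGroup.iff_card.mp hL
  rw [← card_mul_relIndex_of_le hHK, ha] at hLK
  rw [ha]
  exact Nat.Coprime.dvd_of_dvd_mul_right (Nat.Coprime.pow_left a ((Nat.Prime.coprime_iff_not_dvd hp).mpr hH)) hLK

end Aux


/-- Let Q be a tightly embedded subgroup of a finite group G, g an element outside N_G(Q), T a nontrivial Sylow 2-subgroup of Q^g ∩ N_G(Q), and S a Sylow 2-subgroup of QT containing T. Then T ∩ Q = 1, and N_S(T) is the direct product of T and N_S(T) ∩ Q, with N_S(T) ∩ Q isomorphic to T. -/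
theorem result {G : Type*} [Group G] [Finite G] (Q : Subgroup G) (hQ : Cfsg.IsTightlyEmbedded Q)
    (g : G) (hg : g ∉ Subgroup.normalizer (Q : Set G))
    (T : Subgroup G) (hT1 : T ≠ ⊥) (hT : T ≤ Q.map (MulAut.conj g).toMonoidHom ⊓ Subgroup.normalizer (Q : Set G))
    (hTsyl : IsPGroup 2 T ∧ ¬ 2 ∣ T.relIndex (Q.map (MulAut.conj g).toMonoidHom ⊓ Subgroup.normalizer (Q : Set G)))
    (S : Subgroup G) (hTS : T ≤ S) (hS : S ≤ Q ⊔ T) (hSsyl : IsPGroup 2 S ∧ ¬ 2 ∣ S.relIndex (Q ⊔ T)) :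
    T ⊓ Q = ⊥ ∧
      T ⊓ (S ⊓ Subgroup.normalizer (T : Set G) ⊓ Q) = ⊥ ∧
      ⁅T, S ⊓ Subgroup.normalizer (T : Set G) ⊓ Q⁆ = ⊥ ∧
      T ⊔ (S ⊓ Subgroup.normalizer (T : Set G) ⊓ Q) = S ⊓ Subgroup.normalizer (T : Set G) ∧
      Nonempty (↥(S ⊓ Subgroup.normalizer (T : Set G) ⊓ Q) ≃* T) := by
  classical
  have hp2 : Nat.Prime 2 := Nat.prime_two
  set J := Q.map (MulAut.conj g).toMonoidHom with hJ
  have hJmem : ∀ h, h ∈ J ↔ g⁻¹ * h * g ∈ Q := by
    intro h
    constructor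
    · rintro ⟨q, hq, rfl⟩
      have e : g⁻¹ * (MulAut.conj g).toMonoidHom q * g = q := by
        show g⁻¹ * (g * q * g⁻¹) * g = q
        group
      rwa [e]
    · intro h'
      refine ⟨_, h', ?_⟩
      show g * (g⁻¹ * h * g) * g⁻¹ = h
      group
  have h2T : ∀ t ∈ T, ∃ k : ℕ, t ^ 2 ^ k = 1 := fun t ht => by
    obtain ⟨k, hk⟩ := hTsyl.1 ⟨t, ht⟩
    exact ⟨k, by simpa using congrArg Subtype.val hk⟩
  have h2S : ∀ t ∈ S, ∃ k : ℕ, t ^ 2 ^ k = 1 := fun t ht => by
    obtain ⟨k, hk⟩ := hSsyl.1 ⟨t, ht⟩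
    exact ⟨k, by simpa using congrArg Subtype.val hk⟩
  have hTJ : T ≤ J := hT.trans inf_le_left
  have hTN : T ≤ Subgroup.normalizer (Q : Set G) := hT.trans inf_le_right
  have hconjT : ∀ t ∈ T, ∀ q ∈ Q, t * q * t⁻¹ ∈ Q := fun t ht q hq =>
    (Subgroup.mem_normalizer_iff.mp (hTN ht) q).mp hq
  have hQJ : ∀ a, a ∈ Q → a ∈ J → (∃ k : ℕ, a ^ 2 ^ k = 1) → a = 1 := by
    intro a ha haJ h2
    by_contra h1
    exact not_odd_of_two_elt (K := Q ⊓ J) ⟨ha, haJ⟩ h1 h2 (hQ.2 g hg)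
  have h1 : T ⊓ Q = ⊥ := by
    rw [eq_bot_iff]
    rintro t ⟨ht, htQ⟩
    exact Subgroup.mem_bot.mpr (hQJ t htQ (hTJ ht) (h2T t ht))
  have htightJ : ∀ a ∈ J, a ≠ 1 → (∃ k : ℕ, a ^ 2 ^ k = 1) → ∀ x, x * a = a * x →
      x ∈ Subgroup.normalizer (J : Set G) := by
    intro a ha h1a h2a x hx
    have ha' := (hJmem a).mp ha
    have hx' : (g⁻¹ * x * g) * (g⁻¹ * a * g) = (g⁻¹ * a * g) * (g⁻¹ * x * g) := by
      have e1 : (g⁻¹ * x * g) * (g⁻¹ * a * g) = g⁻¹ * (x * a) * g := by group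
      rw [e1, hx]
      group
    have h1' : g⁻¹ * a * g ≠ 1 := by
      intro h
      apply h1a
      have e2 : a = g * (g⁻¹ * a * g) * g⁻¹ := by group
      rw [e2, h]
      group
    have h2' : ∃ k : ℕ, (g⁻¹ * a * g) ^ 2 ^ k = 1 := by
      obtain ⟨k, hk⟩ := h2a
      refine ⟨k, ?_⟩
      have e3 : g⁻¹ * a * g = g⁻¹ * a * g⁻¹⁻¹ := by simp
      rw [e3, conj_pow, hk]
      group
    have hN' := tight_mem_normalizer hQ ha' h1' h2' hx'
    rw [Subgroup.mem_normalizer_iff] at hN' ⊢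
    intro h
    rw [hJmem, hJmem, hN' (g⁻¹ * h * g)]
    have e4 : g⁻¹ * x * g * (g⁻¹ * h * g) * (g⁻¹ * x * g)⁻¹ = g⁻¹ * (x * h * x⁻¹) * g := by group
    rw [e4]
  set R := S ⊓ Subgroup.normalizer (T : Set G) ⊓ Q with hR
  have hRQ : R ≤ Q := inf_le_right
  have hRS : R ≤ S := inf_le_left.trans inf_le_left
  have hRN : R ≤ Subgroup.normalizer (T : Set G) := inf_le_left.trans inf_le_right
  have hcomm : ∀ t ∈ T, ∀ r ∈ R, t * r = r * t := by
    intro t ht r hr
    have h3 : t * r * t⁻¹ * r⁻¹ ∈ T := by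
      have h4 := T.mul_mem ht ((Subgroup.mem_normalizer_iff.mp (hRN hr) t⁻¹).mp (T.inv_mem ht))
      convert h4 using 1
      group
    have h5 : t * r * t⁻¹ * r⁻¹ ∈ Q := Q.mul_mem (hconjT t ht r (hRQ hr)) (Q.inv_mem (hRQ hr))
    have h6 : t * r * t⁻¹ * r⁻¹ ∈ T ⊓ Q := ⟨h3, h5⟩
    rw [h1] at h6
    have h7 := Subgroup.mem_bot.mp h6
    calc t * r = (t * r * t⁻¹ * r⁻¹) * (r * t) := by group
      _ = r * t := by rw [h7, one_mul]
  have hfreeQ : ∀ b ∈ T, b ≠ 1 → ∀ u ∈ S ⊓ Q, u * b = b * u → u ∈ R := by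
    intro b hb hb1 u hu huc
    have huNJ := htightJ b (hTJ hb) hb1 (h2T b hb) u huc
    have hct : ∀ t ∈ T, u * t = t * u := by
      intro t ht
      set c := t * u * t⁻¹ * u⁻¹ with hc
      have hcQ : c ∈ Q := Q.mul_mem (hconjT t ht u hu.2) (Q.inv_mem hu.2)
      have hcJ : c ∈ J := by
        have h4 := J.mul_mem (hTJ ht) ((Subgroup.mem_normalizer_iff.mp huNJ t⁻¹).mp (J.inv_mem (hTJ ht)))
        convert h4 using 1
        rw [hc]
        group
      have hcS : c ∈ S := S.mul_mem (S.mul_mem (S.mul_mem (hTS ht) hu.1) (S.inv_mem (hTS ht))) (S.inv_mem hu.1)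
      have hc1 := hQJ c hcQ hcJ (h2S c hcS)
      calc u * t = c⁻¹ * (t * u) := by
            rw [hc]
            group
        _ = t * u := by rw [hc1]; simp
    refine ⟨⟨hu.1, ?_⟩, hu.2⟩
    show u ∈ Subgroup.normalizer (T : Set G)
    rw [Subgroup.mem_normalizer_iff]
    intro h
    constructor
    · intro hh
      have e : u * h * u⁻¹ = h := by
        rw [hct h hh]
        group
      rwa [e]
    · intro hh
      have h5 := hct _ hh
      have h6 : h = u * h * u⁻¹ := by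
        have h7 : u * h * u⁻¹ * u = u * (u * h * u⁻¹) := h5.symm
        have h8 : u * h = u * (u * h * u⁻¹) := by
          rw [← h7]
          group
        exact mul_left_cancel h8
      rwa [h6]
  have hRNJ : R ≤ Subgroup.normalizer (J : Set G) := by
    intro r hr
    obtain ⟨b, hb⟩ := (Subgroup.ne_bot_iff_exists_ne_one.mp hT1)
    exact htightJ b (hTJ b.2) (fun h => hb (Subtype.ext h)) (h2T b b.2) r (hcomm b b.2 r hr).symm
  have hRT : Nat.card R ≤ Nat.card T := by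
    have hWS : T ⊔ R ≤ S := sup_le hTS hRS
    have hWp : IsPGroup 2 ↥(T ⊔ R) := hSsyl.1.to_le hWS
    have hWK : T ⊔ R ≤ J ⊔ R := sup_le_sup_right hTJ R
    haveI : Fact (Nat.Prime 2) := ⟨hp2⟩
    obtain ⟨X₀, hWX, hXK, hXp, hXi⟩ := exists_sylow_over hWp hWK
    have hKN : J ⊔ R ≤ Subgroup.normalizer (J : Set G) := sup_le Subgroup.le_normalizer hRNJ
    set Y := X₀ ⊓ J with hY
    have hTY : T ≤ Y := le_inf (le_sup_left.trans hWX) hTJ
    have hRX : R ≤ X₀ := le_sup_right.trans hWX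
    have hYi : ¬ 2 ∣ Y.relIndex J := inf_index le_sup_left hKN hXi
    by_cases hTYe : T = Y
    · have hTi : ¬ 2 ∣ T.relIndex J := by
        rw [hTYe]
        exact hYi
      have hQJc : Nat.card J = Nat.card Q := Subgroup.card_map_of_injective (MulEquiv.injective _)
      have hd := card_dvd_of_index hp2 hTJ (hSsyl.1.to_le hRS) (by
        rw [hQJc]
        exact Subgroup.card_dvd_of_le hRQ) hTi
      exact Nat.le_of_dvd Nat.card_pos hd
    · obtain ⟨f, hf⟩ := psi_lemma (p := 2) (X := X₀) (Y := Y) (A := R) (B := T) hXp inf_le_left hRX hTY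
        (by
          intro s hs
          obtain ⟨q, hq, a, ha, rfl⟩ := exists_mul_of_sup hRNJ (hXK hs)
          refine ⟨q, ⟨?_, hq⟩, a, ha, rfl⟩
          have := X₀.mul_mem hs (X₀.inv_mem (hRX ha))
          simpa using this)
        (by
          intro r hr y hy
          exact ⟨X₀.mul_mem (X₀.mul_mem (hRX hr) hy.1) (X₀.inv_mem (hRX hr)),
            (Subgroup.mem_normalizer_iff.mp (hRNJ hr) y).mp hy.2⟩)
        (by
          intro r hr hrY
          obtain ⟨k, hk⟩ := h2S r (hRS hr)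
          exact hQJ r (hRQ hr) hrY.2 ⟨k, hk⟩)
        (fun r hr t ht => (hcomm t ht r hr).symm)
        (by
          intro r hr hr1 y hy hyr
          have h2r : ∃ k : ℕ, r ^ 2 ^ k = 1 := h2S r (hRS hr)
          let U : Subgroup G := Y ⊓ Subgroup.centralizer ({r} : Set G)
          have hyU : y ∈ U := ⟨hy, Subgroup.mem_centralizer_singleton_iff.mpr hyr⟩
          have hTU : T ≤ U := le_inf hTY (fun t ht => Subgroup.mem_centralizer_singleton_iff.mpr (hcomm t ht r hr))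
          have hUL : U ≤ J ⊓ Subgroup.normalizer (Q : Set G) := by
            intro u hu
            refine ⟨hu.1.2, tight_mem_normalizer hQ (hRQ hr) hr1 h2r ?_⟩
            exact Subgroup.mem_centralizer_singleton_iff.mp hu.2
          have hd : T.relIndex U ∣ T.relIndex (J ⊓ Subgroup.normalizer (Q : Set G)) := by
            rw [← Subgroup.relIndex_mul_relIndex T U _ hTU hUL]
            exact dvd_mul_right _ _
          have hUp : IsPGroup 2 U := hXp.to_le (inf_le_left.trans inf_le_left)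
          obtain ⟨a, ha⟩ := IsPGroup.iff_card.mp hUp
          have hd2 : T.relIndex U ∣ 2 ^ a := by
            rw [← ha, ← card_mul_relIndex_of_le hTU]
            exact dvd_mul_left _ _
          obtain ⟨j, -, hj⟩ := (Nat.dvd_prime_pow hp2).mp hd2
          have hj0 : j = 0 := by
            by_contra hne
            apply hTsyl.2
            rw [hj] at hd
            exact (dvd_pow_self 2 hne).trans hd
          have h1' : T.relIndex U = 1 := by
            rw [hj, hj0, pow_zero]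
          exact Subgroup.relIndex_eq_one.mp h1' hyU)
        hTYe
      exact Nat.card_le_card_of_injective f hf
  refine ⟨h1, ?_, ?_, ?_, ?_⟩
  · rw [eq_bot_iff]
    rintro t ⟨ht, htR⟩
    have h6 : t ∈ T ⊓ Q := ⟨ht, hRQ htR⟩
    rwa [h1] at h6
  · rw [eq_bot_iff, Subgroup.commutator_le]
    intro t ht r hr
    rw [Subgroup.mem_bot, commutatorElement_eq_one_iff_mul_comm]
    exact hcomm t ht r hr
  · refine le_antisymm (sup_le (le_inf hTS Subgroup.le_normalizer) inf_le_left) ?_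
    rintro s ⟨hsS, hsN⟩
    obtain ⟨q, hq, t, ht, rfl⟩ := exists_mul_of_sup hTN (hS hsS)
    have hqR : q ∈ R := by
      have e : q = q * t * t⁻¹ := by group
      refine ⟨⟨?_, ?_⟩, hq⟩
      · rw [e]
        exact S.mul_mem hsS (S.inv_mem (hTS ht))
      · show q ∈ Subgroup.normalizer (T : Set G)
        have hsN' : q * t ∈ Subgroup.normalizer (T : Set G) := hsN
        rw [e]
        exact Subgroup.mul_mem _ hsN' (Subgroup.inv_mem _ (Subgroup.le_normalizer ht))
    exact mul_mem (Subgroup.mem_sup_right hqR) (Subgroup.mem_sup_left ht)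
  · haveI : Fact (Nat.Prime 2) := ⟨hp2⟩
    by_cases hRe : R = S ⊓ Q
    · have hRi : ¬ 2 ∣ R.relIndex Q := by
        rw [hRe]
        exact inf_index le_sup_left (sup_le Subgroup.le_normalizer hTN) hSsyl.2
      set T' := T.map (MulAut.conj g⁻¹).toMonoidHom with hT'
      have hT'Q : T' ≤ Q := by
        rintro _ ⟨t, ht, rfl⟩
        have := (hJmem t).mp (hTJ ht)
        simpa using this
      have hT'c : Nat.card T' = Nat.card T := Subgroup.card_map_of_injective (MulEquiv.injective _)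
      have hT'p : IsPGroup 2 T' := hTsyl.1.map _
      have hRp : IsPGroup 2 R := hSsyl.1.to_le hRS
      have hle : Nat.card T' ≤ Nat.card R :=
        Nat.le_of_dvd Nat.card_pos (card_dvd_of_index hp2 hRQ hT'p (Subgroup.card_dvd_of_le hT'Q) hRi)
      have heq : Nat.card T' = Nat.card R := le_antisymm hle (by rw [hT'c]; exact hRT)
      have hT'i : ¬ 2 ∣ T'.relIndex Q := by
        have e : T'.relIndex Q = R.relIndex Q := by
          have e1 := card_mul_relIndex_of_le hT'Q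
          have e2 := card_mul_relIndex_of_le hRQ
          rw [heq] at e1
          exact Nat.eq_of_mul_eq_mul_left Nat.card_pos (e1.trans e2.symm)
        rw [e]
        exact hRi
      have hA₁ : IsPGroup 2 (R.subgroupOf Q) := hRp.comap_of_injective Q.subtype Subtype.coe_injective
      have hA₂ : IsPGroup 2 (T'.subgroupOf Q) := hT'p.comap_of_injective Q.subtype Subtype.coe_injective
      let P₁ : Sylow 2 Q := hA₁.toSylow hRi
      let P₂ : Sylow 2 Q := hA₂.toSylow hT'i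
      have e₀ : (R.subgroupOf Q) ≃* (T'.subgroupOf Q) := Sylow.equiv P₁ P₂
      have e₁ : R ≃* (R.subgroupOf Q) := (Subgroup.subgroupOfEquivOfLe hRQ).symm
      have e₂ : (T'.subgroupOf Q) ≃* T' := Subgroup.subgroupOfEquivOfLe hT'Q
      have e₃ : T ≃* T' := Subgroup.equivMapOfInjective T _ (MulEquiv.injective _)
      exact ⟨e₁.trans (e₀.trans (e₂.trans e₃.symm))⟩
    · obtain ⟨f, hf⟩ := psi_lemma (p := 2) (X := S) (Y := S ⊓ Q) (A := T) (B := R) hSsyl.1 inf_le_left hTS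
        (le_inf hRS hRQ)
        (by
          intro s hs
          obtain ⟨q, hq, a, ha, rfl⟩ := exists_mul_of_sup hTN (hS hs)
          refine ⟨q, ⟨?_, hq⟩, a, ha, rfl⟩
          have := S.mul_mem hs (S.inv_mem (hTS ha))
          simpa using this)
        (by
          intro t ht y hy
          exact ⟨S.mul_mem (S.mul_mem (hTS ht) hy.1) (S.inv_mem (hTS ht)), hconjT t ht y hy.2⟩)
        (by
          intro t ht htY
          have h6 : t ∈ T ⊓ Q := ⟨ht, htY.2⟩
          rw [h1] at h6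
          exact Subgroup.mem_bot.mp h6)
        hcomm
        (fun t ht ht1 y hy hyt => hfreeQ t ht ht1 y hy hyt)
        hRe
      have hbij := Function.Injective.bijective_of_nat_card_le hf hRT
      exact ⟨(MulEquiv.ofBijective f hbij).symm⟩

end Cfsg.Agent.S1910
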