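import Mathlib
import Cfsg.Statements.S1914
import Cfsg.Agent.Lib.CycFourL
import Cfsg.Agent.Lib.LocalBalance

set_option autoImplicit false
open Cfsg

namespace Cfsg.Agent.S1914

open Cfsg.Agent.Lib


/-- Let A be a semisimple subgroup (a central product of quasisimple groups, A = E(A)) of a finite group and t an involution normalizing A such that the Sylow 2-subgroups of C_A(t) are cyclic of order 4. Then A has 2-rank exactly 1. -/
theorem result {G : Type*} [Group G] [Finite G] (A : Subgroup G) (hA : Cfsg.layer ↥A = ⊤)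
    (t : G) (ht : orderOf t = 2) (htA : t ∈ Subgroup.normalizer (A : Set G))
    (hC : ∀ R : Sylow 2 ↥(A ⊓ Subgroup.centralizer ({t} : Set G)), IsCyclic R ∧ Nat.card R = 4) :
    Cfsg.PRankLE 2 1 A ∧ ¬ Cfsg.PRankLE 2 0 A := by

  classical
  haveI : Fact (Nat.Prime 2) := ⟨Nat.prime_two⟩
  have htt : t * t = 1 := by
    have := pow_orderOf_eq_one t
    rwa [ht, pow_two] at this
  have htne : t ≠ 1 := by
    rintro rfl
    simp at ht
  have htinv : t⁻¹ = t := inv_eq_of_mul_eq_one_left htt
  have hmemC : ∀ x, x ∈ A ⊓ Subgroup.centralizer ({t} : Set G) ↔ x ∈ A ∧ x * t = t * x := by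
    intro x
    rw [Subgroup.mem_inf, Subgroup.mem_centralizer_iff]
    constructor
    · rintro ⟨h2, h3⟩
      exact ⟨h2, (h3 t rfl).symm⟩
    · rintro ⟨h2, h3⟩
      refine ⟨h2, ?_⟩
      rintro _ rfl
      exact h3.symm
  -- an element of order four
  obtain ⟨u, huA, hut, hu4⟩ : ∃ u ∈ A, u * t = t * u ∧ orderOf u = 4 := by
    obtain ⟨R⟩ : Nonempty (Sylow 2 ↥(A ⊓ Subgroup.centralizer ({t} : Set G))) := inferInstance
    obtain ⟨h1, h2⟩ := hC R
    obtain ⟨g₀, hg₀⟩ := h1.exists_generator
    have h3 : orderOf g₀ = 4 := by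
      rw [orderOf_eq_card_of_forall_mem_zpowers hg₀, h2]
    have h4 := (hmemC _).mp ((g₀ : ↥(A ⊓ Subgroup.centralizer ({t} : Set G))).2)
    refine ⟨_, h4.1, h4.2, ?_⟩
    rw [Subgroup.orderOf_coe, Subgroup.orderOf_coe]
    exact h3
  -- the bound on `2`-subgroups commuting with `t`
  have hG2 : ∀ P : Subgroup G, P ≤ A → IsPGroup 2 P → (∀ p ∈ P, p * t = t * p) → Nat.card P ≤ 4 := by
    intro P hPA hP2 hPc
    have hPC : P ≤ A ⊓ Subgroup.centralizer ({t} : Set G) := fun p hp => (hmemC p).mpr ⟨hPA hp, hPc p hp⟩
    have hP' : IsPGroup 2 (P.subgroupOf (A ⊓ Subgroup.centralizer ({t} : Set G))) :=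
      hP2.of_equiv (Subgroup.subgroupOfEquivOfLe hPC).symm
    obtain ⟨R, hR⟩ := hP'.exists_le_sylow
    rw [← Nat.card_congr (Subgroup.subgroupOfEquivOfLe hPC).toEquiv, ← (hC R).2]
    exact Subgroup.card_le_of_le hR
  have hz2 : (u * u) * (u * u) = 1 := by
    have : u ^ 4 = 1 := by rw [← hu4]; exact pow_orderOf_eq_one u
    calc (u * u) * (u * u) = u ^ 4 := by simp only [pow_succ, pow_zero, one_mul, mul_assoc]
      _ = 1 := this
  have hzne : u * u ≠ 1 := by
    intro h1
    have h2 : orderOf u ∣ 2 := orderOf_dvd_of_pow_eq_one (by rw [pow_two]; exact h1)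
    rw [hu4] at h2
    omega
  -- the key statement
  have hKey : ∀ E' : Subgroup G, E' ≤ A → (∀ e ∈ E', e * e = 1) →
      ∃ h ∈ A, ∀ e ∈ E', e = 1 ∨ e = h⁻¹ * (u * u) * h := by
    intro E' hE'A hE'
    have hE'2 : IsPGroup 2 E' := by
      intro e
      refine ⟨1, ?_⟩
      apply Subtype.ext
      simpa [pow_two] using hE' e e.2
    by_cases htA' : t ∈ A
    · -- `t` lies in `A`
      have hTA : Subgroup.zpowers u ≤ A := by
        rw [Subgroup.zpowers_le]; exact huA
      have hTt : ∀ x ∈ Subgroup.zpowers u, x * t = t * x := by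
        intro x hx
        obtain ⟨i, rfl⟩ := Subgroup.mem_zpowers_iff.mp hx
        exact ((show Commute u t from hut).zpow_left i)
      have hcT : Nat.card (Subgroup.zpowers u) = 4 := by rw [Nat.card_zpowers, hu4]
      have htT : t ∈ Subgroup.zpowers u := by
        by_contra hcon
        obtain ⟨Q, hQ1, hQ2, hQ3, hQ4⟩ := CycFourC.mk2 (Subgroup.zpowers u) t (by
          intro x hx
          have : t * x * t⁻¹ = x := by
            rw [← hTt x hx]; group
          rwa [this]) (by rw [htt]; exact Subgroup.one_mem _) hcon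
        rw [hcT] at hQ2
        have hQ2g : IsPGroup 2 Q := IsPGroup.of_card (n := 3) (by rw [hQ2]; norm_num)
        have hQc := hG2 Q (by
          intro x hx
          rcases (hQ1 x).mp hx with h1 | h1
          · exact hTA h1
          · have := A.mul_mem (hTA h1) htA'
            simpa using this) hQ2g (by
          intro p hp
          rcases (hQ1 p).mp hp with h1 | h1
          · exact hTt p h1
          · have h2 := hTt _ h1
            calc p * t = (p * t⁻¹) * t * t := by group
              _ = t * (p * t⁻¹) * t := by rw [h2]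
              _ = t * p := by group)
        omega
      have htz : t = u * u := by
        rcases CycFourC.invol_zpowers hu4 htT htt with h1 | h1
        · exact absurd h1 htne
        · exact h1
      have hT2 : IsPGroup 2 (Subgroup.zpowers u) :=
        IsPGroup.of_card (n := 2) (by rw [hcT]; norm_num)
      have hT' : IsPGroup 2 ((Subgroup.zpowers u).subgroupOf A) :=
        hT2.of_equiv (Subgroup.subgroupOfEquivOfLe hTA).symm
      obtain ⟨S₀, hS₀⟩ := hT'.exists_le_sylow
      set S₁ : Subgroup G := (S₀ : Subgroup A).map A.subtype with hS₁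
      have hS₁A : S₁ ≤ A := Subgroup.map_subtype_le _
      have hS₁2 : IsPGroup 2 S₁ := S₀.isPGroup'.map A.subtype
      have hTS₁ : Subgroup.zpowers u ≤ S₁ := by
        intro x hx
        exact ⟨⟨x, hTA hx⟩, hS₀ hx, rfl⟩
      have hTeq : Subgroup.zpowers u = S₁ := by
        by_contra hne
        obtain ⟨x, hxS, hxT, hxn⟩ := CycFourC.normalizer_grows S₁ _ hS₁2 hTS₁ hne
        have hxt : x * t = t * x := by
          have h1 := hxn t htT
          have h2 : (x * t * x⁻¹) * (x * t * x⁻¹) = 1 := by
            calc (x * t * x⁻¹) * (x * t * x⁻¹) = x * (t * t) * x⁻¹ := by group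
              _ = 1 := by rw [htt]; group
          rcases CycFourC.invol_zpowers hu4 h1 h2 with h3 | h3
          · exfalso
            apply htne
            have h4 : t = x⁻¹ * (x * t * x⁻¹) * x := by group
            rw [h4, h3]; group
          · rw [← htz] at h3
            calc x * t = x * t * x⁻¹ * x := by group
              _ = t * x := by rw [h3]
        let N : Subgroup G := S₁ ⊓ Subgroup.centralizer ({t} : Set G)
        have hNmem : ∀ x, x ∈ N ↔ x ∈ S₁ ∧ x * t = t * x := by
          intro x
          rw [Subgroup.mem_inf, Subgroup.mem_centralizer_iff]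
          constructor
          · rintro ⟨h2, h3⟩
            exact ⟨h2, (h3 t rfl).symm⟩
          · rintro ⟨h2, h3⟩
            refine ⟨h2, ?_⟩
            rintro _ rfl
            exact h3.symm
        have hN4 : Nat.card N ≤ 4 := hG2 N (le_trans inf_le_left hS₁A) (hS₁2.to_le inf_le_left)
          (fun p hp => ((hNmem p).mp hp).2)
        have hTN : Subgroup.zpowers u ≤ N := fun y hy => (hNmem y).mpr ⟨hTS₁ hy, hTt y hy⟩
        have hEq := Subgroup.eq_of_le_of_card_ge hTN (by rw [hcT]; exact hN4)
        apply hxT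
        rw [hEq]
        exact (hNmem x).mpr ⟨hxS, hxt⟩
      have hodd : ¬ 2 ∣ (Subgroup.zpowers u).relIndex A := by
        rw [hTeq]
        have h1 : S₁.relIndex A = (S₀ : Subgroup A).index := by
          change (S₁.subgroupOf A).index = _
          congr 1
          ext x
          rw [Subgroup.mem_subgroupOf, hS₁]
          constructor
          · rintro ⟨y, hy, hxy⟩
            have : y = x := Subtype.ext hxy
            rwa [← this]
          · intro hx
            exact ⟨x, hx, rfl⟩
        rw [h1]
        exact S₀.not_dvd_index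
      obtain ⟨h, hhA, hh⟩ := CycFourA.conj_into A (Subgroup.zpowers u) E' hTA hT2 hodd hE'A hE'2
      refine ⟨h, hhA, ?_⟩
      intro e he
      have h1 : (h * e * h⁻¹) * (h * e * h⁻¹) = 1 := by
        calc (h * e * h⁻¹) * (h * e * h⁻¹) = h * (e * e) * h⁻¹ := by group
          _ = 1 := by rw [hE' e he]; group
      rcases CycFourC.invol_zpowers hu4 (hh e he) h1 with h2 | h2
      · left
        have h3 : e = h⁻¹ * (h * e * h⁻¹) * h := by group
        rw [h3, h2]; group
      · right
        rw [← h2]; group
    · -- `t` lies outside `A`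
      have htN : ∀ x ∈ A, t * x * t⁻¹ ∈ A := fun x hx =>
        (Subgroup.mem_normalizer_iff.mp htA x).mp hx
      obtain ⟨Q, hQ1, hQ2, hQ3, hQ4⟩ := CycFourC.mk2 A t htN (by rw [htt]; exact A.one_mem) htA'
      let L : Subgroup Q := A.subgroupOf Q
      have hLi : L.index = 2 := by
        have h1 := Subgroup.card_mul_index L
        have h2 : Nat.card L = Nat.card A :=
          Nat.card_congr (Subgroup.subgroupOfEquivOfLe hQ3).toEquiv
        rw [h2, hQ2] at h1
        have h3 : 0 < Nat.card A := Nat.card_pos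
        have h4 : Nat.card A * L.index = Nat.card A * 2 := by rw [h1]; ring
        exact Nat.eq_of_mul_eq_mul_left h3 h4
      have hLn : L.Normal := Subgroup.normal_of_index_eq_two hLi
      let t' : Q := ⟨t, hQ4⟩
      have ht' : t' * t' = 1 := Subtype.ext htt
      have ht'L : t' ∉ L := htA'
      have hcA : commutator A = ⊤ := by
        have h1 := Cfsg.Agent.Lib.LocalBalance.layer_perfect (X := A)
        rw [hA] at h1
        exact h1
      have hperf : commutator L = ⊤ := by
        let e : A ≃* L := (Subgroup.subgroupOfEquivOfLe hQ3).symm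
        have h2 : (⊤ : Subgroup A).map e.toMonoidHom = ⊤ :=
          Subgroup.map_top_of_surjective _ e.surjective
        have h1 := Subgroup.map_commutator (⊤ : Subgroup A) ⊤ e.toMonoidHom
        have h3 : ⁅(⊤ : Subgroup A), (⊤ : Subgroup A)⁆ = ⊤ := hcA
        rw [h3, h2] at h1
        exact h1.symm
      let u' : Q := ⟨u, hQ3 huA⟩
      have hu'L : u' ∈ L := huA
      have hu't : u' * t' = t' * u' := Subtype.ext hut
      have hu'4 : orderOf u' = 4 := by
        rw [Subgroup.orderOf_mk]; exact hu4
      have hG2' : ∀ P : Subgroup Q, P ≤ L → IsPGroup 2 P → (∀ p ∈ P, p * t' = t' * p) →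
          Nat.card P ≤ 4 := by
        intro P hPL hP2 hPc
        have h1 : Nat.card (P.map Q.subtype) = Nat.card P :=
          Nat.card_congr (Subgroup.equivMapOfInjective _ _ Q.subtype_injective).symm.toEquiv
        rw [← h1]
        apply hG2
        · rintro _ ⟨p, hp, rfl⟩
          exact hPL hp
        · exact hP2.map Q.subtype
        · rintro _ ⟨p, hp, rfl⟩
          exact congrArg Subtype.val (hPc p hp)
      obtain ⟨h, hhL, hh⟩ := CycFourC.lemmaM L hLn hLi t' ht' ht'L hperf u' hu'L hu't hu'4 hG2'
        (E'.subgroupOf Q) (fun e he => hE'A he) (fun e he => Subtype.ext (hE' _ he))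
      refine ⟨h, hhL, ?_⟩
      intro e he
      have he' : (⟨e, hQ3 (hE'A he)⟩ : Q) ∈ E'.subgroupOf Q := he
      rcases hh _ he' with h1 | h1
      · left
        exact congrArg Subtype.val h1
      · right
        exact congrArg Subtype.val h1
  constructor
  · intro E _ hE
    set E' : Subgroup G := E.map A.subtype with hE'def
    have hE'A : E' ≤ A := Subgroup.map_subtype_le _
    have hE' : ∀ e ∈ E', e * e = 1 := by
      rintro _ ⟨x, hx, rfl⟩
      have := congrArg Subtype.val (hE x hx)
      simpa [pow_two] using this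
    obtain ⟨h, hhA, hh⟩ := hKey E' hE'A hE'
    have hmem : h⁻¹ * (u * u) * h ∈ A := A.mul_mem (A.mul_mem (A.inv_mem hhA) (A.mul_mem huA huA)) hhA
    let e₀ : A := ⟨h⁻¹ * (u * u) * h, hmem⟩
    have he₀ : e₀ ^ 2 = 1 := by
      apply Subtype.ext
      change (h⁻¹ * (u * u) * h) ^ 2 = 1
      rw [pow_two]
      calc h⁻¹ * (u * u) * h * (h⁻¹ * (u * u) * h) = h⁻¹ * ((u * u) * (u * u)) * h := by group
        _ = 1 := by rw [hz2]; group
    have hle : E ≤ Subgroup.zpowers e₀ := by
      intro x hx
      rcases hh x ⟨x, hx, rfl⟩ with h1 | h1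
      · have : x = 1 := Subtype.ext h1
        rw [this]
        exact Subgroup.one_mem _
      · have : x = e₀ := Subtype.ext h1
        rw [this]
        exact Subgroup.mem_zpowers e₀
    have h2 := Subgroup.card_le_of_le hle
    rw [Nat.card_zpowers] at h2
    have h3 := orderOf_le_of_pow_eq_one (by norm_num) he₀
    simpa using le_trans h2 h3
  · intro hcon
    let z₀ : A := ⟨u * u, A.mul_mem huA huA⟩
    have hz₀ : z₀ * z₀ = 1 := Subtype.ext hz2
    have hz₀ne : z₀ ≠ 1 := fun h1 => hzne (congrArg Subtype.val h1)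
    have hord : orderOf z₀ = 2 := orderOf_eq_prime (by rw [pow_two]; exact hz₀) hz₀ne
    have h1 := hcon (Subgroup.zpowers z₀) inferInstance (by
      intro a ha
      obtain ⟨i, rfl⟩ := Subgroup.mem_zpowers_iff.mp ha
      rw [pow_two, ← zpow_add, ← two_mul, zpow_mul, zpow_two, hz₀, one_zpow])
    rw [Nat.card_zpowers, hord] at h1
    omega

end Cfsg.Agent.S1914
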