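import Cfsg.Statements.S1915
import Cfsg.Agent.Lib.KleinRankOne2
import Cfsg.Agent.Lib.LocalCore
-- import your own Cfsg.Agent.* helpers here

set_option autoImplicit false
open Cfsg

namespace Cfsg.Agent.S1915

open Cfsg.Agent.Lib.LocalCore in
/-- A group equal to its layer has no subgroup of index 2. -/
theorem no_index_two {X : Type*} [Group X] (hA : Cfsg.layer X = ⊤) (H : Subgroup X) :
    H.index ≠ 2 := by
  intro h
  have key := fun x y : X => Subgroup.mul_mem_iff_of_index_two h (a := x) (b := y)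
  have hcomm : ⁅(⊤ : Subgroup X), (⊤ : Subgroup X)⁆ ≤ H := by
    rw [Subgroup.commutator_le]
    intro x _ y _
    show x * y * x⁻¹ * y⁻¹ ∈ H
    simp only [key, inv_mem_iff]
    tauto
  have hle : Cfsg.layer X ≤ H := by
    apply sSup_le
    intro L hL
    have h1 : ⁅L, L⁆ = L := comp_perfect hL
    rw [← h1]
    exact (Subgroup.commutator_mono le_top le_top).trans hcomm
  rw [hA] at hle
  have : H = ⊤ := top_le_iff.mp hle
  rw [this, Subgroup.index_top] at h
  omega

/-- Commuting involutions agree in a group of 2-rank at most one. -/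
theorem eq_of_commute_of_prank {X : Type*} [Group X] [Finite X] (hr : Cfsg.PRankLE 2 1 X) {a b : X}
    (ha : a ^ 2 = 1) (hb : b ^ 2 = 1) (ha1 : a ≠ 1) (hb1 : b ≠ 1) (hab : a * b = b * a) :
    a = b := by
  classical
  by_contra hne
  let C : Subgroup X := Subgroup.closure {a, b}
  have hcomm : ∀ x ∈ ({a, b} : Set X), ∀ y ∈ ({a, b} : Set X), x * y = y * x := by
    rintro x (rfl | rfl) y (rfl | rfl)
    · rfl
    · exact hab
    · exact hab.symm
    · rfl
  have hC : IsMulCommutative C := Subgroup.isMulCommutative_closure hcomm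
  have hexp := Cfsg.Agent.Lib.KleinRankOne.closure_pair_exp a b ha hb hab
  have hcard := hr C hC hexp
  haveI : Fintype C := Fintype.ofFinite C
  have h3 : 3 ≤ Nat.card C := by
    rw [Nat.card_eq_fintype_card]
    have hs : ({1, ⟨a, Subgroup.subset_closure (Or.inl rfl)⟩,
        ⟨b, Subgroup.subset_closure (Or.inr rfl)⟩} : Finset C).card = 3 := by
      rw [Finset.card_eq_three]
      refine ⟨_, _, _, ?_, ?_, ?_, rfl⟩
      · intro h; exact ha1 (congrArg Subtype.val h).symm
      · intro h; exact hb1 (congrArg Subtype.val h).symm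
      · intro h; exact hne (congrArg Subtype.val h)
    rw [← hs]
    exact Finset.card_le_univ _
  omega

/-- Rank one from agreement of commuting involutions. -/
theorem prank_of_unique {X : Type*} [Group X] [Finite X]
    (h : ∀ a b : X, a ^ 2 = 1 → b ^ 2 = 1 → a ≠ 1 → b ≠ 1 → a * b = b * a → a = b) :
    Cfsg.PRankLE 2 1 X := by
  classical
  intro E hE hE2
  by_contra hgt
  haveI : Fintype E := Fintype.ofFinite E
  have hc : 2 < Fintype.card E := by
    rw [← Nat.card_eq_fintype_card]
    simpa using hgt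
  obtain ⟨x, y, z, hxy, hxz, hyz⟩ := Fintype.two_lt_card_iff.mp hc
  have hcomm : ∀ p q : E, (p : X) * q = q * p := fun p q => by
    have := hE.is_comm.comm p q
    exact congrArg Subtype.val this
  have hone : ∀ p : E, p ≠ 1 → (p : X) ≠ 1 := fun p hp h0 => hp (Subtype.ext h0)
  have hkey : ∀ p q : E, p ≠ 1 → q ≠ 1 → p ≠ q → False := fun p q hp hq hpq =>
    hpq (Subtype.ext (h p q (hE2 p p.2) (hE2 q q.2) (hone p hp) (hone q hq) (hcomm p q)))
  by_cases hx : x = 1
  · subst hx
    exact hkey y z (Ne.symm hxy) (Ne.symm hxz) hyz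
  · by_cases hy : y = 1
    · subst hy
      exact hkey x z hx (Ne.symm hyz) hxz
    · exact hkey x y hx hy hxy


/-- Let A be a semisimple subgroup (A = E(A)) of a finite group and U a Klein four-group normalizing A. If the subgroup of A generated by the normalizers N_A(V) of the nontrivial subgroups V of U has 2-rank exactly 1, then A has 2-rank exactly 1. -/
theorem result {G : Type*} [Group G] [Finite G] (A : Subgroup G) (hA : Cfsg.layer ↥A = ⊤)
    (U : Subgroup G) (hU : IsKleinFour U) (hUA : U ≤ Subgroup.normalizer (A : Set G))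
    (hΓ : Cfsg.PRankLE 2 1 ↥(⨆ V : {V : Subgroup G // V ≤ U ∧ V ≠ ⊥}, A ⊓ Subgroup.normalizer ((V : Subgroup G) : Set G)) ∧
      ¬ Cfsg.PRankLE 2 0 ↥(⨆ V : {V : Subgroup G // V ≤ U ∧ V ≠ ⊥}, A ⊓ Subgroup.normalizer ((V : Subgroup G) : Set G))) :
    Cfsg.PRankLE 2 1 A ∧ ¬ Cfsg.PRankLE 2 0 A := by
  classical
  obtain ⟨hΓ1, hΓ0⟩ := hΓ
  have hU4 : Nat.card U = 4 := hU.card_four
  have hU2 : ∀ u ∈ U, u ^ 2 = 1 := by
    intro u hu
    have h1 := Monoid.pow_exponent_eq_one (⟨u, hu⟩ : U)
    rw [hU.exponent_two] at h1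
    simpa using congrArg Subtype.val h1
  set Γ := ⨆ V : {V : Subgroup G // V ≤ U ∧ V ≠ ⊥},
    A ⊓ Subgroup.normalizer ((V : Subgroup G) : Set G) with hΓdef
  have hΓA : Γ ≤ A := iSup_le fun V => inf_le_left
  have hno : ∀ H : Subgroup A, H.index ≠ 2 := fun H => no_index_two hA H
  have hR : ∀ u ∈ U, u ≠ 1 → ∀ a ∈ A, ∀ b ∈ A, a ^ 2 = 1 → b ^ 2 = 1 → a ≠ 1 → b ≠ 1 →
      a * b = b * a → a * u = u * a → b * u = u * b → a = b := by
    intro u hu hu1 a ha b hb ha2 hb2 ha1 hb1 hab hau hbu
    let V : {V : Subgroup G // V ≤ U ∧ V ≠ ⊥} := ⟨Subgroup.zpowers u, by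
      refine ⟨(Subgroup.zpowers_le).mpr hu, ?_⟩
      intro h
      exact hu1 (Subgroup.zpowers_eq_bot.mp h)⟩
    have hmem : ∀ x ∈ A, x * u = u * x → x ∈ Γ := by
      intro x hx hxu
      refine (le_iSup (fun V : {V : Subgroup G // V ≤ U ∧ V ≠ ⊥} =>
        A ⊓ Subgroup.normalizer ((V : Subgroup G) : Set G)) V) ⟨hx, ?_⟩
      show x ∈ Subgroup.normalizer ((Subgroup.zpowers u : Subgroup G) : Set G)
      rw [Subgroup.mem_normalizer_iff]
      intro y
      constructor
      · intro hy
        obtain ⟨k, rfl⟩ := Subgroup.mem_zpowers_iff.mp hy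
        have h1 : Commute x (u ^ k) := (show Commute x u from hxu).zpow_right k
        rw [h1.eq, mul_inv_cancel_right]
        exact hy
      · intro hy
        obtain ⟨k, hk⟩ := Subgroup.mem_zpowers_iff.mp hy
        have h1 : Commute x (u ^ k) := (show Commute x u from hxu).zpow_right k
        have h2 : y = x⁻¹ * u ^ k * x := by rw [hk]; group
        rw [h2, mul_assoc, h1.symm.eq, inv_mul_cancel_left]
        exact Subgroup.zpow_mem_zpowers u k
    have h := eq_of_commute_of_prank hΓ1 (a := ⟨a, hmem a ha hau⟩) (b := ⟨b, hmem b hb hbu⟩)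
      (Subtype.ext (by simpa using ha2)) (Subtype.ext (by simpa using hb2))
      (fun h0 => ha1 (congrArg Subtype.val h0)) (fun h0 => hb1 (congrArg Subtype.val h0))
      (Subtype.ext hab)
    exact congrArg Subtype.val h
  constructor
  · apply prank_of_unique
    intro a b ha2 hb2 ha1 hb1 hab
    apply Subtype.ext
    exact Cfsg.Agent.Lib.KleinRankOne.commuting_eq A U hUA hU4 hU2 hno hR a b a.2 b.2
      (by simpa using congrArg Subtype.val ha2) (by simpa using congrArg Subtype.val hb2)
      (fun h0 => ha1 (Subtype.ext h0)) (fun h0 => hb1 (Subtype.ext h0))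
      (congrArg Subtype.val hab)
  · intro h0
    apply hΓ0
    intro E hE hE2
    by_contra hgt
    have hgt' : 1 < Nat.card E := by simpa using hgt
    obtain ⟨e, he⟩ : ∃ e : E, e ≠ 1 := by
      haveI : Nontrivial E := Finite.one_lt_card_iff_nontrivial.mp hgt'
      exact exists_ne 1
    have he1 : ((e : Γ) : G) ≠ 1 := fun h1 => he (Subtype.ext (Subtype.ext h1))
    have he2 : ((e : Γ) : G) ^ 2 = 1 := by
      simpa using congrArg Subtype.val (hE2 e e.2)
    let a : A := ⟨((e : Γ) : G), hΓA (e : Γ).2⟩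
    have ha2 : a ^ 2 = 1 := Subtype.ext (by simpa using he2)
    have ha1 : a ≠ 1 := fun h1 => he1 (congrArg Subtype.val h1)
    have hord : orderOf a = 2 := orderOf_eq_prime ha2 ha1
    have hc := h0 (Subgroup.zpowers a) inferInstance (by
      intro x hx
      obtain ⟨k, rfl⟩ := Subgroup.mem_zpowers_iff.mp hx
      rw [← zpow_natCast, ← zpow_mul, mul_comm, zpow_mul, zpow_natCast, ha2, one_zpow])
    rw [Nat.card_zpowers, hord] at hc
    omega

end Cfsg.Agent.S1915
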