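import Mathlib
import Cfsg.Statements.S1921
import Cfsg.Agent.Lib.LocalCore

set_option autoImplicit false
open Cfsg

namespace Cfsg.Agent.S1921

/-- Let a be an involution of a finite group H and L a component of H with a L a⁻¹ ≠ L; put M = ⟨L, aLa⁻¹⟩ and let J be the subgroup generated by the elements x · a x a⁻¹ with x ∈ L (the diagonal). Then every element of M outside J·Z(M) generates M together with J. -/
theorem result {H : Type*} [Group H] [Finite H] (a : H) (ha : orderOf a = 2) (L : Subgroup H) (hL : Cfsg.IsComponent L)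
    (hLa : L.map (MulAut.conj a).toMonoidHom ≠ L) (x : H) (hxM : x ∈ L ⊔ L.map (MulAut.conj a).toMonoidHom)
    (hxJ : x ∉ Subgroup.closure {y : H | ∃ l ∈ L, y = l * (a * l * a⁻¹)} ⊔
      ((L ⊔ L.map (MulAut.conj a).toMonoidHom) ⊓ Subgroup.centralizer ((L ⊔ L.map (MulAut.conj a).toMonoidHom : Subgroup H) : Set H))) :
    Subgroup.closure {y : H | ∃ l ∈ L, y = l * (a * l * a⁻¹)} ⊔ Subgroup.zpowers x = L ⊔ L.map (MulAut.conj a).toMonoidHom := by
  classical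
  open Cfsg.Agent.Lib.LocalCore in
  have hL' : Cfsg.IsComponent (L.map (MulAut.conj a).toMonoidHom) := comp_conj hL a
  have hcomm : ⁅L, L.map (MulAut.conj a).toMonoidHom⁆ = ⊥ :=
    Cfsg.Agent.Lib.LocalCore.comp_commute_of_ne hL hL' hLa.symm
  have hc := Cfsg.Agent.Lib.LocalCore.commutator_eq_bot_iff_elementwise.mp hcomm
  have hconj : ∀ l ∈ L, a * l * a⁻¹ ∈ L.map (MulAut.conj a).toMonoidHom := by
    intro l hl
    exact ⟨l, hl, by simp [MulAut.conj_apply]⟩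
  set J : Subgroup H := Subgroup.closure {y : H | ∃ l ∈ L, y = l * (a * l * a⁻¹)} with hJ
  set M : Subgroup H := L ⊔ L.map (MulAut.conj a).toMonoidHom with hM
  have hJgen : ∀ l ∈ L, l * (a * l * a⁻¹) ∈ J := fun l hl => Subgroup.subset_closure ⟨l, hl, rfl⟩
  have hLM : L ≤ M := le_sup_left
  have hL'M : L.map (MulAut.conj a).toMonoidHom ≤ M := le_sup_right
  have hJM : J ≤ M := by
    rw [hJ, Subgroup.closure_le]
    rintro y ⟨l, hl, rfl⟩
    exact M.mul_mem (hLM hl) (hL'M (hconj l hl))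
  apply le_antisymm
  · exact sup_le hJM ((Subgroup.zpowers_le).mpr hxM)
  · set Y : Subgroup H := J ⊔ Subgroup.zpowers x with hY
    have hJY : J ≤ Y := le_sup_left
    have hxY : x ∈ Y := (le_sup_right : Subgroup.zpowers x ≤ Y) (Subgroup.mem_zpowers x)
    obtain ⟨l₁, hl₁, l₂', hl₂', hx⟩ := Cfsg.Agent.Lib.LocalCore.mem_sup_of_commute hcomm hxM
    obtain ⟨l₂, hl₂, rfl⟩ := hl₂'
    have hl₂e : (MulAut.conj a).toMonoidHom l₂ = a * l₂ * a⁻¹ := by simp [MulAut.conj_apply]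
    rw [hl₂e] at hx
    have hu : l₁ * l₂⁻¹ ∈ Y := by
      have : l₁ * l₂⁻¹ = x * (l₂ * (a * l₂ * a⁻¹))⁻¹ := by rw [hx]; group
      rw [this]
      exact Y.mul_mem hxY (Y.inv_mem (hJY (hJgen l₂ hl₂)))
    set A : Subgroup H := Y ⊓ L with hA
    have hstep : ∀ l ∈ L, ∀ c ∈ A, l * c * l⁻¹ ∈ A := by
      intro l hl c hc'
      have hcY : c ∈ Y := hc'.1
      have hcL : c ∈ L := hc'.2
      have hlc : (a * l * a⁻¹) * c = c * (a * l * a⁻¹) := (hc c hcL _ (hconj l hl)).symm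
      have e : l * c * l⁻¹ = (l * (a * l * a⁻¹)) * c * (l * (a * l * a⁻¹))⁻¹ := by
        calc l * c * l⁻¹ = l * (c * (a * l * a⁻¹)) * (a * l * a⁻¹)⁻¹ * l⁻¹ := by group
          _ = l * ((a * l * a⁻¹) * c) * (a * l * a⁻¹)⁻¹ * l⁻¹ := by rw [hlc]
          _ = _ := by group
      refine Subgroup.mem_inf.mpr ⟨?_, L.mul_mem (L.mul_mem hl hcL) (L.inv_mem hl)⟩
      rw [e]
      exact Y.mul_mem (Y.mul_mem (hJY (hJgen l hl)) hcY) (Y.inv_mem (hJY (hJgen l hl)))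
    have hnorm : L ≤ Subgroup.normalizer (A : Set H) := by
      intro l hl
      rw [Subgroup.mem_normalizer_iff]
      intro c
      constructor
      · exact hstep l hl c
      · intro h
        have := hstep l⁻¹ (L.inv_mem hl) _ h
        simpa [mul_assoc] using this
    rcases Cfsg.Agent.Lib.LocalCore.qs_subgroup_normalized hL.2 inf_le_right hnorm with h | h
    · have hLY : L ≤ Y := h.trans inf_le_left
      refine sup_le hLY ?_
      rintro _ ⟨l, hl, rfl⟩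
      rw [show (MulAut.conj a).toMonoidHom l = a * l * a⁻¹ by simp [MulAut.conj_apply]]
      have : a * l * a⁻¹ = l⁻¹ * (l * (a * l * a⁻¹)) := by group
      rw [this]
      exact Y.mul_mem (Y.inv_mem (hLY hl)) (hJY (hJgen l hl))
    · exfalso
      apply hxJ
      have huA : l₁ * l₂⁻¹ ∈ A := Subgroup.mem_inf.mpr ⟨hu, L.mul_mem hl₁ (L.inv_mem hl₂)⟩
      have hcentL : ∀ l ∈ L, l * (l₁ * l₂⁻¹) = (l₁ * l₂⁻¹) * l :=
        fun l hl => Cfsg.Agent.Lib.LocalCore.commutator_eq_bot_iff_elementwise.mp h l hl _ huA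
      have hcentM : l₁ * l₂⁻¹ ∈ M ⊓ Subgroup.centralizer (M : Set H) := by
        refine Subgroup.mem_inf.mpr ⟨hLM (L.mul_mem hl₁ (L.inv_mem hl₂)), ?_⟩
        rw [Subgroup.mem_centralizer_iff]
        intro m hm
        obtain ⟨m₁, hm₁, m₂, hm₂, rfl⟩ := Cfsg.Agent.Lib.LocalCore.mem_sup_of_commute hcomm hm
        have h2 : (l₁ * l₂⁻¹) * m₂ = m₂ * (l₁ * l₂⁻¹) := hc _ (L.mul_mem hl₁ (L.inv_mem hl₂)) _ hm₂
        calc m₁ * m₂ * (l₁ * l₂⁻¹) = m₁ * (m₂ * (l₁ * l₂⁻¹)) := by group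
          _ = m₁ * ((l₁ * l₂⁻¹) * m₂) := by rw [h2]
          _ = (m₁ * (l₁ * l₂⁻¹)) * m₂ := by group
          _ = ((l₁ * l₂⁻¹) * m₁) * m₂ := by rw [hcentL m₁ hm₁]
          _ = _ := by group
        -- 
      have hxe : x = (l₂ * (a * l₂ * a⁻¹)) * (l₁ * l₂⁻¹) := by
        have hc2 := hc l₂ hl₂ _ (hconj l₂ hl₂)
        have hc3 := hc l₁ hl₁ _ (hconj l₂ hl₂)
        rw [hx]
        -- l₁ l₂' = l₂ l₂' l₁ l₂⁻¹ would need commutation; use the other order
        have hz := hcentL l₂ hl₂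
        have : l₂ * (a * l₂ * a⁻¹) * (l₁ * l₂⁻¹) = (a * l₂ * a⁻¹) * (l₂ * (l₁ * l₂⁻¹)) := by
          calc l₂ * (a * l₂ * a⁻¹) * (l₁ * l₂⁻¹) = (a * l₂ * a⁻¹ * l₂) * (l₁ * l₂⁻¹) := by rw [hc2]
            _ = _ := by group
        rw [this, hz]
        have : (a * l₂ * a⁻¹) * (l₁ * l₂⁻¹ * l₂) = (a * l₂ * a⁻¹) * l₁ := by group
        rw [this, hc3]
      rw [hxe]
      exact Subgroup.mul_mem _ (Subgroup.mem_sup_left (hJgen l₂ hl₂)) (Subgroup.mem_sup_right hcentM)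

end Cfsg.Agent.S1921
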