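import Mathlib
import Cfsg.Statements.S1922
import Cfsg.Agent.Lib.UniqFix
import Cfsg.Agent.Lib.InvolutionFusion2
import Cfsg.Agent.Lib.SylowConjLemmas

set_option autoImplicit false
open Cfsg

namespace Cfsg.Agent.S1922

section Aux
open Cfsg.Agent.Lib.UniqFix

variable {G : Type*} [Group G]

theorem mem_conj_map (H : Subgroup G) (g x : G) :
    x ∈ H.map (MulAut.conj g).toMonoidHom ↔ g⁻¹ * x * g ∈ H := by
  constructor
  · rintro ⟨h, hh, rfl⟩
    have : g⁻¹ * (MulAut.conj g).toMonoidHom h * g = h := by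
      show g⁻¹ * (g * h * g⁻¹) * g = h
      group
    rw [this]
    exact hh
  · intro h
    refine ⟨_, h, ?_⟩
    show g * (g⁻¹ * x * g) * g⁻¹ = x
    group

theorem fix_iff (H : Subgroup G) (g a : G) :
    g • (a : G ⧸ H) = (a : G ⧸ H) ↔ a⁻¹ * g * a ∈ H := by
  rw [show g • (a : G ⧸ H) = ((g * a : G) : G ⧸ H) from rfl, eq_comm, QuotientGroup.eq]
  constructor
  · intro h
    have : a⁻¹ * g * a = a⁻¹ * (g * a) := by group
    rwa [this]
  · intro h
    have : a⁻¹ * (g * a) = a⁻¹ * g * a := by group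
    rwa [this]

theorem uf_conj (H : Subgroup G) (g : G) (hg : ∀ k : G, g ∈ H.map (MulAut.conj k).toMonoidHom ↔ k ∈ H)
    (b : G) : ∃! q : G ⧸ H, (b * g * b⁻¹) • q = q := by
  refine ⟨(b : G ⧸ H), ?_, ?_⟩
  · show (b * g * b⁻¹) • (b : G ⧸ H) = (b : G ⧸ H)
    rw [fix_iff]
    have h1 := (hg 1).mpr H.one_mem
    rw [mem_conj_map] at h1
    have : b⁻¹ * (b * g * b⁻¹) * b = 1⁻¹ * g * 1 := by group
    rw [this]
    exact h1
  · intro q hq
    induction q using QuotientGroup.induction_on with
    | H a =>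
    have hq' : (b * g * b⁻¹) • (a : G ⧸ H) = (a : G ⧸ H) := hq
    rw [fix_iff] at hq'
    have h2 : g ∈ H.map (MulAut.conj (b⁻¹ * a)).toMonoidHom := by
      rw [mem_conj_map]
      have : (b⁻¹ * a)⁻¹ * g * (b⁻¹ * a) = a⁻¹ * (b * g * b⁻¹) * a := by group
      rw [this]
      exact hq'
    have h3 := (hg _).mp h2
    rw [eq_comm, QuotientGroup.eq]
    exact h3

variable [Finite G]

theorem conf_of_hyp (z : G) (hz : z * z = 1) (H : Subgroup G)
    (h0 : ∀ g : G, z ∈ H.map (MulAut.conj g).toMonoidHom ↔ g ∈ H)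
    (h1 : ∀ t : G, IsConj z t → t ≠ z → t * z = z * t →
      ∀ g : G, z * t ∈ H.map (MulAut.conj g).toMonoidHom ↔ g ∈ H) :
    Conf G (G ⧸ H) {d | IsConj z d} := by
  refine ⟨?_, ?_, ?_, ?_⟩
  · intro d hd
    obtain ⟨c, rfl⟩ := isConj_iff.mp hd
    calc c * z * c⁻¹ * (c * z * c⁻¹) = c * (z * z) * c⁻¹ := by group
      _ = 1 := by rw [hz]; group
  · intro d hd
    obtain ⟨c, rfl⟩ := isConj_iff.mp hd
    exact uf_conj H z h0 c
  · intro d hd e he
    have hd2 : d * d = 1 := by
      obtain ⟨c, rfl⟩ := isConj_iff.mp hd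
      calc c * z * c⁻¹ * (c * z * c⁻¹) = c * (z * z) * c⁻¹ := by group
        _ = 1 := by rw [hz]; group
    have h2 : d⁻¹ = d := inv_eq_of_mul_eq_one_left hd2
    have h3 : IsConj e (d * e * d) := by
      rw [isConj_iff]
      exact ⟨d, by rw [h2]⟩
    exact IsConj.trans he h3
  · intro d hd e he hne hcomm
    obtain ⟨c, rfl⟩ := isConj_iff.mp hd
    have h4 : IsConj z (c⁻¹ * e * c) := by
      refine IsConj.trans he ?_
      rw [isConj_iff]
      exact ⟨c⁻¹, by group⟩
    have h5 : c⁻¹ * e * c ≠ z := by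
      intro h6
      apply hne
      rw [← h6]
      group
    have h6 : (c⁻¹ * e * c) * z = z * (c⁻¹ * e * c) := by
      have h7 : c * z * c⁻¹ * e = e * (c * z * c⁻¹) := hcomm
      have h8 : z * (c⁻¹ * e * c) = c⁻¹ * (c * z * c⁻¹ * e) * c := by group
      rw [h8, h7]
      group
    have h9 := uf_conj H (z * (c⁻¹ * e * c)) (h1 _ h4 h5 h6) c
    have h10 : c * (z * (c⁻¹ * e * c)) * c⁻¹ = c * z * c⁻¹ * e := by group
    rwa [h10] at h9

theorem odd_mem (z : G) (hz : z * z = 1) (hz1 : z ≠ 1) (H : Subgroup G) (hH : H ≠ ⊤)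
    (h0 : ∀ g : G, z ∈ H.map (MulAut.conj g).toMonoidHom ↔ g ∈ H)
    (h1 : ∀ t : G, IsConj z t → t ≠ z → t * z = z * t →
      ∀ g : G, z * t ∈ H.map (MulAut.conj g).toMonoidHom ↔ g ∈ H) :
    Odd {d | IsConj z d ∧ d ∈ H}.ncard := by
  have hconf := conf_of_hyp z hz H h0 h1
  have h2 : 2 ≤ Nat.card (G ⧸ H) := by
    have h3 : Nat.card (G ⧸ H) = H.index := rfl
    rw [h3]
    have h4 : H.index ≠ 0 := Subgroup.index_ne_zero_of_finite
    have h5 : H.index ≠ 1 := fun h => hH (Subgroup.index_eq_one.mp h)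
    omega
  have hd : ∀ q : G ⧸ H, ∃ d ∈ {d | IsConj z d}, d • q = q := by
    intro q
    induction q using QuotientGroup.induction_on with
    | H a =>
    refine ⟨a * z * a⁻¹, ?_, ?_⟩
    · show IsConj z (a * z * a⁻¹)
      rw [isConj_iff]
      exact ⟨a, rfl⟩
    · obtain ⟨p, hp, hpu⟩ := uf_conj H z h0 a
      have : ((a : G) : G ⧸ H) = p := by
        apply hpu
        show (a * z * a⁻¹) • (a : G ⧸ H) = (a : G ⧸ H)
        rw [fix_iff]
        have h3 := (h0 1).mpr H.one_mem
        rw [mem_conj_map] at h3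
        have : a⁻¹ * (a * z * a⁻¹) * a = 1⁻¹ * z * 1 := by group
        rw [this]
        exact h3
      rw [this]
      exact hp
  have := odd_fix hconf h2 hd ((1 : G) : G ⧸ H)
  convert this using 2
  ext d
  constructor
  · rintro ⟨h3, h4⟩
    refine ⟨h3, ?_⟩
    rw [fix_iff]
    simpa using h4
  · rintro ⟨h3, h4⟩
    refine ⟨h3, ?_⟩
    rw [fix_iff] at h4
    simpa using h4

/-- A `2`-group acting by conjugation on an odd set has a fixed point. -/
theorem exists_comm_of_odd (P : Subgroup G) (hP : IsPGroup 2 P) (S : Set G)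
    (hS : ∀ p ∈ P, ∀ s ∈ S, p * s * p⁻¹ ∈ S) (hodd : Odd S.ncard) :
    ∃ s ∈ S, ∀ p ∈ P, p * s = s * p := by
  classical
  letI : MulAction P S :=
    { smul := fun p s => ⟨p.1 * s.1 * p.1⁻¹, hS p.1 p.2 s.1 s.2⟩
      one_smul := fun s => Subtype.ext (by
        show (1 : G) * s.1 * (1 : G)⁻¹ = s.1
        group)
      mul_smul := fun a b s => Subtype.ext (by
        show (a.1 * b.1) * s.1 * (a.1 * b.1)⁻¹ = a.1 * (b.1 * s.1 * b.1⁻¹) * a.1⁻¹
        group) }
  have h1 : ¬ 2 ∣ Nat.card S := by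
    rw [Nat.card_coe_set_eq]
    exact fun h => (Nat.not_even_iff_odd.mpr hodd) (even_iff_two_dvd.mpr h)
  haveI : Fact (Nat.Prime 2) := ⟨Nat.prime_two⟩
  obtain ⟨s, hs⟩ := hP.nonempty_fixed_point_of_prime_not_dvd_card S h1
  refine ⟨s.1, s.2, fun p hp => ?_⟩
  have h2 := congrArg Subtype.val (hs ⟨p, hp⟩)
  have h3 : p * s.1 * p⁻¹ = s.1 := h2
  calc p * s.1 = p * s.1 * p⁻¹ * p := by group
    _ = s.1 * p := by rw [h3]

end Aux


/-- Let z be an involution of a finite group G and H a proper subgroup such that z lies in gHg⁻¹ exactly when g ∈ H. Then the following are equivalent: (1) for every conjugate t ≠ z of z commuting with z, the product zt lies in gHg⁻¹ exactly when g ∈ H; (2) z lies in the centre of some Sylow 2-subgroup of G, and for every conjugate t ≠ z of z commuting with z, the centralizer of zt is contained in H. -/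
theorem result {G : Type*} [Group G] [Finite G] (z : G) (hz : orderOf z = 2) (H : Subgroup G) (hH : H ≠ ⊤)
    (h0 : ∀ g : G, z ∈ H.map (MulAut.conj g).toMonoidHom ↔ g ∈ H) :
    (∀ t : G, IsConj z t → t ≠ z → t * z = z * t → ∀ g : G, z * t ∈ H.map (MulAut.conj g).toMonoidHom ↔ g ∈ H) ↔
      ((∃ P : Sylow 2 G, z ∈ (Subgroup.center ↥(P : Subgroup G)).map (P : Subgroup G).subtype) ∧
        ∀ t : G, IsConj z t → t ≠ z → t * z = z * t → Subgroup.centralizer ({z * t} : Set G) ≤ H) := by
  classical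
  haveI : Fact (Nat.Prime 2) := ⟨Nat.prime_two⟩
  have hz2 : z * z = 1 := by
    have := pow_orderOf_eq_one z
    rw [hz, pow_two] at this
    exact this
  have hz1 : z ≠ 1 := by
    rintro rfl
    simp at hz
  have hzH : z ∈ H := by
    have h1 := (h0 1).mpr H.one_mem
    rw [mem_conj_map] at h1
    simpa using h1
  have hCz : ∀ c : G, c * z = z * c → c ∈ H := by
    intro c hc
    apply (h0 c).mp
    rw [mem_conj_map]
    have : c⁻¹ * z * c = z := by
      calc c⁻¹ * z * c = c⁻¹ * (z * c) := by group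
        _ = c⁻¹ * (c * z) := by rw [hc]
        _ = z := by group
    rw [this]
    exact hzH
  constructor
  · intro h1
    refine ⟨?_, ?_⟩
    · -- 2-centrality
      have hodd := odd_mem z hz2 hz1 H hH h0 h1
      -- the index of `H` is odd
      have hΩ : Odd (Nat.card (G ⧸ H)) := by
        obtain ⟨p, hp, hpu⟩ := uf_conj H z h0 1
        have hz' : (1 * z * 1⁻¹ : G) = z := by group
        rw [hz'] at hp hpu
        have := Cfsg.Agent.Lib.UniqFix.odd_of_unique_fixed (Set.univ : Set (G ⧸ H)) (fun q => z • q)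
          (fun _ _ => trivial) (fun q _ => by
            show z • z • q = q
            rw [smul_smul, hz2, one_smul]) p trivial hp (fun a _ ha => hpu a ha)
        rwa [Set.ncard_univ] at this
      obtain ⟨P₀⟩ : Nonempty (Sylow 2 G) := inferInstance
      obtain ⟨q, hq⟩ := (P₀.isPGroup').nonempty_fixed_point_of_prime_not_dvd_card (G ⧸ H)
        (fun h => (Nat.not_even_iff_odd.mpr hΩ) (even_iff_two_dvd.mpr h))
      induction q using QuotientGroup.induction_on with
      | H a =>
      -- `a⁻¹ P₀ a ≤ H`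
      let P₁ : Sylow 2 G := a⁻¹ • P₀
      have hP₁ : (P₁ : Subgroup G) ≤ H := by
        intro p hp
        have h2 : p ∈ a⁻¹ • P₀ := hp
        rw [Cfsg.Agent.Lib.InvolutionFusion2.mem_smul_sylow_iff] at h2
        have h3 := hq ⟨(a⁻¹)⁻¹ * p * a⁻¹, h2⟩
        have h4 : ((a⁻¹)⁻¹ * p * a⁻¹) • (a : G ⧸ H) = (a : G ⧸ H) := h3
        rw [fix_iff] at h4
        have : a⁻¹ * ((a⁻¹)⁻¹ * p * a⁻¹) * a = p := by group
        rwa [this] at h4
      obtain ⟨d, ⟨hdz, hdH⟩, hd⟩ := exists_comm_of_odd (P₁ : Subgroup G) P₁.isPGroup' {d | IsConj z d ∧ d ∈ H}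
        (fun p hp s hs => ⟨IsConj.trans hs.1 (isConj_iff.mpr ⟨p, rfl⟩),
          H.mul_mem (H.mul_mem (hP₁ hp) hs.2) (H.inv_mem (hP₁ hp))⟩) hodd
      obtain ⟨c, rfl⟩ := isConj_iff.mp hdz
      -- the Sylow subgroup `c⁻¹ P₁ c`
      let P : Sylow 2 G := c⁻¹ • P₁
      have hPc : ∀ y ∈ (P : Subgroup G), y * z = z * y := by
        intro y hy
        have h2 : y ∈ c⁻¹ • P₁ := hy
        rw [Cfsg.Agent.Lib.InvolutionFusion2.mem_smul_sylow_iff] at h2
        have h3 := hd _ h2
        have h4 : (c⁻¹)⁻¹ * y * c⁻¹ * (c * z * c⁻¹) = c * (y * z) * c⁻¹ := by group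
        have h5 : c * z * c⁻¹ * ((c⁻¹)⁻¹ * y * c⁻¹) = c * (z * y) * c⁻¹ := by group
        rw [h4, h5] at h3
        exact mul_left_cancel (mul_right_cancel h3)
      have hzP : z ∈ (P : Subgroup G) := by
        have hpg : IsPGroup 2 (Subgroup.zpowers z) := by
          apply IsPGroup.of_card (n := 1)
          rw [Nat.card_zpowers, hz]
          rfl
        have hle : (P : Subgroup G) ≤ Subgroup.normalizer (Subgroup.zpowers z : Set G) := by
          intro y hy
          rw [Subgroup.mem_normalizer_iff]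
          intro w
          have hcomm : ∀ w ∈ Subgroup.zpowers z, y * w * y⁻¹ = w := by
            rintro w ⟨k, rfl⟩
            have hcz : Commute y (z ^ k) := (show Commute y z from hPc y hy).zpow_right k
            show y * z ^ k * y⁻¹ = z ^ k
            rw [hcz.eq]
            group
          constructor
          · intro hw
            rw [hcomm w hw]
            exact hw
          · intro hw
            have h2 := hcomm (y * w * y⁻¹) hw
            have h3 : y * (y * w * y⁻¹) * y⁻¹ = y * w * y⁻¹ := h2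
            have h4 : y * w * y⁻¹ = w := by
              apply mul_left_cancel (a := y)
              apply mul_right_cancel (b := y⁻¹)
              rw [h3]
            rw [h4] at hw
            exact hw
        have h2 := IsPGroup.to_sup_of_normal_right' P.isPGroup' hpg hle
        have h3 := P.is_maximal' h2 le_sup_left
        rw [← h3]
        exact (le_sup_right : Subgroup.zpowers z ≤ _) (Subgroup.mem_zpowers z)
      refine ⟨P, ⟨⟨z, hzP⟩, Subgroup.mem_center_iff.mpr ?_, rfl⟩⟩
      rintro ⟨y, hy⟩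
      apply Subtype.ext
      exact hPc y hy
    · intro t ht hne hc
      intro c hcC
      have hu : z * t ∈ H := by
        have := (h1 t ht hne hc 1).mpr H.one_mem
        rw [mem_conj_map] at this
        simpa using this
      apply (h1 t ht hne hc c).mp
      rw [mem_conj_map]
      have h3 : c * (z * t) = (z * t) * c :=
        (Subgroup.mem_centralizer_iff.mp hcC (z * t) (Set.mem_singleton _)).symm
      have : c⁻¹ * (z * t) * c = z * t := by
        calc c⁻¹ * (z * t) * c = c⁻¹ * ((z * t) * c) := by group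
          _ = c⁻¹ * (c * (z * t)) := by rw [h3]
          _ = z * t := by group
      rw [this]
      exact hu
  · rintro ⟨⟨P, hP⟩, h2⟩ t ht hne hc g
    obtain ⟨⟨z', hz'P⟩, hz'c, hz'⟩ := hP
    have hz'e : z' = z := hz'
    subst hz'e
    have hPc : ∀ y ∈ (P : Subgroup G), y * z' = z' * y := by
      intro y hy
      have := Subgroup.mem_center_iff.mp hz'c ⟨y, hy⟩
      exact congrArg Subtype.val this
    -- `P ≤ H`
    have hPH : (P : Subgroup G) ≤ H := fun y hy => hCz y (hPc y hy)
    have hcomm1 : t * z' = z' * t := hc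
    have hu1 : ∀ c : G, c * (z' * t) = (z' * t) * c → c ∈ H := by
      intro c hc'
      apply h2 t ht hne hc
      rw [Subgroup.mem_centralizer_iff]
      intro y hy
      rw [Set.mem_singleton_iff] at hy
      subst hy
      exact hc'.symm
    have hzu : z' ∈ H := hzH
    have htH : t ∈ H := by
      apply hu1
      calc t * (z' * t) = (t * z') * t := by group
        _ = (z' * t) * t := by rw [hcomm1]
    have huH : z' * t ∈ H := H.mul_mem hzu htH
    rw [mem_conj_map]
    constructor
    · intro hgu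
      -- conjugate `g⁻¹ u g` into `P` inside `H`
      set u := z' * t with hu
      have hu2 : u * u = 1 := by
        have ht2 : t * t = 1 := by
          obtain ⟨c, rfl⟩ := isConj_iff.mp ht
          calc c * z' * c⁻¹ * (c * z' * c⁻¹) = c * (z' * z') * c⁻¹ := by group
            _ = 1 := by rw [hz2]; group
        calc u * u = z' * (t * z') * t := by rw [hu]; group
          _ = z' * (z' * t) * t := by rw [hcomm1]
          _ = (z' * z') * (t * t) := by group
          _ = 1 := by rw [hz2, ht2, one_mul]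
      -- a `2`-subgroup generated by the conjugate
      have hpg : IsPGroup 2 (Subgroup.zpowers (g⁻¹ * u * g)) := by
        have h3 : (g⁻¹ * u * g) ^ 2 = 1 := by
          rw [pow_two]
          calc g⁻¹ * u * g * (g⁻¹ * u * g) = g⁻¹ * (u * u) * g := by group
            _ = 1 := by rw [hu2]; group
        intro x
        obtain ⟨x, k, rfl⟩ := x
        refine ⟨1, ?_⟩
        apply Subtype.ext
        show ((g⁻¹ * u * g) ^ k) ^ (2 ^ 1) = 1
        rw [pow_one, ← zpow_natCast, ← zpow_mul, mul_comm, zpow_mul, zpow_natCast, h3, one_zpow]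
      obtain ⟨k, hk, hkP⟩ := Cfsg.Agent.Lib.SylowConjLemmas.exists_conj_mem_of_le P H hPH
        (Subgroup.zpowers (g⁻¹ * u * g)) hpg ((Subgroup.zpowers_le).mpr hgu)
      have h3 := hkP _ (Subgroup.mem_zpowers _)
      have h4 := hPc _ h3
      -- the conjugate of `z` commutes with `u`
      have h5 : (g * k⁻¹) * z' * (g * k⁻¹)⁻¹ ∈ H := by
        apply hu1
        have h6 : k * (g⁻¹ * u * g) * k⁻¹ * z' = z' * (k * (g⁻¹ * u * g) * k⁻¹) := h4
        have h7 : (g * k⁻¹) * z' * (g * k⁻¹)⁻¹ * u =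
            (g * k⁻¹) * (z' * (k * (g⁻¹ * u * g) * k⁻¹)) * (g * k⁻¹)⁻¹ := by group
        have h8 : u * ((g * k⁻¹) * z' * (g * k⁻¹)⁻¹) =
            (g * k⁻¹) * (k * (g⁻¹ * u * g) * k⁻¹ * z') * (g * k⁻¹)⁻¹ := by group
        rw [h7, h8, h6]
      have h9 : (g * k⁻¹)⁻¹ ∈ H := by
        apply (h0 _).mp
        rw [mem_conj_map, inv_inv]
        exact h5
      have h10 : g * k⁻¹ ∈ H := by simpa using H.inv_mem h9
      have h11 : g = (g * k⁻¹) * k := by group
      rw [h11]
      exact H.mul_mem h10 hk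
    · intro hg
      exact H.mul_mem (H.mul_mem (H.inv_mem hg) huH) hg

end Cfsg.Agent.S1922
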