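-- Statement S1953
import Mathlib
import Cfsg.Agent.Lib.CRFusion
import Cfsg.Statements.S1953

set_option autoImplicit false
open Cfsg

namespace Cfsg.Agent.S1953

open Cfsg.Agent.Lib.ControlSec Cfsg.Agent.Lib.AlperinControl Cfsg.Agent.Lib.NCFree Cfsg.Agent.Lib.CRFusion
open Cfsg.Agent.Lib.QuadP Cfsg.Agent.Lib.InvolvesAPI

/-- The hypothesis of the statement, in terms of `Involves`. -/
theorem ncf_of_hfree {G : Type*} [Group G] [Finite G] {p : ℕ}
    (hfree : ∀ Q : Subgroup G, IsPGroup p ↥Q → ¬ ∃ (H K : Subgroup G) (_ : (K.subgroupOf H).Normal),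
      Subgroup.centralizer (Q : Set G) ≤ K ∧ K ≤ H ∧ H ≤ Subgroup.normalizer (Q : Set G) ∧
      Nonempty ((↥H ⧸ K.subgroupOf H) ≃* Matrix.SpecialLinearGroup (Fin 2) (ZMod p))) : NCF p G := by
  intro Q hQ hi
  apply hfree Q hQ
  obtain ⟨K₁, f₁, hf₁⟩ := exists_surj_of_involves hi
  set N := Subgroup.normalizer (Q : Set G) with hN
  let π : ↥N →* NC Q := QuotientGroup.mk' _
  have hπ : Function.Surjective π := QuotientGroup.mk'_surjective _
  let K₂ : Subgroup ↥N := K₁.comap π
  set H := K₂.map N.subtype with hH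
  let ι := K₂.equivMapOfInjective N.subtype N.subtype_injective
  let g : ↥K₂ →* K₁ := π.subgroupComap K₁
  have hg : Function.Surjective g := π.subgroupComap_surjective_of_surjective K₁ hπ
  let f : ↥H →* SLp p := f₁.comp (g.comp ι.symm.toMonoidHom)
  have hf : Function.Surjective f := hf₁.comp (hg.comp ι.symm.surjective)
  let R : Subgroup G := f.ker.map H.subtype
  have hR : R.subgroupOf H = f.ker := Subgroup.comap_map_eq_self_of_injective H.subtype_injective _
  have hn : (R.subgroupOf H).Normal := by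
    rw [hR]
    infer_instance
  refine ⟨H, R, hn, ?_, Subgroup.map_subtype_le _, Subgroup.map_subtype_le _,
    ⟨(QuotientGroup.quotientMulEquivOfEq hR).trans (QuotientGroup.quotientKerEquivOfSurjective f hf)⟩⟩
  intro c hc
  have hcN : c ∈ N := by
    apply mem_NN_of_forall
    intro x hx
    have h1 := Subgroup.mem_centralizer_iff.mp hc x hx
    have e : c * x * c⁻¹ = x := by
      rw [← h1]
      group
    rw [e]
    exact hx
  have h1 : π ⟨c, hcN⟩ = 1 := (QuotientGroup.eq_one_iff _).mpr hc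
  have hc2 : (⟨c, hcN⟩ : ↥N) ∈ K₂ := by
    show π _ ∈ K₁
    rw [h1]
    exact K₁.one_mem
  have hcH : c ∈ H := ⟨⟨c, hcN⟩, hc2, rfl⟩
  refine ⟨⟨c, hcH⟩, ?_, rfl⟩
  show f ⟨c, hcH⟩ = 1
  have h2 : ι.symm ⟨c, hcH⟩ = ⟨⟨c, hcN⟩, hc2⟩ := by
    rw [MulEquiv.symm_apply_eq]
    rfl
  show f₁ (g (ι.symm ⟨c, hcH⟩)) = 1
  rw [h2]
  have h3 : g ⟨⟨c, hcN⟩, hc2⟩ = 1 := Subtype.ext h1
  rw [h3, map_one]

/-- Let p be an odd prime and P a Sylow p-subgroup of the finite group G, and suppose that for no p-subgroup Q of G does N_G(Q)/C_G(Q) have a section isomorphic to SL₂(p). Call a subgroup Q of P centric-radical when Z(Q) is a Sylow p-subgroup of C_G(Q) and the only normal subgroup X of N_G(Q) containing Q·C_G(Q) such that the index of Q·C_G(Q) in X is a power of p is Q·C_G(Q) itself (that is, N_G(Q)/Q·C_G(Q) has no nontrivial normal p-subgroup). Then there is a centric-radical subgroup Q of P contained in every centric-radical subgroup of P; it is normal in P, and N_G(Q) controls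 strong fusion in P: whenever a subgroup A of P has g A g⁻¹ ≤ P, the element g is a product h c with h in N_G(Q) and c centralizing A. -/
theorem result {G : Type*} [Group G] [Finite G] {p : ℕ} [Fact p.Prime] (hp : p ≠ 2) (P : Sylow p G)
    (hfree : ∀ Q : Subgroup G, IsPGroup p ↥Q → ¬ ∃ (H K : Subgroup G) (_ : (K.subgroupOf H).Normal),
      Subgroup.centralizer (Q : Set G) ≤ K ∧ K ≤ H ∧ H ≤ Subgroup.normalizer (Q : Set G) ∧
      Nonempty ((↥H ⧸ K.subgroupOf H) ≃* Matrix.SpecialLinearGroup (Fin 2) (ZMod p)))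
    (cr : Subgroup G → Prop)
    (hcr : ∀ Q : Subgroup G, cr Q ↔ (Q ≤ (P : Subgroup G) ∧
      (∃ R : Sylow p ↥(Subgroup.centralizer (Q : Set G)),
        (R : Subgroup ↥(Subgroup.centralizer (Q : Set G))).map (Subgroup.centralizer (Q : Set G)).subtype = Q ⊓ Subgroup.centralizer (Q : Set G)) ∧
      ∀ X : Subgroup G, X ≤ Subgroup.normalizer (Q : Set G) →
        (∀ n ∈ Subgroup.normalizer (Q : Set G), X.map (MulAut.conj n).toMonoidHom = X) →
        Q ⊔ Subgroup.centralizer (Q : Set G) ≤ X → (∃ k : ℕ, (Q ⊔ Subgroup.centralizer (Q : Set G)).relIndex X = p ^ k) →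
        X = Q ⊔ Subgroup.centralizer (Q : Set G))) :
    ∃ Q : Subgroup G, cr Q ∧ (∀ R : Subgroup G, cr R → Q ≤ R) ∧ (∀ x ∈ (P : Subgroup G), Q.map (MulAut.conj x).toMonoidHom = Q) ∧
      ∀ A : Subgroup G, A ≤ (P : Subgroup G) → ∀ g : G, A.map (MulAut.conj g).toMonoidHom ≤ (P : Subgroup G) →
        ∃ h ∈ Subgroup.normalizer (Q : Set G), ∃ c ∈ Subgroup.centralizer (A : Set G), g = h * c := by
  have hG : NCF p G := ncf_of_hfree hfree
  obtain ⟨Q, hQP, hPQ, hctl, hcent, hrad⟩ := exists_max hp hG P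
  refine ⟨Q, ?_, ?_, ?_, ?_⟩
  · rw [hcr]
    refine ⟨hQP, ?_, ?_⟩
    · have hSL : IsSyl p (P : Subgroup G) (NN Q) := isSyl_of_le (isSyl_of_sylow P) hPQ le_top
      have hCL : Subgroup.centralizer (Q : Set G) ≤ NN Q := by
        intro c hc
        apply mem_NN_of_forall
        intro x hx
        have h1 := Subgroup.mem_centralizer_iff.mp hc x hx
        have e : c * x * c⁻¹ = x := by
          rw [← h1]
          group
        rw [e]
        exact hx
      have h1 := isSyl_inf hSL hCL (le_NN_centralizer le_rfl)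
      have e : (P : Subgroup G) ⊓ Subgroup.centralizer (Q : Set G) = Q ⊓ Subgroup.centralizer (Q : Set G) :=
        le_antisymm (le_inf hcent inf_le_right) (inf_le_inf_right _ hQP)
      rw [e] at h1
      obtain ⟨S, hS⟩ := h1.sylow_exists
      refine ⟨S, ?_⟩
      rw [hS, Subgroup.subgroupOf_map_subtype]
      exact inf_eq_left.mpr inf_le_right
    · intro X hXN hXc hQX hk
      refine le_antisymm (hrad X hXN ?_ hQX hk) hQX
      intro n hn
      apply mem_NN_of_forall
      intro x hx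
      have h1 := hXc n hn
      rw [← h1]
      exact conj_mem_cj hx
  · intro R hR
    rw [hcr] at hR
    obtain ⟨hRP, ⟨S, hS⟩, hR₃⟩ := hR
    refine le_of_radical P hQP hPQ hctl hRP ?_ ?_
    · rintro c ⟨hc1, hc2⟩
      let c' : ↥(Subgroup.centralizer (R : Set G)) := ⟨c, hc2⟩
      have hV : IsPGroup p ↥(Subgroup.zpowers c') := by
        rintro ⟨_, n, rfl⟩
        obtain ⟨m, hm⟩ := P.isPGroup' ⟨c, hc1⟩
        refine ⟨m, Subtype.ext (Subtype.ext ?_)⟩
        have hm' : c ^ p ^ m = 1 := by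
          have h9 := congrArg Subtype.val hm
          simpa using h9
        show (c ^ n) ^ p ^ m = 1
        rw [← zpow_natCast, ← zpow_mul, mul_comm, zpow_mul, zpow_natCast, hm', one_zpow]
      obtain ⟨k, hk⟩ := Cfsg.Agent.Lib.SylowConjLemmas.exists_conj_mem S _ hV
      have h1 := hk c' (Subgroup.mem_zpowers c')
      have h2 : ((k * c' * k⁻¹ : ↥(Subgroup.centralizer (R : Set G))) : G) ∈ R ⊓ Subgroup.centralizer (R : Set G) := by
        rw [← hS]
        exact ⟨_, h1, rfl⟩
      have h3 := Subgroup.mem_centralizer_iff.mp k.2 _ h2.1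
      have h4 : (k : G) * c * (k : G)⁻¹ ∈ R := h2.1
      have h5 : (k : G) * c * (k : G)⁻¹ * k = k * ((k : G) * c * (k : G)⁻¹) := h3
      have h6 : (k : G) * c * (k : G)⁻¹ = c := by
        have h7 : (k : G) * c = k * ((k : G) * c * (k : G)⁻¹) := by
          rw [← h5]
          group
        have h8 := mul_left_cancel h7
        exact h8.symm
      rw [← h6]
      exact h4
    · intro X hXN hXn hRX hk
      exact hR₃ X hXN (fun n hn => cj_eq_of_mem_NN (hXn hn)) hRX hk
  · intro x hx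
    exact cj_eq_of_mem_NN (hPQ hx)
  · intro A hA g hg
    obtain ⟨x, hx, hxa⟩ := hctl A hA g hg
    refine ⟨x, hx, x⁻¹ * g, ?_, by group⟩
    rw [Subgroup.mem_centralizer_iff]
    intro a ha
    have h1 := hxa a ha
    have h2 : g * a = x * a * x⁻¹ * g := by
      rw [h1]
      group
    calc a * (x⁻¹ * g) = x⁻¹ * (x * a * x⁻¹ * g) := by group
      _ = x⁻¹ * (g * a) := by rw [← h2]
      _ = x⁻¹ * g * a := by group

end Cfsg.Agent.S1953
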