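import Mathlib
import Cfsg.Agent.Lib.KInfStable
import Cfsg.Agent.S2007
import Cfsg.Agent.Lib.NPCStable
import Cfsg.Statements.S1988

set_option autoImplicit false
universe u
open Cfsg

namespace Cfsg.Agent.S1988

/-- Let p be an odd prime, G a finite group with Sylow p-subgroup S and K the lower K-infinity subgroup of S. If N_G(K) has a normal p-complement, or if N_G(K)/C_G(K) is a p-group (every element of N_G(K) of order prime to p centralizes K), then G has a normal p-complement. -/
theorem result {G : Type u} [Group G] [Finite G] {p : ℕ} [Fact p.Prime] (hp : p ≠ 2) (S : Sylow p G) (h : Cfsg.HasNormalPComplement p ↥(Subgroup.normalizer ((Cfsg.inducedFunctor Cfsg.kInfLower (S : Subgroup G) : Subgroup G) : Set G)) ∨ ∀ g ∈ Subgroup.normalizer ((Cfsg.inducedFunctor Cfsg.kInfLower (S : Subgroup G) : Subgroup G) : Set G), (orderOf g).Coprime p → g ∈ Subgroup.centralizer ((Cfsg.inducedFunctor Cfsg.kInfLower (S : Subgroup G) : Subgroup G) : Set G)) : Cfsg.HasNormalPComplement p G := by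
  classical
  have hfirst : Cfsg.HasNormalPComplement p ↥(Subgroup.normalizer ((Cfsg.inducedFunctor Cfsg.kInfLower (S : Subgroup G) : Subgroup G) : Set G)) → Cfsg.HasNormalPComplement p G := by
    intro hN
    refine Cfsg.Agent.Lib.NPCFunctor.functor_reduction Cfsg.Agent.Lib.KInf.isCharPFunctor_kInfLower (Sec := fun _ _ => True) (fun _ _ _ _ => trivial)
      (fun _ _ _ _ _ => trivial) ?_ trivial S hN
    intro X _ _ T K₀ _ hC
    have hab := Cfsg.Agent.Lib.NPCStable.AbSec.of_config hC T.isPGroup'
    exact (Cfsg.Agent.Lib.KInfStable.normal_kInf (fun K R _ => hab.section_normalizerPStable hp K R) hC.cent T).1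
  rcases h with h | h
  · exact hfirst h
  · refine hfirst (Cfsg.Agent.S2007.result S _ (Subgroup.map_subtype_le _) ?_ ?_ h)
    · have hchar := Cfsg.Agent.Lib.NPCFunctor.char_inducedFunctor Cfsg.Agent.Lib.KInf.isCharPFunctor_kInfLower (S : Subgroup G) S.isPGroup'
      exact fun x hx => Cfsg.Agent.Lib.NPCReduction.mem_normalizer_of_char hchar.1 hchar.2 (Subgroup.le_normalizer hx)
    · rintro x ⟨hxS, hxC⟩
      have h1 := Cfsg.Agent.Lib.KInf.centralizer_kInfLower_le (P := ↥(S : Subgroup G)) S.isPGroup' (x := ⟨x, hxS⟩) ?_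
      · exact ⟨_, h1, rfl⟩
      · rw [Subgroup.mem_centralizer_iff]
        intro y hy
        apply Subtype.ext
        exact Subgroup.mem_centralizer_iff.mp hxC y ⟨y, hy, rfl⟩


end Cfsg.Agent.S1988
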