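import Mathlib
import Cfsg.Statements.S1990
import Cfsg.Agent.Lib.NPCStable

set_option autoImplicit false
universe u
open Cfsg

namespace Cfsg.Agent.S1990

/-- Let p be an odd prime, G a finite group with Sylow p-subgroup S, and W an isomorphism-invariant p-group functor (W assigns to every group Q a subgroup W(Q), nontrivial whenever Q is a nontrivial finite p-group, and every isomorphism from a finite p-group Q onto a group R carries W(Q) onto W(R)). Suppose N_G(W(S)) has a normal p-complement, and W(T) controls strong fusion in every section G* = K/R of G all of whose sections are p-stable in the normalizer form, for every Sylow p-subgroup T of G*. Then G has a normal p-complement. -/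
theorem result {G : Type u} [Group G] [Finite G] {p : ℕ} [Fact p.Prime] (hp : p ≠ 2) (W : ∀ (Q : Type u) [Group Q], Subgroup Q) (hW : Cfsg.IsCharPFunctor.{u} p W) (S : Sylow p G) (hN : Cfsg.HasNormalPComplement p ↥(Subgroup.normalizer ((Cfsg.inducedFunctor (G := G) W (S : Subgroup G) : Subgroup G) : Set G))) (hctl : ∀ (K R : Subgroup G) [hR : (R.subgroupOf K).Normal], (∀ (K' R' : Subgroup (↥K ⧸ R.subgroupOf K)) [hR' : (R'.subgroupOf K').Normal], Cfsg.IsNormalizerPStable p (↥K' ⧸ R'.subgroupOf K')) → ∀ T : Sylow p (↥K ⧸ R.subgroupOf K), Cfsg.ControlsStrongFusion p (Cfsg.inducedFunctor (G := (↥K ⧸ R.subgroupOf K)) W (T : Subgroup (↥K ⧸ R.subgroupOf K)))) : Cfsg.HasNormalPComplement p G := by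
  classical
  open Cfsg.Agent.Lib.NPCSection Cfsg.Agent.Lib.NPCStable in
  refine Cfsg.Agent.Lib.NPCFunctor.functor_reduction hW (Sec := fun X _ => IsSection G X) (fun X _ Y hX => IsSection.sub hX Y)
    (fun X _ M _ hX => IsSection.quot hX M) ?_ (IsSection.refl G) S hN
  intro X _ _ T K₀ hX hC
  obtain ⟨K, R, hR, ⟨e⟩⟩ := IsSection.exists_equiv hX
  haveI := hR
  have hY1 := Cfsg.Agent.Lib.CosetGraph2.centralizer_pCore_le_of_equiv p e hC.cent
  let T' : Sylow p (↥K ⧸ R.subgroupOf K) := T.mapSurjective (f := e.toMonoidHom) e.surjective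
  have hT' : (T' : Subgroup (↥K ⧸ R.subgroupOf K)) = (T : Subgroup X).map e.toMonoidHom := rfl
  have hco : IsCoatom (T' : Subgroup (↥K ⧸ R.subgroupOf K)) := by
    rw [hT', Subgroup.map_equiv_eq_comap_symm']
    exact (Subgroup.isCoatom_comap e.symm).mpr hC.coatom
  have habY : AbSec p (↥K ⧸ R.subgroupOf K) :=
    (AbSec.of_config hC T.isPGroup').map_surjective e.toMonoidHom e.surjective
  have hctl' := hctl K R (fun K' R' _ => habY.section_normalizerPStable hp K' R') T'
  have hchar := Cfsg.Agent.Lib.NPCFunctor.char_inducedFunctor hW (T' : Subgroup (↥K ⧸ R.subgroupOf K)) T'.isPGroup'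
  have hTU : (T' : Subgroup (↥K ⧸ R.subgroupOf K)) ≤ Subgroup.normalizer
      ((Cfsg.inducedFunctor W (T' : Subgroup (↥K ⧸ R.subgroupOf K)) : Subgroup _) : Set _) := fun x hx =>
    Cfsg.Agent.Lib.NPCReduction.mem_normalizer_of_char hchar.1 hchar.2 (Subgroup.le_normalizer hx)
  have h := normal_of_controls T' _ hco hY1 hTU hctl'
  rw [hT'] at h
  exact normal_of_equiv hW e _ T.isPGroup' h

end Cfsg.Agent.S1990
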