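-- Statement S2004
import Mathlib
import Cfsg.Agent.Lib.QuadP
import Cfsg.Statements.S2004

set_option autoImplicit false
open Cfsg

namespace Cfsg.Agent.S2004

/-- Let p be an odd prime and G a finite group such that SL₂(p) is not involved in N_G(P) for any nonidentity p-subgroup P of G. Then every section of G is p-stable in the normalizer form: in each section, whenever an element of the normalizer of a p-subgroup Q acts quadratically on Q, its image in N(Q)/C(Q) lies in O_p(N(Q)/C(Q)). -/
theorem result {G : Type*} [Group G] [Finite G] {p : ℕ} [Fact p.Prime] (hp : p ≠ 2) (h : ∀ P : Subgroup G, IsPGroup p ↥P → P ≠ ⊥ → ¬ Cfsg.Involves (Matrix.SpecialLinearGroup (Fin 2) (ZMod p)) ↥(Subgroup.normalizer ((P : Subgroup G) : Set G))) : ∀ (K R : Subgroup G) [hR : (R.subgroupOf K).Normal], Cfsg.IsNormalizerPStable p (↥K ⧸ R.subgroupOf K) := by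
  classical
  intro K R hR Q hQ g hg hq
  by_cases hb : Q = ⊥
  · have h1 : (⟨g, hg⟩ : ↥(Subgroup.normalizer (Q : Set (↥K ⧸ R.subgroupOf K)))) ∈
        (Subgroup.centralizer (Q : Set (↥K ⧸ R.subgroupOf K))).subgroupOf (Subgroup.normalizer (Q : Set (↥K ⧸ R.subgroupOf K))) := by
      rw [Subgroup.mem_subgroupOf, Subgroup.mem_centralizer_iff]
      intro q hq'
      have hq2 : q ∈ Q := hq'
      rw [hb] at hq2
      rw [Subgroup.mem_bot.mp hq2]
      simp
    have h2 := (QuotientGroup.eq_one_iff _).mpr h1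
    rw [h2]
    exact Subgroup.one_mem _
  · rcases Cfsg.Agent.Lib.QuadP.normalizer_or_involves hp Q hQ g hg hq with h1 | h1
    · exact h1
    · exfalso
      obtain ⟨Q₀, hQ₀, hQ₀ne, h3⟩ := Cfsg.Agent.Lib.QuadP.involves_normalizer_of_surj
        (QuotientGroup.mk' (R.subgroupOf K)) (QuotientGroup.mk'_surjective _) Q hQ hb
      have h4 := Cfsg.Agent.Lib.QuadP.involves_normalizer_subgroup K Q₀
      refine h (Q₀.map K.subtype) (hQ₀.map _) ?_ (Cfsg.Agent.Lib.InvolvesAPI.Involves.trans (Cfsg.Agent.Lib.InvolvesAPI.Involves.trans h1 h3) h4)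
      intro h5
      apply hQ₀ne
      exact (Subgroup.map_eq_bot_iff_of_injective _ K.subtype_injective).mp h5

end Cfsg.Agent.S2004
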