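import Mathlib
import Cfsg.Statements.S2005
import Cfsg.Agent.Lib.NPCSection
import Cfsg.Agent.Lib.CosetGraph2

set_option autoImplicit false
universe u
open Cfsg

namespace Cfsg.Agent.S2005

/-- Thompson's normal p-complement criterion in functor form. Let p be a prime, G a finite group with Sylow p-subgroup S, and W an isomorphism-invariant p-group functor (W assigns to every group Q a subgroup W(Q), nontrivial whenever Q is a nontrivial finite p-group, and every isomorphism from a finite p-group Q onto a group R carries W(Q) onto W(R)). Suppose N_G(W(S)) has a normal p-complement, and that W(S*) is normal in G* whenever G* = K/R is a section of G with C_{G*}(O_p(G*)) ≤ O_p(G*) such that G*/O_p(G*) has a normal p-complement, and S* is a Sylow p-subgroup of G* that is a maximal subgroup of G*. Then G has a normal p-complement. -/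
theorem result {G : Type u} [Group G] [Finite G] {p : ℕ} [Fact p.Prime] (W : ∀ (Q : Type u) [Group Q], Subgroup Q) (hW : Cfsg.IsCharPFunctor.{u} p W) (S : Sylow p G) (hN : Cfsg.HasNormalPComplement p ↥(Subgroup.normalizer ((Cfsg.inducedFunctor (G := G) W (S : Subgroup G) : Subgroup G) : Set G))) (hloc : ∀ (K R : Subgroup G) [hR : (R.subgroupOf K).Normal], Subgroup.centralizer ((Cfsg.pCore p (↥K ⧸ R.subgroupOf K) : Subgroup (↥K ⧸ R.subgroupOf K)) : Set (↥K ⧸ R.subgroupOf K)) ≤ Cfsg.pCore p (↥K ⧸ R.subgroupOf K) → Cfsg.HasNormalPComplement p ((↥K ⧸ R.subgroupOf K) ⧸ Cfsg.pCore p (↥K ⧸ R.subgroupOf K)) → ∀ T : Sylow p (↥K ⧸ R.subgroupOf K), IsCoatom (T : Subgroup (↥K ⧸ R.subgroupOf K)) → (Cfsg.inducedFunctor (G := (↥K ⧸ R.subgroupOf K)) W ((T : Subgroup (↥K ⧸ R.subgroupOf K)))).Normal) : Cfsg.HasNormalPComplement p G := by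
  classical
  open Cfsg.Agent.Lib.NPCSection in
  refine Cfsg.Agent.Lib.NPCFunctor.functor_reduction hW (Sec := fun X _ => IsSection G X) (fun X _ Y hX => IsSection.sub hX Y)
    (fun X _ M _ hX => IsSection.quot hX M) ?_ (IsSection.refl G) S hN
  intro X _ _ T K₀ hX hC
  obtain ⟨K, R, hR, ⟨e⟩⟩ := IsSection.exists_equiv hX
  haveI := hR
  have hY1 := Cfsg.Agent.Lib.CosetGraph2.centralizer_pCore_le_of_equiv p e hC.cent
  have hY2 : HasNormalPComplement p ((↥K ⧸ R.subgroupOf K) ⧸ Cfsg.pCore p (↥K ⧸ R.subgroupOf K)) :=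
    (Cfsg.Agent.Lib.NPCBasic.hasNPC_congr (QuotientGroup.congr _ _ e
      (Cfsg.Agent.Lib.CosetGraph2.pCore_map_equiv p e))).mp
      (config_hasNPC_quotient hC T.isPGroup')
  let T' : Sylow p (↥K ⧸ R.subgroupOf K) := T.mapSurjective (f := e.toMonoidHom) e.surjective
  have hT' : (T' : Subgroup (↥K ⧸ R.subgroupOf K)) = (T : Subgroup X).map e.toMonoidHom := rfl
  have hco : IsCoatom (T' : Subgroup (↥K ⧸ R.subgroupOf K)) := by
    rw [hT', Subgroup.map_equiv_eq_comap_symm']
    exact (Subgroup.isCoatom_comap e.symm).mpr hC.coatom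
  have h := hloc K R hY1 hY2 T' hco
  rw [hT'] at h
  exact normal_of_equiv hW e _ T.isPGroup' h

end Cfsg.Agent.S2005
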