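import Mathlib
import Cfsg.Statements.S2010
import Cfsg.Agent.Lib.PermFourSection
import Cfsg.Agent.Lib.CoprimeHyper
import Cfsg.Agent.Lib.CharTwoLocal2
import Cfsg.Agent.Lib.PLocalTools
import Cfsg.Agent.Lib.ChainStab
import Cfsg.Agent.Lib.PCore
import Cfsg.Agent.Lib.PResid
import Cfsg.Agent.Lib.Replacement
import Cfsg.Agent.Lib.AbReplace
import Cfsg.Agent.Lib.InvolvesAPI
import Cfsg.Agent.Lib.ThompsonNPC1
import Cfsg.Agent.S3078

set_option autoImplicit false
universe u
open Cfsg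
open scoped commutatorElement

namespace Cfsg.Agent.S2010

open Cfsg.Agent.Lib.PCore Cfsg.Agent.Lib.PLocalTools Cfsg.Agent.Lib.ChainStab
open Cfsg.Agent.Lib.InvolvesAPI

theorem card_eq_relIndex_mul {X : Type*} [Group X] {H K : Subgroup X} (h : H ≤ K) :
    Nat.card K = H.relIndex K * Nat.card H := by
  have h1 := Subgroup.card_mul_index (H.subgroupOf K)
  rw [Nat.card_congr (Subgroup.subgroupOfEquivOfLe h).toEquiv] at h1
  rw [← h1, Subgroup.relIndex, mul_comm]

section Tv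

variable {X : Type*} [Group X] [Finite X]

/-- The chain lemma for a subgroup mapped into itself. -/
theorem chain_conj' {V : Subgroup X}
    (hVc : ∀ x ∈ V, ∀ y ∈ V, x * y = y * x) (hV2 : ∀ v ∈ V, v * v = 1) {g u u' : X}
    (hgV : ∀ v ∈ V, g * v * g⁻¹ ∈ V) (hu : u ∈ V) (hu' : u' ∈ V)
    (h0 : ∀ v ∈ V, g * v * g⁻¹ = v ∨ g * v * g⁻¹ = u * v ∨ g * v * g⁻¹ = u' * v ∨ g * v * g⁻¹ = u * u' * v)
    (h1 : g * u' * g⁻¹ = u') (h2 : g * u * g⁻¹ = u ∨ g * u * g⁻¹ = u * u') :
    ∀ v ∈ V, g ^ 4 * v * (g ^ 4)⁻¹ = v := by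
  intro v hv
  let φ : V →* V :=
    { toFun := fun x => ⟨g * x * g⁻¹, hgV x x.2⟩
      map_one' := Subtype.ext (by simp)
      map_mul' := fun a b => Subtype.ext (by
        show g * ((a : X) * b) * g⁻¹ = g * a * g⁻¹ * (g * b * g⁻¹)
        group) }
  have hφ : ∀ x : V, ((φ x : V) : X) = g * x * g⁻¹ := fun x => rfl
  have key := Cfsg.Agent.Lib.ThompsonNPC1.chain_abs (W := V) (fun x y => Subtype.ext (hVc _ x.2 _ y.2))
    (fun x => Subtype.ext (hV2 _ x.2)) φ (u := ⟨u, hu⟩) (u' := ⟨u', hu'⟩)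
    (by
      intro x
      rcases h0 x x.2 with h | h | h | h
      · exact Or.inl (Subtype.ext (by rw [hφ]; exact h))
      · exact Or.inr (Or.inl (Subtype.ext (by rw [hφ]; exact h)))
      · exact Or.inr (Or.inr (Or.inl (Subtype.ext (by rw [hφ]; exact h))))
      · exact Or.inr (Or.inr (Or.inr (Subtype.ext (by rw [hφ]; exact h)))))
    (Subtype.ext (by rw [hφ]; exact h1))
    (by
      rcases h2 with h | h
      · exact Or.inl (Subtype.ext (by rw [hφ]; exact h))
      · exact Or.inr (Subtype.ext (by rw [hφ]; exact h)))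
    ⟨v, hv⟩
  have h3 := congrArg Subtype.val key
  simp only [hφ] at h3
  have h4 : g ^ 4 = g * g * g * g := by simp only [pow_succ, pow_zero, one_mul]
  calc g ^ 4 * v * (g ^ 4)⁻¹ = g * (g * (g * (g * v * g⁻¹) * g⁻¹) * g⁻¹) * g⁻¹ := by rw [h4]; group
    _ = v := h3

/-- Two "transvections" on an elementary abelian `E`: a section `S₄`, or else their "product" is a
`2`-element on `E`. -/
theorem tv_dichotomy {E : Subgroup X} {a a' w w' : X}
    (hEc : ∀ x ∈ E, ∀ y ∈ E, x * y = y * x) (hE2 : ∀ v ∈ E, v * v = 1)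
    (haE : ∀ v ∈ E, a⁻¹ * v * a ∈ E) (ha'E : ∀ v ∈ E, a' * v * a'⁻¹ ∈ E)
    (hw : w ∈ E) (hw' : w' ∈ E) (hw1 : w ≠ 1) (hw'1 : w' ≠ 1)
    (ha_conj : ∀ v ∈ E, a * v * a⁻¹ = v ∨ a * v * a⁻¹ = w * v)
    (ha'_conj : ∀ v ∈ E, a' * v * a'⁻¹ = v ∨ a' * v * a'⁻¹ = w' * v)
    (h_a_w : a * w * a⁻¹ = w) (h_a'_w' : a' * w' * a'⁻¹ = w')
    (hS4 : ¬ Involves (Equiv.Perm (Fin 4)) X) :
    ∀ v ∈ E, (a' * a⁻¹) ^ 4 * v * ((a' * a⁻¹) ^ 4)⁻¹ = v := by
  classical
  have hww : w * w = 1 := hE2 w hw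
  have hw'w' : w' * w' = 1 := hE2 w' hw'
  have hcomm : w * w' = w' * w := hEc w hw w' hw'
  set e := a' * a⁻¹ with he_eq
  have ha_inv : ∀ v ∈ E, a⁻¹ * v * a = v ∨ a⁻¹ * v * a = w * v := by
    intro v hv
    have hv' : a⁻¹ * v * a ∈ E := haE v hv
    have e1 : a * (a⁻¹ * v * a) * a⁻¹ = v := by group
    rcases ha_conj _ hv' with h | h
    · left; rw [← h, e1]
    · right
      rw [e1] at h
      calc a⁻¹ * v * a = w * (w * (a⁻¹ * v * a)) := by rw [← mul_assoc, hww, one_mul]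
        _ = w * v := by rw [← h]
  have he_conj : ∀ v, e * v * e⁻¹ = a' * (a⁻¹ * v * a) * a'⁻¹ := by
    intro v; rw [he_eq]; group
  have heE : ∀ v ∈ E, e * v * e⁻¹ ∈ E := by
    intro v hv
    rw [he_conj]
    exact ha'E _ (haE v hv)
  have hmap : ∀ x y, a' * (x * y) * a'⁻¹ = (a' * x * a'⁻¹) * (a' * y * a'⁻¹) := by
    intro x y; group
  have hform : ∀ v ∈ E, e * v * e⁻¹ = v ∨ e * v * e⁻¹ = w * v ∨ e * v * e⁻¹ = w' * v ∨
      e * v * e⁻¹ = w * w' * v := by
    intro v hv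
    rw [he_conj]
    rcases ha_inv v hv with h | h
    · rw [h]
      rcases ha'_conj v hv with h' | h'
      · exact Or.inl h'
      · exact Or.inr (Or.inr (Or.inl h'))
    · rw [h, hmap]
      rcases ha'_conj w hw with h1 | h1 <;> rcases ha'_conj v hv with h2 | h2 <;> rw [h1, h2]
      · exact Or.inr (Or.inl rfl)
      · right; right; right; exact (mul_assoc _ _ _).symm
      · right; right; right; rw [hcomm]
      · right; left
        calc w' * w * (w' * v) = (w * w') * (w' * v) := by rw [hcomm]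
          _ = w * (w' * w') * v := by group
          _ = w * v := by rw [hw'w', mul_one]
  by_cases h1 : a * w' * a⁻¹ = w'
  · have h1' : a⁻¹ * w' * a = w' := by
      calc a⁻¹ * w' * a = a⁻¹ * (a * w' * a⁻¹) * a := by rw [h1]
        _ = w' := by group
    refine chain_conj' hEc hE2 heE hw hw' hform ?_ ?_
    · rw [he_conj, h1', h_a'_w']
    · rw [he_conj]
      rcases ha_inv w hw with h | h
      · rw [h]
        rcases ha'_conj w hw with h' | h'
        · exact Or.inl h'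
        · right; rw [h', hcomm]
      · exfalso
        rw [hww] at h
        apply hw1
        have h3 : a⁻¹ * w * a = w := by
          calc a⁻¹ * w * a = a⁻¹ * (a * w * a⁻¹) * a := by rw [h_a_w]
            _ = w := by group
        rw [h3] at h
        exact h
  by_cases h2 : a' * w * a'⁻¹ = w
  · refine chain_conj' (u := w') (u' := w) hEc hE2 heE hw' hw ?_ ?_ ?_
    · intro v hv
      rcases hform v hv with h | h | h | h
      · exact Or.inl h
      · exact Or.inr (Or.inr (Or.inl h))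
      · exact Or.inr (Or.inl h)
      · right; right; right; rw [h, hcomm]
    · rw [he_conj]
      have h3 : a⁻¹ * w * a = w := by
        calc a⁻¹ * w * a = a⁻¹ * (a * w * a⁻¹) * a := by rw [h_a_w]
          _ = w := by group
      rw [h3, h2]
    · rw [he_conj]
      rcases ha_inv w' hw' with h | h
      · rw [h, h_a'_w']; exact Or.inl rfl
      · rw [h, hmap, h2, h_a'_w']; right; rw [hcomm]
  -- the remaining case: a section `S₄`
  exfalso
  apply hS4
  have h3 : a * w' * a⁻¹ = w * w' := (ha_conj w' hw').resolve_left h1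
  have h4 : a' * w * a'⁻¹ = w * w' := by
    rw [((ha'_conj w hw).resolve_left h2), hcomm]
  have hne : w ≠ w' := by
    intro h
    apply h2
    calc a' * w * a'⁻¹ = a' * w' * a'⁻¹ := by rw [← h]
      _ = w' := h_a'_w'
      _ = w := h.symm
  exact Cfsg.Agent.Lib.PermFourSection.of_elements (a := a) (a' := a') hww hw'w' hcomm hw1 hw'1 hne
    h_a_w h3 h_a'_w' h4

/-- The action of a product of an offender-type element and its conjugate on `E`. -/
theorem conj_pow_four {E : Subgroup X} {a x : X}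
    (hEc : ∀ x ∈ E, ∀ y ∈ E, x * y = y * x) (hE2 : ∀ v ∈ E, v * v = 1)
    (haE : ∀ v ∈ E, a * v * a⁻¹ ∈ E) (haE' : ∀ v ∈ E, a⁻¹ * v * a ∈ E)
    (hxE : ∀ v ∈ E, x * v * x⁻¹ ∈ E) (hxE' : ∀ v ∈ E, x⁻¹ * v * x ∈ E)
    (hidx : Nat.card E ≤ 2 * Nat.card ↥(E ⊓ Subgroup.centralizer ({a} : Set X)))
    (hS4 : ¬ Involves (Equiv.Perm (Fin 4)) X) :
    ∀ v ∈ E, ((x * a * x⁻¹) * a⁻¹) ^ 4 * v * (((x * a * x⁻¹) * a⁻¹) ^ 4)⁻¹ = v := by
  classical
  set a' := x * a * x⁻¹ with ha'
  by_cases hall : ∀ v ∈ E, a * v * a⁻¹ = v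
  · -- `a` centralizes `E`
    have h1 : ∀ v ∈ E, a' * v * a'⁻¹ = v := by
      intro v hv
      have h2 := hall _ (hxE' v hv)
      calc a' * v * a'⁻¹ = x * (a * (x⁻¹ * v * x) * a⁻¹) * x⁻¹ := by rw [ha']; group
        _ = v := by rw [h2]; group
    have h2 : ∀ v ∈ E, a⁻¹ * v * a = v := by
      intro v hv
      have h3 := hall v hv
      calc a⁻¹ * v * a = a⁻¹ * (a * v * a⁻¹) * a := by rw [h3]
        _ = v := by group
    have h3 : ∀ v ∈ E, (a' * a⁻¹) * v * (a' * a⁻¹)⁻¹ = v := by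
      intro v hv
      have h4 := h1 _ (haE' v hv)
      rw [h2 v hv] at h4
      calc (a' * a⁻¹) * v * (a' * a⁻¹)⁻¹ = a' * (a⁻¹ * v * a) * a'⁻¹ := by group
        _ = v := by rw [h2 v hv, h1 v hv]
    intro v hv
    have h5 : ∀ n : ℕ, (a' * a⁻¹) ^ n * v * ((a' * a⁻¹) ^ n)⁻¹ = v := by
      intro n
      induction n with
      | zero => simp
      | succ n ih =>
        calc (a' * a⁻¹) ^ (n + 1) * v * ((a' * a⁻¹) ^ (n + 1))⁻¹
            = (a' * a⁻¹) ^ n * ((a' * a⁻¹) * v * (a' * a⁻¹)⁻¹) * ((a' * a⁻¹) ^ n)⁻¹ := by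
              rw [pow_succ]; group
          _ = v := by rw [h3 v hv, ih]
    exact h5 4
  · push Not at hall
    obtain ⟨v₀, hv₀, hv₀a⟩ := hall
    set U : Subgroup X := E ⊓ Subgroup.centralizer ({a} : Set X) with hU
    have hmemU : ∀ {v : X}, v ∈ U ↔ v ∈ E ∧ a * v = v * a := by
      intro v
      constructor
      · rintro ⟨h1, h2⟩
        exact ⟨h1, Subgroup.mem_centralizer_iff.mp h2 a rfl⟩
      · rintro ⟨h1, h2⟩
        refine ⟨h1, Subgroup.mem_centralizer_iff.mpr ?_⟩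
        rintro _ rfl
        exact h2
    have hv₀U : v₀ ∉ U := fun h => hv₀a (by rw [(hmemU.mp h).2]; group)
    have hUE : U ≤ E := inf_le_left
    have hidxU : U.relIndex E = 2 := by
      have h1 := card_eq_relIndex_mul hUE
      have hpos : 0 < Nat.card U := Nat.card_pos
      have h2 : U.relIndex E ≤ 2 := by
        rw [h1] at hidx
        exact Nat.le_of_mul_le_mul_right hidx hpos
      have h3 : U.relIndex E ≠ 0 := by
        intro h0
        rw [h0, zero_mul] at h1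
        exact Nat.card_pos.ne' h1
      have h4 : U.relIndex E ≠ 1 := by
        intro h0
        exact hv₀U (Subgroup.relIndex_eq_one.mp h0 hv₀)
      omega
    set w := a * v₀ * a⁻¹ * v₀⁻¹ with hw
    have hwE : w ∈ E := E.mul_mem (haE v₀ hv₀) (E.inv_mem hv₀)
    have hw1 : w ≠ 1 := by
      intro h
      apply hv₀a
      exact mul_inv_eq_one.mp h
    have ha_conj : ∀ v ∈ E, a * v * a⁻¹ = v ∨ a * v * a⁻¹ = w * v := by
      intro v hv
      by_cases hvU : v ∈ U
      · left; rw [(hmemU.mp hvU).2]; group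
      · right
        have hi : (U.subgroupOf E).index = 2 := hidxU
        have h1 : (⟨v₀, hv₀⟩ * ⟨v, hv⟩ : E) ∈ U.subgroupOf E := by
          rw [Subgroup.mul_mem_iff_of_index_two hi]
          exact iff_of_false hv₀U hvU
        have h2 : v₀ * v ∈ U := h1
        have h3 : a * (v₀ * v) = (v₀ * v) * a := (hmemU.mp h2).2
        have h4 : (a * v₀ * a⁻¹) * (a * v * a⁻¹) = v₀ * v := by
          calc (a * v₀ * a⁻¹) * (a * v * a⁻¹) = (a * (v₀ * v)) * a⁻¹ := by group
            _ = v₀ * v := by rw [h3]; group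
        have h5 : a * v₀ * a⁻¹ = w * v₀ := by rw [hw]; group
        rw [h5] at h4
        have hav : a * v * a⁻¹ ∈ E := haE v hv
        have h6 : v₀ * (w * (a * v * a⁻¹)) = v₀ * v := by
          rw [← h4, hEc w hwE v₀ hv₀]; group
        have h7 := mul_left_cancel h6
        calc a * v * a⁻¹ = w * (w * (a * v * a⁻¹)) := by
              rw [← mul_assoc, hE2 w hwE, one_mul]
          _ = w * v := by rw [h7]
    have h_a_w : a * w * a⁻¹ = w := by
      rcases ha_conj w hwE with h | h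
      · exact h
      · rw [hE2 w hwE] at h
        exfalso
        apply hw1
        have : w = a⁻¹ * (a * w * a⁻¹) * a := by group
        rw [this, h]; group
    set w' := x * w * x⁻¹ with hw'
    have hw'E : w' ∈ E := hxE w hwE
    have hw'1 : w' ≠ 1 := by
      intro h
      apply hw1
      have : w = x⁻¹ * (x * w * x⁻¹) * x := by group
      rw [this, ← hw', h]; group
    have ha'_conj : ∀ v ∈ E, a' * v * a'⁻¹ = v ∨ a' * v * a'⁻¹ = w' * v := by
      intro v hv
      have e1 : a' * v * a'⁻¹ = x * (a * (x⁻¹ * v * x) * a⁻¹) * x⁻¹ := by rw [ha']; group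
      rcases ha_conj _ (hxE' v hv) with h | h
      · left; rw [e1, h]; group
      · right; rw [e1, h, hw']; group
    have h_a'_w' : a' * w' * a'⁻¹ = w' := by
      have e1 : a' * w' * a'⁻¹ = x * (a * w * a⁻¹) * x⁻¹ := by rw [ha', hw']; group
      rw [e1, h_a_w]
    have ha'E : ∀ v ∈ E, a' * v * a'⁻¹ ∈ E := by
      intro v hv
      rcases ha'_conj v hv with h | h <;> rw [h]
      · exact hv
      · exact E.mul_mem hw'E hv
    exact tv_dichotomy hEc hE2 haE' ha'E hwE hw'E hw1 hw'1 ha_conj ha'_conj h_a_w h_a'_w' hS4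

end Tv

section Core

variable {X : Type u} [Group X] [Finite X]

/-- A relative version of `C(F) ≤ F` in solvable groups. -/
theorem inf_centralizer_le [Group.IsSolvable X] (K M : Subgroup X) (hKn : K.Normal) (hMn : M.Normal)
    (h : ∀ L : Subgroup X, L.Normal → L ≤ K → Group.IsNilpotent L → L ≤ M) :
    K ⊓ Subgroup.centralizer (M : Set X) ≤ M := by
  set C := K ⊓ Subgroup.centralizer (M : Set X) with hCdef
  by_contra hC
  let π := QuotientGroup.mk' M
  have hsurj : Function.Surjective π := QuotientGroup.mk'_surjective M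
  have hCn : C.Normal := by
    haveI : (Subgroup.centralizer (M : Set X)).Normal := Subgroup.normal_centralizer
    exact Subgroup.normal_inf_normal _ _
  have hN : (C.map π).Normal := Subgroup.Normal.map hCn _ hsurj
  have hNne : C.map π ≠ ⊥ := by
    intro h
    apply hC
    intro x hx
    have : π x ∈ C.map π := ⟨x, hx, rfl⟩
    rw [h, Subgroup.mem_bot] at this
    exact (QuotientGroup.eq_one_iff _).mp this
  obtain ⟨A', hA'n, hA'ne, hA'le, hA'ab⟩ := exists_abelian_normal_le (C.map π) hN hNne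
  let A := A'.comap π
  have hAn : A.Normal := Subgroup.Normal.comap hA'n _
  let R := A ⊓ C
  have hRn : R.Normal := Subgroup.normal_inf_normal A C
  let ψ : R →* A' := (π.comp R.subtype).codRestrict A' (fun x => x.2.1)
  have hker : ψ.ker ≤ Subgroup.center R := by
    intro x hx
    have hx1 : π x = 1 := congrArg Subtype.val (MonoidHom.mem_ker.mp hx)
    have hxF : (x : X) ∈ M := (QuotientGroup.eq_one_iff _).mp hx1
    rw [Subgroup.mem_center_iff]
    intro y
    apply Subtype.ext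
    have hy : (y : X) ∈ Subgroup.centralizer (M : Set X) := y.2.2.2
    exact ((Subgroup.mem_centralizer_iff.mp hy) x hxF).symm
  have hA'comm : ∀ a b : A', a * b = b * a := by
    intro a b
    have h := Subgroup.commutator_mem_commutator a.2 b.2
    rw [hA'ab, Subgroup.mem_bot] at h
    apply Subtype.ext
    exact mul_inv_eq_one.mp (by
      have := commutatorElement_eq_one_iff_mul_comm.mp h
      simp [this])
  have hA'nil : Group.IsNilpotent A' := by
    let _ : CommGroup A' := { mul_comm := hA'comm }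
    infer_instance
  have hRnil : Group.IsNilpotent R := Subgroup.isNilpotent_of_ker_le_center ψ hker
  have hRM : R ≤ M := h R hRn (inf_le_right.trans inf_le_left) hRnil
  apply hA'ne
  rw [eq_bot_iff]
  intro x hx
  obtain ⟨c, hc, rfl⟩ := hA'le hx
  have hcA : c ∈ A := hx
  have : c ∈ M := hRM ⟨hcA, hc⟩
  rw [Subgroup.mem_bot]
  exact (QuotientGroup.eq_one_iff _).mpr this

/-- An element of odd order normalizing an abelian `2`-group and centralizing its involutions
centralizes it. -/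
theorem commute_of_omega {V W : Subgroup X} {b : X} (hVp : IsPGroup 2 V)
    (hVc : ∀ x ∈ V, ∀ y ∈ V, x * y = y * x) (hWmem : ∀ v ∈ V, v * v = 1 → v ∈ W)
    (hWp : IsPGroup 2 W) (hbW : ∀ w ∈ W, Commute w b) (hb : (orderOf b).Coprime 2)
    (hbV : ∀ v ∈ V, b * v * b⁻¹ ∈ V) : ∀ v ∈ V, Commute v b := by
  haveI : Fact (Nat.Prime 2) := ⟨Nat.prime_two⟩
  have key : ∀ j : ℕ, ∀ v ∈ V, v ^ 2 ^ j = 1 → Commute v b := by
    intro j
    induction j with
    | zero =>
      intro v _ hv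
      have : v = 1 := by simpa using hv
      rw [this]; exact Commute.one_left b
    | succ j ih =>
      intro v hv hvj
      have hvv : v * v ∈ V := V.mul_mem hv hv
      have h1 : Commute (v * v) b := by
        apply ih _ hvv
        rw [← pow_two, ← pow_mul, ← pow_succ']
        exact hvj
      refine Cfsg.Agent.Lib.PResid.commute_of_coprime_of_chain hWp hb hbW ?_
      apply hWmem
      · exact V.mul_mem (V.inv_mem hv) (hbV v hv)
      · have hbv := hbV v hv
        have h2 : (b * v * b⁻¹) * (b * v * b⁻¹) = v * v := by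
          calc (b * v * b⁻¹) * (b * v * b⁻¹) = b * (v * v) * b⁻¹ := by group
            _ = (v * v) * b * b⁻¹ := by rw [h1.symm.eq]
            _ = v * v := by group
        have h3 : (b * v * b⁻¹) * v⁻¹ = v⁻¹ * (b * v * b⁻¹) := hVc _ hbv _ (V.inv_mem hv)
        calc v⁻¹ * (b * v * b⁻¹) * (v⁻¹ * (b * v * b⁻¹))
            = v⁻¹ * ((b * v * b⁻¹) * v⁻¹) * (b * v * b⁻¹) := by group
          _ = v⁻¹ * (v⁻¹ * (b * v * b⁻¹)) * (b * v * b⁻¹) := by rw [h3]
          _ = v⁻¹ * v⁻¹ * ((b * v * b⁻¹) * (b * v * b⁻¹)) := by group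
          _ = 1 := by rw [h2]; group
  intro v hv
  obtain ⟨j, hj⟩ := hVp ⟨v, hv⟩
  exact key j v hv (congrArg Subtype.val hj)

/-- A `2`-element of a subgroup of odd order is trivial. -/
theorem eq_one_of_two_elt {M : Subgroup X} (hM : ¬ 2 ∣ Nat.card M) {z : X} (hz : z ∈ M) {n : ℕ}
    (hzn : z ^ 2 ^ n = 1) : z = 1 := by
  have h1 : orderOf (⟨z, hz⟩ : M) ∣ Nat.card M := orderOf_dvd_natCard _
  have h2 : orderOf (⟨z, hz⟩ : M) = orderOf z := Subgroup.orderOf_mk z hz
  rw [h2] at h1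
  have h3 : orderOf z ∣ 2 ^ n := orderOf_dvd_of_pow_eq_one hzn
  have h4 : (orderOf z).Coprime 2 := by
    apply Nat.Coprime.coprime_dvd_left h1
    exact (Nat.Prime.coprime_iff_not_dvd Nat.prime_two).mpr hM |>.symm
  have h5 := Nat.Coprime.eq_one_of_dvd (Nat.Coprime.pow_right n h4) h3
  exact orderOf_eq_one_iff.mp h5

/-- The main local analysis. -/
theorem core [Group.IsSolvable X] (hS4 : ¬ Involves (Equiv.Perm (Fin 4)) X) (hO : pPrimeCore 2 X = ⊥)
    (S : Sylow 2 X) (hcl : Subgroup.lowerCentralSeries (S : Subgroup X) 2 = ⊥) {A : Subgroup X}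
    (hA : A ∈ maxEAIn 2 (S : Subgroup X)) : A ≤ pCore 2 X := by
  classical
  have : Fact (Nat.Prime 2) := ⟨Nat.prime_two⟩
  set T := pCore 2 X with hT
  have hTn : T.Normal := inferInstance
  have hTS : T ≤ S := pCore_le_sylow 2 S
  have hTp : IsPGroup 2 T := isPGroup_pCore 2
  have hSp : IsPGroup 2 (S : Subgroup X) := S.isPGroup'
  have hCT : Subgroup.centralizer (T : Set X) ≤ T := centralizer_pCore_le 2 hO
  set Z := T ⊓ Subgroup.centralizer (T : Set X) with hZ
  have hZn : Z.Normal := inferInstance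
  have hZp : IsPGroup 2 Z := hTp.to_le inf_le_left
  have hZc : ∀ x ∈ Z, ∀ y ∈ Z, x * y = y * x := fun x hx y hy =>
    Subgroup.mem_centralizer_iff.mp hy.2 x hx.1
  set W := omegaOne 2 Z with hW
  have hWmem : ∀ {x : X}, x ∈ W ↔ x ∈ Z ∧ x * x = 1 := by
    intro x
    rw [hW, Cfsg.Agent.S3078.mem_omegaOne_of_comm hZc, pow_two]
  have hWn : W.Normal := by
    constructor
    intro n hn g
    obtain ⟨h1, h2⟩ := hWmem.mp hn
    refine hWmem.mpr ⟨hZn.conj_mem n h1 g, ?_⟩
    calc g * n * g⁻¹ * (g * n * g⁻¹) = g * (n * n) * g⁻¹ := by group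
      _ = 1 := by rw [h2]; group
  have hWZ : W ≤ Z := fun x hx => (hWmem.mp hx).1
  have hWT : W ≤ T := hWZ.trans inf_le_left
  have hWc : ∀ x ∈ W, ∀ y ∈ W, x * y = y * x := fun x hx y hy => hZc x (hWZ hx) y (hWZ hy)
  have hW2 : ∀ v ∈ W, v * v = 1 := fun v hv => (hWmem.mp hv).2
  have hWp : IsPGroup 2 W := hZp.to_le hWZ
  have hTW : ∀ t ∈ T, ∀ v ∈ W, t * v = v * t := fun t ht v hv =>
    Subgroup.mem_centralizer_iff.mp (hWZ hv).2 t ht
  have hcl' : ∀ s ∈ (S : Subgroup X), ∀ t ∈ (S : Subgroup X), ∀ u ∈ (S : Subgroup X),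
      ⁅⁅t, s⁆, u⁆ = 1 := by
    intro s hs t ht u hu
    have h1 : ⁅⁅t, s⁆, u⁆ ∈ Subgroup.lowerCentralSeries (S : Subgroup X) 2 :=
      Subgroup.commutator_mem_commutator (Subgroup.commutator_mem_commutator ht hs) hu
    rw [hcl] at h1
    exact h1
  have hst : ∀ s ∈ (S : Subgroup X), ∀ t ∈ T, ⁅t, s⁆ ∈ Z := by
    intro s hs t ht
    have hc : ⁅t, s⁆ ∈ Subgroup.centralizer (T : Set X) := by
      rw [Subgroup.mem_centralizer_iff]
      intro u hu
      have h1 := hcl' s hs t (hTS ht) u (hTS hu)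
      exact (commutatorElement_eq_one_iff_mul_comm.mp h1).symm
    exact ⟨hCT hc, hc⟩
  set K := stabSub T Z with hK
  have hNT : ∀ g : X, g ∈ Subgroup.normalizer (T : Set X) := fun g => by
    rw [Subgroup.normalizer_eq_top_iff.mpr hTn]; trivial
  have hNZ : ∀ g : X, g ∈ Subgroup.normalizer (Z : Set X) := fun g => by
    rw [Subgroup.normalizer_eq_top_iff.mpr hZn]; trivial
  have hKn : K.Normal := ⟨fun k hk g => conj_mem_stabSub hk (hNT g) (hNZ g)⟩
  have hSK : (S : Subgroup X) ≤ K := fun s hs => ⟨hNZ s, fun v hv => hst s hs v hv⟩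
  have hD : K ⊓ Subgroup.centralizer (W : Set X) ≤ T := by
    have hCn : (Subgroup.centralizer (W : Set X)).Normal := Subgroup.normal_centralizer
    have hDn : (K ⊓ Subgroup.centralizer (W : Set X)).Normal := Subgroup.normal_inf_normal _ _
    refine le_pCore hDn (isPGroup_of_forall_coprime_eq_one fun b hb hbc => ?_)
    have h1 : ∀ z ∈ Z, Commute z b := commute_of_omega hZp hZc
      (fun v hv hvv => hWmem.mpr ⟨hv, hvv⟩) hWp
      (fun w hw => (Subgroup.mem_centralizer_iff.mp hb.2 w hw)) hbc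
      (fun v hv => hZn.conj_mem v hv b)
    have h2 : ∀ v ∈ T, Commute v b := commute_of_stab hZp hbc h1 hb.1.2
    have h3 : b ∈ Subgroup.centralizer (T : Set X) :=
      Subgroup.mem_centralizer_iff.mpr fun t ht => h2 t ht
    have h4 : b ∈ T := hCT h3
    obtain ⟨j, hj⟩ := hTp ⟨b, h4⟩
    have hj' : b ^ 2 ^ j = 1 := congrArg Subtype.val hj
    have h5 := Nat.Coprime.eq_one_of_dvd (Nat.Coprime.pow_right j hbc) (orderOf_dvd_of_pow_eq_one hj')
    exact orderOf_eq_one_iff.mp h5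
  by_contra hAT
  set q := QuotientGroup.mk' T with hq
  have hq1 : ∀ x, q x = 1 ↔ x ∈ T := fun x => QuotientGroup.eq_one_iff x
  have hqs : Function.Surjective q := QuotientGroup.mk'_surjective T
  have hact : ∀ g g', q g = q g' → ∀ v ∈ W, g * v * g⁻¹ = g' * v * g'⁻¹ := by
    intro g g' hgg' v hv
    have h1 : g'⁻¹ * g ∈ T := by
      rw [← hq1, map_mul, map_inv, hgg']; group
    have h2 := hTW _ h1 v hv
    calc g * v * g⁻¹ = g' * ((g'⁻¹ * g) * v) * g⁻¹ := by group
      _ = g' * (v * (g'⁻¹ * g)) * g⁻¹ := by rw [h2]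
      _ = g' * v * g'⁻¹ := by group
  set K' := K.map q with hK'
  have hK'n : K'.Normal := hKn.map q hqs
  set M := pPrimeCore 2 (X ⧸ T) ⊓ K' with hM
  have hMn : M.Normal := Subgroup.normal_inf_normal _ _
  have hModd : ¬ 2 ∣ Nat.card M := fun h =>
    not_dvd_card_pPrimeCore (G := X ⧸ T) 2 (h.trans (Subgroup.card_dvd_of_le inf_le_left))
  have hO2 : pCore 2 (X ⧸ T) = ⊥ := pCore_quotient_pCore 2
  have hZ' : K' ⊓ Subgroup.centralizer (M : Set (X ⧸ T)) ≤ M :=
    inf_centralizer_le K' M hK'n hMn fun L hLn hLK hLnil => le_inf (by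
      have h1 := (le_fittingSubgroup hLn hLnil).trans (fittingSubgroup_le_sup (G := X ⧸ T) 2)
      rwa [hO2, bot_sup_eq] at h1) hLK
  have hAS : A ≤ S := hA.1
  have hAea : IsElementaryAbelian 2 A := hA.2.1
  have hAc : ∀ x ∈ A, ∀ y ∈ A, x * y = y * x := fun x hx y hy =>
    Cfsg.Agent.Lib.ThompsonJ.ea_comm hAea hx hy
  have hA2 : ∀ x ∈ A, x * x = 1 := fun x hx => by
    rw [← pow_two]; exact hAea.2 x hx
  set Ab := A.map q with hAb
  have hAbc : IsMulCommutative ↥Ab := by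
    refine ⟨⟨?_⟩⟩
    rintro ⟨_, a, ha, rfl⟩ ⟨_, b, hb, rfl⟩
    apply Subtype.ext
    show q a * q b = q b * q a
    rw [← map_mul, ← map_mul, hAc a ha b hb]
  have hAb2 : ∀ a ∈ Ab, a ^ 2 = 1 := by
    rintro _ ⟨a, ha, rfl⟩
    show q a ^ 2 = 1
    rw [pow_two, ← map_mul, hA2 a ha, map_one]
  have hAbN : Ab ≤ Subgroup.normalizer (M : Set (X ⧸ T)) := by
    rw [Subgroup.normalizer_eq_top_iff.mpr hMn]; exact le_top
  have hiSup := Cfsg.Agent.Lib.CoprimeHyper.eq_iSup_inf_centralizer Ab M hAbc hAb2 hModd hAbN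
  obtain ⟨Bb, hBb, hBbi, u, hu, huB, a, ha, hua⟩ : ∃ Bb : Subgroup (X ⧸ T), Bb ≤ Ab ∧
      Bb.relIndex Ab ≤ 2 ∧ ∃ u ∈ M, u ∈ Subgroup.centralizer (Bb : Set (X ⧸ T)) ∧
      ∃ a ∈ A, u * q a ≠ q a * u := by
    by_contra hcon
    push Not at hcon
    apply hAT
    intro a ha
    have h1 : q a ∈ Subgroup.centralizer (M : Set (X ⧸ T)) := by
      have h2 : M ≤ Subgroup.centralizer ({q a} : Set (X ⧸ T)) := by
        conv_lhs => rw [hiSup]
        refine iSup_le fun B => ?_
        rintro x ⟨hx1, hx2⟩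
        rw [Subgroup.mem_centralizer_iff]
        rintro _ rfl
        exact (hcon B.1 B.2.1 B.2.2 x hx1 hx2 a ha).symm
      rw [Subgroup.mem_centralizer_iff]
      intro y hy
      exact (Subgroup.mem_centralizer_iff.mp (h2 hy) (q a) rfl).symm
    have h2 : q a ∈ M := hZ' ⟨⟨a, hSK (hAS ha), rfl⟩, h1⟩
    have h3 : q a ^ 2 ^ 1 = 1 := by
      rw [pow_one, pow_two, ← map_mul, hA2 a ha, map_one]
    exact (hq1 a).mp (eq_one_of_two_elt hModd h2 h3)
  set qa := q a with hqa
  have hqaa : qa * qa = 1 := by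
    rw [hqa, ← map_mul, hA2 a ha, map_one]
  have hqainv : qa⁻¹ = qa := inv_eq_of_mul_eq_one_left hqaa
  set xb := u * qa * u⁻¹ * qa⁻¹ with hxb
  have hxbM : xb ∈ M := by
    have h1 : qa * u⁻¹ * qa⁻¹ ∈ M := hMn.conj_mem _ (M.inv_mem hu) qa
    have h2 : xb = u * (qa * u⁻¹ * qa⁻¹) := by rw [hxb]; group
    rw [h2]
    exact M.mul_mem hu h1
  have hxb1 : xb ≠ 1 := by
    intro h
    apply hua
    rw [hxb] at h
    have h3 := mul_inv_eq_one.mp h
    have h4 : u * qa = qa * u := by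
      calc u * qa = (u * qa * u⁻¹) * u := by group
        _ = qa * u := by rw [h3]
    exact h4
  have hinv : qa * xb * qa⁻¹ = xb⁻¹ := by
    rw [hqainv, hxb, hqainv]
    calc qa * (u * qa * u⁻¹ * qa) * qa = (qa * u) * qa * u⁻¹ * (qa * qa) := by group
      _ = qa * u * qa * u⁻¹ := by rw [hqaa]; group
      _ = qa⁻¹ * u * qa⁻¹ * u⁻¹ := by rw [hqainv]
      _ = _ := by group
  have hBbc : ∀ b ∈ Bb, b * xb = xb * b := by
    intro b hb
    have h1 : b * u = u * b := (Subgroup.mem_centralizer_iff.mp huB b hb)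
    have h2 : b * qa = qa * b := by
      obtain ⟨b₀, hb₀, rfl⟩ := hBb hb
      rw [hqa, ← map_mul, ← map_mul, hAc b₀ hb₀ a ha]
    have h3 : b * qa⁻¹ = qa⁻¹ * b := by rw [hqainv]; exact h2
    have h4 : b * u⁻¹ = u⁻¹ * b := by
      calc b * u⁻¹ = u⁻¹ * (u * b) * u⁻¹ := by group
        _ = u⁻¹ * (b * u) * u⁻¹ := by rw [h1]
        _ = u⁻¹ * b := by group
    rw [hxb]
    calc b * (u * qa * u⁻¹ * qa⁻¹) = (b * u) * qa * u⁻¹ * qa⁻¹ := by group
      _ = u * (b * qa) * u⁻¹ * qa⁻¹ := by rw [h1]; group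
      _ = u * qa * (b * u⁻¹) * qa⁻¹ := by rw [h2]; group
      _ = u * qa * u⁻¹ * (b * qa⁻¹) := by rw [h4]; group
      _ = _ := by rw [h3]; group
  -- lift
  obtain ⟨x₀, hx₀K, hx₀⟩ : xb ∈ K' := hxbM.2
  obtain ⟨c, x, hcx, -, ⟨n, hn⟩, hxodd, hcmem, hxmem⟩ := Cfsg.Agent.Lib.PResid.exists_decomp (p := 2) x₀
  have hqc : q c = 1 := by
    obtain ⟨k, rfl⟩ := Subgroup.mem_zpowers_iff.mp hcmem
    refine eq_one_of_two_elt hModd ?_ (n := n) ?_
    · rw [map_zpow, hx₀]
      exact M.zpow_mem hxbM k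
    · rw [← map_pow, hn, map_one]
  have hqx : q x = xb := by
    rw [← hx₀, hcx, map_mul, hqc, one_mul]
  have hxK : x ∈ K := (Subgroup.zpowers_le.mpr hx₀K) hxmem
  -- the subgroups
  set A₁ := A ⊓ Bb.comap q with hA₁
  set E := W ⊓ Subgroup.centralizer (A₁ : Set X) with hE
  have hA₁A : A₁ ≤ A := inf_le_left
  have hEW : E ≤ W := inf_le_left
  have hEc : ∀ x ∈ E, ∀ y ∈ E, x * y = y * x := fun x hx y hy => hWc x hx.1 y hy.1
  have hE2 : ∀ v ∈ E, v * v = 1 := fun v hv => hW2 v hv.1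
  have hEb : ∀ b ∈ A₁, ∀ v ∈ E, b * v = v * b := fun b hb v hv =>
    Subgroup.mem_centralizer_iff.mp hv.2 b hb
  have hEinv : ∀ y : X, (∀ b ∈ A₁, q b * q y = q y * q b) → ∀ v ∈ E, y * v * y⁻¹ ∈ E := by
    intro y hy v hv
    refine ⟨hWn.conj_mem v hv.1 y, Subgroup.mem_centralizer_iff.mpr fun b hb => ?_⟩
    have hb' : b ∈ A₁ := hb
    have h1 := hact (b * y) (y * b) (by rw [map_mul, map_mul]; exact hy b hb') v hv.1
    have h2 : y * b * v * (y * b)⁻¹ = y * v * y⁻¹ := by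
      calc y * b * v * (y * b)⁻¹ = y * (b * v) * b⁻¹ * y⁻¹ := by group
        _ = y * v * y⁻¹ := by rw [hEb b hb' v hv]; group
    rw [h2] at h1
    calc b * (y * v * y⁻¹) = (b * y * v * (b * y)⁻¹) * b := by group
      _ = y * v * y⁻¹ * b := by rw [h1]
  have hqb : ∀ b ∈ A₁, q b * xb = xb * q b := fun b hb => hBbc (q b) hb.2
  have hqbinv : ∀ b ∈ A₁, q b * xb⁻¹ = xb⁻¹ * q b := by
    intro b hb
    calc q b * xb⁻¹ = xb⁻¹ * (xb * q b) * xb⁻¹ := by group
      _ = xb⁻¹ * (q b * xb) * xb⁻¹ := by rw [hqb b hb]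
      _ = xb⁻¹ * q b := by group
  have hqa_b : ∀ b ∈ A₁, q b * qa = qa * q b := by
    intro b hb
    rw [hqa, ← map_mul, ← map_mul, hAc b (hA₁A hb) a ha]
  have hxE : ∀ v ∈ E, x * v * x⁻¹ ∈ E := hEinv x (fun b hb => by rw [hqx]; exact hqb b hb)
  have hxE' : ∀ v ∈ E, x⁻¹ * v * x ∈ E := by
    have := hEinv x⁻¹ (fun b hb => by rw [map_inv, hqx]; exact hqbinv b hb)
    simpa using this
  have haE : ∀ v ∈ E, a * v * a⁻¹ ∈ E := hEinv a hqa_b
  have haE' : ∀ v ∈ E, a⁻¹ * v * a ∈ E := by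
    have := hEinv a⁻¹ (fun b hb => by
      rw [map_inv]
      show q b * qa⁻¹ = qa⁻¹ * q b
      rw [hqainv]; exact hqa_b b hb)
    simpa using this
  -- the offender inequality
  have hidxA : A₁.relIndex A ≤ 2 := by
    have h1 : A₁.relIndex A = Bb.relIndex (A.map q) := by
      rw [hA₁, Subgroup.inf_relIndex_left, Subgroup.relIndex_comap]
    rw [h1]
    exact hBbi
  have hcardA : Nat.card A ≤ 2 * Nat.card A₁ := by
    rw [card_eq_relIndex_mul hA₁A]
    exact Nat.mul_le_mul_right _ hidxA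
  have hA₁N : A₁ ≤ Subgroup.normalizer (E : Set X) := by
    intro b hb
    apply Cfsg.Agent.Lib.Replacement.mem_normalizer_of_forall
    intro v hv
    rw [hEb b hb v hv]
    simpa using hv
  have hsup := Cfsg.Agent.Lib.Replacement.card_sup_mul_card_inf A₁ E hA₁N
  have hcomm := Cfsg.Agent.Lib.AbReplace.comm_sup A₁ E
    (fun x hx y hy => hAc x (hA₁A hx) y (hA₁A hy)) hEc hEb
  have hFea : IsElementaryAbelian 2 (A₁ ⊔ E) := by
    apply Cfsg.Agent.Lib.ThompsonJ.isElementaryAbelian_of_comm hcomm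
    intro y hy
    rw [Subgroup.sup_eq_closure] at hy
    have key : y * y = 1 := by
      induction hy using Subgroup.closure_induction with
      | mem z hz =>
        rcases hz with hz | hz
        · exact hA2 z (hA₁A hz)
        · exact hE2 z hz
      | one => simp
      | mul g h hg hh ihg ihh =>
        have hgs : g ∈ A₁ ⊔ E := by rwa [Subgroup.sup_eq_closure]
        have hhs : h ∈ A₁ ⊔ E := by rwa [Subgroup.sup_eq_closure]
        have h1 := hcomm g hgs h hhs
        calc g * h * (g * h) = g * (h * g) * h := by group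
          _ = g * (g * h) * h := by rw [h1]
          _ = (g * g) * (h * h) := by group
          _ = 1 := by rw [ihg, ihh, one_mul]
      | inv g _ ih =>
        rw [← mul_inv_rev, ih, inv_one]
    rw [pow_two]; exact key
  have hES : E ≤ S := hEW.trans (hWT.trans hTS)
  have hFcard := hA.2.2 _ (sup_le (hA₁A.trans hAS) hES) hFea
  have hidx : Nat.card E ≤ 2 * Nat.card ↥(E ⊓ Subgroup.centralizer ({a} : Set X)) := by
    have h1 : Nat.card ↥(A₁ ⊓ E) ≤ Nat.card ↥(E ⊓ Subgroup.centralizer ({a} : Set X)) := by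
      apply Subgroup.card_le_of_le
      rintro y ⟨hy1, hy2⟩
      refine ⟨hy2, Subgroup.mem_centralizer_iff.mpr ?_⟩
      intro z hz
      have hza : z = a := hz
      rw [hza]
      exact hAc a ha y (hA₁A hy1)
    have h2 : Nat.card A₁ * Nat.card E ≤ Nat.card A₁ * (2 * Nat.card ↥(E ⊓ Subgroup.centralizer ({a} : Set X))) := by
      calc Nat.card A₁ * Nat.card E = Nat.card ↥(A₁ ⊔ E) * Nat.card ↥(A₁ ⊓ E) := hsup.symm
        _ ≤ (2 * Nat.card A₁) * Nat.card ↥(E ⊓ Subgroup.centralizer ({a} : Set X)) :=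
            Nat.mul_le_mul (hFcard.trans hcardA) h1
        _ = _ := by ring
    exact Nat.le_of_mul_le_mul_left h2 Nat.card_pos
  have hfour := conj_pow_four hEc hE2 haE haE' hxE hxE' hidx hS4
  -- the action of `x` on `E`
  have hqe : q ((x * a * x⁻¹) * a⁻¹) = xb * xb := by
    have h1 : qa * xb⁻¹ * qa⁻¹ = xb := by
      have h2 : qa * xb⁻¹ * qa⁻¹ = (qa * xb * qa⁻¹)⁻¹ := by group
      rw [h2, hinv, inv_inv]
    rw [map_mul, map_mul, map_mul, map_inv, map_inv, hqx, ← hqa]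
    calc xb * qa * xb⁻¹ * qa⁻¹ = xb * (qa * xb⁻¹ * qa⁻¹) := by group
      _ = xb * xb := by rw [h1]
  have hx8 : ∀ v ∈ E, x ^ 8 * v = v * x ^ 8 := by
    intro v hv
    have h1 : q (((x * a * x⁻¹) * a⁻¹) ^ 4) = q (x ^ 8) := by
      rw [map_pow, hqe, map_pow, hqx]
      rw [← pow_two, ← pow_mul]
    have h2 := hact _ _ h1 v hv.1
    rw [hfour v hv] at h2
    calc x ^ 8 * v = (x ^ 8 * v * (x ^ 8)⁻¹) * x ^ 8 := by group
      _ = v * x ^ 8 := by rw [← h2]
  have hxfix : ∀ v ∈ E, x * v = v * x := by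
    intro v hv
    have hcop : (orderOf x).Coprime 8 := by
      have : (8 : ℕ) = 2 ^ 3 := by norm_num
      rw [this]
      exact Nat.Coprime.pow_right 3 hxodd
    obtain ⟨m, hm⟩ := exists_pow_eq_self_of_coprime hcop.symm
    have h1 : Commute (x ^ 8) v := hx8 v hv
    have h2 := h1.pow_left m
    rw [hm] at h2
    exact h2
  -- coprime action
  have hfin : ∀ v ∈ W, x * v = v * x := by
    have hQp : IsPGroup 2 ↥(A₁ ⊔ W) := hSp.to_le (sup_le (hA₁A.trans hAS) (hWT.trans hTS))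
    have hQB : A₁ ⊔ W ≤ Bb.comap q := by
      refine sup_le inf_le_right ?_
      intro v hv
      show q v ∈ Bb
      rw [(hq1 v).mpr (hWT hv)]
      exact Bb.one_mem
    refine Cfsg.Agent.Lib.CharTwoLocal2.commute_of_commute_fixed (p := 2) (Q := A₁ ⊔ W) hQp
      le_sup_right hWc (fun v hv => hWn.conj_mem v hv x) (fun g _ v hv => hWn.conj_mem v hv g)
      ?_ hxodd ?_
    · intro g hg v hv
      refine hact _ _ ?_ v hv
      rw [map_mul, map_mul, hqx]
      exact hBbc (q g) (hQB hg)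
    · intro w hw hwQ
      refine hxfix w ⟨hw, Subgroup.mem_centralizer_iff.mpr fun b hb => ?_⟩
      exact hwQ b (Subgroup.mem_sup_left hb)
  have hxT : x ∈ T := hD ⟨hxK, Subgroup.mem_centralizer_iff.mpr fun v hv => (hfin v hv).symm⟩
  apply hxb1
  rw [← hqx]
  exact (hq1 x).mpr hxT

/-- If all the members of `𝒜ₑ(S)` lie in a normal subgroup inside `S`, then `J(S)` is normal. -/
theorem thompson_normal {S T : Subgroup X} (hTn : T.Normal) (hTS : T ≤ S)
    (hall : ∀ A ∈ maxEAIn 2 S, A ≤ T) : (thompsonSubgroupOf 2 S).Normal := by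
  constructor
  intro n hn g
  set f : X →* X := (MulAut.conj g).toMonoidHom with hf
  have hfinj : Function.Injective f := (MulAut.conj g).injective
  have hle : thompsonSubgroupOf 2 S ≤ (thompsonSubgroupOf 2 S).comap f := by
    rw [thompsonOf_eq_sSup]
    refine sSup_le fun A hA => ?_
    rw [← Subgroup.map_le_iff_le_comap]
    refine le_sSup ⟨?_, Cfsg.Agent.Lib.ThompsonJ.ea_map hA.2.1 f, fun B hB hB' => ?_⟩
    · rintro _ ⟨a, ha, rfl⟩
      exact hTS (hTn.conj_mem a (hall A hA ha) g)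
    · have h1 : Nat.card ↥(A.map f) = Nat.card A :=
        Nat.card_congr (Subgroup.equivMapOfInjective A f hfinj).symm.toEquiv
      rw [h1]
      exact hA.2.2 B hB hB'
  exact hle hn

end Core

/-- Let G be a finite solvable group with no section isomorphic to the symmetric group of degree 4, whose Sylow 2-subgroup S has nilpotency class at most 2. Then G = N_G(J_e(S)) · O_{2'}(G), where J_e(S) is the subgroup generated by the elementary abelian subgroups of S of largest order. -/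
theorem result {G : Type*} [Group G] [Finite G]
    [Group.IsSolvable G] (hS4 : ¬ Cfsg.Involves (Equiv.Perm (Fin 4)) G) (S : Sylow 2 G)
    (hcl : Subgroup.lowerCentralSeries (S : Subgroup G) 2 = ⊥) :
    Subgroup.normalizer ((Cfsg.thompsonSubgroupOf 2 (S : Subgroup G)) : Set G) ⊔ Cfsg.pPrimeCore 2 G = ⊤ := by
  classical
  have : Fact (Nat.Prime 2) := ⟨Nat.prime_two⟩
  set O := pPrimeCore 2 G with hO
  have hOn : O.Normal := inferInstance
  set q := QuotientGroup.mk' O with hq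
  have hqs : Function.Surjective q := QuotientGroup.mk'_surjective O
  have hq1 : ∀ x, q x = 1 ↔ x ∈ O := fun x => QuotientGroup.eq_one_iff x
  set Sb : Sylow 2 (G ⧸ O) := S.mapSurjective hqs with hSb
  have hSbc : (Sb : Subgroup (G ⧸ O)) = (S : Subgroup G).map q := Sylow.coe_mapSurjective _ _
  have hO' : pPrimeCore 2 (G ⧸ O) = ⊥ := pPrimeCore_quotient_pPrimeCore 2
  have hS4' : ¬ Involves (Equiv.Perm (Fin 4)) (G ⧸ O) := fun h =>
    hS4 (Cfsg.Agent.Lib.InvolvesAPI.Involves.trans h (involves_of_surj_top q hqs))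
  have hcl' : Subgroup.lowerCentralSeries (Sb : Subgroup (G ⧸ O)) 2 = ⊥ := by
    rw [hSbc]
    show ⁅⁅(S : Subgroup G).map q, (S : Subgroup G).map q⁆, (S : Subgroup G).map q⁆ = ⊥
    rw [← Subgroup.map_commutator, ← Subgroup.map_commutator]
    have h1 : ⁅⁅(S : Subgroup G), (S : Subgroup G)⁆, (S : Subgroup G)⁆ = ⊥ := hcl
    rw [h1, Subgroup.map_bot]
  have hSinj : ∀ x ∈ (S : Subgroup G), q x = 1 → x = 1 := by
    intro x hxS hx
    have hxO : x ∈ O := (hq1 x).mp hx
    obtain ⟨n, hn⟩ := (S.isPGroup') ⟨x, hxS⟩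
    exact eq_one_of_two_elt (not_dvd_card_pPrimeCore 2) hxO (n := n) (congrArg Subtype.val hn)
  have hJ : thompsonSubgroupOf 2 (Sb : Subgroup (G ⧸ O)) = (thompsonSubgroupOf 2 (S : Subgroup G)).map q := by
    rw [hSbc]
    exact thompsonOf_map _ q hSinj
  have hJn : (thompsonSubgroupOf 2 (Sb : Subgroup (G ⧸ O))).Normal :=
    thompson_normal (T := pCore 2 (G ⧸ O)) inferInstance (pCore_le_sylow 2 Sb)
      (fun A hA => core hS4' hO' Sb hcl' hA)
  set D := (thompsonSubgroupOf 2 (Sb : Subgroup (G ⧸ O))).comap q with hD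
  have hDn : D.Normal := hJn.comap q
  have hJD : thompsonSubgroupOf 2 (S : Subgroup G) ≤ D := by
    rw [hD, hJ, ← Subgroup.map_le_iff_le_comap]
  rw [eq_top_iff]
  intro g _
  obtain ⟨d, hd, n, hn, rfl⟩ := frattini_thompson S D hJD g
  have hd' : q d ∈ (thompsonSubgroupOf 2 (S : Subgroup G)).map q := by
    rw [← hJ]; exact hd
  obtain ⟨j, hj, hjd⟩ := hd'
  have h1 : j⁻¹ * d ∈ O := by
    rw [← hq1, map_mul, map_inv, hjd]; group
  have h2 : d * n = j * (j⁻¹ * d) * n := by group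
  rw [h2]
  refine Subgroup.mul_mem _ (Subgroup.mul_mem _ (Subgroup.mem_sup_left (Subgroup.le_normalizer hj))
    (Subgroup.mem_sup_right h1)) (Subgroup.mem_sup_left hn)

end Cfsg.Agent.S2010
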