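import Cfsg.Statements.S2029
import Cfsg.Agent.Lib.KMd

set_option autoImplicit false
open Cfsg

namespace Cfsg.Agent.S2029

/-- Let p be an odd prime and G a finite group that is both of local characteristic p (p divides its order and every p-local subgroup N satisfies C_N(O_p(N)) ≤ O_p(N)) and of characteristic 2 type (even order and every 2-local subgroup M satisfies C_M(O_2(M)) ≤ O_2(M)). Then every 2-local subgroup of G has p-rank at most 2. -/
theorem result {G : Type*} [Group G] [Finite G] (p : ℕ) [Fact p.Prime] (hp : p ≠ 2) (hGp : Cfsg.IsOfLocalCharacteristic p G) (hG2 : Cfsg.IsCharacteristicTwoType G) : Cfsg.TwoLocalPRankLE p 2 G := by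
  classical
  have hCT : ∀ T : Subgroup G, IsPGroup p T → T ≠ ⊥ →
      Cfsg.Agent.Lib.CharTwoLocal.CT p (Subgroup.normalizer (T : Set G)) := by
    intro T hT hT1 x hx hc
    have h := hGp.2 T hT hT1
    have h1 : (⟨x, hx⟩ : Subgroup.normalizer (T : Set G)) ∈
        Subgroup.centralizer (pCore p ↥(Subgroup.normalizer (T : Set G)) :
          Set ↥(Subgroup.normalizer (T : Set G))) := by
      rw [Subgroup.mem_centralizer_iff]
      intro y hy
      have h2 := hc y ⟨y, hy, rfl⟩
      exact Subtype.ext h2.symm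
    exact Cfsg.Agent.Lib.CharTwoLocal.mem_Oc_iff.mpr ⟨hx, h h1⟩
  have hK : Cfsg.Agent.Lib.KM.KH p G :=
    { hp2 := hp
      hCp := hCT
      hC2 := fun T hT hT1 =>
        (Cfsg.Agent.Lib.CharTwoLocal.isOfCharacteristicTwo_iff _).mp (hG2.2 T hT hT1) }
  rintro H ⟨T, hT, hT1, rfl⟩ A hAc hAp
  have hEa : Cfsg.Agent.Lib.KM.Ea p (A.map (Subgroup.normalizer (T : Set G)).subtype) := by
    constructor
    · rintro _ ⟨a, ha, rfl⟩ _ ⟨b, hb, rfl⟩
      have h1 : (⟨a, ha⟩ : A) * ⟨b, hb⟩ = ⟨b, hb⟩ * ⟨a, ha⟩ := hAc.is_comm.comm _ _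
      have h2 : a * b = b * a := congrArg Subtype.val h1
      exact congrArg Subtype.val h2
    · rintro _ ⟨a, ha, rfl⟩
      have h1 := hAp a ha
      exact congrArg Subtype.val h1
  have hle : A.map (Subgroup.normalizer (T : Set G)).subtype ≤ Subgroup.normalizer (T : Set G) := by
    rintro _ ⟨a, _, rfl⟩
    exact a.2
  have := Cfsg.Agent.Lib.KM.rank_le_two hK hT hT1 hEa hle
  rwa [Subgroup.card_map_of_injective (Subgroup.subtype_injective _)] at this

end Cfsg.Agent.S2029
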