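import Mathlib
import Cfsg.Statements.S2034
import Cfsg.Agent.Lib.M11Enum
import Cfsg.Agent.Lib.StemSylow

set_option autoImplicit false
open Cfsg

namespace Cfsg.Agent.S2034

open Cfsg.Spor Cfsg.Agent.Lib.M11Chain Cfsg.Agent.Lib.M11Enum Cfsg.Agent.Lib.StemSylow
open Cfsg.Agent.Lib.Golay hiding T1 T2 T3 T4 L1 L2 L3 L4

section sub

variable {G : Type*} [Group G]

theorem pow_conj_aux {A B : G} {r : ℕ} (hr : B * A * B⁻¹ = A ^ r) (j k : ℕ) :
    B ^ j * A ^ k = A ^ (k * r ^ j) * B ^ j := by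
  have h1 : ∀ k : ℕ, B * A ^ k = A ^ (k * r) * B := by
    intro k
    have h2 : B * A ^ k * B⁻¹ = (B * A * B⁻¹) ^ k := (conj_pow).symm
    rw [hr, ← pow_mul, mul_inv_eq_iff_eq_mul] at h2
    rw [mul_comm k r]
    exact h2
  induction j generalizing k with
  | zero => simp
  | succ j ih =>
    rw [pow_succ, mul_assoc, h1, ← mul_assoc, ih, mul_assoc, pow_succ' r j]
    rw [show k * (r * r ^ j) = k * r * r ^ j by ring]

/-- the subgroup of the products `A^i B^j` -/
def subPow (A B : G) (n m r : ℕ) (hn0 : n ≠ 0) (hm0 : m ≠ 0) (hn : A ^ n = 1) (hm : B ^ m = 1) (hr : B * A * B⁻¹ = A ^ r) :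
    Subgroup G where
  carrier := {g | ∃ i j : ℕ, g = A ^ i * B ^ j}
  mul_mem' := by
    rintro _ _ ⟨i, j, rfl⟩ ⟨k, l, rfl⟩
    refine ⟨i + k * r ^ j, j + l, ?_⟩
    rw [pow_add, pow_add, mul_assoc, ← mul_assoc (B ^ j), pow_conj_aux hr, mul_assoc, mul_assoc]
  one_mem' := ⟨0, 0, by simp⟩
  inv_mem' := by
    rintro _ ⟨i, j, rfl⟩
    have hA : A⁻¹ = A ^ (n - 1) := by
      rw [inv_eq_iff_mul_eq_one, ← pow_succ', Nat.sub_add_cancel (Nat.pos_of_ne_zero hn0), hn]
    have hB : B⁻¹ = B ^ (m - 1) := by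
      rw [inv_eq_iff_mul_eq_one, ← pow_succ', Nat.sub_add_cancel (Nat.pos_of_ne_zero hm0), hm]
    rw [mul_inv_rev, ← inv_pow, ← inv_pow, hA, hB, ← pow_mul, ← pow_mul, pow_conj_aux hr]
    exact ⟨_, _, rfl⟩

theorem mem_subPow {A B : G} {n m r : ℕ} {hn0 : n ≠ 0} {hm0 : m ≠ 0} {hn : A ^ n = 1} {hm : B ^ m = 1}
    {hr : B * A * B⁻¹ = A ^ r} {g : G} : g ∈ subPow A B n m r hn0 hm0 hn hm hr ↔ ∃ i j : ℕ, g = A ^ i * B ^ j := Iff.rfl

theorem card_subPow {A B : G} {n m r : ℕ} (hn0 : n ≠ 0) (hm0 : m ≠ 0) (hn : A ^ n = 1) (hm : B ^ m = 1)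
    (hr : B * A * B⁻¹ = A ^ r)
    (hinj : ∀ i < n, ∀ j < m, ∀ k < n, ∀ l < m, A ^ i * B ^ j = A ^ k * B ^ l → i = k ∧ j = l) :
    Nat.card (subPow A B n m r hn0 hm0 hn hm hr) = n * m := by
  have : NeZero n := ⟨hn0⟩
  have : NeZero m := ⟨hm0⟩
  let f : Fin n × Fin m → subPow A B n m r hn0 hm0 hn hm hr :=
    fun x => ⟨A ^ (x.1 : ℕ) * B ^ (x.2 : ℕ), _, _, rfl⟩
  have hf : Function.Bijective f := by
    constructor
    · rintro ⟨i, j⟩ ⟨k, l⟩ h
      have h1 : A ^ (i : ℕ) * B ^ (j : ℕ) = A ^ (k : ℕ) * B ^ (l : ℕ) := congrArg Subtype.val h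
      obtain ⟨h2, h3⟩ := hinj _ i.2 _ j.2 _ k.2 _ l.2 h1
      exact Prod.ext (Fin.ext h2) (Fin.ext h3)
    · rintro ⟨g, i, j, rfl⟩
      refine ⟨(⟨i % n, Nat.mod_lt _ (Nat.pos_of_ne_zero hn0)⟩, ⟨j % m, Nat.mod_lt _ (Nat.pos_of_ne_zero hm0)⟩), ?_⟩
      apply Subtype.ext
      show A ^ (i % n) * B ^ (j % m) = A ^ i * B ^ j
      rw [← pow_eq_pow_mod i hn, ← pow_eq_pow_mod j hm]
  rw [← Nat.card_congr (Equiv.ofBijective f hf), Nat.card_prod, Nat.card_eq_fintype_card, Nat.card_eq_fintype_card,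
    Fintype.card_fin, Fintype.card_fin]

end sub

/-! ### the data in `M11` -/

/-- an element of order `8` -/
def Ac : ℕ := 233950865888990746377447415904013344
/-- an involution inverting... with `b a b⁻¹ = a³` -/
def Bc : ℕ := 735500604421669808992593446508235808
/-- an element of order `3` -/
def Uc : ℕ := 487607080158395075740321133224921120
/-- an element of order `3` commuting with `Uc` -/
def Vc : ℕ := 487655643029606470073469406179395616
/-- an element interchanging `Uc` and `Vc` -/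
def Gc : ℕ := 984355386066803413838770983050249280

theorem Ac_M : isM11 Ac = true := by decide +kernel
theorem Bc_M : isM11 Bc = true := by decide +kernel
theorem Uc_M : isM11 Uc = true := by decide +kernel
theorem Vc_M : isM11 Vc = true := by decide +kernel
theorem Gc_M : isM11 Gc = true := by decide +kernel

/-- the elements in `M11` -/
noncomputable def a : ↥M11 := ⟨decode Ac, decode_mem_M11 Ac_M⟩
noncomputable def b : ↥M11 := ⟨decode Bc, decode_mem_M11 Bc_M⟩
noncomputable def u : ↥M11 := ⟨decode Uc, decode_mem_M11 Uc_M⟩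
noncomputable def v : ↥M11 := ⟨decode Vc, decode_mem_M11 Vc_M⟩
noncomputable def g : ↥M11 := ⟨decode Gc, decode_mem_M11 Gc_M⟩

theorem val_V {c : ℕ} (h : isM11 c = true) : valid c = true := isM11_valid h

/-- equality in `M11` from a test on words -/
theorem eq_of_words {x y : ↥M11} {w w' : List ℕ} (hx : (x : Equiv.Perm GolayPt) = prodW w)
    (hy : (y : Equiv.Perm GolayPt) = prodW w') (hw : allV w = true) (hw' : allV w' = true)
    (h : wordEq w w' = true) : x = y :=
  Subtype.ext (by rw [hx, hy]; exact prodW_eq_of_wordEq hw hw' h)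

theorem prodW_pows (x y : ℕ) (i j : ℕ) : prodW (List.replicate i x ++ List.replicate j y) = decode x ^ i * decode y ^ j := by
  rw [prodW_append, prodW_replicate, prodW_replicate]

theorem a8 : a ^ 8 = 1 :=
  eq_of_words (w := List.replicate 8 Ac) (w' := []) (by rw [prodW_replicate]; rfl) rfl (by decide +kernel)
    (by decide +kernel) (by decide +kernel)

theorem a4 : a ^ 4 ≠ 1 := by
  intro h
  have h1 : decode Ac ^ 4 = 1 := congrArg Subtype.val h
  rw [← prodW_replicate] at h1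
  have h2 := wordEq_of_prodW_eq (w := List.replicate 4 Ac) (w' := []) (by decide +kernel) (by decide +kernel) h1
  revert h2
  decide +kernel

theorem b2 : b ^ 2 = 1 :=
  eq_of_words (w := List.replicate 2 Bc) (w' := []) (by rw [prodW_replicate]; rfl) rfl (by decide +kernel)
    (by decide +kernel) (by decide +kernel)

theorem bab : b * a * b⁻¹ = a ^ 3 := by
  rw [mul_inv_eq_iff_eq_mul]
  refine eq_of_words (w := [Bc, Ac]) (w' := List.replicate 3 Ac ++ [Bc]) ?_ ?_ (by decide +kernel)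
    (by decide +kernel) (by decide +kernel)
  · simp [prodW, a, b]
  · rw [prodW_append, prodW_replicate]
    simp [prodW, a, b]

theorem u3 : u ^ 3 = 1 :=
  eq_of_words (w := List.replicate 3 Uc) (w' := []) (by rw [prodW_replicate]; rfl) rfl (by decide +kernel)
    (by decide +kernel) (by decide +kernel)

theorem v3 : v ^ 3 = 1 :=
  eq_of_words (w := List.replicate 3 Vc) (w' := []) (by rw [prodW_replicate]; rfl) rfl (by decide +kernel)
    (by decide +kernel) (by decide +kernel)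

theorem uv : u * v = v * u := by
  refine eq_of_words (w := [Uc, Vc]) (w' := [Vc, Uc]) ?_ ?_ (by decide +kernel) (by decide +kernel) (by decide +kernel)
  · simp [prodW, u, v]
  · simp [prodW, u, v]

theorem vuv : v * u * v⁻¹ = u ^ 1 := by
  rw [pow_one, mul_inv_eq_iff_eq_mul, uv]

theorem gug : g * u * g⁻¹ = v := by
  rw [mul_inv_eq_iff_eq_mul]
  refine eq_of_words (w := [Gc, Uc]) (w' := [Vc, Gc]) ?_ ?_ (by decide +kernel) (by decide +kernel) (by decide +kernel)
  · simp [prodW, u, g]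
  · simp [prodW, v, g]

theorem gvg : g * v * g⁻¹ = u := by
  rw [mul_inv_eq_iff_eq_mul]
  refine eq_of_words (w := [Gc, Vc]) (w' := [Uc, Gc]) ?_ ?_ (by decide +kernel) (by decide +kernel) (by decide +kernel)
  · simp [prodW, v, g]
  · simp [prodW, u, g]

theorem inj_check2 : [0,1,2,3,4,5,6,7].all (fun i => [0,1].all fun j => [0,1,2,3,4,5,6,7].all fun k => [0,1].all fun l =>
    !(wordEq (List.replicate i Ac ++ List.replicate j Bc) (List.replicate k Ac ++ List.replicate l Bc)) ||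
      (Nat.beq i k && Nat.beq j l)) = true := by decide +kernel

theorem inj_check3 : [0,1,2].all (fun i => [0,1,2].all fun j => [0,1,2].all fun k => [0,1,2].all fun l =>
    !(wordEq (List.replicate i Uc ++ List.replicate j Vc) (List.replicate k Uc ++ List.replicate l Vc)) ||
      (Nat.beq i k && Nat.beq j l)) = true := by decide +kernel

/-- the Sylow `2`-subgroup -/
noncomputable def U2 : Subgroup ↥M11 := subPow a b 8 2 3 (by norm_num) (by norm_num) a8 b2 bab

/-- the Sylow `3`-subgroup -/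
noncomputable def U3 : Subgroup ↥M11 := subPow u v 3 3 1 (by norm_num) (by norm_num) u3 v3 vuv

theorem all_lt8 {i : ℕ} (h : i < 8) : i ∈ [0,1,2,3,4,5,6,7] := by
  interval_cases i <;> simp
theorem all_lt2 {i : ℕ} (h : i < 2) : i ∈ [0,1] := by
  interval_cases i <;> simp
theorem all_lt3 {i : ℕ} (h : i < 3) : i ∈ [0,1,2] := by
  interval_cases i <;> simp

theorem card_U2 : Nat.card U2 = 16 := by
  refine (card_subPow (by norm_num) (by norm_num) a8 b2 bab ?_)
  intro i hi j hj k hk l hl h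
  have h0 := inj_check2
  simp only [List.all_eq_true, Bool.or_eq_true, Bool.not_eq_true', Bool.and_eq_true] at h0
  have hcoe : decode Ac ^ i * decode Bc ^ j = decode Ac ^ k * decode Bc ^ l := congrArg Subtype.val h
  rw [← prodW_pows, ← prodW_pows] at hcoe
  have hw := wordEq_of_prodW_eq (w := List.replicate i Ac ++ List.replicate j Bc)
    (w' := List.replicate k Ac ++ List.replicate l Bc)
    (allV_append (allV_replicate _ (val_V Ac_M)) (allV_replicate _ (val_V Bc_M)))
    (allV_append (allV_replicate _ (val_V Ac_M)) (allV_replicate _ (val_V Bc_M))) hcoe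
  rcases h0 i (all_lt8 hi) j (all_lt2 hj) k (all_lt8 hk) l (all_lt2 hl) with h1 | h1
  · rw [hw] at h1; cases h1
  · exact ⟨Nat.eq_of_beq_eq_true h1.1, Nat.eq_of_beq_eq_true h1.2⟩

theorem card_U3 : Nat.card U3 = 9 := by
  refine (card_subPow (by norm_num) (by norm_num) u3 v3 vuv ?_)
  intro i hi j hj k hk l hl h
  have h0 := inj_check3
  simp only [List.all_eq_true, Bool.or_eq_true, Bool.not_eq_true', Bool.and_eq_true] at h0
  have hcoe : decode Uc ^ i * decode Vc ^ j = decode Uc ^ k * decode Vc ^ l := congrArg Subtype.val h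
  rw [← prodW_pows, ← prodW_pows] at hcoe
  have hw := wordEq_of_prodW_eq (w := List.replicate i Uc ++ List.replicate j Vc)
    (w' := List.replicate k Uc ++ List.replicate l Vc)
    (allV_append (allV_replicate _ (val_V Uc_M)) (allV_replicate _ (val_V Vc_M)))
    (allV_append (allV_replicate _ (val_V Uc_M)) (allV_replicate _ (val_V Vc_M))) hcoe
  rcases h0 i (all_lt3 hi) j (all_lt3 hj) k (all_lt3 hk) l (all_lt3 hl) with h1 | h1
  · rw [hw] at h1; cases h1
  · exact ⟨Nat.eq_of_beq_eq_true h1.1, Nat.eq_of_beq_eq_true h1.2⟩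

theorem fac {p a k : ℕ} (hp : p.Prime) (hk : ¬ p ∣ k) (hk0 : k ≠ 0) : (p ^ a * k).factorization p = a := by
  rw [Nat.factorization_mul (pow_ne_zero _ hp.ne_zero) hk0, Finsupp.add_apply,
    Nat.factorization_eq_zero_of_not_dvd hk, Nat.Prime.factorization_pow hp]
  simp

instance : Finite ↥M11 := inferInstance

theorem fact2 : Fact (Nat.Prime 2) := ⟨Nat.prime_two⟩
theorem fact3 : Fact (Nat.Prime 3) := ⟨Nat.prime_three⟩

/-- the Sylow `2`-subgroup -/
noncomputable def S2 : @Sylow 2 ↥M11 _ :=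
  have := fact2
  Sylow.ofCard U2 (by
    rw [card_U2, card_M11, show (7920 : ℕ) = 2 ^ 4 * 495 by norm_num, fac Nat.prime_two (by norm_num) (by norm_num)]
    norm_num)

/-- the Sylow `3`-subgroup -/
noncomputable def S3 : @Sylow 3 ↥M11 _ :=
  have := fact3
  Sylow.ofCard U3 (by
    rw [card_U3, card_M11, show (7920 : ℕ) = 3 ^ 2 * 880 by norm_num, fac Nat.prime_three (by norm_num) (by norm_num)]
    norm_num)

theorem coe_S2 : ((S2 : Sylow 2 ↥M11) : Subgroup ↥M11) = U2 := rfl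
theorem coe_S3 : ((S3 : Sylow 3 ↥M11) : Subgroup ↥M11) = U3 := rfl

theorem mem_U2_a : a ∈ U2 := ⟨1, 0, by simp⟩
theorem mem_U2_b : b ∈ U2 := ⟨0, 1, by simp⟩
theorem mem_U3_u : u ∈ U3 := ⟨1, 0, by simp⟩
theorem mem_U3_v : v ∈ U3 := ⟨0, 1, by simp⟩

theorem order_a : orderOf a = 2 ^ (2 + 1) :=
  orderOf_eq_prime_pow (p := 2) (n := 2) (hp := fact2) a4 a8

theorem a_sq_pow (n : ℕ) (h : (a ^ 2) ^ n = 1) : 4 ∣ n := by
  rw [← pow_mul] at h
  have h1 := orderOf_dvd_of_pow_eq_one h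
  rw [order_a] at h1
  omega

/-- the exponents of `7920` -/
theorem sq_dvd (q : ℕ) (hq : q.Prime) (h2 : q ≠ 2) (h3 : q ≠ 3) (k : ℕ) (hk : q ^ k ∣ 7920) : k ≤ 1 := by
  by_contra hk1
  push_neg at hk1
  have h4 : q ^ 2 ∣ 7920 := (pow_dvd_pow q hk1).trans hk
  have h5 : q ^ 2 ≤ 7920 := Nat.le_of_dvd (by norm_num) h4
  have h6 : q < 90 := by nlinarith
  interval_cases q <;> first | omega | (revert hq; norm_num; done) | (revert h4; norm_num; done)

/-- the kernel of a stem extension of `M11` is trivial -/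
theorem ker_trivial {Γ : Type*} [Group Γ] [Finite Γ] (σ : Γ →* ↥M11) (hσ : IsStemExtension σ) : σ.ker = ⊥ := by
  rw [eq_bot_iff]
  intro z hz
  rw [Subgroup.mem_bot]
  by_contra hz1
  have hofin : orderOf z ≠ 1 := fun h => hz1 (orderOf_eq_one_iff.1 h)
  obtain ⟨q, hq, hqd⟩ := Nat.exists_prime_and_dvd hofin
  have hfact : Fact q.Prime := ⟨hq⟩
  have hopos : 0 < orderOf z := orderOf_pos z
  let z₀ := z ^ (orderOf z / q)
  have hz₀ : orderOf z₀ = q := orderOf_pow_orderOf_div (by omega) hqd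
  have hz₀k : z₀ ∈ σ.ker := Subgroup.pow_mem _ hz _
  have hz₀c : z₀ ∈ Subgroup.center Γ := hσ.2.1 hz₀k
  have hz₀1 : z₀ ≠ 1 := by
    intro h
    rw [h, orderOf_one] at hz₀
    exact hq.one_lt.ne hz₀
  by_cases h2 : q = 2
  · subst h2
    obtain ⟨P, hzP, hmap⟩ := exists_sylow_over hσ.1 S2 hz₀c hz₀
    rw [coe_S2] at hmap
    refine hz₀1 (crit_sd hσ P (a := a) (b := b) ?_ bab a_sq_pow ?_ ?_ ?_ hz₀k hzP)
    · rw [← pow_two]; exact b2
    · rw [hmap]; exact mem_U2_a
    · rw [hmap]; exact mem_U2_b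
    · rw [hmap]; exact fun s hs => hs
  by_cases h3 : q = 3
  · subst h3
    obtain ⟨P, hzP, hmap⟩ := exists_sylow_over hσ.1 S3 hz₀c hz₀
    rw [coe_S3] at hmap
    refine hz₀1 (crit_swap hσ (by norm_num) P uv gug gvg ?_ ?_ ?_ hz₀k hzP)
    · rw [hmap]; exact mem_U3_u
    · rw [hmap]; exact mem_U3_v
    · rw [hmap]; exact fun s hs => hs
  · obtain ⟨U⟩ : Nonempty (Sylow q ↥M11) := inferInstance
    obtain ⟨P, hzP, hmap⟩ := exists_sylow_over hσ.1 U hz₀c hz₀
    refine hz₀1 (crit_cyclic hσ P ?_ hz₀k hzP)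
    rw [hmap]
    obtain ⟨k, hk⟩ : ∃ k, Nat.card (U : Subgroup ↥M11) = q ^ k := U.2.exists_card_eq
    have hdvd : q ^ k ∣ 7920 := by
      rw [← hk, ← card_M11]
      exact Subgroup.card_subgroup_dvd_card _
    have hk1 := sq_dvd q hq h2 h3 k hdvd
    interval_cases k
    · have : Subsingleton (U : Subgroup ↥M11) := by
        rw [pow_zero] at hk
        exact (Nat.card_eq_one_iff_unique.1 hk).1
      exact isCyclic_of_subsingleton
    · rw [pow_one] at hk
      exact isCyclic_of_prime_card hk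

theorem result : Cfsg.HasCyclicSchurMultiplier ↥Cfsg.Spor.M11 1 := by
  refine ⟨⟨↥M11, inferInstance, inferInstance, MonoidHom.id _, ⟨Function.surjective_id, ?_, ?_⟩, ?_⟩, ?_⟩
  · rw [MonoidHom.ker_id]; exact bot_le
  · rw [MonoidHom.ker_id]; exact bot_le
  · rw [MonoidHom.ker_id]
    have h1 : Unique (⊥ : Subgroup ↥M11) := inferInstance
    have h2 : Unique (Multiplicative (ZMod 1)) := by
      show Unique (ZMod 1)
      infer_instance
    exact ⟨MulEquiv.ofUnique⟩
  · intro Γ _ _ σ hσ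
    have hk := ker_trivial σ hσ
    refine ⟨1, ?_⟩
    rintro ⟨x, hx⟩
    refine ⟨1, ?_⟩
    apply Subtype.ext
    rw [hk, Subgroup.mem_bot] at hx
    simp [hx]

end Cfsg.Agent.S2034
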