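import Mathlib
import Cfsg.Statements.S2035
import Cfsg.Agent.Lib.SchurCosetGolay46
import Cfsg.Agent.Lib.SchurCover46
import Cfsg.Agent.Lib.M11Chain
import Cfsg.Agent.Lib.M11Simple
import Cfsg.Agent.S2034

set_option autoImplicit false
set_option maxRecDepth 100000

namespace Cfsg.Agent.S2035

open Cfsg Cfsg.Spor Cfsg.Agent.Lib.Golay Cfsg.Agent.Lib.GolaySift Cfsg.Agent.Lib.MathieuSimple
  Cfsg.Agent.Lib.MathieuOut Cfsg.Agent.Lib.MathieuOut2 Cfsg.Agent.Lib.M11Simple Cfsg.Agent.Lib.SchurCoset46
  Cfsg.Agent.Lib.SchurCosetGolay46 Cfsg.Agent.Lib.SchurCover46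
open MulAction
open scoped Pointwise

theorem M12_eq : M12 = M12d := by
  rw [M12d, M12, Cfsg.Agent.Lib.M11Chain.squareDodecad_eq]
  rfl

theorem mem_iff {g : Equiv.Perm GolayPt} : g ∈ M12 ↔ g ∈ M24 ∧ g • ds = ds := by
  rw [M12_eq]
  exact Iff.rfl

theorem M12_le : M12 ≤ M24 := fun _ h => (mem_iff.mp h).1

theorem mem_of_code {c : ℕ} (h : isM24 c = true) (h1 : img c dsMask = dsMask) : decode c ∈ M12 :=
  mem_iff.mpr ⟨decode_mem_M24 h, decode_smul_ds (isM24_valid h) h1⟩

/-- An element of order 5. -/
def ac : ℕ := 237033526343767352759492474837289473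
/-- An element of order 11. -/
def bc : ℕ := 477351167361068941710572720192231684
/-- The inverse of `ac`. -/
def aic : ℕ := 735135503348880206585587296917426184
/-- The inverse of `bc`. -/
def bic : ℕ := 882182953054781083391028872469426381

/-- The coset table. -/
def tT : List (List ℕ) := [[1,2,6,10],[3,0,2,8],[0,4,11,1],[4,1,4,9],[2,3,5,3],[6,10,10,4],[7,5,8,0],[9,6,7,7],[8,8,1,6],[10,7,3,11],[5,9,0,5],[11,11,9,2]]
/-- The parents. -/
def tP : List (ℕ × ℕ) := [(0,0),(0,0),(0,1),(1,0),(3,0),(4,2),(5,0),(6,0),(6,2),(7,0),(9,0),(9,3)]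
/-- The relators. -/
def relsL : List (List ℕ) := [[1,1,1,1,1],[3,3,3,3,3,3,3,3,3,3,3],[3,3,3,0,2,0,2,1,3,0,0,2,0,3,0,2,1],[3,3,3,1,2,0,3,0,0,3,0,3,3,3,0,0,3,0],[3,3,3,0,2,1,2,2,0,0,3,1,2,1,3,1,1,1],[3,3,1,3,3,1,3,1,2,1,2,0,2,2,0,0,2,0],[3,3,1,3,3,0,0,3,3,1,1,1,3,1,2,1,2,1]]
/-- The ranks. -/
def tR : List ℕ := [0,0,0,10,0,12,0,11,4,0,0,0,0,0,0,1,3,8,0,0,5,7,2,0,0,0,6,15,14,13,9]
/-- The forms. -/
def tV : List (List ℕ) := [[0,0,0],[0,0,1],[0,0,0],[11,11,10],[0,0,0],[11,3,1],[0,0,0],[11,11,10],[0,0,0],[0,0,0],[0,0,0],[0,1,0],[0,0,0],[0,0,0],[0,0,0],[0,0,0],[0,0,0],[11,4,11],[0,0,0],[1,0,0],[0,0,0],[11,2,11],[0,0,0],[0,0,0],[0,0,0],[0,0,0],[1,11,0],[3,5,3],[8,5,0],[9,0,9],[1,9,1]]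
/-- The rows. -/
def tS : List (ℕ × ℕ) := [(0,0),(0,0),(0,0),(6,8),(0,0),(6,10),(0,0),(6,4),(0,4),(0,0),(0,0),(0,0),(0,0),(0,0),(0,0),(1,7),(0,8),(2,6),(0,0),(0,0),(0,10),(2,8),(0,11),(0,0),(0,0),(0,0),(2,7),(3,5),(4,5),(5,10),(6,0)]
/-- The parameters. -/
def tQ : List ℕ := [19,11,1]
/-- The powers. -/
def tC : List ℕ := [1,2,8]
/-- The relations. -/
def tE : List (List (ℕ × ℕ × ℕ)) := [[],[(1,6,11),(11,5,9)],[(1,6,11)]]

/-- The certificate. -/
def cert : CertE where
  n := 12
  m := 2
  R := 7
  P := 3
  E := 12
  T := fun c l => (tT.getD c []).getD l 0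
  par := fun c => tP.getD c (0, 0)
  rels := fun j => relsL.getD j []
  rank := fun v => tR.getD v 0
  val := fun v => tV.getD v []
  stepT := fun v => tS.getD v (0, 0)
  normal := fun j => [0, 1].contains j
  params := fun p => tQ.getD p 0
  cf := fun p => tC.getD p 0
  relP := fun p => tE.getD p []
  rel0 := [(2,5,9),(1,6,3),(10,4,2),(8,3,11)]
  r0 := 2

theorem cert_ok : cert.check = true := by decide +kernel

/-- The points. -/
def Mk (c : ℕ) : ℕ := [0, 8, 1, 12, 16, 3, 13, 18, 9, 2, 4, 6].getD c 0
/-- The codes of the generators. -/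
def cd (i : ℕ) : ℕ := [ac, bc].getD i idC
/-- The codes of the letters. -/
def cL (l : ℕ) : ℕ := [ac, aic, bc, bic].getD l idC

theorem gchk : gChkE cert Mk cd cL = true := by decide +kernel

theorem ac_M24 : isM24 ac = true := by decide +kernel
theorem bc_M24 : isM24 bc = true := by decide +kernel
theorem aic_valid : valid aic = true := by decide +kernel
theorem bic_valid : valid bic = true := by decide +kernel

/-- The first generator. -/
noncomputable abbrev aP : Equiv.Perm GolayPt := decode ac
/-- The second generator. -/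
noncomputable abbrev bP : Equiv.Perm GolayPt := decode bc

theorem aP_M12 : aP ∈ M12 := mem_of_code ac_M24 (by decide +kernel)
theorem bP_M12 : bP ∈ M12 := mem_of_code bc_M24 (by decide +kernel)
theorem rep_a : Rep aP ac := rep_decode (isM24_valid ac_M24)
theorem rep_b : Rep bP bc := rep_decode (isM24_valid bc_M24)

theorem rep_ai : Rep aP⁻¹ aic := by
  have h : aP⁻¹ = decode aic := by
    rw [inv_eq_iff_mul_eq_one]
    exact eq_of_eqC (rep_a.mul (rep_decode aic_valid)) rep_one (by decide +kernel)
  rw [h]
  exact rep_decode aic_valid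

theorem rep_bi : Rep bP⁻¹ bic := by
  have h : bP⁻¹ = decode bic := by
    rw [inv_eq_iff_mul_eq_one]
    exact eq_of_eqC (rep_b.mul (rep_decode bic_valid)) rep_one (by decide +kernel)
  rw [h]
  exact rep_decode bic_valid

theorem a_pow : aP ^ 5 = 1 := pow_eq_one_of_code rep_a (by decide +kernel)
theorem b_pow : bP ^ 11 = 1 := pow_eq_one_of_code rep_b (by decide +kernel)

/-- A straight-line program. -/
def insD : List (ℕ × ℕ) := [(1,1),(2,1),(2,2),(1,3),(3,4),(0,6),(0,6),(0,7),(0,8),(0,9),(0,11),(0,12),(0,12),(0,14),(0,14),(16,0),(16,0),(1,1),(0,2),(0,3),(0,4),(4,21),(0,22),(0,8),(0,25),(0,10),(0,27),(0,27),(0,29),(0,30),(0,31),(10,0),(33,0),(33,1),(33,2),(14,3),(0,20),(5,5),(36,7),(0,40),(0,40),(0,10),(0,11),(0,43),(0,29),(0,45),(42,0),(10,0),(49,0),(33,1),(32,2),(1,19),(33,4),(21,5),(6,22),(55,40),(0,57),(0,26),(0,12),(0,60),(0,60),(0,46),(0,63),(0,48),(0,18),(64,0),(13,0),(12,0),(20,0),(31,1),(2,2),(0,3),(41,7),(0,73),(0,59),(0,60),(0,30),(0,46),(0,32),(0,48),(0,34),(0,82),(0,51),(82,0),(31,0),(37,0),(15,0),(88,0),(72,1),(71,2),(1,58),(59,4),(24,5),(0,25),(7,7),(0,8),(96,65),(0,32),(0,98),(0,84),(0,54),(0,36),(0,19),(0,38),(0,39),(103,0),(55,0),(53,0),(15,0),(93,0),(78,1),(0,63),(44,3),(0,26),(27,5),(6,28),(21,7)]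

/-- Its outcome. -/
def TD : List ℕ := [719923664328491199848526586197411872,608405391266436187982588441666881568,609271311764373893382231684089481248,313451266620471430272303061907212320,891385682027558266148352467872712736,721220522264025652063697703271599136,485702364279847535516998656335419424,434496813259532450667896152608847232,715872302521680643580706198532491296,438228640608320839931147656307705888,936545903938862006499568565257521184,313717344337619772718504626388837440,588447890719921439320034186797293569,899213601496843755678691001383331204,638074039811714737889588945798400434,486320625305336210976221032351139936,642126323898394056596432883141456144,609501156367219605923134001334259986,850813773128160068869028059532365001,609757889242291622980009553078681634,317206043481635547559014067997979748,232652365823391711183829569059784736,970499966350631336865513127433832480,630264916018297267747726081680246816,984769902586367543974814854303385632,879109007161269016670858512814184480,476690701586444306424395123008770432,9803559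09918726333671898329756320000,653841783651565638403146355258275200,483745217252427242824838900358466049,227578386318009578406903204956702752,809399594410595785774724965859756064,898580922525004370691937197180095520,803819432010516045780199223656330528,445549325068400469759824104123304236,298090138632113574884466906973668876,464132046441146375330395962489316742,230393874389936537548756098203849104,642088254828975385929645681453058128,608283023447212714264699887351627846,803920780159736475316903592493068422,470213661338220118989129809885470864,232831258172513574899653934954446898,651858462573267011250046732827365448,233216693023427353276218879548634316,227866200190482962309748417481934880,486317894067777385906476470720956448,235865867569312302328788316888240160,609217281163526143014414822760661024,809127892823755776035426641505355808,226811024631607549454439009700918304,844622581907604739878605319860308256,809526031519808967086662550273724716,649988281419094766040387546278070566,482207557077637540239338480044482976,7311066798473098770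09934116121545734,636775563381445810790259262919029832,731289532143790217572274938245686674,856011938523693558113136302541021762,808268374422663618348463640383981132,901328941592741564021994940102971596,984242396984351397365552613841455497,425064371320272926631226538113306656,927440595216353398571743095315182624,477333414249227608935710930219118720,932843205313912150989052845949749632,837890864987967426696977688056825088,606433436347475246778824574981556608,297893494443823228174351896392839681,321414642276365015797070712075796512,902574334962239797233807403153624352,446156782148694385041201283294371878,936741327390645010117383040192852269,817388055247751814279203950845528594,936534138394119999249748378127630467,653403748231472012477868326653270051,464248565532132206882653214550335555,844467765217837224834268317409649668,304324297340161930291010796516478082,304383412539821291079733571624636448,982952058575031108094510643075878016,481801948111956617331386681609692576,804348791723893710603754012111018384,4305241150240653902982157288006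62788,879427074575831740553438820026292737,446028551228313552352565676122445856,601968181242508850242809062847751296,435326083202994559672494861374829586,726482137556405620777018713313643084,311040460071063460179771289483120001,816057326147996402031364062156423693,441567904404082411872733500983674284,887012641658338682315490411254726720,970563154052574893827118969643016204,438391181961137073222749222196250672,970531255402305735805845868108133478,817084678112424539677072132173574560,969958826742993894265839954570609728,649952004712527455375725539465742464,226297792120466314830782935684202752,901088444021746284752283082823303236,799019387800712794746398690045441408,881967549358849669924203811144387080,596770803892109018917821411057873185,430564791345789576343188490028261424,934254982351651953005102119222654528,850943084448930256948834848091521025,601220752659814522248760953889230889,235670488710821041711329975444031757,731119682809172021668679338452877442,317690334098309017759247256651215430,968996774143150361768157684793674753,719605279397798497110801688595535922,968955571790687780963750978085208356,732587624678845992596820043764204835,607721340499978575924219484538542082,486115645422670615526584032191133072,477351167361068941710572720192231684,237033526343767352759492474837289473]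

theorem run : runSLP [bc, ac] insD = TD := by decide +kernel

theorem level0 : levelOk TD [] 0 [0,1,2,3,4,6,8,9,12,13,16,18] = true := by decide +kernel
theorem level1 : levelOk TD [0] 1 [1,2,3,4,6,8,9,12,13,16,18] = true := by decide +kernel
theorem level2 : levelOk TD [1,0] 2 [2,3,4,6,8,9,12,13,16,18] = true := by decide +kernel
theorem level3 : levelOk TD [2,1,0] 3 [3,4,6,8,9,12,13,16,18] = true := by decide +kernel
theorem level4 : levelOk TD [3,2,1,0] 4 [4,6,8,9,12,13,16,18] = true := by decide +kernel

/-- `M12` is generated by the two elements. -/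
theorem sift (H : Subgroup (Equiv.Perm GolayPt)) (hH : H ≤ M12) (ha : aP ∈ H) (hb : bP ∈ H) :
    M12 ≤ H := by
  rw [M12_eq] at hH ⊢
  have hT : ∀ c ∈ TD, InH H c := by
    rw [← run]
    apply runSLP_spec
    intro c hc
    simp only [List.mem_cons, List.not_mem_nil, or_false] at hc
    rcases hc with rfl | rfl
    · exact ⟨_, hb, rep_b⟩
    · exact ⟨_, ha, rep_a⟩
  have h : fixL M12d [] ≤ H := by
    refine sift_step (orbit_ds (by norm_num) (by simp) (by decide +kernel) (by decide +kernel))
      (level_of_table hH hT (by simp) (by norm_num) level0) ?_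
    refine sift_step (orbit_ds (by norm_num) (by simp) (by decide +kernel) (by decide +kernel))
      (level_of_table hH hT (by simp) (by norm_num) level1) ?_
    refine sift_step (orbit_ds (by norm_num) (by simp) (by decide +kernel) (by decide +kernel))
      (level_of_table hH hT (by simp) (by norm_num) level2) ?_
    refine sift_step (orbit_ds (by norm_num) (by simp) (by decide +kernel) (by decide +kernel))
      (level_of_table hH hT (by simp) (by norm_num) level3) ?_
    refine sift_step (orbit_ds (by norm_num) (by simp) (by decide +kernel) (by decide +kernel))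
      (level_of_table hH hT (by simp) (by norm_num) level4) ?_
    intro g hg
    rw [fix_five_bot g hg]
    exact Subgroup.one_mem _
  intro g hg
  exact h ⟨hg, by simp⟩

/-- The generators in the subgroup. -/
noncomputable def sG (i : ℕ) : ↥M12 :=
  if i = 0 then ⟨aP, aP_M12⟩ else if i = 1 then ⟨bP, bP_M12⟩ else 1

theorem sG_0 : sG 0 = ⟨aP, aP_M12⟩ := by simp [sG]
theorem sG_1 : sG 1 = ⟨bP, bP_M12⟩ := by simp [sG]

theorem hgen : Subgroup.closure (sG '' Set.Iio cert.m) = ⊤ := by
  apply closure_eq_top
  apply sift
  · rintro _ ⟨y, _, rfl⟩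
    exact y.2
  · refine ⟨sG 0, Subgroup.subset_closure ⟨0, by show 0 < 2; norm_num, rfl⟩, ?_⟩
    rw [sG_0]; rfl
  · refine ⟨sG 1, Subgroup.subset_closure ⟨1, by show 1 < 2; norm_num, rfl⟩, ?_⟩
    rw [sG_1]; rfl

theorem hs : ∀ i, i < cert.m → valid (cd i) = true ∧ (sG i : Equiv.Perm GolayPt) = decode (cd i) := by
  intro i hi
  have hi' : i < 2 := hi
  interval_cases i
  · exact ⟨isM24_valid ac_M24, by rw [sG_0]; rfl⟩
  · exact ⟨isM24_valid bc_M24, by rw [sG_1]; rfl⟩

theorem hL : ∀ l, l < 2 * cert.m → Rep (lett (fun i => (sG i : Equiv.Perm GolayPt)) l) (cL l) := by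
  intro l hl
  have hl' : l < 4 := hl
  have h0 : (sG 0 : Equiv.Perm GolayPt) = aP := by rw [sG_0]
  have h1 : (sG 1 : Equiv.Perm GolayPt) = bP := by rw [sG_1]
  interval_cases l
  · show Rep (lett (fun i => (sG i : Equiv.Perm GolayPt)) (2 * 0)) _
    rw [lett_even, h0]; exact rep_a
  · show Rep (lett (fun i => (sG i : Equiv.Perm GolayPt)) (2 * 0 + 1)) _
    rw [lett_odd, h0]; exact rep_ai
  · show Rep (lett (fun i => (sG i : Equiv.Perm GolayPt)) (2 * 1)) _
    rw [lett_even, h1]; exact rep_b
  · show Rep (lett (fun i => (sG i : Equiv.Perm GolayPt)) (2 * 1 + 1)) _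
    rw [lett_odd, h1]; exact rep_bi

/-! ### The point stabiliser -/

theorem mem_M11_iff' (g : Equiv.Perm GolayPt) :
    g ∈ M11 ↔ g ∈ M24 ∧ g • ds = ds ∧ g (pt 0) = pt 0 := by
  rw [Cfsg.Agent.Lib.M11Chain.mem_M11_iff]
  exact Iff.rfl

theorem mem_M11_iff'' (g : Equiv.Perm GolayPt) : g ∈ M11 ↔ g ∈ M12 ∧ g (pt 0) = pt 0 := by
  rw [mem_M11_iff', mem_iff, and_assoc]

/-- The stabiliser of a point in `M12`. -/
noncomputable abbrev H0 : Subgroup ↥M12 := stabilizer ↥M12 (pt 0)

/-- The isomorphism with `M11`. -/
noncomputable def e0 : H0 ≃* ↥M11 where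
  toFun g := ⟨(g : ↥M12), (mem_M11_iff'' _).mpr ⟨(g : ↥M12).2, g.2⟩⟩
  invFun m := ⟨⟨m, ((mem_M11_iff'' _).mp m.2).1⟩, ((mem_M11_iff'' _).mp m.2).2⟩
  left_inv _ := rfl
  right_inv _ := rfl
  map_mul' _ _ := rfl

/-- `M11` is perfect. -/
theorem perf_M11 : commutator ↥M11 = ⊤ := by
  haveI : IsSimpleGroup ↥Cfsg.Agent.Lib.M11Simple.K11 := Cfsg.Agent.Lib.M11Simple.m11_rep
  let f : ↥Cfsg.Agent.Lib.M11Simple.K11 →* ↥M11 :=
    { toFun := fun y => ⟨y.1.1, (mem_M11_iff' _).mpr
        ⟨y.1.2, Cfsg.Agent.Lib.M11Simple.K11_d y, Cfsg.Agent.Lib.M11Simple.K11_0 y⟩⟩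
      map_one' := rfl
      map_mul' := fun _ _ => rfl }
  have hf : Function.Surjective f := by
    rintro ⟨m, hm⟩
    have h1 := (mem_M11_iff' m).mp hm
    exact ⟨⟨⟨m, h1.1⟩, h1.2.1, h1.2.2⟩, rfl⟩
  have hfM : Cfsg.Agent.Lib.M11Chain.isM11 fc = true := by decide +kernel
  have hwM : Cfsg.Agent.Lib.M11Chain.isM11 wc = true := by decide +kernel
  refine commutator_eq_top_of_simple f hf (a := ⟨fP, Cfsg.Agent.Lib.M11Chain.decode_mem_M11 hfM⟩)
    (b := ⟨wP, Cfsg.Agent.Lib.M11Chain.decode_mem_M11 hwM⟩) ?_
  intro h
  have h1 : fP * wP = wP * fP := congrArg Subtype.val h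
  have h3 : eqC (comp fc wc) (comp wc fc) = true := by
    have h4 := rep_fP.mul rep_wP
    rw [h1] at h4
    exact eqC_of_eq h4 (rep_wP.mul rep_fP)
  exact absurd h3 (by decide +kernel)


/-- The points of the dodecad. -/
def dL : List ℕ := [0, 1, 2, 3, 4, 6, 8, 9, 12, 13, 16, 18]

/-- Elements moving the point `0`. -/
def t12 : List ℕ := [984818244535754528103549039458486304, 237033526343767352759492474837289473, 607721340499978575924219484538542082, 732587624678845992596820043764204835, 477351167361068941710572720192231684, 316026127201544046473130628988601478, 601873691795071136855343867713669512, 317676534003418332281322830181189705, 610930664142306602808486998924922124, 938967382502493541410770484252264653, 486115645422670615526584032191133072, 719605279397798497110801688595535922]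

theorem t12_ok : ∀ q ∈ dL, ∃ c ∈ t12, isM24 c = true ∧ img c dsMask = dsMask ∧ ap c 0 = q := by decide +kernel

theorem dL_cover : ∀ i < 24, dsMask.testBit i = true → i ∈ dL := by decide +kernel

theorem testBit_of_smul_eq {g : Equiv.Perm GolayPt} {m : ℕ} (hg : g • ofMask m = ofMask m) {i : ℕ} (hi : i < 24) :
    m.testBit (idx (g (pt i))) = m.testBit i := by
  have h1 : g (pt i) ∈ ofMask m ↔ pt i ∈ ofMask m := by
    conv_lhs => rw [← hg]
    exact Finset.smul_mem_smul_finset_iff g
  rw [mem_ofMask, mem_ofMask, idx_pt hi] at h1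
  exact Bool.eq_iff_iff.mpr h1

theorem index_H0 : H0.index = 12 := by
  have h1 : H0.index = (MulAction.orbit ↥M12 (pt 0)).ncard := by
    rw [← Nat.card_coe_set_eq, Subgroup.index, Nat.card_congr (MulAction.orbitEquivQuotientStabilizer ↥M12 (pt 0))]
  have h3 : MulAction.orbit ↥M12 (pt 0) = pt '' {q | q ∈ dL} := by
    ext y
    constructor
    · rintro ⟨g, rfl⟩
      refine ⟨idx ((g : Equiv.Perm GolayPt) (pt 0)), ?_, pt_idx _⟩
      apply dL_cover _ (idx_lt _)
      have h5 : (g : Equiv.Perm GolayPt) • ofMask dsMask = ofMask dsMask := (mem_iff.mp g.2).2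
      rw [testBit_of_smul_eq h5 (by norm_num)]
      decide +kernel
    · rintro ⟨q, hq, rfl⟩
      obtain ⟨c, -, hc, hc1, hcq⟩ := t12_ok q hq
      refine ⟨⟨decode c, mem_of_code hc hc1⟩, ?_⟩
      show decode c (pt 0) = pt q
      rw [decode_pt (isM24_valid hc) (by norm_num), hcq]
  have h4 : (pt '' {q | q ∈ dL}).ncard = 12 := by
    apply Cfsg.Agent.Lib.Golay.ncard_image_list _ _ (by decide)
    intro a ha c hc hac
    have hlt : ∀ x ∈ dL, x < 24 := by decide
    exact pt_injOn (hlt a ha) (hlt c hc) hac
  rw [h1, h3, h4]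

/-! ### The upper bound -/

theorem up (Γ : Type) [Group Γ] [Finite Γ] (σ : Γ →* ↥M12) (hσ : IsStemExtension σ) :
    ∃ u : σ.ker, u ^ 2 = 1 ∧ ∀ k : σ.ker, k ∈ Subgroup.zpowers u := by
  let τ : (H0.comap σ) →* ↥M11 := e0.toMonoidHom.comp (σ.subgroupComap H0)
  have hτ : Function.Surjective τ :=
    e0.surjective.comp (σ.subgroupComap_surjective_of_surjective H0 hσ.1)
  have hker : ∀ y : (H0.comap σ), τ y = 1 ↔ σ y = 1 := by
    intro y
    have h1 : τ y = e0 (σ.subgroupComap H0 y) := rfl
    rw [h1, map_eq_one_iff _ e0.injective]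
    constructor
    · intro h
      exact congrArg Subtype.val h
    · intro h
      exact Subtype.ext h
  obtain ⟨ρ, hρ⟩ := exists_retraction' hσ.2.1 Cfsg.Agent.S2034.result perf_M11 τ hτ hker
  have hHt : ∀ y, y ∈ H0.comap σ ↔ σ y • pt (Mk 0) = pt (Mk 0) := by
    intro y
    have : Mk 0 = 0 := by decide +kernel
    rw [this]
    exact Iff.rfl
  have hidx : (H0.comap σ).index = 12 := by
    rw [Subgroup.index_comap_of_surjective _ hσ.1, index_H0]
  have hcomm : ∀ a b : σ.ker, a * b = b * a := fun a b =>
    Subtype.ext (Subgroup.mem_center_iff.mp (hσ.2.1 b.2) a.1)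
  have h12 : ∀ k ∈ σ.ker, k ^ 12 = 1 := by
    intro k hk
    have := pow_index_of_retraction (H0.comap σ) hcomm ρ hk (hσ.2.1 hk) (hσ.2.2 hk) hρ
    rwa [hidx] at this
  -- the lifts
  have hs0 : (sG 0) ^ 5 = 1 := by
    rw [sG_0]
    exact Subtype.ext a_pow
  have hs1 : (sG 1) ^ 11 = 1 := by
    rw [sG_1]
    exact Subtype.ext b_pow
  obtain ⟨x0, hx0, hx05⟩ := exists_lift_pow hσ (n := 5) (u := 7) hs0 h12 (by norm_num)
  obtain ⟨x1, hx1, hx17⟩ := exists_lift_pow hσ (n := 11) (u := 1) hs1 h12 (by norm_num)
  let x : ℕ → Γ := fun i => if i = 0 then x0 else if i = 1 then x1 else 1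
  have hx : ∀ i, σ (x i) = sG i := by
    intro i
    by_cases h0 : i = 0
    · subst h0
      simpa [x] using hx0
    · by_cases h1 : i = 1
      · subst h1
        simpa [x] using hx1
      · simp [x, sG, h0, h1]
  have hnorm : ∀ j, j < cert.R → cert.normal j = true → evW x (cert.rels j) = 1 := by
    intro j _ hj
    have hj' : j = 0 ∨ j = 1 := by
      have : j ∈ [0, 1] := by simpa [cert] using hj
      simpa using this
    rcases hj' with rfl | rfl
    · have e : cert.rels 0 = [1, 1, 1, 1, 1] := by decide +kernel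
      have l1 : lett x 1 = (x 0)⁻¹ := lett_odd x 0
      rw [e]
      simp only [evW, l1, mul_one]
      have h : (x 0)⁻¹ ^ 5 = 1 := by
        have : x 0 = x0 := by simp [x]
        rw [inv_pow, this, hx05, inv_one]
      simpa [pow_succ, mul_assoc] using h
    · have e : cert.rels 1 = [3, 3, 3, 3, 3, 3, 3, 3, 3, 3, 3] := by decide +kernel
      have l1 : lett x 3 = (x 1)⁻¹ := lett_odd x 1
      rw [e]
      simp only [evW, l1, mul_one]
      have h : (x 1)⁻¹ ^ 11 = 1 := by
        have : x 1 = x1 := by simp [x]
        rw [inv_pow, this, hx17, inv_one]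
      simpa [pow_succ, mul_assoc] using h
  letI : CommGroup σ.ker := { (inferInstance : Group σ.ker) with mul_comm := hcomm }
  obtain ⟨u, hu, hall⟩ := cyclic_of_certE_pts hσ cert cert_ok Mk cd cL sG hs hL hgen gchk hx hnorm hHt ρ hρ
    (MonoidHom.id σ.ker) (fun b => Subtype.ext (h12 b.1 b.2))
  exact ⟨u, hu, hall⟩


/-! ### The double cover -/

/-- The monomial lift of `a`. -/
def xac : ℕ := 984734416187976284524541577059664036
/-- The monomial lift of `b`. -/
def xbc : ℕ := 173103698940118916292898832606840469
/-- The inverse of `xac`. -/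
def xaic : ℕ := 984400001541877719497071602132293730
/-- The inverse of `xbc`. -/
def xbic : ℕ := 812595972442950458475477056923768236
/-- The central involution. -/
def tauc : ℕ := 944538608299847986500403370965142529

/-- The signed hexads. -/
def Ls : List ℕ := [6498,9873,19017,21672,24858,34182,37413,43092,67749,70932,74310,83490,86097,92544,98664,107529,132186,135561,141864,148116,153606,166161,169536,172194,264726,267333,270756,279888,283266,288801,295065,301320,329352,331818,344325,362562,369168,393825,399504,402690,417864,427044,525609,528984,534666,540774,550404,559776,562194,565569,590226,596481,599136,608280,626820,657732,663573,672897,676128,688650,1051032,1054218,1056873,1066005,1069380,1081938,1087617,1090848,1115457,1118880,1124370,1130634,1149444,1179942,1188996,1198176,1204737,1216536,1311906,1315089,1321536,1327656,1351686,1376340,1397760,1443849,1474944,1573509,1579044,1591554,1597584,1606728,1646856,1671201,1705488,1708098,2098788,2101398,2107653,2113953,2120208,2122818,2132010,2138760,2163225,2168904,2187300,21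96624,2199810,2230914,2233377,2236752,2245896,2261061,2359626,2368536,2377860,2393601,2396256,2427168,2433153,2494980,2506770,2623569,2626944,2630178,2641929,2654484,2688006,2703936,2752680,2795520,4194645,4201092,4203558,4212882,4216065,4219488,4228632,4231242,4262154,4268184,4277316,4293249,4298784,4326816,4330002,4335681,4341801,4366596,4458600,4465161,4476948,4489506,4498560,4523025,4526400,4587654,4606464,4720194,4722849,4729104,4735368,4753413,4784676,4808706,4854792,4882512,5245473,5248080,5251458,5269512,5275812,5312517,5325072,5374536,5407746,5506308,5521473,5644320,5767194,5804544,5834880,6292617,6295848,6308358,6326592,6332433,6357090,6366720,6424596,6443136,6554256,6559746,6651912,6824004,6833184,6947073,8389290,8394777,8398152,8407332,8413317,8422497,8425872,8432130,8456784,8459394,8462625,8475144,8486934,8521221,8523876,8536386,8545296,8554632,8653185,8656416,8659026,8668170,8684100,8726532,8732832,8782104,8818689,8914068,8917254,8929809,8935488,8953896,8978505,9012480,9046050,9052800,9439302,9445908,9455232,9457698,9470217,9503784,9543744,9568401,9574656,9703560,9734160,9765378,9961824,9970689,10108932,10487058,10490433,10496160,10502232,10523652,10551684,10569729,10625034,10650144,10747941,10772736,10880064,11012616,11042946,11079696]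

/-- The labels of the blocks. -/
def labr (r : ℕ) : ℕ := [0,8,1,12,16,3,13,18,9,2,4,6].getD (r / 2) 0

/-- The relator with value the central involution. -/
def wT : List ℕ := [3,3,3,0,2,0,2,1,3,0,0,2,0,3,0,2,1]

theorem xac_valid : valid xac = true := by decide +kernel
theorem xbc_valid : valid xbc = true := by decide +kernel
theorem xaic_valid : valid xaic = true := by decide +kernel
theorem xbic_valid : valid xbic = true := by decide +kernel
theorem tauc_valid : valid tauc = true := by decide +kernel

/-- The first lift. -/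
noncomputable abbrev XA : Equiv.Perm GolayPt := decode xac
/-- The second lift. -/
noncomputable abbrev XB : Equiv.Perm GolayPt := decode xbc
/-- The central involution. -/
noncomputable abbrev tauP : Equiv.Perm GolayPt := decode tauc

theorem rep_XA : Rep XA xac := rep_decode xac_valid
theorem rep_XB : Rep XB xbc := rep_decode xbc_valid
theorem rep_tau : Rep tauP tauc := rep_decode tauc_valid

theorem XA_inv : XA⁻¹ = decode xaic := by
  rw [inv_eq_iff_mul_eq_one]
  exact eq_of_eqC (rep_XA.mul (rep_decode xaic_valid)) rep_one (by decide +kernel)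

theorem XB_inv : XB⁻¹ = decode xbic := by
  rw [inv_eq_iff_mul_eq_one]
  exact eq_of_eqC (rep_XB.mul (rep_decode xbic_valid)) rep_one (by decide +kernel)

theorem rep_XAi : Rep XA⁻¹ xaic := by
  rw [XA_inv]; exact rep_decode xaic_valid

theorem rep_XBi : Rep XB⁻¹ xbic := by
  rw [XB_inv]; exact rep_decode xbic_valid

theorem XA_pow : XA ^ 5 = 1 := pow_eq_one_of_code rep_XA (by decide +kernel)
theorem XB_pow : XB ^ 11 = 1 := pow_eq_one_of_code rep_XB (by decide +kernel)
theorem tau_sq : tauP ^ 2 = 1 := pow_eq_one_of_code rep_tau (by decide +kernel)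
theorem tau_ne : tauP ≠ 1 := ne_one_of_code rep_tau (i := 0) (by norm_num) (by decide +kernel)

/-- The block label of a point. -/
noncomputable def lab (p : GolayPt) : GolayPt := pt (labr (idx p))

/-- The compatibility check of the block labels. -/
def labChk (c x : ℕ) : Bool :=
  (List.range 24).all fun r =>
    Nat.blt (labr r) 24 && Nat.blt (ap x r) 24 && Nat.beq (labr (ap x r)) (ap c (labr r))

theorem lab_of_chk {c x : ℕ} (hc : valid c = true) (hx : valid x = true) (h : labChk c x = true)
    (p : GolayPt) : lab (decode x p) = decode c (lab p) := by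
  simp only [labChk, List.all_eq_true, List.mem_range, Bool.and_eq_true, Nat.blt_eq] at h
  obtain ⟨⟨h1, h2⟩, h3⟩ := h _ (idx_lt p)
  rw [lab, lab, idx_decode hx, decode_pt hc h1, Nat.eq_of_beq_eq_true h3]

/-- The permutation preserves the set of signed hexads. -/
def Pres (g : Equiv.Perm GolayPt) : Prop := ∀ m ∈ Ls, ∃ m' ∈ Ls, g • ofMask m = ofMask m'

theorem Pres_one : Pres 1 := fun m hm => ⟨m, hm, one_smul _ _⟩

theorem Pres_mul {g h : Equiv.Perm GolayPt} (hg : Pres g) (hh : Pres h) : Pres (g * h) := by
  intro m hm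
  obtain ⟨m1, hm1, e1⟩ := hh m hm
  obtain ⟨m2, hm2, e2⟩ := hg m1 hm1
  exact ⟨m2, hm2, by rw [mul_smul, e1, e2]⟩

theorem Pres_decode {c : ℕ} (hv : valid c = true) (h : (Ls.all fun m => Ls.contains (img c m)) = true) :
    Pres (decode c) := by
  intro m hm
  refine ⟨img c m, ?_, decode_smul_ofMask hv m⟩
  simp only [List.all_eq_true, List.contains_iff_mem] at h
  exact h m hm

/-- The subgroup of elements with all invariants. -/
noncomputable def Inv : Subgroup (↥M12 × Equiv.Perm GolayPt) where
  carrier := {z | (∀ p, lab (z.2 p) = (z.1 : Equiv.Perm GolayPt) (lab p)) ∧ z.2 * tauP = tauP * z.2 ∧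
    Pres z.2 ∧ Pres z.2⁻¹}
  mul_mem' := by
    rintro ⟨a, g⟩ ⟨b, h⟩ ⟨h1, h2, h3, h4⟩ ⟨k1, k2, k3, k4⟩
    refine ⟨fun p => ?_, ?_, Pres_mul h3 k3, ?_⟩
    · show lab (g (h p)) = (a : Equiv.Perm GolayPt) ((b : Equiv.Perm GolayPt) (lab p))
      rw [h1, k1]
    · show g * h * tauP = tauP * (g * h)
      rw [mul_assoc, k2, ← mul_assoc, h2, mul_assoc]
    · show Pres (g * h)⁻¹
      rw [mul_inv_rev]
      exact Pres_mul k4 h4
  one_mem' := by
    refine ⟨fun p => rfl, ?_, Pres_one, ?_⟩
    · show 1 * tauP = tauP * 1
      simp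
    · show Pres 1⁻¹
      rw [inv_one]
      exact Pres_one
  inv_mem' := by
    rintro ⟨a, g⟩ ⟨h1, h2, h3, h4⟩
    refine ⟨fun p => ?_, ?_, h4, ?_⟩
    · show lab (g⁻¹ p) = ((a : Equiv.Perm GolayPt)⁻¹) (lab p)
      have e : g (g⁻¹ p) = p := by simp
      rw [Equiv.Perm.eq_inv_iff_eq, ← h1, e]
    · show g⁻¹ * tauP = tauP * g⁻¹
      have h5 : Commute g tauP := h2
      exact h5.inv_left
    · show Pres g⁻¹⁻¹
      rw [inv_inv]
      exact h3

/-- The first generator of the cover. -/
noncomputable def g1 : ↥M12 × Equiv.Perm GolayPt := (⟨aP, aP_M12⟩, XA)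
/-- The second generator of the cover. -/
noncomputable def g2 : ↥M12 × Equiv.Perm GolayPt := (⟨bP, bP_M12⟩, XB)

theorem g1_Inv : g1 ∈ Inv := by
  refine ⟨lab_of_chk (isM24_valid ac_M24) xac_valid (by decide +kernel), ?_, ?_, ?_⟩
  · exact eq_of_eqC (rep_XA.mul rep_tau) (rep_tau.mul rep_XA) (by decide +kernel)
  · exact Pres_decode xac_valid (by decide +kernel)
  · show Pres XA⁻¹
    rw [XA_inv]
    exact Pres_decode xaic_valid (by decide +kernel)

theorem g2_Inv : g2 ∈ Inv := by
  refine ⟨lab_of_chk (isM24_valid bc_M24) xbc_valid (by decide +kernel), ?_, ?_, ?_⟩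
  · exact eq_of_eqC (rep_XB.mul rep_tau) (rep_tau.mul rep_XB) (by decide +kernel)
  · exact Pres_decode xbc_valid (by decide +kernel)
  · show Pres XB⁻¹
    rw [XB_inv]
    exact Pres_decode xbic_valid (by decide +kernel)

/-- The cover. -/
noncomputable abbrev Γ0 : Subgroup (↥M12 × Equiv.Perm GolayPt) := Subgroup.closure {g1, g2}

theorem Γ0_le : Γ0 ≤ Inv := by
  rw [Subgroup.closure_le]
  rintro z (rfl | rfl)
  · exact g1_Inv
  · exact g2_Inv

/-! #### The kernel -/

/-- The image of a point under a sign pattern. -/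
def flipFn (d r : ℕ) : ℕ := Nat.xor r (bit d (r / 2))

/-- The code of a sign pattern. -/
def flipC (d : ℕ) : ℕ :=
  (List.range 24).foldl (fun acc r => Nat.add acc (Nat.shiftLeft (flipFn d r) (Nat.mul 5 r))) 0

theorem flipC_ok : (List.range 4096).all (fun d => valid (flipC d) &&
    (List.range 24).all fun r => Nat.beq (ap (flipC d) r) (flipFn d r)) = true := by decide +kernel

/-- Only the two trivial sign patterns preserve the signed hexads. -/
theorem flip_ok : (List.range 4096).all (fun d =>
    !(Ls.all fun m => Ls.contains (img (flipC d) m)) || Nat.beq d 0 || Nat.beq d 4095) = true := by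
  decide +kernel

theorem Ls_lt : Ls.all (fun m => Nat.blt m (2 ^ 24)) = true := by decide +kernel

theorem lab_chk : ∀ c < 12, ∀ s < 24, labr s = labr (2 * c) → s = 2 * c ∨ s = 2 * c + 1 := by
  decide +kernel

theorem labr_lt : ∀ r < 24, labr r < 24 := by decide +kernel

theorem tau_chk : ∀ c < 12, ap tauc (2 * c) = 2 * c + 1 ∧ ap tauc (2 * c + 1) = 2 * c := by decide +kernel

theorem xor_chk : ∀ c < 12, Nat.xor (2 * c) 1 = 2 * c + 1 ∧ Nat.xor (2 * c + 1) 1 = 2 * c ∧
    Nat.xor (2 * c) 0 = 2 * c ∧ Nat.xor (2 * c + 1) 0 = 2 * c + 1 := by decide +kernel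

theorem ker_cases {g : Equiv.Perm GolayPt} (h1 : ∀ p, lab (g p) = lab p) (h2 : g * tauP = tauP * g)
    (h3 : Pres g) : g = 1 ∨ g = tauP := by
  classical
  have hc : ∀ c < 12, g (pt (2 * c)) = pt (2 * c) ∨ g (pt (2 * c)) = pt (2 * c + 1) := by
    intro c hc
    have h4 := h1 (pt (2 * c))
    have hlt : 2 * c < 24 := by omega
    rw [lab, lab, idx_pt hlt] at h4
    have h5 := pt_injOn (labr_lt _ (idx_lt _)) (labr_lt _ hlt) h4
    rcases lab_chk c hc _ (idx_lt _) h5 with h6 | h6
    · left
      have e := pt_idx (g (pt (2 * c)))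
      rw [h6] at e
      exact e.symm
    · right
      have e := pt_idx (g (pt (2 * c)))
      rw [h6] at e
      exact e.symm
  have htau : ∀ c < 12, tauP (pt (2 * c)) = pt (2 * c + 1) ∧ tauP (pt (2 * c + 1)) = pt (2 * c) := by
    intro c hc
    obtain ⟨h4, h5⟩ := tau_chk c hc
    constructor
    · rw [decode_pt tauc_valid (by omega), h4]
    · rw [decode_pt tauc_valid (by omega), h5]
  have hodd : ∀ c < 12, g (pt (2 * c + 1)) = tauP (g (pt (2 * c))) := by
    intro c hc
    rw [← (htau c hc).1]
    exact congrArg (fun f : Equiv.Perm GolayPt => f (pt (2 * c))) h2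
  let D : Fin 12 → Bool := fun c => decide (g (pt (2 * c.1)) ≠ pt (2 * c.1))
  let d : ℕ := Nat.ofBits D
  have hd : d < 4096 := Nat.ofBits_lt_two_pow D
  have hbit : ∀ c (hc : c < 12), bit d c = if g (pt (2 * c)) = pt (2 * c) then 0 else 1 := by
    intro c hc
    rw [bit_eq, Nat.testBit_ofBits_lt D c hc]
    by_cases h : g (pt (2 * c)) = pt (2 * c)
    · simp [D, h]
    · simp [D, h]
  have hfl := flipC_ok
  simp only [List.all_eq_true, List.mem_range, Bool.and_eq_true] at hfl
  obtain ⟨hv, hap⟩ := hfl d hd
  have hg : g = decode (flipC d) := by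
    ext1 p
    rw [← pt_idx p]
    have hr := idx_lt p
    generalize idx p = r at hr
    rw [decode_pt hv hr, Nat.eq_of_beq_eq_true (hap r hr)]
    obtain ⟨c, hcr⟩ : ∃ c, c = r / 2 := ⟨_, rfl⟩
    have hc12 : c < 12 := by omega
    obtain ⟨x1, x2, x3, x4⟩ := xor_chk c hc12
    obtain ⟨t1, t2⟩ := htau c hc12
    rcases Nat.even_or_odd' r with ⟨c', rfl | rfl⟩
    · have e1 : c' = c := by omega
      subst e1
      rw [flipFn, show 2 * c' / 2 = c' by omega, hbit c' hc12]
      by_cases h : g (pt (2 * c')) = pt (2 * c')
      · rw [if_pos h, x3, h]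
      · rw [if_neg h, x1]
        exact (hc c' hc12).resolve_left h
    · have e1 : c' = c := by omega
      subst e1
      rw [flipFn, show (2 * c' + 1) / 2 = c' by omega, hbit c' hc12, hodd c' hc12]
      by_cases h : g (pt (2 * c')) = pt (2 * c')
      · rw [if_pos h, x4, h, t1]
      · rw [if_neg h, x2, (hc c' hc12).resolve_left h, t2]
  have hall : (Ls.all fun m => Ls.contains (img (flipC d) m)) = true := by
    simp only [List.all_eq_true, List.contains_iff_mem]
    intro m hm
    obtain ⟨m', hm', he⟩ := h3 m hm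
    rw [hg, decode_smul_ofMask hv] at he
    have hlt := Ls_lt
    simp only [List.all_eq_true, Nat.blt_eq] at hlt
    rw [ofMask_injOn (img_lt hv m) (hlt m' hm') he]
    exact hm'
  have hfp := flip_ok
  simp only [List.all_eq_true, List.mem_range, Bool.or_eq_true] at hfp
  rcases hfp d hd with (h4 | h4) | h4
  · rw [hall] at h4
    cases h4
  · have h5 : d = 0 := Nat.eq_of_beq_eq_true h4
    left
    rw [hg, h5]
    exact eq_of_eqC (rep_decode (by decide +kernel)) rep_one (by decide +kernel)
  · have h5 : d = 4095 := Nat.eq_of_beq_eq_true h4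
    right
    rw [hg, h5]
    exact eq_of_eqC (rep_decode (by decide +kernel)) rep_tau (by decide +kernel)

/-- The cover as a stem extension. -/
noncomputable def σ0 : ↥Γ0 →* ↥M12 := (MonoidHom.fst _ _).comp Γ0.subtype

theorem σ0_surj : Function.Surjective σ0 := by
  have h : σ0.range = ⊤ := by
    rw [eq_top_iff, ← hgen, Subgroup.closure_le]
    rintro _ ⟨i, hi, rfl⟩
    have hi' : i < 2 := hi
    interval_cases i
    · exact ⟨⟨g1, Subgroup.subset_closure (by simp)⟩, by rw [sG_0]; rfl⟩
    · exact ⟨⟨g2, Subgroup.subset_closure (by simp)⟩, by rw [sG_1]; rfl⟩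
  exact MonoidHom.range_eq_top.mp h

/-- The generators of the cover. -/
noncomputable def gs (i : ℕ) : ↥M12 × Equiv.Perm GolayPt :=
  if i = 0 then g1 else if i = 1 then g2 else 1

theorem gs_0 : gs 0 = g1 := by simp [gs]
theorem gs_1 : gs 1 = g2 := by simp [gs]

theorem gs_mem (i : ℕ) : gs i ∈ Γ0 := by
  unfold gs
  split_ifs
  · exact Subgroup.subset_closure (by simp)
  · exact Subgroup.subset_closure (by simp)
  · exact Subgroup.one_mem _

theorem evW_mem (w : List ℕ) : evW gs w ∈ Γ0 := by
  induction w with
  | nil => exact Subgroup.one_mem _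
  | cons l w ih =>
    refine Subgroup.mul_mem _ ?_ ih
    unfold lett
    split_ifs
    · exact gs_mem _
    · exact Subgroup.inv_mem _ (gs_mem _)

/-- The codes of the letters of the lifts. -/
def cX (l : ℕ) : ℕ := [xac, xaic, xbc, xbic].getD l idC

theorem hL1 : ∀ l, l < 2 * 2 → Rep (lett (fun i => (((gs i).1 : ↥M12) : Equiv.Perm GolayPt)) l) (cL l) := by
  intro l hl
  have h0 : (((gs 0).1 : ↥M12) : Equiv.Perm GolayPt) = aP := by rw [gs_0]; rfl
  have h1 : (((gs 1).1 : ↥M12) : Equiv.Perm GolayPt) = bP := by rw [gs_1]; rfl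
  interval_cases l
  · show Rep (lett (fun i => (((gs i).1 : ↥M12) : Equiv.Perm GolayPt)) (2 * 0)) _
    rw [lett_even, h0]; exact rep_a
  · show Rep (lett (fun i => (((gs i).1 : ↥M12) : Equiv.Perm GolayPt)) (2 * 0 + 1)) _
    rw [lett_odd, h0]; exact rep_ai
  · show Rep (lett (fun i => (((gs i).1 : ↥M12) : Equiv.Perm GolayPt)) (2 * 1)) _
    rw [lett_even, h1]; exact rep_b
  · show Rep (lett (fun i => (((gs i).1 : ↥M12) : Equiv.Perm GolayPt)) (2 * 1 + 1)) _
    rw [lett_odd, h1]; exact rep_bi

theorem hL2 : ∀ l, l < 2 * 2 → Rep (lett (fun i => (gs i).2) l) (cX l) := by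
  intro l hl
  have h0 : (gs 0).2 = XA := by rw [gs_0]; rfl
  have h1 : (gs 1).2 = XB := by rw [gs_1]; rfl
  interval_cases l
  · show Rep (lett (fun i => (gs i).2) (2 * 0)) _
    rw [lett_even, h0]; exact rep_XA
  · show Rep (lett (fun i => (gs i).2) (2 * 0 + 1)) _
    rw [lett_odd, h0]; exact rep_XAi
  · show Rep (lett (fun i => (gs i).2) (2 * 1)) _
    rw [lett_even, h1]; exact rep_XB
  · show Rep (lett (fun i => (gs i).2) (2 * 1 + 1)) _
    rw [lett_odd, h1]; exact rep_XBi

theorem wT_lt : ∀ l ∈ wT, l < 2 * 2 := by decide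

theorem tw_fst : (evW gs wT).1 = 1 := by
  apply Subtype.ext
  have h1 := map_evW (M12.subtype.comp (MonoidHom.fst _ _)) gs wT
  have h2 : evW (fun i => (((gs i).1 : ↥M12) : Equiv.Perm GolayPt)) wT = 1 :=
    eq_of_eqC (rep_evW hL1 wT wT_lt) rep_one (by decide +kernel)
  exact h1.trans h2

theorem tw_snd : (evW gs wT).2 = tauP := by
  have h1 := map_evW (MonoidHom.snd (↥M12) (Equiv.Perm GolayPt)) gs wT
  have h2 : evW (fun i => (gs i).2) wT = tauP :=
    eq_of_eqC (rep_evW hL2 wT wT_lt) rep_tau (by decide +kernel)
  exact h1.trans h2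

/-- The central involution of the cover. -/
noncomputable def tt : ↥Γ0 := ⟨evW gs wT, evW_mem wT⟩

theorem tt_ne : tt ≠ 1 := by
  intro h
  have h1 : (tt : ↥M12 × Equiv.Perm GolayPt).2 = 1 := by rw [h]; rfl
  have h2 : (tt : ↥M12 × Equiv.Perm GolayPt).2 = tauP := tw_snd
  exact tau_ne (h2.symm.trans h1)

theorem tt_sq : tt ^ 2 = 1 := by
  apply Subtype.ext
  apply Prod.ext
  · show ((evW gs wT) ^ 2).1 = 1
    rw [Prod.pow_fst, tw_fst, one_pow]
  · show ((evW gs wT) ^ 2).2 = 1
    rw [Prod.pow_snd, tw_snd, tau_sq]

theorem ker_iff (z : ↥Γ0) : z ∈ σ0.ker ↔ z = 1 ∨ z = tt := by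
  constructor
  · intro hz
    have h1 : (z : ↥M12 × Equiv.Perm GolayPt).1 = 1 := hz
    obtain ⟨i1, i2, i3, -⟩ := Γ0_le z.2
    have i1' : ∀ p, lab ((z : ↥M12 × Equiv.Perm GolayPt).2 p) = lab p := by
      intro p
      rw [i1, h1]
      rfl
    rcases ker_cases i1' i2 i3 with h | h
    · left
      exact Subtype.ext (Prod.ext h1 h)
    · right
      exact Subtype.ext (Prod.ext (h1.trans tw_fst.symm) (h.trans tw_snd.symm))
  · rintro (rfl | rfl)
    · exact Subgroup.one_mem _
    · exact tw_fst

theorem σ0_stem : IsStemExtension σ0 := by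
  refine ⟨σ0_surj, ?_, ?_⟩
  · intro z hz
    rw [Subgroup.mem_center_iff]
    intro w
    rcases (ker_iff z).mp hz with rfl | rfl
    · simp
    · apply Subtype.ext
      apply Prod.ext
      · show (w : ↥M12 × Equiv.Perm GolayPt).1 * (evW gs wT).1 = (evW gs wT).1 * (w : ↥M12 × Equiv.Perm GolayPt).1
        rw [tw_fst, mul_one, one_mul]
      · show (w : ↥M12 × Equiv.Perm GolayPt).2 * (evW gs wT).2 = (evW gs wT).2 * (w : ↥M12 × Equiv.Perm GolayPt).2
        rw [tw_snd]
        exact (Γ0_le w.2).2.1
  · intro z hz
    rcases (ker_iff z).mp hz with rfl | rfl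
    · exact Subgroup.one_mem _
    · refine mem_commutator_of_gens ({g1, g2} : Set (↥M12 × Equiv.Perm GolayPt)) (n := 55) (t := 2) ?_ (by norm_num) tt tt_sq
      rintro g (rfl | rfl)
      · apply Prod.ext
        · apply Subtype.ext
          show aP ^ 55 = 1
          rw [show 55 = 5 * 11 by norm_num, pow_mul, a_pow, one_pow]
        · show XA ^ 55 = 1
          rw [show 55 = 5 * 11 by norm_num, pow_mul, XA_pow, one_pow]
      · apply Prod.ext
        · apply Subtype.ext
          show bP ^ 55 = 1
          rw [show 55 = 11 * 5 by norm_num, pow_mul, b_pow, one_pow]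
        · show XB ^ 55 = 1
          rw [show 55 = 11 * 5 by norm_num, pow_mul, XB_pow, one_pow]

theorem card_ker : Nat.card σ0.ker = 2 := by
  rw [Nat.card_eq_two_iff]
  refine ⟨1, ⟨tt, (ker_iff _).mpr (Or.inr rfl)⟩, ?_, ?_⟩
  · intro h
    exact tt_ne (congrArg Subtype.val h).symm
  · rw [Set.eq_univ_iff_forall]
    intro z
    rcases (ker_iff z.1).mp z.2 with h | h
    · left
      exact Subtype.ext h
    · right
      exact Subtype.ext h

/-- The Schur multiplier of the Mathieu group M₁₂ (the stabiliser of a dodecad in the automorphism group of the length-24 binary code) is cyclic of order 2; here the Schur multiplier is described through stem extensions, as in the definitions: surjective homomorphisms onto the group from a finite group, whose kernel is central in that finite group and contained in that finite group's commutator subgroup. -/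
theorem result : Cfsg.HasCyclicSchurMultiplier ↥Cfsg.Spor.M12 2 := by
  refine hasCyclicSchurMultiplier_of ⟨↥Γ0, inferInstance, inferInstance, σ0, σ0_stem, ⟨?_⟩⟩ up
  haveI : Fact (Nat.Prime 2) := ⟨Nat.prime_two⟩
  exact mulEquivOfPrimeCardEq card_ker (by simp [Nat.card_eq_fintype_card, ZMod.card])

end Cfsg.Agent.S2035
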