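import Mathlib
import Cfsg.Statements.S2060
import Cfsg.Agent.Lib.M11Enum
import Cfsg.Agent.Lib.M11OutCheck

set_option autoImplicit false
open Cfsg

namespace Cfsg.Agent.S2060

open Cfsg.Spor Cfsg.Agent.Lib.M11Data Cfsg.Agent.Lib.M11Chain Cfsg.Agent.Lib.M11Enum Cfsg.Agent.Lib.M11Out
open Cfsg.Agent.Lib.Golay hiding T1 T2 T3 T4 L1 L2 L3 L4

/-- the relations in a group -/
def RelProp {G : Type*} [Group G] (x y : G) : Prop :=
  y * y = 1 ∧ y ≠ 1 ∧ (x * x * x * y) ^ 5 = 1 ∧ (x * x * y) ^ 8 = 1 ∧ (x * y) ^ 8 = 1 ∧
    (x * y * x * x * y * x * x * x * x * y) ^ 8 = 1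

theorem RelProp.map {G H : Type*} [Group G] [Group H] {x y : G} (h : RelProp x y) (f : G →* H)
    (hf : Function.Injective f) : RelProp (f x) (f y) := by
  obtain ⟨h1, h2, h3, h4, h5, h6⟩ := h
  refine ⟨?_, ?_, ?_, ?_, ?_, ?_⟩
  · rw [← map_mul, h1, map_one]
  · intro h; apply h2; apply hf; rw [h, map_one]
  · simp only [← map_mul, ← map_pow, h3, map_one]
  · simp only [← map_mul, ← map_pow, h4, map_one]
  · simp only [← map_mul, ← map_pow, h5, map_one]
  · simp only [← map_mul, ← map_pow, h6, map_one]

theorem allV_nil : allV [] = true := rfl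

theorem relChecks_of_rel {X Y : List ℕ} (hX : allV X = true) (hY : allV Y = true)
    (h : RelProp (prodW X) (prodW Y)) : relChecks X Y = true := by
  obtain ⟨-, -, h3, h4, h5, h6⟩ := h
  have V2 := allV_append hX hX
  have V3 := allV_append V2 hX
  have W1 := allV_append hX hY
  have W2 := allV_append V2 hY
  have W3 := allV_append V3 hY
  simp only [relChecks, Bool.and_eq_true]
  refine ⟨⟨⟨?_, ?_⟩, ?_⟩, ?_⟩
  · apply wordEq_of_prodW_eq (allV_rep _ W3) allV_nil
    rw [prodW_rep]
    simp only [prodW_append, prodW_nil]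
    exact h3
  · apply wordEq_of_prodW_eq (allV_rep _ W2) allV_nil
    rw [prodW_rep]
    simp only [prodW_append, prodW_nil]
    exact h4
  · apply wordEq_of_prodW_eq (allV_rep _ W1) allV_nil
    rw [prodW_rep]
    simp only [prodW_append, prodW_nil]
    exact h5
  · have W : allV (X ++ Y ++ X ++ X ++ Y ++ X ++ X ++ X ++ X ++ Y) = true := by
      repeat' first | exact hX | exact hY | apply allV_append
    apply wordEq_of_prodW_eq (allV_rep _ W) allV_nil
    rw [prodW_rep]
    simp only [prodW_append, prodW_nil]
    exact h6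

theorem ac_M11 : isM11 ac = true := by decide +kernel
theorem tau_M11 : isM11 tau = true := by decide +kernel
theorem ac_valid : valid ac = true := isM11_valid ac_M11
theorem tau_valid : valid tau = true := isM11_valid tau_M11
theorem NL_M11 : ∀ d ∈ NL, isM11 d = true := by decide +kernel

theorem prodW_single (c : ℕ) : prodW [c] = decode c := by simp [prodW]

/-- the main step of the computation -/
theorem exists_conj_of_rel {y : Equiv.Perm GolayPt} (hy : y ∈ M11) {k : ℕ} (hk : k ∈ [1,2,3,4,5,6,7,8,9,10])
    (h : RelProp (decode ac ^ k) y) :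
    ∃ d ∈ NL, decode ac ^ k * decode d = decode d * decode ac ∧ y * decode d = decode d * decode tau := by
  obtain ⟨t1, ht1, t2, ht2, t3, ht3, t4, ht4, rfl⟩ := exists_decomp hy
  have hall := check
  simp only [List.all_eq_true] at hall
  have hc := hall t1 ht1 t2 ht2 t3 ht3 t4 ht4
  have hY : allV [t1, t2, t3, t4] = true := by
    simp [allV, T1_valid t1 ht1, T2_valid t2 ht2, T3_valid t3 ht3, T4_valid t4 ht4]
  have hX : allV (List.replicate k ac) = true := allV_replicate k ac_valid
  have h' : RelProp (prodW (List.replicate k ac)) (prodW [t1, t2, t3, t4]) := by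
    rw [prodW_replicate]; exact h
  have h1 : wordEq ([t1, t2, t3, t4] ++ [t1, t2, t3, t4]) [] = true := by
    apply wordEq_of_prodW_eq (allV_append hY hY) allV_nil
    rw [prodW_append, prodW_nil]
    exact h'.1
  have h2 : wordEq [t1, t2, t3, t4] [] ≠ true := by
    intro h3
    exact h'.2.1 (prodW_eq_of_wordEq hY allV_nil h3)
  have h3 := relChecks_of_rel hX hY h'
  simp only [candOK, h1, Bool.not_true, Bool.false_or, Bool.or_eq_true, List.all_eq_true, List.any_eq_true,
    Bool.not_eq_true', Bool.and_eq_true] at hc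
  rcases hc with hc | hc
  · exact absurd hc h2
  · rcases hc k hk with h4 | ⟨d, hd, h5, h6⟩
    · rw [h3] at h4; cases h4
    · have hdv : valid d = true := isM11_valid (NL_M11 d hd)
      have Vd : allV [d] = true := by simp [allV, hdv]
      refine ⟨d, hd, ?_, ?_⟩
      · have := prodW_eq_of_wordEq (allV_append hX Vd) (by simp [allV, hdv, ac_valid]) h5
        rw [prodW_append, prodW_replicate, prodW_single, prodW_cons, prodW_single] at this
        exact this
      · have := prodW_eq_of_wordEq (allV_append hY Vd) (by simp [allV, hdv, tau_valid]) h6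
        rw [prodW_append, prodW_single d, prodW_cons d, prodW_single tau] at this
        exact this

/-! ### generation -/

/-- the letters of the words -/
def letter (b : Bool) : ℕ := cond b ac tau

/-- the test of the words of a transversal -/
def checkW : List ℕ → List (List Bool) → Bool
  | [], [] => true
  | t :: T, w :: W => wordEq [t] (w.map letter) && checkW T W
  | _, _ => false

theorem allV_letters (w : List Bool) : allV (w.map letter) = true := by
  induction w with
  | nil => rfl
  | cons b w ih =>
    rw [List.map_cons, allV_cons]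
    refine ⟨?_, ih⟩
    cases b
    · exact tau_valid
    · exact ac_valid

theorem prodW_letters_mem (K : Subgroup (Equiv.Perm GolayPt)) (ha : decode ac ∈ K) (hb : decode tau ∈ K)
    (w : List Bool) : prodW (w.map letter) ∈ K := by
  induction w with
  | nil => exact K.one_mem
  | cons b w ih =>
    rw [List.map_cons, prodW_cons]
    apply K.mul_mem _ ih
    cases b
    · exact hb
    · exact ha

theorem checkW_mem (K : Subgroup (Equiv.Perm GolayPt)) (ha : decode ac ∈ K) (hb : decode tau ∈ K) :
    ∀ (T : List ℕ) (W : List (List Bool)), (∀ t ∈ T, valid t = true) → checkW T W = true →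
      ∀ t ∈ T, decode t ∈ K := by
  intro T
  induction T with
  | nil => intro W _ _ t ht; cases ht
  | cons t T ih =>
    intro W hv hW s hs
    cases W with
    | nil => simp [checkW] at hW
    | cons w W =>
      simp only [checkW, Bool.and_eq_true] at hW
      rcases List.mem_cons.1 hs with rfl | hs
      · have h1 : allV [s] = true := by simp [allV, hv s (by simp)]
        have h2 := prodW_eq_of_wordEq h1 (allV_letters w) hW.1
        rw [prodW_single] at h2
        rw [h2]
        exact prodW_letters_mem K ha hb w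
      · exact ih W (fun x hx => hv x (List.mem_cons_of_mem _ hx)) hW.2 s hs

/-- `M11` is generated by `ac` and `tau` -/
theorem M11_le_of_mem (K : Subgroup (Equiv.Perm GolayPt)) (ha : decode ac ∈ K) (hb : decode tau ∈ K) : M11 ≤ K := by
  intro g hg
  obtain ⟨t1, ht1, t2, ht2, t3, ht3, t4, ht4, rfl⟩ := exists_decomp hg
  have h1 := checkW_mem K ha hb T1 WT1 T1_valid (by decide +kernel) t1 ht1
  have h2 := checkW_mem K ha hb T2 WT2 T2_valid (by decide +kernel) t2 ht2
  have h3 := checkW_mem K ha hb T3 WT3 T3_valid (by decide +kernel) t3 ht3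
  have h4 := checkW_mem K ha hb T4 WT4 T4_valid (by decide +kernel) t4 ht4
  rw [prodW_cons, prodW_cons, prodW_cons, prodW_single]
  exact K.mul_mem h1 (K.mul_mem h2 (K.mul_mem h3 h4))

/-! ### Sylow `11`-subgroups -/

theorem exists_conj_pow {G : Type*} [Group G] [Finite G] (h : Nat.card G = 11 * 720) {x y : G}
    (hx : orderOf x = 11) (hy : orderOf y = 11) :
    ∃ (c : G) (k : ℕ), k ∈ [1,2,3,4,5,6,7,8,9,10] ∧ y = c * x ^ k * c⁻¹ := by
  have : Fact (Nat.Prime 11) := ⟨by norm_num⟩
  have hfac : (Nat.card G).factorization 11 = 1 := by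
    rw [h, Nat.factorization_mul (by norm_num) (by norm_num), Finsupp.add_apply,
      Nat.Prime.factorization_self (by norm_num),
      Nat.factorization_eq_zero_of_not_dvd (by norm_num)]
  let P : Sylow 11 G := Sylow.ofCard (Subgroup.zpowers x) (by
    rw [Nat.card_zpowers, hx, hfac, pow_one])
  let Q : Sylow 11 G := Sylow.ofCard (Subgroup.zpowers y) (by
    rw [Nat.card_zpowers, hy, hfac, pow_one])
  obtain ⟨c, hc⟩ := MulAction.exists_smul_eq G P Q
  have h1 : y ∈ (Q : Subgroup G) := Subgroup.mem_zpowers y
  rw [← hc, Sylow.coe_subgroup_smul, Subgroup.mem_pointwise_smul_iff_inv_smul_mem] at h1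
  have h2 : (MulAut.conj c)⁻¹ • y = c⁻¹ * y * c := by
    rw [MulAut.smul_def, MulAut.inv_def]
    simp
  have h1' : c⁻¹ * y * c ∈ Subgroup.zpowers x := by
    rw [← h2]
    exact h1
  rw [Subgroup.mem_zpowers_iff] at h1'
  obtain ⟨n, hn⟩ := h1'
  have h3 : x ^ (n % 11).toNat = c⁻¹ * y * c := by
    rw [← hn, ← zpow_natCast, Int.toNat_of_nonneg (Int.emod_nonneg _ (by norm_num))]
    have := zpow_mod_orderOf x n
    rw [hx] at this
    exact this
  have hlt : (n % 11).toNat < 11 := by omega
  have hne : (n % 11).toNat ≠ 0 := by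
    intro h0
    rw [h0, pow_zero] at h3
    have hy1 : y = 1 := by
      have : y = c * (c⁻¹ * y * c) * c⁻¹ := by group
      rw [this, ← h3]
      group
    rw [hy1, orderOf_one] at hy
    omega
  refine ⟨c, (n % 11).toNat, ?_, ?_⟩
  · generalize (n % 11).toNat = k at hlt hne
    interval_cases k <;> simp_all
  · rw [h3]
    group

/-! ### the theorem -/

/-- the element `ac` of `M11` -/
noncomputable def a' : ↥M11 := ⟨decode ac, decode_mem_M11 ac_M11⟩
/-- the element `tau` of `M11` -/
noncomputable def b' : ↥M11 := ⟨decode tau, decode_mem_M11 tau_M11⟩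

theorem RelProp.of_map {G H : Type*} [Group G] [Group H] {x y : G} (f : G →* H)
    (hf : Function.Injective f) (h : RelProp (f x) (f y)) : RelProp x y := by
  obtain ⟨h1, h2, h3, h4, h5, h6⟩ := h
  refine ⟨?_, ?_, ?_, ?_, ?_, ?_⟩
  · apply hf; simpa using h1
  · intro h; apply h2; rw [h, map_one]
  · apply hf; simpa using h3
  · apply hf; simpa using h4
  · apply hf; simpa using h5
  · apply hf; simpa using h6

theorem rel_perm : RelProp (decode ac) (decode tau) := by
  have hX : allV [ac] = true := by simp [allV, ac_valid]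
  have hY : allV [tau] = true := by simp [allV, tau_valid]
  have e1 := prodW_single ac
  have e2 := prodW_single tau
  have h0 : relChecks [ac] [tau] = true := by decide +kernel
  simp only [relChecks, Bool.and_eq_true] at h0
  obtain ⟨⟨⟨h3, h4⟩, h5⟩, h6⟩ := h0
  have V2 := allV_append hX hX
  have V3 := allV_append V2 hX
  have W1 := allV_append hX hY
  have W2 := allV_append V2 hY
  have W3 := allV_append V3 hY
  have W : allV ([ac] ++ [tau] ++ [ac] ++ [ac] ++ [tau] ++ [ac] ++ [ac] ++ [ac] ++ [ac] ++ [tau]) = true := by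
    decide +kernel
  refine ⟨?_, ?_, ?_, ?_, ?_, ?_⟩
  · have h : wordEq ([tau] ++ [tau]) [] = true := by decide +kernel
    have := prodW_eq_of_wordEq (allV_append hY hY) allV_nil h
    rwa [prodW_append, e2, prodW_nil] at this
  · intro h1
    have h2 : decode tau (pt 4) = pt 4 := by rw [h1]; rfl
    rw [decode_pt tau_valid (by norm_num), show ap tau 4 = 12 by decide +kernel] at h2
    have := pt_injOn (by norm_num) (by norm_num) h2
    omega
  · have := prodW_eq_of_wordEq (allV_rep _ W3) allV_nil h3
    rw [prodW_rep] at this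
    simpa only [prodW_append, prodW_nil, e1, e2] using this
  · have := prodW_eq_of_wordEq (allV_rep _ W2) allV_nil h4
    rw [prodW_rep] at this
    simpa only [prodW_append, prodW_nil, e1, e2] using this
  · have := prodW_eq_of_wordEq (allV_rep _ W1) allV_nil h5
    rw [prodW_rep] at this
    simpa only [prodW_append, prodW_nil, e1, e2] using this
  · have := prodW_eq_of_wordEq (allV_rep _ W) allV_nil h6
    rw [prodW_rep] at this
    simpa only [prodW_append, prodW_nil, e1, e2] using this

theorem rel_ab : RelProp a' b' :=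
  RelProp.of_map M11.subtype M11.subtype_injective rel_perm

theorem orderOf_a' : orderOf a' = 11 := by
  have : Fact (Nat.Prime 11) := ⟨by norm_num⟩
  apply orderOf_eq_prime
  · apply Subtype.ext
    show decode ac ^ 11 = 1
    have hX : allV (List.replicate 11 ac) = true := allV_replicate 11 ac_valid
    have h : wordEq (List.replicate 11 ac) [] = true := by decide +kernel
    have := prodW_eq_of_wordEq hX allV_nil h
    rwa [prodW_replicate, prodW_nil] at this
  · intro h
    have h1 : decode ac = 1 := congrArg Subtype.val h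
    have h2 : decode ac (pt 1) = pt 1 := by rw [h1]; rfl
    rw [decode_pt ac_valid (by norm_num)] at h2
    have h3 := pt_injOn (valid_ap_lt ac_valid (by norm_num)) (by norm_num) h2
    revert h3
    decide +kernel

/-- every automorphism of `M11` is inner -/
theorem inner (φ : MulAut ↥M11) : φ ∈ Inn ↥M11 := by
  have hcard : Nat.card ↥M11 = 11 * 720 := card_M11
  have hox : orderOf (φ a') = 11 :=
    (orderOf_injective φ.toMonoidHom φ.injective a').trans orderOf_a'
  obtain ⟨c, k, hk, hxc⟩ := exists_conj_pow hcard orderOf_a' hox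
  let ψ : ↥M11 ≃* ↥M11 := φ.trans (MulAut.conj c⁻¹)
  have hψ : ∀ g, ψ g = c⁻¹ * φ g * c := by
    intro g
    show (MulAut.conj c⁻¹) (φ g) = _
    simp
  have hψa : ψ a' = a' ^ k := by
    rw [hψ, hxc]
    group
  have rel := rel_ab.map ψ.toMonoidHom ψ.injective
  have rel2 := rel.map M11.subtype M11.subtype_injective
  have e0 : M11.subtype (ψ.toMonoidHom a') = decode ac ^ k := by
    show ((ψ a' : ↥M11) : Equiv.Perm GolayPt) = _
    rw [hψa]
    rfl
  rw [e0] at rel2
  obtain ⟨d, hd, h1, h2⟩ := exists_conj_of_rel (ψ b').2 hk rel2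
  let d' : ↥M11 := ⟨decode d, decode_mem_M11 (NL_M11 d hd)⟩
  have e1 : ψ a' = (MulAut.conj d').toMonoidHom a' := by
    apply Subtype.ext
    show ((ψ a' : ↥M11) : Equiv.Perm GolayPt) = decode d * decode ac * (decode d)⁻¹
    rw [hψa, ← h1]
    show decode ac ^ k = _
    group
  have e2 : ψ b' = (MulAut.conj d').toMonoidHom b' := by
    apply Subtype.ext
    show ((ψ b' : ↥M11) : Equiv.Perm GolayPt) = decode d * decode tau * (decode d)⁻¹
    rw [← h2]
    group
  let E : Subgroup ↥M11 := MonoidHom.eqLocus ψ.toMonoidHom (MulAut.conj d').toMonoidHom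
  have hK : M11 ≤ E.map M11.subtype := M11_le_of_mem _ ⟨a', e1, rfl⟩ ⟨b', e2, rfl⟩
  have hall : ∀ g : ↥M11, ψ g = d' * g * d'⁻¹ := by
    intro g
    obtain ⟨g', hg', heq⟩ := hK g.2
    have h3 : g' = g := Subtype.ext heq
    subst h3
    exact hg'
  refine ⟨c * d', ?_⟩
  refine MulEquiv.ext (fun g => ?_)
  have h4 : φ g = c * ψ g * c⁻¹ := by
    rw [hψ]
    group
  rw [h4, hall, MulAut.conj_apply]
  group

theorem result : Nat.card (Cfsg.Out ↥Cfsg.Spor.M11) = 1 := by
  have h : Inn ↥M11 = ⊤ := by
    rw [eq_top_iff]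
    intro φ _
    exact inner φ
  exact Subgroup.index_eq_one.2 h

end Cfsg.Agent.S2060
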