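import Mathlib
import Cfsg.Statements.S2061
import Cfsg.Agent.Lib.MathieuOut2
import Cfsg.Agent.Lib.M11Chain
import Cfsg.Agent.Lib.M11Simple

set_option autoImplicit false
set_option maxRecDepth 100000

namespace Cfsg.Agent.S2061

open Cfsg Cfsg.Spor Cfsg.Agent.Lib.Golay Cfsg.Agent.Lib.GolaySift Cfsg.Agent.Lib.MathieuSimple
  Cfsg.Agent.Lib.MathieuOut Cfsg.Agent.Lib.MathieuOut2 Cfsg.Agent.Lib.M11Simple
open MulAction
open scoped Pointwise

theorem M12_eq : M12 = M12d := by
  rw [M12d, M12, Cfsg.Agent.Lib.M11Chain.squareDodecad_eq]
  rfl

theorem mem_iff {g : Equiv.Perm GolayPt} : g ∈ M12 ↔ g ∈ M24 ∧ g • ds = ds := by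
  rw [M12_eq]
  exact Iff.rfl

theorem M12_le : M12 ≤ M24 := fun _ h => (mem_iff.mp h).1

theorem mem_of_code {c : ℕ} (h : isM24 c = true) (h1 : img c dsMask = dsMask) : decode c ∈ M12 :=
  mem_iff.mpr ⟨decode_mem_M24 h, decode_smul_ds (isM24_valid h) h1⟩

/-- An involution commuting with `w`. -/
def tc : ℕ := 234127864083396158983920601914215425
/-- The product of `w` and `t`. -/
def sc : ℕ := 235371710362969383756794173275246593

theorem tc_M24 : isM24 tc = true := by decide +kernel
theorem sc_M24 : isM24 sc = true := by decide +kernel

/-- The involution. -/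
noncomputable abbrev tP : Equiv.Perm GolayPt := decode tc
/-- The element of order 10. -/
noncomputable abbrev sP : Equiv.Perm GolayPt := decode sc

theorem rep_tP : Rep tP tc := rep_decode (isM24_valid tc_M24)
theorem rep_sP : Rep sP sc := rep_decode (isM24_valid sc_M24)

theorem fP_M12 : fP ∈ M12 := mem_of_code fc_M24 (by decide +kernel)
theorem wP_M12 : wP ∈ M12 := mem_of_code wc_M24 (by decide +kernel)
theorem tP_M12 : tP ∈ M12 := mem_of_code tc_M24 (by decide +kernel)

theorem t_comm : tP * wP = wP * tP :=
  eq_of_eqC (rep_tP.mul rep_wP) (rep_wP.mul rep_tP) (by decide +kernel)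

theorem t_sq : tP ^ 2 = 1 := pow_eq_one_of_code rep_tP (by decide +kernel)
theorem t_ne : tP ≠ 1 := ne_one_of_code rep_tP (i := 1) (by norm_num) (by decide +kernel)

theorem s_pow_10 : sP ^ 10 = 1 := pow_eq_one_of_code rep_sP (by decide +kernel)
theorem s_6 : sP ^ 6 = wP := eq_of_eqC (rep_pow rep_sP 6) rep_wP (by decide +kernel)
theorem s_5 : sP ^ 5 = tP := eq_of_eqC (rep_pow rep_sP 5) rep_tP (by decide +kernel)

/-- A straight-line program. -/
def insD : List (ℕ × ℕ) := [(0,2),(0,3),(1,3),(2,3),(2,6),(3,6),(4,6),(4,7),(10,10),(11,10),(1,12),(2,12),(0,14),(14,14),(0,15),(2,16),(0,17),(0,18),(0,18),(0,20),(0,22),(0,23),(0,23),(0,25),(16,0),(12,0),(25,0),(24,1),(30,2),(19,3),(31,4),(5,32),(6,6),(2,7),(10,36),(0,11),(0,36),(0,38),(0,40),(0,39),(0,42),(0,43),(0,44),(35,0),(34,0),(12,0),(34,0),(1,1),(5,24),(0,50),(0,26),(47,0),(5,0),(38,0),(56,0),(46,1),(1,57),(58,3),(32,4),(28,5),(14,6),(13,7),(0,16),(1,9),(10,10),(0,11),(15,23),(0,68),(0,44),(45,70),(0,70),(0,72),(0,21),(0,74),(0,5),(0,51),(0,76),(0,79),(0,54),(0,10),(77,0),(72,0),(22,0),(35,0),(23,0),(31,1),(2,32),(22,3)]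

/-- Its outcome. -/
def TD : List ℕ := [232652365823391711183829569059784736,719923664328491199848526586197411872,715872302521680643580706198532491296,809127892823755776035426641505355808,227578386318009578406903204956702752,629863500390412654982178157189269536,234600693073260372877123073519202336,298217908893176926803467756395564224,902960796026477745750140326800262349,734049763403168945219912457125432514,977761016715699324722128398819170604,984649151974947317455896669262456396,850672362008792993849368070477611410,940271870561518714311339547364175972,611053443199307194677397700570450016,604425607706817897154641118776926304,796187861646743869178100539601391906,802908777944869354971909271052517666,923146842213721529551651831411651657,940274326950417930659941651604583468,735669118294551619571439487429149956,719954196409891040818251164601027844,608405391266436187982588441666881568,970499966350631336865513127433832480,487607080158395075740321133224921120,984769902586367543974814854303385632,891440084380668137666183104591693856,970254902120350598020240965873371168,3214830906999361895068699153831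72128,736826471108326410567067743694368800,648159310229650812104752762628218912,230599254680237411625124333372088384,435731483920717845801138542774460544,233275138630126546660786208439996480,609271311764373893382231684089481248,849643112107286825990897416268224544,430536904260920616102279466472522016,483471219257688879456057041011951824,637785740993530529670485812162369667,630401787400772941330142126064869507,486073779993727295785104656607348768,310956180634880605174696326671541376,898742143189044893377746329054414880,649496681631006599768480243807162400,886997281135703399739192623784640928,809599684247594817212911804980662697,808036862239314055444163031594120265,819666030691988825768764196510763049,796661932762889528258408364017550345,882210472697600932027759135432936736,902464094774106042966081110264915072,901445638336557691834398107247315072,430624134514927167438382977759920132,927042609476450657668330649063457353,936749640237651056388410250241329184,304383412539821291079733571624636448,649959366045810076664923100633546784,838203988226629996505168562786339872,720092334277824482915700150575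175744,304711093576664614595828900737582144,606432165988661924721700252322121825,647967658016394560861735957939224673,630513823437563625193399064355680288,442302527338611176818082656936007808,940240739008872301190143685868013641,923764011333360365629602790638094441,941800561098785491939743982715876457,923797260455812714129452369668246665,938810200267796228678070059757277193,940395470326164745208108074653663241,978246183187084100000816879320439072,975679733630821471073662865963561248,983101882629101552620655908910833952,978076899444677511050001024522036256,968955966875123533138286166201145376,964881566828850631422085576588168480,982945552743155205048692816444138624,975166140090675008210365318152896768,984573014673175146587997007573696576,980668730378935070469623699575545984,803128483604023927775427340632723491,941563250463404268843317741160120360,222588812390558285282100717661074689,217412915303562955808187882639732865,808228294250179233269889876292290595,233950903142143329491472794243969121,220983788353516446476681914373116161,222394375271577361787171446477889633,234127864083396158983920601914215425,970459361523271695787015306425278496,983435072843990828779021698901151808]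


theorem run : runSLP [tc, wc, fc] insD = TD := by decide +kernel

theorem level0 : levelOk TD [] 0 [0,1,2,3,4,6,8,9,12,13,16,18] = true := by decide +kernel
theorem level1 : levelOk TD [0] 1 [1,2,3,4,6,8,9,12,13,16,18] = true := by decide +kernel
theorem level2 : levelOk TD [1,0] 2 [2,3,4,6,8,9,12,13,16,18] = true := by decide +kernel
theorem level3 : levelOk TD [2,1,0] 3 [3,4,6,8,9,12,13,16,18] = true := by decide +kernel
theorem level4 : levelOk TD [3,2,1,0] 4 [4,6,8,9,12,13,16,18] = true := by decide +kernel

/-- `M12` is generated by the three elements. -/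
theorem sift (H : Subgroup (Equiv.Perm GolayPt)) (hH : H ≤ M12) (hf : fP ∈ H) (hw : wP ∈ H) (ht : tP ∈ H) :
    M12 ≤ H := by
  rw [M12_eq] at hH ⊢
  have hT : ∀ c ∈ TD, InH H c := by
    rw [← run]
    apply runSLP_spec
    intro c hc
    simp only [List.mem_cons, List.not_mem_nil, or_false] at hc
    rcases hc with rfl | rfl | rfl
    · exact ⟨_, ht, rep_tP⟩
    · exact ⟨_, hw, rep_wP⟩
    · exact ⟨_, hf, rep_fP⟩
  have h : fixL M12d [] ≤ H := by
    refine sift_step (orbit_ds (by norm_num) (by simp) (by decide +kernel) (by decide +kernel))
      (level_of_table hH hT (by simp) (by norm_num) level0) ?_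
    refine sift_step (orbit_ds (by norm_num) (by simp) (by decide +kernel) (by decide +kernel))
      (level_of_table hH hT (by simp) (by norm_num) level1) ?_
    refine sift_step (orbit_ds (by norm_num) (by simp) (by decide +kernel) (by decide +kernel))
      (level_of_table hH hT (by simp) (by norm_num) level2) ?_
    refine sift_step (orbit_ds (by norm_num) (by simp) (by decide +kernel) (by decide +kernel))
      (level_of_table hH hT (by simp) (by norm_num) level3) ?_
    refine sift_step (orbit_ds (by norm_num) (by simp) (by decide +kernel) (by decide +kernel))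
      (level_of_table hH hT (by simp) (by norm_num) level4) ?_
    intro g hg
    rw [fix_five_bot g hg]
    exact Subgroup.one_mem _
  intro g hg
  exact h ⟨hg, by simp⟩

theorem mem_smul_ds {g : Equiv.Perm GolayPt} (hg : g • ds = ds) (y : GolayPt) : g y ∈ ds ↔ y ∈ ds := by
  conv_lhs => rw [← hg]
  exact Finset.smul_mem_smul_finset_iff (a := g) (b := y) (s := ds)

/-- The labels of the points: elements of `M12` preserve the dodecad. -/
def lab (i : ℕ) : ℕ := if dsMask.testBit i = true then 1 else 0

theorem mem_ds (p : GolayPt) : p ∈ ds ↔ dsMask.testBit (idx p) = true := by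
  rw [ds, mem_ofMask]

theorem hlab {g : Equiv.Perm GolayPt} (hg : g ∈ M12) (r : ℕ) (hr : r < 24) : lab (idx (g (pt r))) = lab r := by
  have h1 := mem_smul_ds (mem_iff.mp hg).2 (pt r)
  rw [mem_ds, mem_ds, idx_pt hr] at h1
  simp only [lab, h1]

theorem hall2 : allP (cycOf Tw) ([3, 7, 14, 0, 1, 5, 23].map (allowedL wc lab)) [cycOf Tw 2]
    (fun vs => testM24 ((List.range 10).map (powC sc)) (cand Ew Tw (2 :: vs))) = true := by decide +kernel
theorem hall3 : allP (cycOf Tw) ([3, 7, 14, 0, 1, 5, 23].map (allowedL wc lab)) [cycOf Tw 3]
    (fun vs => testM24 ((List.range 10).map (powC sc)) (cand Ew Tw (3 :: vs))) = true := by decide +kernel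

/-- The centraliser of `w` in `M12`. -/
theorem exists_pow_of_commute_w {g : Equiv.Perm GolayPt} (hg : g ∈ M12) (hc : g * wP = wP * g) :
    ∃ i, i < 10 ∧ g = sP ^ i := by
  obtain ⟨k, c, hr, hF⟩ := cent_norm (M := M12) (F := testM24 ((List.range 10).map (powC sc))) (lab := lab)
    rep_wP wP_M12 wP_pow (by norm_num) hg hc Tw_ok Tw_cyc (fun x hx r hr => hlab hx r hr) (by
      intro v hv hl
      simp only [List.mem_cons, List.not_mem_nil, or_false] at hv
      rcases hv with rfl | rfl | rfl | rfl | rfl | rfl | rfl | rfl
      · exact hall2
      · exact hall3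
      · exact absurd hl (by decide +kernel)
      · exact absurd hl (by decide +kernel)
      · exact absurd hl (by decide +kernel)
      · exact absurd hl (by decide +kernel)
      · exact absurd hl (by decide +kernel)
      · exact absurd hl (by decide +kernel))
  have hm : wP ^ k * g ∈ M24 := M24.mul_mem (M24.pow_mem (M12_le wP_M12) k) (M12_le hg)
  obtain ⟨p, hp, he⟩ := exists_of_testM24 hm hr hF
  rw [List.mem_map] at hp
  obtain ⟨b, hb, rfl⟩ := hp
  have h1 : wP ^ k * g = sP ^ b := eq_of_eqC hr (rep_pow rep_sP b) he
  have h3 : g = sP ^ (6 * (k * 4) + b) := by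
    have h4 : wP ^ (k * 4) * wP ^ k = 1 := by
      rw [← pow_add]
      have : k * 4 + k = 5 * k := by ring
      rw [this, pow_mul, wP_pow, one_pow]
    calc g = (wP ^ (k * 4) * wP ^ k) * g := by rw [h4, one_mul]
      _ = wP ^ (k * 4) * (wP ^ k * g) := by group
      _ = sP ^ (6 * (k * 4) + b) := by rw [h1, pow_add, pow_mul sP 6, s_6]
  refine ⟨(6 * (k * 4) + b) % 10, Nat.mod_lt _ (by norm_num), ?_⟩
  rw [h3]
  conv_lhs => rw [← Nat.mod_add_div (6 * (k * 4) + b) 10]
  rw [pow_add, pow_mul, s_pow_10, one_pow, mul_one]

/-- The test for involutions. -/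
def chkS : Bool := (List.range 10).all fun i =>
  !isId (powC sc (2 * i)) || Nat.beq i 0 || Nat.beq i 5

theorem chkS_ok : chkS = true := by decide +kernel

/-- Automorphisms fixing `f` are inner. -/
theorem main (γ : MulAut ↥M12) (hγ : γ ⟨fP, fP_M12⟩ = ⟨fP, fP_M12⟩) : γ ∈ Inn ↥M12 := by
  obtain ⟨c, h1, h2⟩ := fix_w M12_le fP_M12 wP_M12 hγ
  apply inner_of_conj_mul (c := c)
  set β := MulAut.conj c * γ with hβ
  set f : ↥M12 := ⟨fP, fP_M12⟩ with hfd
  set w : ↥M12 := ⟨wP, wP_M12⟩ with hwd
  set t : ↥M12 := ⟨tP, tP_M12⟩ with htd
  have htw : t * w = w * t := Subtype.ext t_comm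
  have h3 : β t * w = w * β t := by
    have := congrArg β htw
    simpa only [map_mul, h2] using this
  obtain ⟨i, hi, hgi⟩ := exists_pow_of_commute_w (β t).2 (congrArg Subtype.val h3)
  have ht2 : t ^ 2 = 1 := Subtype.ext t_sq
  have h4 : (β t) ^ 2 = 1 := by rw [← map_pow, ht2, map_one]
  have h5 : sP ^ (2 * i) = 1 := by
    have h6 := congrArg (fun x : ↥M12 => (x : Equiv.Perm GolayPt)) h4
    simp only [Subgroup.coe_pow, Subgroup.coe_one] at h6
    rw [hgi, ← pow_mul, mul_comm] at h6
    exact h6
  have h7 : Rep (1 : Equiv.Perm GolayPt) (powC sc (2 * i)) := by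
    rw [← h5]; exact rep_pow rep_sP _
  have h8 := isId_of_one h7
  have h9 := chkS_ok
  simp only [chkS, List.all_eq_true, Bool.or_eq_true, Bool.not_eq_true'] at h9
  have hβt : β t = t := by
    rcases h9 i (List.mem_range.mpr hi) with (h10 | h10) | h10
    · rw [h8] at h10
      exact absurd h10 (by simp)
    · exfalso
      have hi0 : i = 0 := Nat.eq_of_beq_eq_true h10
      rw [hi0, pow_zero] at hgi
      have h11 : β t = 1 := Subtype.ext hgi
      have h12 : t = 1 := by
        have := congrArg β.symm h11
        simpa using this
      exact t_ne (congrArg Subtype.val h12)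
    · have hi5 : i = 5 := Nat.eq_of_beq_eq_true h10
      rw [hi5, s_5] at hgi
      exact Subtype.ext hgi
  have hβ1 : β = 1 := by
    apply eq_one_of_le_fixedSub
    apply sift _ (fixedSub_le β)
    · exact mem_fixedSub (x := f) h1
    · exact mem_fixedSub (x := w) h2
    · exact mem_fixedSub (x := t) hβt
  rw [hβ1]
  exact Subgroup.one_mem _

theorem z_inv : zP⁻¹ = zP := by
  rw [inv_eq_iff_mul_eq_one]
  exact eq_of_eqC (rep_zP.mul rep_zP) rep_one (by decide +kernel)

theorem z_swap (y : GolayPt) : zP y ∈ ds ↔ y ∉ ds := by
  have h : ∀ i, i < 24 → dsMask.testBit (ap zc i) = !dsMask.testBit i := by decide +kernel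
  rw [mem_ds, mem_ds, rep_zP, h _ (idx_lt y)]
  simp

theorem z_conj (g : Equiv.Perm GolayPt) (hg : g ∈ M12) : zP * g * zP⁻¹ ∈ M12 := by
  obtain ⟨h1, h2⟩ := mem_iff.mp hg
  rw [mem_iff, z_inv]
  refine ⟨M24.mul_mem (M24.mul_mem zP_M24 h1) zP_M24, ?_⟩
  have key : ∀ y, (zP * g * zP) y ∈ ds ↔ y ∈ ds := by
    intro y
    simp only [Equiv.Perm.mul_apply]
    rw [z_swap, mem_smul_ds h2, z_swap, not_not]
  ext y
  rw [Finset.mem_smul_finset]
  constructor
  · rintro ⟨u, hu, rfl⟩
    exact (key u).mpr hu
  · intro hy
    refine ⟨(zP * g * zP)⁻¹ y, ?_, ?_⟩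
    · rw [← key]
      simpa using hy
    · simp [Equiv.Perm.smul_def]

/-- The outer automorphism group of the Mathieu group M₁₂ (the stabiliser of a dodecad in the automorphism group of the length-24 binary code) has order 2. -/
theorem result : Nat.card (Cfsg.Out ↥Cfsg.Spor.M12) = 2 := by
  refine card_out_eq_two M12_le fP_M12 wP_M12 z_conj ?_ main ?_
  · intro g hg
    have := z_conj g hg
    rwa [z_inv] at this ⊢
  · intro g hg b h
    have hm : zP ∈ M12 := by
      rw [h]
      exact M12.mul_mem hg (M12.pow_mem fP_M12 b)
    have h1 := hlab hm 1 (by norm_num)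
    rw [rep_zP, idx_pt (by norm_num)] at h1
    exact absurd h1 (by decide +kernel)

end Cfsg.Agent.S2061
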