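import Mathlib
import Cfsg.Statements.S2062
import Cfsg.Agent.Lib.MathieuOut2

set_option autoImplicit false
set_option maxRecDepth 100000

namespace Cfsg.Agent.S2062

open Cfsg Cfsg.Spor Cfsg.Agent.Lib.Golay Cfsg.Agent.Lib.GolaySift Cfsg.Agent.Lib.MathieuSimple
  Cfsg.Agent.Lib.MathieuOut Cfsg.Agent.Lib.MathieuOut2

theorem pt23 : pt 23 = (none : GolayPt) := by simp [pt]
theorem pt0 : pt 0 = (some 0 : GolayPt) := by simp [pt]

theorem mem_M22_iff {g : Equiv.Perm GolayPt} :
    g ∈ M22 ↔ g ∈ M24 ∧ g (pt 23) = pt 23 ∧ g (pt 0) = pt 0 := by
  rw [pt23, pt0]
  simp only [M22, M23, Subgroup.mem_inf, MulAction.mem_stabilizer_iff, Equiv.Perm.smul_def]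
  tauto

theorem M22_le : M22 ≤ M24 := fun _ h => (mem_M22_iff.mp h).1

theorem mem_of_code {c : ℕ} (h : isM24 c = true) (h1 : ap c 23 = 23) (h2 : ap c 0 = 0) : decode c ∈ M22 := by
  have hv := isM24_valid h
  rw [mem_M22_iff]
  refine ⟨decode_mem_M24 h, ?_, ?_⟩
  · rw [decode_pt hv (by norm_num), h1]
  · rw [decode_pt hv (by norm_num), h2]

/-- An element of order 4 acting on `w` as its square. -/
def vc : ℕ := 971592914598343034710976577235617952

theorem vc_M24 : isM24 vc = true := by decide +kernel
theorem vc_valid : valid vc = true := isM24_valid vc_M24

/-- The element of order 4. -/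
noncomputable abbrev vP : Equiv.Perm GolayPt := decode vc

theorem rep_vP : Rep vP vc := rep_decode vc_valid

theorem fP_M22 : fP ∈ M22 := mem_of_code fc_M24 (by decide +kernel) (by decide +kernel)
theorem wP_M22 : wP ∈ M22 := mem_of_code wc_M24 (by decide +kernel) (by decide +kernel)
theorem vP_M22 : vP ∈ M22 := mem_of_code vc_M24 (by decide +kernel) (by decide +kernel)

theorem vP_w : vP * wP = wP ^ 2 * vP :=
  eq_of_eqC (rep_vP.mul rep_wP) ((rep_pow rep_wP 2).mul rep_vP) (by decide +kernel)

/-- A straight-line program. -/
def insC : List (ℕ × ℕ) := [(2,2),(3,2),(4,2),(3,5),(3,6),(4,6),(4,6),(4,7),(9,9),(3,11),(0,11),(0,12),(0,13),(0,13),(0,15),(0,17),(0,18),(0,18),(0,20),(13,0),(22,0),(21,1),(21,2),(24,3),(4,4),(16,5),(2,27),(3,7),(3,8),(10,31),(0,11),(0,31),(0,33),(0,35),(0,34),(0,37),(0,38),(0,39),(34,0),(19,0),(40,0),(42,1),(0,22),(3,3),(6,25),(0,46),(0,27),(40,0),(20,0),(51,0),(50,1),(1,51),(53,3),(33,4),(45,5),(15,6),(7,16),(8,8),(2,18),(2,19),(1,11),(14,23),(0,63),(0,44),(56,0),(36,0),(5,0),(69,0),(67,1),(70,2),(30,3),(22,4),(28,5),(35,9),(22,0),(50,0),(19,0),(79,0),(78,1),(39,2),(24,3),(23,4),(5,5),(84,45),(0,85),(0,38),(0,22),(0,68),(90,0),(47,0),(8,0),(14,0),(94,0),(92,1),(95,2),(86,3),(52,4),(0,48),(31,6),(61,25),(0,12),(0,37),(0,104),(0,29),(0,85),(0,41),(37,0),(87,0),(48,0),(32,0),(112,0),(112,1),(88,2),(1,64),(74,4),(66,5),(45,6),(37,7),(51,8),(27,9),(21,10),(57,74),(0,34),(0,76),(0,125),(0,51),(0,127),(0,127),(0,40),(0,65),(0,83),(0,57),(0,134),(0,59),(0,136),(0,97),(0,30),(114,0),(118,0),(41,0),(57,0),(140,0),(133,1),(103,2),(95,3),(65,4),(79,5),(55,6),(38,7),(50,8),(31,9),(31,10),(31,11)]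

/-- Its outcome. -/
def TC : List ℕ := [976448692869377735270425038196672544,972512676110088067912772961567868960,963721886883755259286232606933354528,975346028712660580592452217730074656,965128854020860192151391391390468128,981818691054096003685363657089320992,970499966350631336865513127433832480,971546660325196217172512839930447904,960192612776533651882150506538698784,975076974902431071597359124085704736,961446558228507852451177167094093856,958556010315883476318625194497679488,971592882964418941354553515258775584,972679049849814778609582601333213216,979653720856132155943788869151000608,981967241274343326107431846006572064,958154420767799869998694186981010720,980619535131239904453855961792776384,967843213126673346802810144273186112,959660455211381004634299048853055616,957170186594117179575962764385165952,978795359877034968289817721676943808,976422383912740039918238808577124896,969994930187090026586946845846120096,963910238205184841698172094148427392,979364556620953523277335936577417472,957226034905062871422151853005648480,970248888079173695900962088606581344,984004411246909358518952198292542848,9690973847405273897180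98820457793920,960959821823326091639298168275097696,967963071470189418979692094681656864,979121071158219704299181131031480352,966182099583441531322624363496310816,968708902336673183175954409307867168,977917117102221186485545726083565600,974381318203013973226242831908309024,960785919081584708915034718552426528,977871541593354397649032848603318304,973177392771536401268272967199039520,967161757940782749142572195456193568,976694625361865532759270200605548576,979279761215822422992981480297402432,967812279691448225500382947153381408,967365292857695660364575527991871520,971661929912286645192379785233500192,966349287918602878602126816749863968,958809335966743240788253609860605152,969031744592795158581315727665579040,965307233746561084621707110852634880,974987158607611753067745860345600032,980676178547716855355797588339426976,979135068674643708950693920958914976,967412931477788396180477167958103520,983548720921252936276249910206105632,968658307256919685389592140005804064,970074243688943598956555217048111136,975386554119495462225509534579365920,974290087754762872244937613357752352,965121488446984159245912978159444096,975180378489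566301870670007302819904,980224387687010295957922729495201824,972606645568131968584696805283956768,974297736089239669581392726270806048,978308338533051578029664796748172320,982254407581591946148409743502562688,967125313502543427981720057021714528,958849829910072983062752126991649088,966600342346440780982276034485764576,980740240741597150295518280807952864,969836898326968551397880902883313696,977882756760545762751104706800191520,967927597525770162379514019195291680,973075829485615036635516230514739232,976420998289091902976687206745802912,971617474367623174829018398701326400,963515095949177277443875056653535264,963318691786004865387742574998358048,984035539411701333719129413687621664,965985617189735663987895645158120032,968817900436283238751635371341842464,980804580588990121117293119901501472,979403517158931370960286527732811808,979341978696023585876778041505620000,976454116458846517786764384256008320,966385334434190768928139796840386624,961365507626256404119956257276790816,976568219141625759021091627404003360,969117988279418339642971639966534688,962142063853126662510170490286721152,971633515894200439394975542126351616,97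0449300612535268277690211289766144,976485648607836023842901617906583584,972471238156340489213650609118021664,983298441375648284054396014667892768,971089022632499903566407712365021216,974345705122079120476387247824046112,961199006635680702013153356583962656,973722205511297108065939008192682016,966555064964178957427788724122096672,980183460325460396834368683600650272,964039458955516815243710903254291008,975309219891405300185474007867984032,980090927857311465278804411460849728,983146157792187733735941409403799584,970201954137134007030123327997005856,979195821879328113970559103704641856,975425531506294124073844468810959136,972388714942304833726763511303417120,982083600279152165763134681409849376,965343080427929355969902344384652320,963906405433385565877199559204741152,964085416778216674446931529963210912,965933924869347573707900197936531488,983419977450110005931666780748727328,983063642545078119651345428502427072,958856389897127210162198446595390016,969753545581183358130874823515261088,971427366313132092810121774866076800,978856394232103213292835627868623904,976893481163078043640852433174463872,97004879116972374393784334828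1707904,984674924392124103122196869417160160,976209258007559061417789380264385056,965254146626904432028560345010354208,967190284922472532621200061121138720,978187949202625202774409205902838816,958359590719390210167753763818443808,963678973217208894640370542835174432,976412393628935648049380886620640288,972627129529150164260312660609159296,966024163842636179369033916256552096,979413802635190584773128361539184704,967412804521460982698094360834544672,958639260211734014172931896415569152,980134156410824555979292522725974240,968567556310176808319700115294695648,980468375148335419615501722239704160,961360009770777289023686630769725120,958432083626490716311254887820860096,978246183187084100000816879320439072,975679733630821471073662865963561248,983101882629101552620655908910833952,964881566828850631422085576588168480,968955966875123533138286166201145376,984654223438125024706643685492854848,963867615587387316491785234079498560,982945552743155205048692816444138624,975166140090675008210365318152896768,975710200457369105984398258522839104,956984442359364317686652124481818944,984573014673175146587997007573696576,980668730378935070469623699575545984,971592914598343034710976577235617952,970459361523271695787015306425278496,983435072843990828779021698901151808]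

theorem run : runSLP [vc, wc, fc] insC = TC := by decide +kernel

theorem level1 : levelOk TC [0,23] 1 [1,2,3,4,5,6,7,8,9,10,11,12,13,14,15,16,17,18,19,20,21,22] = true := by decide +kernel
theorem level2 : levelOk TC [1,0,23] 2 [2,3,4,5,6,7,8,9,10,11,12,13,14,15,16,17,18,19,20,21,22] = true := by decide +kernel
theorem level3 : levelOk TC [2,1,0,23] 3 [3,4,5,6,7,8,9,10,11,12,13,14,15,16,17,18,19,20,21,22] = true := by decide +kernel
theorem level4 : levelOk TC [3,2,1,0,23] 5 [5,14,17] = true := by decide +kernel
theorem level5 : levelOk TC [5,3,2,1,0,23] 4 [4,6,7,8,9,10,11,12,13,15,16,18,19,20,21,22] = true := by decide +kernel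

/-- `M22` is generated by the three elements. -/
theorem sift (H : Subgroup (Equiv.Perm GolayPt)) (hH : H ≤ M24) (hf : fP ∈ H) (hw : wP ∈ H) (hv : vP ∈ H) :
    M22 ≤ H := by
  have hT : ∀ c ∈ TC, InH H c := by
    rw [← run]
    apply runSLP_spec
    intro c hc
    simp only [List.mem_cons, List.not_mem_nil, or_false] at hc
    rcases hc with rfl | rfl | rfl
    · exact ⟨_, hv, rep_vP⟩
    · exact ⟨_, hw, rep_wP⟩
    · exact ⟨_, hf, rep_fP⟩
  have h : fixL M24 [0,23] ≤ H := by
    refine sift_step (orbit_bound (by simp) (by norm_num) (by simp) (by decide +kernel))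
      (level_of_table hH hT (by simp) (by norm_num) level1) ?_
    refine sift_step (orbit_bound (by simp) (by norm_num) (by simp) (by decide +kernel))
      (level_of_table hH hT (by simp) (by norm_num) level2) ?_
    refine sift_step (orbit_bound (by simp) (by norm_num) (by simp) (by decide +kernel))
      (level_of_table hH hT (by simp) (by norm_num) level3) ?_
    refine sift_step (fun g hg => L6_in g hg)
      (level_of_table hH hT (by simp) (by norm_num) level4) ?_
    refine sift_step (fun g hg => L7_in g hg)
      (level_of_table hH hT (by simp) (by norm_num) level5) ?_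
    intro g hg
    have : g ∈ G [4,5,3,2,1,0,23] := hg
    rw [G7_eq_bot, Subgroup.mem_bot] at this
    rw [this]
    exact Subgroup.one_mem _
  intro g hg
  obtain ⟨h1, h2, h3⟩ := mem_M22_iff.mp hg
  refine h ⟨h1, ?_⟩
  intro i hi
  simp only [List.mem_cons, List.not_mem_nil, or_false] at hi
  rcases hi with rfl | rfl
  · exact h3
  · exact h2

/-- The labels of the points: elements of `M22` fix `0` and `23`. -/
def lab (i : ℕ) : ℕ := if i = 23 then 1 else if i = 0 then 2 else 0

theorem hlab {g : Equiv.Perm GolayPt} (hg : g ∈ M22) (r : ℕ) (hr : r < 24) : lab (idx (g (pt r))) = lab r := by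
  obtain ⟨_, h2, h3⟩ := mem_M22_iff.mp hg
  by_cases h23 : r = 23
  · subst h23; rw [h2, idx_pt (by norm_num)]
  by_cases h0 : r = 0
  · subst h0; rw [h3, idx_pt (by norm_num)]
  have h4 : idx (g (pt r)) ≠ 23 := by
    intro h
    have h5 : g (pt r) = pt 23 := by rw [← h, pt_idx]
    rw [← h2] at h5
    have h6 := congrArg idx (g.injective h5)
    rw [idx_pt hr, idx_pt (by norm_num)] at h6
    exact h23 h6
  have h4' : idx (g (pt r)) ≠ 0 := by
    intro h
    have h5 : g (pt r) = pt 0 := by rw [← h, pt_idx]
    rw [← h3] at h5
    have h6 := congrArg idx (g.injective h5)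
    rw [idx_pt hr, idx_pt (by norm_num)] at h6
    exact h0 h6
  simp [lab, h23, h0, h4, h4']

theorem hall2 : allP (cycOf Tw) ([3, 7, 14, 0, 1, 5, 23].map (allowedL wc lab)) [cycOf Tw 2]
    (fun vs => testM24 Ew (cand Ew Tw (2 :: vs))) = true := by decide +kernel
theorem hall3 : allP (cycOf Tw) ([3, 7, 14, 0, 1, 5, 23].map (allowedL wc lab)) [cycOf Tw 3]
    (fun vs => testM24 Ew (cand Ew Tw (3 :: vs))) = true := by decide +kernel
theorem hall7 : allP (cycOf Tw) ([3, 7, 14, 0, 1, 5, 23].map (allowedL wc lab)) [cycOf Tw 7]
    (fun vs => testM24 Ew (cand Ew Tw (7 :: vs))) = true := by decide +kernel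
theorem hall14 : allP (cycOf Tw) ([3, 7, 14, 0, 1, 5, 23].map (allowedL wc lab)) [cycOf Tw 14]
    (fun vs => testM24 Ew (cand Ew Tw (14 :: vs))) = true := by decide +kernel

/-- The centraliser of `w` in `M22`. -/
theorem exists_pow_of_commute_w {g : Equiv.Perm GolayPt} (hg : g ∈ M22) (hc : g * wP = wP * g) :
    ∃ i, i < 5 ∧ g = wP ^ i := by
  obtain ⟨k, c, hr, hF⟩ := cent_norm (M := M22) (F := testM24 Ew) (lab := lab) rep_wP wP_M22 wP_pow (by norm_num)
    hg hc Tw_ok Tw_cyc (fun x hx r hr => hlab hx r hr) (by
      intro v hv hl
      simp only [List.mem_cons, List.not_mem_nil, or_false] at hv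
      rcases hv with rfl | rfl | rfl | rfl | rfl | rfl | rfl | rfl
      · exact hall2
      · exact hall3
      · exact hall7
      · exact hall14
      · exact absurd hl (by decide +kernel)
      · exact absurd hl (by decide +kernel)
      · exact absurd hl (by decide +kernel)
      · exact absurd hl (by decide +kernel))
  have hm : wP ^ k * g ∈ M24 := M24.mul_mem (M24.pow_mem (M22_le wP_M22) k) (M22_le hg)
  obtain ⟨p, hp, he⟩ := exists_of_testM24 hm hr hF
  rw [Ew_eq, List.mem_map] at hp
  obtain ⟨b, hb, rfl⟩ := hp
  have h1 : wP ^ k * g = wP ^ b := eq_of_eqC hr (rep_pow rep_wP b) he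
  have h2 : wP ^ k * wP ^ (k * 4) = 1 := by
    rw [← pow_add]
    have : k + k * 4 = 5 * k := by ring
    rw [this, pow_mul, wP_pow, one_pow]
  have h3 : g = wP ^ (k * 4 + b) := by
    have h4 : wP ^ (k * 4) * wP ^ k = 1 := by
      rw [← pow_add]
      have : k * 4 + k = 5 * k := by ring
      rw [this, pow_mul, wP_pow, one_pow]
    calc g = (wP ^ (k * 4) * wP ^ k) * g := by rw [h4, one_mul]
      _ = wP ^ (k * 4) * (wP ^ k * g) := by group
      _ = wP ^ (k * 4 + b) := by rw [h1, pow_add]
  refine ⟨(k * 4 + b) % 5, Nat.mod_lt _ (by norm_num), ?_⟩
  rw [h3]
  conv_lhs => rw [← Nat.mod_add_div (k * 4 + b) 5]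
  rw [pow_add, pow_mul, wP_pow, one_pow, mul_one]

/-- The test for the relation. -/
def chkR : Bool := (List.range 5).all fun i =>
  !isId (powC (comp (comp fc (comp vc (powC wc i))) (comp vc (powC wc i))) 3) || Nat.beq i 0

theorem chkR_ok : chkR = true := by decide +kernel

theorem rel_base : (fP * vP * vP) ^ 3 = 1 :=
  pow_eq_one_of_code ((rep_fP.mul rep_vP).mul rep_vP) (by decide +kernel)

/-- Automorphisms fixing `f` are inner. -/
theorem main (γ : MulAut ↥M22) (hγ : γ ⟨fP, fP_M22⟩ = ⟨fP, fP_M22⟩) : γ ∈ Inn ↥M22 := by
  obtain ⟨c, h1, h2⟩ := fix_w M22_le fP_M22 wP_M22 hγ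
  apply inner_of_conj_mul (c := c)
  set β := MulAut.conj c * γ with hβ
  set f : ↥M22 := ⟨fP, fP_M22⟩ with hfd
  set w : ↥M22 := ⟨wP, wP_M22⟩ with hwd
  set v : ↥M22 := ⟨vP, vP_M22⟩ with hvd
  have hvw : v * w * v⁻¹ = w ^ 2 := by
    rw [mul_inv_eq_iff_eq_mul]
    exact Subtype.ext vP_w
  have h3 : β v * w * (β v)⁻¹ = w ^ 2 := by
    have := congrArg β hvw
    simpa only [map_mul, map_inv, map_pow, h2] using this
  have h4 : (v⁻¹ * β v) * w = w * (v⁻¹ * β v) := by
    have h5 : β v * w = w ^ 2 * β v := by rw [← h3]; group
    have h6 : v⁻¹ * w ^ 2 = w * v⁻¹ := by rw [← hvw]; group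
    calc (v⁻¹ * β v) * w = v⁻¹ * (β v * w) := by group
      _ = v⁻¹ * (w ^ 2 * β v) := by rw [h5]
      _ = (v⁻¹ * w ^ 2) * β v := by group
      _ = (w * v⁻¹) * β v := by rw [h6]
      _ = w * (v⁻¹ * β v) := by group
  obtain ⟨i, hi, hgi⟩ := exists_pow_of_commute_w (v⁻¹ * β v).2 (congrArg Subtype.val h4)
  have h7 : v⁻¹ * β v = w ^ i := Subtype.ext hgi
  have h8 : β v = v * w ^ i := by rw [← h7]; group
  -- the relation
  have hrel : (f * v * v) ^ 3 = 1 := Subtype.ext rel_base
  have h9 := congrArg β hrel
  simp only [map_pow, map_mul, map_one, h1, h8] at h9
  have h10 := congrArg (fun x : ↥M22 => (x : Equiv.Perm GolayPt)) h9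
  simp only [Subgroup.coe_pow, Subgroup.coe_mul, Subgroup.coe_one] at h10
  have hrepv : Rep (vP * wP ^ i) (comp vc (powC wc i)) := rep_vP.mul (rep_pow rep_wP i)
  have h11 : Rep ((fP * (vP * wP ^ i) * (vP * wP ^ i)) ^ 3)
      (powC (comp (comp fc (comp vc (powC wc i))) (comp vc (powC wc i))) 3) :=
    rep_pow ((rep_fP.mul hrepv).mul hrepv) 3
  rw [h10] at h11
  have h12 := isId_of_one h11
  have h13 := chkR_ok
  simp only [chkR, List.all_eq_true, Bool.or_eq_true, Bool.not_eq_true'] at h13
  rcases h13 i (List.mem_range.mpr hi) with h14 | h14
  · rw [h12] at h14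
    exact absurd h14 (by simp)
  have hi0 : i = 0 := Nat.eq_of_beq_eq_true h14
  have hβ1 : β = 1 := by
    apply eq_one_of_le_fixedSub
    apply sift _ ((fixedSub_le β).trans M22_le)
    · exact mem_fixedSub (x := f) h1
    · exact mem_fixedSub (x := w) h2
    · refine mem_fixedSub (x := v) ?_
      rw [h8, hi0, pow_zero, mul_one]
  rw [hβ1]
  exact Subgroup.one_mem _

theorem z23 : zP (pt 23) = pt 0 := by rw [decode_pt zc_valid (by norm_num)]; congr 1
theorem z0 : zP (pt 0) = pt 23 := by rw [decode_pt zc_valid (by norm_num)]; congr 1
theorem z_inv : zP⁻¹ = zP := by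
  rw [inv_eq_iff_mul_eq_one]
  exact eq_of_eqC (rep_zP.mul rep_zP) rep_one (by decide +kernel)

theorem z_conj (g : Equiv.Perm GolayPt) (hg : g ∈ M22) : zP * g * zP⁻¹ ∈ M22 := by
  obtain ⟨h1, h2, h3⟩ := mem_M22_iff.mp hg
  rw [mem_M22_iff, z_inv]
  refine ⟨M24.mul_mem (M24.mul_mem zP_M24 h1) zP_M24, ?_, ?_⟩
  · simp only [Equiv.Perm.mul_apply]
    rw [z23, h3, z0]
  · simp only [Equiv.Perm.mul_apply]
    rw [z0, h2, z23]

/-- The outer automorphism group of the Mathieu group M₂₂ (the permutations in the automorphism group of the length-24 binary code that fix each of two given points) has order 2. -/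
theorem result : Nat.card (Cfsg.Out ↥Cfsg.Spor.M22) = 2 := by
  refine card_out_eq_two M22_le fP_M22 wP_M22 z_conj ?_ main ?_
  · intro g hg
    have := z_conj g hg
    rwa [z_inv] at this ⊢
  · intro g hg b h
    have hf23 : fP (pt 23) = pt 23 := by rw [decode_pt fc_valid (by norm_num)]; congr 1
    have hfb' : ∀ b : ℕ, (fP ^ b) (pt 23) = pt 23 := by
      intro b
      induction b with
      | zero => simp
      | succ b ih => rw [pow_succ, Equiv.Perm.mul_apply, hf23, ih]
    have hfb := hfb' b
    have h1 := congrArg (fun x : Equiv.Perm GolayPt => x (pt 23)) h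
    simp only [Equiv.Perm.mul_apply, hfb, z23, (mem_M22_iff.mp hg).2.1] at h1
    have h2 := congrArg idx h1
    rw [idx_pt (by norm_num), idx_pt (by norm_num)] at h2
    omega

end Cfsg.Agent.S2062
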