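import Mathlib
import Cfsg.Statements.S2065
import Cfsg.Agent.Lib.J1Local

set_option autoImplicit false

namespace Cfsg.Agent.S2065

open Cfsg Cfsg.Spor Cfsg.Agent.Lib.J1Mat Cfsg.Agent.Lib.J1CData Cfsg.Agent.Lib.J1Local Cfsg.Agent.Lib.J1CCore

/-- Table of conjugating elements. -/
def wBig : Nat := 8347777442424647739891689793131403830396014589790738089597386173559692586547517871825089455730204887832389932750757827069883302656726208149407509304838835624093752570458513229084303720001800527001745405575861777816981771036060475661877775735780650805312692476634869065675711809918112992421290306134091454913922811757508533968609444423732915007262632027039005212579954048504009334100293437412332473312830060753007624390105929744169493441466462827937685041932950950800374019142052335313341442847112508958140775978888389510311962169801049029761244482721680057980447082328994885090909679920188175615599139179329646932882537685043618038067884626628865471901742215623316544624186199968036571634206671387273199057431771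091686512654381011298698069999603736634821662143381753617551521462108443349101609319084657922415702345233656756184791132668597273733447226301925990379865413703816746271093550717213869929449187137084672938917930744446247956734145949476979261755543842807390806237195584490320720266257892363455892925338732592388634279549644794296656407425448723849786372237618178125139701052917279784519357091002343215821617384477095857452222954468589063966904286472748522625600401549189124250533144041814012152797085610485213938682064688290265189415039088978430254626016498415735714981007688830953103808173419980458266534728312122023807104679366559751797577669302413835940886198216367177409855295830713881515442017602459424164400027792947497281382755351483635054661679042732200757754090381685454146311342526331322821215155638189052852035841431010264415951368118599056859580625952803144527240909763842168985756060550406362599754826916008258985454133093421598596751829448616247640378860728103035897017906545594723911571397836183601734461552042723680149795231221359718104237511339321253100390945070031231249319747741298523778253192366389658098276216242099350501442658005782035243511199860639225859743578163930652389666568721378998592094958088389987801338856676344298427178546681460038825566824494850522562798443172362183217319510015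

def wT (i k : Nat) : Nat := fld wBig 8 255 (Nat.add (Nat.mul i 120) k)

/-- The indices of the monomial elements of the centraliser list. -/
def isL (k : Nat) : Bool := or (Nat.blt k 20) (and (Nat.ble 116 k) (Nat.blt k 120))

theorem isL_lt {k : Nat} (h : isL k = true) : k < 120 := by
  simp only [isL, Bool.or_eq_true, Bool.and_eq_true, Nat.blt_eq, Nat.ble_eq] at h
  omega

/-- conjugation -/
def cj (A B : M7) : M7 := mm (mm A B) (tr A)

theorem rep_cj {g h : ↥J1} {A B : M7} (hg : Rep g A) (hh : Rep h B) : Rep (g * h * g⁻¹) (cj A B) :=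
  (hg.mul hh).mul hg.inv

def chkL (k : Nat) : Bool :=
  impB (eqM (mm (cj (Hm k) (Hm 117)) (Hm 117)) (mm (Hm 117) (cj (Hm k) (Hm 117)))) (isL k)

theorem chkL_ok : allR (guard120 chkL) 7 0 = true := by decide +kernel

/-- The elements of the list with index in `isL` normalise `E0`. -/
def chkN (i k : Nat) : Bool :=
  impB (isL k) (and (eqM (mm (cj (Hm k) (Hm (aIdx i))) (Hm 117)) (mm (Hm 117) (cj (Hm k) (Hm (aIdx i)))))
    (eqM (mm (cj (Hm k) (Hm (aIdx i))) t7) (mm t7 (cj (Hm k) (Hm (aIdx i))))))

/-- A loop over pairs. -/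
def allPairs (P : Nat → Nat → Bool) : Bool :=
  allR (fun i => or (Nat.ble 7 i) (allR (guard120 (P i)) 7 0)) 3 0

theorem allPairs_spec {P : Nat → Nat → Bool} (h : allPairs P = true) {i k : Nat} (hi : i < 7) (hk : k < 120) :
    P i k = true := by
  have h1 : or (Nat.ble 7 i) (allR (guard120 (P i)) 7 0) = true :=
    allR_spec _ _ _ h i (Nat.zero_le _) (by norm_num; omega)
  have h2 : Nat.ble 7 i = false := by
    rw [Bool.eq_false_iff]; intro hh; exact absurd (Nat.le_of_ble_eq_true hh) (by omega)
  rw [h2, Bool.false_or] at h1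
  exact guard120_spec h1 hk

theorem chkN_ok : allPairs chkN = true := by decide +kernel

/-- The relation characterising the conjugates of `X` in the normaliser. -/
def relB (G : M7) : Bool :=
  eqM (cj (mm G (mm G G)) t7) (mm t7 (cj G t7))

def chkD (i k : Nat) : Bool :=
  impB (isL k) (impB (relB (mm (Xp i) (Hm k)))
    (and (eqM (mm (mm (Xp i) (Hm k)) (Hm (wT i k))) (mm (Hm (wT i k)) X7)) (isL (wT i k))))

theorem chkD_ok : allPairs chkD = true := by decide +kernel

/-- Only the identity commutes with `X` in the centraliser list. -/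
def chkF (k : Nat) : Bool := impB (eqM (mm (Hm k) X7) (mm X7 (Hm k))) (Nat.beq k 16)

theorem chkF_ok : allR (guard120 chkF) 7 0 = true := by decide +kernel

def ord2 (A : M7) : Bool := eqM (mm A A) I7
def ord3 (A : M7) : Bool := eqM (mm A (mm A A)) I7
def ord5 (A : M7) : Bool := eqM (mm A (mm (mm A A) (mm A A))) I7

def chkU (k : Nat) : Bool :=
  impB (and (ord2 (mm (Hm k) (Hm 8))) (and (ord3 (mm (Hm k) (Hm 0))) (and (ord2 (mm (Hm k) (Hm 1)))
    (ord5 (mm (Hm k) (Hm 5)))))) (Nat.beq k 37)

theorem chkU_ok : allR (guard120 chkU) 7 0 = true := by decide +kernel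

/-- the order 3 element -/
noncomputable def fJ : ↥J1 := hEl 8
/-- the element outside the normaliser -/
noncomputable def uJ : ↥J1 := hEl 37

theorem rep_f : Rep fJ (Hm 8) := rep_hEl 8
theorem rep_u : Rep uJ (Hm 37) := rep_hEl 37

theorem f_conj : fJ * XJ * fJ⁻¹ = XJ * XJ :=
  (rep_cj rep_f rep_X).ext (rep_X.mul rep_X) (by decide +kernel)

theorem Y_word : YJ = uJ⁻¹ * XJ * XJ * tJ * uJ * XJ⁻¹ * uJ⁻¹ * XJ * fJ :=
  rep_Y.ext (((((((((rep_u.inv.mul rep_X).mul rep_X).mul rep_t).mul rep_u).mul rep_X.inv).mul rep_u.inv).mul rep_X).mul rep_f))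
    (by decide +kernel)

theorem u_rel2 : (uJ * fJ) * (uJ * fJ) = 1 :=
  ((rep_u.mul rep_f).mul (rep_u.mul rep_f)).ext rep_one (by decide +kernel)

theorem u_rel3 : (uJ * (fJ * fJ)) * ((uJ * (fJ * fJ)) * (uJ * (fJ * fJ))) = 1 :=
  ((rep_u.mul (rep_f.mul rep_f)).mul ((rep_u.mul (rep_f.mul rep_f)).mul (rep_u.mul (rep_f.mul rep_f)))).ext rep_one (by decide +kernel)

theorem u_rel4 : (uJ * (aJ 5 * (fJ * fJ))) * (uJ * (aJ 5 * (fJ * fJ))) = 1 :=
  ((rep_u.mul ((rep_aJ (i := 5) (by norm_num)).mul (rep_f.mul rep_f))).mul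
    (rep_u.mul ((rep_aJ (i := 5) (by norm_num)).mul (rep_f.mul rep_f)))).ext rep_one (by decide +kernel)

theorem u_rel5 : let w := uJ * (aJ 1 * (fJ * fJ)); w * ((w * w) * (w * w)) = 1 := by
  have hw := rep_u.mul ((rep_aJ (i := 1) (by norm_num)).mul (rep_f.mul rep_f))
  exact (hw.mul ((hw.mul hw).mul (hw.mul hw))).ext rep_one (by decide +kernel)

theorem rep_H0 : Rep (fJ * fJ) (Hm 0) := (rep_f.mul rep_f).congr (by decide +kernel)
theorem rep_H1 : Rep (aJ 5 * (fJ * fJ)) (Hm 1) :=
  ((rep_aJ (i := 5) (by norm_num)).mul (rep_f.mul rep_f)).congr (by decide +kernel)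
theorem rep_H5 : Rep (aJ 1 * (fJ * fJ)) (Hm 5) :=
  ((rep_aJ (i := 1) (by norm_num)).mul (rep_f.mul rep_f)).congr (by decide +kernel)

/-- An automorphism fixing `X` and `t` is trivial. -/
theorem eq_one_of_fix (α : MulAut ↥J1) (hX : α XJ = XJ) (ht : α tJ = tJ) : α = 1 := by
  have ha : ∀ i, α (aJ i) = aJ i := by
    intro i
    simp only [aJ, map_mul, map_inv, map_pow, hX, ht]
  -- the element `f`
  have hf : α fJ = fJ := by
    have h1 : α fJ * tJ = tJ * α fJ := by
      have := commute_t_of_rep (by norm_num) rep_f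
      have h2 := congrArg α this
      simpa only [map_mul, ht] using h2
    have h2 : α fJ * XJ * (α fJ)⁻¹ = XJ * XJ := by
      have := congrArg α f_conj
      simpa only [map_mul, map_inv, hX] using this
    have h3 : (fJ⁻¹ * α fJ) * tJ = tJ * (fJ⁻¹ * α fJ) := by
      have h4 := commute_t_of_rep (g := fJ) (by norm_num) rep_f
      calc (fJ⁻¹ * α fJ) * tJ = fJ⁻¹ * (α fJ * tJ) := by group
        _ = fJ⁻¹ * (tJ * α fJ) := by rw [h1]
        _ = (fJ⁻¹ * tJ) * α fJ := by group
        _ = (tJ * fJ⁻¹) * α fJ := by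
            have h4' : Commute fJ tJ := h4
            rw [(Commute.inv_left h4').eq]
        _ = tJ * (fJ⁻¹ * α fJ) := by group
    obtain ⟨k, hk, hr⟩ := exists_rep_of_commute h3
    have h5 : (fJ⁻¹ * α fJ) * XJ = XJ * (fJ⁻¹ * α fJ) := by
      have h6 : fJ * XJ = XJ * XJ * fJ := by
        rw [← f_conj]; group
      have h7 : α fJ * XJ = XJ * XJ * α fJ := by
        rw [← h2]; group
      calc (fJ⁻¹ * α fJ) * XJ = fJ⁻¹ * (α fJ * XJ) := by group
        _ = fJ⁻¹ * (XJ * XJ * α fJ) := by rw [h7]
        _ = fJ⁻¹ * (XJ * XJ) * α fJ := by group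
        _ = (XJ * fJ⁻¹) * α fJ := by
            congr 1
            rw [← f_conj]; group
        _ = XJ * (fJ⁻¹ * α fJ) := by group
    have h8 := impB_spec (guard120_spec chkF_ok hk)
      (((hr.mul rep_X)).uniq (by rw [h5]; exact rep_X.mul hr))
    have h9 : k = 16 := Nat.eq_of_beq_eq_true h8
    subst h9
    have h10 : fJ⁻¹ * α fJ = 1 := hr.ext rep_one (by decide +kernel)
    rw [inv_mul_eq_one] at h10
    exact h10.symm
  -- the element `u`
  have hu : α uJ = uJ := by
    have h1 : α uJ * tJ = tJ * α uJ := by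
      have := commute_t_of_rep (g := uJ) (by norm_num) rep_u
      have h2 := congrArg α this
      simpa only [map_mul, ht] using h2
    obtain ⟨k, hk, hr⟩ := exists_rep_of_commute h1
    have r2 : (α uJ * fJ) * (α uJ * fJ) = 1 := by
      have := congrArg α u_rel2
      simpa only [map_mul, hf, map_one] using this
    have r3 : (α uJ * (fJ * fJ)) * ((α uJ * (fJ * fJ)) * (α uJ * (fJ * fJ))) = 1 := by
      have := congrArg α u_rel3
      simpa only [map_mul, hf, map_one] using this
    have r4 : (α uJ * (aJ 5 * (fJ * fJ))) * (α uJ * (aJ 5 * (fJ * fJ))) = 1 := by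
      have := congrArg α u_rel4
      simpa only [map_mul, hf, ha, map_one] using this
    have r5 : (α uJ * (aJ 1 * (fJ * fJ))) * (((α uJ * (aJ 1 * (fJ * fJ))) * (α uJ * (aJ 1 * (fJ * fJ)))) *
        ((α uJ * (aJ 1 * (fJ * fJ))) * (α uJ * (aJ 1 * (fJ * fJ))))) = 1 := by
      have := congrArg α u_rel5
      simpa only [map_mul, hf, ha, map_one] using this
    have b2 : ord2 (mm (Hm k) (Hm 8)) = true := by
      have hw := hr.mul rep_f
      have := hw.mul hw
      rw [r2] at this
      exact this.uniq rep_one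
    have b3 : ord3 (mm (Hm k) (Hm 0)) = true := by
      have hw := hr.mul rep_H0
      have := hw.mul (hw.mul hw)
      rw [r3] at this
      exact this.uniq rep_one
    have b4 : ord2 (mm (Hm k) (Hm 1)) = true := by
      have hw := hr.mul rep_H1
      have := hw.mul hw
      rw [r4] at this
      exact this.uniq rep_one
    have b5 : ord5 (mm (Hm k) (Hm 5)) = true := by
      have hw := hr.mul rep_H5
      have := hw.mul ((hw.mul hw).mul (hw.mul hw))
      rw [r5] at this
      exact this.uniq rep_one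
    have h8 := impB_spec (guard120_spec chkU_ok hk) (by
      simp only [Bool.and_eq_true]; exact ⟨b2, b3, b4, b5⟩)
    have h9 : k = 37 := Nat.eq_of_beq_eq_true h8
    subst h9
    exact mat_inj (hr.trans rep_u.symm)
  have hY : α YJ = YJ := by
    rw [Y_word]
    simp only [map_mul, map_inv, hX, ht, hf, hu]
  ext1 g
  simp only [MulAut.one_apply]
  refine J1_induction (fun g => α g = g) (map_one _) hX hY ?_ ?_ g
  · intro a b h1 h2
    simp only [map_mul, h1, h2]
  · intro a h1
    simp only [map_inv, h1]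

theorem tJ_ne_one : tJ ≠ 1 := by
  intro h
  have := orderOf_tJ
  rw [h, orderOf_one] at this
  norm_num at this

/-- Normalising `E0`. -/
def Normalizes (n : ↥J1) : Prop := ∀ x ∈ E0, n * x * n⁻¹ ∈ E0

theorem Normalizes.inv {n : ↥J1} (h : Normalizes n) : Normalizes n⁻¹ := by
  haveI : Finite ↥J1 := Nat.finite_of_card_ne_zero (by rw [card_J1]; norm_num)
  let φ : E0 → E0 := fun x => ⟨n * x.1 * n⁻¹, h x.1 x.2⟩
  have hφ : Function.Injective φ := by
    intro x y hxy
    have := congrArg Subtype.val hxy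
    simp only [φ] at this
    apply Subtype.ext
    have h2 : n * x.1 = n * y.1 := mul_right_cancel this
    exact mul_left_cancel h2
  have hs := Finite.surjective_of_injective hφ
  intro x hx
  obtain ⟨y, hy⟩ := hs ⟨x, hx⟩
  have h1 : n * y.1 * n⁻¹ = x := congrArg Subtype.val hy
  have h2 : n⁻¹ * x * n⁻¹⁻¹ = y.1 := by
    rw [← h1]; group
  rw [h2]
  exact y.2

theorem Normalizes.mul {n m : ↥J1} (hn : Normalizes n) (hm : Normalizes m) : Normalizes (n * m) := by
  intro x hx
  have := hn _ (hm x hx)
  simpa [mul_assoc] using this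

theorem normalizes_X : Normalizes XJ := by
  intro x hx
  rcases mem_E0_list hx with rfl | ⟨i, hi, rfl⟩
  · simp [E0.one_mem]
  rw [aJ_succ]
  by_cases h : i + 1 < 7
  · exact aJ_mem_E0 h
  · have : i + 1 = 0 + 7 := by omega
    rw [this, aJ_add_seven]
    exact aJ_mem_E0 (by norm_num)

theorem normalizes_Xp (i : ℕ) : Normalizes (XJ ^ i) := by
  induction i with
  | zero =>
    intro x hx
    simpa using hx
  | succ i ih =>
    rw [pow_succ]
    exact ih.mul normalizes_X

/-- conjugating the `aJ`. -/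
theorem aJ_add (n i : ℕ) : aJ (n + i) = XJ ^ n * aJ i * (XJ ^ n)⁻¹ := by
  simp only [aJ, pow_add]; group

/-- The relation for all `aJ`. -/
theorem rel_aJ (j : ℕ) : XJ ^ 3 * aJ j * (XJ ^ 3)⁻¹ = aJ j * (XJ * aJ j * XJ⁻¹) := by
  have h1 : aJ (j + 3) = aJ j * aJ (j + 1) := by
    have h2 := aJ_add j 3
    rw [← rel_a3] at h2
    have h3 := aJ_add j 0
    have h4 := aJ_add j 1
    rw [add_zero] at h3
    rw [h2]
    calc XJ ^ j * (aJ 0 * aJ 1) * (XJ ^ j)⁻¹ = (XJ ^ j * aJ 0 * (XJ ^ j)⁻¹) * (XJ ^ j * aJ 1 * (XJ ^ j)⁻¹) := by group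
      _ = aJ j * aJ (j + 1) := by rw [← h3, ← h4]
  have h5 : aJ (3 + j) = aJ (j + 3) := by rw [add_comm]
  rw [aJ_succ, ← h1, ← aJ_add 3 j, h5]

/-- Elements normalising `E0` up to the list. -/
theorem exists_decomp_of_normalizes {g : ↥J1} (hg : Normalizes g) :
    ∃ i k, i < 7 ∧ k < 120 ∧ isL k = true ∧ Rep g (mm (Xp i) (Hm k)) := by
  have h1 : g * tJ * g⁻¹ ∈ E0 := hg tJ (by rw [← aJ_zero]; exact aJ_mem_E0 (by norm_num))
  rcases mem_E0_list h1 with h2 | ⟨i, hi, h2⟩
  · exfalso
    have : tJ = 1 := by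
      have h3 : g * tJ = g := by rwa [mul_inv_eq_one] at h2
      simpa using h3
    exact tJ_ne_one this
  set h := (XJ ^ i)⁻¹ * g with hh
  have hgh : g = XJ ^ i * h := by rw [hh]; group
  have h3 : h * tJ = tJ * h := by
    have h4 : h * tJ * h⁻¹ = tJ := by
      rw [hh]
      calc (XJ ^ i)⁻¹ * g * tJ * ((XJ ^ i)⁻¹ * g)⁻¹ = (XJ ^ i)⁻¹ * (g * tJ * g⁻¹) * XJ ^ i := by group
        _ = (XJ ^ i)⁻¹ * aJ i * XJ ^ i := by rw [h2]
        _ = tJ := by simp only [aJ]; group
    rw [mul_inv_eq_iff_eq_mul] at h4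
    exact h4
  obtain ⟨k, hk, hr⟩ := exists_rep_of_commute h3
  refine ⟨i, k, hi, hk, ?_, ?_⟩
  · have hnorm : Normalizes h := (normalizes_Xp i).inv.mul hg
    have ha1 := rep_aJ (i := 1) (by norm_num)
    have h5 : h * aJ 1 * h⁻¹ ∈ E0 := hnorm _ (aJ_mem_E0 (by norm_num))
    have h6 := E0_comm h5 (aJ_mem_E0 (i := 1) (by norm_num))
    have h7 : Rep (h * aJ 1 * h⁻¹) (cj (Hm k) (Hm 117)) := rep_cj hr ha1
    refine impB_spec (guard120_spec chkL_ok hk) ?_
    have h8 := h7.mul ha1
    have h9 := ha1.mul h7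
    rw [← h6] at h9
    exact h8.uniq h9
  · rw [hgh]
    exact (rep_Xp i).mul hr

theorem normalizes_of_isL {n : ↥J1} {k : ℕ} (hk : isL k = true) (hn : Rep n (Hm k)) : Normalizes n := by
  intro x hx
  rcases mem_E0_list hx with rfl | ⟨i, hi, rfl⟩
  · simp [E0.one_mem]
  have h1 := allPairs_spec chkN_ok hi (isL_lt hk)
  have h2 := impB_spec h1 hk
  simp only [Bool.and_eq_true] at h2
  have h3 := rep_cj hn (rep_aJ hi)
  have ha1 := rep_aJ (i := 1) (by norm_num)
  rw [mem_E0_iff]
  exact ⟨(h3.mul rep_t).ext (rep_t.mul h3) h2.2, (h3.mul ha1).ext (ha1.mul h3) h2.1⟩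

/-- Automorphism fixing `X` and preserving `E0`. -/
theorem inner_of_X_E0 (α : MulAut ↥J1) (hX : α XJ = XJ) (hE : ∀ x ∈ E0, α x ∈ E0) : α ∈ Inn ↥J1 := by
  have ht : α tJ ∈ E0 := hE tJ (by rw [← aJ_zero]; exact aJ_mem_E0 (by norm_num))
  rcases mem_E0_list ht with h2 | ⟨i, hi, h2⟩
  · exfalso
    have : tJ = 1 := by
      have := (map_eq_one_iff α α.injective).mp h2
      exact this
    exact tJ_ne_one this
  have h3 : MulAut.conj (XJ ^ i)⁻¹ * α = 1 := by
    apply eq_one_of_fix
    · simp only [MulAut.mul_apply, MulAut.conj_apply, hX]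
      group
    · simp only [MulAut.mul_apply, MulAut.conj_apply, h2, aJ]
      group
  have h4 : α = (MulAut.conj (XJ ^ i)⁻¹)⁻¹ := eq_inv_of_mul_eq_one_right h3
  have h5 : MulAut.conj (XJ ^ i)⁻¹ ∈ Inn ↥J1 := ⟨_, rfl⟩
  rw [h4]
  exact Subgroup.inv_mem _ h5

/-- Automorphism preserving `E0`. -/
theorem inner_of_E0 (α : MulAut ↥J1) (hE : ∀ x ∈ E0, α x ∈ E0) : α ∈ Inn ↥J1 := by
  haveI : Finite ↥J1 := Nat.finite_of_card_ne_zero (by rw [card_J1]; norm_num)
  -- `α` is onto on `E0`
  let φ : E0 → E0 := fun x => ⟨α x.1, hE x.1 x.2⟩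
  have hφ : Function.Injective φ := by
    intro x y hxy
    exact Subtype.ext (α.injective (congrArg Subtype.val hxy))
  have hs := Finite.surjective_of_injective hφ
  have hpre : ∀ x ∈ E0, ∃ y ∈ E0, α y = x := by
    intro x hx
    obtain ⟨y, hy⟩ := hs ⟨x, hx⟩
    exact ⟨y.1, y.2, congrArg Subtype.val hy⟩
  -- the image of `X` normalises `E0`
  have hN : Normalizes (α XJ) := by
    intro x hx
    obtain ⟨y, hy, rfl⟩ := hpre x hx
    have := hE _ (normalizes_X y hy)
    simpa only [map_mul, map_inv] using this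
  obtain ⟨i, k, hi, hk, hL, hr⟩ := exists_decomp_of_normalizes hN
  -- the relation
  have hrel : relB (mm (Xp i) (Hm k)) = true := by
    obtain ⟨y, hy, hyt⟩ := hpre tJ (by rw [← aJ_zero]; exact aJ_mem_E0 (by norm_num))
    rcases mem_E0_list hy with rfl | ⟨j, _, rfl⟩
    · exfalso
      rw [map_one] at hyt
      exact tJ_ne_one hyt.symm
    have h1 := congrArg α (rel_aJ j)
    simp only [map_mul, map_inv, map_pow, hyt] at h1
    have h2 : Rep ((α XJ * (α XJ * α XJ)) * tJ * (α XJ * (α XJ * α XJ))⁻¹)
        (cj (mm (mm (Xp i) (Hm k)) (mm (mm (Xp i) (Hm k)) (mm (Xp i) (Hm k)))) t7) :=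
      rep_cj (hr.mul (hr.mul hr)) rep_t
    have h3 := rep_t.mul (rep_cj hr rep_t)
    have h4 : α XJ * (α XJ * α XJ) = α XJ ^ 3 := by rw [pow_succ', pow_two]
    rw [h4, h1] at h2
    exact h2.uniq h3
  have hD := impB_spec (impB_spec (allPairs_spec chkD_ok hi hk) hL) hrel
  simp only [Bool.and_eq_true] at hD
  obtain ⟨hD1, hD2⟩ := hD
  obtain ⟨n, hn⟩ := exists_of_lt (isL_lt hD2)
  have hgn : α XJ * n = n * XJ := (hr.mul hn).ext (hn.mul rep_X) hD1
  have hNn : Normalizes n := normalizes_of_isL hD2 hn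
  have h3 : MulAut.conj n⁻¹ * α ∈ Inn ↥J1 := by
    apply inner_of_X_E0
    · simp only [MulAut.mul_apply, MulAut.conj_apply, inv_inv]
      rw [mul_assoc, hgn]
      group
    · intro x hx
      simp only [MulAut.mul_apply, MulAut.conj_apply]
      exact hNn.inv _ (hE x hx)
  have h5 : MulAut.conj n⁻¹ ∈ Inn ↥J1 := ⟨_, rfl⟩
  exact (Subgroup.mul_mem_cancel_left _ h5).mp h3

/-- The 2-part of the group order. -/
theorem factorization_two : (Nat.card ↥J1).factorization 2 = 3 := by
  rw [card_J1]
  have hp : Nat.Prime 2 := by norm_num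
  apply le_antisymm
  · by_contra h
    have h1 : 4 ≤ (175560 : ℕ).factorization 2 := by omega
    have h2 := (hp.pow_dvd_iff_le_factorization (by norm_num)).mpr h1
    norm_num at h2
  · exact (hp.pow_dvd_iff_le_factorization (by norm_num)).mp (by norm_num)

theorem exists_conj_E0 (α : MulAut ↥J1) : ∃ c : ↥J1, ∀ x ∈ E0, c * α x * c⁻¹ ∈ E0 := by
  haveI : Finite ↥J1 := Nat.finite_of_card_ne_zero (by rw [card_J1]; norm_num)
  haveI : Fact (Nat.Prime 2) := ⟨by norm_num⟩
  have hc : Nat.card E0 = 2 ^ (Nat.card ↥J1).factorization 2 := by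
    rw [factorization_two, card_E0]; norm_num
  have hc' : Nat.card (E0.map α.toMonoidHom) = 2 ^ (Nat.card ↥J1).factorization 2 := by
    rw [← hc]
    exact Subgroup.card_map_of_injective α.injective
  let P : Sylow 2 ↥J1 := Sylow.ofCard E0 hc
  let Q : Sylow 2 ↥J1 := Sylow.ofCard (E0.map α.toMonoidHom) hc'
  obtain ⟨c, hcQ⟩ := MulAction.exists_smul_eq ↥J1 Q P
  refine ⟨c, fun x hx => ?_⟩
  have h1 : α x ∈ (Q : Subgroup ↥J1) := ⟨x, hx, rfl⟩
  have h2 : c * α x * c⁻¹ ∈ ((c • Q : Sylow 2 ↥J1) : Subgroup ↥J1) := by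
    rw [Sylow.coe_subgroup_smul]
    exact Subgroup.smul_mem_pointwise_smul _ (MulAut.conj c) _ h1
  rw [hcQ] at h2
  exact h2

/-- Every automorphism is inner. -/
theorem all_inner (α : MulAut ↥J1) : α ∈ Inn ↥J1 := by
  obtain ⟨c, hc⟩ := exists_conj_E0 α
  have h3 : MulAut.conj c * α ∈ Inn ↥J1 := by
    apply inner_of_E0
    intro x hx
    simp only [MulAut.mul_apply, MulAut.conj_apply]
    exact hc x hx
  have h5 : MulAut.conj c ∈ Inn ↥J1 := ⟨_, rfl⟩
  exact (Subgroup.mul_mem_cancel_left _ h5).mp h3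

/-- The outer automorphism group of the Janko group J₁ (the group generated by two explicit 7 × 7 matrices over the integers modulo 11) is trivial: every automorphism is inner. -/
theorem result : Nat.card (Cfsg.Out ↥Cfsg.Spor.J1) = 1 := by
  have h : Inn ↥J1 = ⊤ := by
    rw [eq_top_iff]
    intro α _
    exact all_inner α
  have h2 : (Inn ↥J1).index = 1 := by rw [h]; exact Subgroup.index_top
  exact h2

end Cfsg.Agent.S2065
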