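import Cfsg.Statements.S2072
import Mathlib
import Cfsg.Agent.S1666
import Cfsg.Agent.Lib.OutHS

set_option autoImplicit false
open Cfsg

namespace Cfsg.Agent.S2072

open Cfsg.Agent.Lib.CoConf Cfsg.Agent.Lib.RankHS MulAction Cfsg.Agent.S1666

set_option linter.style.haveILetI false


/-- The outer automorphism group of the Higman–Sims group (as a two-vector stabiliser in the automorphism group of the rank-24 lattice) has order 2. -/
theorem result : Nat.card (Cfsg.Out ↥Cfsg.Spor.HS) = 2 := by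
  classical
  let A : List (LL × ℤ) := [(wS, -24), (vS, 24)]
  have hK1 : ∀ k ∈ stb vS ⊓ stb wS, ∀ p ∈ A, k • p.1 = p.1 := by
    intro k hk p hp
    simp only [A, List.mem_cons, List.not_mem_nil, or_false] at hp
    rcases hp with rfl | rfl
    · exact hk.2
    · exact hk.1
  have hK2 : ∀ k : Co0, (∀ p ∈ A, k • p.1 = p.1) → k ∈ stb vS ⊓ stb wS := by
    intro k hk
    exact ⟨hk (vS, 24) (by simp [A]), hk (wS, -24) (by simp [A])⟩
  letI := dsAct hK1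
  have hfin : Finite (DS A) := (finite_DS A).to_subtype
  letI : Fintype (DS A) := Fintype.ofFinite _
  have hN : (DS A).ncard = 100 := ncard_100 vS wS norm_vS norm_wS dot_vS_wS
  have hcard : Fintype.card (DS A) = 100 := by
    rw [← Nat.card_eq_fintype_card, Nat.card_coe_set_eq, hN]
  haveI : IsPretransitive ↥(stb vS ⊓ stb wS) (DS A) := ⟨by
    intro x y
    obtain ⟨k, hk, e⟩ := transOn_100' vS wS norm_vS norm_wS dot_vS_wS x.1 x.2 y.1 y.2
    exact ⟨⟨k, hK2 k hk⟩, Subtype.ext e⟩⟩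
  obtain ⟨x₀, hx₀⟩ : (DS A).Nonempty := Set.nonempty_of_ncard_ne_zero (by rw [hN]; norm_num)
  have hR := rank_hs vS wS x₀ norm_vS norm_wS dot_vS_wS hx₀
  have h8 : (DS ((x₀, 8) :: A)).ncard = 22 := by simpa using hR.1 8 (by decide)
  have h16 : (DS ((x₀, 16) :: A)).ncard = 77 := by simpa using hR.1 16 (by decide)
  obtain ⟨b₀, hb₀⟩ : (DS ((x₀, 8) :: A)).Nonempty := Set.nonempty_of_ncard_ne_zero (by rw [h8]; norm_num)
  obtain ⟨c₀, hc₀⟩ : (DS ((x₀, 16) :: A)).Nonempty := Set.nonempty_of_ncard_ne_zero (by rw [h16]; norm_num)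
  obtain ⟨hb1, hb2⟩ := mem_DS_cons.1 hb₀
  obtain ⟨hc1, hc2⟩ := mem_DS_cons.1 hc₀
  have hD₂ : Data ↥(stb vS ⊓ stb wS) (⟨x₀, hx₀⟩ : DS A) ⟨b₀, hb1⟩ ⟨c₀, hc1⟩ := by
    refine ⟨hcard, ?_, ?_⟩
    · rw [orbit_ncard' hK1 hK2 ⟨x₀, hx₀⟩ ⟨b₀, hb1⟩ hb2 (hR.2.1 8 (by decide) (by norm_num)), h8]
    · rw [orbit_ncard' hK1 hK2 ⟨x₀, hx₀⟩ ⟨c₀, hc1⟩ hc2 (hR.2.1 16 (by decide) (by norm_num)), h16]
  haveI : FaithfulSMul ↥(stb vS ⊓ stb wS) (DS A) := by
    haveI := hs_simple vS wS norm_vS norm_wS dot_vS_wS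
    let ρ := MulAction.toPermHom ↥(stb vS ⊓ stb wS) (DS A)
    rcases IsSimpleGroup.eq_bot_or_eq_top_of_normal ρ.ker ρ.normal_ker with h | h
    · refine ⟨fun {k₁ k₂} hk => ?_⟩
      apply (MonoidHom.ker_eq_bot_iff ρ).1 h
      apply Equiv.ext
      intro y
      exact hk y
    · exfalso
      obtain ⟨k, hk⟩ := MulAction.exists_smul_eq ↥(stb vS ⊓ stb wS) (⟨x₀, hx₀⟩ : DS A) ⟨b₀, hb1⟩
      have hk1 : k ∈ ρ.ker := by
        rw [h]
        trivial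
      have hk2 : ρ k = 1 := hk1
      have hk3 : ρ k (⟨x₀, hx₀⟩ : DS A) = ⟨x₀, hx₀⟩ := by
        rw [hk2]
        rfl
      have hk4 : (⟨b₀, hb1⟩ : DS A) = ⟨x₀, hx₀⟩ := hk.symm.trans hk3
      have hk5 : b₀ = x₀ := congrArg Subtype.val hk4
      rw [hk5, dot_self, hx₀.1] at hb2
      norm_num at hb2
  rw [Cfsg.Agent.Lib.OutHat.card_out_congr hsEquiv]
  exact Cfsg.Agent.Lib.OutHS.card_out hD₂ (card_hs vS wS norm_vS norm_wS dot_vS_wS)

end Cfsg.Agent.S2072
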