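-- Statement S2076: the outer automorphism group of the Lyons group is trivial.
import Cfsg.Statements.S2076
import Cfsg.Agent.Lib.LyOut.Main

set_option autoImplicit false
open Cfsg

namespace Cfsg.Agent.S2076

/-- The outer automorphism group of the Lyons group (the finitely presented group of the definitions) is trivial: every automorphism is inner. -/
theorem result : Nat.card (Cfsg.Out Cfsg.Spor.Ly) = 1 := by
  show (Cfsg.Inn Cfsg.Spor.Ly).index = 1
  rw [Subgroup.index_eq_one, eq_top_iff]
  intro α _
  obtain ⟨g, hg⟩ := Cfsg.Agent.Lib.LyOut.aut_inner α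
  refine ⟨g⁻¹, ?_⟩
  have e : α = (MulAut.conj g)⁻¹ := eq_inv_of_mul_eq_one_right hg
  rw [e, map_inv]

end Cfsg.Agent.S2076
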