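import Mathlib
import Cfsg.Statements.S2131
import Cfsg.Agent.Lib.J1CCore

set_option autoImplicit false
open Cfsg

namespace Cfsg.Agent.S2131

open Cfsg.Agent.Lib.J1Mat Cfsg.Agent.Lib.J1CData Cfsg.Agent.Lib.J1CCore Cfsg.Spor

/-- Build a homomorphism from a multiplication table given on generators. -/
theorem exists_hom_of_table {G K : Type*} [Group G] [Group K] {n : ℕ} (gs : Fin n → G)
    (hgs : Function.Bijective gs) (ks : Fin n → K) (i₀ : Fin n) (hg0 : gs i₀ = 1) (hk0 : ks i₀ = 1)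
    (S : Set G) (hS : Subgroup.closure S = ⊤)
    (hstep : ∀ s ∈ S, ∃ κ : K, ∀ i, ∃ j, s * gs i = gs j ∧ κ * ks i = ks j) :
    ∃ f : G →* K, ∀ i, f (gs i) = ks i := by
  let e := Equiv.ofBijective gs hgs
  let F : G → K := fun g => ks (e.symm g)
  have hF : ∀ i, F (gs i) = ks i := by
    intro i
    simp only [F]
    congr 1
    exact e.symm_apply_apply i
  have hsurj : ∀ g, ∃ i, gs i = g := hgs.2
  have hF1 : F 1 = 1 := by rw [← hg0, hF, hk0]
  have hQ : ∀ w : G, ∃ κ : K, ∀ x, F (w * x) = κ * F x := by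
    intro w
    have hw : w ∈ Subgroup.closure S := by rw [hS]; trivial
    induction hw using Subgroup.closure_induction with
    | mem s hs =>
      obtain ⟨κ, hκ⟩ := hstep s hs
      refine ⟨κ, fun x => ?_⟩
      obtain ⟨i, rfl⟩ := hsurj x
      obtain ⟨j, h1, h2⟩ := hκ i
      rw [h1, hF, hF, h2]
    | one => exact ⟨1, fun x => by simp⟩
    | mul a b _ _ ha hb =>
      obtain ⟨κa, ha⟩ := ha
      obtain ⟨κb, hb⟩ := hb
      exact ⟨κa * κb, fun x => by rw [mul_assoc, ha, hb, mul_assoc]⟩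
    | inv a _ ha =>
      obtain ⟨κ, ha⟩ := ha
      refine ⟨κ⁻¹, fun x => ?_⟩
      have := ha (a⁻¹ * x)
      rw [mul_inv_cancel_left] at this
      rw [this, inv_mul_cancel_left]
  refine ⟨MonoidHom.mk' F ?_, fun i => hF i⟩
  intro a b
  obtain ⟨κ, hκ⟩ := hQ a
  have h1 := hκ 1
  rw [mul_one, hF1, mul_one] at h1
  rw [hκ, h1]

/-- The target group. -/
abbrev K120 := Multiplicative (ZMod 2) × ↥(alternatingGroup (Fin 5))

/-- A permutation of `Fin 5` as a five-cycle `0 → 2 → 3 → 1 → 4 → 0`. -/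
def p1 : Equiv.Perm (Fin 5) := ⟨![2, 4, 3, 1, 0], ![4, 3, 0, 2, 1], by decide, by decide⟩
/-- A permutation of `Fin 5` as a five-cycle `0 → 2 → 4 → 1 → 3 → 0`. -/
def p2 : Equiv.Perm (Fin 5) := ⟨![2, 3, 4, 0, 1], ![3, 4, 0, 1, 2], by decide, by decide⟩

theorem p1_mem : p1 ∈ alternatingGroup (Fin 5) := by
  rw [Equiv.Perm.mem_alternatingGroup]; decide +kernel
theorem p2_mem : p2 ∈ alternatingGroup (Fin 5) := by
  rw [Equiv.Perm.mem_alternatingGroup]; decide +kernel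

/-- Image of the first generator. -/
def κ1 : K120 := (Multiplicative.ofAdd 0, ⟨p1, p1_mem⟩)
/-- Image of the second generator. -/
def κ2 : K120 := (Multiplicative.ofAdd 1, ⟨p2, p2_mem⟩)

/-- Words for the elements of the centraliser. -/
def wordsTbl : List (List Nat) := [[1,1,1,0,0,0,1],[1,1,1,0,0,0,0],[0,0,1,1,1],[0,0,1,1,0],[0,0,0,1,0,0,0],[0,0,0,1,0,0,1],[1,0,1],[1,0,0],[1,1,0,0,0],[0,1,0],[1,0,0,1,0,1],[1,0,1,1,0,1],[1,1,0,0,1],[0,1,1],[1,0,0,1,0,0],[1,0,1,1,0,0],[],[0,1,1,1,0,0],[1,1,1,1,1],[1,0,0,0,1,0],[1,1,1,0,0],[0,0,0,0,1,1],[1,0,0,0,1,1,1],[1,1,1,1,0,1],[1,0,1,0,0,1],[0],[0,0,0,1,1],[1,1,1,1,1,0],[0,0,1,1,0,0,0],[0,0,1,1,1,0,0],[1,1,1,0],[0,1,0,0,0,1,0],[0,0,0,0],[0,1,1,1,0],[1,0,1,0,1],[1,0,0,0,1],[0,0,0,1,0,0],[0,1,1,1,1,0,0],[0,1,0,0,1],[1,0],[0,0,1,0],[0,1,1,0,0],[1,1,1,0,0,1],[0,0,0,0,1,1,1],[1,0,1,0],[1,0,0,0],[0,1,1,0,0,1],[0,0,1,0,1],[1,1,0],[0,1,0,0,0,0],[0,0,1,1,0,1],[0,0,1,1,1,1],[1,0,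1,1,0,0,0],[1,0,0,1,0,0,0],[0,1,1,0],[0,0,1],[1,1,0,0,0,1],[0,1,0,1],[1,0,1,1,1,0],[1,0,0,1,1,0],[0,0,1,1,1,1,0],[0,0,0,1,1,1],[0,1],[1,1,0,0],[0,0,1,0,0,1],[0,1,1,0,0,0,1],[1,0,0,1,1],[1,0,1,1,1],[1,1,0,1],[0,0],[0,0,0,1,1,0],[1,1,1,1,1,0,0],[1,0,1,1,0],[1,0,0,1,0],[0,1,1,0,0,0,0],[0,0,1,0,0,0],[0,0,0],[0,1,1,1],[1,0,0,1,0,0,1],[0,0,0,1,1,0,0],[1,0,0,1,1,1],[1,0,1,1,1,1],[0,1,0,0],[1,1,0,0,0,0],[0,0,1,0,0],[0,1,1,0,0,0],[1,0,0,1],[1,0,1,1],[0,0,1,1,1,0],[0,0,1,1,0,0],[0,1,0,0,0,1],[1,1,1],[1,1],[0,1,0,0,0],[1,0,1,1,1,1,0],[0,0,0,1,0,1],[0,0,0,0,1,1,0],[1,1,1,0,0,0],[0,1,1,0,1],[0,0,1,1],[1,1,0,0,0,1,0],[1,1,1,1],[1,0,1,1,1,0,0],[1,0,0,1,1,0,0],[1,0,0,0,0],[1,0,1,0,0],[0,1,1,1,1],[0,0,0,1],[1,1,1,1,0,0],[1,0,0,0,1,1,0],[0,0,0,0,1,0],[1,1,1,0,1],[0,1,1,1,1,0],[0,0,0,1,0],[1],[1,0,1,0,0,0],[1,0,0,0,1,1],[1,1,1,1,0],[0,1,1,1,0,1],[0,0,0,0,1]]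

/-- Evaluate a word. -/
def evalW : List Nat → K120
  | [] => 1
  | a :: l => (if a = 0 then κ1 else κ2) * evalW l

/-- The element of the target group for index `k`. -/
def ks (k : Fin 120) : K120 := evalW (wordsTbl.getD k.val [])

/-- Left multiplication tables as functions on `Fin 120`. -/
def lgF1 (k : Fin 120) : Fin 120 := Fin.ofNat 120 (lg1 k.val)
def lgF2 (k : Fin 120) : Fin 120 := Fin.ofNat 120 (lg2 k.val)

theorem hk1 : ∀ k : Fin 120, κ1 * ks k = ks (lgF1 k) := by decide +kernel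
theorem hk2 : ∀ k : Fin 120, κ2 * ks k = ks (lgF2 k) := by decide +kernel
theorem hk0 : ks ⟨16, by norm_num⟩ = 1 := by decide +kernel
theorem hkker : ∀ k : Fin 120, ks k = 1 → k.val = 16 := by decide +kernel

/-- Elements of the centraliser as a function from the index set. -/
noncomputable def gs (k : Fin 120) : Subgroup.centralizer ({tJ} : Set ↥J1) :=
  ⟨hEl k, (mem_centralizer_iff _).mpr ⟨k.val, k.isLt, hEl_val k⟩⟩

theorem gs_val (k : Fin 120) :
    (((gs k : ↥J1) : GL7) : Matrix (Fin 7) (Fin 7) (ZMod 11)) = toMat (Hm k.val) := hEl_val k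

theorem gs_ext {a b : Subgroup.centralizer ({tJ} : Set ↥J1)}
    (h : (((a : ↥J1) : GL7) : Matrix (Fin 7) (Fin 7) (ZMod 11)) = ((b : ↥J1) : GL7)) : a = b := by
  apply Subtype.ext
  apply Subtype.ext
  exact Units.ext h

theorem gs_bijective : Function.Bijective gs := by
  constructor
  · intro a b hab
    apply hEl_injective
    exact congrArg Subtype.val hab
  · rintro ⟨g, hg⟩
    obtain ⟨j, hj, hgj⟩ := (mem_centralizer_iff g).mp hg
    refine ⟨⟨j, hj⟩, ?_⟩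
    apply gs_ext
    rw [gs_val]
    exact hgj.symm

theorem gs_hid : gs ⟨16, by norm_num⟩ = 1 := by
  apply gs_ext
  rw [gs_val]
  exact toMat_Hm_hid

theorem lg1_lt (k : Fin 120) : lg1 k.val < 120 := (chkLg1_spec k.isLt).2
theorem lg2_lt (k : Fin 120) : lg2 k.val < 120 := (chkLg2_spec k.isLt).2

theorem gs1_mul (k : Fin 120) : gs ⟨25, by norm_num⟩ * gs k = gs (lgF1 k) := by
  apply gs_ext
  have h := (chkLg1_spec k.isLt).1
  simp only [Subgroup.coe_mul, Units.val_mul]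
  rw [gs_val, gs_val, gs_val]
  have h2 : (lgF1 k).val = lg1 k.val := by
    simp only [lgF1, Fin.val_ofNat]
    exact Nat.mod_eq_of_lt (lg1_lt k)
  rw [h2]
  exact h

theorem gs2_mul (k : Fin 120) : gs ⟨114, by norm_num⟩ * gs k = gs (lgF2 k) := by
  apply gs_ext
  have h := (chkLg2_spec k.isLt).1
  simp only [Subgroup.coe_mul, Units.val_mul]
  rw [gs_val, gs_val, gs_val]
  have h2 : (lgF2 k).val = lg2 k.val := by
    simp only [lgF2, Fin.val_ofNat]
    exact Nat.mod_eq_of_lt (lg2_lt k)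
  rw [h2]
  exact h

theorem closure_eq_top :
    Subgroup.closure ({gs ⟨25, by norm_num⟩, gs ⟨114, by norm_num⟩} :
      Set (Subgroup.centralizer ({tJ} : Set ↥J1))) = ⊤ := by
  have hmem1 : gs ⟨25, by norm_num⟩ ∈ Subgroup.closure ({gs ⟨25, by norm_num⟩, gs ⟨114, by norm_num⟩} :
      Set (Subgroup.centralizer ({tJ} : Set ↥J1))) := Subgroup.subset_closure (by simp)
  have hmem2 : gs ⟨114, by norm_num⟩ ∈ Subgroup.closure ({gs ⟨25, by norm_num⟩, gs ⟨114, by norm_num⟩} :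
      Set (Subgroup.centralizer ({tJ} : Set ↥J1))) := Subgroup.subset_closure (by simp)
  have key : ∀ (k : Nat) (hk : k < 120), gs ⟨k, hk⟩ ∈ Subgroup.closure ({gs ⟨25, by norm_num⟩, gs ⟨114, by norm_num⟩} :
      Set (Subgroup.centralizer ({tJ} : Set ↥J1))) := by
    intro k hk
    induction hd : depH k using Nat.strong_induction_on generalizing k with
    | _ d ih =>
      by_cases hne : k = 16
      · subst hne
        rw [gs_hid]
        exact Subgroup.one_mem _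
      · obtain ⟨h1, h2, h3⟩ := chkParH_spec (k := k) hk hne
        have h4 := ih _ (by omega) (parH k) h1 rfl
        have hval : ∀ g : Subgroup.centralizer ({tJ} : Set ↥J1),
            (((g : ↥J1) : GL7) : Matrix (Fin 7) (Fin 7) (ZMod 11)) = toMat (Hm k) → g = gs ⟨k, hk⟩ := by
          intro g hg
          apply gs_ext
          rw [hg, gs_val]
        rcases h3 with h3 | h3
        · have h5 : gs ⟨25, by norm_num⟩ * gs ⟨parH k, h1⟩ = gs ⟨k, hk⟩ := by
            apply hval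
            simp only [Subgroup.coe_mul, Units.val_mul]
            rw [gs_val, gs_val]
            exact h3
          rw [← h5]
          exact Subgroup.mul_mem _ hmem1 h4
        · have h5 : gs ⟨114, by norm_num⟩ * gs ⟨parH k, h1⟩ = gs ⟨k, hk⟩ := by
            apply hval
            simp only [Subgroup.coe_mul, Units.val_mul]
            rw [gs_val, gs_val]
            exact h3
          rw [← h5]
          exact Subgroup.mul_mem _ hmem2 h4
  rw [eq_top_iff]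
  intro g _
  obtain ⟨⟨k, hk⟩, rfl⟩ := gs_bijective.2 g
  exact key k hk

theorem card_K120 : Nat.card K120 = 120 := by
  rw [Nat.card_prod]
  have h1 : Nat.card (Multiplicative (ZMod 2)) = 2 := by
    rw [Nat.card_eq_fintype_card]; rfl
  have h2 : Nat.card ↥(alternatingGroup (Fin 5)) = 60 := by
    have := two_mul_nat_card_alternatingGroup (α := Fin 5)
    rw [Nat.card_perm] at this
    have h4 : Nat.card (Fin 5) = 5 := by
      rw [Nat.card_eq_fintype_card, Fintype.card_fin]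
    rw [h4] at this
    have h3 : Nat.factorial 5 = 120 := rfl
    rw [h3] at this
    omega
  rw [h1, h2]

/-- The Janko group J₁ (the group generated by two explicit 7 × 7 matrices over the integers modulo 11) has an involution whose centraliser is isomorphic to the direct product of a group of order 2 with the alternating group of degree 5. -/
theorem result : ∃ t : ↥Cfsg.Spor.J1, orderOf t = 2 ∧ Nonempty (↥(Subgroup.centralizer ({t} : Set ↥Cfsg.Spor.J1)) ≃* Multiplicative (ZMod 2) × ↥(alternatingGroup (Fin 5))) := by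
  refine ⟨tJ, orderOf_tJ, ?_⟩
  obtain ⟨f, hf⟩ := exists_hom_of_table gs gs_bijective ks ⟨16, by norm_num⟩ gs_hid hk0
    ({gs ⟨25, by norm_num⟩, gs ⟨114, by norm_num⟩}) closure_eq_top (by
      rintro s (rfl | rfl)
      · exact ⟨κ1, fun i => ⟨lgF1 i, gs1_mul i, hk1 i⟩⟩
      · exact ⟨κ2, fun i => ⟨lgF2 i, gs2_mul i, hk2 i⟩⟩)
  have hinj : Function.Injective f := by
    rw [injective_iff_map_eq_one]
    intro g hg
    obtain ⟨k, rfl⟩ := gs_bijective.2 g
    rw [hf] at hg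
    have h1 := hkker k hg
    have h2 : k = ⟨16, by norm_num⟩ := Fin.ext h1
    rw [h2, gs_hid]
  have hbij : Function.Bijective f := by
    apply (Nat.bijective_iff_injective_and_card f).mpr
    refine ⟨hinj, ?_⟩
    rw [card_centralizer, card_K120]
  exact ⟨MulEquiv.ofBijective f hbij⟩

end Cfsg.Agent.S2131
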