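import Mathlib
import Cfsg.Statements.S2247
import Cfsg.Agent.Lib.SuzukiMax

set_option autoImplicit false
open Cfsg

namespace Cfsg.Agent.S2247

/-- In the Suzuki group with q = 2^(2m+1), m ≥ 1 (realised as the stabiliser in SL₄ of the Suzuki–Tits ovoid), the normalizer of a Sylow 2-subgroup P is a maximal subgroup and is the only maximal subgroup containing P. -/
theorem result {F : Type*} [Field F] [Fintype F] {m : ℕ} (hm : 1 ≤ m) (hF : Fintype.card F = 2 ^ (2 * m + 1)) (P : Sylow 2 ↥(Cfsg.Sz F m)) :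
    IsCoatom (Subgroup.normalizer ((P : Subgroup ↥(Cfsg.Sz F m)) : Set ↥(Cfsg.Sz F m))) ∧
    ∀ M : Subgroup ↥(Cfsg.Sz F m), IsCoatom M → (P : Subgroup ↥(Cfsg.Sz F m)) ≤ M → M = Subgroup.normalizer ((P : Subgroup ↥(Cfsg.Sz F m)) : Set ↥(Cfsg.Sz F m)) := by
  have : Cfsg.Agent.Lib.Suzuki.SzHyp F m := ⟨hm, hF⟩
  have := Cfsg.Agent.Lib.Suzuki.charP_two F m
  open Cfsg.Agent.Lib.SuzukiMax Cfsg.Agent.Lib.Suzuki4 in
  obtain ⟨a, ha⟩ := exists_conj_sylow P
  open Cfsg.Agent.Lib.SuzukiMax Cfsg.Agent.Lib.Suzuki4 in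
  have hN : Subgroup.normalizer ((P : Subgroup ↥(Cfsg.Sz F m)) : Set ↥(Cfsg.Sz F m)) =
      (Binf F m).map (MulAut.conj a).toMonoidHom := by
    rw [ha, ← normalizer_Tsub]
    exact (Subgroup.map_equiv_normalizer_eq (Tsub F m) (MulAut.conj a)).symm
  open Cfsg.Agent.Lib.SuzukiMax Cfsg.Agent.Lib.Suzuki4 in
  have hcoat : IsCoatom ((Binf F m).map (MulAut.conj a).toMonoidHom) :=
    ((MulAut.conj a).mapSubgroup.isCoatom_iff (Binf F m)).2 isCoatom_Binf
  rw [hN]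
  refine ⟨hcoat, fun M hM hPM => ?_⟩
  open Cfsg.Agent.Lib.SuzukiMax Cfsg.Agent.Lib.Suzuki4 in
  have hkey : ∀ M : Subgroup ↥(Cfsg.Sz F m), IsCoatom M → Tsub F m ≤ M → M = Binf F m := by
    intro M hM hT
    have hle : M ≤ Binf F m := by
      intro g hg
      by_contra hng
      exact hM.1 (eq_top_of_Tsub_le hT hg (fun h => hng (mem_Binf.2 h)))
    by_contra hne
    exact isCoatom_Binf.1 (hM.2 _ (lt_of_le_of_ne hle hne))
  -- pull back by conjugation
  let e := (MulAut.conj a).mapSubgroup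
  have h1 : IsCoatom (e.symm M) := (e.symm.isCoatom_iff M).2 hM
  have h2 : Cfsg.Agent.Lib.Suzuki4.Tsub F m ≤ e.symm M := by
    rw [← e.le_iff_le, e.apply_symm_apply]
    rw [ha] at hPM
    exact hPM
  have h3 := hkey _ h1 h2
  have h4 : M = e (e.symm M) := (e.apply_symm_apply M).symm
  rw [h4, h3]
  rfl

end Cfsg.Agent.S2247
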