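import Mathlib
import Cfsg.Agent.Lib.PSL2SolubU
import Cfsg.Statements.S2257

set_option autoImplicit false
open Cfsg

namespace Cfsg.Agent.S2257

/-- Let G = PSL_2(F) with F a field of order q = 2^p, p prime, and for x ∈ G call the solubilizer of x the set of y ∈ G such that x and y generate a solvable subgroup. Then the solubilizer of an involution has 3q(q − 1) elements; that of a non-identity element of order dividing q − 1 has 2q(q − 1) elements; and that of a non-identity element of order dividing q + 1 has 2(q + 1) elements. -/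
theorem result (p : ℕ) (hp : p.Prime) {F : Type*} [Field F] [Fintype F]
    (hF : Fintype.card F = 2 ^ p) (x : Matrix.ProjectiveSpecialLinearGroup (Fin 2) F) :
    (orderOf x = 2 → Nat.card {y : Matrix.ProjectiveSpecialLinearGroup (Fin 2) F // Group.IsSolvable ↥(Subgroup.closure ({x, y} : Set (Matrix.ProjectiveSpecialLinearGroup (Fin 2) F)))} = 3 * 2 ^ p * (2 ^ p - 1)) ∧
    (x ≠ 1 → orderOf x ∣ 2 ^ p - 1 → Nat.card {y : Matrix.ProjectiveSpecialLinearGroup (Fin 2) F // Group.IsSolvable ↥(Subgroup.closure ({x, y} : Set (Matrix.ProjectiveSpecialLinearGroup (Fin 2) F)))} = 2 * 2 ^ p * (2 ^ p - 1)) ∧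
    (x ≠ 1 → orderOf x ∣ 2 ^ p + 1 → Nat.card {y : Matrix.ProjectiveSpecialLinearGroup (Fin 2) F // Group.IsSolvable ↥(Subgroup.closure ({x, y} : Set (Matrix.ProjectiveSpecialLinearGroup (Fin 2) F)))} = 2 * (2 ^ p + 1)) := by
  classical
  open Cfsg.Agent.Lib.SL2Core Cfsg.Agent.Lib.DicksonMat Cfsg.Agent.Lib.DicksonAbs Cfsg.Agent.Lib.DicksonTT Cfsg.Agent.Lib.PSL2Solub Cfsg.Agent.Lib.PSL2SolubB Cfsg.Agent.Lib.PSL2SolubU in
  have hq2 : 4 ≤ 2 ^ p := by
    calc 4 = 2 ^ 2 := by norm_num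
      _ ≤ 2 ^ p := Nat.pow_le_pow_right (by norm_num) hp.two_le
  haveI hchar : CharP F 2 := by
    obtain ⟨r, hch⟩ := CharP.exists F
    have hrp : r.Prime := CharP.char_is_prime F r
    obtain ⟨n, -, hn⟩ := FiniteField.card F r
    have h1 : r ∣ 2 ^ p := by
      rw [← hF, hn]
      exact dvd_pow_self _ n.ne_zero
    have h2 := (Nat.prime_dvd_prime_iff_eq hrp Nat.prime_two).mp (hrp.dvd_of_dvd_pow h1)
    rw [h2] at hch
    exact hch
  haveI : Fact (Nat.Prime 2) := ⟨Nat.prime_two⟩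
  have hd : Nat.gcd 2 (2 ^ p - 1) = 1 := by
    rw [Nat.coprime_two_left.mpr]
    obtain ⟨y, hy⟩ : Even (2 ^ p) := Nat.even_pow.mpr ⟨even_two, hp.ne_zero⟩
    rw [hy]
    exact ⟨y - 1, by omega⟩
  have hodd : ∀ n : ℕ, Odd n → orderOf x ∣ n → x ≠ 1 → x * x ≠ 1 := by
    intro n hn h1 hx h2
    have h3 : orderOf x ∣ 2 := orderOf_dvd_iff_pow_eq_one.mpr (by rw [pow_two]; exact h2)
    have h4 : orderOf x ∣ Nat.gcd 2 n := Nat.dvd_gcd h3 h1
    rw [Nat.coprime_two_left.mpr hn] at h4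
    exact hx (orderOf_eq_one_iff.mp (Nat.dvd_one.mp h4))
  have hevenq : Even (2 ^ p) := Nat.even_pow.mpr ⟨even_two, hp.ne_zero⟩
  have hH : ∀ x' y : Matrix.ProjectiveSpecialLinearGroup (Fin 2) F, Sv x' y → ∃ B : SL2 F, B ∉ Subgroup.center (SL2 F) ∧ x' ∈ Nn B ∧ y ∈ Nn B :=
    fun x' y h => (sv_iff_even p hp hF).mp h
  refine ⟨?_, ?_, ?_⟩
  · intro hord
    have hx1 : x ≠ 1 := by
      rintro rfl
      simp at hord
    have hx2 : x * x = 1 := by
      rw [← pow_two]
      exact orderOf_dvd_iff_pow_eq_one.mp hord.dvd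
    obtain ⟨A, rfl⟩ := proj_surjective x
    have hA := not_center_of_proj_ne_one hx1
    have ht : tr A * tr A = 4 := by
      rw [tr_eq_zero_of_sq hx2, mul_zero]
      have h2 : (2 : F) = 0 := CharP.cast_eq_zero F 2
      have : (4 : F) = 2 * 2 := by norm_num
      rw [this, h2, mul_zero]
    obtain ⟨θ, hθ, -⟩ := exists_theta_uu hA ht
    have h1 := card_sv_map θ (proj A)
    rw [hθ, card_sv_uu_even p hp hF, hF] at h1
    exact h1.symm
  · intro hx1 hord
    have hx2 := hodd _ (by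
      obtain ⟨y, hy⟩ := hevenq
      rw [hy]
      exact ⟨y - 1, by omega⟩) hord hx1
    have h1 := card_sv_split 2 hx1 hx2 (by rwa [hF]) (fun x' y _ h => hH x' y h)
    rw [hF, hd, mul_one] at h1
    exact h1
  · intro hx1 hord
    have hx2 := hodd _ (by
      exact hevenq.add_one) hord hx1
    have h1 := card_sv_nonsplit 2 hx1 hx2 (by rwa [hF]) (fun y h => hH _ y h)
    rw [hF, hd, mul_one] at h1
    exact h1


end Cfsg.Agent.S2257
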