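import Mathlib
import Cfsg.Agent.Lib.PSL2SolubT
import Cfsg.Statements.S2258

set_option autoImplicit false
open Cfsg

namespace Cfsg.Agent.S2258

/-- Let G = PSL_2(F) with F a field of order q = 3^p, p an odd prime, and for x ∈ G call the solubilizer of x the set of y ∈ G such that x and y generate a solvable subgroup. Then the solubilizer of an involution has q(q + 1) elements; that of an element of order 3 has q(q + 5)/2 elements; that of an element of order neither 1 nor 2 dividing q − 1 has q(q − 1) elements; and that of an element of order neither 1 nor 2 dividing q + 1 has q + 1 elements. -/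
theorem result (p : ℕ) (hp : p.Prime) (hodd : Odd p) {F : Type*} [Field F] [Fintype F]
    (hF : Fintype.card F = 3 ^ p) (x : Matrix.ProjectiveSpecialLinearGroup (Fin 2) F) :
    (orderOf x = 2 → Nat.card {y : Matrix.ProjectiveSpecialLinearGroup (Fin 2) F // Group.IsSolvable ↥(Subgroup.closure ({x, y} : Set (Matrix.ProjectiveSpecialLinearGroup (Fin 2) F)))} = 3 ^ p * (3 ^ p + 1)) ∧
    (orderOf x = 3 → 2 * Nat.card {y : Matrix.ProjectiveSpecialLinearGroup (Fin 2) F // Group.IsSolvable ↥(Subgroup.closure ({x, y} : Set (Matrix.ProjectiveSpecialLinearGroup (Fin 2) F)))} = 3 ^ p * (3 ^ p + 5)) ∧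
    (x ≠ 1 → orderOf x ≠ 2 → orderOf x ∣ 3 ^ p - 1 → Nat.card {y : Matrix.ProjectiveSpecialLinearGroup (Fin 2) F // Group.IsSolvable ↥(Subgroup.closure ({x, y} : Set (Matrix.ProjectiveSpecialLinearGroup (Fin 2) F)))} = 3 ^ p * (3 ^ p - 1)) ∧
    (x ≠ 1 → orderOf x ≠ 2 → orderOf x ∣ 3 ^ p + 1 → Nat.card {y : Matrix.ProjectiveSpecialLinearGroup (Fin 2) F // Group.IsSolvable ↥(Subgroup.closure ({x, y} : Set (Matrix.ProjectiveSpecialLinearGroup (Fin 2) F)))} = 3 ^ p + 1) := by
  classical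
  open Cfsg.Agent.Lib.SL2Core Cfsg.Agent.Lib.DicksonMat Cfsg.Agent.Lib.DicksonAbs Cfsg.Agent.Lib.DicksonTT Cfsg.Agent.Lib.PSL2Solub Cfsg.Agent.Lib.PSL2SolubB Cfsg.Agent.Lib.PSL2SolubU Cfsg.Agent.Lib.PSL2SolubT in
  have hq3 : 3 ≤ 3 ^ p := by
    calc 3 = 3 ^ 1 := by norm_num
      _ ≤ 3 ^ p := Nat.pow_le_pow_right (by norm_num) hp.one_lt.le
  haveI hchar : CharP F 3 := by
    obtain ⟨r, hch⟩ := CharP.exists F
    have hrp : r.Prime := CharP.char_is_prime F r
    obtain ⟨n, -, hn⟩ := FiniteField.card F r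
    have h1 : r ∣ 3 ^ p := by
      rw [← hF, hn]
      exact dvd_pow_self _ n.ne_zero
    have h2 := (Nat.prime_dvd_prime_iff_eq hrp Nat.prime_three).mp (hrp.dvd_of_dvd_pow h1)
    rw [h2] at hch
    exact hch
  haveI : Fact (Nat.Prime 3) := ⟨Nat.prime_three⟩
  have h3q : 3 ∣ 3 ^ p := dvd_pow_self _ hp.ne_zero
  have hoddq : Odd (3 ^ p) := Odd.pow (by decide)
  have hd : Nat.gcd 2 (3 ^ p - 1) = 2 := by
    apply Nat.gcd_eq_left
    obtain ⟨k, hk⟩ := hoddq
    rw [hk]
    exact ⟨k, by omega⟩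
  have key : orderOf x ≠ 1 → orderOf x ≠ 2 → orderOf x ≠ 3 → ∀ x' y : Matrix.ProjectiveSpecialLinearGroup (Fin 2) F, orderOf x' = orderOf x → Sv x' y →
      ∃ B : SL2 F, B ∉ Subgroup.center (SL2 F) ∧ x' ∈ Nn B ∧ y ∈ Nn B := by
    intro h1 h2 h3 x' y hx' h
    rcases sv_cases_three p hp hodd hF h with hB | ⟨M, hxM, hyM, hM⟩
    · exact hB
    · exfalso
      rcases hM _ hxM with h4 | h4
      · have h5 := orderOf_dvd_of_pow_eq_one h4
        rw [hx'] at h5
        rcases (Nat.dvd_prime Nat.prime_two).mp h5 with h6 | h6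
        · exact h1 h6
        · exact h2 h6
      · have h5 := orderOf_dvd_of_pow_eq_one h4
        rw [hx'] at h5
        rcases (Nat.dvd_prime Nat.prime_three).mp h5 with h6 | h6
        · exact h1 h6
        · exact h3 h6
  have hsq : x ≠ 1 → orderOf x ≠ 2 → x * x ≠ 1 := by
    intro h1 h2 h
    have h3 : orderOf x ∣ 2 := orderOf_dvd_iff_pow_eq_one.mpr (by rw [pow_two]; exact h)
    rcases (Nat.dvd_prime Nat.prime_two).mp h3 with h4 | h4
    · exact h1 (orderOf_eq_one_iff.mp h4)
    · exact h2 h4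
  refine ⟨?_, ?_, ?_, ?_⟩
  · intro hord
    have hx1 : x ≠ 1 := by
      rintro rfl
      simp at hord
    have hx2 : x * x = 1 := by
      rw [← pow_two]
      exact orderOf_dvd_iff_pow_eq_one.mp hord.dvd
    obtain ⟨A, rfl⟩ := proj_surjective x
    have hA := not_center_of_proj_ne_one hx1
    have ht : tr A = 0 := (tr_or_center_of_sq hx2).resolve_right hA
    obtain ⟨U, hU⟩ := exists_conj A (XX : SL2 F) hA XX_not_center (by rw [ht, tr_XX]) (by
      rw [ht, mul_zero, four_eq]
      exact zero_ne_one)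
    let θ : Matrix.ProjectiveSpecialLinearGroup (Fin 2) F ≃* Matrix.ProjectiveSpecialLinearGroup (Fin 2) F := MulAut.conj (proj U)
    have hθ : θ (proj A) = proj (XX : SL2 F) := by
      rw [← hU]
      simp [θ, MulAut.conj_apply]
    have h1 := card_sv_map θ (proj A)
    rw [hθ, card_sv_XX p hp hodd hF, hF] at h1
    exact h1.symm
  · intro hord
    have hx1 : x ≠ 1 := by
      rintro rfl
      simp at hord
    have hx3 : x ^ 3 = 1 := by
      exact orderOf_dvd_iff_pow_eq_one.mp hord.dvd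
    obtain ⟨A, rfl⟩ := proj_surjective x
    have hA := not_center_of_proj_ne_one hx1
    have ht : tr A * tr A = 4 := by
      rw [four_eq]
      exact (tr_or_center_of_cube hx3).resolve_right hA
    obtain ⟨θ, hθ, -⟩ := exists_theta_uu hA ht
    have h1 := card_sv_map θ (proj A)
    have h2 := card_sv_uu_three p hp hodd hF
    rw [hF] at h2
    rw [hθ] at h1
    rw [h1] at h2
    exact h2
  · intro hx1 hx2 hord
    have h1' : orderOf x ≠ 1 := fun h => hx1 (orderOf_eq_one_iff.mp h)
    have h3' : orderOf x ≠ 3 := by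
      intro h
      rw [h] at hord
      have := (Nat.dvd_sub h3q hord)
      have e : 3 ^ p - (3 ^ p - 1) = 1 := by omega
      rw [e] at this
      omega
    have h1 := card_sv_split 3 hx1 (hsq hx1 hx2) (by rwa [hF]) (key h1' hx2 h3')
    rw [hF, hd] at h1
    have h2 : 2 * 3 ^ p * (3 ^ p - 1) = (3 ^ p * (3 ^ p - 1)) * 2 := by ring
    rw [h2] at h1
    exact Nat.eq_of_mul_eq_mul_right (by norm_num) h1
  · intro hx1 hx2 hord
    have h1' : orderOf x ≠ 1 := fun h => hx1 (orderOf_eq_one_iff.mp h)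
    have h3' : orderOf x ≠ 3 := by
      intro h
      rw [h] at hord
      have := (Nat.dvd_sub hord h3q)
      have e : 3 ^ p + 1 - 3 ^ p = 1 := by omega
      rw [e] at this
      omega
    have h1 := card_sv_nonsplit 3 hx1 (hsq hx1 hx2) (by rwa [hF]) (fun y h => key h1' hx2 h3' x y rfl h)
    rw [hF, hd, mul_comm 2 (3 ^ p + 1)] at h1
    exact Nat.eq_of_mul_eq_mul_right (by norm_num) h1


end Cfsg.Agent.S2258
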