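import Mathlib
import Cfsg.Statements.S2271

namespace Cfsg.Agent.S2271

open Equiv Equiv.Perm Finset

section general

variable {Ω : Type*} [Fintype Ω] [DecidableEq Ω]

lemma pinv_self (f : Perm Ω) (x : Ω) : f⁻¹ (f x) = x := by simp

lemma self_pinv (f : Perm Ω) (x : Ω) : f (f⁻¹ x) = x := by simp

/-- number of points where two permutations agree -/
def agr (c b : Perm Ω) : ℕ := (univ.filter fun x => c x = b x).card

/-- number of fixed points -/
def fx (c : Perm Ω) : ℕ := (univ.filter fun x => c x = x).card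

lemma exists_two_outside (T : Finset Ω) (h : T.card + 2 ≤ Fintype.card Ω) :
    ∃ w w', w ∉ T ∧ w' ∉ T ∧ w ≠ w' := by
  have h1 : 1 < (Tᶜ).card := by rw [Finset.card_compl]; omega
  obtain ⟨w, hw, w', hw', hne⟩ := Finset.one_lt_card.mp h1
  exact ⟨w, w', by simpa using hw, by simpa using hw', hne⟩

lemma sign_swap_mul_of_neg {g : Perm Ω} (hs : ¬ sign g = 1) {w w' : Ω} (hne : w ≠ w') :
    sign (swap w w' * g) = 1 := by
  rw [Equiv.Perm.sign_mul, sign_swap hne]
  rcases Int.units_eq_one_or (sign g) with h | h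
  · exact absurd h hs
  · rw [h]; rfl

lemma exists_even (hn : 4 ≤ Fintype.card Ω) {x y x' y' : Ω} (hxy : x ≠ y) (hxy' : x' ≠ y') :
    ∃ h : Perm Ω, sign h = 1 ∧ h x = x' ∧ h y = y' := by
  have hy1 : swap x x' y ≠ x' := by
    intro h
    have : swap x x' y = swap x x' x := by rw [h, swap_apply_left]
    exact hxy ((swap x x').injective this).symm
  have h0x : (swap (swap x x' y) y' * swap x x') x = x' := by
    rw [Perm.mul_apply, swap_apply_left]
    exact swap_apply_of_ne_of_ne hy1.symm hxy'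
  have h0y : (swap (swap x x' y) y' * swap x x') y = y' := by
    rw [Perm.mul_apply, swap_apply_left]
  by_cases hs : sign (swap (swap x x' y) y' * swap x x') = 1
  · exact ⟨_, hs, h0x, h0y⟩
  · have hc : ({x', y'} : Finset Ω).card + 2 ≤ Fintype.card Ω := by
      have := Finset.card_le_two (a := x') (b := y')
      omega
    obtain ⟨w, w', hw, hw', hne⟩ := exists_two_outside _ hc
    simp only [mem_insert, mem_singleton, not_or] at hw hw'
    refine ⟨swap w w' * _, sign_swap_mul_of_neg hs hne, ?_, ?_⟩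
    · rw [Perm.mul_apply, h0x]
      exact swap_apply_of_ne_of_ne (Ne.symm hw.1) (Ne.symm hw'.1)
    · rw [Perm.mul_apply, h0y]
      exact swap_apply_of_ne_of_ne (Ne.symm hw.2) (Ne.symm hw'.2)

/-- the even permutations -/
def EvenP : Finset (Perm Ω) := univ.filter fun g => sign g = 1

/-- number of even conjugators carrying the arc `x → y` to `c` -/
def W (c : Perm Ω) (x y : Ω) : ℕ :=
  ((EvenP (Ω := Ω)).filter fun g => (g * c * g⁻¹) x = y).card

lemma W_le {c : Perm Ω} {x y x' y' : Ω} {h : Perm Ω} (hs : sign h = 1)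
    (hx : h x = x') (hy : h y = y') : W c x y ≤ W c x' y' := by
  apply Finset.card_le_card_of_injOn (fun g => h * g)
  · intro g hg
    simp only [EvenP, coe_filter, mem_filter, mem_univ, true_and, Set.mem_ofPred_eq] at hg ⊢
    refine ⟨by rw [Equiv.Perm.sign_mul, hs, hg.1, one_mul], ?_⟩
    have h1 : (h * g * c * (h * g)⁻¹) x' = h ((g * c * g⁻¹) (h⁻¹ x')) := by
      simp [Perm.mul_apply, mul_inv_rev]
    rw [h1, ← hx, pinv_self, hg.2, hy]
  · intro g _ g' _ h1
    exact mul_left_cancel h1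

lemma W_eq {c : Perm Ω} {x y x' y' : Ω} {h : Perm Ω} (hs : sign h = 1)
    (hx : h x = x') (hy : h y = y') : W c x y = W c x' y' := by
  apply le_antisymm (W_le hs hx hy)
  refine W_le (h := h⁻¹) (by rw [sign_inv, hs]) ?_ ?_
  · rw [← hx, pinv_self]
  · rw [← hy, pinv_self]

lemma fx_conj (g c : Perm Ω) : fx (g * c * g⁻¹) = fx c := by
  apply Finset.card_equiv (g⁻¹ : Perm Ω)
  intro x
  rw [mem_filter, mem_filter]
  simp only [mem_univ, true_and, Perm.mul_apply]
  constructor
  · intro h
    have := congrArg (g⁻¹ : Perm Ω) h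
    simpa using this
  · intro h
    rw [h, self_pinv]

lemma agr_conj (g c b : Perm Ω) : agr (g * c * g⁻¹) b = agr (g⁻¹ * b * g) c := by
  apply Finset.card_equiv (g⁻¹ : Perm Ω)
  intro x
  rw [mem_filter, mem_filter]
  simp only [mem_univ, true_and, Perm.mul_apply, self_pinv]
  constructor
  · intro h
    rw [← h, pinv_self]
  · intro h
    rw [← h, self_pinv]

lemma sum_W_row (c : Perm Ω) (x : Ω) : ∑ y, W c x y = (EvenP (Ω := Ω)).card := by
  symm
  exact Finset.card_eq_sum_card_fiberwise (f := fun g => (g * c * g⁻¹) x) (t := univ)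
    (fun _ _ => mem_coe.mpr (mem_univ _))

lemma sum_W_diag (c : Perm Ω) : ∑ x, W c x x = (EvenP (Ω := Ω)).card * fx c := by
  have h := Finset.sum_card_bipartiteAbove_eq_sum_card_bipartiteBelow
    (s := (EvenP (Ω := Ω))) (t := (univ : Finset Ω)) (fun g x => (g * c * g⁻¹) x = x)
  have h2 : ∀ g ∈ (EvenP (Ω := Ω)), (bipartiteAbove (fun g x => (g * c * g⁻¹) x = x)
      (univ : Finset Ω) g).card = fx c := by
    intro g _
    exact fx_conj g c
  rw [Finset.sum_congr rfl h2, Finset.sum_const, smul_eq_mul] at h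
  exact h.symm

lemma sum_agr (c b : Perm Ω) :
    ∑ g ∈ (EvenP (Ω := Ω)), agr (g * c * g⁻¹) b = ∑ x, W c x (b x) :=
  Finset.sum_card_bipartiteAbove_eq_sum_card_bipartiteBelow
    (s := (EvenP (Ω := Ω))) (t := (univ : Finset Ω)) (fun g x => (g * c * g⁻¹) x = b x)

theorem mean_formula (hn : 4 ≤ Fintype.card Ω) (c b : Perm Ω) (m : ℕ)
    (hm : ∀ g : Perm Ω, sign g = 1 → agr (g * c * g⁻¹) b = m)
    (k E F : ℕ) (hk : k + 1 = Fintype.card Ω) (hE : fx b + E = Fintype.card Ω)
    (hF : fx c + F = Fintype.card Ω) :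
    m * (k + 1) * k = fx b * fx c * k + E * F := by
  have hcard1 : 1 < Fintype.card Ω := by omega
  haveI : Nontrivial Ω := Fintype.one_lt_card_iff_nontrivial.mp hcard1
  obtain ⟨x₀, y₀, hxy⟩ := exists_pair_ne Ω
  set N := (EvenP (Ω := Ω)).card with hN
  have hNpos : 0 < N := Finset.card_pos.mpr ⟨1, by simp [EvenP]⟩
  have hW0 : ∀ x, W c x x = W c x₀ x₀ := by
    intro x
    obtain ⟨y, hy⟩ : ∃ y, x ≠ y := (exists_ne x).imp fun _ h => h.symm
    obtain ⟨h, hs, hx, _⟩ := exists_even hn hy hxy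
    exact W_eq hs hx hx
  have hW1 : ∀ x y, x ≠ y → W c x y = W c x₀ y₀ := by
    intro x y hne
    obtain ⟨h, hs, hx, hy⟩ := exists_even hn hne hxy
    exact W_eq hs hx hy
  have h1 : W c x₀ x₀ + k * W c x₀ y₀ = N := by
    have hrow : ∑ y, W c x₀ y = N := sum_W_row c x₀
    rw [← hrow, ← Finset.add_sum_erase _ _ (mem_univ x₀)]
    congr 1
    rw [Finset.sum_congr rfl (g := fun _ => W c x₀ y₀)
      (fun y hy => hW1 x₀ y (Ne.symm (Finset.ne_of_mem_erase hy))), Finset.sum_const,
      Finset.card_erase_of_mem (mem_univ _), Finset.card_univ, smul_eq_mul]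
    congr 1
    omega
  have h2 : (k + 1) * W c x₀ x₀ = N * fx c := by
    have hd : ∑ x, W c x x = N * fx c := sum_W_diag c
    rw [← hd, Finset.sum_congr rfl (fun x _ => hW0 x), Finset.sum_const,
      Finset.card_univ, smul_eq_mul, hk]
  have h3 : N * m = fx b * W c x₀ x₀ + E * W c x₀ y₀ := by
    have h30 := sum_agr c b
    rw [Finset.sum_congr rfl (g := fun _ => m)
      (fun g hg => hm g (by simpa [EvenP] using hg)), Finset.sum_const, smul_eq_mul] at h30
    rw [h30]
    have h31 : ∀ x ∈ (univ : Finset Ω), W c x (b x) =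
        if b x = x then W c x₀ x₀ else W c x₀ y₀ := by
      intro x _
      split_ifs with hx
      · rw [hx]; exact hW0 x
      · exact hW1 x (b x) (Ne.symm hx)
    rw [Finset.sum_congr rfl h31, Finset.sum_ite, Finset.sum_const, Finset.sum_const,
      smul_eq_mul, smul_eq_mul]
    congr 2
    have h32 := Finset.card_filter_add_card_filter_not (s := (univ : Finset Ω))
      (fun x => b x = x)
    rw [Finset.card_univ] at h32
    have h33 : fx b = (univ.filter fun x => b x = x).card := rfl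
    omega
  have hnk : (Fintype.card Ω : ℤ) = k + 1 := by rw [← hk]; push_cast; ring
  have hFz : (F : ℤ) = (k + 1) - fx c := by
    have : (fx c : ℤ) + F = Fintype.card Ω := by exact_mod_cast hF
    rw [hnk] at this
    linarith
  have h1z : (W c x₀ x₀ : ℤ) + k * W c x₀ y₀ = N := by exact_mod_cast h1
  have h2z : ((k : ℤ) + 1) * W c x₀ x₀ = N * fx c := by exact_mod_cast h2
  have h3z : (N : ℤ) * m = fx b * W c x₀ x₀ + E * W c x₀ y₀ := by exact_mod_cast h3
  have hgoal : (N : ℤ) * (m * (k + 1) * k) = N * (fx b * fx c * k + E * F) := by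
    rw [hFz]
    linear_combination ((k : ℤ) + 1) * k * h3z + (k * fx b - E) * h2z + ((k : ℤ) + 1) * E * h1z
  have hNz : (N : ℤ) ≠ 0 := by exact_mod_cast hNpos.ne'
  have := mul_left_cancel₀ hNz hgoal
  exact_mod_cast this

/-- Align one arc while protecting the set `T` pointwise. -/
lemma align (c : Perm Ω) (T : Set Ω) {x y u : Ω} (hu : u ∉ T) (hcu : c u ∉ T) (hx : x ∉ T)
    (hy : y ∉ T) (hxy : x ≠ y) (hmv : c u ≠ u) :
    ∃ σ : Perm Ω, (∀ t ∈ T, σ t = t) ∧ (σ * c * σ⁻¹) x = y := by
  have hv1 : swap u x (c u) ≠ x := by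
    intro h
    have : swap u x (c u) = swap u x u := by rw [h, swap_apply_left]
    exact hmv ((swap u x).injective this)
  have hvT : swap u x (c u) ∉ T := by
    by_cases h1 : c u = x
    · rw [h1, swap_apply_right]; exact hu
    · rw [swap_apply_of_ne_of_ne hmv h1]; exact hcu
  refine ⟨swap (swap u x (c u)) y * swap u x, ?_, ?_⟩
  · intro t ht
    have h1 : t ≠ u := fun h => hu (h ▸ ht)
    have h2 : t ≠ x := fun h => hx (h ▸ ht)
    have h3 : t ≠ swap u x (c u) := fun h => hvT (h ▸ ht)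
    have h4 : t ≠ y := fun h => hy (h ▸ ht)
    rw [Perm.mul_apply, swap_apply_of_ne_of_ne h1 h2, swap_apply_of_ne_of_ne h3 h4]
  · have h5 : (swap (swap u x (c u)) y * swap u x)⁻¹ x = u := by
      rw [Perm.inv_eq_iff_eq, Perm.mul_apply, swap_apply_left]
      exact (swap_apply_of_ne_of_ne hv1.symm hxy).symm
    rw [Perm.mul_apply, Perm.mul_apply, h5, Perm.mul_apply, swap_apply_left]

end general

section arrangements

variable {Ω : Type*} [Fintype Ω] [DecidableEq Ω]

lemma exists_embed_fix (c b : Perm Ω) (hle : fx b ≤ fx c) :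
    ∃ ψ : Perm Ω, ∀ y, b y = y → (ψ * c * ψ⁻¹) y = y := by
  obtain ⟨T, hT, hTc⟩ := Finset.exists_subset_card_eq hle
  have hTc' : T.card = (univ.filter fun x => b x = x).card := hTc
  let e : {x // x ∈ T} ≃ {x // x ∈ (univ.filter fun x => b x = x)} :=
    Finset.equivOfCardEq hTc'
  refine ⟨e.extendSubtype, ?_⟩
  intro y hy
  have hymem : y ∈ (univ.filter fun x => b x = x) := by simp [hy]
  have h1 : e.extendSubtype (e.symm ⟨y, hymem⟩) = y := by
    rw [Equiv.extendSubtype_apply_of_mem e _ (e.symm ⟨y, hymem⟩).2]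
    simp
  have h2 : (e.extendSubtype)⁻¹ y = e.symm ⟨y, hymem⟩ := by
    rw [Perm.inv_eq_iff_eq]; exact h1.symm
  have h3 : (e.symm ⟨y, hymem⟩ : Ω) ∈ T := (e.symm ⟨y, hymem⟩).2
  have h4 : c (e.symm ⟨y, hymem⟩ : Ω) = e.symm ⟨y, hymem⟩ := by
    have := hT h3
    simpa using this
  rw [Perm.mul_apply, Perm.mul_apply, h2, h4, h1]

/-- first arrangement: fixed points of `b` are fixed by the conjugate and one arc is aligned -/
lemma arr1 (hn : 5 ≤ Fintype.card Ω) (c b : Perm Ω) (hc : c ≠ 1) (hb : b ≠ 1)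
    (he : 1 ≤ fx b) (hle : fx b ≤ fx c) :
    ∃ g : Perm Ω, sign g = 1 ∧ (∀ y, b y = y → (g * c * g⁻¹) y = y) ∧
      ∃ x, b x ≠ x ∧ (g * c * g⁻¹) x = b x := by
  classical
  obtain ⟨ψ, hψ⟩ := exists_embed_fix c b hle
  set c₁ := ψ * c * ψ⁻¹ with hc₁
  have hc₁1 : c₁ ≠ 1 := by
    intro h
    apply hc
    have : c = ψ⁻¹ * c₁ * ψ := by rw [hc₁]; group
    rw [this, h]; group
  obtain ⟨x, hx⟩ : ∃ x, b x ≠ x := by
    by_contra h
    push Not at h
    exact hb (Equiv.ext h)
  obtain ⟨u, hu⟩ : ∃ u, c₁ u ≠ u := by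
    by_contra h
    push Not at h
    exact hc₁1 (Equiv.ext h)
  let T : Set Ω := {y | b y = y}
  have huT : u ∉ T := fun h => hu (hψ u h)
  have hcuT : c₁ u ∉ T := by
    intro h
    have := hψ _ h
    exact hu (c₁.injective this)
  have hxT : x ∉ T := hx
  have hbxT : b x ∉ T := by
    intro h
    exact hx (b.injective h)
  obtain ⟨σ, hσT, hσx⟩ := align c₁ T huT hcuT hxT hbxT (Ne.symm hx) hu
  set g₀ := σ * ψ with hg₀
  have hg₀c : g₀ * c * g₀⁻¹ = σ * c₁ * σ⁻¹ := by
    rw [hg₀, hc₁]; group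
  have hfix : ∀ y, b y = y → (g₀ * c * g₀⁻¹) y = y := by
    intro y hy
    rw [hg₀c]
    have h1 : σ⁻¹ y = y := by
      rw [Perm.inv_eq_iff_eq]; exact (hσT y hy).symm
    rw [Perm.mul_apply, Perm.mul_apply, h1, hψ y hy, hσT y hy]
  have harc : (g₀ * c * g₀⁻¹) x = b x := by rw [hg₀c]; exact hσx
  by_cases hs : sign g₀ = 1
  · exact ⟨g₀, hs, hfix, x, hx, harc⟩
  by_cases hf : 2 ≤ fx c
  · -- two fixed points of `c`: swap them
    obtain ⟨z, hz, z', hz', hne⟩ := Finset.one_lt_card.mp (show 1 < (univ.filter fun x => c x = x).card from hf)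
    simp only [mem_filter, mem_univ, true_and] at hz hz'
    have hcomm : swap z z' * c * (swap z z')⁻¹ = c := by
      have h1 : c * swap z z' * c⁻¹ = swap z z' := by
        rw [← swap_apply_apply, hz, hz']
      rw [swap_inv]
      have h2 : swap z z' * c = c * swap z z' := by
        calc swap z z' * c = (c * swap z z' * c⁻¹) * c := by rw [h1]
          _ = c * swap z z' := by group
      rw [h2, mul_assoc, swap_mul_self, mul_one]
    have hs' : sign (g₀ * swap z z') = 1 := by
      rw [Equiv.Perm.sign_mul, sign_swap hne]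
      rcases Int.units_eq_one_or (sign g₀) with h | h
      · exact absurd h hs
      · rw [h]; rfl
    have heq : (g₀ * swap z z') * c * (g₀ * swap z z')⁻¹ = g₀ * c * g₀⁻¹ := by
      calc (g₀ * swap z z') * c * (g₀ * swap z z')⁻¹
          = g₀ * (swap z z' * c * (swap z z')⁻¹) * g₀⁻¹ := by group
        _ = g₀ * c * g₀⁻¹ := by rw [hcomm]
    exact ⟨_, hs', by rw [heq]; exact hfix, x, hx, by rw [heq]; exact harc⟩
  · -- exactly one fixed point each
    have hf1 : fx b = 1 := by omega
    have hcard : ((univ.filter fun y => b y = y) ∪ {x, b x}).card + 2 ≤ Fintype.card Ω := by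
      have h1 := Finset.card_union_le (univ.filter fun y => b y = y) {x, b x}
      have h2 : (univ.filter fun y => b y = y).card = 1 := hf1
      have h3 := Finset.card_le_two (a := x) (b := b x)
      omega
    obtain ⟨w, w', hw, hw', hne⟩ := exists_two_outside _ hcard
    simp only [mem_union, mem_filter, mem_univ, true_and, mem_insert, mem_singleton, not_or]
      at hw hw'
    have hs' : sign (swap w w' * g₀) = 1 := sign_swap_mul_of_neg hs hne
    have heq : (swap w w' * g₀) * c * (swap w w' * g₀)⁻¹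
        = swap w w' * (g₀ * c * g₀⁻¹) * swap w w' := by
      rw [mul_inv_rev, swap_inv]; group
    refine ⟨_, hs', ?_, x, hx, ?_⟩
    · intro y hy
      have hy1 : y ≠ w := fun h => hw.1 (h ▸ hy)
      have hy2 : y ≠ w' := fun h => hw'.1 (h ▸ hy)
      rw [heq, Perm.mul_apply, Perm.mul_apply, swap_apply_of_ne_of_ne hy1 hy2, hfix y hy,
        swap_apply_of_ne_of_ne hy1 hy2]
    · have hx1 : x ≠ w := Ne.symm hw.2.1
      have hx2 : x ≠ w' := Ne.symm hw'.2.1
      have hbx1 : b x ≠ w := Ne.symm hw.2.2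
      have hbx2 : b x ≠ w' := Ne.symm hw'.2.2
      rw [heq, Perm.mul_apply, Perm.mul_apply, swap_apply_of_ne_of_ne hx1 hx2, harc,
        swap_apply_of_ne_of_ne hbx1 hbx2]

end arrangements

set_option maxRecDepth 100000 in
lemma five_decide : ∀ c : Perm (Fin 5), sign c = 1 →
    (univ.filter fun x => c x = x).card = 1 → c * c = 1 := by decide

/-- second arrangement: `b` without fixed points, `c` with exactly one -/
lemma arr2 {n : ℕ} (hn : 5 ≤ n) (c b : Perm (Fin n)) (hb : ∀ x, b x ≠ x) (hf : fx c = 1) :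
    ∃ g : Perm (Fin n), sign g = 1 ∧ ∃ x x', x ≠ x' ∧ (g * c * g⁻¹) x = b x ∧
      (g * c * g⁻¹) x' = b x' := by
  classical
  have hcd : Fintype.card (Fin n) = n := Fintype.card_fin n
  let x : Fin n := ⟨0, by omega⟩
  have hmoved : ∀ (c₀ : Perm (Fin n)), fx c₀ = 1 → ∀ S : Finset (Fin n), S.card ≤ 3 →
      ∃ u, u ∉ S ∧ c₀ u ≠ u := by
    intro c₀ h0 S hS
    have h1 : (S ∪ (univ.filter fun x => c₀ x = x)).card < n := by
      have h2 := Finset.card_union_le S (univ.filter fun x => c₀ x = x)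
      have h3 : (univ.filter fun x => c₀ x = x).card = 1 := h0
      omega
    have h2 : ∃ u, u ∉ (S ∪ (univ.filter fun x => c₀ x = x)) := by
      by_contra h
      push Not at h
      have : (S ∪ (univ.filter fun x => c₀ x = x)) = univ := Finset.eq_univ_iff_forall.mpr h
      rw [this, Finset.card_univ, hcd] at h1
      omega
    obtain ⟨u, hu⟩ := h2
    simp only [mem_union, mem_filter, mem_univ, true_and, not_or] at hu
    exact ⟨u, hu.1, hu.2⟩
  -- first alignment
  obtain ⟨u, -, hu⟩ := hmoved c hf ∅ (by simp)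
  obtain ⟨σ, -, hσ⟩ := align c (∅ : Set (Fin n)) (x := x) (y := b x) (u := u) (by simp) (by simp)
    (by simp) (by simp) (Ne.symm (hb x)) hu
  set c₃ := σ * c * σ⁻¹ with hc₃
  have hf₃ : fx c₃ = 1 := by rw [hc₃, fx_conj, hf]
  -- second alignment
  obtain ⟨u', hu'S, hu'⟩ := hmoved c₃ hf₃ {x, b x, c₃⁻¹ x} Finset.card_le_three
  simp only [mem_insert, mem_singleton, not_or] at hu'S
  obtain ⟨x', hx'⟩ : ∃ x', x' ∉ ({x, b x, b⁻¹ x} : Finset (Fin n)) := by
    by_contra h
    push Not at h
    have h1 : ({x, b x, b⁻¹ x} : Finset (Fin n)) = univ := Finset.eq_univ_iff_forall.mpr h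
    have h2 := Finset.card_le_three (a := x) (b := b x) (c := b⁻¹ x)
    rw [h1, Finset.card_univ, hcd] at h2
    omega
  simp only [mem_insert, mem_singleton, not_or] at hx'
  let T : Set (Fin n) := {x, b x}
  have hmemT : ∀ t, t ∈ T ↔ t = x ∨ t = b x := fun t => by simp [T]
  have h1 : u' ∉ T := by rw [hmemT]; simp [hu'S.1, hu'S.2.1]
  have h2 : c₃ u' ∉ T := by
    rw [hmemT]
    rintro (h | h)
    · apply hu'S.2.2
      rw [Perm.eq_inv_iff_eq]; exact h
    · apply hu'S.1
      apply c₃.injective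
      rw [h]; exact hσ.symm
  have h3 : x' ∉ T := by rw [hmemT]; simp [hx'.1, hx'.2.1]
  have h4 : b x' ∉ T := by
    rw [hmemT]
    rintro (h | h)
    · apply hx'.2.2
      rw [Perm.eq_inv_iff_eq]; exact h
    · exact hx'.1 (b.injective h)
  obtain ⟨σ', hσ'T, hσ'⟩ := align c₃ T h1 h2 h3 h4 (Ne.symm (hb x')) hu'
  set c₅ := σ' * c₃ * σ'⁻¹ with hc₅
  have hσ'x : σ' x = x := hσ'T x ((hmemT x).mpr (Or.inl rfl))
  have hσ'bx : σ' (b x) = b x := hσ'T _ ((hmemT _).mpr (Or.inr rfl))
  have hc₅x : c₅ x = b x := by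
    have h5 : σ'⁻¹ x = x := by rw [Perm.inv_eq_iff_eq]; exact hσ'x.symm
    rw [hc₅, Perm.mul_apply, Perm.mul_apply, h5]
    have h6 : c₃ x = b x := hσ
    rw [h6, hσ'bx]
  have hc₅x' : c₅ x' = b x' := hσ'
  set g₀ := σ' * σ with hg₀
  have hg₀c : g₀ * c * g₀⁻¹ = c₅ := by
    rw [hc₅, hc₃, hg₀]; group
  have hne : x ≠ x' := Ne.symm hx'.1
  have hf₅ : fx c₅ = 1 := by rw [hc₅, fx_conj, hf₃]
  by_cases hs : sign g₀ = 1
  · exact ⟨g₀, hs, x, x', hne, by rw [hg₀c, hc₅x], by rw [hg₀c, hc₅x']⟩
  by_cases h6 : 6 ≤ n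
  · have hcard : ({x, b x, x', b x'} : Finset (Fin n)).card + 2 ≤ Fintype.card (Fin n) := by
      have := Finset.card_le_four (a := x) (b := b x) (c := x') (d := b x')
      omega
    obtain ⟨w, w', hw, hw', hnew⟩ := exists_two_outside _ hcard
    simp only [mem_insert, mem_singleton, not_or] at hw hw'
    have heq : (swap w w' * g₀) * c * (swap w w' * g₀)⁻¹ = swap w w' * c₅ * swap w w' := by
      rw [← hg₀c, mul_inv_rev, swap_inv]; group
    refine ⟨_, sign_swap_mul_of_neg hs hnew, x, x', hne, ?_, ?_⟩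
    · rw [heq, Perm.mul_apply, Perm.mul_apply,
        swap_apply_of_ne_of_ne (Ne.symm hw.1) (Ne.symm hw'.1), hc₅x,
        swap_apply_of_ne_of_ne (Ne.symm hw.2.1) (Ne.symm hw'.2.1)]
    · rw [heq, Perm.mul_apply, Perm.mul_apply,
        swap_apply_of_ne_of_ne (Ne.symm hw.2.2.1) (Ne.symm hw'.2.2.1), hc₅x',
        swap_apply_of_ne_of_ne (Ne.symm hw.2.2.2) (Ne.symm hw'.2.2.2)]
  · have hn5 : n = 5 := by omega
    have hinv : ∀ (s : Perm (Fin n)), s * c₅ * s⁻¹ = c₅ → ¬ sign s = 1 →
        ∃ g : Perm (Fin n), sign g = 1 ∧ ∃ x x', x ≠ x' ∧ (g * c * g⁻¹) x = b x ∧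
          (g * c * g⁻¹) x' = b x' := by
      intro s hs1 hs2
      have heq : (s * g₀) * c * (s * g₀)⁻¹ = c₅ := by
        rw [← hs1, ← hg₀c]; group
      refine ⟨s * g₀, ?_, x, x', hne, by rw [heq, hc₅x], by rw [heq, hc₅x']⟩
      rw [Equiv.Perm.sign_mul]
      rcases Int.units_eq_one_or (sign g₀) with h | h
      · exact absurd h hs
      · rcases Int.units_eq_one_or (sign s) with h' | h'
        · exact absurd h' hs2
        · rw [h, h']; rfl
    by_cases hsc : sign c₅ = 1
    · have hsq : c₅ * c₅ = 1 := by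
        clear_value c₅
        subst hn5
        exact five_decide c₅ hsc hf₅
      have hbx : c₅ (b x) = x := by
        have := congrArg (fun p : Perm (Fin n) => p x) hsq
        simp only [Perm.mul_apply, hc₅x, Perm.one_apply] at this
        exact this
      have hne2 : x ≠ b x := Ne.symm (hb x)
      refine hinv (swap x (b x)) ?_ ?_
      · have h1 : c₅ * swap x (b x) * c₅⁻¹ = swap x (b x) := by
          rw [← swap_apply_apply, hc₅x, hbx, swap_comm]
        rw [swap_inv]
        have h2 : swap x (b x) * c₅ = c₅ * swap x (b x) := by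
          calc swap x (b x) * c₅ = (c₅ * swap x (b x) * c₅⁻¹) * c₅ := by rw [h1]
            _ = c₅ * swap x (b x) := by group
        rw [h2, mul_assoc, swap_mul_self, mul_one]
      · rw [sign_swap hne2]; decide
    · refine hinv c₅ ?_ hsc
      group

section core

theorem core {n : ℕ} (hn : 5 ≤ n) (c b : Perm (Fin n)) (hc : c ≠ 1) (hb : b ≠ 1)
    (hle : fx b ≤ fx c) (m : ℕ)
    (hm : ∀ g : Perm (Fin n), sign g = 1 → agr (g * c * g⁻¹) b = m) : False := by
  classical
  have hcd : Fintype.card (Fin n) = n := Fintype.card_fin n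
  obtain ⟨k, hk⟩ : ∃ k, k + 1 = n := ⟨n - 1, by omega⟩
  have hfn : ∀ p : Perm (Fin n), fx p ≤ n := by
    intro p
    have := Finset.card_filter_le (univ : Finset (Fin n)) (fun x => p x = x)
    rw [Finset.card_univ, hcd] at this
    exact this
  have hfc : fx c < n := by
    by_contra h
    have h1 : fx c = n := le_antisymm (hfn c) (by omega)
    have h2 : (univ.filter fun x => c x = x) = univ := by
      apply Finset.eq_univ_of_card
      rw [hcd]; exact h1
    apply hc
    ext x
    have := Finset.mem_univ x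
    rw [← h2] at this
    simpa using congrArg _ (Finset.mem_filter.mp this).2
  obtain ⟨E, hE⟩ : ∃ E, fx b + E = n := ⟨n - fx b, by have := hfn b; omega⟩
  obtain ⟨F, hF⟩ : ∃ F, fx c + F = n := ⟨n - fx c, by omega⟩
  have hmean := mean_formula (by rw [hcd]; omega) c b m hm k E F (by rw [hcd]; exact hk)
    (by rw [hcd]; exact hE) (by rw [hcd]; exact hF)
  rw [show k + 1 = n from hk] at hmean
  rcases Nat.eq_zero_or_pos (fx b) with he | he
  · -- `b` has no fixed points
    have hE' : E = n := by omega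
    rw [he, hE', zero_mul, zero_mul, zero_add] at hmean
    have hmk : m * k = F := by
      have hnpos : 0 < n := by omega
      apply Nat.eq_of_mul_eq_mul_left hnpos
      rw [← hmean]; ring
    have hFpos : 0 < F := by omega
    have hm1 : m = 1 := by
      rcases m with _ | _ | m
      · simp at hmk; omega
      · rfl
      · exfalso
        have : (m + 1 + 1) * k ≥ 2 * k := Nat.mul_le_mul_right k (by omega)
        omega
    have hFk : F = k := by rw [← hmk, hm1, one_mul]
    have hf1 : fx c = 1 := by omega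
    have hbfp : ∀ x, b x ≠ x := by
      intro x hx
      have : x ∈ (univ.filter fun x => b x = x) := by simp [hx]
      have h0 : (univ.filter fun x => b x = x) = ∅ := Finset.card_eq_zero.mp he
      rw [h0] at this
      simp at this
    obtain ⟨g, hg, x, x', hne, h1, h2⟩ := arr2 hn c b hbfp hf1
    have h3 := hm g hg
    have h4 : 2 ≤ agr (g * c * g⁻¹) b := by
      have h5 : ({x, x'} : Finset (Fin n)) ⊆ (univ.filter fun x => (g * c * g⁻¹) x = b x) := by
        intro y hy
        simp only [mem_insert, mem_singleton] at hy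
        rcases hy with rfl | rfl
        · exact mem_filter.mpr ⟨mem_univ _, h1⟩
        · exact mem_filter.mpr ⟨mem_univ _, h2⟩
      have h6 := Finset.card_le_card h5
      rw [Finset.card_pair hne] at h6
      exact h6
    omega
  · -- `b` has a fixed point
    obtain ⟨g, hg, hfix, x, hx, harc⟩ := arr1 (by rw [hcd]; exact hn) c b hc hb he hle
    have h3 := hm g hg
    have h4 : fx b + 1 ≤ agr (g * c * g⁻¹) b := by
      have h5 : insert x (univ.filter fun y => b y = y) ⊆
          (univ.filter fun y => (g * c * g⁻¹) y = b y) := by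
        intro y hy
        simp only [mem_insert, mem_filter, mem_univ, true_and] at hy ⊢
        rcases hy with rfl | hy
        · exact harc
        · rw [hy, hfix y hy]
      have h6 := Finset.card_le_card h5
      rw [Finset.card_insert_of_notMem (by simpa using hx)] at h6
      exact h6
    have h5 : (fx b + 1) * n * k ≤ m * n * k := by
      apply Nat.mul_le_mul_right
      apply Nat.mul_le_mul_right
      omega
    have h7 : fx b * fx c * k + E * F < (fx b + 1) * n * k := by
      have hEk : E ≤ k := by omega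
      have hFn : F ≤ n := by omega
      have hkpos : 0 < k := by omega
      have hfk : fx c ≤ k := by omega
      have h8 : E * F ≤ k * n := Nat.mul_le_mul hEk hFn
      have h9 : fx b * fx c * k ≤ fx b * k * k := by
        apply Nat.mul_le_mul_right
        apply Nat.mul_le_mul_left
        exact hfk
      have h10' : ∀ e : ℕ, 0 < e → e * k * k + k * (k + 1) < (e + 1) * (k + 1) * k := by
        intro e he'
        nlinarith [Nat.mul_pos he' hkpos]
      have h10 : fx b * k * k + k * n < (fx b + 1) * n * k := by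
        have := h10' (fx b) he
        rwa [hk] at this
      omega
    omega

end core

lemma card_fixedPoints {n : ℕ} (σ : Perm (Fin n)) :
    Nat.card (Function.fixedPoints ⇑σ) = fx σ := by
  classical
  have : Nat.card (Function.fixedPoints ⇑σ) =
      Nat.card {x // x ∈ (univ.filter fun x => σ x = x)} := by
    apply Nat.card_congr
    refine Equiv.subtypeEquivRight ?_
    intro x
    simp [Function.mem_fixedPoints, Function.IsFixedPt]
  rw [this, Nat.card_eq_fintype_card, Fintype.card_coe]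
  rfl

theorem result (n : ℕ) (hn : 5 ≤ n) (a b : Equiv.Perm (Fin n)) (ha : a ≠ 1) (hb : b ≠ 1) :
    ∃ g₁ h₁ g₂ h₂ : Equiv.Perm (Fin n), g₁ ∈ alternatingGroup (Fin n) ∧ h₁ ∈ alternatingGroup (Fin n) ∧ g₂ ∈ alternatingGroup (Fin n) ∧ h₂ ∈ alternatingGroup (Fin n) ∧
      Nat.card (Function.fixedPoints ⇑(g₁ * a * g₁⁻¹ * (h₁ * b * h₁⁻¹))) ≠
        Nat.card (Function.fixedPoints ⇑(g₂ * a * g₂⁻¹ * (h₂ * b * h₂⁻¹))) := by
  classical
  by_contra hcon
  push Not at hcon
  have hall : ∀ g : Perm (Fin n), sign g = 1 →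
      agr (g * a⁻¹ * g⁻¹) b = fx (a * b) := by
    intro g hg
    have h1 := hcon g 1 1 1 (by simpa [mem_alternatingGroup] using hg) (one_mem _) (one_mem _)
      (one_mem _)
    simp only [one_mul, inv_one, mul_one] at h1
    rw [card_fixedPoints, card_fixedPoints] at h1
    rw [← h1]
    unfold agr fx
    apply congrArg Finset.card
    ext x
    rw [mem_filter, mem_filter]
    simp only [mem_univ, true_and, Perm.mul_apply]
    constructor
    · intro h
      rw [← h]; simp
    · intro h
      have h3 : a (g⁻¹ (b x)) = g⁻¹ x := by rw [Perm.eq_inv_iff_eq]; exact h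
      have h4 : g⁻¹ (b x) = a⁻¹ (g⁻¹ x) := by rw [Perm.eq_inv_iff_eq]; exact h3
      rw [← h4]; simp
  have hc : a⁻¹ ≠ 1 := inv_ne_one.mpr ha
  rcases le_total (fx b) (fx a⁻¹) with hle | hle
  · exact core hn a⁻¹ b hc hb hle _ hall
  · refine core hn b a⁻¹ hb hc hle (fx (a * b)) ?_
    intro g hg
    rw [agr_conj]
    have := hall g⁻¹ (by rw [sign_inv]; exact hg)
    simpa using this

end Cfsg.Agent.S2271
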