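import Mathlib
import Cfsg.Statements.S2272
-- import your own Cfsg.Agent.* helpers here

set_option autoImplicit false
open Cfsg

namespace Cfsg.Agent.S2272

section Helpers
open Matrix Module

section LI
variable {F : Type*} [Field F] {V : Type*} [AddCommGroup V] [Module F V]

lemma li2_cons {a b c : V} (h : LinearIndependent F ![a, b]) (hc : c ∉ Submodule.span F {a, b}) :
    LinearIndependent F ![a, b, c] := by
  rw [Fintype.linearIndependent_iff] at h ⊢
  intro g hg
  simp only [Fin.sum_univ_three, Matrix.cons_val_zero, Matrix.cons_val_one, Matrix.cons_val] at hg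
  have hg2 : g 2 = 0 := by
    by_contra hne
    apply hc
    have : c = (-(g 2)⁻¹ * g 0) • a + (-(g 2)⁻¹ * g 1) • b := by
      have h1 : g 2 • c = -(g 0 • a + g 1 • b) := by
        rw [eq_neg_iff_add_eq_zero, add_comm]; exact hg
      calc c = (g 2)⁻¹ • (g 2 • c) := by rw [smul_smul, inv_mul_cancel₀ hne, one_smul]
        _ = _ := by
          rw [h1, smul_neg, smul_add, smul_smul, smul_smul, neg_add, ← neg_smul, ← neg_smul]
          simp only [neg_mul]
    rw [this]
    exact Submodule.add_mem _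
      (Submodule.smul_mem _ _ (Submodule.subset_span (by simp)))
      (Submodule.smul_mem _ _ (Submodule.subset_span (by simp)))
  have h2 := h (fun i => g (Fin.castSucc i)) (by
    simp only [Fin.sum_univ_two, Matrix.cons_val_zero, Matrix.cons_val_one]
    rw [hg2, zero_smul, add_zero] at hg
    simpa using hg)
  intro i
  fin_cases i
  · simpa using h2 0
  · simpa using h2 1
  · exact hg2

lemma li3_cons {a b c d : V} (h : LinearIndependent F ![a, b, c])
    (hd : d ∉ Submodule.span F {a, b, c}) :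
    LinearIndependent F ![a, b, c, d] := by
  rw [Fintype.linearIndependent_iff] at h ⊢
  intro g hg
  simp only [Fin.sum_univ_four, Matrix.cons_val_zero, Matrix.cons_val_one, Matrix.cons_val] at hg
  have hg3 : g 3 = 0 := by
    by_contra hne
    apply hd
    have : d = (-(g 3)⁻¹ * g 0) • a + (-(g 3)⁻¹ * g 1) • b + (-(g 3)⁻¹ * g 2) • c := by
      have h1 : g 3 • d = -(g 0 • a + g 1 • b + g 2 • c) := by
        rw [eq_neg_iff_add_eq_zero, add_comm]; exact hg
      calc d = (g 3)⁻¹ • (g 3 • d) := by rw [smul_smul, inv_mul_cancel₀ hne, one_smul]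
        _ = _ := by
          rw [h1, smul_neg, smul_add, smul_add, smul_smul, smul_smul, smul_smul, neg_add, neg_add,
            ← neg_smul, ← neg_smul, ← neg_smul]
          simp only [neg_mul]
    rw [this]
    exact Submodule.add_mem _ (Submodule.add_mem _
      (Submodule.smul_mem _ _ (Submodule.subset_span (by simp)))
      (Submodule.smul_mem _ _ (Submodule.subset_span (by simp))))
      (Submodule.smul_mem _ _ (Submodule.subset_span (by simp)))
  have h2 := h (fun i => g (Fin.castSucc i)) (by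
    simp only [Fin.sum_univ_three, Matrix.cons_val_zero, Matrix.cons_val_one, Matrix.cons_val]
    rw [hg3, zero_smul, add_zero] at hg
    simpa using hg)
  intro i
  fin_cases i
  · simpa using h2 0
  · simpa using h2 1
  · simpa using h2 2
  · exact hg3

lemma li3_swap {a b c : V} (h : LinearIndependent F ![a, b, c]) :
    LinearIndependent F ![a, c, b] := by
  have h2 := h.comp (![0, 2, 1] : Fin 3 → Fin 3) (by decide)
  convert h2 using 1
  funext i
  fin_cases i <;> rfl

lemma exists_not_mem_two {p q : Submodule F V} (hp : p ≠ ⊤) (hq : q ≠ ⊤) :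
    ∃ x, x ∉ p ∧ x ∉ q := by
  obtain ⟨a, ha⟩ : ∃ a, a ∉ p := by
    by_contra h; push Not at h; exact hp (Submodule.eq_top_iff'.2 h)
  obtain ⟨b, hb⟩ : ∃ b, b ∉ q := by
    by_contra h; push Not at h; exact hq (Submodule.eq_top_iff'.2 h)
  by_cases haq : a ∈ q
  · by_cases hbp : b ∈ p
    · refine ⟨a + b, fun h => ha ?_, fun h => hb ?_⟩
      · have := Submodule.sub_mem _ h hbp; simpa using this
      · have := Submodule.sub_mem _ h haq; simpa using this
    · exact ⟨b, hbp, hb⟩
  · exact ⟨a, ha, haq⟩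

lemma sumExtend_inl {ι : Type*} {v : ι → V} (hv : LinearIndependent F v) (i : ι) :
    Basis.sumExtend hv (Sum.inl i) = v i := by
  classical
  simp [Basis.sumExtend, Equiv.Set.sumDiffSubset]
  rfl

lemma exists_equiv [FiniteDimensional F V] {ι : Type*} [Fintype ι] {x y : ι → V}
    (hx : LinearIndependent F x) (hy : LinearIndependent F y) :
    ∃ g : V ≃ₗ[F] V, ∀ i, g (x i) = y i := by
  classical
  let bx := Basis.sumExtend hx
  let by' := Basis.sumExtend hy
  have : Finite (ι ⊕ Basis.sumExtendIndex hx) := Module.Finite.finite_basis bx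
  have : Finite (ι ⊕ Basis.sumExtendIndex hy) := Module.Finite.finite_basis by'
  have : Finite (Basis.sumExtendIndex hx) := Finite.of_injective _ (Sum.inr_injective (α := ι))
  have : Finite (Basis.sumExtendIndex hy) := Finite.of_injective _ (Sum.inr_injective (α := ι))
  have hc : Nat.card (Basis.sumExtendIndex hx) = Nat.card (Basis.sumExtendIndex hy) := by
    have h1 := Module.finrank_eq_nat_card_basis bx
    have h2 := Module.finrank_eq_nat_card_basis by'
    rw [Nat.card_sum] at h1 h2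
    omega
  obtain ⟨e⟩ : Nonempty (Basis.sumExtendIndex hx ≃ Basis.sumExtendIndex hy) :=
    Finite.card_eq.1 hc
  refine ⟨bx.equiv by' (Equiv.sumCongr (Equiv.refl _) e), fun i => ?_⟩
  have := bx.equiv_apply (Sum.inl i) by' (Equiv.sumCongr (Equiv.refl _) e)
  simp only [Equiv.sumCongr_apply, Sum.map_inl, Equiv.refl_apply] at this
  rw [show x i = bx (Sum.inl i) from (sumExtend_inl hx i).symm, this]
  exact sumExtend_inl hy i

end LI

section SL
variable {F : Type*} [Field F] {n : Type*} [Fintype n] [DecidableEq n]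

lemma exists_SL {ι : Type*} [Fintype ι] [DecidableEq ι] {x y : ι → (n → F)}
    (hx : LinearIndependent F x) (hy : LinearIndependent F y) (i₀ : ι) :
    ∃ (G : SpecialLinearGroup n F) (c : F), c ≠ 0 ∧ G.1 *ᵥ x i₀ = c • y i₀ ∧
      ∀ i, i ≠ i₀ → G.1 *ᵥ x i = y i := by
  classical
  obtain ⟨g, hg⟩ := exists_equiv hx hy
  set δ : F := LinearMap.det g.toLinearMap with hδ
  have hδ0 : δ ≠ 0 := by
    have := LinearEquiv.isUnit_det' g
    exact this.ne_zero
  let b := Basis.sumExtend hy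
  let ψ : Dual F (n → F) := b.coord (Sum.inl i₀)
  have hψ : ∀ i, ψ (y i) = if i = i₀ then 1 else 0 := by
    intro i
    have : y i = b (Sum.inl i) := (sumExtend_inl hy i).symm
    rw [this]
    simp only [ψ, Basis.coord_apply, Basis.repr_self, Finsupp.single_apply]
    by_cases h : i = i₀
    · simp [h]
    · simp [h, Ne.symm h]
  let h := LinearMap.transvection ψ ((δ⁻¹ - 1) • y i₀)
  have hdet : LinearMap.det h = δ⁻¹ := by
    have := LinearMap.transvection.det ψ ((δ⁻¹ - 1) • y i₀)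
    rw [show LinearMap.det h = (LinearMap.transvection ψ ((δ⁻¹ - 1) • y i₀)).det from rfl, this]
    simp [hψ]
  let M : (n → F) →ₗ[F] (n → F) := h ∘ₗ g.toLinearMap
  have hM : LinearMap.det M = 1 := by
    simp only [M, LinearMap.det_comp, hdet, ← hδ]
    exact inv_mul_cancel₀ hδ0
  refine ⟨⟨LinearMap.toMatrix' M, by rw [LinearMap.det_toMatrix']; exact hM⟩, δ⁻¹, inv_ne_zero hδ0,
    ?_, fun i hi => ?_⟩
  · change LinearMap.toMatrix' M *ᵥ x i₀ = _
    rw [LinearMap.toMatrix'_mulVec]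
    simp only [M, LinearMap.comp_apply, LinearEquiv.coe_coe, hg, h, LinearMap.transvection.apply, hψ,
      if_true, one_smul, sub_smul, add_sub_cancel]
  · change LinearMap.toMatrix' M *ᵥ x i = _
    rw [LinearMap.toMatrix'_mulVec]
    simp [M, hg, h, LinearMap.transvection.apply, hψ, hi]

/-- the matrix identity for the transvection family -/
lemma trace_family (A B : Matrix n n F) (u ψ : n → F) (h : ψ ⬝ᵥ u = 0) (s : F) :
    trace (A * ((1 + s • vecMulVec u ψ) * B * (1 - s • vecMulVec u ψ))) =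
      trace (A * B) + s * (ψ ⬝ᵥ ((B * A - A * B) *ᵥ u))
        - s ^ 2 * ((ψ ⬝ᵥ (A *ᵥ u)) * (ψ ⬝ᵥ (B *ᵥ u))) := by
  have tr1 : ∀ X : Matrix n n F, trace (X * vecMulVec u ψ) = ψ ⬝ᵥ (X *ᵥ u) := by
    intro X
    rw [Matrix.mul_vecMulVec, Matrix.trace_vecMulVec, dotProduct_comm]
  set E := vecMulVec u ψ with hE
  have e1 : (1 + s • E) * B * (1 - s • E)
      = B + s • (E * B) - s • (B * E) - (s ^ 2) • (E * (B * E)) := by
    have h1 : (1 + s • E) * B = B + s • (E * B) := by
      rw [Matrix.add_mul, Matrix.one_mul, Matrix.smul_mul]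
    rw [h1, Matrix.mul_sub, Matrix.mul_one, Matrix.add_mul, Matrix.mul_smul, Matrix.smul_mul,
      Matrix.mul_smul, smul_smul, pow_two, Matrix.mul_assoc]
    abel
  rw [e1]
  have e2 : E * (B * E) = (ψ ⬝ᵥ (B *ᵥ u)) • E := by
    ext i j
    simp only [hE, Matrix.mul_vecMulVec, Matrix.mul_apply, vecMulVec_apply, Matrix.smul_apply,
      smul_eq_mul, dotProduct, Finset.sum_mul, Finset.mul_sum]
    refine Finset.sum_congr rfl fun k _ => ?_
    ring
  rw [e2]
  have e3 : trace (A * (E * B)) = ψ ⬝ᵥ ((B * A) *ᵥ u) := by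
    rw [← Matrix.mul_assoc, Matrix.trace_mul_comm, ← Matrix.mul_assoc, tr1]
  have e4 : trace (A * (B * E)) = ψ ⬝ᵥ ((A * B) *ᵥ u) := by
    rw [← Matrix.mul_assoc, tr1]
  have e5 : trace (A * E) = ψ ⬝ᵥ (A *ᵥ u) := tr1 A
  simp only [Matrix.mul_sub, Matrix.mul_add, Matrix.mul_smul, trace_sub, trace_add, trace_smul,
    smul_eq_mul, e3, e4, e5, Matrix.sub_mulVec, dotProduct_sub]
  ring

lemma span_ne_top_of_card {V : Type*} [AddCommGroup V] [Module F V] [FiniteDimensional F V]
    [DecidableEq V] {s : Finset V} (h : s.card < finrank F V) :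
    Submodule.span F (s : Set V) ≠ ⊤ := by
  intro h'
  have := finrank_span_finset_le_card (R := F) s
  rw [Set.finrank, h', finrank_top] at this
  omega

lemma exists_psi {W : Submodule F (n → F)} {D : n → F} (hD : D ∉ W) :
    ∃ ψ : n → F, (∀ x ∈ W, ψ ⬝ᵥ x = 0) ∧ ψ ⬝ᵥ D ≠ 0 := by
  obtain ⟨f, hf, hW⟩ := Submodule.exists_le_ker_of_notMem hD
  have hrep : ∀ x, (fun i => f (Pi.single i 1)) ⬝ᵥ x = f x := by
    intro x
    conv_rhs => rw [LinearMap.pi_apply_eq_sum_univ f x]
    simp only [dotProduct, smul_eq_mul]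
    refine Finset.sum_congr rfl fun i _ => ?_
    rw [mul_comm]
    congr 2
    ext j
    simp [Pi.single_apply, eq_comm]
  refine ⟨fun i => f (Pi.single i 1), fun x hx => ?_, ?_⟩
  · rw [hrep]; exact hW hx
  · rw [hrep]; exact hf

lemma sl_mul_val (X Y : SpecialLinearGroup n F) : (X * Y).1 = X.1 * Y.1 := rfl

lemma sl_one_val : (1 : SpecialLinearGroup n F).1 = 1 := rfl

lemma sl_conj_mulVec (G B : SpecialLinearGroup n F) (x : n → F) :
    (G * B * G⁻¹).1 *ᵥ (G.1 *ᵥ x) = G.1 *ᵥ (B.1 *ᵥ x) := by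
  have : (G * B * G⁻¹).1 * G.1 = G.1 * B.1 := by
    rw [← sl_mul_val, ← sl_mul_val, inv_mul_cancel_right]
  rw [Matrix.mulVec_mulVec, this, ← Matrix.mulVec_mulVec]

lemma key_finish (A B G : SpecialLinearGroup n F) (u : n → F)
    (hD : A.1 *ᵥ ((G * B * G⁻¹).1 *ᵥ u) - (G * B * G⁻¹).1 *ᵥ (A.1 *ᵥ u)
      ∉ Submodule.span F {u, A.1 *ᵥ u}) :
    ∃ (G : SpecialLinearGroup n F) (u ψ : n → F), ψ ⬝ᵥ u = 0 ∧ ψ ⬝ᵥ (A.1 *ᵥ u) = 0 ∧
      ψ ⬝ᵥ (((G * B * G⁻¹).1 * A.1 - A.1 * (G * B * G⁻¹).1) *ᵥ u) ≠ 0 := by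
  obtain ⟨ψ, h1, h2⟩ := exists_psi hD
  refine ⟨G, u, ψ, h1 _ (Submodule.subset_span (by simp)), h1 _ (Submodule.subset_span (by simp)), ?_⟩
  have : ((G * B * G⁻¹).1 * A.1 - A.1 * (G * B * G⁻¹).1) *ᵥ u
      = -(A.1 *ᵥ ((G * B * G⁻¹).1 *ᵥ u) - (G * B * G⁻¹).1 *ᵥ (A.1 *ᵥ u)) := by
    rw [Matrix.sub_mulVec, ← Matrix.mulVec_mulVec, ← Matrix.mulVec_mulVec, neg_sub]
  rw [this, dotProduct_neg]
  exact neg_ne_zero.2 h2

lemma key (A B : SpecialLinearGroup n F) (hd : 3 ≤ Fintype.card n)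
    (hA : ∃ u : n → F, LinearIndependent F ![u, A.1 *ᵥ u])
    (hB : ∃ u : n → F, LinearIndependent F ![u, B.1 *ᵥ u]) :
    ∃ (G : SpecialLinearGroup n F) (u ψ : n → F), ψ ⬝ᵥ u = 0 ∧ ψ ⬝ᵥ (A.1 *ᵥ u) = 0 ∧
      ψ ⬝ᵥ (((G * B * G⁻¹).1 * A.1 - A.1 * (G * B * G⁻¹).1) *ᵥ u) ≠ 0 := by
  classical
  obtain ⟨u, hu⟩ := hA
  obtain ⟨u1, hu1⟩ := hB
  have hfin : finrank F (n → F) = Fintype.card n := Module.finrank_fintype_fun_eq_card F
  have hpair : ∀ a b : n → F, Submodule.span F {a, b} ≠ ⊤ := by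
    intro a b
    have := span_ne_top_of_card (F := F) (V := n → F) (s := {a, b})
      (by rw [hfin]; exact lt_of_le_of_lt (Finset.card_le_two) (by omega))
    simpa using this
  set Au := A.1 *ᵥ u with hAu
  set W := Submodule.span F {u, Au} with hW
  have hWtop : W ≠ ⊤ := hpair _ _
  have hWc : W.comap (Matrix.mulVecLin A.1) ≠ ⊤ := by
    intro h
    apply hWtop
    rw [Submodule.eq_top_iff']
    intro x
    have hx : (A⁻¹).1 *ᵥ x ∈ W.comap (Matrix.mulVecLin A.1) := by rw [h]; trivial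
    rw [Submodule.mem_comap, Matrix.mulVecLin_apply, Matrix.mulVec_mulVec,
      ← sl_mul_val, mul_inv_cancel, sl_one_val, Matrix.one_mulVec] at hx
    exact hx
  obtain ⟨u2, hu2⟩ : ∃ u2, u2 ∉ Submodule.span F {u1, B.1 *ᵥ u1} := by
    by_contra h
    push Not at h
    exact hpair u1 (B.1 *ᵥ u1) (Submodule.eq_top_iff'.2 h)
  have hAw : ∀ (w : n → F) (c : F), (A.1 *ᵥ (c • w) = c • (A.1 *ᵥ w)) :=
    fun w c => Matrix.mulVec_smul _ _ _
  by_cases hz : B.1 *ᵥ u2 ∈ Submodule.span F {u1, u2, B.1 *ᵥ u1}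
  · -- second case
    obtain ⟨α, t, ht, hα⟩ := Submodule.mem_span_insert.1 hz
    obtain ⟨β, γ, hβ⟩ := Submodule.mem_span_pair.1 ht
    set u3 := u2 - γ • u1 with hu3
    have hu3' : u3 ∉ Submodule.span F {u1, B.1 *ᵥ u1} := by
      intro h
      apply hu2
      have : u2 = u3 + γ • u1 := by rw [hu3]; abel
      rw [this]
      exact Submodule.add_mem _ h (Submodule.smul_mem _ _ (Submodule.subset_span (by simp)))
    have hx : LinearIndependent F ![u1, u3, B.1 *ᵥ u1] := li3_swap (li2_cons hu1 hu3')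
    obtain ⟨w, hw1, hw2⟩ := exists_not_mem_two hWtop hWc
    have hy : LinearIndependent F ![u, Au, w] := li2_cons hu hw1
    obtain ⟨G, c, hc, h2, hrest⟩ := exists_SL hx hy (2 : Fin 3)
    have h0 : G.1 *ᵥ u1 = u := hrest 0 (by decide)
    have h1 : G.1 *ᵥ u3 = Au := hrest 1 (by decide)
    have h2' : G.1 *ᵥ (B.1 *ᵥ u1) = c • w := h2
    have hBu : (G * B * G⁻¹).1 *ᵥ u = c • w := by
      rw [← h0, sl_conj_mulVec, h2']
    have hBAu : (G * B * G⁻¹).1 *ᵥ Au = (α + β * γ) • u + β • Au := by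
      have e : B.1 *ᵥ u3 = (α + β * γ) • u1 + β • u3 := by
        rw [hu3, Matrix.mulVec_sub, Matrix.mulVec_smul, hα, ← hβ]
        simp only [smul_sub, add_smul, smul_smul, mul_comm]
        abel
      rw [← h1, sl_conj_mulVec, e, Matrix.mulVec_add, Matrix.mulVec_smul, Matrix.mulVec_smul, h0, h1]
    apply key_finish A B G u
    rw [hBu, hBAu]
    intro hmem
    apply hw2
    rw [Submodule.mem_comap, Matrix.mulVecLin_apply]
    have h3 : A.1 *ᵥ (c • w) ∈ W := by
      have := Submodule.add_mem _ hmem (show (α + β * γ) • u + β • Au ∈ W from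
        Submodule.add_mem _ (Submodule.smul_mem _ _ (Submodule.subset_span (by simp)))
          (Submodule.smul_mem _ _ (Submodule.subset_span (by simp))))
      simpa using this
    rw [hAw] at h3
    exact (Submodule.smul_mem_iff _ hc).1 h3
  · -- first case
    have hx : LinearIndependent F ![u1, u2, B.1 *ᵥ u1, B.1 *ᵥ u2] :=
      li3_cons (li3_swap (li2_cons hu1 hu2)) hz
    have hc4 : 4 ≤ Fintype.card n := by
      have := hx.fintype_card_le_finrank
      simpa [hfin] using this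
    have htriple : ∀ a b c : n → F, Submodule.span F {a, b, c} ≠ ⊤ := by
      intro a b c
      have := span_ne_top_of_card (F := F) (V := n → F) (s := {a, b, c})
        (by rw [hfin]; exact lt_of_le_of_lt (Finset.card_le_three) (by omega))
      simpa using this
    obtain ⟨w, hw⟩ : ∃ w, w ∉ W := by
      by_contra h
      push Not at h
      exact hWtop (Submodule.eq_top_iff'.2 h)
    obtain ⟨z, hz1, hz2⟩ := exists_not_mem_two (htriple u Au w) (htriple u Au (A.1 *ᵥ w))
    have hy : LinearIndependent F ![u, Au, w, z] := li3_cons (li2_cons hu hw) hz1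
    obtain ⟨G, c, hc, h2, hrest⟩ := exists_SL hx hy (2 : Fin 4)
    have h0 : G.1 *ᵥ u1 = u := hrest 0 (by decide)
    have h1 : G.1 *ᵥ u2 = Au := hrest 1 (by decide)
    have h2' : G.1 *ᵥ (B.1 *ᵥ u1) = c • w := h2
    have h3 : G.1 *ᵥ (B.1 *ᵥ u2) = z := hrest 3 (by decide)
    have hBu : (G * B * G⁻¹).1 *ᵥ u = c • w := by
      rw [← h0, sl_conj_mulVec, h2']
    have hBAu : (G * B * G⁻¹).1 *ᵥ Au = z := by
      rw [← h1, sl_conj_mulVec, h3]
    apply key_finish A B G u
    rw [hBu, hBAu]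
    intro hmem
    apply hz2
    rw [hAw] at hmem
    have e : z = c • (A.1 *ᵥ w) - (c • (A.1 *ᵥ w) - z) := by abel
    rw [e]
    refine Submodule.sub_mem _ (Submodule.smul_mem _ _ (Submodule.subset_span (by simp))) ?_
    exact (Submodule.span_mono (by
      intro x hx
      simp only [Set.mem_insert_iff, Set.mem_singleton_iff] at hx ⊢
      tauto)) hmem

/-- the transvection as an element of SL -/
noncomputable def tv (u ψ : n → F) (h : ψ ⬝ᵥ u = 0) (s : F) : SpecialLinearGroup n F :=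
  ⟨1 + s • vecMulVec u ψ, by
    have := Matrix.det_one_add_replicateCol_mul_replicateRow (ι := Unit) (s • u) ψ
    rw [← Matrix.vecMulVec_eq, smul_vecMulVec, dotProduct_smul, h, smul_zero, add_zero] at this
    exact this⟩

lemma tv_val (u ψ : n → F) (h : ψ ⬝ᵥ u = 0) (s : F) :
    (tv u ψ h s).1 = 1 + s • vecMulVec u ψ := rfl

lemma tv_inv (u ψ : n → F) (h : ψ ⬝ᵥ u = 0) (s : F) :
    (tv u ψ h s)⁻¹ = tv u ψ h (-s) := by
  apply inv_eq_of_mul_eq_one_right
  apply Subtype.ext
  rw [sl_mul_val, tv_val, tv_val, sl_one_val]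
  have hE : vecMulVec u ψ * vecMulVec u ψ = 0 := by
    ext i j
    simp only [Matrix.mul_apply, vecMulVec_apply, Matrix.zero_apply]
    have : ∑ k, u i * ψ k * (u k * ψ j) = u i * (ψ ⬝ᵥ u) * ψ j := by
      simp only [dotProduct, Finset.mul_sum, Finset.sum_mul]
      refine Finset.sum_congr rfl fun k _ => ?_
      ring
    rw [this, h]
    ring
  rw [Matrix.add_mul, Matrix.one_mul, Matrix.mul_add, Matrix.mul_one, Matrix.smul_mul,
    Matrix.mul_smul, hE]
  simp

lemma trace_values (A B : SpecialLinearGroup n F) (hd : 3 ≤ Fintype.card n)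
    (hA : ∃ u : n → F, LinearIndependent F ![u, A.1 *ᵥ u])
    (hB : ∃ u : n → F, LinearIndependent F ![u, B.1 *ᵥ u]) :
    ∃ h₀ h₁ : SpecialLinearGroup n F,
      trace (A.1 * (h₀ * B * h₀⁻¹).1) = 0 ∧ trace (A.1 * (h₁ * B * h₁⁻¹).1) ≠ 0 := by
  obtain ⟨G, u, ψ, hu, hAu, hc⟩ := key A B hd hA hB
  set B' := G * B * G⁻¹ with hB'
  set c := ψ ⬝ᵥ ((B'.1 * A.1 - A.1 * B'.1) *ᵥ u) with hcdef
  set T0 := trace (A.1 * B'.1) with hT0
  have hT : ∀ s : F, trace (A.1 * ((tv u ψ hu s * G) * B * (tv u ψ hu s * G)⁻¹).1) = T0 + s * c := by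
    intro s
    have e : (tv u ψ hu s * G) * B * (tv u ψ hu s * G)⁻¹
        = tv u ψ hu s * B' * tv u ψ hu (-s) := by
      rw [← tv_inv, hB']
      group
    rw [e, sl_mul_val, sl_mul_val, tv_val, tv_val, neg_smul, ← sub_eq_add_neg, trace_family _ _ _ _ hu,
      hAu]
    simp [hT0, hcdef]
  refine ⟨tv u ψ hu (-T0 / c) * G, tv u ψ hu ((1 - T0) / c) * G, ?_, ?_⟩
  · rw [hT]
    field_simp
    ring
  · rw [hT]
    have : T0 + (1 - T0) / c * c = 1 := by
      field_simp
      ring
    rw [this]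
    exact one_ne_zero

lemma exists_li_of_not_center (A : SpecialLinearGroup n F)
    (hA : A ∉ Subgroup.center (SpecialLinearGroup n F)) :
    ∃ u : n → F, LinearIndependent F ![u, A.1 *ᵥ u] := by
  by_contra h
  push Not at h
  apply hA
  obtain ⟨a, ha⟩ := LinearMap.exists_eq_smul_id_of_forall_notLinearIndependent
    (f := Matrix.mulVecLin A.1) (fun v => h v)
  have hscalar : A.1 = Matrix.scalar n a := by
    ext i j
    have h2 := congrFun (congrArg (fun f => f (Pi.single j 1)) ha) i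
    simp only [Matrix.mulVecLin_apply, Matrix.mulVec_single_one, LinearMap.smul_apply,
      Module.End.one_apply, Pi.smul_apply, smul_eq_mul] at h2
    rw [show A.1 i j = (A.1).col j i from rfl, h2, Matrix.scalar_apply, Matrix.diagonal_apply]
    by_cases hij : i = j
    · simp [hij]
    · simp [hij, Pi.single_apply]
  rw [Matrix.SpecialLinearGroup.mem_center_iff]
  refine ⟨a, ?_, hscalar.symm⟩
  have := A.2
  rw [hscalar] at this
  simpa using this

end SL

section PSL
variable {F : Type*} [Field F] {n : Type*} [Fintype n] [DecidableEq n]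

theorem main_thm (hd : 3 ≤ Fintype.card n)
    (a b : Matrix.ProjectiveSpecialLinearGroup n F) (ha : a ≠ 1) (hb : b ≠ 1) :
    ∃ g h : Matrix.ProjectiveSpecialLinearGroup n F,
      ¬ IsConj (a * b) (g * a * g⁻¹ * (h * b * h⁻¹)) := by
  obtain ⟨A, rfl⟩ := QuotientGroup.mk_surjective a
  obtain ⟨B, rfl⟩ := QuotientGroup.mk_surjective b
  have hA : A ∉ Subgroup.center (SpecialLinearGroup n F) := fun h =>
    ha ((QuotientGroup.eq_one_iff A).2 h)
  have hB : B ∉ Subgroup.center (SpecialLinearGroup n F) := fun h =>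
    hb ((QuotientGroup.eq_one_iff B).2 h)
  obtain ⟨h₀, h₁, h0, h1⟩ := trace_values A B hd (exists_li_of_not_center A hA)
    (exists_li_of_not_center B hB)
  by_contra hcon
  push Not at hcon
  have c0 := hcon 1 (h₀ : SpecialLinearGroup n F ⧸ Subgroup.center (SpecialLinearGroup n F))
  have c1 := hcon 1 (h₁ : SpecialLinearGroup n F ⧸ Subgroup.center (SpecialLinearGroup n F))
  have c2 := c0.symm.trans c1
  simp only [one_mul, inv_one, mul_one] at c2
  obtain ⟨k, hk⟩ := isConj_iff.1 c2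
  obtain ⟨K, rfl⟩ := QuotientGroup.mk_surjective k
  have hk' : ((K * (A * (h₀ * B * h₀⁻¹)) * K⁻¹ : SpecialLinearGroup n F) :
      SpecialLinearGroup n F ⧸ Subgroup.center (SpecialLinearGroup n F))
      = ((A * (h₁ * B * h₁⁻¹) : SpecialLinearGroup n F) :
      SpecialLinearGroup n F ⧸ Subgroup.center (SpecialLinearGroup n F)) := by
    simpa using hk
  rw [QuotientGroup.eq, Matrix.SpecialLinearGroup.mem_center_iff] at hk'
  obtain ⟨r, -, hr⟩ := hk'
  -- X₁ = K X₀ K⁻¹ * r
  apply h1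
  have e : (A * (h₁ * B * h₁⁻¹)).1
      = (K * (A * (h₀ * B * h₀⁻¹)) * K⁻¹).1 * Matrix.scalar n r := by
    rw [hr, ← sl_mul_val, mul_inv_cancel_left]
  rw [← sl_mul_val, e, Matrix.scalar_apply]
  have : trace ((K * (A * (h₀ * B * h₀⁻¹)) * K⁻¹).1 * Matrix.diagonal fun _ => r)
      = r * trace (A.1 * (h₀ * B * h₀⁻¹).1) := by
    have e1 : ∀ M : Matrix n n F, M * Matrix.diagonal (fun _ => r) = r • M := by
      intro M
      ext i j
      rw [Matrix.mul_diagonal]
      simp [mul_comm]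
    rw [e1, trace_smul, smul_eq_mul, sl_mul_val, sl_mul_val, Matrix.trace_mul_comm,
      ← Matrix.mul_assoc, ← sl_mul_val K⁻¹ K, inv_mul_cancel, sl_one_val, Matrix.one_mul,
      sl_mul_val]
  rw [this, h0, mul_zero]

end PSL

end Helpers


/-- Let F be a finite field and d ≥ 3, and let a, b be non-identity elements of PSL_d(F). Then the product of the conjugacy classes of a and b is not a single conjugacy class: there are conjugates a′ of a and b′ of b such that a′b′ is not conjugate to ab. -/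
theorem result {F : Type*} [Field F] [Fintype F] (d : ℕ) (hd : 3 ≤ d)
    (a b : Matrix.ProjectiveSpecialLinearGroup (Fin d) F) (ha : a ≠ 1) (hb : b ≠ 1) :
    ∃ g h : Matrix.ProjectiveSpecialLinearGroup (Fin d) F, ¬ IsConj (a * b) (g * a * g⁻¹ * (h * b * h⁻¹)) := by
  exact main_thm (n := Fin d) (by simpa using hd) a b ha hb

end Cfsg.Agent.S2272
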