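import Mathlib
import Cfsg.Statements.S2418
import Cfsg.Agent.Lib.CoxCenter
import Cfsg.Agent.Lib.CoxB2
import Cfsg.Agent.Lib.CoxG2
import Cfsg.Agent.Lib.CoxD4
import Cfsg.Agent.Lib.CoxF4
import Cfsg.Agent.Lib.CoxE6
import Cfsg.Agent.Lib.CoxE7
import Cfsg.Agent.Lib.CoxE8

set_option autoImplicit false
set_option linter.unusedSectionVars false
set_option linter.unusedVariables false
open Cfsg

namespace Cfsg.Agent.S2418

open Cfsg.Agent.Lib.CoxOrder Cfsg.Agent.Lib.CoxCenter

theorem rep_coxeter {n : ℕ} (M : CoxeterMatrix (Fin n)) (A : ℕ → ℕ → ℤ)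
    (hrel : ∀ i j : Fin n, (R A i * R A j) ^ M i j = 1) :
    matRep M A hrel ((List.finRange n).map M.simple).prod = ((List.finRange n).map (R A)).prod := by
  rw [map_list_prod, List.map_map]
  have : (⇑(matRep M A hrel) ∘ M.simple) = R A := by
    funext i
    exact matRep_simple M A hrel i
  rw [this]

theorem rep_pow {n : ℕ} (M : CoxeterMatrix (Fin n)) (A : ℕ → ℕ → ℤ)
    (hrel : ∀ i j : Fin n, (R A i * R A j) ^ M i j = 1) (k : ℕ)
    (h : ((List.finRange n).map (R A)).prod ^ k = -1) :
    matRep M A hrel (((List.finRange n).map M.simple).prod ^ k) = -1 := by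
  rw [map_pow, rep_coxeter, h]

section B2
open Cfsg.Agent.Lib.CoxB2
theorem caseB2 : Nat.card (Subgroup.center M.Group) = 2 ∧
    Subgroup.center M.Group ≤ Subgroup.zpowers ((List.finRange 2).map M.simple).prod := by
  haveI := main.1
  exact center_of_neg M A hrel main.2.2 (by norm_num) (by decide +kernel) 0 (fun i => i.1)
    (by decide +kernel) _ 2 (rep_pow M A hrel 2 (by decide +kernel))
end B2

section G2
open Cfsg.Agent.Lib.CoxG2
theorem caseG2 : Nat.card (Subgroup.center M.Group) = 2 ∧
    Subgroup.center M.Group ≤ Subgroup.zpowers ((List.finRange 2).map M.simple).prod := by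
  haveI := main.1
  exact center_of_neg M A hrel main.2.2 (by norm_num) (by decide +kernel) 0 (fun i => i.1)
    (by decide +kernel) _ 3 (rep_pow M A hrel 3 (by decide +kernel))
end G2

section D4
open Cfsg.Agent.Lib.CoxD4
theorem caseD4 : Nat.card (Subgroup.center M.Group) = 2 ∧
    Subgroup.center M.Group ≤ Subgroup.zpowers ((List.finRange 4).map M.simple).prod := by
  haveI := main.1
  exact center_of_neg M A hrel main.2.2 (by norm_num) (by decide +kernel) 1 ![1, 0, 1, 1]
    (by decide +kernel) _ 3 (rep_pow M A hrel 3 (by decide +kernel))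
end D4

section F4
open Cfsg.Agent.Lib.CoxF4
theorem caseF4 : Nat.card (Subgroup.center M.Group) = 2 ∧
    Subgroup.center M.Group ≤ Subgroup.zpowers ((List.finRange 4).map M.simple).prod := by
  haveI := main.1
  exact center_of_neg M A hrel main.2.2 (by norm_num) (by decide +kernel) 0 (fun i => i.1)
    (by decide +kernel) _ 6 (rep_pow M A hrel 6 (by decide +kernel))
end F4

section E6
open Cfsg.Agent.Lib.CoxE6
theorem caseE6 : Nat.card (Subgroup.center M.Group) = 1 ∧
    Subgroup.center M.Group ≤ Subgroup.zpowers ((List.finRange 6).map M.simple).prod := by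
  haveI := main.1
  exact center_trivial M A hrel main.2.2 (by decide +kernel) 3 ![2, 1, 1, 0, 1, 2]
    (by decide +kernel) ![1, 0, -1, 0, 1, -1] (by decide +kernel) 0 (by decide +kernel) _
end E6

section E7
open Cfsg.Agent.Lib.CoxE7
theorem caseE7 : Nat.card (Subgroup.center M.Group) = 2 ∧
    Subgroup.center M.Group ≤ Subgroup.zpowers ((List.finRange 7).map M.simple).prod := by
  haveI := main.1
  exact center_of_neg M A hrel main.2.2 (by norm_num) (by decide +kernel) 3 ![2, 1, 1, 0, 1, 2, 3]
    (by decide +kernel) _ 9 (rep_pow M A hrel 9 (by decide +kernel))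
end E7

section E8
open Cfsg.Agent.Lib.CoxE8
theorem caseE8 : Nat.card (Subgroup.center M.Group) = 2 ∧
    Subgroup.center M.Group ≤ Subgroup.zpowers ((List.finRange 8).map M.simple).prod := by
  haveI := main.1
  exact center_of_neg M A hrel main.2.2 (by norm_num) (by decide +kernel) 3 ![2, 1, 1, 0, 1, 2, 3, 4]
    (by decide +kernel) _ 15 (rep_pow M A hrel 15 (by decide +kernel))
end E8

/-- For the Coxeter groups of types B₂, G₂, D₄, F₄, E₇, E₈ the centre has order 2 (the element acting as −1 on the root system) and is generated by a power of the Coxeter element `s₁ s₂ ⋯ s_l`; the Coxeter group of type E₆ has trivial centre. -/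
theorem result (c : (Σ n : ℕ, CoxeterMatrix (Fin n)) × ℕ)
    (hc : c ∈ [(⟨2, CoxeterMatrix.B 2⟩, 2), (⟨2, CoxeterMatrix.G₂⟩, 2), (⟨4, Cfsg.Lie.coxeterD4⟩, 2), (⟨4, CoxeterMatrix.F₄⟩, 2),
      (⟨6, CoxeterMatrix.E₆⟩, 1), (⟨7, CoxeterMatrix.E₇⟩, 2), (⟨8, CoxeterMatrix.E₈⟩, 2)]) :
    Nat.card (Subgroup.center c.1.2.Group) = c.2 ∧
      Subgroup.center c.1.2.Group ≤ Subgroup.zpowers ((List.finRange c.1.1).map c.1.2.simple).prod := by
  simp only [List.mem_cons, List.not_mem_nil, or_false] at hc
  rcases hc with rfl | rfl | rfl | rfl | rfl | rfl | rfl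
  · exact caseB2
  · exact caseG2
  · exact caseD4
  · exact caseF4
  · exact caseE6
  · exact caseE7
  · exact caseE8

end Cfsg.Agent.S2418
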