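import Mathlib
import Cfsg.Statements.S2468
import Cfsg.Agent.Lib.SLOrder

set_option autoImplicit false
open Cfsg

namespace Cfsg.Agent.S2468

open Polynomial Cfsg.Agent.Lib.SLSpec Cfsg.Agent.Lib.SLOrder Cfsg.Agent.Lib.GLSpec

section

variable {F : Type*} [Field F] [Fintype F]

lemma not_dvd_of_two_le (r : ℕ) (hk : 2 ≤ orderOf ((Fintype.card F : ℕ) : ZMod r)) : ¬ r ∣ Fintype.card F - 1 := by
  intro h
  have h1 : Fintype.card F - 1 = Fintype.card F ^ 1 - 1 := by rw [pow_one]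
  rw [h1] at h
  have h2 := orderOf_dvd_of_dvd r (Fintype.card F) 1 card_pos' h
  have h3 := Nat.le_of_dvd one_pos h2
  omega

lemma cast_ne_zero (p r : ℕ) [Fact p.Prime] [CharP F p] (hr : r.Prime) (hrp : r ≠ p) : (r : F) ≠ 0 := by
  intro h
  have h1 := (CharP.cast_eq_zero_iff F p r).1 h
  have hp : p.Prime := Fact.out
  exact hrp ((Nat.prime_dvd_prime_iff_eq hp hr).1 h1).symm

theorem result' {F : Type*} [Field F] [Fintype F] (p : ℕ) [Fact p.Prime] [CharP F p] (n : ℕ) (hn : 2 ≤ n) (hsmall : n = 2 → 4 ≤ Fintype.card F)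
    (r s : ℕ) (hr : r.Prime) (hs : s.Prime) (hr2 : r ≠ 2) (hs2 : s ≠ 2) (hrp : r ≠ p) (hsp : s ≠ p) (hrs : r ≠ s)
    (hrG : r ∣ Nat.card (Matrix.ProjectiveSpecialLinearGroup (Fin n) F)) (hsG : s ∣ Nat.card (Matrix.ProjectiveSpecialLinearGroup (Fin n) F))
    (k l : ℕ) (hk : k = orderOf ((Fintype.card F : ℕ) : ZMod r)) (hl : l = orderOf ((Fintype.card F : ℕ) : ZMod s))
    (h2k : 2 ≤ k) (hkl : k ≤ l) :
    (r * s ∉ Set.range (orderOf : Matrix.ProjectiveSpecialLinearGroup (Fin n) F → ℕ)) ↔ (n < k + l ∧ ¬ k ∣ l) := by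
  classical
  haveI : Fact r.Prime := ⟨hr⟩
  haveI : Fact s.Prime := ⟨hs⟩
  haveI : Finite (Matrix.ProjectiveSpecialLinearGroup (Fin n) F) :=
    Finite.of_surjective _ (proj_surjective (F := F) (n := n))
  set q := Fintype.card F with hq
  have hq1 : 1 ≤ q := card_pos'
  have hr1 : ¬ r ∣ q - 1 := not_dvd_of_two_le r (by rw [← hk]; exact h2k)
  have hs1 : ¬ s ∣ q - 1 := not_dvd_of_two_le s (by rw [← hl]; omega)
  have hrF := cast_ne_zero (F := F) p r hr hrp
  have hsF := cast_ne_zero (F := F) p s hs hsp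
  have hcopr : Nat.Coprime r (q - 1) := (Nat.Prime.coprime_iff_not_dvd hr).2 hr1
  have hcops : Nat.Coprime s (q - 1) := (Nat.Prime.coprime_iff_not_dvd hs).2 hs1
  have hcoprs : Nat.Coprime r s := (Nat.coprime_primes hr hs).2 hrs
  have hk0 : 0 < k := by omega
  have hl0 : 0 < l := by omega
  have hqk : r ∣ q ^ k - 1 := dvd_of_orderOf_dvd r q k hq1 (by rw [hk])
  have hql : s ∣ q ^ l - 1 := dvd_of_orderOf_dvd s q l hq1 (by rw [hl])
  have hn1 : 1 ≤ n := by omega
  -- `l ≤ n`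
  have hln : l ≤ n := by
    obtain ⟨x, hx⟩ := exists_prime_orderOf_dvd_card' s hsG
    obtain ⟨Y, hY1, hY2⟩ := exists_lift_of_coprime x s hx hcops hn1
    have h1 : (Y : Matrix (Fin n) (Fin n) F) ^ (1 * s) = 1 := by
      rw [one_mul, ← Matrix.SpecialLinearGroup.coe_pow, hY1]; rfl
    have h2 : (Y : Matrix (Fin n) (Fin n) F) ^ 1 ≠ 1 := by
      rw [pow_one]
      intro h0
      have h3 : Y = 1 := Subtype.ext h0
      rw [h3, map_one, orderOf_one] at hY2
      exact hs.one_lt.ne hY2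
    obtain ⟨π, hπ, hπm, -, hπs⟩ := exists_factor_of_pow _ s 1 hs hsF h1 h2
    have h3 := orderOf_dvd_of_dvd s q _ hq1 hπs
    rw [← hl] at h3
    have h4 := Nat.le_of_dvd hπ.natDegree_pos h3
    exact h4.trans (natDegree_le_of_dvd_minpoly _ _ hπm)
  constructor
  · intro hno
    by_contra hcon
    apply hno
    have hcoprs' : Nat.Coprime (r * s) (q - 1) := Nat.Coprime.mul_left hcopr hcops
    have hOrd : Ord F (r * s) n := by
      by_cases hkl2 : k ∣ l
      · have h1 : r ∣ q ^ l - 1 := by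
          apply dvd_of_orderOf_dvd r q l hq1
          rwa [← hk]
        have h2 : r * s ∣ q ^ l - 1 := hcoprs.mul_dvd_of_dvd_of_dvd h1 hql
        have h3 : Ord F (r * s) l := ord_of_dvd _ _ hl0 h2
        exact (h3.block (Ord.one (n - l))).cast (by simp) (by omega)
      · have hle : k + l ≤ n := by
          by_contra h0
          exact hcon ⟨by omega, hkl2⟩
        have h1 : Ord F r k := ord_of_dvd _ _ hk0 hqk
        have h2 : Ord F s l := ord_of_dvd _ _ hl0 hql
        have h3 := (h1.block h2).block (Ord.one (n - (k + l)))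
        refine h3.cast ?_ (by omega)
        rw [Nat.lcm_one_right, hcoprs.lcm_eq_mul]
    obtain ⟨g, hg⟩ := hOrd
    obtain ⟨x, hx⟩ := exists_proj_of_gl g _ hg hcoprs' hn1
    exact ⟨x, hx⟩
  · rintro ⟨hlt, hndvd⟩ ⟨x, hx⟩
    have hcoprs' : Nat.Coprime (r * s) (q - 1) := Nat.Coprime.mul_left hcopr hcops
    obtain ⟨Y, hY1, hY2⟩ := exists_lift_of_coprime x (r * s) hx hcoprs' hn1
    have hYc : ∀ t, (Y : Matrix (Fin n) (Fin n) F) ^ t = 1 → r * s ∣ t := by
      intro t ht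
      rw [← hY2]
      apply orderOf_dvd_of_pow_eq_one
      rw [← map_pow]
      have : Y ^ t = 1 := by
        apply Subtype.ext
        rw [Matrix.SpecialLinearGroup.coe_pow, ht]
        rfl
      rw [this, map_one]
    have hYr : (Y : Matrix (Fin n) (Fin n) F) ^ (r * s) = 1 := by
      rw [← Matrix.SpecialLinearGroup.coe_pow, hY1]; rfl
    have h1 : (Y : Matrix (Fin n) (Fin n) F) ^ s ≠ 1 := by
      intro h0
      have h3 := hYc s h0
      have h4 : r ∣ s := (Dvd.intro _ rfl).trans h3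
      exact hrs ((Nat.prime_dvd_prime_iff_eq hr hs).1 h4)
    have h2 : (Y : Matrix (Fin n) (Fin n) F) ^ r ≠ 1 := by
      intro h0
      have h3 := hYc r h0
      have h4 : s ∣ r := (Dvd.intro_left _ rfl).trans h3
      exact hrs ((Nat.prime_dvd_prime_iff_eq hs hr).1 h4).symm
    obtain ⟨π₁, hπ₁, hπ₁m, -, hπ₁r⟩ := exists_factor_of_pow _ r s hr hrF (by rw [mul_comm]; exact hYr) h1
    obtain ⟨π₂, hπ₂, hπ₂m, -, hπ₂s⟩ := exists_factor_of_pow _ s r hs hsF hYr h2
    have hk₁ : k ∣ π₁.natDegree := by rw [hk]; exact orderOf_dvd_of_dvd r q _ hq1 hπ₁r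
    have hl₂ : l ∣ π₂.natDegree := by rw [hl]; exact orderOf_dvd_of_dvd s q _ hq1 hπ₂s
    by_cases hdvd : π₁ ∣ π₂
    · have hassoc : Associated π₁ π₂ := hπ₁.associated_of_dvd hπ₂ hdvd
      have hdeg : π₁.natDegree = π₂.natDegree := natDegree_eq_of_degree_eq (degree_eq_degree_of_associated hassoc)
      have hlcm : Nat.lcm k l ∣ π₂.natDegree := Nat.lcm_dvd (hdeg ▸ hk₁) hl₂
      have hlcmle : Nat.lcm k l ≤ n :=
        (Nat.le_of_dvd hπ₂.natDegree_pos hlcm).trans (natDegree_le_of_dvd_minpoly _ _ hπ₂m)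
      obtain ⟨c, hc⟩ := Nat.dvd_lcm_right k l
      have hc2 : 2 ≤ c := by
        rcases c with _ | _ | c
        · rw [mul_zero] at hc
          have := Nat.lcm_pos hk0 hl0
          omega
        · rw [zero_add, mul_one] at hc
          exact absurd (hc ▸ Nat.dvd_lcm_left k l) hndvd
        · omega
      have h3 : 2 * l ≤ Nat.lcm k l := by
        rw [hc, mul_comm]
        exact Nat.mul_le_mul_left _ hc2
      omega
    · have hcop : IsCoprime π₁ π₂ := (hπ₁.coprime_iff_not_dvd).2 hdvd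
      have hprod : π₁ * π₂ ∣ minpoly F (Y : Matrix (Fin n) (Fin n) F) := hcop.mul_dvd hπ₁m hπ₂m
      have h3 := natDegree_le_of_dvd_minpoly _ _ hprod
      rw [natDegree_mul hπ₁.ne_zero hπ₂.ne_zero] at h3
      have h4 := Nat.le_of_dvd hπ₁.natDegree_pos hk₁
      have h5 := Nat.le_of_dvd hπ₂.natDegree_pos hl₂
      omega

end

/-- Adjacency of two odd primes in the prime graph of PSL(n,q): let F be a finite field of characteristic p with q elements, n ≥ 2 with PSL(n,F) simple, and let r ≠ s be odd primes different from p dividing the order of PSL(n,F). Let k and l be the multiplicative orders of q modulo r and modulo s, and suppose 2 ≤ k ≤ l. Then PSL(n,F) has NO element of order r·s if and only if k + l > n and k does not divide l. -/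
theorem result {F : Type*} [Field F] [Fintype F] (p : ℕ) [Fact p.Prime] [CharP F p] (n : ℕ) (hn : 2 ≤ n) (hsmall : n = 2 → 4 ≤ Fintype.card F)
    (r s : ℕ) (hr : r.Prime) (hs : s.Prime) (hr2 : r ≠ 2) (hs2 : s ≠ 2) (hrp : r ≠ p) (hsp : s ≠ p) (hrs : r ≠ s)
    (hrG : r ∣ Nat.card (Matrix.ProjectiveSpecialLinearGroup (Fin n) F)) (hsG : s ∣ Nat.card (Matrix.ProjectiveSpecialLinearGroup (Fin n) F))
    (k l : ℕ) (hk : k = orderOf ((Fintype.card F : ℕ) : ZMod r)) (hl : l = orderOf ((Fintype.card F : ℕ) : ZMod s))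
    (h2k : 2 ≤ k) (hkl : k ≤ l) :
    (r * s ∉ Set.range (orderOf : Matrix.ProjectiveSpecialLinearGroup (Fin n) F → ℕ)) ↔ (n < k + l ∧ ¬ k ∣ l) :=
  result' p n hn hsmall r s hr hs hr2 hs2 hrp hsp hrs hrG hsG k l hk hl h2k hkl

end Cfsg.Agent.S2468
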