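import Mathlib
import Cfsg.Statements.S2470
import Cfsg.Agent.Lib.SLDiag

set_option autoImplicit false
open Cfsg

namespace Cfsg.Agent.S2470

open Polynomial Cfsg.Agent.Lib.SLSpec Cfsg.Agent.Lib.SLOrder Cfsg.Agent.Lib.GLSpec Cfsg.Agent.Lib.SLDiag

section

variable {F : Type*} [Field F] [Fintype F]

lemma ord_p_two (p : ℕ) [Fact p.Prime] [CharP F p] : Ord F p 2 := by
  have hp : p.Prime := Fact.out
  have h1 : (1 + jN 2 : Matrix (Fin 2) (Fin 2) F) ^ p = 1 := by
    rw [one_add_jN_pow, CharP.cast_eq_zero, zero_smul, add_zero]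
  let g : GL (Fin 2) F := Units.ofPowEqOne _ p h1 hp.ne_zero
  refine ⟨g, ?_⟩
  haveI : Fact p.Prime := ⟨hp⟩
  apply orderOf_eq_prime
  · apply Units.ext
    simpa [g] using h1
  · intro h
    have h2 : (1 + jN 2 : Matrix (Fin 2) (Fin 2) F) = 1 := congrArg Units.val h
    have h3 := congrFun (congrFun h2 0) 1
    simp [jN] at h3

/-- A squared irreducible factor of the minimal polynomial. -/
lemma exists_sq_factor (p : ℕ) [Fact p.Prime] [CharP F p] {n : ℕ} (hn : 1 ≤ n) (r : ℕ) (hr : 1 < r)
    (W : Matrix.SpecialLinearGroup (Fin n) F) (hx : orderOf (proj W) = r * p) :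
    ∃ π : F[X], Irreducible π ∧ π * π ∣ minpoly F (W : Matrix (Fin n) (Fin n) F) := by
  classical
  have hp : p.Prime := Fact.out
  haveI : Nonempty (Fin n) := ⟨⟨0, hn⟩⟩
  have hXc : proj W ^ (r * p) = 1 := by rw [← hx, pow_orderOf_eq_one]
  rw [← map_pow, proj_eq_one_iff] at hXc
  obtain ⟨l, hl⟩ := scalar_of_mem_center _ hXc
  rw [Matrix.SpecialLinearGroup.coe_pow] at hl
  obtain ⟨c, hc⟩ : ∃ c : F, c ^ p = l := by
    have h1 : Function.Surjective (frobenius F p) :=
      Finite.injective_iff_surjective.1 (frobenius F p).injective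
    obtain ⟨c, hc⟩ := h1 l
    exact ⟨c, hc⟩
  set m := minpoly F (W : Matrix (Fin n) (Fin n) F) with hm
  have hint : IsIntegral F (W : Matrix (Fin n) (Fin n) F) := Algebra.IsIntegral.isIntegral _
  have hm0 : m ≠ 0 := minpoly.ne_zero hint
  have hfact : (X ^ r - C c) ^ p = (X ^ (r * p) - C l : F[X]) := by
    rw [sub_pow_char, ← pow_mul, ← C_pow, hc]
  have h1 : m ∣ (X ^ r - C c) ^ p := by
    rw [hfact]
    apply minpoly.dvd
    simp only [map_sub, map_pow, aeval_X, aeval_C]
    rw [hl, sub_eq_zero, Algebra.algebraMap_eq_smul_one]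
  have h2 : ¬ m ∣ X ^ r - C c := by
    intro h
    have h3 := aeval_eq_zero_of_dvd_aeval_eq_zero h (minpoly.aeval F (W : Matrix (Fin n) (Fin n) F))
    simp only [map_sub, map_pow, aeval_X, aeval_C] at h3
    have h4 : proj W ^ r = 1 := by
      rw [← map_pow, proj_eq_one_iff]
      apply mem_center_of_scalar _ c
      rw [Matrix.SpecialLinearGroup.coe_pow, sub_eq_zero.1 h3, Algebra.algebraMap_eq_smul_one]
    have h5 := orderOf_dvd_of_pow_eq_one h4
    rw [hx] at h5
    have h6 : r * p ≤ r := Nat.le_of_dvd (by omega) h5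
    have h7 := hp.two_le
    nlinarith
  have h3 : ¬ Squarefree m := fun hsq => h2 ((hsq.dvd_pow_iff_dvd hp.ne_zero).1 h1)
  rw [squarefree_iff_no_irreducibles hm0] at h3
  push Not at h3
  exact h3

lemma natDegree_sq_le {n : ℕ} (M : Matrix (Fin n) (Fin n) F) (π : F[X]) (hπ : Irreducible π)
    (h : π * π ∣ minpoly F M) : 2 * π.natDegree ≤ n := by
  have h1 := natDegree_le_of_dvd_minpoly M _ h
  rw [natDegree_mul hπ.ne_zero hπ.ne_zero] at h1
  omega

/-- From the irreducible factor to a double root. -/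
lemma exists_double_root {n : ℕ} (M : Matrix (Fin n) (Fin n) F) (hn : n ≤ 3) (π : F[X]) (hπ : Irreducible π)
    (h : π * π ∣ minpoly F M) : ∃ a : F, (X - C a) * (X - C a) ∣ M.charpoly := by
  have h1 := natDegree_sq_le M π hπ h
  have h2 : π.natDegree = 1 := by
    have := hπ.natDegree_pos
    omega
  obtain ⟨a, ha⟩ := exists_root_of_degree_eq_one ((degree_eq_iff_natDegree_eq hπ.ne_zero).2 (by rw [h2]; norm_num))
  refine ⟨a, ?_⟩
  have h3 : (X - C a) ∣ π := dvd_iff_isRoot.2 ha
  exact (mul_dvd_mul h3 h3).trans (h.trans (Matrix.minpoly_dvd_charpoly M))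

lemma smul_iterate {n : ℕ} (S A : Matrix (Fin n) (Fin n) F) (α : F) (h : S * A = α • A) (k : ℕ) :
    S ^ k * A = α ^ k • A := by
  induction k with
  | zero => simp
  | succ k ih =>
    rw [pow_succ', mul_assoc, ih, Matrix.mul_smul, h, smul_smul, pow_succ]

/-- The exceptional case. -/
lemma exception_false (p : ℕ) [Fact p.Prime] [CharP F p]
    (W : Matrix.SpecialLinearGroup (Fin 3) F) (hx : orderOf (proj W) = 3 * p)
    (h9 : ¬ 9 ∣ Fintype.card F - 1) : False := by
  classical
  have hp : p.Prime := Fact.out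
  obtain ⟨π, hπ, hπm⟩ := exists_sq_factor p (by norm_num) 3 (by norm_num) W hx
  obtain ⟨a, ⟨g, hg⟩⟩ := exists_double_root (W : Matrix (Fin 3) (Fin 3) F) (by norm_num) π hπ hπm
  set c := (W : Matrix (Fin 3) (Fin 3) F).charpoly with hc
  have hcm : c.Monic := Matrix.charpoly_monic _
  have hcdeg : c.natDegree = 3 := by
    rw [hc, Matrix.charpoly_natDegree_eq_dim, Fintype.card_fin]
  have hc0 : c.coeff 0 = -1 := by
    have := charpoly_coeff_zero_SL W
    rw [← hc] at this
    rw [this]
    norm_num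
  have hgm : g.Monic := by
    apply Monic.of_mul_monic_left ((monic_X_sub_C a).mul (monic_X_sub_C a))
    rw [← hg]; exact hcm
  have hgdeg : g.natDegree = 1 := by
    have h1 := congrArg natDegree hg
    rw [natDegree_mul (mul_ne_zero (X_sub_C_ne_zero a) (X_sub_C_ne_zero a)) hgm.ne_zero,
      natDegree_mul (X_sub_C_ne_zero a) (X_sub_C_ne_zero a), natDegree_X_sub_C, hcdeg] at h1
    omega
  obtain ⟨b, hb⟩ : ∃ b : F, g = X - C b := by
    refine ⟨-g.coeff 0, ?_⟩
    have := hgm.eq_X_add_C hgdeg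
    rw [C_neg, sub_neg_eq_add]
    exact this
  subst hb
  have hprod : a * a * b = 1 := by
    have h1 := congrArg (fun P => P.coeff 0) hg
    simp only [mul_coeff_zero, coeff_sub, coeff_X_zero, coeff_C_zero, hc0] at h1
    linear_combination h1
  have ha0 : a ≠ 0 := by
    rintro rfl
    simp at hprod
  have hlcm : ∀ t : ℕ, orderOf (proj W) ∣ t → 3 * p ∣ t := fun t h => hx ▸ h
  have hnp : ¬ 3 * p ∣ p := by
    intro h
    have h1 : 3 * p ≤ p := Nat.le_of_dvd hp.pos h
    have := hp.pos
    omega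
  -- `a ≠ b`
  have hab : a ≠ b := by
    rintro rfl
    rcases (by have := hp.two_le; omega : p = 2 ∨ 3 ≤ p) with hp2 | hp3
    · subst hp2
      have h1 : orderOf (proj W) ∣ 4 := by
        apply orderOf_dvd_of_charpoly_dvd _ _ (a ^ 4)
        rw [← hc, hg]
        have h1 : (X : F[X]) ^ 4 - C (a ^ 4) = (X - C a) ^ (2 ^ 2) := by
          rw [sub_pow_char_pow, ← C_pow]
          norm_num
        have h2 : (X - C a) * (X - C a) * (X - C a) = (X - C a) ^ 3 := by ring
        rw [h1, h2]
        exact pow_dvd_pow _ (by norm_num)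
      rw [hx] at h1
      norm_num at h1
    · have h1 : orderOf (proj W) ∣ p := by
        apply orderOf_dvd_of_charpoly_dvd _ _ (a ^ p)
        rw [← hc, hg]
        have h1 : (X : F[X]) ^ p - C (a ^ p) = (X - C a) ^ p := by
          rw [sub_pow_char, ← C_pow]
        have h2 : (X - C a) * (X - C a) * (X - C a) = (X - C a) ^ 3 := by ring
        rw [h1, h2]
        exact pow_dvd_pow _ hp3
      exact hnp (hlcm _ h1)
  set M : Matrix (Fin 3) (Fin 3) F := (W : Matrix (Fin 3) (Fin 3) F) with hM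
  set S := M ^ p with hS
  set α := a ^ p with hα
  set β := b ^ p with hβ
  have hprod0 : (S - α • 1) * (S - β • 1) = 0 := by
    have h1 : c ∣ (X ^ p - C α) * (X ^ p - C β) := by
      have h2 : (X : F[X]) ^ p - C α = (X - C a) ^ p := by
        rw [sub_pow_char, ← C_pow]
      have h3 : (X : F[X]) ^ p - C β = (X - C b) ^ p := by
        rw [sub_pow_char, ← C_pow]
      rw [h2, h3, hg]
      apply mul_dvd_mul
      · rw [← pow_two]
        exact pow_dvd_pow _ hp.two_le
      · exact dvd_pow_self _ hp.ne_zero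
    have h2 := aeval_eq_zero_of_dvd_aeval_eq_zero h1 (Matrix.aeval_self_charpoly M)
    simp only [map_mul, map_sub, map_pow, aeval_X, aeval_C] at h2
    rw [← Algebra.algebraMap_eq_smul_one, ← Algebra.algebraMap_eq_smul_one]
    exact h2
  have hnotscalar : ∀ κ : F, S ≠ κ • 1 := by
    intro κ h
    have h1 : proj W ^ p = 1 := by
      rw [← map_pow, proj_eq_one_iff]
      apply mem_center_of_scalar _ κ
      rw [Matrix.SpecialLinearGroup.coe_pow]
      exact h
    exact hnp (hlcm _ (orderOf_dvd_of_pow_eq_one h1))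
  have hA : S - β • 1 ≠ 0 := fun h => hnotscalar β (sub_eq_zero.1 h)
  have hB : S - α • 1 ≠ 0 := fun h => hnotscalar α (sub_eq_zero.1 h)
  have hSA : S * (S - β • 1) = α • (S - β • 1) := by
    have h1 : (S - α • 1) * (S - β • 1) = S * (S - β • 1) - α • (S - β • 1) := by
      rw [sub_mul, Matrix.smul_mul, Matrix.one_mul]
    rw [h1] at hprod0
    exact sub_eq_zero.1 hprod0
  have hSB : S * (S - α • 1) = β • (S - α • 1) := by
    have h1 : (S - β • 1) * (S - α • 1) = S * (S - α • 1) - β • (S - α • 1) := by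
      rw [sub_mul, Matrix.smul_mul, Matrix.one_mul]
    have h2 : (S - β • 1) * (S - α • 1) = (S - α • 1) * (S - β • 1) := by
      have hcomm : Commute (S - β • 1) (S - α • 1) := by
        apply Commute.sub_left
        · apply Commute.sub_right (Commute.refl _)
          exact (Commute.one_right _).smul_right _
        · apply Commute.sub_right
          · exact ((Commute.one_left _).smul_left _)
          · exact ((Commute.one_left _).smul_left _).smul_right _
      exact hcomm
    rw [h2, hprod0] at h1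
    exact (sub_eq_zero.1 h1.symm)
  -- the scalar
  have hXc : proj W ^ (3 * p) = 1 := by rw [← hx, pow_orderOf_eq_one]
  rw [← map_pow, proj_eq_one_iff] at hXc
  obtain ⟨l, hl⟩ := scalar_of_mem_center _ hXc
  rw [Matrix.SpecialLinearGroup.coe_pow] at hl
  have hS3 : S ^ 3 = l • 1 := by
    rw [hS, ← pow_mul, mul_comm]; exact hl
  have hl1 : l = α ^ 3 := by
    have h1 := smul_iterate S _ α hSA 3
    rw [hS3, Matrix.smul_mul, Matrix.one_mul] at h1
    have h2 : (l - α ^ 3) • (S - β • 1) = 0 := by rw [sub_smul, h1, sub_self]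
    exact sub_eq_zero.1 ((smul_eq_zero.1 h2).resolve_right hA)
  have hl2 : l = β ^ 3 := by
    have h1 := smul_iterate S _ β hSB 3
    rw [hS3, Matrix.smul_mul, Matrix.one_mul] at h1
    have h2 : (l - β ^ 3) • (S - α • 1) = 0 := by rw [sub_smul, h1, sub_self]
    exact sub_eq_zero.1 ((smul_eq_zero.1 h2).resolve_right hB)
  have hab3 : a ^ 3 = b ^ 3 := by
    apply frobenius_inj F p
    show (a ^ 3) ^ p = (b ^ 3) ^ p
    rw [← pow_mul, ← pow_mul, mul_comm, pow_mul, pow_mul, ← hα, ← hβ, ← hl1, ← hl2]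
  have ha9 : a ^ 9 = 1 := by
    have h1 : a ^ 9 = (a * a) ^ 3 * a ^ 3 := by ring
    rw [h1, hab3, ← mul_pow, hprod, one_pow]
  have ha3 : a ^ 3 ≠ 1 := by
    intro h
    apply hab
    have h1 : a * a * a = a * a * b := by
      rw [hprod, ← h]; ring
    exact mul_left_cancel₀ (mul_ne_zero ha0 ha0) h1
  haveI : Fact (Nat.Prime 3) := ⟨Nat.prime_three⟩
  have hord : orderOf a = 3 ^ (1 + 1) := orderOf_eq_prime_pow (by simpa using ha3) (by norm_num; exact ha9)
  apply h9
  have h1 := orderOf_dvd_of_pow_eq_one (FiniteField.pow_card_sub_one_eq_one a ha0)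
  rw [hord] at h1
  norm_num at h1
  exact h1

/-- The case `n = 2`, `r ∣ q - 1`. -/
lemma two_false (p : ℕ) [Fact p.Prime] [CharP F p] (r : ℕ) (hr : 1 < r)
    (W : Matrix.SpecialLinearGroup (Fin 2) F) (hx : orderOf (proj W) = r * p) : False := by
  classical
  have hp : p.Prime := Fact.out
  obtain ⟨π, hπ, hπm⟩ := exists_sq_factor p (by norm_num) r hr W hx
  obtain ⟨a, ha⟩ := exists_double_root (W : Matrix (Fin 2) (Fin 2) F) (by norm_num) π hπ hπm
  set c := (W : Matrix (Fin 2) (Fin 2) F).charpoly with hc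
  have hcm : c.Monic := Matrix.charpoly_monic _
  have hcdeg : c.natDegree = 2 := by
    rw [hc, Matrix.charpoly_natDegree_eq_dim, Fintype.card_fin]
  have heq : (X - C a) * (X - C a) = c := by
    refine (eq_of_monic_of_dvd_of_natDegree_le ((monic_X_sub_C a).mul (monic_X_sub_C a)) hcm ha ?_).symm
    rw [natDegree_mul (X_sub_C_ne_zero a) (X_sub_C_ne_zero a), natDegree_X_sub_C, hcdeg]
  have h1 : orderOf (proj W) ∣ p := by
    apply orderOf_dvd_of_charpoly_dvd _ _ (a ^ p)
    rw [← hc, ← heq]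
    have h1 : (X : F[X]) ^ p - C (a ^ p) = (X - C a) ^ p := by
      rw [sub_pow_char, ← C_pow]
    rw [h1, ← pow_two]
    exact pow_dvd_pow _ hp.two_le
  rw [hx] at h1
  have h2 := Nat.le_of_dvd hp.pos h1
  have := hp.pos
  nlinarith

lemma cast_ne_zero' (p r : ℕ) [Fact p.Prime] [CharP F p] (hr : r.Prime) (hrp : r ≠ p) : (r : F) ≠ 0 := by
  intro h
  have h1 := (CharP.cast_eq_zero_iff F p r).1 h
  have hp : p.Prime := Fact.out
  exact hrp ((Nat.prime_dvd_prime_iff_eq hp hr).1 h1).symm

lemma not_dvd_of_two_le (r : ℕ) (hk : 2 ≤ orderOf ((Fintype.card F : ℕ) : ZMod r)) : ¬ r ∣ Fintype.card F - 1 := by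
  intro h
  have h1 : Fintype.card F - 1 = Fintype.card F ^ 1 - 1 := by rw [pow_one]
  rw [h1] at h
  have h2 := orderOf_dvd_of_dvd r (Fintype.card F) 1 card_pos' h
  have h3 := Nat.le_of_dvd one_pos h2
  omega

lemma char_not_dvd (p : ℕ) [Fact p.Prime] [CharP F p] : ¬ p ∣ Fintype.card F - 1 := by
  have hp : p.Prime := Fact.out
  have hq2 : 2 ≤ Fintype.card F := Fintype.one_lt_card
  intro h
  obtain ⟨k, hk⟩ := FiniteField.card F p
  have h1 : p ∣ Fintype.card F := by
    rw [hk.2]; exact dvd_pow_self _ k.2.ne'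
  have h2 : p ∣ Fintype.card F - (Fintype.card F - 1) := Nat.dvd_sub h1 h
  have h3 : Fintype.card F - (Fintype.card F - 1) = 1 := by omega
  rw [h3] at h2
  exact hp.one_lt.ne' (Nat.dvd_one.1 h2)

lemma char_not_dvd_card (p r : ℕ) [Fact p.Prime] [CharP F p] (hr : r.Prime) (hrp : r ≠ p) : ¬ r ∣ Fintype.card F := by
  have hp : p.Prime := Fact.out
  intro h
  obtain ⟨k, hk⟩ := FiniteField.card F p
  rw [hk.2] at h
  exact hrp ((Nat.prime_dvd_prime_iff_eq hr hp).1 (hr.dvd_of_dvd_pow h))

/-- Construction for `k = 1`, `n ≥ 4`. -/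
lemma exists_four (p : ℕ) [Fact p.Prime] [CharP F p] (n : ℕ) (hn : 4 ≤ n) (r : ℕ) (hr : r.Prime)
    (hrq : r ∣ Fintype.card F - 1) (hrp : r ≠ p) :
    ∃ x : Matrix.ProjectiveSpecialLinearGroup (Fin n) F, orderOf x = r * p := by
  classical
  haveI : Fact r.Prime := ⟨hr⟩
  have hp : p.Prime := Fact.out
  obtain ⟨lam, hlam⟩ := exists_prime_orderOf_dvd_card' (G := Fˣ) r (by
    rw [Nat.card_eq_fintype_card, Fintype.card_units]; exact hrq)
  have hlam0 : (lam : F) ≠ 0 := lam.ne_zero
  have hpow : ∀ t : ℕ, (lam : F) ^ t = 1 ↔ r ∣ t := by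
    intro t
    rw [← hlam, orderOf_dvd_iff_pow_eq_one]
    constructor
    · intro h
      apply Units.ext
      simpa using h
    · intro h
      have := congrArg Units.val h
      simpa using this
  let d : Fin n → F := fun i => if (i : ℕ) = 2 then (lam : F) else if (i : ℕ) = 3 then (lam : F)⁻¹ else 1
  have hcop : Nat.Coprime p r := (Nat.coprime_primes hp hr).2 hrp.symm
  have h := exists_orderOf_DU (F := F) (n := n) p (by omega) d (by simp [d]) (by
      rw [Finset.prod_eq_mul (⟨2, by omega⟩ : Fin n) ⟨3, by omega⟩ (by simp [Fin.ext_iff]) ?_ (by simp) (by simp)]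
      · simp [d, hlam0]
      · intro c _ hc
        have h2 : (c : ℕ) ≠ 2 := fun h => hc.1 (Fin.ext h)
        have h3 : (c : ℕ) ≠ 3 := fun h => hc.2 (Fin.ext h)
        simp [d, h2, h3]) r (by
      intro t
      have hd0 : d ⟨0, by omega⟩ = 1 := by simp [d]
      rw [hd0, one_pow, ← hpow]
      constructor
      · intro h
        have := h ⟨2, by omega⟩
        simpa [d] using this
      · intro h i
        by_cases h2 : (i : ℕ) = 2
        · simp [d, h2, h]
        · by_cases h3 : (i : ℕ) = 3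
          · simp [d, h3, h]
          · simp [d, h2, h3]) hcop
  rw [mul_comm]
  exact h

/-- Construction for `k = 1`, `n = 3`. -/
lemma exists_three (p : ℕ) [Fact p.Prime] [CharP F p] (r : ℕ) (hr : r.Prime) (hrp : r ≠ p)
    (μ : Fˣ) (hμ : ∀ t : ℕ, (μ : F) ^ (3 * t) = 1 ↔ r ∣ t) :
    ∃ x : Matrix.ProjectiveSpecialLinearGroup (Fin 3) F, orderOf x = r * p := by
  have hp : p.Prime := Fact.out
  have h0 : (μ : F) ≠ 0 := μ.ne_zero
  have hcop : Nat.Coprime p r := (Nat.coprime_primes hp hr).2 hrp.symm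
  rw [mul_comm]
  apply exists_orderOf_DU (n := 3) p (by norm_num) ![(μ : F), (μ : F), ((μ : F) ^ 2)⁻¹] rfl
  · simp only [Fin.prod_univ_three]
    simp
    field_simp
  · intro t
    have h1 : (∀ i : Fin 3, (![(μ : F), (μ : F), ((μ : F) ^ 2)⁻¹] i) ^ t = (μ : F) ^ t) ↔ (μ : F) ^ (3 * t) = 1 := by
      constructor
      · intro h
        have h2 := h 2
        simp only [Matrix.cons_val_two, Matrix.tail_cons, Matrix.head_cons, Matrix.cons_val] at h2
        have h3 : (((μ : F) ^ 2)⁻¹) ^ t * ((μ : F) ^ 2) ^ t = 1 := by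
          rw [← mul_pow, inv_mul_cancel₀ (pow_ne_zero _ h0), one_pow]
        rw [h2] at h3
        rw [← h3]
        ring
      · intro h i
        have h3 : (((μ : F) ^ 2)⁻¹) ^ t = (μ : F) ^ t := by
          rw [inv_pow, inv_eq_iff_eq_inv, ← pow_mul]
          apply eq_inv_of_mul_eq_one_left
          rw [← h]
          ring
        fin_cases i
        · rfl
        · rfl
        · exact h3
    exact h1.trans (hμ t)
  · exact hcop

/-- Existence of a unit with the required property. -/
lemma exists_mu (r : ℕ) (hr : r.Prime) (hrq : r ∣ Fintype.card F - 1)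
    (h9 : r = 3 → 9 ∣ Fintype.card F - 1) :
    ∃ μ : Fˣ, ∀ t : ℕ, (μ : F) ^ (3 * t) = 1 ↔ r ∣ t := by
  classical
  obtain ⟨γ, hγ⟩ := IsCyclic.exists_ofOrder_eq_natCard (α := Fˣ)
  rw [Nat.card_eq_fintype_card, Fintype.card_units] at hγ
  have hpow : ∀ (μ : Fˣ) (t : ℕ), (μ : F) ^ t = 1 ↔ orderOf μ ∣ t := by
    intro μ t
    rw [orderOf_dvd_iff_pow_eq_one]
    constructor
    · intro h
      apply Units.ext
      simpa using h
    · intro h
      have := congrArg Units.val h
      simpa using this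
  by_cases h3 : r = 3
  · subst h3
    obtain ⟨μ, hμ⟩ := exists_order_of_dvd' γ 9 (by rw [hγ]; exact h9 rfl)
    refine ⟨μ, fun t => ?_⟩
    rw [hpow, hμ]
    constructor
    · intro h
      have h1 : 3 * 3 ∣ 3 * t := h
      exact Nat.dvd_of_mul_dvd_mul_left (by norm_num) h1
    · intro h
      exact Nat.mul_dvd_mul_left 3 h
  · obtain ⟨μ, hμ⟩ := exists_order_of_dvd' γ r (by rw [hγ]; exact hrq)
    refine ⟨μ, fun t => ?_⟩
    rw [hpow, hμ]
    have hc : Nat.Coprime r 3 := (Nat.coprime_primes hr Nat.prime_three).2 h3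
    exact hc.dvd_mul_left

theorem main (p : ℕ) [Fact p.Prime] [CharP F p] (n : ℕ) (hn : 2 ≤ n)
    (r : ℕ) (hr : r.Prime) (hrp : r ≠ p)
    (k : ℕ) (hk : k = orderOf ((Fintype.card F : ℕ) : ZMod r)) :
    (r * p ∉ Set.range (orderOf : Matrix.ProjectiveSpecialLinearGroup (Fin n) F → ℕ)) ↔
      (n - 2 < k ∨ (n = 3 ∧ r = 3 ∧ 3 ∣ Fintype.card F - 1 ∧ ¬ 9 ∣ Fintype.card F - 1)) := by
  classical
  haveI : Fact r.Prime := ⟨hr⟩
  have hp : p.Prime := Fact.out
  haveI : Finite (Matrix.ProjectiveSpecialLinearGroup (Fin n) F) :=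
    Finite.of_surjective _ (proj_surjective (F := F) (n := n))
  set q := Fintype.card F with hq
  have hq1 : 1 ≤ q := card_pos'
  have hrF := cast_ne_zero' (F := F) p r hr hrp
  have hk0 : 0 < k := by
    rw [hk, orderOf_pos_iff, isOfFinOrder_iff_pow_eq_one]
    refine ⟨r - 1, by have := hr.two_le; omega, ?_⟩
    apply ZMod.pow_card_sub_one_eq_one
    intro h
    exact char_not_dvd_card (F := F) p r hr hrp ((ZMod.natCast_eq_zero_iff _ _).1 h)
  have hqk : r ∣ q ^ k - 1 := dvd_of_orderOf_dvd r q k hq1 (by rw [hk])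
  have hpq := char_not_dvd (F := F) p
  have hn1 : 1 ≤ n := by omega
  by_cases hk2 : 2 ≤ k
  · have hr1 : ¬ r ∣ q - 1 := not_dvd_of_two_le r (by rw [← hk]; exact hk2)
    have hcoprp : Nat.Coprime (r * p) (q - 1) :=
      Nat.Coprime.mul_left ((Nat.Prime.coprime_iff_not_dvd hr).2 hr1) ((Nat.Prime.coprime_iff_not_dvd hp).2 hpq)
    have hex : ¬ (n = 3 ∧ r = 3 ∧ 3 ∣ q - 1 ∧ ¬ 9 ∣ q - 1) := by
      rintro ⟨-, rfl, h, -⟩
      exact hr1 h
    constructor
    · intro hno
      left
      by_contra hcon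
      apply hno
      have h1 : Ord F r k := ord_of_dvd _ _ hk0 hqk
      have h3 := (h1.block (ord_p_two p)).block (Ord.one (n - (k + 2)))
      have h4 : Ord F (r * p) n := by
        refine h3.cast ?_ (by omega)
        rw [Nat.lcm_one_right, ((Nat.coprime_primes hr hp).2 hrp).lcm_eq_mul]
      obtain ⟨g, hg⟩ := h4
      obtain ⟨x, hx⟩ := exists_proj_of_gl g _ hg hcoprp hn1
      exact ⟨x, hx⟩
    · rintro (hlt | h) ⟨x, hx⟩
      · obtain ⟨Y, hY1, hY2⟩ := exists_lift_of_coprime x (r * p) hx hcoprp hn1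
        obtain ⟨π, hπ, hπm⟩ := exists_sq_factor p hn1 r hr.one_lt Y hY2
        have hYr : (Y : Matrix (Fin n) (Fin n) F) ^ (p * r) = 1 := by
          rw [mul_comm, ← Matrix.SpecialLinearGroup.coe_pow, hY1]; rfl
        have hYp : (Y : Matrix (Fin n) (Fin n) F) ^ p ≠ 1 := by
          intro h0
          have h1 : Y ^ p = 1 := by
            apply Subtype.ext
            rw [Matrix.SpecialLinearGroup.coe_pow, h0]
            rfl
          have h2 : proj Y ^ p = 1 := by rw [← map_pow, h1, map_one]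
          have h3 := orderOf_dvd_of_pow_eq_one h2
          rw [hY2] at h3
          have h4 := Nat.le_of_dvd hp.pos h3
          have := hr.two_le
          have := hp.pos
          nlinarith
        obtain ⟨π', hπ', hπ'm, -, hπ'r⟩ := exists_factor_of_pow _ r p hr hrF hYr hYp
        have hkd : k ∣ π'.natDegree := by rw [hk]; exact orderOf_dvd_of_dvd r q _ hq1 hπ'r
        have hkle := Nat.le_of_dvd hπ'.natDegree_pos hkd
        have hfin : k + 2 ≤ n := by
          by_cases hdvd : π' ∣ π
          · have hassoc : Associated π' π := hπ'.associated_of_dvd hπ hdvd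
            have hdeg : π'.natDegree = π.natDegree := natDegree_eq_of_degree_eq (degree_eq_degree_of_associated hassoc)
            have h1 := natDegree_sq_le _ π hπ hπm
            omega
          · have hcop : IsCoprime π' π := (hπ'.coprime_iff_not_dvd).2 hdvd
            have hprod : π' * (π * π) ∣ minpoly F (Y : Matrix (Fin n) (Fin n) F) :=
              (hcop.mul_right hcop).mul_dvd hπ'm hπm
            have h3 := natDegree_le_of_dvd_minpoly _ _ hprod
            rw [natDegree_mul hπ'.ne_zero (mul_ne_zero hπ.ne_zero hπ.ne_zero),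
              natDegree_mul hπ.ne_zero hπ.ne_zero] at h3
            have := hπ.natDegree_pos
            omega
        omega
      · exact hex h
  · have hk1 : k = 1 := by omega
    have hrq : r ∣ q - 1 := by
      have := hqk
      rwa [hk1, pow_one] at this
    constructor
    · intro hno
      by_contra hcon
      push Not at hcon
      obtain ⟨hcon1, hcon2⟩ := hcon
      apply hno
      by_cases hn4 : 4 ≤ n
      · exact exists_four p n hn4 r hr hrq hrp
      · have hn3 : n = 3 := by omega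
        subst hn3
        obtain ⟨μ, hμ⟩ := exists_mu (F := F) r hr hrq (by
          intro h3
          exact hcon2 rfl h3 (h3 ▸ hrq))
        exact exists_three p r hr hrp μ hμ
    · rintro (hlt | ⟨h3, h3', -, h9⟩) ⟨x, hx⟩
      · have hn2 : n = 2 := by omega
        subst hn2
        obtain ⟨W, rfl⟩ := proj_surjective x
        exact two_false p r hr.one_lt W hx
      · subst h3
        subst h3'
        obtain ⟨W, rfl⟩ := proj_surjective x
        exact exception_false p W hx h9

end

/-- Adjacency of an odd prime and the characteristic in the prime graph of PSL(n,q): let F be a finite field of characteristic p with q elements, n ≥ 2 with PSL(n,F) simple, and let r ≠ p be an odd prime dividing the order of PSL(n,F), with k the multiplicative order of q modulo r. Then PSL(n,F) has NO element of order r·p if and only if either k > n − 2, or n = 3, r = 3 and 3 divides q − 1 exactly once. -/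
theorem result {F : Type*} [Field F] [Fintype F] (p : ℕ) [Fact p.Prime] [CharP F p] (n : ℕ) (hn : 2 ≤ n) (hsmall : n = 2 → 4 ≤ Fintype.card F)
    (r : ℕ) (hr : r.Prime) (hr2 : r ≠ 2) (hrp : r ≠ p) (hrG : r ∣ Nat.card (Matrix.ProjectiveSpecialLinearGroup (Fin n) F))
    (k : ℕ) (hk : k = orderOf ((Fintype.card F : ℕ) : ZMod r)) :
    (r * p ∉ Set.range (orderOf : Matrix.ProjectiveSpecialLinearGroup (Fin n) F → ℕ)) ↔
      (n - 2 < k ∨ (n = 3 ∧ r = 3 ∧ 3 ∣ Fintype.card F - 1 ∧ ¬ 9 ∣ Fintype.card F - 1)) :=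
  main p n hn r hr hrp k hk

end Cfsg.Agent.S2470
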