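import Mathlib
import Cfsg.Statements.S2477

set_option autoImplicit false
open Cfsg

namespace Cfsg.Agent.S2477

def lc (a i : ℕ) : ℕ := if a = 0 then 1 else i

def chk : Bool :=
  (List.range 6).all fun a2 => (List.range 4).all fun a3 => (List.range 3).all fun a4 =>
  (List.range 3).all fun a5 => (List.range 2).all fun a6 => (List.range 2).all fun a7 =>
  (List.range 2).all fun a8 => (List.range 2).all fun a9 => (List.range 2).all fun a10 =>
    !(decide (2*a2+3*a3+4*a4+5*a5+6*a6+7*a7+8*a8+9*a9+10*a10 ≤ 10)) ||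
    !(decide ((2*a2+3*a3+4*a4+5*a5+6*a6+7*a7+8*a8+9*a9+10*a10 + (a2+a3+a4+a5+a6+a7+a8+a9+a10)) % 2 = 0)) ||
    decide (Nat.lcm (lc a2 2) (Nat.lcm (lc a3 3) (Nat.lcm (lc a4 4) (Nat.lcm (lc a5 5) (Nat.lcm (lc a6 6)
      (Nat.lcm (lc a7 7) (Nat.lcm (lc a8 8) (Nat.lcm (lc a9 9) (lc a10 10)))))))) ∈
      ([1, 2, 3, 4, 5, 6, 7, 8, 9, 10, 12, 15, 21] : List ℕ))

theorem chk_true : chk = true := by decide +kernel

theorem check (a2 a3 a4 a5 a6 a7 a8 a9 a10 : ℕ) (h2 : a2 < 6) (h3 : a3 < 4) (h4 : a4 < 3) (h5 : a5 < 3)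
    (h6 : a6 < 2) (h7 : a7 < 2) (h8 : a8 < 2) (h9 : a9 < 2) (h10 : a10 < 2)
    (hs : 2*a2+3*a3+4*a4+5*a5+6*a6+7*a7+8*a8+9*a9+10*a10 ≤ 10)
    (hp : (2*a2+3*a3+4*a4+5*a5+6*a6+7*a7+8*a8+9*a9+10*a10 + (a2+a3+a4+a5+a6+a7+a8+a9+a10)) % 2 = 0) :
    Nat.lcm (lc a2 2) (Nat.lcm (lc a3 3) (Nat.lcm (lc a4 4) (Nat.lcm (lc a5 5) (Nat.lcm (lc a6 6)
      (Nat.lcm (lc a7 7) (Nat.lcm (lc a8 8) (Nat.lcm (lc a9 9) (lc a10 10)))))))) ∈
      ([1, 2, 3, 4, 5, 6, 7, 8, 9, 10, 12, 15, 21] : List ℕ) := by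
  have h := chk_true
  simp only [chk, List.all_eq_true, List.mem_range] at h
  have := h a2 h2 a3 h3 a4 h4 a5 h5 a6 h6 a7 h7 a8 h8 a9 h9 a10 h10
  simpa [hs, hp] using this

lemma le_sum_of_mem {c : Multiset ℕ} {a : ℕ} (h : a ∈ c) : a ≤ c.sum := by
  obtain ⟨t, rfl⟩ := Multiset.exists_cons_of_mem h
  simp

lemma lcm_replicate (a i : ℕ) : (Multiset.replicate a i).lcm = lc a i := by
  induction a with
  | zero => simp [lc]
  | succ a ih =>
    rw [Multiset.replicate_succ, Multiset.lcm_cons, ih]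
    by_cases h : a = 0
    · subst h; simp [lc]
    · simp [lc, h]

lemma decomp (c : Multiset ℕ) (h2 : ∀ x ∈ c, 2 ≤ x) (h10 : ∀ x ∈ c, x ≤ 10) :
    c = Multiset.replicate (c.count 2) 2 + (Multiset.replicate (c.count 3) 3 + (Multiset.replicate (c.count 4) 4 +
      (Multiset.replicate (c.count 5) 5 + (Multiset.replicate (c.count 6) 6 + (Multiset.replicate (c.count 7) 7 +
      (Multiset.replicate (c.count 8) 8 + (Multiset.replicate (c.count 9) 9 + Multiset.replicate (c.count 10) 10))))))) := by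
  ext x
  simp only [Multiset.count_add, Multiset.count_replicate]
  by_cases hx : x ∈ c
  · have h1 := h2 x hx
    have h3 := h10 x hx
    interval_cases x <;> simp
  · have hc : c.count x = 0 := Multiset.count_eq_zero_of_notMem hx
    rw [hc]
    have hne : ∀ i, c.count i ≠ 0 → x ≠ i := by
      intro i hi h
      subst h
      exact hi hc
    by_cases h2' : x = 2
    · subst h2'; simp [hc]
    by_cases h3' : x = 3
    · subst h3'; simp [hc]
    by_cases h4' : x = 4
    · subst h4'; simp [hc]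
    by_cases h5' : x = 5
    · subst h5'; simp [hc]
    by_cases h6' : x = 6
    · subst h6'; simp [hc]
    by_cases h7' : x = 7
    · subst h7'; simp [hc]
    by_cases h8' : x = 8
    · subst h8'; simp [hc]
    by_cases h9' : x = 9
    · subst h9'; simp [hc]
    by_cases h10' : x = 10
    · subst h10'; simp [hc]
    simp [Ne.symm h2', Ne.symm h3', Ne.symm h4', Ne.symm h5', Ne.symm h6', Ne.symm h7', Ne.symm h8', Ne.symm h9', Ne.symm h10']

abbrev R (a2 a3 a4 a5 a6 a7 a8 a9 a10 : ℕ) : Multiset ℕ := Multiset.replicate a2 2 + (Multiset.replicate a3 3 + (Multiset.replicate a4 4 +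
      (Multiset.replicate a5 5 + (Multiset.replicate a6 6 + (Multiset.replicate a7 7 +
      (Multiset.replicate a8 8 + (Multiset.replicate a9 9 + Multiset.replicate a10 10)))))))

lemma R_sum (a2 a3 a4 a5 a6 a7 a8 a9 a10 : ℕ) : (R a2 a3 a4 a5 a6 a7 a8 a9 a10).sum = 2*a2+3*a3+4*a4+5*a5+6*a6+7*a7+8*a8+9*a9+10*a10 := by
  simp only [R, Multiset.sum_add, Multiset.sum_replicate, smul_eq_mul]
  ring

lemma R_card (a2 a3 a4 a5 a6 a7 a8 a9 a10 : ℕ) : Multiset.card (R a2 a3 a4 a5 a6 a7 a8 a9 a10) = a2+a3+a4+a5+a6+a7+a8+a9+a10 := by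
  simp only [R, Multiset.card_add, Multiset.card_replicate]
  ring

lemma R_lcm (a2 a3 a4 a5 a6 a7 a8 a9 a10 : ℕ) : (R a2 a3 a4 a5 a6 a7 a8 a9 a10).lcm = Nat.lcm (lc a2 2) (Nat.lcm (lc a3 3) (Nat.lcm (lc a4 4) (Nat.lcm (lc a5 5) (Nat.lcm (lc a6 6)
      (Nat.lcm (lc a7 7) (Nat.lcm (lc a8 8) (Nat.lcm (lc a9 9) (lc a10 10)))))))) := by
  simp only [R, Multiset.lcm_add, lcm_replicate, lcm_eq_nat_lcm]

lemma mem_of_counts (a2 a3 a4 a5 a6 a7 a8 a9 a10 : ℕ)
    (hsum : 2*a2+3*a3+4*a4+5*a5+6*a6+7*a7+8*a8+9*a9+10*a10 ≤ 10)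
    (hpar : (2*a2+3*a3+4*a4+5*a5+6*a6+7*a7+8*a8+9*a9+10*a10 + (a2+a3+a4+a5+a6+a7+a8+a9+a10)) % 2 = 0) :
    (R a2 a3 a4 a5 a6 a7 a8 a9 a10).lcm ∈ ([1, 2, 3, 4, 5, 6, 7, 8, 9, 10, 12, 15, 21] : List ℕ) := by
  rw [R_lcm]
  have h2 : a2 < 6 := by omega
  have h3 : a3 < 4 := by omega
  have h4 : a4 < 3 := by omega
  have h5 : a5 < 3 := by omega
  have h6 : a6 < 2 := by omega
  have h7 : a7 < 2 := by omega
  have h8 : a8 < 2 := by omega
  have h9 : a9 < 2 := by omega
  have h10 : a10 < 2 := by omega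
  exact check a2 a3 a4 a5 a6 a7 a8 a9 a10 h2 h3 h4 h5 h6 h7 h8 h9 h10 hsum hpar

lemma mem_of_type (c : Multiset ℕ) (h2 : ∀ x ∈ c, 2 ≤ x) (hsum : c.sum ≤ 10)
    (hpar : (c.sum + Multiset.card c) % 2 = 0) :
    c.lcm ∈ ([1, 2, 3, 4, 5, 6, 7, 8, 9, 10, 12, 15, 21] : List ℕ) := by
  have h10 : ∀ x ∈ c, x ≤ 10 := fun x hx => (le_sum_of_mem hx).trans hsum
  have hd : c = R (c.count 2) (c.count 3) (c.count 4) (c.count 5) (c.count 6) (c.count 7) (c.count 8) (c.count 9) (c.count 10) := decomp c h2 h10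
  have hs := R_sum (c.count 2) (c.count 3) (c.count 4) (c.count 5) (c.count 6) (c.count 7) (c.count 8) (c.count 9) (c.count 10)
  have hcd := R_card (c.count 2) (c.count 3) (c.count 4) (c.count 5) (c.count 6) (c.count 7) (c.count 8) (c.count 9) (c.count 10)
  have hm := mem_of_counts (c.count 2) (c.count 3) (c.count 4) (c.count 5) (c.count 6) (c.count 7) (c.count 8) (c.count 9) (c.count 10)
  rw [← hd] at hs hcd hm
  rw [hs] at hsum hpar
  rw [hcd] at hpar
  exact hm hsum hpar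

lemma exists_type (c : Multiset ℕ) (h2 : ∀ x ∈ c, 2 ≤ x) (hsum : c.sum ≤ 10)
    (hpar : (c.sum + Multiset.card c) % 2 = 0) :
    c.lcm ∈ Set.range (orderOf : alternatingGroup (Fin 10) → ℕ) := by
  have hex : ∃ g : Equiv.Perm (Fin 10), g.cycleType = c := by
    rw [Equiv.Perm.exists_with_cycleType_iff]
    exact ⟨by simpa using hsum, h2⟩
  obtain ⟨g, hg⟩ := hex
  have hsign : g ∈ alternatingGroup (Fin 10) := by
    rw [Equiv.Perm.mem_alternatingGroup, Equiv.Perm.sign_of_cycleType, hg]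
    apply Even.neg_one_pow
    exact Nat.even_iff.mpr hpar
  refine ⟨⟨g, hsign⟩, ?_⟩
  have h1 : orderOf (⟨g, hsign⟩ : alternatingGroup (Fin 10)) = orderOf g := by simp
  rw [h1, ← Equiv.Perm.lcm_cycleType, hg]

/-- The set of element orders of the alternating group of degree 10 is {1, 2, 3, 4, 5, 6, 7, 8, 9, 10, 12, 15, 21}. -/
theorem result : Set.range (orderOf : alternatingGroup (Fin 10) → ℕ) = {1, 2, 3, 4, 5, 6, 7, 8, 9, 10, 12, 15, 21} := by
  ext m
  constructor
  · rintro ⟨g, rfl⟩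
    have hg' : orderOf g = orderOf (g : Equiv.Perm (Fin 10)) := by simp
    rw [hg', ← Equiv.Perm.lcm_cycleType]
    have hsum : (g : Equiv.Perm (Fin 10)).cycleType.sum ≤ 10 := by
      simpa using Equiv.Perm.sum_cycleType_le (g : Equiv.Perm (Fin 10))
    have hsign : (-1 : ℤˣ) ^ ((g : Equiv.Perm (Fin 10)).cycleType.sum + Multiset.card (g : Equiv.Perm (Fin 10)).cycleType) = 1 := by
      rw [← Equiv.Perm.sign_of_cycleType]
      exact Equiv.Perm.mem_alternatingGroup.mp g.2
    have hpar : ((g : Equiv.Perm (Fin 10)).cycleType.sum + Multiset.card (g : Equiv.Perm (Fin 10)).cycleType) % 2 = 0 := by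
      by_contra hodd
      have hodd' : Odd ((g : Equiv.Perm (Fin 10)).cycleType.sum + Multiset.card (g : Equiv.Perm (Fin 10)).cycleType) :=
        Nat.odd_iff.mpr (by omega)
      have h3 := hodd'.neg_one_pow (α := ℤˣ)
      exact absurd (h3.symm.trans hsign) (by decide)
    have := mem_of_type _ (fun x hx => Equiv.Perm.two_le_of_mem_cycleType hx) hsum hpar
    simpa using this
  · intro hm
    simp only [Set.mem_insert_iff, Set.mem_singleton_iff] at hm
    rcases hm with rfl | rfl | rfl | rfl | rfl | rfl | rfl | rfl | rfl | rfl | rfl | rfl | rfl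
    · have := exists_type 0 (by simp) (by simp) (by simp)
      have h2 : (0 : Multiset ℕ).lcm = 1 := by decide +kernel
      rwa [h2] at this
    · have := exists_type {2, 2} (by simp) (by simp) (by simp)
      have h2 : ({2, 2} : Multiset ℕ).lcm = 2 := by decide +kernel
      rwa [h2] at this
    · simpa [Multiset.lcm_cons] using exists_type {3} (by simp) (by simp) (by simp)
    · have := exists_type {4, 2} (by simp) (by simp) (by simp)
      have h2 : ({4, 2} : Multiset ℕ).lcm = 4 := by decide +kernel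
      rwa [h2] at this
    · simpa [Multiset.lcm_cons] using exists_type {5} (by simp) (by simp) (by simp)
    · have := exists_type {6, 2} (by simp) (by simp) (by simp)
      have h2 : ({6, 2} : Multiset ℕ).lcm = 6 := by decide +kernel
      rwa [h2] at this
    · simpa [Multiset.lcm_cons] using exists_type {7} (by simp) (by simp) (by simp)
    · have := exists_type {8, 2} (by simp) (by simp) (by simp)
      have h2 : ({8, 2} : Multiset ℕ).lcm = 8 := by decide +kernel
      rwa [h2] at this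
    · simpa [Multiset.lcm_cons] using exists_type {9} (by simp) (by simp) (by simp)
    · have := exists_type {5, 2, 2} (by simp) (by simp) (by simp)
      have h2 : ({5, 2, 2} : Multiset ℕ).lcm = 10 := by decide +kernel
      rwa [h2] at this
    · have := exists_type {4, 3, 2} (by simp) (by simp) (by simp)
      have h2 : ({4, 3, 2} : Multiset ℕ).lcm = 12 := by decide +kernel
      rwa [h2] at this
    · have := exists_type {5, 3} (by simp) (by simp) (by simp)
      have h2 : ({5, 3} : Multiset ℕ).lcm = 15 := by decide +kernel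
      rwa [h2] at this
    · have := exists_type {7, 3} (by simp) (by simp) (by simp)
      have h2 : ({7, 3} : Multiset ℕ).lcm = 21 := by decide +kernel
      rwa [h2] at this

end Cfsg.Agent.S2477
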