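import Mathlib
import Cfsg.Statements.S2651
import Cfsg.Agent.Lib.TwM23IsoD

set_option autoImplicit false
open Cfsg

namespace Cfsg.Agent.S2651

open Cfsg.Agent.Lib.TwM23IsoD Cfsg.Agent.Lib.TwM23Run Cfsg.Agent.Lib.TwM23Mode Cfsg.Agent.Lib.M23Cocode
  Cfsg.Agent.Lib.TwChain

universe u v

/-- The action on the coordinates of the cocode module. -/
theorem actsD_of {E : Type u} [Group E] {N : Subgroup E} [hN : N.Normal] (φ : E ⧸ N ≃* ↥Cfsg.Spor.M23)
    {θ : (Cfsg.GolayPt → ZMod 2) →+ Additive ↥N} (hsurj : Function.Surjective θ)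
    (hker : ∀ w : Cfsg.GolayPt → ZMod 2, θ w = 0 ↔ (w ∈ Cfsg.golayCode ∨ w + Pi.single none 1 ∈ Cfsg.golayCode))
    (hθ : ∀ (g : E) (w : Cfsg.GolayPt → ZMod 2),
      ((θ (w ∘ ⇑(((φ (QuotientGroup.mk g) : ↥Cfsg.Spor.M23) : Equiv.Perm Cfsg.GolayPt)⁻¹))).toMul : E)
        = g * ((θ w).toMul : E) * g⁻¹) :
    ActsD (piOf φ) N (crdD hsurj) := by
  have hv : ∀ {g : ↥Cfsg.Spor.M23} {c : ℕ} (_ : Cfsg.Agent.Lib.GolaySift.Rep (g : Equiv.Perm Cfsg.GolayPt) c)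
      {M : Cfsg.Agent.Lib.TwSolve.M11} (_ : MD M c), Acts (piOf φ) (crdD hsurj) N g M := by
    intro g c hc M hM
    exact acts_D φ hsurj hker hθ hc hM
  exact ⟨hv rep_S1 m20, hv rep_S1i m21, hv rep_S2 m22, hv rep_S2i m23, hv rep_H mH,
    hv rep_S1 m10, hv rep_S1i m11, hv rep_G2 m12, hv rep_G2i m13⟩

/-- The action on coordinates depends only on the element of the quotient. -/
theorem eq_coords {E : Type u} [Group E] {N : Subgroup E} [hN : N.Normal] (φ : E ⧸ N ≃* ↥Cfsg.Spor.M23)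
    {θ : (Cfsg.GolayPt → ZMod 2) →+ Additive ↥N} (hsurj : Function.Surjective θ)
    (hker : ∀ w : Cfsg.GolayPt → ZMod 2, θ w = 0 ↔ (w ∈ Cfsg.golayCode ∨ w + Pi.single none 1 ∈ Cfsg.golayCode))
    (hθ : ∀ (g : E) (w : Cfsg.GolayPt → ZMod 2),
      ((θ (w ∘ ⇑(((φ (QuotientGroup.mk g) : ↥Cfsg.Spor.M23) : Equiv.Perm Cfsg.GolayPt)⁻¹))).toMul : E)
        = g * ((θ w).toMul : E) * g⁻¹)
    {E' : Type v} [Group E'] {N' : Subgroup E'} [hN' : N'.Normal] (φ' : E' ⧸ N' ≃* ↥Cfsg.Spor.M23)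
    {θ' : (Cfsg.GolayPt → ZMod 2) →+ Additive ↥N'} (hsurj' : Function.Surjective θ')
    (hker' : ∀ w : Cfsg.GolayPt → ZMod 2, θ' w = 0 ↔ (w ∈ Cfsg.golayCode ∨ w + Pi.single none 1 ∈ Cfsg.golayCode))
    (hθ' : ∀ (g : E') (w : Cfsg.GolayPt → ZMod 2),
      ((θ' (w ∘ ⇑(((φ' (QuotientGroup.mk g) : ↥Cfsg.Spor.M23) : Equiv.Perm Cfsg.GolayPt)⁻¹))).toMul : E')
        = g * ((θ' w).toMul : E') * g⁻¹) :
    ∀ e e', piOf φ e = piOf φ' e' → ∀ a ∈ N, ∀ a' ∈ N', crdD hsurj a = crdD hsurj' a' →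
      crdD hsurj (e * a * e⁻¹) = crdD hsurj' (e' * a' * e'⁻¹) := by
  intro e e' he a ha a' ha' h
  obtain ⟨w, rfl⟩ := mem_theta hsurj ha
  obtain ⟨w', rfl⟩ := mem_theta hsurj' ha'
  rw [crdD_theta hsurj hker, crdD_theta hsurj' hker'] at h
  rw [← hθ e w, ← hθ' e' w', crdD_theta hsurj hker, crdD_theta hsurj' hker']
  have h1 : φ (QuotientGroup.mk e) = φ' (QuotientGroup.mk e') := he
  rw [← h1]
  funext k
  show dotW (w ∘ _) _ = dotW (w' ∘ _) _
  rw [dotW_comp, dotW_comp, expand_gen (dotW w) (dotW_add_right w), expand_gen (dotW w') (dotW_add_right w')]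
  apply Finset.sum_congr rfl
  intro j _
  have h2 : dotW w (cw (2 ^ j.1)) = dotW w' (cw (2 ^ j.1)) := congrFun h j
  rw [h2]


/-- The non-split extension of the Mathieu group M₂₃ by its cocode module is unique. Suppose E and E' are finite groups, each with a normal subgroup (N, N'), an isomorphism of the quotient onto M₂₃ = `Spor.M23`, and a surjective additive homomorphism from the binary words on the 24 points `GolayPt` onto the normal subgroup with kernel the Golay code `golayCode` together with its translate by the unit vector at the extra point `none`, intertwining the coordinate permutation w ↦ w ∘ σ⁻¹ (σ the image of gN) with conjugation by g; and suppose that in each group the normal subgroup has no complement. Then E and E' are isomorphic. -/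
theorem result
    {E : Type*} [Group E] [Finite E] (N : Subgroup E) [hN : N.Normal]
    (φ : E ⧸ N ≃* ↥Cfsg.Spor.M23) (θ : (Cfsg.GolayPt → ZMod 2) →+ Additive ↥N)
    (hsurj : Function.Surjective θ)
    (hker : ∀ w : Cfsg.GolayPt → ZMod 2, θ w = 0 ↔ (w ∈ Cfsg.golayCode ∨ w + Pi.single none 1 ∈ Cfsg.golayCode))
    (hθ : ∀ (g : E) (w : Cfsg.GolayPt → ZMod 2),
      ((θ (w ∘ ⇑(((φ (QuotientGroup.mk g) : ↥Cfsg.Spor.M23) : Equiv.Perm Cfsg.GolayPt)⁻¹))).toMul : E)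
        = g * ((θ w).toMul : E) * g⁻¹)
    (hns : ∀ H : Subgroup E, H ⊓ N = ⊥ → H ⊔ N ≠ ⊤)
    {E' : Type*} [Group E'] [Finite E'] (N' : Subgroup E') [hN' : N'.Normal]
    (φ' : E' ⧸ N' ≃* ↥Cfsg.Spor.M23) (θ' : (Cfsg.GolayPt → ZMod 2) →+ Additive ↥N')
    (hsurj' : Function.Surjective θ')
    (hker' : ∀ w : Cfsg.GolayPt → ZMod 2, θ' w = 0 ↔ (w ∈ Cfsg.golayCode ∨ w + Pi.single none 1 ∈ Cfsg.golayCode))
    (hθ' : ∀ (g : E') (w : Cfsg.GolayPt → ZMod 2),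
      ((θ' (w ∘ ⇑(((φ' (QuotientGroup.mk g) : ↥Cfsg.Spor.M23) : Equiv.Perm Cfsg.GolayPt)⁻¹))).toMul : E')
        = g * ((θ' w).toMul : E') * g⁻¹)
    (hns' : ∀ H : Subgroup E', H ⊓ N' = ⊥ → H ⊔ N' ≠ ⊤) :
    Nonempty (E ≃* E') := by
  classical
  exact iso_of_acts (ctxD φ hsurj hker) (actsD_of φ hsurj hker hθ) hns
    (ctxD φ' hsurj' hker') (actsD_of φ' hsurj' hker' hθ') hns'
    (eq_coords φ hsurj hker hθ φ' hsurj' hker' hθ')

end Cfsg.Agent.S2651
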