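import Mathlib
import Cfsg.Statements.S2756
import Cfsg.Agent.Lib.InvMain

set_option autoImplicit false
open Cfsg
open scoped commutatorElement

namespace Cfsg.Agent.S2756

/-- For a finite group G the following are equivalent: (a) G has a normal Sylow 2-subgroup; (b) for every odd prime q dividing the order of G and every Sylow q-subgroup T, the normalizer of Z(J(T)) has a normal Sylow 2-subgroup; (c) for every odd prime q and every Sylow q-subgroup T, no nonidentity element of T is inverted by an element of the normalizer of Z(J(T)). Here J(T) is the Thompson subgroup generated by the abelian subgroups of T of largest order. Stated as the two equivalences (a) ⇔ (b) and (a) ⇔ (c). -/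
theorem result {G : Type*} [Group G] [Finite G] : ((∀ P : Sylow 2 G, (P : Subgroup G).Normal) ↔ ∀ (q : ℕ) [Fact q.Prime], q ≠ 2 → q ∣ Nat.card G → ∀ T : Sylow q G, ∀ P : Sylow 2 ↥(Subgroup.normalizer (Cfsg.centerThompsonAOf (T : Subgroup G) : Set G)), (P : Subgroup ↥(Subgroup.normalizer (Cfsg.centerThompsonAOf (T : Subgroup G) : Set G))).Normal) ∧ ((∀ P : Sylow 2 G, (P : Subgroup G).Normal) ↔ ∀ (q : ℕ) [Fact q.Prime], q ≠ 2 → ∀ T : Sylow q G, ∀ x ∈ (T : Subgroup G), x ≠ 1 → ∀ g ∈ Subgroup.normalizer (Cfsg.centerThompsonAOf (T : Subgroup G) : Set G), g * x * g⁻¹ ≠ x⁻¹) := by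
  classical
  have hsub : ∀ (K : Subgroup G), (∀ P : Sylow 2 G, (P : Subgroup G).Normal) → ∀ P : Sylow 2 K, (P : Subgroup K).Normal := by
    intro K h P
    haveI hf : Fact (Nat.Prime 2) := ⟨Nat.prime_two⟩
    obtain ⟨P₀⟩ : Nonempty (Sylow 2 G) := inferInstance
    haveI hP₀ : (P₀ : Subgroup G).Normal := h P₀
    have h1 : IsPGroup 2 ((P₀ : Subgroup G).subgroupOf K) :=
      P₀.isPGroup'.comap_of_injective K.subtype K.subtype_injective
    have h2 : (P : Subgroup K) ≤ (P₀ : Subgroup G).subgroupOf K := by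
      intro x hx
      have h3 : IsPGroup 2 ((P : Subgroup K).map K.subtype) := P.isPGroup'.map _
      obtain ⟨P₁, hP₁⟩ := h3.exists_le_sylow
      have h4 : (P₁ : Subgroup G) = P₀ := P₀.is_maximal' P₁.isPGroup' (P₀.isPGroup'.le_sylow_of_normal P₁)
      rw [h4] at hP₁
      exact hP₁ ⟨x, hx, rfl⟩
    have h3 := P.is_maximal' h1 h2
    rw [← h3]
    infer_instance
  have hnormal : ∀ (X : Type _) [Group X] [Finite X] (q : ℕ) [Fact q.Prime], q ≠ 2 → (∀ P : Sylow 2 X, (P : Subgroup X).Normal) →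
      Lib.InvFreeP.InvFree q X := by
    intro X _ _ q _ hq h
    haveI hf : Fact (Nat.Prime 2) := ⟨Nat.prime_two⟩
    obtain ⟨P₀⟩ : Nonempty (Sylow 2 X) := inferInstance
    haveI hP₀ : (P₀ : Subgroup X).Normal := h P₀
    refine Lib.InvFreeP.invFree_of_normal hq (P₀ : Subgroup X) ?_ P₀.isPGroup'
    rintro x ⟨k, hk⟩
    have h3 : IsPGroup 2 (Subgroup.zpowers x) := by
      rintro ⟨_, i, rfl⟩
      refine ⟨k, Subtype.ext ?_⟩
      show (x ^ i) ^ 2 ^ k = 1
      rw [← zpow_natCast, ← zpow_mul, mul_comm, zpow_mul, zpow_natCast, hk, one_zpow]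
    obtain ⟨P₁, hP₁⟩ := h3.exists_le_sylow
    have h4 : (P₁ : Subgroup X) = P₀ := P₀.is_maximal' P₁.isPGroup' (P₀.isPGroup'.le_sylow_of_normal P₁)
    rw [h4] at hP₁
    exact hP₁ (Subgroup.mem_zpowers x)
  refine ⟨⟨fun h q _ _ _ T => hsub _ h, fun h P => ?_⟩, ⟨fun h q _ hq T x hx hx1 g _ hinv => ?_, fun h P => ?_⟩⟩
  · refine Lib.InvFreeP.normal_sylow (fun q hq hq2 => ?_) P
    haveI : Fact q.Prime := ⟨hq⟩
    by_cases hd : q ∣ Nat.card G
    · obtain ⟨T⟩ : Nonempty (Sylow q G) := inferInstance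
      exact Lib.InvMain.thmT hq2 _ G rfl T (hnormal _ q hq2 (h q hq2 hd T))
    · rintro t y - ⟨m, hm⟩ -
      have h1 : orderOf y ∣ q ^ m := orderOf_dvd_of_pow_eq_one hm
      have h2 : orderOf y ∣ Nat.card G := orderOf_dvd_natCard y
      have hc : Nat.Coprime (q ^ m) (Nat.card G) :=
        Nat.Coprime.pow_left _ ((Nat.Prime.coprime_iff_not_dvd hq).mpr hd)
      exact orderOf_eq_one_iff.mp (Nat.eq_one_of_dvd_coprimes hc h1 h2)
  · have hI := hnormal G q hq h
    obtain ⟨e, he, hk, -⟩ := Lib.InvFreeP.exists_part Nat.prime_two g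
    have h1 := Lib.InvFreeP.inverts_pow hinv he
    obtain ⟨m, hm⟩ := T.isPGroup' ⟨x, hx⟩
    exact hx1 (hI _ x hk ⟨m, by simpa using congrArg Subtype.val hm⟩ h1)
  · refine Lib.InvFreeP.normal_sylow (fun q hq hq2 => ?_) P
    haveI : Fact q.Prime := ⟨hq⟩
    obtain ⟨T⟩ : Nonempty (Sylow q G) := inferInstance
    refine Lib.InvMain.thmT hq2 _ G rfl T ?_
    rintro ⟨t, ht⟩ ⟨y, hy⟩ ⟨k, hk⟩ ⟨m, hm⟩ hinv
    have hk' : t ^ 2 ^ k = 1 := congrArg Subtype.val hk
    have hm' : y ^ q ^ m = 1 := congrArg Subtype.val hm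
    have hinv' : t * y * t⁻¹ = y⁻¹ := congrArg Subtype.val hinv
    have hyp : IsPGroup q (Subgroup.zpowers y) := by
      rintro ⟨_, i, rfl⟩
      refine ⟨m, Subtype.ext ?_⟩
      show (y ^ i) ^ q ^ m = 1
      rw [← zpow_natCast, ← zpow_mul, mul_comm, zpow_mul, zpow_natCast, hm', one_zpow]
    have hTN : (T : Subgroup G) ≤ Subgroup.normalizer (Cfsg.centerThompsonAOf (T : Subgroup G) : Set G) := by
      intro x hx
      apply Lib.InvLocal.mem_NN_centerThompson
      exact Subgroup.le_normalizer hx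
    obtain ⟨n, hn, hnT⟩ := Lib.SylowConjLemmas.exists_conj_mem_of_le T _ hTN (Subgroup.zpowers y) hyp
      (Subgroup.zpowers_le.mpr hy)
    have hxT : n * y * n⁻¹ ∈ (T : Subgroup G) := hnT y (Subgroup.mem_zpowers y)
    by_contra hy1
    have hy2 : y ≠ 1 := fun h0 => hy1 (Subtype.ext h0)
    have hx1 : n * y * n⁻¹ ≠ 1 := by
      intro h0
      apply hy2
      have e : y = n⁻¹ * (n * y * n⁻¹) * n := by group
      rw [e, h0]; group
    refine h q hq2 T _ hxT hx1 (n * t * n⁻¹) ?_ ?_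
    · exact Subgroup.mul_mem _ (Subgroup.mul_mem _ hn ht) (Subgroup.inv_mem _ hn)
    · calc n * t * n⁻¹ * (n * y * n⁻¹) * (n * t * n⁻¹)⁻¹ = n * (t * y * t⁻¹) * n⁻¹ := by group
        _ = (n * y * n⁻¹)⁻¹ := by rw [hinv']; group

end Cfsg.Agent.S2756
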