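import Mathlib
import Cfsg.Statements.S2787
import Cfsg.Agent.Lib.QuadPSL2
import Cfsg.Agent.Lib.Chev.TwG2F
import Cfsg.Agent.Lib.Chev.TwG2M

set_option autoImplicit false
open Cfsg

namespace Cfsg.Agent.S2787

/-- Let p be a prime and let H act by conjugation on the elementary abelian p-subgroup V of a finite group, irreducibly (no H-invariant subgroups of V other than 1 and V) and nontrivially, and suppose H/C_H(V) is isomorphic to PSL₂(F) for a field F with p^n elements, p^n odd, or p = 3 and H/C_H(V) is isomorphic to a Ree group ²G₂(3^(2m+1)), m ≥ 1. Then no subgroup A of H acting nontrivially on V acts quadratically: [V, A, A] = 1 forces [V, A] = 1. -/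
theorem result {G : Type*} [Group G] [Finite G] {p : ℕ} [Fact p.Prime] (V H : Subgroup G) (hV : Cfsg.IsElementaryAbelian p V) (hHV : H ≤ Subgroup.normalizer (V : Set G)) (hirr : ∀ U : Subgroup G, U ≤ V → H ≤ Subgroup.normalizer (U : Set G) → U = ⊥ ∨ U = V) (hnt : ¬ H ≤ Subgroup.centralizer (V : Set G)) [hn : ((Subgroup.centralizer (V : Set G)).subgroupOf H).Normal] (hq : (∃ (F : Type) (_ : Field F) (_ : Fintype F) (n : ℕ), Fintype.card F = p ^ n ∧ Odd (Fintype.card F) ∧ Nonempty (↥H ⧸ (Subgroup.centralizer (V : Set G)).subgroupOf H ≃* Matrix.ProjectiveSpecialLinearGroup (Fin 2) F)) ∨ (p = 3 ∧ Cfsg.Lie.IsoRee (↥H ⧸ (Subgroup.centralizer (V : Set G)).subgroupOf H))) (A : Subgroup G) (hA : A ≤ H) (hquad : ⁅⁅V, A⁆, A⁆ = ⊥) : ⁅V, A⁆ = ⊥ := by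
  classical
  open scoped commutatorElement in
  have hqa : ∀ a ∈ A, ∀ v ∈ V, ⁅⁅v, a⁆, a⁆ = 1 := by
    intro a ha v hv
    have h1 : ⁅v, a⁆ ∈ ⁅V, A⁆ := Subgroup.commutator_mem_commutator hv ha
    have h2 := Subgroup.commutator_mem_commutator h1 ha
    rw [hquad] at h2
    exact Subgroup.mem_bot.mp h2
  have key : ∀ a : H, (a : G) ∈ A → (a : G) ∈ Subgroup.centralizer (V : Set G) := by
    intro a ha
    rcases hq with ⟨F, instF, instFt, n, hcard, hodd, ⟨e⟩⟩ | ⟨rfl, K, instK, instKt, m, hm, hK, ⟨e⟩⟩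
    · haveI : CharP F p := charP_of_card_eq_prime_pow hcard
      have hp2 : p ≠ 2 := by
        rintro rfl
        have h1 : n ≠ 0 := by
          rintro rfl
          have := Fintype.one_lt_card (α := F)
          omega
        rw [hcard] at hodd
        exact (Nat.not_odd_iff_even.mpr ((even_two).pow_of_ne_zero h1)) hodd
      exact Cfsg.Agent.Lib.QuadPSL2.mem_centralizer_psl2 V H hp2 hV hHV e a (hqa a ha)
    · have hR : Cfsg.Agent.Lib.Chev.TwG2.Ree K m := ⟨hm, hK⟩
      obtain ⟨d⟩ := Cfsg.Agent.Lib.Chev.TwG2.exists_dat hK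
      haveI hs : IsSimpleGroup ↥(Cfsg.Lie.twistedG2 K (3 ^ m)) := hR.simple d
      haveI : Finite ↥(Cfsg.Lie.twistedG2 K (3 ^ m)) := Finite.of_equiv _ e.toEquiv
      refine Cfsg.Agent.Lib.QuadPSL2.mem_centralizer_of_abelian V H (by norm_num) hV hHV ?_ ?_ a (hqa a ha)
      · intro N hNn hNp
        have hN' : (N.map e.toMonoidHom).Normal := hNn.map _ e.surjective
        rcases hs.eq_bot_or_eq_top_of_normal _ hN' with h | h
        · exact (Subgroup.map_eq_bot_iff_of_injective _ e.injective).mp h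
        · exfalso
          have hall : ∀ r : ↥(Cfsg.Lie.twistedG2 K (3 ^ m)), ∃ k : ℕ, r ^ 3 ^ k = 1 := by
            intro r
            have hr : r ∈ N.map e.toMonoidHom := by rw [h]; trivial
            obtain ⟨x, hx, rfl⟩ := hr
            obtain ⟨k, hk⟩ := hNp ⟨x, hx⟩
            refine ⟨k, ?_⟩
            have h1 : x ^ 3 ^ k = 1 := congrArg Subtype.val hk
            show e x ^ 3 ^ k = 1
            rw [← map_pow, h1, map_one]
          let S : Sylow 2 ↥(Cfsg.Lie.twistedG2 K (3 ^ m)) := default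
          have hS := (Cfsg.Agent.Lib.Chev.TwG2.main_S1157 hK S).1
          have hSb : (S : Subgroup ↥(Cfsg.Lie.twistedG2 K (3 ^ m))) = ⊥ := by
            rw [eq_bot_iff]
            intro r hr
            obtain ⟨k, hk⟩ := hall r
            obtain ⟨j, hj⟩ := S.isPGroup' ⟨r, hr⟩
            have hj' : r ^ 2 ^ j = 1 := congrArg Subtype.val hj
            have h1 : orderOf r ∣ 3 ^ k := orderOf_dvd_of_pow_eq_one hk
            have h2 : orderOf r ∣ 2 ^ j := orderOf_dvd_of_pow_eq_one hj'
            have h3 : Nat.Coprime (3 ^ k) (2 ^ j) := Nat.Coprime.pow _ _ (by norm_num)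
            have h4 := Nat.Coprime.eq_one_of_dvd (Nat.Coprime.coprime_dvd_left h1 h3) h2
            exact Subgroup.mem_bot.mpr (orderOf_eq_one_iff.mp h4)
          rw [hSb] at hS
          have h5 : (⊤ : Subgroup ↥(Cfsg.Lie.twistedG2 K (3 ^ m))) = ⊥ := by
            rw [← hS]
            ext x
            simp [Subgroup.mem_centralizer_iff]
          exact top_ne_bot h5
      · intro Q hQ x hx y hy
        have hQ' : IsPGroup 2 (Q.map e.toMonoidHom) := hQ.map _
        obtain ⟨S, hS⟩ := hQ'.exists_le_sylow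
        have hSc := (Cfsg.Agent.Lib.Chev.TwG2.main_S1157 hK S).1
        have h1 : e y ∈ (S : Subgroup ↥(Cfsg.Lie.twistedG2 K (3 ^ m))) := hS ⟨y, hy, rfl⟩
        have h2 : e x ∈ (S : Subgroup ↥(Cfsg.Lie.twistedG2 K (3 ^ m))) := hS ⟨x, hx, rfl⟩
        rw [← hSc] at h1
        have h3 := (Subgroup.mem_centralizer_iff.mp h1) _ h2
        apply e.injective
        rw [map_mul, map_mul]
        exact h3
  rw [Subgroup.commutator_eq_bot_iff_le_centralizer, Subgroup.le_centralizer_iff]
  intro a ha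
  exact key ⟨a, hA ha⟩ ha

end Cfsg.Agent.S2787
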