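import Mathlib
import Cfsg.Agent.Lib.QdFusion
import Cfsg.Statements.S2794
-- import your own Cfsg.Agent.* helpers here

set_option autoImplicit false
open Cfsg

namespace Cfsg.Agent.S2794



/-- For an odd prime p and a finite group G, the group Qd(p) is not involved in G if and only if in every section K/R of G, for every Sylow p-subgroup S* of K/R, the centre of J(S*) (J generated by the abelian subgroups of largest order) controls strong fusion in K/R. -/
theorem result {G : Type*} [Group G] [Finite G] {p : ℕ} [Fact p.Prime] (hp : p ≠ 2) : ¬ Cfsg.Involves ↥(Cfsg.qd p) G ↔ ∀ (K R : Subgroup G) [hR : (R.subgroupOf K).Normal], ∀ T : Sylow p (K ⧸ R.subgroupOf K), Cfsg.ControlsStrongFusion p (Cfsg.centerThompsonAOf (T : Subgroup (K ⧸ R.subgroupOf K))) := by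
  constructor
  · intro h K R hR T
    have hfree := Cfsg.Agent.Lib.QdFree.free_section h K R
    have hSC : Cfsg.IsStronglyClosed (T : Subgroup (K ⧸ R.subgroupOf K)) (T : Subgroup (K ⧸ R.subgroupOf K)) :=
      ⟨le_rfl, fun x hx k hk => hk⟩
    refine ⟨T, ?_, fun A hA => ?_⟩
    · rw [← Cfsg.Agent.Lib.ZJControl.WW_zero_eq]
      exact Cfsg.Agent.Lib.ZJControl.WW_le 0 _
    · have h1 := Cfsg.Agent.Lib.QdFree.control_free hp (dvd_zero p) hfree T _ hSC A hA
      rwa [Cfsg.Agent.Lib.ZJControl.WW_zero_eq] at h1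
  · rintro h ⟨K, R, hR, ⟨e⟩⟩
    obtain ⟨T⟩ : Nonempty (Sylow p (K ⧸ R.subgroupOf K)) := inferInstance
    exact Cfsg.Agent.Lib.QdFusion.not_controls_of_equiv hp e T (h K R T)

end Cfsg.Agent.S2794
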