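import Cfsg.Statements.S2806
import Cfsg.Agent.Lib.PointStab

set_option autoImplicit false
open Cfsg

namespace Cfsg.Agent.S2806

open Cfsg.Agent.Lib.PointStab

theorem pointStabilizer_eq {H : Type*} [Group H] {p : ℕ} (X R : Subgroup H) :
    Cfsg.pointStabilizer p X R = pg p (X ⊓ Subgroup.centralizer ((elemZ p R : Subgroup H) : Set H)) := by
  rw [Cfsg.pointStabilizer, omegaOne_eq_elemZ]
  rfl

/-- Let H be a finite group of local characteristic p, T a Sylow p-subgroup, and L₁, L₂ subnormal subgroups of H generating the subgroup L. Then the point stabilizer of L with respect to T ∩ L is generated by the point stabilizers of L₁ and L₂ with respect to T ∩ L₁ and T ∩ L₂ (point stabilizer of X w.r.t. R: the subgroup generated by the p-elements of X centralizing Ω₁(Z(R))). -/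
theorem result {H : Type*} [Group H] [Finite H] {p : ℕ} [Fact p.Prime] (hH : Cfsg.IsOfLocalCharacteristic p H) (T : Sylow p H) (L₁ L₂ : Subgroup H) (h₁ : L₁.IsSubnormal) (h₂ : L₂.IsSubnormal) : Cfsg.pointStabilizer p (L₁ ⊔ L₂) ((T : Subgroup H) ⊓ (L₁ ⊔ L₂)) = Cfsg.pointStabilizer p L₁ ((T : Subgroup H) ⊓ L₁) ⊔ Cfsg.pointStabilizer p L₂ ((T : Subgroup H) ⊓ L₂) := by
  classical
  rw [pointStabilizer_eq, pointStabilizer_eq, pointStabilizer_eq]
  set L : Subgroup H := L₁ ⊔ L₂ with hLdef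
  have hL : L.IsSubnormal := Cfsg.Agent.Lib.Subnormal.sup_isSubnormal L₁ L₂ h₁ h₂
  set R : Subgroup H := (T : Subgroup H) ⊓ L with hR
  set V : Subgroup H := elemZ p R with hV
  set X : Subgroup H := L ⊓ Subgroup.centralizer (V : Set H) with hX
  -- the two directions for a subnormal `A ≤ L`
  have hdown : ∀ A : Subgroup H, A ≤ L → A.IsSubnormal → ∀ x ∈ A, (∃ k : ℕ, orderOf x = p ^ k) →
      x ∈ Subgroup.centralizer (V : Set H) →
      x ∈ Subgroup.centralizer ((elemZ p ((T : Subgroup H) ⊓ A) : Subgroup H) : Set H) := by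
    intro A hAL hA x hx hk hxc
    exact Subgroup.mem_centralizer_iff.mpr
      (centralize_of_subnormal hH T hL hAL hA hx (Subgroup.mem_centralizer_iff.mp hxc) hk)
  have hup : ∀ A : Subgroup H, A ≤ L → A.IsSubnormal → ∀ x ∈ A, (∃ k : ℕ, orderOf x = p ^ k) →
      x ∈ Subgroup.centralizer ((elemZ p ((T : Subgroup H) ⊓ A) : Subgroup H) : Set H) →
      x ∈ Subgroup.centralizer (V : Set H) := by
    intro A hAL hA x hx hk hxc
    refine Subgroup.mem_centralizer_iff.mpr ?_
    intro e he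
    have he' : e ∈ elemZ p R := he
    have h1 := commute_of_omega hH T hA he'.2.2 (fun t ht => by
      exact Subgroup.mem_centralizer_iff.mp he'.2.1 t (inf_le_inf_left _ hAL ht)) hx
      (Subgroup.mem_centralizer_iff.mp hxc) hk
    exact h1.symm
  -- the point stabilizers as `pg` of sections of `X`
  have hPeq : ∀ A : Subgroup H, A ≤ L → A.IsSubnormal →
      pg p (A ⊓ Subgroup.centralizer ((elemZ p ((T : Subgroup H) ⊓ A) : Subgroup H) : Set H)) =
        pg p (A ⊓ X) := by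
    intro A hAL hA
    rw [pg, pg]
    congr 1
    ext x
    constructor
    · rintro ⟨⟨h1, h2⟩, h3⟩
      exact ⟨⟨h1, hAL h1, hup A hAL hA x h1 h3 h2⟩, h3⟩
    · rintro ⟨⟨h1, _, h2⟩, h3⟩
      exact ⟨⟨h1, hdown A hAL hA x h1 h3 h2⟩, h3⟩
  have hL₁ : L₁ ≤ L := le_sup_left
  have hL₂ : L₂ ≤ L := le_sup_right
  rw [hPeq L₁ hL₁ h₁, hPeq L₂ hL₂ h₂]
  apply le_antisymm
  · -- generators of the left side
    rw [pg, Subgroup.closure_le]
    rintro x ⟨hx, hk⟩
    have hxX : x ∈ X := hx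
    -- `J` is subnormal in `X`
    have hs : ∀ A : Subgroup H, A.IsSubnormal → ((pg p (A ⊓ X)).subgroupOf X).IsSubnormal := by
      intro A hA
      apply pg_subnormal_in inf_le_right
      rw [Subgroup.inf_subgroupOf_right]
      exact hA.subgroupOf
    have hleX : ∀ A : Subgroup H, pg p (A ⊓ X) ≤ X := fun A => (pg_le _).trans inf_le_right
    have hJ : ((pg p (L₁ ⊓ X) ⊔ pg p (L₂ ⊓ X)).subgroupOf X).IsSubnormal := by
      rw [Subgroup.subgroupOf_sup (hleX L₁) (hleX L₂)]
      exact Cfsg.Agent.Lib.Subnormal.sup_isSubnormal _ _ (hs L₁ h₁) (hs L₂ h₂)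
    have hRX : R ≤ X := by
      refine le_inf inf_le_right ?_
      intro r hr
      refine Subgroup.mem_centralizer_iff.mpr ?_
      intro e he
      have he' : e ∈ elemZ p R := he
      exact (Subgroup.mem_centralizer_iff.mp he'.2.1 r hr).symm
    obtain ⟨S, hS⟩ := exists_sylow_of_le T hL (inf_le_left : X ≤ L) hRX
    have hTi : ∀ A : Subgroup H, A ≤ L → (T : Subgroup H) ⊓ A ≤ pg p (A ⊓ X) := by
      intro A hAL
      apply le_pg (T.isPGroup'.to_le inf_le_left)
      intro r hr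
      exact ⟨hr.2, hRX (inf_le_inf_left _ hAL hr)⟩
    have hSJ : (S : Subgroup X) ≤ (pg p (L₁ ⊓ X) ⊔ pg p (L₂ ⊓ X)).subgroupOf X := by
      rw [hS]
      intro r hr
      have hr' : (r : H) ∈ (T : Subgroup H) ⊓ (L₁ ⊔ L₂) := hr
      have h1 := Cfsg.Agent.Lib.SylowJoin.inf_sup_le T L₁ L₂ h₁ h₂ hr'
      exact (sup_le_sup (hTi L₁ hL₁) (hTi L₂ hL₂)) h1
    have h2 := pelt_mem_of_subnormal_of_sylow hJ S hSJ ⟨x, hxX⟩ (by
      obtain ⟨k, hk⟩ := hk
      exact ⟨k, by rw [Subgroup.orderOf_mk]; exact hk⟩)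
    exact h2
  · apply sup_le
    · exact Subgroup.closure_mono (fun x hx => ⟨hx.1.2, hx.2⟩)
    · exact Subgroup.closure_mono (fun x hx => ⟨hx.1.2, hx.2⟩)

end Cfsg.Agent.S2806
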