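import Mathlib
import Cfsg.Statements.S2809
import Cfsg.Agent.Lib.PResid

set_option autoImplicit false
open Cfsg
open scoped commutatorElement

namespace Cfsg.Agent.S2809

/-- Let H be a finite group, p a prime, R a p-subgroup of H with C_H(R) ≤ R, and L a subgroup of N_H(R) acting nilpotently on R (some iterated commutator [R, L, …, L] is trivial). Then L is a p-group. -/
theorem result {H : Type*} [Group H] [Finite H] {p : ℕ} [Fact p.Prime] (R : Subgroup H) (hR : IsPGroup p ↥R) (hC : Subgroup.centralizer (R : Set H) ≤ R) (L : Subgroup H) (hL : L ≤ Subgroup.normalizer (R : Set H)) (hnil : ∃ n : ℕ, Cfsg.iterCommutator R L n = ⊥) : IsPGroup p ↥L := by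
  open Cfsg.Agent.Lib.PResid in
  · obtain ⟨n, hn⟩ := hnil
    -- the chain consists of subgroups of R
    have hle : ∀ i, iterCommutator R L i ≤ R := by
      intro i
      induction i with
      | zero => exact le_rfl
      | succ i ih =>
        show ⁅iterCommutator R L i, L⁆ ≤ R
        exact (Subgroup.commutator_mono ih le_rfl).trans
          (Subgroup.le_normalizer_iff_commutator_le_left.mp hL)
    -- coprime elements of L centralize the whole chain
    have key : ∀ b ∈ L, (orderOf b).Coprime p → ∀ k, ∀ v ∈ iterCommutator R L (n - k), Commute v b := by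
      intro b hb hbc k
      induction k with
      | zero =>
        intro v hv
        rw [Nat.sub_zero, hn, Subgroup.mem_bot] at hv
        rw [hv]
        exact Commute.one_left b
      | succ k ih =>
        intro v hv
        by_cases hk : k < n
        · have hn1 : n - k = (n - (k + 1)) + 1 := by omega
          rw [hn1] at ih
          have hU : IsPGroup p (iterCommutator R L (n - (k + 1) + 1)) := hR.to_le (hle _)
          refine commute_of_coprime_of_chain hU hbc ih ?_
          have h1 : v⁻¹ ∈ iterCommutator R L (n - (k + 1)) := Subgroup.inv_mem _ hv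
          have h2 : ⁅v⁻¹, b⁆ ∈ iterCommutator R L (n - (k + 1) + 1) :=
            Subgroup.commutator_mem_commutator h1 hb
          have h3 : ⁅v⁻¹, b⁆ = v⁻¹ * (b * v * b⁻¹) := by
            rw [commutatorElement_def]; group
          rwa [h3] at h2
        · have hn1 : n - (k + 1) = n - k := by omega
          rw [hn1] at hv
          exact ih v hv
    have hcent : ∀ b ∈ L, (orderOf b).Coprime p → b = 1 := by
      intro b hb hbc
      have h0 := key b hb hbc n
      rw [Nat.sub_self] at h0
      have hbC : b ∈ Subgroup.centralizer (R : Set H) := by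
        rw [Subgroup.mem_centralizer_iff]
        intro v hv
        exact (h0 v hv).eq
      have hbR := hC hbC
      obtain ⟨m, hm⟩ := exists_pow_eq_one_of_isPGroup hR hbR
      exact eq_one_of_pow_eq_one_of_coprime hm (pow_orderOf_eq_one b) hbc
    intro x
    obtain ⟨a, b, hab, -, ⟨m, hm⟩, hbc, -, hb⟩ := exists_decomp (p := p) (x : H)
    have hbL : b ∈ L := (Subgroup.zpowers_le.mpr x.2) hb
    have hb1 := hcent b hbL hbc
    refine ⟨m, ?_⟩
    ext
    simp only [Subgroup.coe_pow, Subgroup.coe_one]
    rw [hab, hb1, mul_one, hm]

end Cfsg.Agent.S2809
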