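import Mathlib
import Cfsg.Statements.S2810
import Cfsg.Agent.Lib.PResid
import Cfsg.Agent.Lib.PCore
import Cfsg.Agent.Lib.ChainStab

set_option autoImplicit false
open Cfsg
open scoped commutatorElement

namespace Cfsg.Agent.S2810

/-- Let H be a finite group of characteristic p and L a subgroup of H centralizing every factor of some H-invariant chain 1 = A₀ ≤ A₁ ≤ … ≤ Aₙ = O_p(H) of normal subgroups (that is, [A_{i+1}, L] ≤ Aᵢ for each i). Then L ≤ O_p(H). -/
theorem result {H : Type*} [Group H] [Finite H] {p : ℕ} [Fact p.Prime] (hchar : Subgroup.centralizer (Cfsg.pCore p H : Set H) ≤ Cfsg.pCore p H) (L : Subgroup H) (n : ℕ) (A : Fin (n + 1) → Subgroup H) (h0 : A 0 = ⊥) (hn : A (Fin.last n) = Cfsg.pCore p H) (hmono : Monotone A) (hnorm : ∀ i, (A i).Normal) (hcent : ∀ i : Fin n, ⁅A i.succ, L⁆ ≤ A i.castSucc) : L ≤ Cfsg.pCore p H := by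
  open Cfsg.Agent.Lib.PResid Cfsg.Agent.Lib.PCore Cfsg.Agent.Lib.ChainStab in
  · have hOp := isPGroup_pCore (G := H) p
    let D : Subgroup H := ⨅ i : Fin n, stabSub (A i.succ) (A i.castSucc)
    have hnorm' : ∀ i (g : H), g ∈ Subgroup.normalizer ((A i : Subgroup H) : Set H) := by
      intro i g
      rw [Subgroup.normalizer_eq_top_iff.mpr (hnorm i)]
      trivial
    have hLD : L ≤ D := by
      refine le_iInf fun i => ?_
      intro l hl
      exact ⟨hnorm' _ l, fun v hv => (Subgroup.commutator_le.mp (hcent i)) v hv l hl⟩
    have hDn : D.Normal := by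
      constructor
      intro d hd g
      rw [Subgroup.mem_iInf] at hd ⊢
      intro i
      exact conj_mem_stabSub (hd i) (hnorm' _ g) (hnorm' _ g)
    have hDp : IsPGroup p D := by
      apply isPGroup_of_forall_coprime_eq_one
      intro b hbD hbc
      -- `b` centralizes each `A i`
      have hchain : ∀ i : Fin (n + 1), ∀ v ∈ A i, Commute v b := by
        intro i
        induction i using Fin.induction with
        | zero =>
          intro v hv
          rw [h0, Subgroup.mem_bot] at hv
          rw [hv]
          exact Commute.one_left b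
        | succ i ih =>
          have hU : IsPGroup p (A i.castSucc) := hOp.to_le (by
            rw [← hn]; exact hmono (Fin.le_last _))
          exact commute_of_stab hU hbc ih ((Subgroup.mem_iInf.mp hbD) i).2
      have hbC : b ∈ Subgroup.centralizer (pCore p H : Set H) := by
        rw [Subgroup.mem_centralizer_iff]
        intro v hv
        rw [← hn] at hv
        exact (hchain _ v hv).eq
      have hbR := hchar hbC
      obtain ⟨m', hm'⟩ := exists_pow_eq_one_of_isPGroup hOp hbR
      exact eq_one_of_pow_eq_one_of_coprime hm' (pow_orderOf_eq_one b) hbc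
    exact hLD.trans (le_pCore hDn hDp)

end Cfsg.Agent.S2810
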