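import Mathlib
import Cfsg.Statements.S2813
import Cfsg.Agent.Lib.LocalTools
import Cfsg.Agent.Lib.ChainStab
import Cfsg.Agent.Lib.PResid
import Cfsg.Agent.Lib.PCore

set_option autoImplicit false
open Cfsg
open scoped commutatorElement

namespace Cfsg.Agent.S2813

/-- Let K be a subgroup of the finite group H with O_p(K) = 1 and Y a p-subgroup of N_H(K) with [K, Y, Y] = 1. Then [K, Y] = 1. -/
theorem result {H : Type*} [Group H] [Finite H] {p : ℕ} [Fact p.Prime] (K : Subgroup H) (hO : Cfsg.pCore p ↥K = ⊥) (Y : Subgroup H) (hY : IsPGroup p ↥Y) (hYK : Y ≤ Subgroup.normalizer (K : Set H)) (hq : ⁅⁅K, Y⁆, Y⁆ = ⊥) : ⁅K, Y⁆ = ⊥ := by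
  open Cfsg.Agent.Lib.LocalTools Cfsg.Agent.Lib.ChainStab Cfsg.Agent.Lib.PResid Cfsg.Agent.Lib.PCore in
  · have hcent : ∀ c ∈ (⁅K, Y⁆ : Subgroup H), ∀ y ∈ Y, Commute c y := fun c hc y hy => by
      have := Subgroup.commutator_eq_bot_iff_le_centralizer.mp hq hc
      exact ((Subgroup.mem_centralizer_iff.mp this) y hy).symm
    have hKnorm : K ≤ Subgroup.normalizer ((K : Subgroup H) : Set H) := Subgroup.le_normalizer
    rw [eq_bot_iff, Subgroup.commutator_le]
    intro k hk y hy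
    -- the subgroup generated by the `K`-conjugates of `y`
    let S : Set H := {z | ∃ c ∈ K, z = c * y * c⁻¹}
    let A : Subgroup H := Subgroup.closure S
    obtain ⟨n, hn⟩ := exists_pow_eq_one_of_isPGroup hY hy
    have hSc : ∀ a ∈ S, ∀ b ∈ S, Commute a b := by
      rintro _ ⟨c, hc, rfl⟩ _ ⟨d, hd, rfl⟩
      -- conjugate by `c⁻¹`
      have hcd : c⁻¹ * d ∈ K := K.mul_mem (K.inv_mem hc) hd
      have h1 : Commute y ((c⁻¹ * d) * y * (c⁻¹ * d)⁻¹) := by
        have e : (c⁻¹ * d) * y * (c⁻¹ * d)⁻¹ = ⁅c⁻¹ * d, y⁆ * y := by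
          rw [commutatorElement_def]; group
        rw [e]
        exact ((hcent _ (Subgroup.commutator_mem_commutator hcd hy) y hy).symm).mul_right (Commute.refl y)
      have e1 : c * y * c⁻¹ * (d * y * d⁻¹) = c * (y * ((c⁻¹ * d) * y * (c⁻¹ * d)⁻¹)) * c⁻¹ := by group
      have e2 : d * y * d⁻¹ * (c * y * c⁻¹) = c * (((c⁻¹ * d) * y * (c⁻¹ * d)⁻¹) * y) * c⁻¹ := by group
      show c * y * c⁻¹ * (d * y * d⁻¹) = d * y * d⁻¹ * (c * y * c⁻¹)
      rw [e1, e2, h1.eq]
    have hSp : ∀ a ∈ S, ∃ m : ℕ, a ^ p ^ m = 1 := by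
      rintro _ ⟨c, hc, rfl⟩
      exact ⟨n, by rw [conj_pow, hn]; group⟩
    have hAp : IsPGroup p A := isPGroup_closure_of_commute hSc hSp
    -- `K` normalizes `A`
    have hKA : K ≤ Subgroup.normalizer (A : Set H) := by
      intro c hc
      have hmap : ∀ c ∈ K, A.map (MulAut.conj c).toMonoidHom ≤ A := by
        intro c hc
        rw [Subgroup.map_le_iff_le_comap]
        apply (Subgroup.closure_le _).mpr
        rintro _ ⟨d, hd, rfl⟩
        apply Subgroup.subset_closure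
        refine ⟨c * d, K.mul_mem hc hd, ?_⟩
        simp [mul_assoc]
      apply mem_normalizer_of_conj
      · intro a ha
        exact hmap c hc ⟨a, ha, rfl⟩
      · intro a ha
        have := hmap c⁻¹ (K.inv_mem hc) ⟨a, ha, rfl⟩
        simpa using this
    -- `A` normalizes `K`
    have hAK : A ≤ Subgroup.normalizer (K : Set H) := by
      apply (Subgroup.closure_le _).mpr
      rintro _ ⟨d, hd, rfl⟩
      exact Subgroup.mul_mem _ (Subgroup.mul_mem _ (hKnorm hd) (hYK hy)) (Subgroup.inv_mem _ (hKnorm hd))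
    -- `A ⊓ K` is a normal `p`-subgroup of `K`
    have hAK' : (A ⊓ K).subgroupOf K ≤ pCore p K := by
      apply le_pCore
      · constructor
        intro x hx c
        refine ⟨?_, ?_⟩
        · exact (Subgroup.mem_normalizer_iff.mp (hKA c.2) _).mp hx.1
        · exact K.mul_mem (K.mul_mem c.2 x.2) (K.inv_mem c.2)
      · exact (hAp.to_le inf_le_left).comap_of_injective _ (Subgroup.subtype_injective _)
    rw [hO] at hAK'
    have hyA : y ∈ A := Subgroup.subset_closure ⟨1, K.one_mem, by simp⟩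
    have h1 : ⁅y, k⁆ ∈ A := by
      have e : ⁅y, k⁆ = y * (k * y⁻¹ * k⁻¹) := by rw [commutatorElement_def]; group
      rw [e]
      exact A.mul_mem hyA ((Subgroup.mem_normalizer_iff.mp (hKA hk) _).mp (A.inv_mem hyA))
    have h2 : ⁅y, k⁆ ∈ K := by
      have e : ⁅y, k⁆ = (y * k * y⁻¹) * k⁻¹ := by rw [commutatorElement_def]
      rw [e]
      exact K.mul_mem ((Subgroup.mem_normalizer_iff.mp (hYK hy) _).mp hk) (K.inv_mem hk)
    have h3 : (⟨⁅y, k⁆, h2⟩ : K) ∈ (A ⊓ K).subgroupOf K := ⟨h1, h2⟩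
    have h4 := hAK' h3
    rw [Subgroup.mem_bot] at h4
    have h5 : ⁅y, k⁆ = 1 := congrArg Subtype.val h4
    rw [Subgroup.mem_bot, ← commutatorElement_inv, h5, inv_one]

end Cfsg.Agent.S2813
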