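import Mathlib
import Cfsg.Statements.S2814
import Cfsg.Agent.Lib.LocalTools
import Cfsg.Agent.Lib.PClosed
import Cfsg.Agent.Lib.PResid
import Cfsg.Agent.Lib.Subnormal2

set_option autoImplicit false
open Cfsg
open scoped commutatorElement

namespace Cfsg.Agent.S2814

/-- Let A be a subgroup of the finite group H and K the subnormal closure of A (intersection of the subnormal subgroups containing A). Then K is the normal closure of A inside K and N_H(A) ≤ N_H(K); K = A·O^p(K), O^p(K) being generated by the elements of K of order prime to p; and if A is a p-group, O^p(K) = [O^p(K), A]. -/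
theorem result {H : Type*} [Group H] [Finite H] {p : ℕ} [Fact p.Prime] (A : Subgroup H) (K : Subgroup H) (hK : K = Cfsg.subnormalClosure A) : (Subgroup.normalClosure ((A.subgroupOf K : Subgroup ↥K) : Set ↥K)).map K.subtype = K ∧ Subgroup.normalizer (A : Set H) ≤ Subgroup.normalizer (K : Set H) ∧ A ⊔ (Cfsg.pResidual p ↥K).map K.subtype = K ∧ (IsPGroup p ↥A → ⁅(Cfsg.pResidual p ↥K).map K.subtype, A⁆ = (Cfsg.pResidual p ↥K).map K.subtype) := by
  open Cfsg.Agent.Lib.LocalTools Cfsg.Agent.Lib.PClosed Cfsg.Agent.Lib.PResid Cfsg.Agent.Lib.Subnormal2 in
  · classical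
    -- K is subnormal, and least among subnormal subgroups containing A
    have hmin : ∀ L : Subgroup H, L.IsSubnormal → A ≤ L → K ≤ L := by
      intro L hL hAL
      rw [hK]
      exact sInf_le ⟨hAL, hL⟩
    have hAK : A ≤ K := by
      rw [hK]
      exact le_sInf (fun L hL => hL.1)
    have hKs : K.IsSubnormal := by
      have : Finite (Subgroup H) := inferInstance
      have hfin : Set.Finite {L : Subgroup H | A ≤ L ∧ L.IsSubnormal} := Set.toFinite _
      have hne : ({L : Subgroup H | A ≤ L ∧ L.IsSubnormal}).Nonempty :=
        ⟨⊤, le_top, Subgroup.IsSubnormal.top⟩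
      obtain ⟨K₀, hK₀⟩ := hfin.exists_minimal hne
      have h1 : K₀ ≤ K := by
        rw [hK]
        apply le_sInf
        intro L hL
        have h2 : K₀ ⊓ L ∈ {L : Subgroup H | A ≤ L ∧ L.IsSubnormal} :=
          ⟨le_inf hK₀.1.1 hL.1, hK₀.1.2.inf hL.2⟩
        have h3 := hK₀.2 h2 inf_le_left
        exact h3.trans inf_le_right
      have h2 : K = K₀ := le_antisymm (hmin K₀ hK₀.1.2 hK₀.1.1) h1
      rw [h2]
      exact hK₀.1.2
    have hpart3 : A ⊔ (pResidual p ↥K).map K.subtype = K := by
      apply le_antisymm
      · apply sup_le hAK
        rintro _ ⟨x, -, rfl⟩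
        exact x.2
      · set R : Subgroup ↥K := pResidual p ↥K with hR
        have hRn : R.Normal := pResidual_normal p
        set M : Subgroup ↥K := A.subgroupOf K ⊔ R with hM
        have hp : IsPGroup p (↥K ⧸ R) := isPGroup_quotient_pResidual p
        have : Group.IsNilpotent (↥K ⧸ R) := hp.isNilpotent
        have h1 : (M.map (QuotientGroup.mk' R)).IsSubnormal := isSubnormal_of_isNilpotent _
        have h2 : M.IsSubnormal := by
          have h3 := h1.comap (QuotientGroup.mk' R)
          rw [Subgroup.comap_map_eq, QuotientGroup.ker_mk'] at h3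
          have h4 : M ⊔ R = M := sup_eq_left.mpr le_sup_right
          rwa [h4] at h3
        have h3 : (M.map K.subtype).IsSubnormal := h2.trans' hKs
        have h4 : A ≤ M.map K.subtype := by
          intro a ha
          refine ⟨⟨a, hAK ha⟩, ?_, rfl⟩
          exact Subgroup.mem_sup_left ha
        refine (hmin _ h3 h4).trans ?_
        rw [hM, Subgroup.map_sup]
        apply sup_le_sup _ le_rfl
        rintro _ ⟨x, hx, rfl⟩
        exact hx
    refine ⟨?_, ?_, hpart3, ?_⟩
    · apply le_antisymm
      · rintro _ ⟨x, -, rfl⟩
        exact x.2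
      · apply hmin
        · have h1 : (Subgroup.normalClosure ((A.subgroupOf K : Subgroup ↥K) : Set ↥K)).Normal :=
            inferInstance
          exact h1.isSubnormal.trans' hKs
        · intro a ha
          refine ⟨⟨a, hAK ha⟩, ?_, rfl⟩
          apply Subgroup.subset_normalClosure
          exact ha
    · intro g hg
      have h1 : (K.map (MulAut.conj g).toMonoidHom).IsSubnormal :=
        hKs.map (MulAut.conj g).surjective
      have h2 : A ≤ K.map (MulAut.conj g).toMonoidHom := by
        have h3 := conj_map_eq_of_mem_normalizer hg
        conv_lhs => rw [← h3]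
        exact Subgroup.map_mono hAK
      have h3 := hmin _ h1 h2
      have h4 : K = K.map (MulAut.conj g).toMonoidHom := by
        apply Subgroup.eq_of_le_of_card_ge h3
        rw [Subgroup.card_map_of_injective (MulAut.conj g).injective]
      exact mem_normalizer_of_conj_map_eq h4.symm
    · intro hAp
      set R : Subgroup ↥K := pResidual p ↥K with hR
      have hRn : R.Normal := pResidual_normal p
      set B : Subgroup H := R.map K.subtype with hB
      have hBK : B ≤ K := by
        rintro _ ⟨x, -, rfl⟩
        exact x.2
      have hBn : K ≤ Subgroup.normalizer (B : Set H) := by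
        have h1 := Subgroup.le_normalizer_map (H := R) K.subtype
        rw [Subgroup.normalizer_eq_top_iff.mpr hRn, ← MonoidHom.range_eq_map,
          Subgroup.range_subtype] at h1
        exact h1
      set W : Subgroup H := ⁅B, A⁆ with hW
      have hWB : W ≤ B := by
        rw [hW, Subgroup.commutator_le]
        intro b hb a ha
        have e : ⁅b, a⁆ = b * (a * b⁻¹ * a⁻¹) := by
          rw [commutatorElement_def]; group
        rw [e]
        apply B.mul_mem hb
        have h1 := hBn (hAK ha)
        exact (Subgroup.mem_normalizer_iff.mp h1 b⁻¹).mp (B.inv_mem hb)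
      have hAW : A ≤ Subgroup.normalizer (W : Set H) := Subgroup.normalizer_commutator_ge_right _ _
      have hBW : B ≤ Subgroup.normalizer (W : Set H) := Subgroup.normalizer_commutator_ge_left _ _
      have hKW : K ≤ Subgroup.normalizer (W : Set H) := by
        rw [← hpart3]
        exact sup_le hAW hBW
      set E : Subgroup H := A ⊔ W with hE
      have hEK : E ≤ K := sup_le hAK (hWB.trans hBK)
      have hKE : K ≤ Subgroup.normalizer (E : Set H) := by
        rw [← hpart3]
        apply sup_le
        · exact (le_sup_left : A ≤ E).trans Subgroup.le_normalizer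
        · intro b hb
          apply mem_normalizer_of_conj_map_eq
          apply Subgroup.eq_of_le_of_card_ge
          · rw [hE, Subgroup.map_sup, conj_map_eq_of_mem_normalizer (hBW hb)]
            apply sup_le _ le_sup_right
            rintro _ ⟨a, ha, rfl⟩
            have e : (MulAut.conj b).toMonoidHom a = ⁅b, a⁆ * a := by
              simp [commutatorElement_def]
            rw [e]
            exact E.mul_mem (Subgroup.mem_sup_right (Subgroup.commutator_mem_commutator hb ha))
              (Subgroup.mem_sup_left ha)
          · rw [Subgroup.card_map_of_injective (MulAut.conj b).injective]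
      have hEs : E.IsSubnormal := by
        apply Subgroup.IsSubnormal.trans hEK _ hKs
        exact (Subgroup.normal_subgroupOf_of_le_normalizer hKE).isSubnormal
      have hKE' : K ≤ E := hmin E hEs le_sup_left
      have hWn : (W.subgroupOf K).Normal := Subgroup.normal_subgroupOf_of_le_normalizer hKW
      have hsup : A.subgroupOf K ⊔ W.subgroupOf K = ⊤ := by
        apply Subgroup.map_injective K.subtype_injective
        rw [Subgroup.map_sup, Subgroup.map_subgroupOf_eq_of_le hAK,
          Subgroup.map_subgroupOf_eq_of_le (hWB.trans hBK), ← MonoidHom.range_eq_map,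
          Subgroup.range_subtype]
        exact le_antisymm hEK hKE'
      have hApK : IsPGroup p (A.subgroupOf K) :=
        hAp.comap_of_injective _ (Subgroup.subtype_injective _)  
      have hRW : R ≤ W.subgroupOf K := pResidual_le_of_sup_eq_top hApK hsup
      apply le_antisymm hWB
      rintro _ ⟨x, hx, rfl⟩
      exact hRW hx

end Cfsg.Agent.S2814
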