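import Mathlib
import Cfsg.Statements.S2815
import Cfsg.Agent.Lib.LocalCore
import Cfsg.Agent.Lib.PClosed

set_option autoImplicit false
open Cfsg
open scoped commutatorElement

namespace Cfsg.Agent.S2815

/-- Let H be a finite group and p a prime dividing its order with O_p(H) = 1, and suppose K = O^p(H) (generated by the elements of order prime to p) is quasisimple. Then K = F*(H); for every nontrivial p-subgroup Y of H, K = [K, Y] and K lies in the subgroup generated by the K-conjugates of Y; every normal subgroup of H not containing K has order prime to p; and H is p-irreducible. -/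
theorem result {H : Type*} [Group H] [Finite H] {p : ℕ} [Fact p.Prime] (hp : p ∣ Nat.card H) (hO : Cfsg.pCore p H = ⊥) (hq : Cfsg.IsQuasisimple ↥(Cfsg.pResidual p H)) : Cfsg.pResidual p H = Cfsg.generalizedFittingSubgroup H ∧ (∀ Y : Subgroup H, IsPGroup p ↥Y → Y ≠ ⊥ → ⁅Cfsg.pResidual p H, Y⁆ = Cfsg.pResidual p H ∧ Cfsg.pResidual p H ≤ ⨆ k : ↥(Cfsg.pResidual p H), Y.map (MulAut.conj (k : H)).toMonoidHom) ∧ (∀ C : Subgroup H, C.Normal → ¬ Cfsg.pResidual p H ≤ C → (Nat.card ↥C).Coprime p) ∧ Cfsg.IsPIrreducible p H := by
  open Cfsg.Agent.Lib.LocalCore Cfsg.Agent.Lib.PCore Cfsg.Agent.Lib.PClosed Cfsg.Agent.Lib.PResid in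
  · set K : Subgroup H := pResidual p H with hKdef
    have hp' : p.Prime := Fact.out
    have hKn : K.Normal := pResidual_normal p
    have hKcomp : IsComponent K := ⟨hKn.isSubnormal, hq⟩
    have hKperf : ⁅K, K⁆ = K := comp_perfect hKcomp
    have hCn : (Subgroup.centralizer (K : Set H)).Normal := inferInstance
    set C : Subgroup H := Subgroup.centralizer (K : Set H) with hCdef
    -- (D1)
    have hD1 : ∀ Y : Subgroup H, ⁅K, Y⁆ = K ∨ ⁅K, Y⁆ = ⊥ := by
      intro Y
      have hWK : ⁅K, Y⁆ ≤ K := Subgroup.commutator_le_left K Y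
      have hWN : K ≤ Subgroup.normalizer ((⁅K, Y⁆ : Subgroup H) : Set H) :=
        Subgroup.normalizer_commutator_ge_left K Y
      have hn : ((⁅K, Y⁆ : Subgroup H).subgroupOf K).Normal :=
        (Subgroup.normal_subgroupOf_iff_le_normalizer hWK).mpr hWN
      rcases qs_normal hq ((⁅K, Y⁆ : Subgroup H).subgroupOf K) with h | h
      · left
        rw [Subgroup.subgroupOf_eq_top] at h
        exact le_antisymm hWK h
      · right
        have hc : ⁅K, Y⁆ ≤ Subgroup.centralizer (K : Set H) := by
          intro x hx
          rw [Subgroup.mem_centralizer_iff]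
          intro k hk
          have h1 := h (show (⟨x, hWK hx⟩ : K) ∈ (⁅K, Y⁆ : Subgroup H).subgroupOf K from hx)
          have h2 := Subgroup.mem_center_iff.mp h1 ⟨k, hk⟩
          exact congrArg Subtype.val h2
        have h1 : ⁅⁅K, Y⁆, K⁆ = ⊥ := by
          rw [Subgroup.commutator_eq_bot_iff_le_centralizer]
          exact hc
        have h2 : ⁅⁅Y, K⁆, K⁆ = ⊥ := by
          rw [Subgroup.commutator_comm Y K]
          exact h1
        have h3 := Subgroup.commutator_commutator_eq_bot_of_rotate h1 h2
        rwa [hKperf] at h3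
    -- `C ≤ K`
    obtain ⟨S⟩ : Nonempty (Sylow p C) := inferInstance
    have hresC : (pResidual p C).map C.subtype ≤ K := by
      rw [map_pResidual_eq_closure, Subgroup.closure_le]
      rintro x ⟨_, hx⟩
      exact Subgroup.subset_closure hx
    have hdec : ∀ c : C, ∃ s ∈ (S : Subgroup C), ∃ z : C, (z : H) ∈ K ∧ c = s * z := by
      intro c
      obtain ⟨s, hs, n, hn, e⟩ := exists_sylow_mul_pResidual S c
      exact ⟨s, hs, n, hresC ⟨n, hn, rfl⟩, e⟩
    have hzcentral : ∀ z : C, (z : H) ∈ K → ∀ c : C, c * z = z * c := by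
      intro z hz c
      apply Subtype.ext
      exact (Subgroup.mem_centralizer_iff.mp c.2 z hz).symm
    have hSn : (S : Subgroup C).Normal := by
      constructor
      intro s hs c
      obtain ⟨t, ht, z, hz, rfl⟩ := hdec c
      have h1 : (t * z) * s * (t * z)⁻¹ = t * s * t⁻¹ := by
        have h2 : z * s = s * z := (hzcentral z hz s).symm
        calc (t * z) * s * (t * z)⁻¹ = t * (z * s) * z⁻¹ * t⁻¹ := by group
          _ = t * (s * z) * z⁻¹ * t⁻¹ := by rw [h2]
          _ = t * s * t⁻¹ := by group
      rw [h1]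
      exact (S : Subgroup C).mul_mem ((S : Subgroup C).mul_mem ht hs) ((S : Subgroup C).inv_mem ht)
    have hSchar : (S : Subgroup C).Characteristic := Sylow.characteristic_of_normal S hSn
    have hSmapn : ((S : Subgroup C).map C.subtype).Normal :=
      normal_map_of_characteristic hCn hSchar
    have hSbot : (S : Subgroup C).map C.subtype = ⊥ := by
      rw [eq_bot_iff, ← hO]
      exact le_pCore hSmapn (S.isPGroup'.map _)
    have hSbot' : (S : Subgroup C) = ⊥ := by
      rwa [Subgroup.map_eq_bot_iff_of_injective _ (Subgroup.subtype_injective C)] at hSbot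
    have hCK : C ≤ K := by
      intro c hc
      obtain ⟨s, hs, z, hz, e⟩ := hdec ⟨c, hc⟩
      rw [hSbot'] at hs
      rw [(Subgroup.mem_bot).mp hs, one_mul] at e
      rw [show c = (z : H) from congrArg Subtype.val e]
      exact hz
    have hCcop : (Nat.card C).Coprime p := by
      have h1 := S.not_dvd_index
      rw [hSbot', Subgroup.index_bot] at h1
      exact ((Nat.Prime.coprime_iff_not_dvd hp').mpr h1).symm
    have hnotC : ∀ Y : Subgroup H, IsPGroup p Y → Y ≤ C → Y = ⊥ := by
      intro Y hY hYC
      apply eq_bot_of_isPGroup_of_coprime (p := p) hY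
      have h1 : Nat.card Y ∣ Nat.card C := Subgroup.card_dvd_of_le hYC
      exact Nat.Coprime.coprime_dvd_left h1 hCcop
    have hle : ∀ Y : Subgroup H, ⁅K, Y⁆ = ⊥ → Y ≤ C := by
      intro Y h
      rw [Subgroup.commutator_eq_bot_iff_le_centralizer] at h
      rwa [Subgroup.le_centralizer_iff] at h
    have h3 : ∀ N : Subgroup H, N.Normal → ¬ K ≤ N → (Nat.card N).Coprime p := by
      intro N hN hKN
      have : ⁅K, N⁆ = ⊥ := by
        rcases hD1 N with h | h
        · exfalso
          apply hKN
          rw [← h]
          exact Subgroup.commutator_le_right K N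
        · exact h
      have h1 : Nat.card N ∣ Nat.card C := Subgroup.card_dvd_of_le (hle N this)
      exact Nat.Coprime.coprime_dvd_left h1 hCcop
    refine ⟨?_, ?_, h3, ?_, ?_⟩
    · apply le_antisymm (comp_le_generalizedFitting hKcomp)
      apply sup_le
      · apply sSup_le
        intro L hL
        rcases comp_le_or_commute hL hKn.isSubnormal with h | h
        · exact h
        · have h1 : L ≤ C := by
            rw [Subgroup.commutator_eq_bot_iff_le_centralizer] at h
            exact h
          exact h1.trans hCK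
      · have h1 := comp_commute_fitting hKcomp
        exact (hle _ h1).trans hCK
    · intro Y hY hY1
      have hK : ⁅K, Y⁆ = K := by
        rcases hD1 Y with h | h
        · exact h
        · exact absurd (hnotC Y hY (hle Y h)) hY1
      refine ⟨hK, ?_⟩
      conv_lhs => rw [← hK]
      rw [Subgroup.commutator_le]
      intro k hk y hy
      have e : ⁅k, y⁆ = (k * y * k⁻¹) * y⁻¹ := by rw [commutatorElement_def]
      rw [e]
      apply Subgroup.mul_mem
      · exact Subgroup.mem_iSup_of_mem (⟨k, hk⟩ : K) ⟨y, hy, rfl⟩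
      · apply Subgroup.mem_iSup_of_mem (1 : K)
        refine ⟨y⁻¹, Y.inv_mem hy, ?_⟩
        simp
    · intro h
      obtain ⟨P, hP⟩ := isPClosed_iff_exists.mp h
      have h1 : (P : Subgroup H) = ⊥ := by
        rw [eq_bot_iff, ← hO]
        exact hP
      have h2 := P.not_dvd_index
      rw [h1, Subgroup.index_bot] at h2
      exact h2 hp
    · intro N hN hNc
      by_contra hKN
      have h1 := h3 N hN hKN
      haveI : Finite N := inferInstance
      exact hNc (isPClosed_of_card_coprime h1)

end Cfsg.Agent.S2815
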