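import Mathlib
import Cfsg.Statements.S2816
import Cfsg.Agent.Lib.FStarAct

set_option autoImplicit false
open Cfsg
open scoped commutatorElement

namespace Cfsg.Agent.S2816

/-- Let H be a finite group and p a prime with O_p(H) = 1, and Y a p-subgroup of H. Then for every subnormal subgroup K of H containing Y, [F*(H), Y] = [F*(K), Y] = [F*(K), Y, Y]; and if Y₀ ≤ Y with [F*(H), Y, Y₀] = 1 then Y₀ = 1 (in particular [F*(H), Y] = 1 forces Y = 1). -/
theorem result {H : Type*} [Group H] [Finite H] {p : ℕ} [Fact p.Prime] (hO : Cfsg.pCore p H = ⊥) (Y : Subgroup H) (hY : IsPGroup p ↥Y) : (∀ K : Subgroup H, K.IsSubnormal → Y ≤ K → ⁅Cfsg.generalizedFittingSubgroup H, Y⁆ = ⁅(Cfsg.generalizedFittingSubgroup ↥K).map K.subtype, Y⁆ ∧ ⁅(Cfsg.generalizedFittingSubgroup ↥K).map K.subtype, Y⁆ = ⁅⁅(Cfsg.generalizedFittingSubgroup ↥K).map K.subtype, Y⁆, Y⁆) ∧ (∀ Y₀ : Subgroup H, Y₀ ≤ Y → ⁅⁅Cfsg.generalizedFittingSubgroup H, Y⁆, Y₀⁆ = ⊥ → Y₀ = ⊥) := by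
  open Cfsg.Agent.Lib.FStarAct Cfsg.Agent.Lib.LocalCore Cfsg.Agent.Lib.PCore in
  · refine ⟨?_, ?_⟩
    · intro K hK hYK
      obtain ⟨h1, h2⟩ := commutator_fstar_eq hO hY hK hYK
      exact ⟨h1, h2.symm⟩
    · intro Y₀ hY₀ h
      have hp0 : IsPGroup p Y₀ := hY.to_le hY₀
      have hFn : (Cfsg.generalizedFittingSubgroup H).Normal := inferInstance
      obtain ⟨-, -, t2, -⟩ := top_main (L := Cfsg.generalizedFittingSubgroup H) hO hp0 le_rfl
        hFn.isSubnormal (by rw [Subgroup.normalizer_eq_top_iff.mpr hFn]; exact le_top)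
      have h1 : ⁅⁅Cfsg.generalizedFittingSubgroup H, Y₀⁆, Y₀⁆ = ⊥ := by
        rw [← le_bot_iff, ← h]
        exact Subgroup.commutator_mono (Subgroup.commutator_mono le_rfl hY₀) le_rfl
      rw [h1] at t2
      have h2 : Y₀ ≤ Subgroup.centralizer (Cfsg.generalizedFittingSubgroup H : Set H) := by
        apply Subgroup.commutator_eq_bot_iff_le_centralizer.mp
        rw [Subgroup.commutator_comm]
        exact t2.symm
      have h3 : Y₀ ≤ Cfsg.generalizedFittingSubgroup H := h2.trans centralizer_generalizedFitting_le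
      have h4 : Y₀ ≤ Cfsg.fittingSubgroup H := (le_inf h3 h2).trans inf_centralizer_le_fitting
      exact eq_bot_of_isPGroup_of_coprime hp0
        (Nat.Coprime.coprime_dvd_left (Subgroup.card_dvd_of_le h4) (coprime_card_fitting hO))

end Cfsg.Agent.S2816
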