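import Mathlib
import Cfsg.Statements.S2817
import Cfsg.Agent.Lib.FStarAct
import Cfsg.Agent.Lib.LocalBalance2

set_option autoImplicit false
open Cfsg
open scoped commutatorElement

namespace Cfsg.Agent.S2817

/-- Let H be a finite group and p a prime with O_p(H) = 1, Q a p-subgroup of H, L = [F*(H), Q], and F the largest normal subgroup of F*(H) centralized by Q (a normal subgroup of F*(H) centralized by Q and containing every such). Then F = C_{F*(H)}(LQ); L = [L, Q]; L ∩ F ≤ Φ(L); every p-subgroup B of N_H(Q) with [L, B] ≤ F satisfies [L, B] = 1; and C_H(FL) has order prime to p. -/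
theorem result {H : Type*} [Group H] [Finite H] {p : ℕ} [Fact p.Prime] (hO : Cfsg.pCore p H = ⊥) (Q : Subgroup H) (hQ : IsPGroup p ↥Q) (L : Subgroup H) (hL : L = ⁅Cfsg.generalizedFittingSubgroup H, Q⁆) (F : Subgroup H) (hF : F ≤ Cfsg.generalizedFittingSubgroup H ∧ Cfsg.generalizedFittingSubgroup H ≤ Subgroup.normalizer (F : Set H) ∧ Q ≤ Subgroup.centralizer (F : Set H) ∧ ∀ N : Subgroup H, N ≤ Cfsg.generalizedFittingSubgroup H → Cfsg.generalizedFittingSubgroup H ≤ Subgroup.normalizer (N : Set H) → Q ≤ Subgroup.centralizer (N : Set H) → N ≤ F) : F = Cfsg.generalizedFittingSubgroup H ⊓ Subgroup.centralizer ((L ⊔ Q : Subgroup H) : Set H) ∧ ⁅L, Q⁆ = L ∧ L ⊓ F ≤ (frattini ↥L).map L.subtype ∧ (∀ B : Subgroup H, IsPGroup p ↥B → B ≤ Subgroup.normalizer (Q : Set H) → ⁅L, B⁆ ≤ F → ⁅L, B⁆ = ⊥) ∧ (Nat.card ↥(Subgroup.centralizer ((F ⊔ L : Subgroup H) : Set H))).Coprime p := by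
  open Cfsg.Agent.Lib.FStarAct Cfsg.Agent.Lib.LocalCore Cfsg.Agent.Lib.PCore Cfsg.Agent.Lib.PResid
    Cfsg.Agent.Lib.Glauberman Cfsg.Agent.Lib.LocalBalance2 in
  · set E : Subgroup H := Cfsg.generalizedFittingSubgroup H with hE
    have hEn : E.Normal := inferInstance
    have hNt : ∀ X : Subgroup H, X ≤ Subgroup.normalizer (E : Set H) := by
      intro X
      rw [Subgroup.normalizer_eq_top_iff.mpr hEn]
      exact le_top
    obtain ⟨hFE, hEF, hQF, hFmax⟩ := hF
    obtain ⟨-, -, t2, t3⟩ := top_main (L := E) hO hQ le_rfl hEn.isSubnormal (hNt Q)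
    rw [← hL] at t2 t3
    have hLE : L ≤ E := by rw [hL]; exact commutator_le_of_le_normalizer (hNt Q)
    have hEL : E ≤ Subgroup.normalizer (L : Set H) := by
      rw [hL]; exact Subgroup.normalizer_commutator_ge_left _ _
    have hQL : Q ≤ Subgroup.normalizer (L : Set H) := by
      rw [hL]; exact Subgroup.normalizer_commutator_ge_right _ _
    have hLsn : L.IsSubnormal := subnormal_of_normalized hLE hEL hEn.isSubnormal
    -- `⁅L, F⁆ = 1`
    have hLF : ⁅L, F⁆ = ⊥ := by
      rw [hL]
      apply Subgroup.commutator_commutator_eq_bot_of_rotate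
      · have h1 : ⁅Q, F⁆ = ⊥ := Subgroup.commutator_eq_bot_iff_le_centralizer.mpr hQF
        rw [h1, Subgroup.commutator_bot_left]
      · have h1 : ⁅F, E⁆ ≤ F := commutator_le_of_le_normalizer hEF
        have h2 : ⁅Q, F⁆ = ⊥ := Subgroup.commutator_eq_bot_iff_le_centralizer.mpr hQF
        rw [← le_bot_iff, ← h2, Subgroup.commutator_comm Q F]
        exact Subgroup.commutator_mono h1 le_rfl
    have hFcL : F ≤ Subgroup.centralizer (L : Set H) := by
      rw [Subgroup.le_centralizer_iff]
      exact Subgroup.commutator_eq_bot_iff_le_centralizer.mp hLF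
    have hFcQ : F ≤ Subgroup.centralizer (Q : Set H) := by
      rw [Subgroup.le_centralizer_iff]
      exact hQF
    -- (1)
    have part1 : F = E ⊓ Subgroup.centralizer ((L ⊔ Q : Subgroup H) : Set H) := by
      apply le_antisymm
      · apply le_inf hFE
        rw [Subgroup.le_centralizer_iff]
        exact sup_le (Subgroup.le_centralizer_iff.mp hFcL) hQF
      · set F' : Subgroup H := E ⊓ Subgroup.centralizer ((L ⊔ Q : Subgroup H) : Set H) with hF'
        have hF'L : F' ≤ Subgroup.centralizer (L : Set H) :=
          inf_le_right.trans (Subgroup.centralizer_le (SetLike.coe_subset_coe.mpr le_sup_left))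
        have hF'Q : F' ≤ Subgroup.centralizer (Q : Set H) :=
          inf_le_right.trans (Subgroup.centralizer_le (SetLike.coe_subset_coe.mpr le_sup_right))
        apply hFmax F' inf_le_left
        · rw [← t3]
          apply sup_le
          · exact (Subgroup.le_centralizer_iff.mp hF'L).trans (Subgroup.centralizer_le_normalizer _)
          · apply le_normalizer_inf (hNt _)
            refine le_trans ?_ (normalizer_le_normalizer_centralizer' _)
            apply le_normalizer_sup (inf_le_left.trans hEL)
            exact inf_le_right.trans (Subgroup.centralizer_le_normalizer _)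
        · exact Subgroup.le_centralizer_iff.mp hF'Q
    -- (3')
    have hLLprime : L ⊓ F ≤ ⁅L, L⁆ := by
      obtain ⟨u0, -, -, -⟩ := top_main (L := L) hO hQ hLE hLsn hQL
      have hAL : L ⊓ Cfsg.fittingSubgroup H ≤ L := inf_le_left
      have hLA : L ≤ (L ⊓ Cfsg.fittingSubgroup H) ⊔ ⁅L, L⁆ := by
        conv_lhs => rw [u0]
        apply sup_le_sup le_rfl
        apply sSup_le
        intro C hC
        have h1 : ⁅C, C⁆ = C := comp_perfect hC.1
        rw [← h1]
        exact Subgroup.commutator_mono hC.2 hC.2
      have hab := card_abelianization_dvd hAL hLA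
      have hcopA : (Nat.card ↥(L ⊓ Cfsg.fittingSubgroup H)).Coprime p :=
        Nat.Coprime.coprime_dvd_left (Subgroup.card_dvd_of_le inf_le_right) (coprime_card_fitting hO)
      have hcopQ : (Nat.card Q).Coprime (Nat.card (Abelianization L)) := by
        obtain ⟨n, hn⟩ := IsPGroup.iff_card.mp hQ
        rw [hn]
        exact Nat.Coprime.pow_left n (Nat.Coprime.coprime_dvd_left hab hcopA).symm
      have h1 := inf_centralizer_le_commutator' L Q hQL hcopQ (by
        rw [hL]
        rw [hL] at t2
        exact t2.ge)
      refine le_trans ?_ h1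
      exact inf_le_inf_left _ hFcQ
    -- (5)
    have hX : ∀ X : Subgroup H, IsPGroup p X →
        X ≤ Subgroup.centralizer ((F ⊔ L : Subgroup H) : Set H) → X = ⊥ := by
      intro X hXp hXc
      set T : Subgroup H := E ⊓ Subgroup.centralizer (L : Set H) with hT
      have hET : E ≤ Subgroup.normalizer (T : Set H) :=
        le_normalizer_inf (hNt _) (hEL.trans (normalizer_le_normalizer_centralizer' _))
      have hTsn : T.IsSubnormal := subnormal_of_normalized inf_le_left hET hEn.isSubnormal
      have hQT : Q ≤ Subgroup.normalizer (T : Set H) :=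
        le_normalizer_inf (hNt _) (hQL.trans (normalizer_le_normalizer_centralizer' _))
      obtain ⟨-, -, -, u3⟩ := top_main (L := T) hO hQ inf_le_left hTsn hQT
      have hTLF : T ≤ F ⊔ L := by
        rw [← u3]
        apply sup_le
        · apply le_sup_of_le_right
          rw [hL]
          exact Subgroup.commutator_mono inf_le_left le_rfl
        · apply le_sup_of_le_left
          rw [part1]
          apply le_inf (inf_le_left.trans inf_le_left)
          rw [Subgroup.le_centralizer_iff]
          apply sup_le
          · rw [← Subgroup.le_centralizer_iff]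
            exact inf_le_left.trans inf_le_right
          · rw [← Subgroup.le_centralizer_iff]
            exact inf_le_right
      have hTX : T ≤ Subgroup.centralizer (X : Set H) := by
        rw [Subgroup.le_centralizer_iff]
        refine hXc.trans (Subgroup.centralizer_le (SetLike.coe_subset_coe.mpr hTLF))
      have hXL : ⁅X, L⁆ = ⊥ := by
        apply Subgroup.commutator_eq_bot_iff_le_centralizer.mpr
        exact hXc.trans (Subgroup.centralizer_le (SetLike.coe_subset_coe.mpr le_sup_right))
      have h1 : ⁅⁅E, X⁆, L⁆ = ⊥ := by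
        apply Subgroup.commutator_commutator_eq_bot_of_rotate
        · rw [hXL, Subgroup.commutator_bot_left]
        · have h2 : ⁅L, E⁆ ≤ L := commutator_le_of_le_normalizer hEL
          rw [← le_bot_iff, ← hXL, Subgroup.commutator_comm X L]
          exact Subgroup.commutator_mono h2 le_rfl
      have h2 : ⁅E, X⁆ ≤ T :=
        le_inf (commutator_le_of_le_normalizer (hNt X))
          (Subgroup.commutator_eq_bot_iff_le_centralizer.mp h1)
      obtain ⟨-, -, v2, -⟩ := top_main (L := E) hO hXp le_rfl hEn.isSubnormal (hNt X)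
      have h3 : ⁅⁅E, X⁆, X⁆ = ⊥ := by
        rw [← le_bot_iff]
        have h4 : ⁅T, X⁆ = ⊥ := Subgroup.commutator_eq_bot_iff_le_centralizer.mpr hTX
        rw [← h4]
        exact Subgroup.commutator_mono h2 le_rfl
      rw [h3] at v2
      have h5 : X ≤ Subgroup.centralizer (E : Set H) := by
        apply Subgroup.commutator_eq_bot_iff_le_centralizer.mp
        rw [Subgroup.commutator_comm]
        exact v2.symm
      have h6 : X ≤ E := h5.trans centralizer_generalizedFitting_le
      have h7 : X ≤ Cfsg.fittingSubgroup H := (le_inf h6 h5).trans inf_centralizer_le_fitting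
      exact eq_bot_of_isPGroup_of_coprime hXp
        (Nat.Coprime.coprime_dvd_left (Subgroup.card_dvd_of_le h7) (coprime_card_fitting hO))
    refine ⟨part1, ?_, ?_, ?_, ?_⟩
    · exact t2
    · apply le_frattini_of_central inf_le_left _ hLLprime
      exact inf_le_right.trans hFcL
    · intro B hBp hBQ hLB
      have hBL : B ≤ Subgroup.normalizer (L : Set H) := by
        intro b hb
        apply mem_normalizer_of_conj_map_eq
        rw [hL, Subgroup.map_commutator, conj_map_eq_of_mem_normalizer (hNt B hb),
          conj_map_eq_of_mem_normalizer (hBQ hb)]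
      obtain ⟨-, -, b2, -⟩ := top_main (L := L) hO hBp hLE hLsn hBL
      have h1 : ⁅L, B⁆ ≤ L := commutator_le_of_le_normalizer hBL
      have h2 : ⁅L, B⁆ ≤ ⁅L, L⁆ := (le_inf h1 hLB).trans hLLprime
      have h3 : ⁅⁅L, B⁆, L⁆ = ⊥ := by
        rw [← le_bot_iff, Subgroup.commutator_comm, ← hLF]
        exact Subgroup.commutator_mono le_rfl hLB
      have h4 : ⁅⁅L, L⁆, B⁆ = ⊥ := by
        apply Subgroup.commutator_commutator_eq_bot_of_rotate h3
        rw [Subgroup.commutator_comm B L]
        exact h3
      rw [← b2, ← le_bot_iff, ← h4]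
      exact Subgroup.commutator_mono h2 le_rfl
    · have hp' : p.Prime := Fact.out
      apply Nat.Coprime.symm
      rw [Nat.Prime.coprime_iff_not_dvd hp']
      intro hdvd
      obtain ⟨x, hx⟩ := exists_prime_orderOf_dvd_card' p hdvd
      have hXp : IsPGroup p (Subgroup.zpowers (x : H)) := by
        apply IsPGroup.of_card (n := 1)
        rw [Nat.card_zpowers, Subgroup.orderOf_coe, hx, pow_one]
      have hXc : Subgroup.zpowers (x : H) ≤ Subgroup.centralizer ((F ⊔ L : Subgroup H) : Set H) := by
        rw [Subgroup.zpowers_le]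
        exact x.2
      have h1 := hX _ hXp hXc
      rw [Subgroup.zpowers_eq_bot] at h1
      have h2 : x = 1 := Subtype.ext h1
      rw [h2, orderOf_one] at hx
      exact hp'.one_lt.ne hx

end Cfsg.Agent.S2817
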