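import Mathlib
import Cfsg.Statements.S2818
import Cfsg.Agent.Lib.LocalTools
import Cfsg.Agent.Lib.ChainStab
import Cfsg.Agent.Lib.PResid
import Cfsg.Agent.Lib.Frat

set_option autoImplicit false
open Cfsg
open scoped commutatorElement

namespace Cfsg.Agent.S2818

/-- Let P be a finite p-subgroup of a group G and H a subgroup of N_G(P) with [P, H] ≤ Ω₁(Z(P)) (the elements of order dividing p in the centre of P). Then H centralizes the Frattini subgroup of P. -/
theorem result {G : Type*} [Group G] [Finite G] {p : ℕ} [Fact p.Prime] (P : Subgroup G) (hP : IsPGroup p ↥P) (H : Subgroup G) (hH : H ≤ Subgroup.normalizer (P : Set G)) (h : ⁅P, H⁆ ≤ Cfsg.omegaOne p (P ⊓ Subgroup.centralizer (P : Set G))) : ⁅(frattini ↥P).map P.subtype, H⁆ = ⊥ := by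
  open Cfsg.Agent.Lib.LocalTools Cfsg.Agent.Lib.ChainStab Cfsg.Agent.Lib.PResid Cfsg.Agent.Lib.Frat in
  · -- elements of `Ω₁(Z(P))`
    have hom : ∀ z ∈ omegaOne p (P ⊓ Subgroup.centralizer (P : Set G)),
        z ∈ P ⊓ Subgroup.centralizer (P : Set G) ∧ z ^ p = 1 := by
      intro z hz
      induction hz using Subgroup.closure_induction with
      | mem x hx => exact hx
      | one => exact ⟨Subgroup.one_mem _, one_pow _⟩
      | mul a b _ _ ha hb =>
        refine ⟨Subgroup.mul_mem _ ha.1 hb.1, ?_⟩
        have hc : Commute a b := by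
          have := (Subgroup.mem_centralizer_iff.mp ha.1.2) b hb.1.1
          exact this.symm
        rw [hc.mul_pow, ha.2, hb.2, one_mul]
      | inv a _ ha =>
        exact ⟨Subgroup.inv_mem _ ha.1, by rw [inv_pow, ha.2, inv_one]⟩
    rw [eq_bot_iff, Subgroup.commutator_le]
    intro f hf k hk
    rw [Subgroup.mem_bot]
    -- the centralizer of `k` in `P`
    let K : Subgroup P := (Subgroup.centralizer ({k} : Set G)).subgroupOf P
    have hmove : ∀ x ∈ P, ∃ z, k * x * k⁻¹ = x * z ∧ z ∈ P ∧ z ∈ Subgroup.centralizer (P : Set G) ∧ z ^ p = 1 := by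
      intro x hx
      have h1 : ⁅x⁻¹, k⁆ ∈ omegaOne p (P ⊓ Subgroup.centralizer (P : Set G)) :=
        h (Subgroup.commutator_mem_commutator (P.inv_mem hx) hk)
      obtain ⟨⟨h2, h3⟩, h4⟩ := hom _ h1
      exact ⟨_, by rw [commutatorElement_def]; group, h2, h3, h4⟩
    have hfr : frattini P ≤ K := by
      apply frattini_le_of_commutator_pow (p := p) K
      · rw [commutator_def, Subgroup.commutator_le]
        rintro ⟨x, hx⟩ - ⟨y, hy⟩ -
        obtain ⟨z, hz, hzP, hzc, -⟩ := hmove x hx
        obtain ⟨w, hw, hwP, hwc, -⟩ := hmove y hy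
        show ((⁅(⟨x, hx⟩ : P), ⟨y, hy⟩⁆ : P) : G) ∈ Subgroup.centralizer ({k} : Set G)
        rw [Subgroup.mem_centralizer_singleton_iff]
        have e : ((⁅(⟨x, hx⟩ : P), ⟨y, hy⟩⁆ : P) : G) = ⁅x, y⁆ := rfl
        rw [e]
        have h1 : k * ⁅x, y⁆ * k⁻¹ = ⁅x, y⁆ := by
          rw [conjugate_commutatorElement, hz, hw]
          have hc1 : ∀ a ∈ P, Commute z a := fun a ha =>
            ((Subgroup.mem_centralizer_iff.mp hzc) a ha).symm
          have hc2 : ∀ a ∈ P, Commute w a := fun a ha =>
            ((Subgroup.mem_centralizer_iff.mp hwc) a ha).symm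
          have hzy := hc1 y hy
          have hzx := hc1 x hx
          have hwx := hc2 x hx
          have hwy := hc2 y hy
          have hzw := hc1 w hwP
          have e1 : x * z * (y * w) = x * y * (z * w) := by
            rw [mul_assoc x z, ← mul_assoc z y w, hzy.eq, mul_assoc y z w]
            simp only [mul_assoc]
          have e2 : y * w * (x * z) = y * x * (z * w) := by
            rw [mul_assoc y w, ← mul_assoc w x z, hwx.eq, mul_assoc x w z, hzw.symm.eq]
            simp only [mul_assoc]
          have e3 : ⁅x * z, y * w⁆ = (x * z * (y * w)) * (y * w * (x * z))⁻¹ := by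
            rw [commutatorElement_def]; group
          rw [e3, e1, e2, commutatorElement_def]
          group
        calc ⁅x, y⁆ * k = k * ⁅x, y⁆ * k⁻¹ * k := by rw [h1]
          _ = k * ⁅x, y⁆ := by group
      · rintro ⟨x, hx⟩
        obtain ⟨z, hz, hzP, hzc, hzp⟩ := hmove x hx
        show ((⟨x, hx⟩ : P) ^ p : P).1 ∈ Subgroup.centralizer ({k} : Set G)
        rw [Subgroup.mem_centralizer_singleton_iff]
        have e : (((⟨x, hx⟩ : P) ^ p : P) : G) = x ^ p := rfl
        rw [e]
        have hc1 : Commute x z := ((Subgroup.mem_centralizer_iff.mp hzc) x hx)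
        have h1 : k * x ^ p * k⁻¹ = x ^ p := by
          rw [← conj_pow, hz, hc1.mul_pow, hzp, mul_one]
        calc x ^ p * k = k * x ^ p * k⁻¹ * k := by rw [h1]
          _ = k * x ^ p := by group
    obtain ⟨x, hx, rfl⟩ := hf
    have h5 := hfr hx
    have h6 : (x : G) * k = k * x := (Subgroup.mem_centralizer_singleton_iff.mp h5)
    simp [commutatorElement_def, h6]

end Cfsg.Agent.S2818
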