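import Mathlib
import Cfsg.Statements.S2819
import Cfsg.Agent.Lib.LocalTools
import Cfsg.Agent.Lib.ChainStab
import Cfsg.Agent.Lib.PResid
import Cfsg.Agent.Lib.Frat

set_option autoImplicit false
open Cfsg
open scoped commutatorElement

namespace Cfsg.Agent.S2819

/-- Let P be a finite p-subgroup of a group G, H a subgroup of N_G(P), and Y a subgroup of H centralizing the derived subgroup P' such that [P, Y] is elementary abelian. Then O^p(⟨Y^H⟩), the subgroup of the normal closure of Y in H generated by its elements of order prime to p, centralizes the Frattini subgroup of P. -/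
theorem result {G : Type*} [Group G] [Finite G] {p : ℕ} [Fact p.Prime] (P : Subgroup G) (hP : IsPGroup p ↥P) (H : Subgroup G) (hH : H ≤ Subgroup.normalizer (P : Set G)) (Y : Subgroup G) (hYH : Y ≤ H) (hYc : Y ≤ Subgroup.centralizer ((⁅P, P⁆ : Subgroup G) : Set G)) (hel : Cfsg.IsElementaryAbelian p ⁅P, Y⁆) (NY : Subgroup G) (hNY : NY = (Subgroup.normalClosure ((Y.subgroupOf H : Subgroup ↥H) : Set ↥H)).map H.subtype) : (Cfsg.pResidual p ↥NY).map NY.subtype ≤ Subgroup.centralizer (((frattini ↥P).map P.subtype : Subgroup G) : Set G) := by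
  open Cfsg.Agent.Lib.LocalTools Cfsg.Agent.Lib.ChainStab Cfsg.Agent.Lib.PResid Cfsg.Agent.Lib.Frat in
  · subst hNY
    set D : Subgroup G := ⁅P, P⁆ with hD
    have hDP : D ≤ P := Subgroup.commutator_le_self P
    have hDp : IsPGroup p D := hP.to_le hDP
    have hPD : P ≤ Subgroup.normalizer (D : Set G) := Subgroup.normalizer_commutator_ge_left P P
    have hHD : H ≤ Subgroup.normalizer (D : Set G) := fun h hh =>
      mem_normalizer_commutator (hH hh) (hH hh)
    have hconjP : ∀ h ∈ H, ∀ z ∈ P, h * z * h⁻¹ ∈ P := fun h hh z hz =>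
      (Subgroup.mem_normalizer_iff.mp (hH hh) z).mp hz
    let S : Set G := (D : Set G) ∪ {v | ∃ z ∈ P, v = z ^ p}
    let E : Subgroup G := Subgroup.closure S
    have hEP : E ≤ P := by
      apply (Subgroup.closure_le _).mpr
      rintro v (hv | ⟨z, hz, rfl⟩)
      · exact hDP hv
      · exact P.pow_mem hz p
    -- `H` normalizes `E`
    have hmapE : ∀ h ∈ H, ∀ v ∈ E, h * v * h⁻¹ ∈ E := by
      intro h hh v hv
      induction hv using Subgroup.closure_induction with
      | mem x hx =>
        rcases hx with hx | ⟨z, hz, rfl⟩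
        · exact Subgroup.subset_closure (Or.inl ((Subgroup.mem_normalizer_iff.mp (hHD hh) x).mp hx))
        · apply Subgroup.subset_closure
          exact Or.inr ⟨h * z * h⁻¹, hconjP h hh z hz, by rw [conj_pow]⟩
      | one => simp [E.one_mem]
      | mul a b _ _ iha ihb =>
        have e : h * (a * b) * h⁻¹ = (h * a * h⁻¹) * (h * b * h⁻¹) := by group
        rw [e]
        exact E.mul_mem iha ihb
      | inv a _ iha =>
        have e : h * a⁻¹ * h⁻¹ = (h * a * h⁻¹)⁻¹ := by group
        rw [e]
        exact E.inv_mem iha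
    have hHE : H ≤ Subgroup.normalizer (E : Set G) := fun h hh =>
      mem_normalizer_of_conj (hmapE h hh) (fun a ha => by
        have := hmapE h⁻¹ (H.inv_mem hh) a ha
        simpa using this)
    -- the power computation
    have hpow : ∀ y ∈ Y, ∀ z ∈ P, ⁅z ^ p, y⁆ ∈ D := by
      intro y hy z hz
      set e := ⁅z⁻¹, y⁆ with he
      have heE : e ∈ (⁅P, Y⁆ : Subgroup G) := Subgroup.commutator_mem_commutator (P.inv_mem hz) hy
      have hep : e ^ p = 1 := hel.2 e heE
      have heP : e ∈ P := by
        have e1 : e = z⁻¹ * (y * z * y⁻¹) := by rw [he, commutatorElement_def]; group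
        rw [e1]
        exact P.mul_mem (P.inv_mem hz) (hconjP y (hYH hy) z hz)
      have hyz : y * z * y⁻¹ = z * e := by rw [he, commutatorElement_def]; group
      -- in the abelianization
      let a : P := ⟨z, hz⟩
      let b : P := ⟨e, heP⟩
      have hker : (a ^ p * b ^ p)⁻¹ * (a * b) ^ p ∈ commutator P := by
        rw [← Abelianization.ker_of, MonoidHom.mem_ker, map_mul, map_inv, map_mul, map_pow, map_pow,
          map_pow, map_mul, mul_pow, inv_mul_cancel]
      have hker' : ((a ^ p * b ^ p)⁻¹ * (a * b) ^ p : P).1 ∈ D := by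
        rw [hD, ← Subgroup.map_subtype_commutator]
        exact ⟨_, hker, rfl⟩
      have hval : ((a ^ p * b ^ p)⁻¹ * (a * b) ^ p : P).1 = (z ^ p)⁻¹ * (z * e) ^ p := by
        show ((a ^ p * b ^ p)⁻¹ * (a * b) ^ p : P).1 = _
        simp [a, b, hep]
      rw [hval] at hker'
      set d := (z ^ p)⁻¹ * (z * e) ^ p with hd
      have h1 : y * z ^ p * y⁻¹ = z ^ p * d := by
        rw [← conj_pow, hyz, hd]; group
      have e2 : ⁅z ^ p, y⁆ = z ^ p * d⁻¹ * (z ^ p)⁻¹ := by
        have : ⁅z ^ p, y⁆ = z ^ p * (y * z ^ p * y⁻¹)⁻¹ := by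
          rw [commutatorElement_def]; group
        rw [this, h1]; group
      rw [e2]
      exact (Subgroup.mem_normalizer_iff.mp (hPD (P.pow_mem hz p)) _).mp (D.inv_mem hker')
    -- `Y` stabilizes `E` mod `D`
    have hYE : ∀ y ∈ Y, ∀ v ∈ E, ⁅v, y⁆ ∈ D := by
      intro y hy v hv
      have hv' : v ∈ P ∧ ⁅v, y⁆ ∈ D := by
        induction hv using Subgroup.closure_induction with
        | mem x hx =>
          rcases hx with hx | ⟨z, hz, rfl⟩
          · refine ⟨hDP hx, ?_⟩
            have h1 := (Subgroup.mem_centralizer_iff.mp (hYc hy)) x hx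
            have : ⁅x, y⁆ = 1 := by
              rw [commutatorElement_eq_one_iff_mul_comm]; exact h1
            rw [this]; exact D.one_mem
          · exact ⟨P.pow_mem hz p, hpow y hy z hz⟩
        | one => simp [commutatorElement_one_left, P.one_mem, D.one_mem]
        | mul a b _ _ iha ihb =>
          refine ⟨P.mul_mem iha.1 ihb.1, ?_⟩
          rw [commutatorElement_mul_left_eq_conj_mul]
          have h1 := (Subgroup.mem_normalizer_iff.mp (hPD iha.1) _).mp ihb.2
          exact D.mul_mem h1 iha.2
        | inv a _ iha =>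
          refine ⟨P.inv_mem iha.1, ?_⟩
          rw [commutatorElement_inv_left, ← commutatorElement_inv]
          have h1 := (Subgroup.mem_normalizer_iff.mp (hPD (P.inv_mem iha.1)) _).mp (D.inv_mem iha.2)
          simpa using h1
      exact hv'.2
    -- the normal closure stabilizes
    let C0 : Subgroup G := stabSub E D ⊓ Subgroup.centralizer (D : Set G)
    have hnormC0 : (C0.subgroupOf H).Normal := by
      constructor
      intro x hx h
      refine ⟨?_, ?_⟩
      · exact conj_mem_stabSub hx.1 (hHE h.2) (hHD h.2)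
      · have h1 : (h : G) ∈ Subgroup.normalizer (D : Set G) := hHD h.2
        have hx2 : (x : G) ∈ Subgroup.centralizer (D : Set G) := hx.2
        show (h : G) * x * (h : G)⁻¹ ∈ Subgroup.centralizer (D : Set G)
        rw [Subgroup.mem_centralizer_iff] at hx2 ⊢
        intro d hd
        have hd' := (Subgroup.mem_normalizer_iff.mp (Subgroup.inv_mem _ h1) d).mp hd
        have h3 := hx2 _ hd'
        have e : (h : G)⁻¹ * d * ((h : G)⁻¹)⁻¹ = (h : G)⁻¹ * d * h := by group
        rw [e] at h3
        calc d * (h * x * (h : G)⁻¹) = h * ((h : G)⁻¹ * d * h * x) * (h : G)⁻¹ := by group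
          _ = h * (x * ((h : G)⁻¹ * d * h)) * (h : G)⁻¹ := by rw [h3]
          _ = _ := by group
    have hcl : Subgroup.normalClosure ((Y.subgroupOf H : Subgroup H) : Set H) ≤ C0.subgroupOf H := by
      apply Subgroup.normalClosure_le_normal
      intro y hy
      have hy' : (y : G) ∈ Y := hy
      refine ⟨⟨hHD y.2, hYE y hy'⟩, hYc hy'⟩
    -- conclusion
    rw [map_pResidual_eq_closure, Subgroup.closure_le]
    rintro x ⟨⟨x', hx', rfl⟩, hxc⟩
    have hC0 := hcl hx'
    have hx1 : (x' : G) ∈ C0 := hC0
    have hxD : ∀ u ∈ D, Commute u (x' : G) := fun u hu =>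
      (Subgroup.mem_centralizer_iff.mp hx1.2) u hu
    have hxE := commute_of_stab hDp hxc hxD hx1.1.2
    -- the Frattini subgroup lies in `E`
    have hfr : frattini P ≤ E.subgroupOf P := by
      apply frattini_le_of_commutator_pow (p := p)
      · rw [commutator_def, Subgroup.commutator_le]
        rintro ⟨x, hx⟩ - ⟨y, hy⟩ -
        apply Subgroup.subset_closure
        exact Or.inl (Subgroup.commutator_mem_commutator hx hy)
      · rintro ⟨x, hx⟩
        apply Subgroup.subset_closure
        exact Or.inr ⟨x, hx, rfl⟩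
    show (x' : G) ∈ Subgroup.centralizer _
    rw [Subgroup.mem_centralizer_iff]
    rintro _ ⟨f, hf, rfl⟩
    exact (hxE _ (hfr hf)).eq

end Cfsg.Agent.S2819
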