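import Mathlib
import Cfsg.Statements.S2827
import Cfsg.Agent.Lib.PClosed
import Cfsg.Agent.Lib.LocalTools

set_option autoImplicit false
open Cfsg
open scoped commutatorElement

namespace Cfsg.Agent.S2827

/-- Let H be a finite p-irreducible group (not p-closed, and O^p(H) lies in every normal subgroup that is not p-closed) and T a Sylow p-subgroup. Then H is generated by the conjugates of T and H = H'·T; O^p(H) ≤ H'; and for every normal subgroup Y of T not contained in O_p(H), O^p(H) = [O^p(H), Y] and O^p(H) is contained in the normal closure of Y in H. -/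
theorem result {H : Type*} [Group H] [Finite H] {p : ℕ} [Fact p.Prime] (hH : Cfsg.IsPIrreducible p H) (T : Sylow p H) : Subgroup.normalClosure ((T : Subgroup H) : Set H) = ⊤ ∧ commutator H ⊔ (T : Subgroup H) = ⊤ ∧ Cfsg.pResidual p H ≤ commutator H ∧ ∀ Y : Subgroup H, Y ≤ (T : Subgroup H) → (T : Subgroup H) ≤ Subgroup.normalizer (Y : Set H) → ¬ Y ≤ Cfsg.pCore p H → ⁅Cfsg.pResidual p H, Y⁆ = Cfsg.pResidual p H ∧ Cfsg.pResidual p H ≤ Subgroup.normalClosure (Y : Set H) := by
  open Cfsg.Agent.Lib.PClosed Cfsg.Agent.Lib.PCore Cfsg.Agent.Lib.PResid Cfsg.Agent.Lib.ChainStab Cfsg.Agent.Lib.LocalTools in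
  · have hncl := normalClosure_sylow_eq_top hH T
    have hsup : commutator H ⊔ (T : Subgroup H) = ⊤ := by
      have hnorm : (commutator H ⊔ (T : Subgroup H)).Normal := by
        constructor
        intro n hn g
        have e : g * n * g⁻¹ = ⁅g, n⁆ * n := by rw [commutatorElement_def]; group
        rw [e]
        exact Subgroup.mul_mem _
          (Subgroup.mem_sup_left (Subgroup.commutator_mem_commutator (Subgroup.mem_top g) (Subgroup.mem_top n))) hn
      rw [eq_top_iff, ← hncl]
      exact Subgroup.normalClosure_le_normal (fun x hx => Subgroup.mem_sup_right hx)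
    have hres : pResidual p H ≤ commutator H :=
      pResidual_le_of_sup_eq_top T.isPGroup' (by rwa [sup_comm] at hsup)
    refine ⟨hncl, hsup, hres, ?_⟩
    intro Y hYT hTY hYO
    have hYp : IsPGroup p Y := T.isPGroup'.to_le hYT
    have hYN : Y ≤ Subgroup.normalClosure (Y : Set H) := Subgroup.subset_normalClosure
    have hnc : ¬ IsPClosed p (Subgroup.normalClosure (Y : Set H)) :=
      not_isPClosed_of_not_le hYp hYN hYO
    have hresZ : pResidual p H ≤ Subgroup.normalClosure (Y : Set H) := hH.2 _ inferInstance hnc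
    refine ⟨?_, hresZ⟩
    -- `W = [O^p(H), Y]`
    set K : Subgroup H := pResidual p H with hK
    set W : Subgroup H := ⁅K, Y⁆ with hW
    have hKn : K.Normal := pResidual_normal p
    have hWK : W ≤ K := by
      rw [hW]
      exact Subgroup.commutator_le_left K Y
    have hKW : K ≤ Subgroup.normalizer (W : Set H) := Subgroup.normalizer_commutator_ge_left K Y
    have hTW : (T : Subgroup H) ≤ Subgroup.normalizer (W : Set H) := fun t ht =>
      mem_normalizer_commutator (by
        rw [Subgroup.normalizer_eq_top_iff.mpr hKn]; trivial) (hTY ht)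
    have hWn : W.Normal := by
      rw [← Subgroup.normalizer_eq_top_iff, eq_top_iff]
      intro g _
      obtain ⟨t, ht, n, hn, rfl⟩ := exists_sylow_mul_pResidual T g
      exact Subgroup.mul_mem _ (hTW ht) (hKW hn)
    have hZle : Subgroup.normalClosure (Y : Set H) ≤ Y ⊔ W := by
      have hconj : ∀ g : H, ∀ y ∈ Y, g * y * g⁻¹ ∈ Y ⊔ W := by
        intro g y hy
        obtain ⟨t, ht, n, hn, rfl⟩ := exists_sylow_mul_pResidual T g
        have hy' : t * y * t⁻¹ ∈ Y := (Subgroup.mem_normalizer_iff.mp (hTY ht) y).mp hy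
        have hn' : t * n * t⁻¹ ∈ K := hKn.conj_mem n hn t
        have e : t * n * y * (t * n)⁻¹ = ⁅t * n * t⁻¹, t * y * t⁻¹⁆ * (t * y * t⁻¹) := by
          rw [commutatorElement_def]; group
        rw [e]
        exact Subgroup.mul_mem _ (Subgroup.mem_sup_right (Subgroup.commutator_mem_commutator hn' hy'))
          (Subgroup.mem_sup_left hy')
      have hnorm : (Y ⊔ W).Normal := by
        constructor
        intro x hx g
        obtain ⟨y, hy, w, hw, rfl⟩ := Subgroup.mem_sup_of_normal_right.mp hx
        have e : g * (y * w) * g⁻¹ = (g * y * g⁻¹) * (g * w * g⁻¹) := by group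
        rw [e]
        exact Subgroup.mul_mem _ (hconj g y hy) (Subgroup.mem_sup_right (hWn.conj_mem w hw g))
      exact Subgroup.normalClosure_le_normal (fun x hx => Subgroup.mem_sup_left hx)
    have hYWp : pResidual p H ≤ Y ⊔ W := hresZ.trans hZle
    apply le_antisymm hWK
    exact pResidual_le_of_le_sup hYp hYWp

end Cfsg.Agent.S2827
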