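import Mathlib
import Cfsg.Statements.S2828
import Cfsg.Agent.Lib.PClosed

set_option autoImplicit false
open Cfsg
open scoped commutatorElement

namespace Cfsg.Agent.S2828

/-- Let H be a finite group, p a prime and D a normal p-subgroup of H. Then H is p-irreducible if and only if H/D is p-irreducible, and H is strongly p-irreducible if and only if H/D is strongly p-irreducible. -/
theorem result {H : Type*} [Group H] [Finite H] {p : ℕ} [Fact p.Prime] (D : Subgroup H) [D.Normal] (hD : IsPGroup p ↥D) : (Cfsg.IsPIrreducible p H ↔ Cfsg.IsPIrreducible p (H ⧸ D)) ∧ (Cfsg.IsStronglyPIrreducible p H ↔ Cfsg.IsStronglyPIrreducible p (H ⧸ D)) := by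
  open Cfsg.Agent.Lib.PClosed Cfsg.Agent.Lib.PCore Cfsg.Agent.Lib.PResid in
  · set π : H →* H ⧸ D := QuotientGroup.mk' D with hπ
    have hsurj : Function.Surjective π := QuotientGroup.mk'_surjective D
    have hker : π.ker = D := QuotientGroup.ker_mk' D
    -- `O_p` of the quotient
    have hcomap : (pCore p (H ⧸ D)).comap π ≤ pCore p H := by
      apply le_pCore
      · exact Subgroup.Normal.comap (pCore_normal p _) π
      · intro x
        obtain ⟨n, hn⟩ := isPGroup_pCore (G := H ⧸ D) p ⟨π x.1, x.2⟩
        have h1 : π ((x.1 : H) ^ p ^ n) = 1 := by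
          rw [map_pow]
          simpa using congrArg Subtype.val hn
        have h2 : (x.1 : H) ^ p ^ n ∈ D := (QuotientGroup.eq_one_iff _).mp h1
        obtain ⟨m, hm⟩ := hD ⟨_, h2⟩
        refine ⟨n + m, ?_⟩
        apply Subtype.ext
        have := congrArg Subtype.val hm
        simp only [Subgroup.coe_pow, Subgroup.coe_one] at this ⊢
        rw [pow_add, pow_mul]
        exact this
    have hmapO : (pCore p H).map π ≤ pCore p (H ⧸ D) := by
      apply le_pCore
      · exact Subgroup.Normal.map (pCore_normal p _) π hsurj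
      · exact (isPGroup_pCore p).map π
    have hmemO : ∀ x : H, π x ∈ pCore p (H ⧸ D) ↔ x ∈ pCore p H := fun x =>
      ⟨fun h => hcomap h, fun h => hmapO ⟨x, h, rfl⟩⟩
    have hres : (pResidual p H).map π = pResidual p (H ⧸ D) :=
      map_pResidual_of_surjective π hsurj p
    -- `p`-closure of normal subgroups
    have hclosed : ∀ (N : Subgroup H) (hN : N.Normal),
        IsPClosed p N ↔ IsPClosed p (N.map π) := by
      intro N hN
      have hN' : (N.map π).Normal := hN.map π hsurj
      rw [isPClosed_normal_iff, isPClosed_normal_iff]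
      constructor
      · intro h y hy hyp
        obtain ⟨x, hx, rfl⟩ := hy
        obtain ⟨n, hn⟩ := hyp
        obtain ⟨a, b, hab, hcomm, ⟨m, hm⟩, hb, ha', hb'⟩ := exists_decomp (p := p) x
        have hbeq : π b = 1 := by
          have hb1 : (π b) ^ orderOf b = 1 := by rw [← map_pow, pow_orderOf_eq_one, map_one]
          obtain ⟨k, hk⟩ := Subgroup.mem_zpowers_iff.mp hb'
          have hb2 : (π b) ^ p ^ n = 1 := by
            rw [← hk, map_zpow, ← zpow_natCast, ← zpow_mul, mul_comm, zpow_mul, zpow_natCast, hn,
              one_zpow]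
          exact eq_one_of_pow_eq_one_of_coprime hb2 hb1 hb
        have haN : a ∈ N := (Subgroup.zpowers_le.mpr hx) ha'
        have ha := h a haN ⟨m, hm⟩
        have : π x = π a := by rw [hab, map_mul, hbeq, mul_one]
        rw [this]
        exact (hmemO a).mpr ha
      · intro h x hx hxp
        obtain ⟨n, hn⟩ := hxp
        exact (hmemO x).mp (h (π x) ⟨x, hx, rfl⟩ ⟨n, by rw [← map_pow, hn, map_one]⟩)
    have hclosedTop : IsPClosed p H ↔ IsPClosed p (H ⧸ D) := by
      rw [isPClosed_iff_forall, isPClosed_iff_forall]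
      constructor
      · intro h y hyp
        obtain ⟨x, rfl⟩ := hsurj y
        obtain ⟨n, hn⟩ := hyp
        obtain ⟨a, b, hab, hcomm, ⟨m, hm⟩, hb, ha', hb'⟩ := exists_decomp (p := p) x
        have hbeq : π b = 1 := by
          have hb1 : (π b) ^ orderOf b = 1 := by rw [← map_pow, pow_orderOf_eq_one, map_one]
          obtain ⟨k, hk⟩ := Subgroup.mem_zpowers_iff.mp hb'
          have hb2 : (π b) ^ p ^ n = 1 := by
            rw [← hk, map_zpow, ← zpow_natCast, ← zpow_mul, mul_comm, zpow_mul, zpow_natCast, hn,
              one_zpow]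
          exact eq_one_of_pow_eq_one_of_coprime hb2 hb1 hb
        have ha := h a ⟨m, hm⟩
        have : π x = π a := by rw [hab, map_mul, hbeq, mul_one]
        rw [this]
        exact (hmemO a).mpr ha
      · intro h x hxp
        obtain ⟨n, hn⟩ := hxp
        exact (hmemO x).mp (h (π x) ⟨n, by rw [← map_pow, hn, map_one]⟩)
    -- descent of residual containment
    have hdown : ∀ N : Subgroup H, N.Normal → pResidual p (H ⧸ D) ≤ N.map π → pResidual p H ≤ N := by
      intro N hN h
      have := hN
      rw [← hres] at h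
      apply pResidual_le_of_le_sup hD
      intro x hx
      obtain ⟨y, hy, hyx⟩ := h ⟨x, hx, rfl⟩
      have h3 : x * y⁻¹ ∈ D := by
        exact (QuotientGroup.eq_one_iff _).mp (show π (x * y⁻¹) = 1 by rw [map_mul, map_inv, ← hyx, mul_inv_cancel])
      have : x = (x * y⁻¹) * y := by group
      rw [this]
      exact Subgroup.mul_mem _ (Subgroup.mem_sup_left h3) (Subgroup.mem_sup_right hy)
    have hup : ∀ N : Subgroup (H ⧸ D), pResidual p H ≤ N.comap π → pResidual p (H ⧸ D) ≤ N := by
      intro N h
      rw [← hres, Subgroup.map_le_iff_le_comap]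
      exact h
    have hmapcomap : ∀ N : Subgroup (H ⧸ D), (N.comap π).map π = N := fun N =>
      Subgroup.map_comap_eq_self_of_surjective hsurj N
    refine ⟨⟨?_, ?_⟩, ⟨?_, ?_⟩⟩
    · rintro ⟨h1, h2⟩
      refine ⟨fun h => h1 (hclosedTop.mpr h), ?_⟩
      intro N hN hNc
      have hcN : (N.comap π).Normal := hN.comap π
      apply hup
      apply h2 _ hcN
      intro h
      apply hNc
      have := (hclosed _ hcN).mp h
      rwa [hmapcomap] at this
    · rintro ⟨h1, h2⟩
      refine ⟨fun h => h1 (hclosedTop.mp h), ?_⟩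
      intro N hN hNc
      apply hdown N hN
      apply h2 _ (hN.map π hsurj)
      intro h
      exact hNc ((hclosed N hN).mpr h)
    · rintro ⟨h1, h2⟩
      refine ⟨fun h => h1 (hclosedTop.mpr h), ?_⟩
      intro N hN hNc
      have hcN : (N.comap π).Normal := hN.comap π
      apply hup
      apply h2 _ hcN
      intro h
      apply hNc
      have h3 : (⁅N.comap π, (⊤ : Subgroup H)⁆).map π ≤ (pCore p H).map π := Subgroup.map_mono h
      rw [Subgroup.map_commutator, hmapcomap, ← MonoidHom.range_eq_map, MonoidHom.range_eq_top.mpr hsurj] at h3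
      exact h3.trans hmapO
    · rintro ⟨h1, h2⟩
      refine ⟨fun h => h1 (hclosedTop.mp h), ?_⟩
      intro N hN hNc
      apply hdown N hN
      apply h2 _ (hN.map π hsurj)
      intro h
      apply hNc
      have h3 : ⁅N, (⊤ : Subgroup H)⁆ ≤ (pCore p (H ⧸ D)).comap π := by
        rw [← Subgroup.map_le_iff_le_comap, Subgroup.map_commutator, ← MonoidHom.range_eq_map,
          MonoidHom.range_eq_top.mpr hsurj]
        exact h
      exact h3.trans hcomap

end Cfsg.Agent.S2828
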