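import Mathlib
import Cfsg.Statements.S2829
import Cfsg.Agent.Lib.PClosed

set_option autoImplicit false
open Cfsg
open scoped commutatorElement

namespace Cfsg.Agent.S2829

/-- Every strongly p-irreducible finite group is p-irreducible. -/
theorem result {H : Type*} [Group H] [Finite H] {p : ℕ} [Fact p.Prime] (hH : Cfsg.IsStronglyPIrreducible p H) : Cfsg.IsPIrreducible p H := by
  open Cfsg.Agent.Lib.PClosed Cfsg.Agent.Lib.PCore Cfsg.Agent.Lib.PResid Cfsg.Agent.Lib.ChainStab in
  · refine ⟨hH.1, fun N hN hnc => hH.2 N hN ?_⟩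
    intro hle
    apply hnc
    -- every `p`-element of `N` lies in `O_p(H)`
    have hnN := hN
    rw [isPClosed_normal_iff]
    intro x hx hxp
    -- the subgroup `⟨x⟩ O_p(H)` is normal
    let Z : Subgroup H := Subgroup.zpowers x
    have hZp : IsPGroup p Z := by
      obtain ⟨n, hn⟩ := hxp
      rw [IsPGroup.iff_card]
      have h1 : Nat.card (Subgroup.zpowers x) = orderOf x := Nat.card_zpowers x
      obtain ⟨k, -, hk⟩ := (Nat.dvd_prime_pow (Fact.out : p.Prime)).mp (orderOf_dvd_of_pow_eq_one hn)
      exact ⟨k, by rw [h1, hk]⟩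
    have hsup : IsPGroup p (Z ⊔ pCore p H : Subgroup H) :=
      IsPGroup.to_sup_of_normal_right hZp (isPGroup_pCore p)
    have hnorm : (Z ⊔ pCore p H : Subgroup H).Normal := by
      -- the quotient image of `Z` is central
      constructor
      have hgen : ∀ h : H, ∀ z ∈ Z, h * z * h⁻¹ ∈ (Z ⊔ pCore p H : Subgroup H) := by
        intro h z hz
        have hzN : z ∈ N := (Subgroup.zpowers_le.mpr hx) hz
        have e : h * z * h⁻¹ = ⁅h, z⁆ * z := by rw [commutatorElement_def]; group
        rw [e]
        have h1 : ⁅z, h⁆ ∈ pCore p H := hle (Subgroup.commutator_mem_commutator hzN (Subgroup.mem_top h))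
        have h2 : ⁅h, z⁆ ∈ pCore p H := by
          rw [← commutatorElement_inv]
          exact Subgroup.inv_mem _ h1
        exact Subgroup.mul_mem _ (Subgroup.mem_sup_right h2) (Subgroup.mem_sup_left hz)
      intro n hn g
      obtain ⟨z, hz, o, ho, rfl⟩ := Subgroup.mem_sup_of_normal_right.mp hn
      have e : g * (z * o) * g⁻¹ = (g * z * g⁻¹) * (g * o * g⁻¹) := by group
      rw [e]
      exact Subgroup.mul_mem _ (hgen g z hz) (Subgroup.mem_sup_right (Subgroup.Normal.conj_mem inferInstance o ho g))
    have h3 := le_pCore hnorm hsup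
    exact h3 (Subgroup.mem_sup_left (Subgroup.mem_zpowers x))

end Cfsg.Agent.S2829
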