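import Mathlib
import Cfsg.Statements.S2830
import Cfsg.Agent.Lib.PClosed
import Cfsg.Agent.Lib.LocalTools

set_option autoImplicit false
open Cfsg
open scoped commutatorElement

namespace Cfsg.Agent.S2830

/-- Let H act by conjugation on the elementary abelian p-subgroup V of a finite group G (H ≤ N(V)), with H p-irreducible and O^p(H) not centralizing V. Then C_H(V) is p-closed and C_T(V) ≤ O_p(H) for every p-subgroup T of H. If in addition O_p(H) centralizes V, then C_T(V) = T ∩ O_p(H) for every p-subgroup T of H, and V is p-reduced for H: O_p(H/C_H(V)) = 1. -/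
theorem result {G : Type*} [Group G] [Finite G] {p : ℕ} [Fact p.Prime] (V H : Subgroup G) (hV : Cfsg.IsElementaryAbelian p V) (hHV : H ≤ Subgroup.normalizer (V : Set G)) (hH : Cfsg.IsPIrreducible p ↥H) (hnc : ¬ (Cfsg.pResidual p ↥H).map H.subtype ≤ Subgroup.centralizer (V : Set G)) [hn : ((Subgroup.centralizer (V : Set G)).subgroupOf H).Normal] : Cfsg.IsPClosed p ↥(H ⊓ Subgroup.centralizer (V : Set G)) ∧ (∀ T : Subgroup G, T ≤ H → IsPGroup p ↥T → T ⊓ Subgroup.centralizer (V : Set G) ≤ Cfsg.pCoreOf p H) ∧ (Cfsg.pCoreOf p H ≤ Subgroup.centralizer (V : Set G) → (∀ T : Subgroup G, T ≤ H → IsPGroup p ↥T → T ⊓ Subgroup.centralizer (V : Set G) = T ⊓ Cfsg.pCoreOf p H) ∧ Cfsg.pCore p (↥H ⧸ (Subgroup.centralizer (V : Set G)).subgroupOf H) = ⊥) := by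
  open Cfsg.Agent.Lib.PClosed Cfsg.Agent.Lib.PCore Cfsg.Agent.Lib.PResid Cfsg.Agent.Lib.ChainStab Cfsg.Agent.Lib.LocalTools in
  · set C : Subgroup H := (Subgroup.centralizer (V : Set G)).subgroupOf H with hC
    have hCpc : IsPClosed p C := by
      by_contra hnot
      have h1 := hH.2 C hn hnot
      apply hnc
      rintro _ ⟨x, hx, rfl⟩
      exact h1 hx
    -- `p`-elements of `C_H(V)` lie in `O_p(H)`
    have hCO : ∀ x ∈ C, (∃ n : ℕ, x ^ p ^ n = 1) → x ∈ pCore p H :=
      fun x hx hxp => (isPClosed_normal_iff (N := C)).mp hCpc x hx hxp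
    have hinf : ∀ T : Subgroup G, T ≤ H → IsPGroup p T → T ⊓ Subgroup.centralizer (V : Set G) ≤ pCoreOf p H := by
      intro T hTH hTp x hx
      obtain ⟨n, hn⟩ := exists_pow_eq_one_of_isPGroup hTp hx.1
      have h1 := hCO ⟨x, hTH hx.1⟩ hx.2 ⟨n, Subtype.ext (by simpa using hn)⟩
      exact ⟨_, h1, rfl⟩
    have hpc : IsPClosed p ↥(H ⊓ Subgroup.centralizer (V : Set G)) := by
      rw [isPClosed_iff_forall]
      intro x ⟨n, hn⟩
      have hxH : (x : G) ∈ H := x.2.1
      have h1 : (⟨x, hxH⟩ : H) ∈ pCore p H :=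
        hCO ⟨x, hxH⟩ x.2.2 ⟨n, Subtype.ext (by simpa using congrArg Subtype.val hn)⟩
      have h2 : ((pCore p H).map H.subtype).subgroupOf (H ⊓ Subgroup.centralizer (V : Set G)) ≤
          pCore p ↥(H ⊓ Subgroup.centralizer (V : Set G)) := by
        apply le_pCore
        · constructor
          intro y hy k
          obtain ⟨z, hz, hzy⟩ := hy
          refine ⟨⟨k, k.2.1⟩ * z * (⟨k, k.2.1⟩ : H)⁻¹,
            (inferInstance : (pCore p H).Normal).conj_mem z hz _, ?_⟩
          simp only [Subgroup.subtype_apply] at hzy ⊢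
          simp [hzy]
        · exact ((isPGroup_pCore p).map _).comap_of_injective _ (Subgroup.subtype_injective _)
      exact h2 ⟨⟨x, hxH⟩, h1, rfl⟩
    refine ⟨hpc, hinf, ?_⟩
    intro hOC
    refine ⟨?_, ?_⟩
    · intro T hTH hTp
      apply le_antisymm
      · exact le_inf inf_le_left (hinf T hTH hTp)
      · exact inf_le_inf_left _ hOC
    · -- `O_p(H/C)`
      rw [eq_bot_iff]
      intro y hy
      obtain ⟨x, rfl⟩ := QuotientGroup.mk'_surjective C y
      -- the preimage `D`
      set π := QuotientGroup.mk' C with hπ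
      let D : Subgroup H := (pCore p (H ⧸ C)).comap π
      have hDn : D.Normal := inferInstance
      have hCD : C ≤ D := by
        intro c hc
        show π c ∈ pCore p (H ⧸ C)
        rw [show π c = 1 from (QuotientGroup.eq_one_iff c).mpr hc]
        exact Subgroup.one_mem _
      have hxD : x ∈ D := hy
      have hDpc : IsPClosed p D := by
        by_contra hnot
        have h1 := hH.2 D hDn hnot
        apply hnc
        -- the image of `O^p(H)` is a `p`-group generated by coprime elements
        rintro _ ⟨z, hz, rfl⟩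
        have hle : pResidual p H ≤ C := by
          conv_lhs => rw [pResidual]
          rw [Subgroup.closure_le]
          intro w hw
          have hw' : Nat.Coprime (orderOf w) p := hw
          have hwD : w ∈ D := h1 (Subgroup.subset_closure hw)
          obtain ⟨n, hn⟩ := exists_pow_eq_one_of_isPGroup (isPGroup_pCore (G := H ⧸ C) p) hwD
          have h2 : π w ^ orderOf w = 1 := by rw [← map_pow, pow_orderOf_eq_one, map_one]
          have h3 := eq_one_of_pow_eq_one_of_coprime hn h2 hw'
          exact (QuotientGroup.eq_one_iff w).mp h3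
        exact hle hz
      -- decompose `x`
      obtain ⟨a, b, hab, -, ⟨m, hm⟩, hbc, ha, hb⟩ := exists_decomp (p := p) x
      have hbD : b ∈ D := (Subgroup.zpowers_le.mpr hxD) hb
      have haD : a ∈ D := (Subgroup.zpowers_le.mpr hxD) ha
      have haO : a ∈ pCore p H := (isPClosed_normal_iff (N := D)).mp hDpc a haD ⟨m, hm⟩
      have haC : a ∈ C := by
        have : (a : G) ∈ Subgroup.centralizer (V : Set G) := hOC ⟨a, haO, rfl⟩
        exact this
      have hbC : b ∈ C := by
        obtain ⟨n, hn⟩ := exists_pow_eq_one_of_isPGroup (isPGroup_pCore (G := H ⧸ C) p) hbD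
        have h2 : π b ^ orderOf b = 1 := by rw [← map_pow, pow_orderOf_eq_one, map_one]
        have h3 := eq_one_of_pow_eq_one_of_coprime hn h2 hbc
        exact (QuotientGroup.eq_one_iff b).mp h3
      rw [Subgroup.mem_bot]
      rw [hab]
      exact (QuotientGroup.eq_one_iff _).mpr (C.mul_mem haC hbC)

end Cfsg.Agent.S2830
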