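import Mathlib
import Cfsg.Statements.S2831
import Cfsg.Agent.Lib.PClosed
import Cfsg.Agent.Lib.LocalTools

set_option autoImplicit false
open Cfsg
open scoped commutatorElement

namespace Cfsg.Agent.S2831

/-- Let H be a finite group with Sylow p-subgroup T such that H is T-minimal (H is generated by the conjugates of T and T lies in exactly one maximal subgroup of H). Then H is p-irreducible: H is not p-closed and O^p(H) lies in every normal subgroup of H that is not p-closed. -/
theorem result {H : Type*} [Group H] [Finite H] {p : ℕ} [Fact p.Prime] (T : Sylow p H) (hmin : Cfsg.IsMinimalOver (T : Subgroup H)) : Cfsg.IsPIrreducible p H := by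
  open Cfsg.Agent.Lib.PClosed Cfsg.Agent.Lib.PCore Cfsg.Agent.Lib.PResid Cfsg.Agent.Lib.ChainStab Cfsg.Agent.Lib.LocalTools in
  · obtain ⟨hcl, M, ⟨hM, hTM⟩, huniq⟩ := hmin
    -- proper subgroups containing `T` lie in `M`
    have hle : ∀ X : Subgroup H, (T : Subgroup H) ≤ X → X ≠ ⊤ → X ≤ M := by
      intro X hX hne
      obtain ⟨C, hC, hXC⟩ := (eq_top_or_exists_le_coatom X).resolve_left hne
      rw [huniq C ⟨hC, hX.trans hXC⟩] at hXC
      exact hXC
    constructor
    · intro hcl2
      have hTn : (T : Subgroup H).Normal := hcl2 T
      have h1 : (T : Subgroup H) = ⊤ := by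
        rw [eq_top_iff, ← hcl]
        exact Subgroup.normalClosure_le_normal (fun x hx => hx)
      exact hM.1 (top_le_iff.mp (h1 ▸ hTM))
    · intro N hN hnc
      -- Sylow subgroup of `N`
      have hnN := hN
      obtain ⟨S, hS⟩ := exists_sylow_inf_of_normal T N
      -- `N T` is everything, or else ...
      by_cases hNT : (T : Subgroup H) ⊔ N = ⊤
      · exact pResidual_le_of_sup_eq_top T.isPGroup' hNT
      · exfalso
        have hNM : N ≤ M := (le_sup_right).trans (hle _ le_sup_left hNT)
        -- Frattini
        have hfr := Sylow.normalizer_sup_eq_top (p := p) (N := N) S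
        have hTnorm : (T : Subgroup H) ≤ Subgroup.normalizer (((S : Subgroup N).map N.subtype : Subgroup H) : Set H) := by
          rw [hS]
          intro t ht
          apply mem_normalizer_of_conj
          · rintro x ⟨hx1, hx2⟩
            exact ⟨T.toSubgroup.mul_mem (T.toSubgroup.mul_mem ht hx1) (T.toSubgroup.inv_mem ht), hN.conj_mem x hx2 t⟩
          · rintro x ⟨hx1, hx2⟩
            refine ⟨T.toSubgroup.mul_mem (T.toSubgroup.mul_mem (T.toSubgroup.inv_mem ht) hx1) ht, ?_⟩
            have := hN.conj_mem x hx2 t⁻¹
            simpa using this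
        by_cases hnt : Subgroup.normalizer (((S : Subgroup N).map N.subtype : Subgroup H) : Set H) = ⊤
        · -- then `S` is normal in `H` so `N` is `p`-closed
          apply hnc
          intro P
          obtain ⟨g, hg⟩ := exists_conj_sylow S P
          rw [hg]
          have hSn : ((S : Subgroup N).map N.subtype).Normal := Subgroup.normalizer_eq_top_iff.mp hnt
          have hSnN : (S : Subgroup N).Normal := by
            constructor
            intro x hx k
            have h1 : (x : H) ∈ (S : Subgroup N).map N.subtype := ⟨x, hx, rfl⟩
            have h2 := hSn.conj_mem _ h1 k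
            obtain ⟨y, hy, hy2⟩ := h2
            have : y = k * x * k⁻¹ := Subtype.ext hy2
            rwa [← this]
          rw [conj_map_eq_of_mem_normalizer (by
            rw [Subgroup.normalizer_eq_top_iff.mpr hSnN]; trivial)]
          exact hSnN
        · have h3 := hle _ hTnorm hnt
          apply hM.1
          rw [eq_top_iff, ← hfr]
          exact sup_le h3 hNM

end Cfsg.Agent.S2831
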