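import Mathlib
import Cfsg.Statements.S2832
import Cfsg.Agent.Lib.PClosed
import Cfsg.Agent.Lib.LocalTools

set_option autoImplicit false
open Cfsg
open scoped commutatorElement

namespace Cfsg.Agent.S2832

/-- Let H be a finite group with Sylow p-subgroup T such that H is T-minimal (generated by the conjugates of T, with T in exactly one maximal subgroup), and let N be a normal subgroup of H. Then either H/N is a p-group or H/N is minimal over the image of T in the same sense. -/
theorem result {H : Type*} [Group H] [Finite H] {p : ℕ} [Fact p.Prime] (T : Sylow p H) (hmin : Cfsg.IsMinimalOver (T : Subgroup H)) (N : Subgroup H) [N.Normal] : IsPGroup p (H ⧸ N) ∨ Cfsg.IsMinimalOver ((T : Subgroup H).map (QuotientGroup.mk' N)) := by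
  open Cfsg.Agent.Lib.PClosed Cfsg.Agent.Lib.PCore Cfsg.Agent.Lib.PResid Cfsg.Agent.Lib.ChainStab Cfsg.Agent.Lib.LocalTools in
  · obtain ⟨hcl, M, ⟨hM, hTM⟩, huniq⟩ := hmin
    have hsurj : Function.Surjective (QuotientGroup.mk' N) := QuotientGroup.mk'_surjective N
    by_cases hNT : (T : Subgroup H) ⊔ N = ⊤
    · left
      -- the image of `T` is everything
      have htop : (T : Subgroup H).map (QuotientGroup.mk' N) = ⊤ := by
        rw [eq_top_iff]
        intro y _
        obtain ⟨x, rfl⟩ := hsurj y
        have hx : x ∈ (T : Subgroup H) ⊔ N := by rw [hNT]; trivial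
        obtain ⟨t, ht, n, hn, rfl⟩ := Subgroup.mem_sup_of_normal_right.mp hx
        refine ⟨t, ht, ?_⟩
        have h1 : QuotientGroup.mk' N n = 1 := (QuotientGroup.eq_one_iff n).mpr hn
        rw [map_mul, h1, mul_one]
      have h2 : IsPGroup p ((T : Subgroup H).map (QuotientGroup.mk' N)) := T.isPGroup'.map _
      rw [htop] at h2
      exact h2.of_equiv Subgroup.topEquiv
    · right
      -- `M` contains `N`
      have hle : ∀ X : Subgroup H, (T : Subgroup H) ≤ X → X ≠ ⊤ → X ≤ M := by
        intro X hX hne
        obtain ⟨C, hC, hXC⟩ := (eq_top_or_exists_le_coatom X).resolve_left hne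
        rw [huniq C ⟨hC, hX.trans hXC⟩] at hXC
        exact hXC
      have hNM : N ≤ M := (le_sup_right).trans (hle _ le_sup_left hNT)
      refine ⟨?_, M.map (QuotientGroup.mk' N), ⟨?_, Subgroup.map_mono hTM⟩, ?_⟩
      · rw [eq_top_iff, ← Subgroup.map_top_of_surjective _ hsurj, ← hcl, Subgroup.map_normalClosure _ _ hsurj]
        exact le_of_eq (by rfl)
      · -- coatom correspondence
        have hker : (QuotientGroup.mk' N).ker ≤ M := by
          rwa [QuotientGroup.ker_mk']
        constructor
        · intro h
          apply hM.1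
          rw [← Subgroup.comap_map_eq_self hker, h, Subgroup.comap_top]
        · intro X hX
          have h1 : M < X.comap (QuotientGroup.mk' N) := by
            refine lt_of_le_of_ne (Subgroup.map_le_iff_le_comap.mp hX.le) ?_
            intro heq
            apply (ne_of_lt hX)
            rw [heq, Subgroup.map_comap_eq_self_of_surjective hsurj]
          have h2 := hM.2 _ h1
          rw [← Subgroup.map_comap_eq_self_of_surjective hsurj X, h2,
            Subgroup.map_top_of_surjective _ hsurj]
      · rintro X ⟨hX, hTX⟩
        have hX' : IsCoatom (X.comap (QuotientGroup.mk' N)) := Subgroup.isCoatom_comap_of_surjective hsurj hX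
        have hTX' : (T : Subgroup H) ≤ X.comap (QuotientGroup.mk' N) := Subgroup.map_le_iff_le_comap.mp hTX
        have h1 := huniq _ ⟨hX', hTX'⟩
        rw [← h1, Subgroup.map_comap_eq_self_of_surjective hsurj]

end Cfsg.Agent.S2832
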