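import Mathlib
import Cfsg.Statements.S2833
import Cfsg.Agent.Lib.LocalTools
import Cfsg.Agent.Lib.ChainStab
import Cfsg.Agent.Lib.PResid

set_option autoImplicit false
open Cfsg
open scoped commutatorElement

namespace Cfsg.Agent.S2833

/-- Let V be a subgroup of a finite group G normalized by the subgroup L, let X ≤ L and g ∈ L with [V, X, X] = 1 and L generated by X and gXg⁻¹. Put W = [V, L]. Then W = [V, X]·[V, gXg⁻¹], C_W(X) = [V, X], and C_W(L) = [V, X] ∩ [V, gXg⁻¹]. -/
theorem result {G : Type*} [Group G] [Finite G] (V L : Subgroup G) (hLV : L ≤ Subgroup.normalizer (V : Set G)) (X : Subgroup G) (hX : X ≤ L) (g : G) (hg : g ∈ L) (hq : ⁅⁅V, X⁆, X⁆ = ⊥) (hgen : X ⊔ X.map (MulAut.conj g).toMonoidHom = L) (W : Subgroup G) (hW : W = ⁅V, L⁆) : ⁅V, X⁆ ⊔ ⁅V, X.map (MulAut.conj g).toMonoidHom⁆ = W ∧ W ⊓ Subgroup.centralizer (X : Set G) = ⁅V, X⁆ ∧ W ⊓ Subgroup.centralizer (L : Set G) = ⁅V, X⁆ ⊓ ⁅V, X.map (MulAut.conj g).toMonoidHom⁆ := by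
  open Cfsg.Agent.Lib.LocalTools Cfsg.Agent.Lib.ChainStab Cfsg.Agent.Lib.PResid in
  · subst hW
    -- notation
    set Xg : Subgroup G := X.map (MulAut.conj g).toMonoidHom with hXg
    have hXgL : Xg ≤ L := by
      rintro _ ⟨x, hx, rfl⟩
      exact L.mul_mem (L.mul_mem hg (hX hx)) (L.inv_mem hg)
    have hXV : ∀ x ∈ L, ∀ v ∈ V, x * v * x⁻¹ ∈ V := fun x hx v hv =>
      ((Subgroup.mem_normalizer_iff.mp (hLV hx)) v).mp hv
    have hg_inv : g⁻¹ ∈ L := L.inv_mem hg
    have hgV : V.map (MulAut.conj g).toMonoidHom = V :=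
      conj_map_eq_of_mem_normalizer (hLV hg)
    have hconjW : (⁅V, X⁆ : Subgroup G).map (MulAut.conj g).toMonoidHom = ⁅V, Xg⁆ := by
      rw [Subgroup.map_commutator, hgV]
    have hqg : ⁅⁅V, Xg⁆, Xg⁆ = ⊥ := by
      rw [← hconjW, hXg, ← Subgroup.map_commutator, hq, Subgroup.map_bot]
    -- elementwise form
    have hcomm : ∀ a ∈ ⁅V, X⁆, ∀ x ∈ X, Commute a x := fun a ha x hx => by
      have := Subgroup.commutator_eq_bot_iff_le_centralizer.mp hq ha
      have h2 := Subgroup.mem_centralizer_iff.mp this x hx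
      exact h2.symm
    have hcommg : ∀ a ∈ ⁅V, Xg⁆, ∀ x ∈ Xg, Commute a x := fun a ha x hx => by
      have := Subgroup.commutator_eq_bot_iff_le_centralizer.mp hqg ha
      have h2 := Subgroup.mem_centralizer_iff.mp this x hx
      exact h2.symm
    have hcV : ∀ Y : Subgroup G, Y ≤ L → ⁅V, Y⁆ ≤ V := by
      intro Y hY
      rw [Subgroup.commutator_le]
      intro v hv x hx
      have e : ⁅v, x⁆ = v * (x * v⁻¹ * x⁻¹) := by rw [commutatorElement_def]; group
      rw [e]
      exact V.mul_mem hv (hXV x (hY hx) _ (V.inv_mem hv))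
    set W0 : Subgroup G := ⁅V, X⁆ ⊔ ⁅V, Xg⁆ with hW0
    have hW0V : W0 ≤ V := sup_le (hcV X hX) (hcV Xg hXgL)
    -- a subgroup of `V` containing `[V, Y]` is normalized by `Y`
    have hnormU : ∀ (Y U : Subgroup G), Y ≤ L → ⁅V, Y⁆ ≤ U → U ≤ V → Y ≤ Subgroup.normalizer (U : Set G) := by
      intro Y U hY h1 h2 y hy
      apply mem_normalizer_of_conj
      · intro u hu
        have e : y * u * y⁻¹ = u * ⁅u⁻¹, y⁆ := by rw [commutatorElement_def]; group
        rw [e]
        exact U.mul_mem hu (h1 (Subgroup.commutator_mem_commutator (V.inv_mem (h2 hu)) hy))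
      · intro u hu
        have e : y⁻¹ * u * y = u * ⁅u⁻¹, y⁻¹⁆ := by rw [commutatorElement_def]; group
        rw [e]
        exact U.mul_mem hu (h1 (Subgroup.commutator_mem_commutator (V.inv_mem (h2 hu)) (Y.inv_mem hy)))
    have hXS : X ≤ stabSub V W0 := fun x hx =>
      ⟨hnormU X W0 hX le_sup_left hW0V hx,
        fun v hv => Subgroup.mem_sup_left (Subgroup.commutator_mem_commutator hv hx)⟩
    have hXgS : Xg ≤ stabSub V W0 := fun x hx =>
      ⟨hnormU Xg W0 hXgL le_sup_right hW0V hx,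
        fun v hv => Subgroup.mem_sup_right (Subgroup.commutator_mem_commutator hv hx)⟩
    have hLS : L ≤ stabSub V W0 := by
      rw [← hgen]
      exact sup_le hXS hXgS
    have h1 : W0 = ⁅V, L⁆ := by
      apply le_antisymm
      · exact sup_le (Subgroup.commutator_mono le_rfl hX) (Subgroup.commutator_mono le_rfl hXgL)
      · rw [Subgroup.commutator_le]
        intro v hv l hl
        exact (hLS hl).2 v hv
    -- elements of `[V, X^g]` centralized by `L` lie in `[V, X]`
    have hconjmem : ∀ a ∈ ⁅V, Xg⁆, Commute a g → a ∈ ⁅V, X⁆ := by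
      intro a ha hag
      rw [← hconjW, mem_conj_map] at ha
      have e : g⁻¹ * a * g = a := by
        rw [mul_assoc, hag.eq, inv_mul_cancel_left]
      rwa [e] at ha
    have hL_comm : ∀ a : G, (∀ x ∈ X, Commute a x) → (∀ x ∈ Xg, Commute a x) → ∀ l ∈ L, Commute a l := by
      intro a h2 h3 l hl
      rw [← hgen] at hl
      exact commute_of_mem_sup hl h2 h3
    have hVnorm : ⁅V, Xg⁆ ≤ Subgroup.normalizer ((⁅V, X⁆ : Subgroup G) : Set G) :=
      (hcV Xg hXgL).trans (Subgroup.normalizer_commutator_ge_left V X)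
    have h2 : ⁅V, L⁆ ⊓ Subgroup.centralizer (X : Set G) = ⁅V, X⁆ := by
      apply le_antisymm
      · rintro w ⟨hw, hwX⟩
        rw [← h1] at hw
        obtain ⟨b, hb, a, ha, rfl⟩ := (mem_sup_of_le_normalizer' hVnorm).mp hw
        have hwX' : ∀ x ∈ X, Commute (b * a) x := fun x hx =>
          ((Subgroup.mem_centralizer_iff.mp hwX) x hx).symm
        have haX : ∀ x ∈ X, Commute a x := by
          intro x hx
          have h3 := hwX' x hx
          have h4 := hcomm b hb x hx
          have h5 : Commute (b⁻¹ * (b * a)) x := h4.inv_left.mul_left h3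
          simpa using h5
        have haL := hL_comm a haX (hcommg a ha)
        exact Subgroup.mul_mem _ hb (hconjmem a ha (haL g hg))
      · apply le_inf (Subgroup.commutator_mono le_rfl hX)
        intro a ha
        rw [Subgroup.mem_centralizer_iff]
        intro x hx
        exact (hcomm a ha x hx).symm.eq
    refine ⟨h1, h2, ?_⟩
    apply le_antisymm
    · rintro w ⟨hw, hwL⟩
      have hwX : w ∈ ⁅V, L⁆ ⊓ Subgroup.centralizer (X : Set G) :=
        ⟨hw, Subgroup.centralizer_le (by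
          intro x hx; exact hX hx) hwL⟩
      rw [h2] at hwX
      refine ⟨hwX, ?_⟩
      show w ∈ ⁅V, Xg⁆
      rw [← hconjW, mem_conj_map]
      have hcg : g⁻¹ * w * g = w := by
        have h3 := (Subgroup.mem_centralizer_iff.mp hwL) g hg
        rw [mul_assoc, ← h3, inv_mul_cancel_left]
      rwa [hcg]
    · rintro w ⟨hw1, hw2⟩
      refine ⟨Subgroup.commutator_mono le_rfl hX hw1, ?_⟩
      show w ∈ Subgroup.centralizer (L : Set G)
      rw [Subgroup.mem_centralizer_iff]
      intro l hl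
      exact (hL_comm w (hcomm w hw1) (hcommg w hw2) l hl).symm.eq

end Cfsg.Agent.S2833
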