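-- Statement S2834
import Mathlib
import Cfsg.Agent.Lib.LLemma
import Cfsg.Statements.S2834

set_option autoImplicit false
open Cfsg

namespace Cfsg.Agent.S2834

open Cfsg.Agent.Lib.LLemma in
/-- The L-Lemma: let H be a finite group with Sylow p-subgroup T such that H is T-minimal (generated by the conjugates of T, T in exactly one maximal subgroup M), and let A ≤ T with A not contained in O_p(H). Then there is a subgroup L of H containing A·O_p(H) such that (a) A·O_p(L) lies in exactly one maximal subgroup L₀ of L, and L₀ = L ∩ gMg⁻¹ for some g ∈ H; (b) L = ⟨A, xAx⁻¹⟩·O_p(L) for every x ∈ L outside L₀. -/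
theorem result {H : Type*} [Group H] [Finite H] {p : ℕ} [Fact p.Prime] (T : Sylow p H) (hmin : Cfsg.IsMinimalOver (T : Subgroup H)) (M : Subgroup H) (hM : IsCoatom M ∧ (T : Subgroup H) ≤ M) (A : Subgroup H) (hAT : A ≤ (T : Subgroup H)) (hA : ¬ A ≤ Cfsg.pCore p H) : ∃ L : Subgroup H, A ⊔ Cfsg.pCore p H ≤ L ∧ ∃ L₀ : Subgroup H, A ⊔ (Cfsg.pCoreOf p L) ≤ L₀ ∧ L₀ < L ∧ (∀ X : Subgroup H, A ⊔ (Cfsg.pCoreOf p L) ≤ X → X < L → X ≤ L₀) ∧ (∃ g : H, L₀ = L ⊓ ((M : Subgroup H).map (MulAut.conj (g : H)).toMonoidHom)) ∧ ∀ x ∈ L, x ∉ L₀ → (A ⊔ ((A : Subgroup H).map (MulAut.conj (x : H)).toMonoidHom)) ⊔ (Cfsg.pCoreOf p L) = L := by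
  have hT : TMin p (⊤ : Subgroup H) (T : Subgroup H) M := by
    refine ⟨⟨le_top, T.isPGroup', fun P _ hP hTP => (T.is_maximal' hP hTP).le⟩, le_top, hM.1.1,
      hM.2, ?_, ?_⟩
    · intro X _ hTX hne
      obtain ⟨M', hM', hXM'⟩ := (eq_top_or_exists_le_coatom X).resolve_left hne
      have := hmin.2.unique ⟨hM', hTX.trans hXM'⟩ hM
      rwa [this] at hXM'
    · intro K _ hTK hK
      have hn : K.Normal := Subgroup.normalizer_eq_top_iff.mp (top_le_iff.mp hK)
      have h1 : Subgroup.normalClosure ((T : Subgroup H) : Set H) ≤ K :=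
        Subgroup.normalClosure_le_normal hTK
      rw [hmin.1] at h1
      exact top_le_iff.mp h1
  have hmain := main hT hAT (by rwa [pCoreOf_top])
  obtain ⟨L, -, hAL, L₀, h1, h2, h3, ⟨g, -, hg⟩, h5⟩ := hmain
  rw [pCoreOf_top] at hAL
  exact ⟨L, hAL, L₀, h1, h2, h3, ⟨g, hg⟩, h5⟩



end Cfsg.Agent.S2834
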