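import Mathlib
import Cfsg.Statements.S2836
import Cfsg.Agent.Lib.YMinimal

set_option autoImplicit false
open Cfsg
open scoped commutatorElement

namespace Cfsg.Agent.S2836

/-- Let L be a finite group, L₀ a maximal subgroup, T a Sylow p-subgroup of L₀, Y ≤ T, and suppose L is Y-minimal. Let D be the intersection of the conjugates of L₀ (the core of L₀). Then D contains O_p(L) and D/O_p(L) is the Frattini subgroup of L/O_p(L), so D is p-closed; and every normal subgroup N of L contained in L₀ is p-closed with N/O_p(N) a nilpotent group of order prime to p. -/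
theorem result {L : Type*} [Group L] [Finite L] {p : ℕ} [Fact p.Prime] (L₀ : Subgroup L) (hL₀ : IsCoatom L₀) (T : Sylow p ↥L₀) (Y : Subgroup L) (hYT : Y ≤ (T : Subgroup ↥L₀).map L₀.subtype) (hmin : Cfsg.IsMinimalOver Y) : (Cfsg.pCore p L ≤ L₀.normalCore ∧ (L₀.normalCore).map (QuotientGroup.mk' (Cfsg.pCore p L)) = frattini (L ⧸ Cfsg.pCore p L) ∧ Cfsg.IsPClosed p ↥(L₀.normalCore)) ∧ ∀ (N : Subgroup L) [N.Normal], N ≤ L₀ → Cfsg.IsPClosed p ↥N ∧ Group.IsNilpotent (↥N ⧸ Cfsg.pCore p ↥N) ∧ (Nat.card (↥N ⧸ Cfsg.pCore p ↥N)).Coprime p := by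
  open Cfsg.Agent.Lib.YMinimal Cfsg.Agent.Lib.PCore Cfsg.Agent.Lib.PClosed Cfsg.Agent.Lib.PResid in
  · have hT'L₀ : (T : Subgroup L₀).map L₀.subtype ≤ L₀ := Subgroup.map_subtype_le _
    have hYL₀ : Y ≤ L₀ := hYT.trans hT'L₀
    obtain ⟨P, hP⟩ := exists_sylow_eq hL₀ T hYT hmin
    have hM : L₀ ≠ ⊤ := hL₀.1
    have hYP : Y ≤ (P : Subgroup L) := by rw [hP]; exact hYT
    have hprop : ∀ X : Subgroup L, (P : Subgroup L) ≤ X → X ≠ ⊤ → X ≤ L₀ :=
      fun X hX hXt => le_of_ne_top hL₀ hYL₀ hmin (hYP.trans hX) hXt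
    have hb : ∀ (N : Subgroup L) [N.Normal], N ≤ L₀ → IsPClosed p N ∧
        Group.IsNilpotent (N ⧸ pCore p N) ∧ (Nat.card (N ⧸ pCore p N)).Coprime p := by
      intro N _ hN
      have h1 := isPClosed_of_normal_le P hM hprop hN
      exact ⟨h1, isNilpotent_quot P hM hprop hN, coprime_card_quot h1⟩
    have hDclosed := (hb _ (Subgroup.normalCore_le L₀)).1
    have hQL₀ : pCore p L ≤ L₀ := (pCore_le_sylow p P).trans (hP ▸ hT'L₀)
    refine ⟨⟨Subgroup.normal_le_normalCore.mpr hQL₀, ?_, hDclosed⟩, hb⟩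
    set D := L₀.normalCore with hD
    set π : L →* L ⧸ pCore p L := QuotientGroup.mk' (pCore p L) with hπ
    have hsurj : Function.Surjective π := QuotientGroup.mk'_surjective _
    have hker : π.ker = pCore p L := QuotientGroup.ker_mk' _
    apply le_antisymm
    · unfold frattini Order.radical
      simp_rw [le_iInf_iff]
      intro Mh hMh
      rw [Subgroup.map_le_iff_le_comap]
      set M := Mh.comap π with hMdef
      have hMc : IsCoatom M := Subgroup.isCoatom_comap_of_surjective hsurj hMh
      by_contra hDM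
      have hsup : M ⊔ D = ⊤ := by
        apply hMc.2
        refine lt_of_le_of_ne le_sup_left ?_
        intro h
        exact hDM (by rw [h]; exact le_sup_right)
      have hQM : pCore p L ≤ M := by
        intro x hx
        show π x ∈ Mh
        have : π x = 1 := (QuotientGroup.eq_one_iff _).mpr hx
        rw [this]
        exact Mh.one_mem
      obtain ⟨S, hS⟩ := exists_sylow_inf_of_normal P D
      have hSQ : (S : Subgroup D).map D.subtype ≤ pCore p L := by
        rw [hS]
        intro x hx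
        exact isPClosed_normal_iff.mp hDclosed x hx.2 (exists_pow_eq_one_of_isPGroup P.isPGroup' hx.1)
      have hidx := not_dvd_index_of_sup_eq_top hsup S (hSQ.trans hQM)
      obtain ⟨g, hg⟩ := exists_conj_le_of_not_dvd_index P.isPGroup' hidx
      have hC : IsCoatom (M.comap (MulAut.conj g).toMonoidHom) :=
        Subgroup.isCoatom_comap_of_surjective (MulAut.conj g).surjective hMc
      have hYC : Y ≤ M.comap (MulAut.conj g).toMonoidHom := fun y hy => hg ⟨y, hYP hy, rfl⟩
      have hCe := coatom_eq hL₀ hYL₀ hmin hC hYC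
      apply hDM
      intro d hd
      have h1 : g⁻¹ * d * g⁻¹⁻¹ ∈ D := (Subgroup.normalCore_normal L₀).conj_mem d hd g⁻¹
      have h2 : g⁻¹ * d * g ∈ L₀ := by
        have := Subgroup.normalCore_le L₀ h1
        simpa using this
      rw [← hCe] at h2
      have h3 : g * (g⁻¹ * d * g) * g⁻¹ ∈ M := h2
      have e : g * (g⁻¹ * d * g) * g⁻¹ = d := by group
      rwa [e] at h3
    · intro xh hxh
      obtain ⟨x, rfl⟩ := hsurj xh
      refine ⟨x, ?_, rfl⟩
      intro b
      set C := L₀.comap (MulAut.conj b).toMonoidHom with hCdef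
      have hCc : IsCoatom C := Subgroup.isCoatom_comap_of_surjective (MulAut.conj b).surjective hL₀
      have hkerC : π.ker ≤ C := by
        rw [hker]
        intro q hq
        exact hQL₀ ((pCore_normal p L).conj_mem q hq b)
      have hmapc := isCoatom_map_of_ker_le hsurj hkerC hCc
      have h1 : π x ∈ C.map π := frattini_le_coatom hmapc hxh
      rw [← Subgroup.mem_comap, Subgroup.comap_map_eq_self hkerC] at h1
      exact h1

end Cfsg.Agent.S2836
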