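import Mathlib
import Cfsg.Statements.S2837
import Cfsg.Agent.Lib.YMinimal
import Cfsg.Agent.Lib.LocalTools2
import Cfsg.Agent.Lib.Frat

set_option autoImplicit false
open Cfsg
open scoped commutatorElement

namespace Cfsg.Agent.S2837

/-- Let L be a finite group of characteristic p, L₀ a maximal subgroup, Y an elementary abelian p-subgroup of L₀ with L Y-minimal and O_p(L) ≤ N_L(Y). Put A = the normal closure of O_p(L) ∩ Y in L. Then for every g ∈ L outside L₀: Φ(A) = A' = [A ∩ Y, A] = [A ∩ Y, A ∩ gYg⁻¹] ≤ C_Y(L), and Y ∩ gYg⁻¹ = (A ∩ Y) ∩ (A ∩ gYg⁻¹) = C_Y(L) = C_A(L). -/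
theorem result {L : Type*} [Group L] [Finite L] {p : ℕ} [Fact p.Prime] (hchar : Subgroup.centralizer (Cfsg.pCore p L : Set L) ≤ Cfsg.pCore p L) (L₀ : Subgroup L) (hL₀ : IsCoatom L₀) (Y : Subgroup L) (hYL₀ : Y ≤ L₀) (hYel : Cfsg.IsElementaryAbelian p Y) (hmin : Cfsg.IsMinimalOver Y) (hOY : Cfsg.pCore p L ≤ Subgroup.normalizer (Y : Set L)) (A : Subgroup L) (hA : A = Subgroup.normalClosure (((Cfsg.pCore p L ⊓ Y : Subgroup L)) : Set L)) (g : L) (hg : g ∉ L₀) : (frattini ↥A).map A.subtype = ⁅A, A⁆ ∧ ⁅A, A⁆ = ⁅A ⊓ Y, A⁆ ∧ ⁅A ⊓ Y, A⁆ = ⁅A ⊓ Y, A ⊓ Y.map (MulAut.conj g).toMonoidHom⁆ ∧ ⁅A ⊓ Y, A⁆ ≤ Y ⊓ Subgroup.center L ∧ Y ⊓ Y.map (MulAut.conj g).toMonoidHom = Y ⊓ Subgroup.center L ∧ (A ⊓ Y) ⊓ (A ⊓ Y.map (MulAut.conj g).toMonoidHom) = Y ⊓ Subgroup.center L ∧ A ⊓ Subgroup.center L = Y ⊓ Subgroup.center L := by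
  open Cfsg.Agent.Lib.YMinimal Cfsg.Agent.Lib.PCore Cfsg.Agent.Lib.PClosed Cfsg.Agent.Lib.PResid Cfsg.Agent.Lib.LocalTools Cfsg.Agent.Lib.LocalTools2 Cfsg.Agent.Lib.Frat in
  · obtain ⟨hYab, hYexp⟩ := hYel
    have hab : ∀ a ∈ Y, ∀ b ∈ Y, a * b = b * a := fun a ha b hb => by
      have := hYab.is_comm.comm ⟨a, ha⟩ ⟨b, hb⟩
      exact congrArg Subtype.val this
    set Q := pCore p L with hQ
    have hQn : Q.Normal := pCore_normal p L
    have hQp : IsPGroup p Q := isPGroup_pCore p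
    set Yg := Y.map (MulAut.conj g).toMonoidHom with hYg
    have hmemYg : ∀ x, x ∈ Yg ↔ g⁻¹ * x * g ∈ Y := fun x => mem_conj_map
    have hconjYg : ∀ y ∈ Y, g * y * g⁻¹ ∈ Yg := fun y hy => ⟨y, hy, rfl⟩
    have habg : ∀ a ∈ Yg, ∀ b ∈ Yg, a * b = b * a := by
      rintro _ ⟨a, ha, rfl⟩ _ ⟨b, hb, rfl⟩
      simp only [MulEquiv.coe_toMonoidHom, MulAut.conj_apply]
      have := hab a ha b hb
      calc g * a * g⁻¹ * (g * b * g⁻¹) = g * (a * b) * g⁻¹ := by group
        _ = g * (b * a) * g⁻¹ := by rw [this]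
        _ = g * b * g⁻¹ * (g * a * g⁻¹) := by group
    have hexpg : ∀ a ∈ Yg, a ^ p = 1 := by
      rintro _ ⟨a, ha, rfl⟩
      rw [← map_pow, hYexp a ha, map_one]
    have hOYg : Q ≤ Subgroup.normalizer (Yg : Set L) := by
      intro q hq
      rw [Subgroup.mem_normalizer_iff]
      intro x
      rw [hmemYg, hmemYg]
      have hq' : g⁻¹ * q * g ∈ Q := by
        have := hQn.conj_mem q hq g⁻¹
        simpa using this
      have h1 := Subgroup.mem_normalizer_iff.mp (hOY hq') (g⁻¹ * x * g)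
      have e : g⁻¹ * q * g * (g⁻¹ * x * g) * (g⁻¹ * q * g)⁻¹ = g⁻¹ * (q * x * q⁻¹) * g := by group
      rw [e] at h1
      exact h1
    -- commutators
    have hcomm : ∀ Z : Subgroup L, Q ≤ Subgroup.normalizer (Z : Set L) → ∀ z ∈ Z, ∀ q ∈ Q,
        ⁅z, q⁆ ∈ Q ⊓ Z := by
      intro Z hZ z hz q hq
      constructor
      · have h1 : z * q * z⁻¹ ∈ Q := hQn.conj_mem q hq z
        have : ⁅z, q⁆ = (z * q * z⁻¹) * q⁻¹ := by rw [commutatorElement_def]
        rw [this]
        exact Q.mul_mem h1 (Q.inv_mem hq)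
      · have h1 : q * z⁻¹ * q⁻¹ ∈ Z := (Subgroup.mem_normalizer_iff.mp (hZ hq) _).mp (Z.inv_mem hz)
        have : ⁅z, q⁆ = z * (q * z⁻¹ * q⁻¹) := by rw [commutatorElement_def]; group
        rw [this]
        exact Z.mul_mem hz h1
    -- the normalizers of `Y₀`, `Y₁`
    have hQnorm : ∀ Z : Subgroup L, Q ≤ Subgroup.normalizer (Z : Set L) →
        Q ≤ Subgroup.normalizer ((Q ⊓ Z : Subgroup L) : Set L) := by
      intro Z hZ q hq
      rw [Subgroup.mem_normalizer_iff]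
      intro x
      constructor
      · rintro ⟨h1, h2⟩
        exact ⟨hQn.conj_mem x h1 q, (Subgroup.mem_normalizer_iff.mp (hZ hq) x).mp h2⟩
      · rintro ⟨h1, h2⟩
        refine ⟨?_, (Subgroup.mem_normalizer_iff.mp (hZ hq) x).mpr h2⟩
        have : x = q⁻¹ * (q * x * q⁻¹) * q := by group
        rw [this]
        exact Q.mul_mem (Q.mul_mem (Q.inv_mem hq) h1) hq
    set Y₀ : Subgroup L := Q ⊓ Y with hY₀
    set Y₁ : Subgroup L := Q ⊓ Yg with hY₁
    have hY₀Q : Y₀ ≤ Q := inf_le_left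
    have hY₁Q : Y₁ ≤ Q := inf_le_left
    have hQY₀ : Q ≤ Subgroup.normalizer (Y₀ : Set L) := hQnorm Y hOY
    have hQY₁ : Q ≤ Subgroup.normalizer (Y₁ : Set L) := hQnorm Yg hOYg
    -- `B = Y₀ Y₁` is normal
    have hsupYY : Y ⊔ Yg = ⊤ := sup_conj_eq_top hL₀ hYL₀ hmin hg
    have hconjsup : ∀ (Z₁ Z₂ : Subgroup L) (z : L), (∀ x ∈ Z₁, z * x * z⁻¹ ∈ Z₁ ⊔ Z₂) →
        (∀ x ∈ Z₂, z * x * z⁻¹ ∈ Z₁ ⊔ Z₂) → ∀ x ∈ Z₁ ⊔ Z₂, z * x * z⁻¹ ∈ Z₁ ⊔ Z₂ := by
      intro Z₁ Z₂ z h1 h2 x hx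
      have hle : Z₁ ⊔ Z₂ ≤ (Z₁ ⊔ Z₂).comap (MulAut.conj z).toMonoidHom :=
        sup_le (fun a ha => h1 a ha) (fun a ha => h2 a ha)
      exact hle hx
    have hBY : Y ≤ Subgroup.normalizer ((Y₀ ⊔ Y₁ : Subgroup L) : Set L) := by
      intro y hy
      apply mem_normalizer_of_conj_le
      apply hconjsup
      · intro x hx
        have e : y * x * y⁻¹ = x := by
          rw [hab y hy x hx.2]; group
        rw [e]
        exact Subgroup.mem_sup_left hx
      · intro x hx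
        have h1 := hcomm Y hOY y hy x hx.1
        have h2 : ⁅y, x⁆ ∈ Y₀ := h1
        have e : y * x * y⁻¹ = ⁅y, x⁆ * x := by rw [commutatorElement_def]; group
        rw [e]
        exact Subgroup.mul_mem _ (Subgroup.mem_sup_left h2) (Subgroup.mem_sup_right hx)
    have hBYg : Yg ≤ Subgroup.normalizer ((Y₀ ⊔ Y₁ : Subgroup L) : Set L) := by
      intro y hy
      apply mem_normalizer_of_conj_le
      apply hconjsup
      · intro x hx
        have h1 := hcomm Yg hOYg y hy x hx.1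
        have h2 : ⁅y, x⁆ ∈ Y₁ := h1
        have e : y * x * y⁻¹ = ⁅y, x⁆ * x := by rw [commutatorElement_def]; group
        rw [e]
        exact Subgroup.mul_mem _ (Subgroup.mem_sup_right h2) (Subgroup.mem_sup_left hx)
      · intro x hx
        have e : y * x * y⁻¹ = x := by
          rw [habg y hy x hx.2]; group
        rw [e]
        exact Subgroup.mem_sup_right hx
    have hBn : (Y₀ ⊔ Y₁).Normal := by
      rw [← Subgroup.normalizer_eq_top_iff, eq_top_iff, ← hsupYY]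
      exact sup_le hBY hBYg
    have hAn : A.Normal := by rw [hA]; infer_instance
    have hY₀A : Y₀ ≤ A := by rw [hA]; exact Subgroup.subset_normalClosure
    have hY₁A : Y₁ ≤ A := by
      intro x hx
      have h1 : g⁻¹ * x * g ∈ Y := (hmemYg x).mp hx.2
      have h2 : g⁻¹ * x * g ∈ Q := by
        have := hQn.conj_mem x hx.1 g⁻¹
        simpa using this
      have h3 := hAn.conj_mem _ (hY₀A ⟨h2, h1⟩) g
      have e : g * (g⁻¹ * x * g) * g⁻¹ = x := by group
      rwa [e] at h3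
    have hAeq : A = Y₀ ⊔ Y₁ := by
      apply le_antisymm
      · rw [hA]
        exact Subgroup.normalClosure_le_normal (fun x hx => Subgroup.mem_sup_left hx)
      · exact sup_le hY₀A hY₁A
    have hAQ : A ≤ Q := by rw [hAeq]; exact sup_le hY₀Q hY₁Q
    have hAY : A ⊓ Y = Y₀ := by
      apply le_antisymm
      · rintro x ⟨h1, h2⟩
        exact ⟨hAQ h1, h2⟩
      · exact le_inf hY₀A inf_le_right
    have hAYg : A ⊓ Yg = Y₁ := by
      apply le_antisymm
      · rintro x ⟨h1, h2⟩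
        exact ⟨hAQ h1, h2⟩
      · exact le_inf hY₁A inf_le_right
    -- the centre
    have hinf : Y ⊓ Yg = Y ⊓ Subgroup.center L := inf_conj_eq hL₀ hYL₀ hmin hab hg
    have hY₀comm : ⁅Y₀, Y₁⁆ ≤ Y ⊓ Yg := by
      rw [Subgroup.commutator_le]
      intro a ha b hb
      have h1 := hcomm Y hOY a ha.2 b hb.1
      have h2 := hcomm Yg hOYg b hb.2 a ha.1
      refine ⟨h1.2, ?_⟩
      have h3 : ⁅a, b⁆ = ⁅b, a⁆⁻¹ := (commutatorElement_inv b a).symm
      rw [h3]
      exact Yg.inv_mem h2.2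
    have hcentral : ∀ x ∈ Y ⊓ Subgroup.center L, x ∈ Q := by
      rintro x ⟨_, hx⟩
      apply hchar
      rw [Subgroup.mem_centralizer_iff]
      intro q _
      exact (Subgroup.mem_center_iff.mp hx q)
    -- commutator
    have hNC : (⁅Y₀, Y₁⁆ : Subgroup L).Normal := by
      constructor
      intro n hn h
      have h1 : n ∈ Subgroup.center L := by
        have := hY₀comm hn
        rw [hinf] at this
        exact this.2
      rw [Subgroup.mem_center_iff] at h1
      have : h * n * h⁻¹ = n := by rw [h1 h]; group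
      rw [this]
      exact hn
    have hcommY₀ : ⁅Y₀, Y₀⁆ = ⊥ := by
      rw [Subgroup.commutator_eq_bot_iff_le_centralizer]
      intro a ha
      rw [Subgroup.mem_centralizer_iff]
      intro b hb
      exact hab _ hb.2 _ ha.2
    have hcommY₁ : ⁅Y₁, Y₁⁆ = ⊥ := by
      rw [Subgroup.commutator_eq_bot_iff_le_centralizer]
      intro a ha
      rw [Subgroup.mem_centralizer_iff]
      intro b hb
      exact habg _ hb.2 _ ha.2
    have hAA : ⁅A, A⁆ ≤ ⁅Y₀, Y₁⁆ := by
      rw [hAeq]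
      exact commutator_sup_le_of (by rw [hcommY₀]; exact bot_le) le_rfl (by rw [hcommY₁]; exact bot_le)
    have hAAeq : ⁅A, A⁆ = ⁅Y₀, Y₁⁆ :=
      le_antisymm hAA (Subgroup.commutator_mono hY₀A hY₁A)
    have hY₀Aeq : ⁅Y₀, A⁆ = ⁅Y₀, Y₁⁆ :=
      le_antisymm ((Subgroup.commutator_mono hY₀A le_rfl).trans hAA)
        (Subgroup.commutator_mono le_rfl hY₁A)
    have hpow : ∀ x : A, x ^ p ∈ commutator A := by
      intro x
      have hx : (x : L) ∈ Y₀ ⊔ Y₁ := by rw [← hAeq]; exact x.2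
      obtain ⟨a, ha, b, hb, hab'⟩ := (mem_sup_of_le_normalizer (hY₀Q.trans hQY₁)).mp hx
      have hxe : x = ⟨a, hY₀A ha⟩ * ⟨b, hY₁A hb⟩ := Subtype.ext hab'
      have h1 : (Abelianization.of x) ^ p = 1 := by
        rw [hxe, map_mul, mul_pow, ← map_pow, ← map_pow]
        have h2 : (⟨a, hY₀A ha⟩ : A) ^ p = 1 := Subtype.ext (hYexp a ha.2)
        have h3 : (⟨b, hY₁A hb⟩ : A) ^ p = 1 := Subtype.ext (hexpg b hb.2)
        rw [h2, h3, map_one, one_mul]
      rw [← map_pow] at h1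
      exact (QuotientGroup.eq_one_iff _).mp h1
    have hAp : IsPGroup p A := hQp.to_le hAQ
    refine ⟨?_, ?_, ?_, ?_, hinf, ?_, ?_⟩
    · apply le_antisymm
      · have h1 := frattini_le_of_commutator_pow (p := p) (G := A) (commutator A) le_rfl hpow
        have h2 := Subgroup.map_mono (f := A.subtype) h1
        rwa [Subgroup.map_subtype_commutator] at h2
      · rw [← Subgroup.map_subtype_commutator]
        exact Subgroup.map_mono (commutator_le_frattini hAp)
    · rw [hAY, hAAeq, hY₀Aeq]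
    · rw [hAY, hAYg, hY₀Aeq]
    · rw [hAY, hY₀Aeq, ← hinf]
      exact hY₀comm
    · rw [hAY, hAYg]
      apply le_antisymm
      · rintro x ⟨⟨_, h1⟩, ⟨_, h2⟩⟩
        rw [← hinf]
        exact ⟨h1, h2⟩
      · intro x hx
        have h1 := hcentral x hx
        have h2 : x ∈ Y ⊓ Yg := by rw [hinf]; exact hx
        exact ⟨⟨h1, h2.1⟩, ⟨h1, h2.2⟩⟩
    · apply le_antisymm
      · rintro x ⟨hxA, hxZ⟩
        have hxZ' : x ∈ Subgroup.center L := hxZ
        refine ⟨?_, hxZ⟩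
        have hx : x ∈ Y₀ ⊔ Y₁ := by rw [← hAeq]; exact hxA
        obtain ⟨a, ha, b, hb, rfl⟩ := (mem_sup_of_le_normalizer (hY₀Q.trans hQY₁)).mp hx
        rw [Subgroup.mem_center_iff] at hxZ'
        have hbcent : ∀ z, z ∈ (⊤ : Subgroup L) → z * b = b * z := by
          rw [← hsupYY]
          have hle : Y ⊔ Yg ≤ Subgroup.centralizer ({b} : Set L) := by
            apply sup_le
            · intro z hz
              rw [Subgroup.mem_centralizer_singleton_iff]
              have h1 := hxZ' z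
              have h2 := hab z hz a ha.2
              have : z * (a * b) = a * (z * b) := by rw [← mul_assoc, h2, mul_assoc]
              have h3 : a * (z * b) = a * (b * z) := by
                rw [← this, h1]; group
              exact mul_left_cancel h3
            · intro z hz
              rw [Subgroup.mem_centralizer_singleton_iff]
              exact habg z hz b hb.2
          intro z hz
          exact Subgroup.mem_centralizer_singleton_iff.mp (hle hz)
        have hbY : b ∈ Y := by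
          have h1 : g⁻¹ * b * g ∈ Y := (hmemYg b).mp hb.2
          have h2 : g⁻¹ * b * g = b := by
            rw [mul_assoc, ← hbcent g (Subgroup.mem_top g)]; group
          rwa [h2] at h1
        exact Y.mul_mem ha.2 hbY
      · rintro x ⟨hxY, hxZ⟩
        exact ⟨hY₀A ⟨hcentral x ⟨hxY, hxZ⟩, hxY⟩, hxZ⟩

end Cfsg.Agent.S2837
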