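import Mathlib
import Cfsg.Statements.S2843
import Cfsg.Agent.Lib.LocalLarge
-- import your own Cfsg.Agent.* helpers here

set_option autoImplicit false
open Cfsg

namespace Cfsg.Agent.S2843

/-- Let Q be a nontrivial large p-subgroup of the finite group H, Q ≤ L ≤ H, and Y a nontrivial p-subgroup of H normalized by L. Let L° be the weak closure of Q in L (generated by the conjugates of Q inside L). Then L° equals the weak closure of Q in L·C_H(Y), and [L°, C_H(Y)] ≤ O_p(L°); in particular C_H(Y) normalizes L°. -/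
theorem result {H : Type*} [Group H] [Finite H] {p : ℕ} [Fact p.Prime] (Q : Subgroup H) (hQp : IsPGroup p ↥Q) (hQ1 : Q ≠ ⊥) (hL : Cfsg.IsLarge Q) (L : Subgroup H) (hQL : Q ≤ L) (Y : Subgroup H) (hYp : IsPGroup p ↥Y) (hY1 : Y ≠ ⊥) (hLY : L ≤ Subgroup.normalizer ((Y : Subgroup H) : Set H)) : Cfsg.weakClosure Q L = Cfsg.weakClosure Q (L ⊔ Subgroup.centralizer ((Y : Subgroup H) : Set H)) ∧ ⁅Cfsg.weakClosure Q L, Subgroup.centralizer ((Y : Subgroup H) : Set H)⁆ ≤ (Cfsg.pCoreOf p (Cfsg.weakClosure Q L)) ∧ Subgroup.centralizer ((Y : Subgroup H) : Set H) ≤ Subgroup.normalizer (((Cfsg.weakClosure Q L) : Subgroup H) : Set H) := by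
  classical
  have hN := Cfsg.Agent.Lib.LocalLarge.large_centralizer_le_normalizer_weakClosure (L := L) hL hQp hYp hY1 hLY
  refine ⟨Cfsg.Agent.Lib.LocalLarge.large_weakClosure_eq hL hQp hQ1 hQL hYp hY1 hLY, ?_, hN⟩
  set C := Subgroup.centralizer ((Y : Subgroup H) : Set H) with hC
  set D := Cfsg.weakClosure Q L with hD
  have hDL : D ≤ L := Cfsg.Agent.Lib.LocalLarge.weakClosure_le_self Q L
  have hLC : L ≤ Subgroup.normalizer (C : Set H) :=
    hLY.trans (Cfsg.Agent.Lib.LocalLarge.normalizer_le_normalizer_centralizer Y)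
  have h1 := Cfsg.Agent.Lib.LocalLarge.large_commutator_le_Oc (L := L) hL hQp hYp hY1 hLY
  intro z hz
  have hzW : z ∈ Cfsg.Agent.Lib.CharTwoLocal.Oc p C := h1 hz
  have hzD : z ∈ D := by
    have : ⁅D, C⁆ ≤ D := by
      rw [Subgroup.commutator_le]
      intro a ha c hc
      have e : a * c * a⁻¹ * c⁻¹ = a * (c * a⁻¹ * c⁻¹) := by group
      show a * c * a⁻¹ * c⁻¹ ∈ D
      rw [e]
      exact D.mul_mem ha ((Subgroup.mem_normalizer_iff.mp (hN hc) a⁻¹).mp (D.inv_mem ha))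
    exact this hz
  have hle : Cfsg.Agent.Lib.CharTwoLocal.Oc p C ⊓ D ≤ Cfsg.Agent.Lib.CharTwoLocal.Oc p D := by
    refine Cfsg.Agent.Lib.CharTwoLocal.le_Oc inf_le_right
      ((Cfsg.Agent.Lib.CharTwoLocal.isPGroup_Oc p C).to_le inf_le_left) ?_
    intro l hl x hx
    exact ⟨Cfsg.Agent.Lib.CharTwoLocal.conj_mem_Oc_of_normalizer (hLC (hDL hl)) hx.1,
      D.mul_mem (D.mul_mem hl hx.2) (D.inv_mem hl)⟩
  exact hle ⟨hzW, hzD⟩

end Cfsg.Agent.S2843
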