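import Mathlib
import Cfsg.Statements.S2844
import Cfsg.Agent.Lib.LocalLarge
-- import your own Cfsg.Agent.* helpers here

set_option autoImplicit false
open Cfsg

namespace Cfsg.Agent.S2844

/-- Let Q be a nontrivial large p-subgroup of the finite group H and Q• = O_p(N_H(Q)). Then for every g ∈ H outside N_H(Q): C_H(Q) ∩ C_H(gQg⁻¹) = 1, C_H(Q•) ∩ C_H(gQ•g⁻¹) = 1, Z(Q) ∩ Z(gQg⁻¹) = 1 and Z(Q•) ∩ Z(gQ•g⁻¹) = 1; moreover N_H(Q) = N_H(Q•) and Q• is large in H. -/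
theorem result {H : Type*} [Group H] [Finite H] {p : ℕ} [Fact p.Prime] (Q : Subgroup H) (hQp : IsPGroup p ↥Q) (hQ1 : Q ≠ ⊥) (hL : Cfsg.IsLarge Q) (Qb : Subgroup H) (hQb : Qb = Cfsg.largeBullet p Q) : (∀ g : H, g ∉ Subgroup.normalizer ((Q : Subgroup H) : Set H) → Subgroup.centralizer ((Q : Subgroup H) : Set H) ⊓ Subgroup.centralizer ((((Q : Subgroup H).map (MulAut.conj (g : H)).toMonoidHom) : Subgroup H) : Set H) = ⊥ ∧ Subgroup.centralizer ((Qb : Subgroup H) : Set H) ⊓ Subgroup.centralizer ((((Qb : Subgroup H).map (MulAut.conj (g : H)).toMonoidHom) : Subgroup H) : Set H) = ⊥ ∧ (Q ⊓ Subgroup.centralizer ((Q : Subgroup H) : Set H)) ⊓ (((Q : Subgroup H).map (MulAut.conj (g : H)).toMonoidHom) ⊓ Subgroup.centralizer ((((Q : Subgroup H).map (MulAut.conj (g : H)).toMonoidHom) : Subgroup H) : Set H)) = ⊥ ∧ (Qb ⊓ Subgroup.centralizer ((Qb : Subgroup H) : Set H)) ⊓ (((Qb : Subgroup H).map (MulAut.conj (g : H)).toMonoidHom)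 ⊓ Subgroup.centralizer ((((Qb : Subgroup H).map (MulAut.conj (g : H)).toMonoidHom) : Subgroup H) : Set H)) = ⊥) ∧ Subgroup.normalizer ((Q : Subgroup H) : Set H) = Subgroup.normalizer ((Qb : Subgroup H) : Set H) ∧ Cfsg.IsLarge Qb := by
  classical
  subst hQb
  have hle : Q ≤ largeBullet p Q := Cfsg.Agent.Lib.LocalLarge.le_largeBullet Q hQp
  have hC := Subgroup.centralizer_le hle
  refine ⟨fun g hg => ?_, Cfsg.Agent.Lib.LocalLarge.large_normalizer_bullet hL hQp hQ1,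
    Cfsg.Agent.Lib.LocalLarge.large_bullet hL hQp hQ1⟩
  have h1 : Subgroup.centralizer ((Q : Subgroup H) : Set H) ⊓ Subgroup.centralizer (((Q.map (MulAut.conj g).toMonoidHom) : Subgroup H) : Set H) = ⊥ := by
    by_contra hc
    exact hg (Cfsg.Agent.Lib.LocalLarge.cj_eq_iff.mp (Cfsg.Agent.Lib.LocalLarge.large_cj_eq_of_inf_ne_bot hL hQp hQ1 hc))
  have hCg := Subgroup.centralizer_le (Subgroup.map_mono (f := (MulAut.conj g).toMonoidHom) hle)
  have h2 : Subgroup.centralizer ((largeBullet p Q : Subgroup H) : Set H) ⊓ Subgroup.centralizer ((((largeBullet p Q).map (MulAut.conj g).toMonoidHom) : Subgroup H) : Set H) = ⊥ := by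
    rw [eq_bot_iff, ← h1]
    exact inf_le_inf hC hCg
  refine ⟨h1, h2, ?_, ?_⟩
  · rw [eq_bot_iff, ← h1]
    exact inf_le_inf inf_le_right inf_le_right
  · rw [eq_bot_iff, ← h2]
    exact inf_le_inf inf_le_right inf_le_right

end Cfsg.Agent.S2844
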