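import Mathlib
import Cfsg.Statements.S2845
import Cfsg.Agent.Lib.LocalLarge
-- import your own Cfsg.Agent.* helpers here

set_option autoImplicit false
open Cfsg

namespace Cfsg.Agent.S2845

/-- Let Q be a nontrivial large p-subgroup of the finite group H. Then for every subgroup L ≥ Q with O_p(L) ≠ 1, C_H(O_p(L)) is a p-group and L has characteristic p, and either the weak closure L° of Q in L equals Q or C_H(L°) = 1; for every subgroup R of H containing a Sylow p-subgroup of H with O_p(R) ≠ 1, C_H(O_p(R)) ≤ O_p(R); and H has parabolic characteristic p. -/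
theorem result {H : Type*} [Group H] [Finite H] {p : ℕ} [Fact p.Prime] (Q : Subgroup H) (hQp : IsPGroup p ↥Q) (hQ1 : Q ≠ ⊥) (hL : Cfsg.IsLarge Q) : (∀ L : Subgroup H, Q ≤ L → Cfsg.pCore p ↥L ≠ ⊥ → IsPGroup p ↥(Subgroup.centralizer (((Cfsg.pCoreOf p L) : Subgroup H) : Set H)) ∧ Subgroup.centralizer (Cfsg.pCore p ↥L : Set ↥L) ≤ Cfsg.pCore p ↥L ∧ (Cfsg.weakClosure Q L = Q ∨ Subgroup.centralizer (((Cfsg.weakClosure Q L) : Subgroup H) : Set H) = ⊥)) ∧ (∀ R : Subgroup H, Cfsg.IsParabolic p R → Cfsg.pCore p ↥R ≠ ⊥ → Subgroup.centralizer (((Cfsg.pCoreOf p R) : Subgroup H) : Set H) ≤ (Cfsg.pCoreOf p R)) ∧ Cfsg.IsOfParabolicCharacteristic p H := by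
  classical
  have h1 : (∀ L : Subgroup H, Q ≤ L → Cfsg.pCore p ↥L ≠ ⊥ → IsPGroup p ↥(Subgroup.centralizer (((Cfsg.pCoreOf p L) : Subgroup H) : Set H)) ∧ Subgroup.centralizer (Cfsg.pCore p ↥L : Set ↥L) ≤ Cfsg.pCore p ↥L ∧ (Cfsg.weakClosure Q L = Q ∨ Subgroup.centralizer (((Cfsg.weakClosure Q L) : Subgroup H) : Set H) = ⊥)) := by
    intro L hQL hL1
    have hL1' := Cfsg.Agent.Lib.LocalLarge.Oc_ne_bot_iff.mpr hL1
    exact ⟨Cfsg.Agent.Lib.LocalLarge.large_isPGroup_centralizer hL hQp hQL hL1',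
      Cfsg.Agent.Lib.LocalLarge.centralizer_pCore_le_of_CT
        (Cfsg.Agent.Lib.LocalLarge.large_CT hL hQp hQL hL1'),
      Cfsg.Agent.Lib.LocalLarge.large_weakClosure_dichotomy hL hQp hQ1 hQL⟩
  refine ⟨h1, ?_, ?_⟩
  · intro R hR hR1
    exact Cfsg.Agent.Lib.LocalLarge.large_centralizer_le_of_parabolic hL hQp hR
      (Cfsg.Agent.Lib.LocalLarge.Oc_ne_bot_iff.mpr hR1)
  · intro R hRp hR1 hpar
    set N := Subgroup.normalizer (R : Set H) with hN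
    have hRN : R ≤ Cfsg.Agent.Lib.CharTwoLocal.Oc p N :=
      Cfsg.Agent.Lib.CharTwoLocal.le_Oc Subgroup.le_normalizer hRp
        (fun _ hh _ hx => (Subgroup.mem_normalizer_iff.mp hh _).mp hx)
    have hN1 : Cfsg.Agent.Lib.CharTwoLocal.Oc p N ≠ ⊥ := fun h => hR1 (by rw [eq_bot_iff, ← h]; exact hRN)
    obtain ⟨T, hT⟩ := hpar
    obtain ⟨g, hg⟩ := Cfsg.Agent.Lib.SylowConjLemmas.exists_conj_mem T Q hQp
    have hgN : Cfsg.Agent.Lib.LocalLarge.cj g Q ≤ N :=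
      (Cfsg.Agent.Lib.LocalLarge.cj_le_iff.mpr hg).trans hT
    exact Cfsg.Agent.Lib.LocalLarge.centralizer_pCore_le_of_CT
      (Cfsg.Agent.Lib.LocalLarge.large_CT (Cfsg.Agent.Lib.LocalLarge.large_cj hL g)
        (Cfsg.Agent.Lib.LocalLarge.isPGroup_cj hQp) hgN hN1)

end Cfsg.Agent.S2845
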