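import Mathlib
import Cfsg.Statements.S2846
import Cfsg.Agent.Lib.YTheory
-- import your own Cfsg.Agent.* helpers here

set_option autoImplicit false
open Cfsg

namespace Cfsg.Agent.S2846

/-- Let Q be a nontrivial large p-subgroup of the finite group H, S a Sylow p-subgroup containing Q, and L a subgroup containing S with O_p(L) ≠ 1 and C_H(O_p(L)) ≤ O_p(L). Then there are a subgroup M containing S having the basic property (M ∈ 𝔐_H, writing Y_X for the largest p-reduced normal subgroup of X and 𝓛_H for the set of subgroups X with O_p(X) ≠ 1 and C_H(O_p(X)) ≤ O_p(X): M ∈ 𝓛_H, M·C_H(Y_M) is the only maximal member of 𝓛_H containing M and its largest p-reduced normal subgroup is again Y_M, C_M(Y_M) is p-closed, and the image of C_M(Y_M) in M/O_p(M) lies in the Frattini subgroup of M/O_p(M)) and a subgroup L* with S ≤ L* ≤ M, O_p(L*) ≠ 1, C_H(O_p(L*)) ≤ O_p(L*), such that L·C_H(Y_L) = L*·C_H(Y_L), the weak closures of Q in L and in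 L* agree and lie in that of M, and Y_L = Y_{L*} ≤ Y_M. If moreover Q is not normal in L, then Q is normal in neither L* nor M. -/
theorem result {H : Type*} [Group H] [Finite H] {p : ℕ} [Fact p.Prime] (Q : Subgroup H) (hQp : IsPGroup p ↥Q) (hQ1 : Q ≠ ⊥) (hLg : Cfsg.IsLarge Q) (S : Sylow p H) (hQS : Q ≤ (S : Subgroup H)) (L : Subgroup H) (hSL : (S : Subgroup H) ≤ L) (hL : L ∈ Cfsg.charPSubgroups p H) : ∃ M Ls : Subgroup H, (S : Subgroup H) ≤ M ∧ Cfsg.IsInFrakM p M ∧ (S : Subgroup H) ≤ Ls ∧ Ls ≤ M ∧ Ls ∈ Cfsg.charPSubgroups p H ∧ L ⊔ Subgroup.centralizer (((Cfsg.largestPReducedOf p L) : Subgroup H) : Set H) = Ls ⊔ Subgroup.centralizer (((Cfsg.largestPReducedOf p L) : Subgroup H) : Set H) ∧ Cfsg.weakClosure Q L = Cfsg.weakClosure Q Ls ∧ Cfsg.weakClosure Q Ls ≤ Cfsg.weakClosure Q M ∧ (Cfsg.largestPReducedOf p L) = (Cfsg.largestPReducedOf p Ls) ∧ (Cfsg.largestPReducedOf p Ls) ≤ (Cfsg.largestPReducedOf p M) ∧ (¬ L ≤ Subgroup.normalizer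 ((Q : Subgroup H) : Set H) → ¬ Ls ≤ Subgroup.normalizer ((Q : Subgroup H) : Set H) ∧ ¬ M ≤ Subgroup.normalizer ((Q : Subgroup H) : Set H)) := by
  have hH := Cfsg.Agent.Lib.YTheory.large_parabolic hLg hQp
  have hL1 := (Cfsg.Agent.Lib.YTheory.mem_charP_iff.mp hL).1
  obtain ⟨M, Ls, h1, h2, h3, h4, h5, h6, h7, h8⟩ := Cfsg.Agent.Lib.YTheory.exists_M_Ls hH S hSL hL1
  have hY := Cfsg.Agent.Lib.YTheory.isPRed_largest (p := p) L
  have hY1 := Cfsg.Agent.Lib.YTheory.largest_ne_bot hH S hSL hL1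
  have hQL : Q ≤ L := hQS.trans hSL
  have hQLs : Q ≤ Ls := hQS.trans h3
  have hLsN : Ls ≤ Subgroup.normalizer ((Cfsg.largestPReducedOf p L : Subgroup H) : Set H) := by
    rw [h6]; exact (Cfsg.Agent.Lib.YTheory.isPRed_largest (p := p) Ls).norm
  have hw1 := Cfsg.Agent.Lib.LocalLarge.large_weakClosure_eq hLg hQp hQ1 hQL hY.isPGroup hY1 hY.norm
  have hw2 := Cfsg.Agent.Lib.LocalLarge.large_weakClosure_eq hLg hQp hQ1 hQLs hY.isPGroup hY1 hLsN
  have hCN := Cfsg.Agent.Lib.LocalLarge.large_centralizer_le_normalizer hLg hQp hY.isPGroup hY1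
    (hQL.trans hY.norm)
  refine ⟨M, Ls, h1, h2, h3, h4, h5, h8, ?_, Cfsg.Agent.Lib.LocalLarge.weakClosure_mono h4, h6, ?_, ?_⟩
  · rw [hw1, hw2, h8]
  · rw [← h6]; exact h7
  · intro hn
    have hLs : ¬ Ls ≤ Subgroup.normalizer ((Q : Subgroup H) : Set H) := by
      intro hLsQ
      apply hn
      have h9 : L ⊔ Subgroup.centralizer ((Cfsg.largestPReducedOf p L : Subgroup H) : Set H) ≤
          Subgroup.normalizer ((Q : Subgroup H) : Set H) := by
        rw [h8]
        exact sup_le hLsQ hCN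
      exact le_sup_left.trans h9
    exact ⟨hLs, fun hM => hLs (h4.trans hM)⟩

end Cfsg.Agent.S2846
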