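import Mathlib
import Cfsg.Statements.S2861
import Cfsg.Agent.Lib.NatMod58h
-- import your own Cfsg.Agent.* helpers here

set_option autoImplicit false
open Cfsg

namespace Cfsg.Agent.S2861

/-- Standing hypotheses: G a finite group, S a Sylow p-subgroup, Q a nontrivial large p-subgroup of G contained in S, M a subgroup containing S with the basic property (M ∈ 𝔐_G(S)); Y_M the largest p-reduced normal subgroup of M and M† = M·C_G(Y_M). Let L ∈ 𝔏_G(Y_M) (L ∈ 𝔏_G(Y_M): Y_M ≤ L; O_p(L) is the normal closure in L of Y_M ∩ O_p(L) and normalizes Y_M; L is Y_M-minimal of characteristic p with N_L(Y_M) its unique maximal subgroup over Y_M; and L/O_p(L) ≅ SL₂(q) with q = |Y_M : Y_M ∩ O_p(L)|, or p = 2 and L/O_p(L) is a Suzuki group Sz(q) or dihedral of order 2r, r an odd prime) and A = O_p(L). Then Y_M·A/A is the unique nontrivial elementary abelian normal p-subgroup of N_L(Y_M)/A. -/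
theorem result {G : Type*} [Group G] [Finite G] {p : ℕ} [Fact p.Prime] (S : Sylow p G) (Q : Subgroup G) (hQp : IsPGroup p ↥Q) (hQ1 : Q ≠ ⊥) (hQS : Q ≤ (S : Subgroup G)) (hQ : Cfsg.IsLarge Q) (M : Subgroup G) (hSM : (S : Subgroup G) ≤ M) (hM : Cfsg.IsInFrakM p M) (L : Subgroup G) (hL : Cfsg.IsInFrakL p M L) (NL : Subgroup G) (hNL : NL = L ⊓ Subgroup.normalizer (((Cfsg.largestPReducedOf p M) : Subgroup G) : Set G)) [hn : (((Cfsg.pCoreOf p L)).subgroupOf NL).Normal] : let Ybar : Subgroup (↥NL ⧸ ((Cfsg.pCoreOf p L)).subgroupOf NL) := (((Cfsg.largestPReducedOf p M)).subgroupOf NL).map (QuotientGroup.mk' (((Cfsg.pCoreOf p L)).subgroupOf NL)); Ybar ≠ ⊥ ∧ Ybar.Normal ∧ Cfsg.IsElementaryAbelian p Ybar ∧ ∀ (V : Subgroup (↥NL ⧸ ((Cfsg.pCoreOf p L)).subgroupOf NL)), V.Normal → Cfsg.IsElementaryAbelian p V → V ≠ ⊥ → V = Ybar := by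
  intro Ybar
  subst hNL
  have hYp := Cfsg.Agent.Lib.YTheory.isPRed_largest (p := p) M
  obtain ⟨Γ, iΓ, π, hπ, hker, hex, hK⟩ := Cfsg.Agent.Lib.NatMod58.exists_K hL
  have H := Cfsg.Agent.Lib.NatMod58.lhyp_of hL
  have hmap := Cfsg.Agent.Lib.NatMod58.map_normalizer_eq H π hπ hex
  set Y := Cfsg.largestPReducedOf p M with hYdef
  set NL := L ⊓ Subgroup.normalizer ((Y : Subgroup G) : Set G) with hNLdef
  have hYL : Y ≤ L := hL.1
  have hYN : Y ≤ NL := le_inf hYL Subgroup.le_normalizer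
  have hNLL : NL ≤ L := inf_le_left
  set U := (Cfsg.Agent.Lib.NatMod58.YL p M L).map π with hU
  set A₁ := (Cfsg.pCoreOf p L).subgroupOf NL with hA₁
  let φ : ↥NL →* Γ := π.comp (Subgroup.inclusion hNLL)
  have hφ : ∀ a ∈ A₁, φ a = 1 := by
    intro a ha
    change π (Subgroup.inclusion hNLL a) = 1
    rw [← MonoidHom.mem_ker, hker]
    rw [hA₁, Subgroup.mem_subgroupOf] at ha
    obtain ⟨z, hz, hza⟩ := ha
    have : z = Subgroup.inclusion hNLL a := Subtype.ext hza
    rwa [← this]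
  let ψ : (↥NL ⧸ A₁) →* Γ := QuotientGroup.lift A₁ φ hφ
  have hψmk : ∀ x : ↥NL, ψ (x : ↥NL ⧸ A₁) = φ x := fun x => rfl
  have hψ : Function.Injective ψ := by
    rw [injective_iff_map_eq_one]
    intro q hq
    obtain ⟨x, rfl⟩ := QuotientGroup.mk_surjective q
    rw [hψmk] at hq
    rw [QuotientGroup.eq_one_iff, hA₁, Subgroup.mem_subgroupOf]
    have h1 : Subgroup.inclusion hNLL x ∈ Cfsg.pCore p ↥L := by
      rw [← hker, MonoidHom.mem_ker]
      exact hq
    exact ⟨_, h1, rfl⟩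
  have hrange : ψ.range = Subgroup.normalizer ((U : Subgroup Γ) : Set Γ) := by
    rw [← hmap]
    ext k
    constructor
    · rintro ⟨q, rfl⟩
      obtain ⟨x, rfl⟩ := QuotientGroup.mk_surjective q
      rw [hψmk]
      exact ⟨Subgroup.inclusion hNLL x, Cfsg.Agent.Lib.NatMod58.mem_normalizer_YL x.2.2, rfl⟩
    · rintro ⟨x, hx, rfl⟩
      have h1 : (x : G) ∈ Subgroup.normalizer ((Y : Subgroup G) : Set G) := by
        apply Cfsg.Agent.Lib.NatMod58.mem_normalizer_of
        · intro y hy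
          have h2 := (Subgroup.mem_normalizer_iff.1 hx ⟨y, hYL hy⟩).1 hy
          exact h2
        · intro y hy
          have h2 := (Subgroup.mem_normalizer_iff.1 (Subgroup.inv_mem _ hx) ⟨y, hYL hy⟩).1 hy
          have e : ((x⁻¹ * ⟨y, hYL hy⟩ * x⁻¹⁻¹ : ↥L) : G) = (x : G)⁻¹ * y * x := by
            simp
          rw [Subgroup.mem_subgroupOf, e] at h2
          exact h2
      exact ⟨((⟨x, ⟨x.2, h1⟩⟩ : ↥NL) : ↥NL ⧸ A₁), rfl⟩
  have hYbar : Ybar.map ψ = U := by
    change ((Y.subgroupOf NL).map (QuotientGroup.mk' A₁)).map ψ = U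
    rw [Subgroup.map_map]
    ext k
    constructor
    · rintro ⟨x, hx, rfl⟩
      refine ⟨Subgroup.inclusion hNLL x, hx, rfl⟩
    · rintro ⟨x, hx, rfl⟩
      exact ⟨⟨x, hYN hx⟩, hx, rfl⟩
  refine ⟨?_, ?_, ?_, ?_⟩
  · intro hb
    rw [hb, Subgroup.map_bot] at hYbar
    obtain ⟨k, hk⟩ := hex
    apply hk
    rw [← hYbar]
    have h0 := Subgroup.normalizer_eq_top_iff.2 (inferInstance : (⊥ : Subgroup Γ).Normal)
    rw [h0]
    exact Subgroup.mem_top _
  · have h1 : (Y.subgroupOf NL).Normal := by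
      constructor
      intro n hn g
      rw [Subgroup.mem_subgroupOf] at hn ⊢
      exact (Subgroup.mem_normalizer_iff.1 g.2.2 n).1 hn
    exact h1.map _ (QuotientGroup.mk'_surjective _)
  · constructor
    · constructor
      constructor
      rintro ⟨_, x, hx, rfl⟩ ⟨_, y, hy, rfl⟩
      apply Subtype.ext
      change QuotientGroup.mk' A₁ x * QuotientGroup.mk' A₁ y = QuotientGroup.mk' A₁ y * QuotientGroup.mk' A₁ x
      rw [← map_mul, ← map_mul]
      congr 1
      apply Subtype.ext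
      exact hYp.comm _ hx _ hy
    · rintro _ ⟨x, hx, rfl⟩
      rw [← map_pow]
      have : x ^ p = 1 := Subtype.ext (by simpa using hYp.exp _ hx)
      rw [this, map_one]
  · intro V hVn hVe hV1
    apply Subgroup.map_injective hψ
    rw [hYbar]
    apply hK
    · rintro _ ⟨q, -, rfl⟩
      rw [← hrange]
      exact ⟨q, rfl⟩
    · intro k hk
      rw [← hrange] at hk
      obtain ⟨q, rfl⟩ := hk
      apply Cfsg.Agent.Lib.NatMod58.pi_norm ψ
      have h0 := Subgroup.normalizer_eq_top_iff.2 hVn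
      rw [h0]
      exact Subgroup.mem_top _
    · constructor
      · constructor
        constructor
        rintro ⟨_, x, hx, rfl⟩ ⟨_, y, hy, rfl⟩
        apply Subtype.ext
        change ψ x * ψ y = ψ y * ψ x
        rw [← map_mul, ← map_mul]
        congr 1
        have := hVe.1.is_comm.comm (⟨x, hx⟩ : ↥V) ⟨y, hy⟩
        exact congrArg Subtype.val this
      · rintro _ ⟨x, hx, rfl⟩
        rw [← map_pow, hVe.2 x hx, map_one]
    · intro hb
      rw [Subgroup.map_eq_bot_iff_of_injective _ hψ] at hb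
      exact hV1 hb

end Cfsg.Agent.S2861
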