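import Mathlib
import Cfsg.Statements.S2864
import Cfsg.Agent.Lib.YTheory5
import Cfsg.Agent.Lib.Glauberman
import Cfsg.Agent.Lib.Frat
-- import your own Cfsg.Agent.* helpers here

set_option autoImplicit false
open Cfsg

namespace Cfsg.Agent.S2864

open Cfsg.Agent.Lib.LocalLarge Cfsg.Agent.Lib.CharTwoLocal Cfsg.Agent.Lib.YTheory Cfsg.Agent.Lib.YTheory2 Cfsg.Agent.Lib.YTheory4 Cfsg.Agent.Lib.YTheory5
open scoped commutatorElement

theorem pow_mem_centralizer_of_modStab {G : Type*} [Group G] [Finite G] {p : ℕ} [hp : Fact p.Prime]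
    {A : Subgroup G} (hA : IsPGroup p A) {d : G}
    (hd : d ∈ modStab A ⁅A, A⁆) : ∃ k : ℕ, d ^ p ^ k ∈ Subgroup.centralizer (A : Set G) := by
  classical
  obtain ⟨k, m, hm, hk⟩ := Nat.exists_eq_pow_mul_and_not_dvd (n := orderOf d) (orderOf_pos d).ne' p
    hp.out.ne_one
  refine ⟨k, ?_⟩
  set y := d ^ p ^ k with hy
  have hyS : y ∈ modStab A ⁅A, A⁆ := Subgroup.pow_mem _ hd _
  have hym : y ^ m = 1 := by
    rw [hy, ← pow_mul, ← hk, pow_orderOf_eq_one]
  have hco : (orderOf y).Coprime p := by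
    have h1 : orderOf y ∣ m := orderOf_dvd_of_pow_eq_one hym
    refine Nat.Coprime.coprime_dvd_left h1 ?_
    exact ((Nat.Prime.coprime_iff_not_dvd hp.out).mpr hm).symm
  have hfr : ⁅A, A⁆ ≤ (frattini A).map A.subtype := by
    have h1 := Cfsg.Agent.Lib.Frat.commutator_le_frattini (G := A) hA
    have h2 := Subgroup.map_mono (f := A.subtype) h1
    refine le_trans ?_ h2
    rw [commutator_def, Subgroup.map_commutator, ← MonoidHom.range_eq_map, Subgroup.range_subtype]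
  have hfrp : IsPGroup p (frattini A) := hA.to_subgroup (frattini A)
  have hzS : Subgroup.zpowers y ≤ modStab A ⁅A, A⁆ := by
    rw [Subgroup.zpowers_le]
    exact hyS
  have hcop : (Nat.card (Subgroup.zpowers y)).Coprime (Nat.card (frattini A)) := by
    obtain ⟨n, hn⟩ := IsPGroup.iff_card.mp hfrp
    rw [hn, Nat.card_zpowers]
    exact Nat.Coprime.pow_right n hco
  have hle := Cfsg.Agent.Lib.Glauberman.le_centralizer_of_frattini
    (A := Subgroup.zpowers y) (K := A) (fun a ha => (hzS ha).1) hcop (fun a ha k hk => by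
      have h1 := (hzS ha).2.2 k hk
      rw [commutatorElement_def] at h1
      exact hfr h1)
  exact hle (Subgroup.mem_zpowers y)

/-- Standing hypotheses: G a finite group, S a Sylow p-subgroup, Q a nontrivial large p-subgroup of G contained in S, M a subgroup containing S with the basic property (M ∈ 𝔐_G(S)); Y_M the largest p-reduced normal subgroup of M and M† = M·C_G(Y_M). Let I be a nontrivial normal p-subgroup of M and Y ≤ O_p(M†); let L be a subgroup of G containing Y and A a normal p-subgroup of L with I ≤ A ≤ M. If [Y, A] ≤ [I, A], then Y ≤ O_p(L). -/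
theorem result {G : Type*} [Group G] [Finite G] {p : ℕ} [Fact p.Prime] (S : Sylow p G) (Q : Subgroup G) (hQp : IsPGroup p ↥Q) (hQ1 : Q ≠ ⊥) (hQS : Q ≤ (S : Subgroup G)) (hQ : Cfsg.IsLarge Q) (M : Subgroup G) (hSM : (S : Subgroup G) ≤ M) (hM : Cfsg.IsInFrakM p M) (I : Subgroup G) (hI1 : I ≠ ⊥) (hIp : IsPGroup p ↥I) (hIM : I ≤ M ∧ M ≤ Subgroup.normalizer ((I : Subgroup G) : Set G)) (Y : Subgroup G) (hY : Y ≤ (Cfsg.pCoreOf p (M ⊔ Subgroup.centralizer (((Cfsg.largestPReducedOf p M) : Subgroup G) : Set G)))) (L : Subgroup G) (hYL : Y ≤ L) (A : Subgroup G) (hAp : IsPGroup p ↥A) (hAL : A ≤ L ∧ L ≤ Subgroup.normalizer ((A : Subgroup G) : Set G)) (hIA : I ≤ A) (hAM : A ≤ M) (hc : ⁅Y, A⁆ ≤ ⁅I, A⁆) : Y ≤ (Cfsg.pCoreOf p L) := by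
  have h : Cfsg.Agent.Lib.YTheory2.FD p S M :=
    ⟨Cfsg.Agent.Lib.YTheory.large_parabolic hQ hQp, hSM, hM⟩
  have hYp : IsPGroup p Y := (isPGroup_Oc p (MD p M)).to_le hY
  have hIN : Subgroup.normalizer ((I : Subgroup G) : Set G) ≤ MD p M := by
    refine h.le_MD hIM.2 ?_
    have hO : I ≤ Oc p (Subgroup.normalizer ((I : Subgroup G) : Set G)) :=
      Oc_of_normal_le (h.hSM.trans hIM.2) Subgroup.le_normalizer hIp le_rfl
    exact fun h1 => hI1 (by rw [eq_bot_iff, ← h1]; exact hO)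
  have hCA : Subgroup.centralizer ((A : Subgroup G) : Set G) ≤ MD p M :=
    (Subgroup.centralizer_le hIA).trans ((Subgroup.centralizer_le_normalizer _).trans hIN)
  have hLA := hAL.2
  set A' := ⁅A, A⁆ with hA'
  -- normalizers
  have hNA' : Subgroup.normalizer ((A : Subgroup G) : Set G) ≤ Subgroup.normalizer ((A' : Subgroup G) : Set G) := by
    intro x hx
    apply cj_eq_iff.mp
    have h1 : Subgroup.map (MulAut.conj x).toMonoidHom A = A := cj_eq_iff.mpr hx
    show Subgroup.map (MulAut.conj x).toMonoidHom ⁅A, A⁆ = ⁅A, A⁆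
    rw [Subgroup.map_commutator, h1]
  have hYD : Y ≤ modStab A A' := by
    intro y hy
    refine ⟨hLA (hYL hy), hNA' (hLA (hYL hy)), ?_⟩
    intro a ha
    have h1 : ⁅y, a⁆ ∈ ⁅Y, A⁆ := Subgroup.commutator_mem_commutator hy ha
    exact (Subgroup.commutator_mono hIA le_rfl) (hc h1)
  have hLD : Subgroup.normalizer ((A : Subgroup G) : Set G) ≤ Subgroup.normalizer ((modStab A A' : Subgroup G) : Set G) := by
    intro l hl
    apply cj_le_self_iff.mp
    rintro _ ⟨x, hx, rfl⟩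
    show l * x * l⁻¹ ∈ modStab A A'
    refine ⟨Subgroup.mul_mem _ (Subgroup.mul_mem _ hl hx.1) (Subgroup.inv_mem _ hl),
      Subgroup.mul_mem _ (Subgroup.mul_mem _ (hNA' hl) hx.2.1) (Subgroup.inv_mem _ (hNA' hl)), ?_⟩
    intro a ha
    have ha' : l⁻¹ * a * l ∈ A := by
      have := (Subgroup.mem_normalizer_iff.mp (Subgroup.inv_mem _ hl) a).mp ha
      simpa using this
    have h2 := hx.2.2 _ ha'
    have h3 : ⁅l * x * l⁻¹, a⁆ = l * ⁅x, l⁻¹ * a * l⁆ * l⁻¹ := by
      simp only [commutatorElement_def]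
      group
    rw [h3]
    exact (Subgroup.mem_normalizer_iff.mp (hNA' hl) _).mp h2
  -- `C₃`
  set C₃ := L ⊓ Subgroup.centralizer ((A : Subgroup G) : Set G) with hC₃
  have hC₃M : C₃ ≤ MD p M := inf_le_right.trans hCA
  have hLC₃ : L ≤ Subgroup.normalizer ((C₃ : Subgroup G) : Set G) := by
    intro l hl
    apply cj_eq_iff.mp
    rw [hC₃, cj_inf, cj_eq_self hl, cj_eq_iff.mpr ((hLA.trans (normalizer_le_normalizer_centralizer A)) hl)]
  set B := Oc p C₃ with hB
  have hBp : IsPGroup p B := isPGroup_Oc p C₃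
  have hBC₃ : B ≤ C₃ := Cfsg.Agent.Lib.CharTwoLocal.Oc_le p C₃
  have hLB : L ≤ Subgroup.normalizer ((B : Subgroup G) : Set G) :=
    hLC₃.trans (normalizer_le_normalizer_Oc C₃)
  have hcY : ∀ y ∈ Y, ∀ c ∈ C₃, ⁅y, c⁆ ∈ B := by
    intro y hy c hc
    apply Oc_inf_le hC₃M
    rw [commutatorElement_def]
    constructor
    · have h1 : y * c * y⁻¹ * c⁻¹ = y * (c * y⁻¹ * c⁻¹) := by group
      rw [h1]
      exact Subgroup.mul_mem _ (hY hy) (conj_mem_Oc (hC₃M hc) (Subgroup.inv_mem _ (hY hy)))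
    · exact C₃.mul_mem ((Subgroup.mem_normalizer_iff.mp (hLC₃ (hYL hy)) c).mp hc) (C₃.inv_mem hc)
  -- `E`
  set E := Cfsg.Agent.Lib.YTheory.conjClosure L Y with hE
  have hEL : E ≤ L := conjClosure_le fun l hl => by
    have := cj_mono (g := l) hYL
    rwa [cj_eq_self hl] at this
  have hLE : L ≤ Subgroup.normalizer ((E : Subgroup G) : Set G) := le_normalizer_conjClosure L Y
  have hES : E ≤ modStab C₃ B := by
    refine conjClosure_le fun l hl => ?_
    rintro _ ⟨y, hy, rfl⟩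
    show l * y * l⁻¹ ∈ modStab C₃ B
    have hmem : l * y * l⁻¹ ∈ L := L.mul_mem (L.mul_mem hl (hYL hy)) (L.inv_mem hl)
    refine ⟨hLC₃ hmem, hLB hmem, ?_⟩
    intro c hc
    have hc' : l⁻¹ * c * l ∈ C₃ := by
      have := (Subgroup.mem_normalizer_iff.mp (hLC₃ (L.inv_mem hl)) c).mp hc
      simpa using this
    have h3 : ⁅l * y * l⁻¹, c⁆ = l * ⁅y, l⁻¹ * c * l⁆ * l⁻¹ := by
      simp only [commutatorElement_def]
      group
    rw [h3]
    exact (Subgroup.mem_normalizer_iff.mp (hLB hl) _).mp (hcY y hy _ hc')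
  have hED : E ≤ modStab A A' := by
    refine conjClosure_le fun l hl => ?_
    have h1 := cj_mono (g := l) hYD
    rwa [cj_eq_iff.mpr (hLD (hLA hl))] at h1
  have hC₃D : C₃ ≤ modStab A A' := by
    intro c hc
    have hcc : c ∈ Subgroup.centralizer ((A : Subgroup G) : Set G) := hc.2
    refine ⟨hLA hc.1, hNA' (hLA hc.1), ?_⟩
    intro a ha
    have h1 : c * a = a * c := (Subgroup.mem_centralizer_iff.mp hcc a ha).symm
    have h2 : ⁅c, a⁆ = 1 := by
      rw [commutatorElement_def, h1]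
      group
    rw [h2]
    exact Subgroup.one_mem _
  -- `E₁`
  set E₁ := E ⊔ B with hE₁
  have hE₁L : E₁ ≤ L := sup_le hEL (hBC₃.trans inf_le_left)
  have hE₁D : E₁ ≤ modStab A A' := sup_le hED (hBC₃.trans hC₃D)
  have hBE₁ : B ≤ E₁ := le_sup_right
  obtain ⟨T, hT⟩ := Cfsg.Agent.Lib.CoprimeInv.exists_isSylowIn p E₁
  have hBT : B ≤ T := by
    have h1 : B ≤ Oc p E₁ := le_Oc hBE₁ hBp
      (fun l hl a ha => (Subgroup.mem_normalizer_iff.mp (hLB (hE₁L hl)) a).mp ha)
    exact h1.trans (Oc_le_of_isSylowIn hT)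
  set C₀ := E₁ ⊓ C₃ with hC₀
  have hE₁C₀ : E₁ ≤ Subgroup.normalizer ((C₀ : Subgroup G) : Set G) := by
    intro x hx
    apply cj_eq_iff.mp
    rw [hC₀, cj_inf, cj_eq_self hx, cj_eq_iff.mpr (hLC₃ (hE₁L hx))]
  have hpw : ∀ d ∈ E₁, ∃ k : ℕ, d ^ p ^ k ∈ C₀ := by
    intro d hd
    obtain ⟨k, hk⟩ := pow_mem_centralizer_of_modStab hAp (hE₁D hd)
    exact ⟨k, E₁.pow_mem hd _, L.pow_mem (hE₁L hd) _, hk⟩
  have hdec := exists_sylow_mul hT inf_le_left hE₁C₀ le_rfl Subgroup.le_normalizer hpw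
  have hC₀T : C₀ ≤ Subgroup.normalizer ((T : Subgroup G) : Set G) := by
    intro c hc
    apply cj_le_self_iff.mp
    rintro _ ⟨t, ht, rfl⟩
    show c * t * c⁻¹ ∈ T
    have ht1 : t ∈ E₁ := hT.1 ht
    obtain ⟨e, he, b, hb, rfl⟩ := exists_mul_of_mem_sup (hEL.trans hLB) ht1
    have hcom : ⁅c, e * b⁆ ∈ B := by
      have h1 : ⁅c, e * b⁆ = ⁅c, e⁆ * (e * ⁅c, b⁆ * e⁻¹) := by
        simp only [commutatorElement_def]
        group
      rw [h1]
      refine B.mul_mem ?_ ?_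
      · have h2 := (hES he).2.2 c hc.2
        have h3 : ⁅c, e⁆ = ⁅e, c⁆⁻¹ := by
          simp only [commutatorElement_def]
          group
        rw [h3]
        exact B.inv_mem h2
      · refine (Subgroup.mem_normalizer_iff.mp (hLB (hEL he)) _).mp ?_
        rw [commutatorElement_def]
        exact B.mul_mem ((Subgroup.mem_normalizer_iff.mp (hLB hc.2.1) b).mp hb) (B.inv_mem hb)
    have h1 : c * (e * b) * c⁻¹ = ⁅c, e * b⁆ * (e * b) := by
      rw [commutatorElement_def]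
      group
    rw [h1]
    exact T.mul_mem (hBT hcom) ht
  have hE₁T : E₁ ≤ Subgroup.normalizer ((T : Subgroup G) : Set G) := by
    intro d hd
    obtain ⟨t, ht, c, hc, rfl⟩ := hdec d hd
    exact Subgroup.mul_mem _ (Subgroup.le_normalizer ht) (hC₀T hc)
  have hET : E ≤ T := by
    refine conjClosure_le fun l hl => ?_
    have hY₁ : cj l Y ≤ E₁ := (cj_le_conjClosure hl).trans le_sup_left
    obtain ⟨T', hT', hYT'⟩ := Cfsg.Agent.Lib.CoprimeInv.exists_isSylowIn_ge p hY₁ (isPGroup_cj hYp)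
    obtain ⟨x, hx, hxT⟩ := hT.exists_conj hT'
    have h1 : T' = T := by
      rw [hxT]
      exact cj_eq_iff.mpr (hE₁T hx)
    rw [← h1]
    exact hYT'
  have hEO : E ≤ Oc p L := le_Oc hEL (hT.2.1.to_le hET)
    (fun l hl a ha => (Subgroup.mem_normalizer_iff.mp (hLE hl) a).mp ha)
  exact (le_conjClosure L Y).trans hEO

end Cfsg.Agent.S2864
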