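import Mathlib
import Cfsg.Statements.S2872
import Cfsg.Agent.Lib.ThompsonTransfer
import Cfsg.Agent.Lib.PResid
import Cfsg.Agent.Lib.Frat
-- import your own Cfsg.Agent.* helpers here

set_option autoImplicit false
open Cfsg

namespace Cfsg.Agent.S2872

open Cfsg.Agent.Lib in
private theorem key {G : Type*} [Group G] [Finite G] (S : Sylow 2 G) (M : Subgroup G)
    (hMS : M ≤ (S : Subgroup G)) (hM : M.relIndex (S : Subgroup G) = 2)
    (hG : ∀ H : Subgroup G, H.index ≠ 2) (z : G) (hzS : z ∈ (S : Subgroup G))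
    (hzc : z ∈ Subgroup.centralizer ((S : Subgroup G) : Set G)) (hz2 : z ^ 2 = 1)
    (hzM : z ∉ M)
    (hN : ∀ g ∈ Subgroup.normalizer ((S : Subgroup G) : Set G), g * z * g⁻¹ = z) : False := by
  classical
  set Sg : Subgroup G := (S : Subgroup G) with hSg
  -- normality of M in S
  have hMn : ∀ y ∈ Sg, ∀ t ∈ Sg, t⁻¹ * y * t ∈ M ↔ y ∈ M := by
    intro y hy t ht
    have hi : (M.subgroupOf Sg).index = 2 := hM
    have hnor : (M.subgroupOf Sg).Normal := Subgroup.normal_of_index_eq_two hi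
    constructor
    · intro h
      have h1 : (⟨t⁻¹ * y * t, by exact Sg.mul_mem (Sg.mul_mem (Sg.inv_mem ht) hy) ht⟩ : ↥Sg) ∈ M.subgroupOf Sg := by
        simpa [Subgroup.mem_subgroupOf] using h
      have h2 := hnor.conj_mem _ h1 (⟨t, ht⟩ : ↥Sg)
      have h3 : (t * (t⁻¹ * y * t) * t⁻¹ : G) ∈ M := by simpa [Subgroup.mem_subgroupOf] using h2
      have h4 : t * (t⁻¹ * y * t) * t⁻¹ = y := by group
      rwa [h4] at h3
    · intro h
      have h1 : (⟨y, hy⟩ : ↥Sg) ∈ M.subgroupOf Sg := by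
        simpa [Subgroup.mem_subgroupOf] using h
      have h2 := hnor.conj_mem _ h1 (⟨t⁻¹, Sg.inv_mem ht⟩ : ↥Sg)
      have h3 : (t⁻¹ * y * t⁻¹⁻¹ : G) ∈ M := by simpa [Subgroup.mem_subgroupOf] using h2
      simpa using h3
  have hcomm : ∀ s ∈ Sg, s * z = z * s := fun s hs => (Subgroup.mem_centralizer_iff.mp hzc s hs)
  -- the predicate on cosets
  let P : G ⧸ Sg → Prop := fun x => z • x = x ∧ x.out⁻¹ * z * x.out ∉ M
  have hrep : ∀ (g : G), z • (g : G ⧸ Sg) = (g : G ⧸ Sg) →
      (g⁻¹ * z * g ∈ Sg ∧ ((g : G ⧸ Sg).out⁻¹ * z * (g : G ⧸ Sg).out ∈ M ↔ g⁻¹ * z * g ∈ M)) := by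
    intro g hg
    have hg' : ((z * g : G) : G ⧸ Sg) = (g : G ⧸ Sg) := hg
    have hmem : g⁻¹ * z * g ∈ Sg := by
      have := QuotientGroup.eq.mp hg'
      simpa [mul_assoc] using Sg.inv_mem this
    refine ⟨hmem, ?_⟩
    obtain ⟨t, ht⟩ := QuotientGroup.mk_out_eq_mul Sg g
    rw [ht]
    have h5 : ((g * (t : G))⁻¹ * z * (g * (t : G))) = (t : G)⁻¹ * (g⁻¹ * z * g) * t := by group
    rw [h5]
    exact hMn _ hmem _ t.2
  -- S-invariance of P
  have hPinv : ∀ (s : ↥Sg) (x : G ⧸ Sg), P x → P (s • x) := by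
    intro s x hx
    obtain ⟨g, rfl⟩ := QuotientGroup.mk_surjective x
    have h1 : z • ((s : G) • (g : G ⧸ Sg)) = (s : G) • (g : G ⧸ Sg) := by
      rw [smul_smul, ← hcomm _ s.2, mul_smul, hx.1]
    have h0 : s • (g : G ⧸ Sg) = (((s : G) * g : G) : G ⧸ Sg) := rfl
    rw [show P (s • (g : G ⧸ Sg)) = (z • (s • (g : G ⧸ Sg)) = (s • (g : G ⧸ Sg)) ∧ _) from rfl]
    refine ⟨h1, ?_⟩
    rw [h0]
    have h2 := hrep ((s : G) * g) h1
    intro hin
    apply hx.2
    rw [(hrep g hx.1).2]
    rw [h2.2] at hin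
    have : ((s : G) * g)⁻¹ * z * ((s : G) * g) = g⁻¹ * z * g := by
      have : (s : G)⁻¹ * z * s = z := by
        rw [mul_assoc, ← hcomm _ s.2]; group
      calc ((s : G) * g)⁻¹ * z * ((s : G) * g) = g⁻¹ * ((s : G)⁻¹ * z * s) * g := by group
        _ = _ := by rw [this]
    rwa [this] at hin
  -- the complement W' has even size
  let W' : SubMulAction ↥Sg (G ⧸ Sg) :=
    { carrier := {x | ¬ P x}
      smul_mem' := by
        intro s x hx hPs
        apply hx
        have := hPinv s⁻¹ _ hPs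
        simpa using this }
  have hpS : IsPGroup 2 ↥Sg := S.isPGroup'
  haveI : Fact (Nat.Prime 2) := ⟨Nat.prime_two⟩
  have hW' : 2 ∣ Nat.card W' := by
    by_contra hodd
    obtain ⟨x, hx⟩ := hpS.nonempty_fixed_point_of_prime_not_dvd_card W' hodd
    rcases x with ⟨x, hxW⟩
    apply hxW
    obtain ⟨g, rfl⟩ := QuotientGroup.mk_surjective x
    -- g normalizes S
    have hgS : ∀ s ∈ Sg, g⁻¹ * s * g ∈ Sg := by
      intro s hs
      have := hx ⟨s, hs⟩
      have h2 : (s : G) • (g : G ⧸ Sg) = (g : G ⧸ Sg) := by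
        have := congrArg Subtype.val this
        exact this
      have h3 : ((s * g : G) : G ⧸ Sg) = (g : G ⧸ Sg) := h2
      have := QuotientGroup.eq.mp h3
      simpa [mul_assoc] using Sg.inv_mem this
    have hgN : g⁻¹ ∈ Subgroup.normalizer (Sg : Set G) := by
      rw [Subgroup.mem_normalizer_iff]
      have hle : Sg.map (MulAut.conj g⁻¹).toMonoidHom ≤ Sg := by
        rintro _ ⟨s, hs, rfl⟩
        have := hgS s hs
        simpa using this
      have hcard : Nat.card (Sg.map (MulAut.conj g⁻¹).toMonoidHom) = Nat.card Sg :=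
        Nat.card_congr (Subgroup.equivMapOfInjective _ _ (MulAut.conj g⁻¹).injective).symm.toEquiv
      have heq : Sg.map (MulAut.conj g⁻¹).toMonoidHom = Sg :=
        Subgroup.eq_of_le_of_card_ge hle hcard.ge
      intro h
      constructor
      · intro hh
        have := hgS h hh
        simpa using this
      · intro hh
        have h6 : g⁻¹ * h * g⁻¹⁻¹ ∈ Sg.map (MulAut.conj g⁻¹).toMonoidHom := by rw [heq]; exact hh
        obtain ⟨s, hs, hs2⟩ := h6
        have h7 : g⁻¹ * s * g⁻¹⁻¹ = g⁻¹ * h * g⁻¹⁻¹ := by simpa using hs2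
        have h8 : s = h := by simpa using h7
        rwa [← h8]
    have hgz := hN _ hgN
    have hgz' : g⁻¹ * z * g = z := by simpa using hgz
    have hfix : z • (g : G ⧸ Sg) = (g : G ⧸ Sg) := by
      show ((z * g : G) : G ⧸ Sg) = (g : G ⧸ Sg)
      rw [QuotientGroup.eq]
      have : (z * g)⁻¹ * g = (g⁻¹ * z * g)⁻¹ := by group
      rw [this, hgz']; exact Sg.inv_mem hzS
    refine ⟨hfix, ?_⟩
    intro hin
    rw [(hrep g hfix).2, hgz'] at hin
    exact hzM hin
  letI : Fintype (G ⧸ Sg) := Fintype.ofFinite _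
  letI : Fintype (Quotient (MulAction.orbitRel (Subgroup.zpowers z) (G ⧸ Sg))) := Fintype.ofFinite _
  have h1 := ThompsonTransfer.even_card_not_mem hG Sg M hMS hM z
  have hout : ∀ x : G ⧸ Sg, z • x = x →
      (Quotient.mk (MulAction.orbitRel (Subgroup.zpowers z) (G ⧸ Sg)) x).out = x := by
    intro x hx
    have h2 := @Quotient.mk_out _ (MulAction.orbitRel (Subgroup.zpowers z) (G ⧸ Sg)) x
    obtain ⟨⟨k, hk⟩, hk2⟩ := h2
    obtain ⟨n, rfl⟩ := Subgroup.mem_zpowers_iff.mp hk
    rw [← hk2]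
    have hst : z ∈ MulAction.stabilizer G x := hx
    have : z ^ n ∈ MulAction.stabilizer G x := Subgroup.zpow_mem _ hst n
    exact this
  have hc : (Finset.univ.filter fun q : Quotient (MulAction.orbitRel (Subgroup.zpowers z) (G ⧸ Sg)) =>
      q.out.out⁻¹ * z ^ Function.minimalPeriod (z • ·) q.out * q.out.out ∉ M).card =
      (Finset.univ.filter P).card := by
    apply Finset.card_bij (fun q _ => q.out)
    · intro q hq
      simp only [Finset.mem_filter, Finset.mem_univ, true_and] at hq ⊢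
      have hper : Function.IsPeriodicPt (z • ·) 2 q.out := by
        rw [Function.IsPeriodicPt, Function.IsFixedPt, smul_iterate, hz2]
        simp
      have hdvd := hper.minimalPeriod_dvd
      have hcases : Function.minimalPeriod (z • ·) q.out = 1 ∨ Function.minimalPeriod (z • ·) q.out = 2 :=
        (Nat.dvd_prime Nat.prime_two).mp hdvd
      rcases hcases with h | h
      · rw [h, pow_one] at hq
        refine ⟨?_, hq⟩
        exact Function.minimalPeriod_eq_one_iff_isFixedPt.mp h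
      · rw [h, hz2] at hq
        exact absurd (by simp [M.one_mem]) hq
    · intro a _ b _ h
      exact Quotient.out_inj.mp h
    · intro x hx
      simp only [Finset.mem_filter, Finset.mem_univ, true_and] at hx
      refine ⟨Quotient.mk _ x, ?_, hout x hx.1⟩
      simp only [Finset.mem_filter, Finset.mem_univ, true_and]
      rw [hout x hx.1]
      have : Function.minimalPeriod (z • ·) x = 1 := Function.minimalPeriod_eq_one_iff_isFixedPt.mpr hx.1
      rw [this, pow_one]
      exact hx.2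
  rw [hc] at h1
  have hcardW' : Nat.card W' = (Finset.univ.filter fun x => ¬ P x).card :=
    Nat.subtype_card _ (fun x => by simp only [Finset.mem_filter, Finset.mem_univ, true_and]; rfl)
  have hsum := Finset.card_filter_add_card_filter_not (s := (Finset.univ : Finset (G ⧸ Sg))) P
  have hodd : ¬ 2 ∣ Nat.card (G ⧸ Sg) := S.not_dvd_index
  rw [Nat.card_eq_fintype_card, ← Finset.card_univ] at hodd
  rw [hcardW'] at hW'
  obtain ⟨a, ha⟩ := h1
  omega

/-- Let S be a Sylow 2-subgroup of the finite group G. Then G has a proper normal subgroup of 2-power index (O²(G) ≠ G), or Ω₁(Z(S)) is contained in the Frattini subgroup of S, or N_G(S) acts nontrivially on Ω₁(Z(S)) by conjugation. -/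
theorem result {G : Type*} [Group G] [Finite G] (S : Sylow 2 G) : Cfsg.pResidual 2 G ≠ ⊤ ∨ Cfsg.omegaOne 2 ((S : Subgroup G) ⊓ Subgroup.centralizer ((S : Subgroup G) : Set G)) ≤ (frattini ↥(S : Subgroup G)).map (S : Subgroup G).subtype ∨ ∃ g ∈ Subgroup.normalizer ((S : Subgroup G) : Set G), ∃ z ∈ Cfsg.omegaOne 2 ((S : Subgroup G) ⊓ Subgroup.centralizer ((S : Subgroup G) : Set G)), g * z * g⁻¹ ≠ z := by
  by_contra hcon
  push Not at hcon
  obtain ⟨h1, h2, h3⟩ := hcon
  haveI : Fact (Nat.Prime 2) := ⟨Nat.prime_two⟩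
  have hG : ∀ H : Subgroup G, H.index ≠ 2 := by
    intro H hH
    have hnor : H.Normal := Subgroup.normal_of_index_eq_two hH
    have hle : Cfsg.pResidual 2 G ≤ H := by
      apply Cfsg.Agent.Lib.PResid.pResidual_le_of_pow_mem
      intro x
      refine ⟨1, ?_⟩
      have : (x ^ 2 : G) ∈ H := hH ▸ H.pow_index_mem x
      simpa using this
    rw [h1] at hle
    have : H = ⊤ := top_le_iff.mp hle
    rw [this, Subgroup.index_top] at hH
    omega
  unfold Cfsg.omegaOne at h2 h3
  rw [Subgroup.closure_le] at h2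
  obtain ⟨z, hz, hzn⟩ := Set.not_subset.mp h2
  obtain ⟨⟨hzS, hzc⟩, hz2⟩ := hz
  have hzn' : (⟨z, hzS⟩ : ↥(S : Subgroup G)) ∉ frattini ↥(S : Subgroup G) := by
    intro hin
    exact hzn ⟨_, hin, rfl⟩
  have : ∃ T : Subgroup ↥(S : Subgroup G), IsCoatom T ∧ (⟨z, hzS⟩ : ↥(S : Subgroup G)) ∉ T := by
    by_contra hno
    push Not at hno
    apply hzn'
    simp only [frattini, Order.radical, Subgroup.mem_iInf]
    exact fun T hT => hno T hT
  obtain ⟨T, hT, hzT⟩ := this
  have hTi : T.index = 2 := Cfsg.Agent.Lib.Frat.index_eq_of_isCoatom S.isPGroup' hT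
  refine key S (T.map (S : Subgroup G).subtype) (Subgroup.map_subtype_le T) ?_ hG z hzS hzc hz2 ?_ ?_
  · show (Subgroup.comap _ (T.map _)).index = 2
    rw [Subgroup.comap_map_eq_self_of_injective (Subgroup.subtype_injective _)]; exact hTi
  · rintro ⟨t, ht, hteq⟩
    have : t = ⟨z, hzS⟩ := Subtype.ext hteq
    rw [this] at ht
    exact hzT ht
  · intro g hg
    exact h3 g hg z (Subgroup.subset_closure ⟨⟨hzS, hzc⟩, hz2⟩)

end Cfsg.Agent.S2872
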