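import Mathlib
import Cfsg.Statements.S2873
import Cfsg.Agent.Lib.PCore
import Cfsg.Agent.Lib.LocalLarge
-- import your own Cfsg.Agent.* helpers here

set_option autoImplicit false
open Cfsg

namespace Cfsg.Agent.S2873

theorem two_ne {r : ℕ} [Fact r.Prime] (hr : r ≠ 2) : (2 : ZMod r) ≠ 0 := by
  intro h
  have h2 : ((2 : ℕ) : ZMod r) = 0 := by exact_mod_cast h
  rw [ZMod.natCast_eq_zero_iff] at h2
  exact hr ((Nat.prime_dvd_prime_iff_eq Fact.out Nat.prime_two).mp h2)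

theorem invol_sr {r : ℕ} [Fact r.Prime] (hr : r ≠ 2) (x : DihedralGroup r) (hx : x ^ 2 = 1)
    (hne : x ≠ 1) : ∃ i, x = DihedralGroup.sr i := by
  cases x with
  | r i =>
    exfalso
    apply hne
    rw [DihedralGroup.r_pow] at hx
    have h1 : i * ((2 : ℕ) : ZMod r) = 0 := DihedralGroup.r.inj hx
    have h2 : i = 0 := by
      have h3 : i * (2 : ZMod r) = 0 := by exact_mod_cast h1
      exact (mul_eq_zero.mp h3).resolve_right (two_ne hr)
    rw [h2]; rfl
  | sr i => exact ⟨i, rfl⟩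

theorem rot_of_pow {r : ℕ} [Fact r.Prime] (hr : r ≠ 2) (y : DihedralGroup r) (hy : y ^ r = 1) :
    ∃ j, y = DihedralGroup.r j := by
  cases y with
  | r j => exact ⟨j, rfl⟩
  | sr i =>
    exfalso
    have h1 := orderOf_dvd_of_pow_eq_one hy
    rw [DihedralGroup.orderOf_sr] at h1
    exact hr ((Nat.prime_dvd_prime_iff_eq Nat.prime_two Fact.out).mp h1).symm

theorem conj_sr {r : ℕ} [Fact r.Prime] (hr : r ≠ 2) (i j : ZMod r) :
    ∃ k : ZMod r, DihedralGroup.r k * DihedralGroup.sr i * (DihedralGroup.r k)⁻¹ = DihedralGroup.sr j := by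
  refine ⟨(i - j) * (2 : ZMod r)⁻¹, ?_⟩
  rw [DihedralGroup.inv_r, DihedralGroup.r_mul_sr, DihedralGroup.sr_mul_r]
  congr 1
  have h2 := two_ne hr
  field_simp
  ring

theorem inv_sr_r {r : ℕ} (i j : ZMod r) :
    DihedralGroup.sr i * DihedralGroup.r j * (DihedralGroup.sr i)⁻¹ = (DihedralGroup.r j)⁻¹ := by
  rw [DihedralGroup.inv_sr, DihedralGroup.inv_r, DihedralGroup.sr_mul_r, DihedralGroup.sr_mul_sr]
  congr 1
  ring

theorem main {G : Type*} [Group G] [Finite G] {r : ℕ} [Fact r.Prime] (hr : r ≠ 2) (V : Subgroup G)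
    [hVn : V.Normal] (hVp : IsPGroup 2 V)
    (φ : G →* DihedralGroup r) (hφ : Function.Surjective φ) (hker : φ.ker = V) (R : Sylow r G)
    (hC : V ⊓ Subgroup.centralizer ((R : Subgroup G) : Set G) = ⊥) :
    Nonempty (↥(Subgroup.normalizer ((R : Subgroup G) : Set G)) ≃* DihedralGroup r) ∧
    ∀ a : G, a ∈ Subgroup.normalizer ((R : Subgroup G) : Set G) → orderOf a = 2 →
      (∀ b : G, orderOf b = 2 → b ∉ V → ∃ g : G, g * a * g⁻¹ = b) ∧
      Nat.card ↥(V ⊓ Subgroup.centralizer ({a} : Set G)) ^ 2 = Nat.card ↥V := by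
  classical
  haveI : Fact (Nat.Prime 2) := ⟨Nat.prime_two⟩
  have hrp : r.Prime := Fact.out
  have hmemV : ∀ x, x ∈ V ↔ φ x = 1 := fun x => by rw [← hker, MonoidHom.mem_ker]
  have hdisj : Disjoint (R : Subgroup G) V :=
    IsPGroup.disjoint_of_ne r 2 hr _ _ R.isPGroup' hVp
  have hRV : ∀ x, x ∈ (R : Subgroup G) → x ∈ V → x = 1 := fun x h1 h2 =>
    Subgroup.disjoint_def.mp hdisj h1 h2
  have hNV : ∀ x, x ∈ Subgroup.normalizer ((R : Subgroup G) : Set G) → x ∈ V → x = 1 := by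
    intro x hxN hxV
    have hxC : x ∈ Subgroup.centralizer ((R : Subgroup G) : Set G) := by
      rw [Subgroup.mem_centralizer_iff]
      intro h hh
      have h1 : x * h * x⁻¹ * h⁻¹ ∈ (R : Subgroup G) :=
        Subgroup.mul_mem _ ((Subgroup.mem_normalizer_iff.mp hxN h).mp hh) (Subgroup.inv_mem _ hh)
      have h2 : x * h * x⁻¹ * h⁻¹ ∈ V := by
        have h21 : x * h * x⁻¹ * h⁻¹ = x * (h * x⁻¹ * h⁻¹) := by group
        rw [h21]
        exact V.mul_mem hxV (hVn.conj_mem _ (V.inv_mem hxV) h)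
      have h3 := hRV _ h1 h2
      have h4 : x * h * x⁻¹ = h := by
        rw [mul_inv_eq_one] at h3; exact h3
      rw [mul_inv_eq_iff_eq_mul] at h4
      exact h4.symm
    have h5 : x ∈ V ⊓ Subgroup.centralizer ((R : Subgroup G) : Set G) := ⟨hxV, hxC⟩
    rw [hC] at h5
    simpa using h5
  -- |R| = r
  have hRne : (R : Subgroup G) ≠ ⊥ := by
    apply Sylow.ne_bot_of_dvd_card
    obtain ⟨g, hg⟩ := hφ (DihedralGroup.r 1)
    have h1 : orderOf (φ g) = r := by rw [hg]; exact DihedralGroup.orderOf_r_one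
    have h2 : orderOf (φ g) ∣ orderOf g := orderOf_map_dvd φ g
    rw [h1] at h2
    exact h2.trans (orderOf_dvd_natCard g)
  have hφR : Function.Injective (φ.comp (R : Subgroup G).subtype) := by
    rw [injective_iff_map_eq_one]
    rintro ⟨x, hx⟩ h
    have : x = 1 := hRV x hx ((hmemV x).mpr h)
    exact Subtype.ext this
  have hcardmap : Nat.card ((R : Subgroup G).map φ) = Nat.card (R : Subgroup G) := by
    have h1 : ((R : Subgroup G).map φ) = (φ.comp (R : Subgroup G).subtype).range := by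
      rw [MonoidHom.range_comp, Subgroup.range_subtype]
    rw [h1]
    exact Nat.card_congr (MonoidHom.ofInjective hφR).symm.toEquiv
  have hcardR : Nat.card (R : Subgroup G) = r := by
    obtain ⟨k, hk⟩ := IsPGroup.iff_card.mp R.isPGroup'
    have h1 : Nat.card ((R : Subgroup G).map φ) ∣ Nat.card (DihedralGroup r) :=
      Subgroup.card_subgroup_dvd_card _
    rw [hcardmap, DihedralGroup.nat_card, hk] at h1
    rcases k with _ | _ | k
    · exfalso
      apply hRne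
      apply Subgroup.eq_bot_of_card_eq
      simpa using hk
    · simpa using hk
    · exfalso
      have h2 : r ^ 2 ∣ 2 * r := (pow_dvd_pow r (by omega)).trans h1
      have h3 : r ∣ 2 := by
        rw [pow_two, mul_comm 2 r] at h2
        exact Nat.dvd_of_mul_dvd_mul_left hrp.pos h2
      exact hr ((Nat.prime_dvd_prime_iff_eq hrp Nat.prime_two).mp h3)
  have hRpow : ∀ x ∈ (R : Subgroup G), x ^ r = 1 := by
    intro x hx
    have h1 := pow_card_eq_one' (x := (⟨x, hx⟩ : (R : Subgroup G)))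
    rw [hcardR] at h1
    exact congrArg Subtype.val h1
  -- the rotation subgroup
  let Rot : Subgroup (DihedralGroup r) := Subgroup.zpowers (DihedralGroup.r 1)
  have hRotcard : Nat.card Rot = r := by
    rw [Nat.card_zpowers, DihedralGroup.orderOf_r_one]
  have hRotn : Rot.Normal := by
    apply Subgroup.normal_of_index_eq_two
    have h1 := Subgroup.card_mul_index Rot
    rw [hRotcard, DihedralGroup.nat_card, mul_comm 2 r] at h1
    exact Nat.eq_of_mul_eq_mul_left hrp.pos h1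
  have hRle : (R : Subgroup G).map φ ≤ Rot := by
    rintro _ ⟨x, hx, rfl⟩
    have h1 : (φ x) ^ r = 1 := by rw [← map_pow, hRpow x hx, map_one]
    obtain ⟨j, hj⟩ := rot_of_pow hr _ h1
    rw [hj]
    refine ⟨(j.val : ℤ), ?_⟩
    show (DihedralGroup.r 1) ^ (j.val : ℤ) = _
    rw [DihedralGroup.r_one_zpow]
    simp
  have hReq : (R : Subgroup G).map φ = Rot :=
    Subgroup.eq_of_le_of_card_ge hRle (by rw [hcardmap, hcardR, hRotcard])
  have hNn : (Rot.comap φ).Normal := Subgroup.Normal.comap hRotn φ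
  have hRN : (R : Subgroup G) ≤ Rot.comap φ := Subgroup.map_le_iff_le_comap.mp hRle
  have hF := Sylow.normalizer_sup_eq_top' (N := Rot.comap φ) R hRN
  have hmapN : (Subgroup.normalizer ((R : Subgroup G) : Set G)).map φ = ⊤ := by
    have h1 := congrArg (Subgroup.map φ) hF
    rw [Subgroup.map_sup, Subgroup.map_comap_eq_self_of_surjective hφ,
      (MonoidHom.range_eq_top.mpr hφ ▸ (MonoidHom.range_eq_map φ).symm : (⊤ : Subgroup G).map φ = ⊤),
      ← hReq] at h1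
    rw [eq_top_iff, ← h1]
    refine sup_le le_rfl (Subgroup.map_mono Subgroup.le_normalizer)
  have hsurjN : ∀ d, ∃ n ∈ Subgroup.normalizer ((R : Subgroup G) : Set G), φ n = d := by
    intro d
    have : d ∈ (Subgroup.normalizer ((R : Subgroup G) : Set G)).map φ := by rw [hmapN]; trivial
    exact this
  refine ⟨⟨MulEquiv.ofBijective (φ.comp (Subgroup.normalizer ((R : Subgroup G) : Set G)).subtype) ⟨?_, ?_⟩⟩, ?_⟩
  · rw [injective_iff_map_eq_one]
    rintro ⟨x, hx⟩ h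
    exact Subtype.ext (hNV x hx ((hmemV x).mpr h))
  · intro d
    obtain ⟨n, hn, hnd⟩ := hsurjN d
    exact ⟨⟨n, hn⟩, hnd⟩
  intro a haN ha2
  have ha1 : a ≠ 1 := by
    rintro rfl
    simp at ha2
  have hasq : a * a = 1 := by
    have := pow_orderOf_eq_one a
    rw [ha2, pow_two] at this
    exact this
  have hainv : a⁻¹ = a := inv_eq_of_mul_eq_one_left hasq
  have hφa1 : φ a ≠ 1 := fun h => ha1 (hNV a haN ((hmemV a).mpr h))
  have hφa2 : (φ a) ^ 2 = 1 := by rw [← map_pow, pow_two, hasq, map_one]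
  obtain ⟨i, hi⟩ := invol_sr hr _ hφa2 hφa1
  -- a inverts R
  have hinvR : ∀ ρ ∈ (R : Subgroup G), a * ρ * a = ρ⁻¹ := by
    intro ρ hρ
    have h1 : (φ ρ) ^ r = 1 := by rw [← map_pow, hRpow ρ hρ, map_one]
    obtain ⟨j, hj⟩ := rot_of_pow hr _ h1
    have h2 : φ (a * ρ * a⁻¹) = φ ρ⁻¹ := by
      rw [map_mul, map_mul, map_inv, map_inv, hi, hj]
      exact inv_sr_r i j
    have h3 : (a * ρ * a⁻¹) * ρ ∈ V := by
      rw [hmemV, map_mul, h2, map_inv, inv_mul_cancel]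
    have h4 : (a * ρ * a⁻¹) * ρ ∈ (R : Subgroup G) :=
      Subgroup.mul_mem _ ((Subgroup.mem_normalizer_iff.mp haN ρ).mp hρ) hρ
    have h5 := hRV _ h4 h3
    rw [hainv] at h5
    exact eq_inv_of_mul_eq_one_left h5
  obtain ⟨ρ, hρ, hρ1⟩ := (Subgroup.bot_or_exists_ne_one (R : Subgroup G)).resolve_left hRne
  have hoddr : Nat.Coprime 2 r := (Nat.coprime_primes Nat.prime_two hrp).mpr (Ne.symm hr)
  obtain ⟨a', ha'def⟩ : ∃ a' : G, a' = ρ * a * ρ⁻¹ := ⟨_, rfl⟩
  obtain ⟨ρ₀, hρ₀def⟩ : ∃ ρ₀ : G, ρ₀ = a * a' := ⟨_, rfl⟩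
  have hρ₀ : ρ₀ = ρ⁻¹ * ρ⁻¹ := by
    have h1 := hinvR ρ hρ
    rw [hρ₀def, ha'def]
    calc a * (ρ * a * ρ⁻¹) = (a * ρ * a) * ρ⁻¹ := by group
      _ = _ := by rw [h1]
  have hρ₀R : ρ₀ ∈ (R : Subgroup G) := by
    rw [hρ₀]
    exact Subgroup.mul_mem _ (Subgroup.inv_mem _ hρ) (Subgroup.inv_mem _ hρ)
  have hρ₀1 : ρ₀ ≠ 1 := by
    intro h
    rw [hρ₀] at h
    have h2 : ρ ^ 2 = 1 := by
      have h3 : (ρ * ρ)⁻¹ = 1 := by rw [mul_inv_rev]; exact h
      rw [pow_two]; exact inv_eq_one.mp h3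
    have h4 : orderOf ρ ∣ 2 := orderOf_dvd_of_pow_eq_one h2
    have h5 : orderOf ρ ∣ r := orderOf_dvd_of_pow_eq_one (hRpow ρ hρ)
    have h6 : orderOf ρ ∣ 1 := by
      rw [← hoddr.gcd_eq_one]; exact Nat.dvd_gcd h4 h5
    exact hρ1 (orderOf_eq_one_iff.mp (Nat.dvd_one.mp h6))
  have hzp : Subgroup.zpowers ρ₀ = (R : Subgroup G) := by
    apply Subgroup.eq_of_le_of_card_ge
    · rw [Subgroup.zpowers_le]; exact hρ₀R
    · rw [hcardR, Nat.card_zpowers]
      have h1 : orderOf ρ₀ ∣ r := orderOf_dvd_of_pow_eq_one (hRpow _ hρ₀R)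
      rcases (Nat.dvd_prime hrp).mp h1 with h2 | h2
      · exact absurd (orderOf_eq_one_iff.mp h2) hρ₀1
      · exact h2.ge
  have hCρ : ∀ x ∈ V, x * ρ₀ = ρ₀ * x → x = 1 := by
    intro x hx hc
    have h5 : x ∈ V ⊓ Subgroup.centralizer ((R : Subgroup G) : Set G) := by
      refine Subgroup.mem_inf.mpr ⟨hx, ?_⟩
      rw [Subgroup.mem_centralizer_iff]
      intro h hh
      rw [SetLike.mem_coe, ← hzp] at hh
      obtain ⟨k, rfl⟩ := Subgroup.mem_zpowers_iff.mp hh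
      have hcm : Commute ρ₀ x := hc.symm
      exact (hcm.zpow_left k)
    rw [hC] at h5
    simpa using h5
  have ha'2 : a' * a' = 1 := by
    rw [ha'def]
    calc ρ * a * ρ⁻¹ * (ρ * a * ρ⁻¹) = ρ * (a * a) * ρ⁻¹ := by group
      _ = 1 := by rw [hasq]; group
  have ha'inv : a'⁻¹ = a' := inv_eq_of_mul_eq_one_left ha'2
  -- Lemma A
  have hA : ∀ b : G, b * b = 1 → φ b = φ a → ∃ u ∈ V, b = u * a * u⁻¹ ∧ u * a' * u⁻¹ = a' := by
    intro b hb hφb
    have hbinv : b⁻¹ = b := inv_eq_of_mul_eq_one_left hb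
    have hfm : ∀ v : V, ρ₀⁻¹ * ((v : G) * ρ₀ * (v : G)⁻¹) ∈ V := by
      intro v
      rw [hmemV, map_mul, map_mul, map_mul, map_inv, map_inv, (hmemV _).mp v.2]
      simp
    let f : V → V := fun v => ⟨ρ₀⁻¹ * ((v : G) * ρ₀ * (v : G)⁻¹), hfm v⟩
    have hfinj : Function.Injective f := by
      intro v w hvw
      have h1 : ρ₀⁻¹ * ((v : G) * ρ₀ * (v : G)⁻¹) = ρ₀⁻¹ * ((w : G) * ρ₀ * (w : G)⁻¹) :=
        congrArg Subtype.val hvw
      have h2 : (v : G) * ρ₀ * (v : G)⁻¹ = (w : G) * ρ₀ * (w : G)⁻¹ := mul_left_cancel h1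
      have h3 : (w : G)⁻¹ * v * ρ₀ = ρ₀ * ((w : G)⁻¹ * v) := by
        calc (w : G)⁻¹ * v * ρ₀ = (w : G)⁻¹ * ((v : G) * ρ₀ * (v : G)⁻¹) * v := by group
          _ = (w : G)⁻¹ * ((w : G) * ρ₀ * (w : G)⁻¹) * v := by rw [h2]
          _ = _ := by group
      have h4 := hCρ _ (V.mul_mem (V.inv_mem w.2) v.2) h3
      apply Subtype.ext
      have h5 : (v : G) = w := by
        rw [inv_mul_eq_one] at h4
        exact h4.symm
      exact h5
    have hfsurj := Finite.injective_iff_surjective.mp hfinj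
    have hmem : ρ₀⁻¹ * (b * a') ∈ V := by
      rw [hmemV, map_mul, map_mul, map_inv, hφb, hρ₀def, map_mul]
      simp
    obtain ⟨⟨u, huV⟩, hu⟩ := hfsurj ⟨ρ₀⁻¹ * (b * a'), hmem⟩
    have hg : u * ρ₀ * u⁻¹ = b * a' := by
      have h1 : ρ₀⁻¹ * (u * ρ₀ * u⁻¹) = ρ₀⁻¹ * (b * a') := congrArg Subtype.val hu
      exact mul_left_cancel h1
    have hn : (u⁻¹ * b * u) * ρ₀ * (u⁻¹ * b * u)⁻¹ = ρ₀⁻¹ := by
      have h1 : ρ₀ = u⁻¹ * (b * a') * u := by
        rw [← hg]; group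
      have h2 : ρ₀⁻¹ = u⁻¹ * (a' * b) * u := by
        rw [h1]
        simp only [mul_inv_rev, inv_inv, ha'inv, hbinv]
        group
      rw [h2]
      have h3 : (u⁻¹ * b * u) * ρ₀ * (u⁻¹ * b * u)⁻¹ = u⁻¹ * (b * (u * ρ₀ * u⁻¹) * b⁻¹) * u := by group
      rw [h3, hg, hbinv]
      have h4 : b * (b * a') * b = (b * b) * a' * b := by group
      rw [h4, hb, one_mul]
    have hnN : u⁻¹ * b * u ∈ Subgroup.normalizer ((R : Subgroup G) : Set G) := by
      apply Cfsg.Agent.Lib.LocalLarge.cj_eq_iff.mp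
      rw [← hzp]
      show (Subgroup.zpowers ρ₀).map (MulAut.conj (u⁻¹ * b * u)).toMonoidHom = _
      rw [MonoidHom.map_zpowers]
      show Subgroup.zpowers ((u⁻¹ * b * u) * ρ₀ * (u⁻¹ * b * u)⁻¹) = _
      rw [hn, Subgroup.zpowers_inv]
    have hφu : φ u = 1 := (hmemV u).mp huV
    have hna : u⁻¹ * b * u = a := by
      have h1 : (u⁻¹ * b * u) * a⁻¹ ∈ V := by
        rw [hmemV, map_mul, map_mul, map_mul, map_inv, map_inv, hφu, hφb]
        simp
      have h2 : (u⁻¹ * b * u) * a⁻¹ ∈ Subgroup.normalizer ((R : Subgroup G) : Set G) :=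
        Subgroup.mul_mem _ hnN (Subgroup.inv_mem _ haN)
      have h3 := hNV _ h2 h1
      exact mul_inv_eq_one.mp h3
    refine ⟨u, huV, ?_, ?_⟩
    · rw [← hna]; group
    · have h1 : a' = b⁻¹ * (u * ρ₀ * u⁻¹) := by rw [hg, inv_mul_cancel_left]
      have h2 : u⁻¹ * a' * u = (u⁻¹ * b * u)⁻¹ * ρ₀ := by
        calc u⁻¹ * a' * u = u⁻¹ * (b⁻¹ * (u * ρ₀ * u⁻¹)) * u := by rw [← h1]
          _ = (u⁻¹ * b * u)⁻¹ * ρ₀ := by group
      rw [hna, hρ₀def, hainv, ← mul_assoc, hasq, one_mul] at h2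
      calc u * a' * u⁻¹ = u * (u⁻¹ * a' * u) * u⁻¹ := by
            rw [h2]
        _ = a' := by group
  refine ⟨?_, ?_⟩
  · intro b hb hbV
    have hb2 : b * b = 1 := by
      have := pow_orderOf_eq_one b
      rw [hb, pow_two] at this
      exact this
    have hφb1 : φ b ≠ 1 := fun h => hbV ((hmemV b).mpr h)
    have hφb2 : (φ b) ^ 2 = 1 := by rw [← map_pow, pow_two, hb2, map_one]
    obtain ⟨j, hj⟩ := invol_sr hr _ hφb2 hφb1
    obtain ⟨k, hk⟩ := conj_sr hr i j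
    obtain ⟨g, hg⟩ := hφ (DihedralGroup.r k)
    have h1 : (g⁻¹ * b * g) * (g⁻¹ * b * g) = 1 := by
      calc (g⁻¹ * b * g) * (g⁻¹ * b * g) = g⁻¹ * (b * b) * g := by group
        _ = 1 := by rw [hb2]; group
    have h2 : φ (g⁻¹ * b * g) = φ a := by
      rw [map_mul, map_mul, map_inv, hg, hj, hi, ← hk]
      group
    obtain ⟨u, _, hu, _⟩ := hA _ h1 h2
    refine ⟨g * u, ?_⟩
    have h3 : g * u * a * (g * u)⁻¹ = g * (u * a * u⁻¹) * g⁻¹ := by group
    rw [h3, ← hu]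
    group
  · have hca : ∀ x, x ∈ V ⊓ Subgroup.centralizer ({a} : Set G) ↔ x ∈ V ∧ a * x = x * a := by
      intro x
      rw [Subgroup.mem_inf, Subgroup.mem_centralizer_singleton_iff]
      constructor
      · rintro ⟨h1, h2⟩; exact ⟨h1, h2.symm⟩
      · rintro ⟨h1, h2⟩; exact ⟨h1, h2.symm⟩
    have hca' : ∀ x, x ∈ V ⊓ Subgroup.centralizer ({a'} : Set G) ↔ x ∈ V ∧ a' * x = x * a' := by
      intro x
      rw [Subgroup.mem_inf, Subgroup.mem_centralizer_singleton_iff]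
      constructor
      · rintro ⟨h1, h2⟩; exact ⟨h1, h2.symm⟩
      · rintro ⟨h1, h2⟩; exact ⟨h1, h2.symm⟩
    have hcc : Nat.card ↥(V ⊓ Subgroup.centralizer ({a'} : Set G)) =
        Nat.card ↥(V ⊓ Subgroup.centralizer ({a} : Set G)) := by
      have h1 : V ⊓ Subgroup.centralizer ({a'} : Set G) =
          Cfsg.Agent.Lib.LocalLarge.cj ρ (V ⊓ Subgroup.centralizer ({a} : Set G)) := by
        ext x
        rw [Cfsg.Agent.Lib.LocalLarge.mem_cj, hca, hca']
        constructor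
        · rintro ⟨h2, h3⟩
          refine ⟨?_, ?_⟩
          · have : ρ⁻¹ * x * ρ = ρ⁻¹ * x * ρ⁻¹⁻¹ := by simp
            rw [this]
            exact hVn.conj_mem _ h2 _
          · have h3' : ρ * a * ρ⁻¹ * x = x * (ρ * a * ρ⁻¹) := by rw [ha'def] at h3; exact h3
            calc a * (ρ⁻¹ * x * ρ) = ρ⁻¹ * (ρ * a * ρ⁻¹ * x) * ρ := by group
              _ = ρ⁻¹ * (x * (ρ * a * ρ⁻¹)) * ρ := by rw [h3']
              _ = _ := by group
        · rintro ⟨h2, h3⟩
          refine ⟨?_, ?_⟩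
          · have : x = ρ * (ρ⁻¹ * x * ρ) * ρ⁻¹ := by group
            rw [this]
            exact hVn.conj_mem _ h2 _
          · rw [ha'def]
            calc ρ * a * ρ⁻¹ * x = ρ * (a * (ρ⁻¹ * x * ρ)) * ρ⁻¹ := by group
              _ = ρ * ((ρ⁻¹ * x * ρ) * a) * ρ⁻¹ := by rw [h3]
              _ = _ := by group
      rw [h1]
      exact Cfsg.Agent.Lib.LocalLarge.card_cj ρ _
    let F : ↥(V ⊓ Subgroup.centralizer ({a'} : Set G)) × ↥(V ⊓ Subgroup.centralizer ({a} : Set G)) → V :=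
      fun p => ⟨(p.1 : G) * (p.2 : G), V.mul_mem p.1.2.1 p.2.2.1⟩
    have hFbij : Function.Bijective F := by
      constructor
      · rintro ⟨x, y⟩ ⟨x₂, y₂⟩ h
        have h1 : (x : G) * y = (x₂ : G) * y₂ := congrArg Subtype.val h
        have hz : (x₂ : G)⁻¹ * x = y₂ * (y : G)⁻¹ := by
          calc (x₂ : G)⁻¹ * x = (x₂ : G)⁻¹ * ((x : G) * y) * (y : G)⁻¹ := by group
            _ = (x₂ : G)⁻¹ * ((x₂ : G) * y₂) * (y : G)⁻¹ := by rw [h1]
            _ = _ := by group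
        have hz1 : (x₂ : G)⁻¹ * x ∈ V ⊓ Subgroup.centralizer ({a'} : Set G) :=
          Subgroup.mul_mem _ (Subgroup.inv_mem _ x₂.2) x.2
        have hz2 : (x₂ : G)⁻¹ * x ∈ V ⊓ Subgroup.centralizer ({a} : Set G) := by
          rw [hz]
          exact Subgroup.mul_mem _ y₂.2 (Subgroup.inv_mem _ y.2)
        have hz3 := (hca' _).mp hz1
        have hz4 := (hca _).mp hz2
        have hz5 : (x₂ : G)⁻¹ * x = 1 := by
          apply hCρ _ hz3.1
          rw [hρ₀def]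
          calc (x₂ : G)⁻¹ * x * (a * a') = ((x₂ : G)⁻¹ * x * a) * a' := by group
            _ = a * ((x₂ : G)⁻¹ * x) * a' := by rw [← hz4.2]
            _ = a * ((x₂ : G)⁻¹ * x * a') := by group
            _ = a * (a' * ((x₂ : G)⁻¹ * x)) := by rw [← hz3.2]
            _ = _ := by group
        have hz6 : (y₂ : G) * (y : G)⁻¹ = 1 := by rw [← hz]; exact hz5
        have h7 : (x : G) = x₂ := (inv_mul_eq_one.mp hz5).symm
        have h8 : (y₂ : G) = y := mul_inv_eq_one.mp hz6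
        exact Prod.ext (Subtype.ext h7) (Subtype.ext h8.symm)
      · rintro ⟨v, hv⟩
        have h1 : (v * a * v⁻¹) * (v * a * v⁻¹) = 1 := by
          calc (v * a * v⁻¹) * (v * a * v⁻¹) = v * (a * a) * v⁻¹ := by group
            _ = 1 := by rw [hasq]; group
        have h2 : φ (v * a * v⁻¹) = φ a := by
          rw [map_mul, map_mul, map_inv, (hmemV v).mp hv]
          simp
        obtain ⟨u, huV, hu1, hu2⟩ := hA _ h1 h2
        have hu3 : u ∈ V ⊓ Subgroup.centralizer ({a'} : Set G) := by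
          rw [hca']
          refine ⟨huV, ?_⟩
          calc a' * u = (u * a' * u⁻¹) * u := by rw [hu2]
            _ = _ := by group
        have hu4 : u⁻¹ * v ∈ V ⊓ Subgroup.centralizer ({a} : Set G) := by
          rw [hca]
          refine ⟨V.mul_mem (V.inv_mem huV) hv, ?_⟩
          have h5 : a = (u⁻¹ * v) * a * (u⁻¹ * v)⁻¹ := by
            have h6 : (u⁻¹ * v) * a * (u⁻¹ * v)⁻¹ = u⁻¹ * (v * a * v⁻¹) * u := by group
            rw [h6, hu1]; group
          calc a * (u⁻¹ * v) = ((u⁻¹ * v) * a * (u⁻¹ * v)⁻¹) * (u⁻¹ * v) := by rw [← h5]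
            _ = _ := by group
        refine ⟨(⟨u, hu3⟩, ⟨u⁻¹ * v, hu4⟩), ?_⟩
        apply Subtype.ext
        show u * (u⁻¹ * v) = v
        group
    have hcard := Nat.card_congr (Equiv.ofBijective F hFbij)
    rw [Nat.card_prod, hcc] at hcard
    rw [pow_two]
    exact hcard

/-- Let G be a finite group and r an odd prime such that G ⧸ O₂(G) is dihedral of order 2r, and let R be a Sylow r-subgroup of G with C_{O₂(G)}(R) = 1. Then N_G(R) is dihedral of order 2r; for any involution a of N_G(R), every involution of G outside O₂(G) is conjugate to a; and |C_{O₂(G)}(a)|² = |O₂(G)|. -/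
theorem result {G : Type*} [Group G] [Finite G] {r : ℕ} [Fact r.Prime] (hr : r ≠ 2) [hN : (Cfsg.pCore 2 G).Normal] (hquot : Nonempty (G ⧸ Cfsg.pCore 2 G ≃* DihedralGroup r)) (R : Sylow r G) (hC : Cfsg.pCore 2 G ⊓ Subgroup.centralizer ((R : Subgroup G) : Set G) = ⊥) : Nonempty (↥(Subgroup.normalizer ((R : Subgroup G) : Set G)) ≃* DihedralGroup r) ∧ ∀ a : G, a ∈ Subgroup.normalizer ((R : Subgroup G) : Set G) → orderOf a = 2 → (∀ b : G, orderOf b = 2 → b ∉ Cfsg.pCore 2 G → ∃ g : G, g * a * g⁻¹ = b) ∧ Nat.card ↥(Cfsg.pCore 2 G ⊓ Subgroup.centralizer ({a} : Set G)) ^ 2 = Nat.card ↥(Cfsg.pCore 2 G) := by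
  classical
  obtain ⟨ι⟩ := hquot
  exact main hr (Cfsg.pCore 2 G) (Cfsg.Agent.Lib.PCore.isPGroup_pCore 2) (ι.toMonoidHom.comp (QuotientGroup.mk' _))
    (ι.surjective.comp (QuotientGroup.mk'_surjective _))
    (by
      ext x
      simp [MonoidHom.mem_ker]) R hC

end Cfsg.Agent.S2873
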