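import Mathlib
import Cfsg.Statements.S2874
import Cfsg.Agent.Lib.PResid
import Cfsg.Agent.Lib.LocalLarge
-- import your own Cfsg.Agent.* helpers here

set_option autoImplicit false
open Cfsg

namespace Cfsg.Agent.S2874

set_option maxRecDepth 100000 in
theorem F3 : ∃ v : alternatingGroup (Fin 4), v ^ 2 = 1 ∧ v ≠ 1 := by decide
set_option maxRecDepth 100000 in
theorem F4 : ∃ t : alternatingGroup (Fin 4), t ^ 3 = 1 ∧ t ≠ 1 := by decide
set_option maxRecDepth 100000 in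
theorem F1 : ∀ v t : alternatingGroup (Fin 4), v ^ 2 = 1 → t ^ 3 = 1 → t ≠ 1 →
    v * (t * v * t⁻¹) * (t⁻¹ * v * t) = 1 := by decide
set_option maxRecDepth 100000 in
theorem F2 : ∀ y t : alternatingGroup (Fin 4), t ^ 3 = 1 → t ≠ 1 →
    ∃ v : alternatingGroup (Fin 4), ∃ i : Fin 3, v ^ 2 = 1 ∧ y = v * t ^ (i : ℕ) := by decide

theorem alg {R : Type*} [CommRing R] (i3 : R) (hi3 : 3 * i3 = 1) (a b c d : R)
    (E11 : a * a + b * c = 1) (E12 : a * b + b * d = 0) (E21 : c * a + d * c = 0)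
    (E22 : c * b + d * d = 1)
    (F11 : a * (c + d) + b * (c + d - a - b) = d - b)
    (F12 : a * (-c) + b * (a - c) = a - c + b - d)
    (F21 : c * (c + d) + d * (c + d - a - b) = -b)
    (F22 : c * (-c) + d * (a - c) = a + b) :
    ∃ s w, a = 1 - w ∧ b = s ∧ c = s - w ∧ d = 1 + w ∧ 2 * s = 0 ∧ 2 * w = 0 := by
  obtain ⟨p, q, s, w, ha, hb, hc, hd⟩ : ∃ p q s w : R, a = p - w ∧ b = s - q ∧ c = q + s - w ∧ d = p - q + w := by
    refine ⟨a + i3 * (c - b - 2 * a + 2 * d), i3 * (2 * c - 2 * b - a + d),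
      b + i3 * (2 * c - 2 * b - a + d), i3 * (c - b - 2 * a + 2 * d), ?_, ?_, ?_, ?_⟩
    · ring
    · ring
    · linear_combination (b - c) * hi3
    · linear_combination (a - d) * hi3
  subst ha hb hc hd
  have cancel : ∀ x : R, 3 * x = 0 → x = 0 := fun x h => by linear_combination i3 * h - x * hi3
  have h1 := cancel (p * p - q * q + (s * s - s * w + w * w) - 1) (by linear_combination E11 + E21 - E12 + 2 * E22)
  have h2 := cancel (2 * p * q - q * q) (by linear_combination 2 * E21 - 2 * E12 - E11 + E22)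
  have h3 := cancel (p * p - q * q - p) (by linear_combination F11 + F21 - F12 + 2 * F22)
  have h4 := cancel (2 * p * q - q * q + (s * s - s * w + w * w) - q)
    (by linear_combination 2 * F21 - 2 * F12 - F11 + F22)
  have hpq : p + q - 1 = 0 := by linear_combination h1 - h3 - h4 + h2
  have hq : q = 0 := by linear_combination (p - q) * hpq - h3
  subst hq
  have hp : p = 1 := by linear_combination hpq
  subst hp
  refine ⟨s, w, by ring, by ring, by ring, by ring, by linear_combination E12, ?_⟩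
  linear_combination E12 - E21


local notation "RR" k => ZMod (2 ^ k)
local notation "GG" k => GL (Fin 2) (ZMod (2 ^ k))

instance nz (k : ℕ) : NeZero (2 ^ k) := ⟨by positivity⟩

def t0 (k : ℕ) : GG k :=
  ⟨!![0, -1; 1, -1], !![-1, 1; -1, 0], by
    simp [Matrix.mul_fin_two, Matrix.one_fin_two], by
    simp [Matrix.mul_fin_two, Matrix.one_fin_two]⟩

theorem t0_val (k : ℕ) : (((t0 k : GG k)) : Matrix (Fin 2) (Fin 2) (RR k)) = !![0, -1; 1, -1] := rfl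
theorem t0_inv_val (k : ℕ) :
    (((t0 k : GG k)⁻¹ : GG k) : Matrix (Fin 2) (Fin 2) (RR k)) = !![-1, 1; -1, 0] := rfl

theorem exists_i3 (k : ℕ) : ∃ i3 : RR k, 3 * i3 = 1 := by
  refine ⟨(3 : RR k)⁻¹, ?_⟩
  have h : Nat.Coprime 3 (2 ^ k) := Nat.Coprime.pow_right _ (by norm_num)
  have := ZMod.coe_mul_inv_eq_one (n := 2 ^ k) 3 h
  exact_mod_cast this

theorem form (k : ℕ) (g : GG k) (h1 : g * g = 1)
    (h2 : g * (t0 k * g * (t0 k)⁻¹) * ((t0 k)⁻¹ * g * t0 k) = 1) :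
    ∃ s w : RR k, 2 * s = 0 ∧ 2 * w = 0 ∧
      (g : Matrix (Fin 2) (Fin 2) (RR k)) = !![1 - w, s; s - w, 1 + w] := by
  have h3 : g * (t0 k * g * (t0 k)⁻¹) = (t0 k)⁻¹ * g * t0 k := by
    have h4 : ((t0 k)⁻¹ * g * t0 k) * ((t0 k)⁻¹ * g * t0 k) = 1 := by
      calc ((t0 k)⁻¹ * g * t0 k) * ((t0 k)⁻¹ * g * t0 k) = (t0 k)⁻¹ * (g * g) * t0 k := by group
        _ = 1 := by rw [h1]; group
    calc g * (t0 k * g * (t0 k)⁻¹) = g * (t0 k * g * (t0 k)⁻¹) * (((t0 k)⁻¹ * g * t0 k) * ((t0 k)⁻¹ * g * t0 k)) := by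
          rw [h4, mul_one]
      _ = (g * (t0 k * g * (t0 k)⁻¹) * ((t0 k)⁻¹ * g * t0 k)) * ((t0 k)⁻¹ * g * t0 k) :=
          (mul_assoc _ _ _).symm
      _ = _ := by rw [h2, one_mul]
  have E : (g : Matrix (Fin 2) (Fin 2) (RR k)) * (g : Matrix (Fin 2) (Fin 2) (RR k)) = 1 := by
    have := congrArg Units.val h1
    simpa using this
  have F := congrArg Units.val h3
  simp only [Units.val_mul, t0_val, t0_inv_val] at F
  rw [Matrix.eta_fin_two (g : Matrix (Fin 2) (Fin 2) (RR k))] at E F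
  obtain ⟨a, ha⟩ : ∃ a, a = (g : Matrix (Fin 2) (Fin 2) (RR k)) 0 0 := ⟨_, rfl⟩
  obtain ⟨b, hb⟩ : ∃ a, a = (g : Matrix (Fin 2) (Fin 2) (RR k)) 0 1 := ⟨_, rfl⟩
  obtain ⟨c, hc⟩ : ∃ a, a = (g : Matrix (Fin 2) (Fin 2) (RR k)) 1 0 := ⟨_, rfl⟩
  obtain ⟨d, hd⟩ : ∃ a, a = (g : Matrix (Fin 2) (Fin 2) (RR k)) 1 1 := ⟨_, rfl⟩
  rw [← ha, ← hb, ← hc, ← hd] at E F
  have E11 := congrFun (congrFun E 0) 0
  have E12 := congrFun (congrFun E 0) 1
  have E21 := congrFun (congrFun E 1) 0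
  have E22 := congrFun (congrFun E 1) 1
  have F11 := congrFun (congrFun F 0) 0
  have F12 := congrFun (congrFun F 0) 1
  have F21 := congrFun (congrFun F 1) 0
  have F22 := congrFun (congrFun F 1) 1
  simp [Matrix.mul_fin_two, Matrix.one_fin_two] at E11 E12 E21 E22 F11 F12 F21 F22
  obtain ⟨i3, hi3⟩ := exists_i3 k
  obtain ⟨s, w, h5, h6, h7, h8, hs, hw⟩ := alg i3 hi3 a b c d (by linear_combination E11)
    (by linear_combination E12) (by linear_combination E21) (by linear_combination E22)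
    (by linear_combination F11) (by linear_combination F12) (by linear_combination F21)
    (by linear_combination F22)
  refine ⟨s, w, hs, hw, ?_⟩
  rw [Matrix.eta_fin_two (g : Matrix (Fin 2) (Fin 2) (RR k)), ← ha, ← hb, ← hc, ← hd, h5, h6, h7, h8]

theorem conj_form1 (k : ℕ) (g : GG k) (s w : RR k) (hs : 2 * s = 0) (hw : 2 * w = 0)
    (hg : (g : Matrix (Fin 2) (Fin 2) (RR k)) = !![1 - w, s; s - w, 1 + w]) :
    ((t0 k * g * (t0 k)⁻¹ : GG k) : Matrix (Fin 2) (Fin 2) (RR k)) =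
      !![1 - s, s + w; (s + w) - s, 1 + s] := by
  simp only [Units.val_mul, t0_val, t0_inv_val, hg]
  ext i j
  fin_cases i <;> fin_cases j <;> simp [Matrix.mul_fin_two]
  · linear_combination hs
  · linear_combination (-1 : RR k) * hs
  · ring
  · linear_combination (-1 : RR k) * hs + hw - hw

theorem conj_form2 (k : ℕ) (g : GG k) (s w : RR k) (hs : 2 * s = 0) (hw : 2 * w = 0)
    (hg : (g : Matrix (Fin 2) (Fin 2) (RR k)) = !![1 - w, s; s - w, 1 + w]) :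
    (((t0 k)⁻¹ * g * t0 k : GG k) : Matrix (Fin 2) (Fin 2) (RR k)) =
      !![1 - (s + w), w; w - (s + w), 1 + (s + w)] := by
  simp only [Units.val_mul, t0_val, t0_inv_val, hg]
  ext i j
  fin_cases i <;> fin_cases j <;> simp [Matrix.mul_fin_two]
  all_goals first
    | ring1
    | linear_combination hw
    | linear_combination (-1 : RR k) * hw

theorem two_mul_cases (k : ℕ) (hk : 1 ≤ k) (x : RR k) (hx : 2 * x = 0) :
    x = 0 ∨ x = ((2 ^ (k - 1) : ℕ) : RR k) := by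
  obtain ⟨k', rfl⟩ : ∃ k', k = k' + 1 := ⟨k - 1, by omega⟩
  simp only [Nat.add_sub_cancel]
  have h1 : ((x.val : ℕ) : RR (k' + 1)) = x := ZMod.natCast_zmod_val x
  have h2 : ((2 * x.val : ℕ) : RR (k' + 1)) = 0 := by
    push_cast
    rw [h1]; exact hx
  rw [ZMod.natCast_eq_zero_iff] at h2
  have h2' : 2 * 2 ^ k' ∣ 2 * x.val := (dvd_of_eq (pow_succ' 2 k').symm).trans h2
  have h3 : 2 ^ k' ∣ x.val := Nat.dvd_of_mul_dvd_mul_left (by norm_num) h2'
  obtain ⟨m, hm⟩ := h3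
  have h4 : x.val < 2 ^ k' * 2 := lt_of_lt_of_eq (ZMod.val_lt x) (pow_succ 2 k')
  have h5 : m < 2 := by
    rw [hm] at h4
    have : 0 < 2 ^ k' := by positivity
    by_contra hcon
    push Not at hcon
    nlinarith
  have h6 : x = ((2 ^ k' * m : ℕ) : RR (k' + 1)) := by rw [← hm]; exact h1.symm
  interval_cases m
  · left
    rw [h6]; simp
  · right
    rw [h6]; simp

theorem orbit (k : ℕ) (hk : 1 ≤ k) (g g' : GG k) (h1 : g * g = 1)
    (h2 : g * (t0 k * g * (t0 k)⁻¹) * ((t0 k)⁻¹ * g * t0 k) = 1) (hg1 : g ≠ 1)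
    (h1' : g' * g' = 1)
    (h2' : g' * (t0 k * g' * (t0 k)⁻¹) * ((t0 k)⁻¹ * g' * t0 k) = 1) (hg1' : g' ≠ 1) :
    g' = g ∨ g' = t0 k * g * (t0 k)⁻¹ ∨ g' = (t0 k)⁻¹ * g * t0 k := by
  obtain ⟨s, w, hs, hw, hg⟩ := form k g h1 h2
  obtain ⟨s', w', hs', hw', hg'⟩ := form k g' h1' h2'
  have hne : ¬ (s = 0 ∧ w = 0) := by
    rintro ⟨rfl, rfl⟩
    apply hg1
    apply Units.ext
    rw [hg]
    simp [Matrix.one_fin_two]
  have hne' : ¬ (s' = 0 ∧ w' = 0) := by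
    rintro ⟨rfl, rfl⟩
    apply hg1'
    apply Units.ext
    rw [hg']
    simp [Matrix.one_fin_two]
  have hh : (((2 ^ (k - 1) : ℕ) : RR k)) + ((2 ^ (k - 1) : ℕ) : RR k) = 0 := by
    obtain ⟨k', rfl⟩ : ∃ k', k = k' + 1 := ⟨k - 1, by omega⟩
    simp only [Nat.add_sub_cancel]
    rw [← Nat.cast_add, ← two_mul, ← pow_succ']
    exact ZMod.natCast_self _
  have key : (s' = s ∧ w' = w) ∨ (s' = s + w ∧ w' = s) ∨ (s' = w ∧ w' = s + w) := by
    rcases two_mul_cases k hk s hs with e1 | e1 <;> rcases two_mul_cases k hk w hw with e2 | e2 <;>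
      rcases two_mul_cases k hk s' hs' with e3 | e3 <;> rcases two_mul_cases k hk w' hw' with e4 | e4 <;>
      simp_all
  rcases key with ⟨e1, e2⟩ | ⟨e1, e2⟩ | ⟨e1, e2⟩ <;> rw [e1, e2] at hg'
  · left
    exact Units.ext (hg'.trans hg.symm)
  · right; left
    apply Units.ext
    rw [conj_form1 k g s w hs hw hg, hg']
  · right; right
    apply Units.ext
    rw [conj_form2 k g s w hs hw hg, hg']


theorem t0_pow3 (k : ℕ) : (t0 k) ^ 3 = 1 := by
  apply Units.ext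
  rw [Units.val_pow_eq_pow_val, t0_val, Units.val_one, pow_three]
  simp [Matrix.mul_fin_two, Matrix.one_fin_two]

theorem t0_ne_one (k : ℕ) (hk : 1 ≤ k) : t0 k ≠ 1 := by
  intro h
  haveI : Fact (1 < 2 ^ k) := ⟨Nat.one_lt_two_pow (by omega)⟩
  have h2 : ((t0 k : GG k) : Matrix (Fin 2) (Fin 2) (RR k)) 0 0 = (1 : Matrix (Fin 2) (Fin 2) (RR k)) 0 0 := by
    rw [h]; rfl
  simp [t0_val] at h2

/-- Two `A₄`-subgroups containing `t0` are contained in each other. -/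
theorem core (k : ℕ) (hk : 1 ≤ k) (H H' : Subgroup (GG k))
    (hH : Nonempty (↥H ≃* ↥(alternatingGroup (Fin 4))))
    (hH' : Nonempty (↥H' ≃* ↥(alternatingGroup (Fin 4))))
    (ht : t0 k ∈ H) (ht' : t0 k ∈ H') : H ≤ H' := by
  obtain ⟨ψ⟩ := hH
  obtain ⟨ψ'⟩ := hH'
  have ht3 := t0_pow3 k
  have ht1 := t0_ne_one k hk
  -- the involution relation, inside any A₄
  have hrel : ∀ (K : Subgroup (GG k)) (φ : ↥K ≃* ↥(alternatingGroup (Fin 4))), t0 k ∈ K →
      ∀ v ∈ K, v * v = 1 →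
        v * (t0 k * v * (t0 k)⁻¹) * ((t0 k)⁻¹ * v * t0 k) = 1 := by
    intro K φ htK v hvK hv
    have h3 : (φ ⟨v, hvK⟩) ^ 2 = 1 := by
      rw [← map_pow, pow_two]
      have : (⟨v, hvK⟩ : K) * ⟨v, hvK⟩ = 1 := Subtype.ext hv
      rw [this, map_one]
    have h4 : (φ ⟨t0 k, htK⟩) ^ 3 = 1 := by
      rw [← map_pow]
      have : (⟨t0 k, htK⟩ : K) ^ 3 = 1 := Subtype.ext ht3
      rw [this, map_one]
    have h5 : φ ⟨t0 k, htK⟩ ≠ 1 := by
      intro h
      have h6 : (⟨t0 k, htK⟩ : K) = 1 := φ.injective (by rw [h, map_one])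
      exact ht1 (congrArg Subtype.val h6)
    have h6 := F1 _ _ h3 h4 h5
    rw [← map_inv, ← map_mul, ← map_mul, ← map_mul, ← map_mul, ← map_mul, ← map_mul] at h6
    have h7 := φ.injective (h6.trans (map_one φ).symm)
    exact congrArg Subtype.val h7
  obtain ⟨v₀, hv₀2, hv₀1⟩ := F3
  -- an involution of H'
  set g'' : GG k := ((ψ'.symm v₀ : H') : GG k) with hg''
  have hg''H' : g'' ∈ H' := (ψ'.symm v₀).2
  have hg''2 : g'' * g'' = 1 := by
    have h1 : ψ'.symm v₀ * ψ'.symm v₀ = 1 := by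
      rw [← map_mul, ← pow_two, hv₀2, map_one]
    exact congrArg Subtype.val h1
  have hg''1 : g'' ≠ 1 := by
    intro h
    have h1 : ψ'.symm v₀ = 1 := Subtype.ext h
    apply hv₀1
    have h2 := congrArg ψ' h1
    simpa using h2
  intro x hx
  -- decompose x
  have htA3 : (ψ ⟨t0 k, ht⟩) ^ 3 = 1 := by
    rw [← map_pow]
    have : (⟨t0 k, ht⟩ : H) ^ 3 = 1 := Subtype.ext ht3
    rw [this, map_one]
  have htA1 : ψ ⟨t0 k, ht⟩ ≠ 1 := by
    intro h
    have h6 : (⟨t0 k, ht⟩ : H) = 1 := ψ.injective (by rw [h, map_one])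
    exact ht1 (congrArg Subtype.val h6)
  obtain ⟨v, i, hv2, hyv⟩ := F2 (ψ ⟨x, hx⟩) _ htA3 htA1
  have hxeq : (⟨x, hx⟩ : H) = ψ.symm v * ⟨t0 k, ht⟩ ^ (i : ℕ) := by
    apply ψ.injective
    rw [hyv, map_mul, map_pow]
    simp
  have hxeq2 : x = ((ψ.symm v : H) : GG k) * (t0 k) ^ (i : ℕ) := congrArg Subtype.val hxeq
  rw [hxeq2]
  refine H'.mul_mem ?_ (H'.pow_mem ht' _)
  set g' : GG k := ((ψ.symm v : H) : GG k) with hg'
  have hg'H : g' ∈ H := (ψ.symm v).2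
  have hg'2 : g' * g' = 1 := by
    have h1 : ψ.symm v * ψ.symm v = 1 := by
      rw [← map_mul, ← pow_two, hv2, map_one]
    exact congrArg Subtype.val h1
  by_cases hg'1 : g' = 1
  · rw [hg'1]; exact H'.one_mem
  have hor := orbit k hk g'' g' hg''2 (hrel H' ψ' ht' g'' hg''H' hg''2) hg''1 hg'2
    (hrel H ψ ht g' hg'H hg'2) hg'1
  rcases hor with h | h | h
  · rw [h]; exact hg''H'
  · rw [h]; exact H'.mul_mem (H'.mul_mem ht' hg''H') (H'.inv_mem ht')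
  · rw [h]; exact H'.mul_mem (H'.mul_mem (H'.inv_mem ht') hg''H') ht'

theorem ker_two (k : ℕ) (hk : 1 ≤ k) (g : GG k)
    (hg : Matrix.GeneralLinearGroup.map (ZMod.castHom (dvd_pow_self 2 (by omega : k ≠ 0)) (ZMod 2)) g = 1) :
    ∃ n : ℕ, g ^ 2 ^ n = 1 := by
  classical
  have heven : ∀ x : RR k, ZMod.castHom (dvd_pow_self 2 (by omega : k ≠ 0)) (ZMod 2) x = 0 →
      ∃ b : RR k, x = 2 * b := by
    intro x hx
    have h1 : ((x.val : ℕ) : RR k) = x := ZMod.natCast_zmod_val x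
    rw [← h1, map_natCast, ZMod.natCast_eq_zero_iff] at hx
    obtain ⟨m, hm⟩ := hx
    refine ⟨(m : RR k), ?_⟩
    rw [← h1, hm]
    push_cast
    ring
  have hent : ∀ i j, ∃ b : RR k, (g : Matrix (Fin 2) (Fin 2) (RR k)) i j = (1 : Matrix (Fin 2) (Fin 2) (RR k)) i j + 2 * b := by
    intro i j
    have h1 : (Matrix.GeneralLinearGroup.map (ZMod.castHom (dvd_pow_self 2 (by omega : k ≠ 0)) (ZMod 2)) g) i j =
        ((1 : GL (Fin 2) (ZMod 2)) : Matrix (Fin 2) (Fin 2) (ZMod 2)) i j := by rw [hg]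
    rw [Matrix.GeneralLinearGroup.map_apply] at h1
    have h2 : ZMod.castHom (dvd_pow_self 2 (by omega : k ≠ 0)) (ZMod 2)
        ((g : Matrix (Fin 2) (Fin 2) (RR k)) i j - (1 : Matrix (Fin 2) (Fin 2) (RR k)) i j) = 0 := by
      rw [map_sub, h1]
      have e1 : ((1 : GL (Fin 2) (ZMod 2)) : Matrix (Fin 2) (Fin 2) (ZMod 2)) i j = if i = j then 1 else 0 := by
        rw [Units.val_one, Matrix.one_apply]
      have e2 : (1 : Matrix (Fin 2) (Fin 2) (RR k)) i j = if i = j then 1 else 0 := Matrix.one_apply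
      rw [e1, e2]
      split_ifs
      · rw [map_one, sub_self]
      · simp
    obtain ⟨b, hb⟩ := heven _ h2
    exact ⟨b, by rw [← hb]; ring⟩
  choose b hb using hent
  let Y : Matrix (Fin 2) (Fin 2) (RR k) := Matrix.of b
  have hgY : (g : Matrix (Fin 2) (Fin 2) (RR k)) = 1 + (2 : ℕ) • Y := by
    ext i j
    rw [hb i j]
    simp [Y]
  have hind : ∀ j : ℕ, ∃ Z : Matrix (Fin 2) (Fin 2) (RR k),
      (g : Matrix (Fin 2) (Fin 2) (RR k)) ^ 2 ^ j = 1 + (2 ^ (j + 1) : ℕ) • Z := by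
    intro j
    induction j with
    | zero => exact ⟨Y, by simpa using hgY⟩
    | succ j ih =>
      obtain ⟨Z, hZ⟩ := ih
      refine ⟨Z + (2 ^ j : ℕ) • (Z * Z), ?_⟩
      rw [pow_succ 2 j, pow_mul, hZ, pow_two]
      simp only [add_mul, mul_add, one_mul, mul_one, smul_mul_smul_comm, smul_add, smul_smul]
      rw [add_assoc, ← add_assoc (_ • Z), ← add_smul]
      have e1 : 2 ^ (j + 1) + 2 ^ (j + 1) = 2 ^ (j + 1 + 1) := by ring
      have e2 : 2 ^ (j + 1) * 2 ^ (j + 1) = 2 ^ (j + 1 + 1) * 2 ^ j := by ring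
      rw [e1, e2]
  obtain ⟨Z, hZ⟩ := hind k
  refine ⟨k, ?_⟩
  apply Units.ext
  rw [Units.val_pow_eq_pow_val, hZ, Units.val_one]
  have h0 : ((2 ^ (k + 1) : ℕ) : RR k) = 0 :=
    (ZMod.natCast_eq_zero_iff _ _).mpr (pow_dvd_pow 2 (by omega))
  have : (2 ^ (k + 1) : ℕ) • Z = 0 := by
    ext i j
    simp only [Matrix.smul_apply, nsmul_eq_mul, h0, zero_mul, Matrix.zero_apply]
  rw [this, add_zero]

theorem sylow_three (k : ℕ) (hk : 1 ≤ k) (P : Sylow 3 (GG k)) : Nat.card (P : Subgroup (GG k)) ∣ 3 := by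
  classical
  haveI : Fact (Nat.Prime 2) := ⟨Nat.prime_two⟩
  haveI : Fact (Nat.Prime 3) := ⟨Nat.prime_three⟩
  let ρ : (GG k) →* GL (Fin 2) (ZMod 2) :=
    Matrix.GeneralLinearGroup.map (ZMod.castHom (dvd_pow_self 2 (by omega : k ≠ 0)) (ZMod 2))
  have hker : IsPGroup 2 ρ.ker := by
    rintro ⟨g, hg⟩
    obtain ⟨n, hn⟩ := ker_two k hk g hg
    exact ⟨n, Subtype.ext (by simpa using hn)⟩
  have hdisj : Disjoint (P : Subgroup (GG k)) ρ.ker :=
    IsPGroup.disjoint_of_ne 3 2 (by norm_num) _ _ P.isPGroup' hker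
  have hinj : Function.Injective (ρ.comp (P : Subgroup (GG k)).subtype) := by
    rw [injective_iff_map_eq_one]
    rintro ⟨x, hx⟩ h
    exact Subtype.ext (Subgroup.disjoint_def.mp hdisj hx h)
  have hd := Subgroup.card_dvd_of_injective _ hinj
  have hc : Nat.card (GL (Fin 2) (ZMod 2)) = 6 := by
    rw [Matrix.card_GL_field]
    simp [Fin.prod_univ_two, ZMod.card]
  rw [hc] at hd
  obtain ⟨n, hn⟩ := IsPGroup.iff_card.mp P.isPGroup'
  rw [hn] at hd ⊢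
  rcases n with _ | _ | n
  · simp
  · simp
  · exfalso
    have : 3 ^ 2 ∣ 6 := (pow_dvd_pow 3 (by omega)).trans hd
    omega

theorem exists_conj_t0 (k : ℕ) (hk : 1 ≤ k) (H : Subgroup (GG k))
    (hH : Nonempty (↥H ≃* ↥(alternatingGroup (Fin 4)))) :
    ∃ g : GG k, t0 k ∈ H.map (MulAut.conj g).toMonoidHom := by
  classical
  haveI : Fact (Nat.Prime 3) := ⟨Nat.prime_three⟩
  obtain ⟨ψ⟩ := hH
  obtain ⟨t, ht3, ht1⟩ := F4
  have hsyl : ∀ x : GG k, x ^ 3 = 1 → x ≠ 1 → ∃ P : Sylow 3 (GG k), (P : Subgroup (GG k)) = Subgroup.zpowers x := by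
    intro x hx3 hx1
    have hord : orderOf x = 3 := orderOf_eq_prime hx3 hx1
    have hcard : Nat.card (Subgroup.zpowers x) = 3 := by rw [Nat.card_zpowers, hord]
    have hp : IsPGroup 3 (Subgroup.zpowers x) := IsPGroup.of_card (n := 1) (by simpa using hcard)
    obtain ⟨P, hP⟩ := hp.exists_le_sylow
    refine ⟨P, (Subgroup.eq_of_le_of_card_ge hP ?_).symm⟩
    rw [hcard]
    exact Nat.le_of_dvd (by norm_num) (sylow_three k hk P)
  have ht₁3 : ((ψ.symm t : H) : GG k) ^ 3 = 1 := by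
    have h1 : (ψ.symm t) ^ 3 = 1 := by rw [← map_pow, ht3, map_one]
    exact congrArg Subtype.val h1
  have ht₁1 : ((ψ.symm t : H) : GG k) ≠ 1 := by
    intro h
    have h1 : ψ.symm t = 1 := Subtype.ext h
    apply ht1
    have h2 := congrArg ψ h1
    simpa using h2
  obtain ⟨P₁, hP₁⟩ := hsyl _ ht₁3 ht₁1
  obtain ⟨P₀, hP₀⟩ := hsyl _ (t0_pow3 k) (t0_ne_one k hk)
  obtain ⟨g, hg⟩ := Cfsg.Agent.Lib.PResid.exists_conj_sylow P₁ P₀
  refine ⟨g, ?_⟩
  have h1 : t0 k ∈ (P₀ : Subgroup (GG k)) := by rw [hP₀]; exact Subgroup.mem_zpowers _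
  rw [hg, hP₁] at h1
  refine Subgroup.map_mono ?_ h1
  rw [Subgroup.zpowers_le]
  exact (ψ.symm t).2

/-- For k ≥ 2, any two subgroups of GL₂(ℤ/2ᵏℤ) (the automorphism group of the homocyclic group ℤ/2ᵏ × ℤ/2ᵏ) that are isomorphic to the alternating group of degree 4 are conjugate. -/
theorem result (k : ℕ) (hk : 2 ≤ k) (H₁ H₂ : Subgroup (GL (Fin 2) (ZMod (2 ^ k)))) (h₁ : Nonempty (↥H₁ ≃* ↥(alternatingGroup (Fin 4)))) (h₂ : Nonempty (↥H₂ ≃* ↥(alternatingGroup (Fin 4)))) : ∃ g : GL (Fin 2) (ZMod (2 ^ k)), H₂ = H₁.map (MulAut.conj g).toMonoidHom := by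
  have hk1 : 1 ≤ k := by omega
  obtain ⟨g₁, hg₁⟩ := exists_conj_t0 k hk1 H₁ h₁
  obtain ⟨g₂, hg₂⟩ := exists_conj_t0 k hk1 H₂ h₂
  have hiso : ∀ (H : Subgroup (GG k)) (g : GG k), Nonempty (↥H ≃* ↥(alternatingGroup (Fin 4))) →
      Nonempty (↥(H.map (MulAut.conj g).toMonoidHom) ≃* ↥(alternatingGroup (Fin 4))) := by
    rintro H g ⟨e⟩
    exact ⟨(Subgroup.equivMapOfInjective H _ (MulAut.conj g).injective).symm.trans e⟩
  have heq : H₁.map (MulAut.conj g₁).toMonoidHom = H₂.map (MulAut.conj g₂).toMonoidHom :=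
    le_antisymm (core k hk1 _ _ (hiso _ _ h₁) (hiso _ _ h₂) hg₁ hg₂)
      (core k hk1 _ _ (hiso _ _ h₂) (hiso _ _ h₁) hg₂ hg₁)
  refine ⟨g₂⁻¹ * g₁, ?_⟩
  have h3 : H₁.map (MulAut.conj (g₂⁻¹ * g₁)).toMonoidHom =
      (H₁.map (MulAut.conj g₁).toMonoidHom).map (MulAut.conj g₂⁻¹).toMonoidHom :=
    Cfsg.Agent.Lib.LocalLarge.cj_mul _ _ _
  rw [h3, heq]
  exact (Cfsg.Agent.Lib.LocalLarge.cj_inv_cj _ _).symm

end Cfsg.Agent.S2874
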