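import Mathlib
import Cfsg.Statements.S2879
import Cfsg.Agent.Lib.PCore
import Cfsg.Agent.Lib.SL23Sec
import Cfsg.Agent.Lib.Q8Aut
import Cfsg.Agent.Lib.QuatHom

set_option autoImplicit false
set_option linter.all false
open Cfsg

namespace Cfsg.Agent.S2879

open Cfsg.Agent.Lib Cfsg.Agent.Lib.PCore

section Dat

variable {X : Type*} [Group X] [Finite X]

/-- Abstract data of a dihedral or semidihedral group. -/
structure Dat (n m : ℕ) (a t₀ : X) : Prop where
  hn : 2 ≤ n
  hc : Nat.card X = 2 ^ (n + 1)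
  ha : orderOf a = 2 ^ n
  ht : t₀ * t₀ = 1
  hcj : t₀ * a * t₀⁻¹ = a ^ m
  h1 : 2 ^ (n - 1) ∣ m + 1
  h2 : 4 ∣ m + 1
  h3 : ∃ u, Odd u ∧ m = 1 + 2 * u

variable {n m : ℕ} {a t₀ : X}

theorem Dat.conj_pow (D : Dat n m a t₀) (k : ℕ) : t₀ * a ^ k * t₀⁻¹ = a ^ (m * k) := by
  rw [← _root_.conj_pow, D.hcj, pow_mul]

theorem Dat.inv_t (D : Dat n m a t₀) : t₀⁻¹ = t₀ := inv_eq_of_mul_eq_one_left D.ht

theorem Dat.index (D : Dat n m a t₀) : (Subgroup.zpowers a).index = 2 := by
  have h := Subgroup.card_mul_index (Subgroup.zpowers a)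
  rw [Nat.card_zpowers, D.ha, D.hc, pow_succ] at h
  exact Nat.eq_of_mul_eq_mul_left (by positivity) h

theorem Dat.pow_dvd (D : Dat n m a t₀) {k : ℕ} (h : a ^ k = 1) : 2 ^ n ∣ k := by
  rw [← D.ha]; exact orderOf_dvd_of_pow_eq_one h

theorem Dat.a_pow (D : Dat n m a t₀) : a ^ 2 ^ n = 1 := by
  rw [← D.ha]; exact pow_orderOf_eq_one a

theorem Dat.not_comm (D : Dat n m a t₀) : t₀ * a ≠ a * t₀ := by
  intro h
  obtain ⟨u, hu, hm⟩ := D.h3
  have h1 : t₀ * a * t₀⁻¹ = a := by rw [h]; group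
  rw [D.hcj] at h1
  have h2 : a ^ (2 * u) = 1 := by
    have : a ^ (1 + 2 * u) = a * a ^ (2 * u) := by rw [pow_add, pow_one]
    rw [hm, this] at h1
    exact mul_eq_left.mp h1
  have h3 := D.pow_dvd h2
  have hn := D.hn
  obtain ⟨k, rfl⟩ : ∃ k, n = k + 2 := ⟨n - 2, by omega⟩
  have h4 : (2 : ℕ) ^ (k + 2) = 2 * (2 * 2 ^ k) := by ring
  rw [h4] at h3
  have h5 : 2 * 2 ^ k ∣ u := (Nat.mul_dvd_mul_iff_left (by norm_num)).1 h3
  have h6 : 2 ∣ u := Dvd.dvd.trans (Dvd.intro _ rfl) h5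
  rcases hu with ⟨w, rfl⟩
  omega

theorem Dat.t_not_mem (D : Dat n m a t₀) : t₀ ∉ Subgroup.zpowers a := by
  intro h
  obtain ⟨k, rfl⟩ := Subgroup.mem_zpowers_iff.mp h
  apply D.not_comm
  exact Commute.zpow_left (Commute.refl a) k

theorem Dat.exists_form (D : Dat n m a t₀) {t : X} (ht : t ∉ Subgroup.zpowers a) :
    ∃ k : ℕ, t = t₀ * a ^ k := by
  have hi := D.index
  have h1 : t₀⁻¹ * t ∈ Subgroup.zpowers a := by
    rw [Subgroup.mul_mem_iff_of_index_two hi]
    constructor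
    · intro h
      exact absurd (by simpa using Subgroup.inv_mem _ h) D.t_not_mem
    · intro h
      exact absurd h ht
  rw [← mem_powers_iff_mem_zpowers] at h1
  obtain ⟨k, hk⟩ := h1
  refine ⟨k, ?_⟩
  simp only at hk
  rw [hk]; group

theorem Dat.mul_self_form (D : Dat n m a t₀) (k : ℕ) :
    (t₀ * a ^ k) * (t₀ * a ^ k) = a ^ (k * (m + 1)) := by
  have h1 : t₀ * a ^ k * t₀ = a ^ (m * k) := by
    have := D.conj_pow k
    rwa [D.inv_t] at this
  calc (t₀ * a ^ k) * (t₀ * a ^ k) = (t₀ * a ^ k * t₀) * a ^ k := by group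
    _ = a ^ (m * k) * a ^ k := by rw [h1]
    _ = a ^ (k * (m + 1)) := by rw [← pow_add]; ring_nf

theorem Dat.f1 (D : Dat n m a t₀) {t : X} (ht : t ∉ Subgroup.zpowers a) : t ^ 4 = 1 := by
  obtain ⟨k, rfl⟩ := D.exists_form ht
  have h1 : (t₀ * a ^ k) ^ 4 = ((t₀ * a ^ k) * (t₀ * a ^ k)) * ((t₀ * a ^ k) * (t₀ * a ^ k)) := by
    simp only [pow_succ, pow_zero, one_mul, mul_assoc]
  rw [h1, D.mul_self_form, ← pow_add]
  obtain ⟨w, hw⟩ := D.h1
  have hn := D.hn
  obtain ⟨l, rfl⟩ : ∃ l, n = l + 1 := ⟨n - 1, by omega⟩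
  rw [hw]
  have : k * (2 ^ (l + 1 - 1) * w) + k * (2 ^ (l + 1 - 1) * w) = 2 ^ (l + 1) * (k * w) := by
    simp only [Nat.add_sub_cancel]
    ring
  rw [this, pow_mul, D.a_pow, one_pow]

theorem Dat.f2 (D : Dat n m a t₀) {t : X} (ht : t ∉ Subgroup.zpowers a) {c : X}
    (hc : c ∈ Subgroup.zpowers a) (hc4 : c ^ 4 = 1) : t * c * t⁻¹ = c⁻¹ := by
  obtain ⟨k, rfl⟩ := D.exists_form ht
  rw [← mem_powers_iff_mem_zpowers] at hc
  obtain ⟨j, rfl⟩ := hc
  simp only
  have h1 : (a ^ j) ^ (m + 1) = 1 := by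
    obtain ⟨w, hw⟩ := D.h2
    rw [hw, pow_mul, hc4, one_pow]
  have h2 : (a ^ j) ^ m = (a ^ j)⁻¹ := by
    rw [pow_succ] at h1
    exact eq_inv_of_mul_eq_one_left h1
  rw [← h2, ← pow_mul, mul_comm j m, ← D.conj_pow]
  have e : a ^ k * a ^ j * (a ^ k)⁻¹ = a ^ j := by
    rw [← pow_add, add_comm, pow_add]; group
  calc t₀ * a ^ k * a ^ j * (t₀ * a ^ k)⁻¹ = t₀ * (a ^ k * a ^ j * (a ^ k)⁻¹) * t₀⁻¹ := by group
    _ = t₀ * a ^ j * t₀⁻¹ := by rw [e]

/-- the involution of the cyclic subgroup -/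
def zz (n : ℕ) (a : X) : X := a ^ 2 ^ (n - 1)

theorem Dat.zz_mul_self (D : Dat n m a t₀) : zz n a * zz n a = 1 := by
  unfold zz
  rw [← pow_add]
  have hn := D.hn
  obtain ⟨l, rfl⟩ : ∃ l, n = l + 1 := ⟨n - 1, by omega⟩
  simp only [Nat.add_sub_cancel]
  rw [← two_mul, ← pow_succ', D.a_pow]

theorem Dat.zz_ne_one (D : Dat n m a t₀) : zz n a ≠ 1 := by
  intro h
  have h1 := D.pow_dvd h
  have hn := D.hn
  have := Nat.le_of_dvd (by positivity) h1
  have h2 := Nat.pow_lt_pow_right (a := 2) (by norm_num) (show n - 1 < n by omega)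
  omega

theorem Dat.eq_of_sq (D : Dat n m a t₀) {c : X} (hc : c ∈ Subgroup.zpowers a) (hcc : c * c = 1) :
    c = 1 ∨ c = zz n a := by
  rw [← mem_powers_iff_mem_zpowers] at hc
  obtain ⟨j, rfl⟩ := hc
  simp only at hcc ⊢
  have h1 : a ^ (2 * j) = 1 := by rw [two_mul, pow_add]; exact hcc
  have h2 := D.pow_dvd h1
  have hn := D.hn
  obtain ⟨l, rfl⟩ : ∃ l, n = l + 1 := ⟨n - 1, by omega⟩
  rw [pow_succ', Nat.mul_dvd_mul_iff_left (by norm_num)] at h2
  obtain ⟨w, rfl⟩ := h2
  have hz : zz (l + 1) a * zz (l + 1) a = 1 := D.zz_mul_self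
  have e : a ^ (2 ^ l * w) = (zz (l + 1) a) ^ w := by
    unfold zz
    rw [← pow_mul]
    simp
  rw [e]
  rcases Nat.even_or_odd w with ⟨v, rfl⟩ | ⟨v, rfl⟩
  · left
    rw [pow_add, ← Commute.mul_pow (Commute.refl _), hz, one_pow]
  · right
    rw [pow_succ, pow_mul, pow_two, hz, one_pow, one_mul]

theorem Dat.zz_mem (D : Dat n m a t₀) : zz n a ∈ Subgroup.zpowers a := by
  unfold zz
  exact Subgroup.pow_mem _ (Subgroup.mem_zpowers a) _

theorem Dat.zz_central (D : Dat n m a t₀) (x : X) : zz n a * x = x * zz n a := by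
  have h1 : zz n a * a = a * zz n a := by
    unfold zz
    exact (Commute.pow_left (Commute.refl a) _)
  have h2 : ∀ k : ℕ, zz n a * a ^ k = a ^ k * zz n a := by
    intro k
    exact (Commute.pow_right (show Commute (zz n a) a from h1) k)
  have h3 : zz n a * t₀ = t₀ * zz n a := by
    have e1 : t₀ * zz n a * t₀⁻¹ = zz n a := by
      unfold zz
      rw [D.conj_pow, mul_comm, pow_mul]
      obtain ⟨u, hu, hm⟩ := D.h3
      have hz : a ^ 2 ^ (n - 1) * a ^ 2 ^ (n - 1) = 1 := D.zz_mul_self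
      rw [hm, pow_add, pow_one, pow_mul, pow_two, hz, one_pow, mul_one]
    calc zz n a * t₀ = (t₀ * zz n a * t₀⁻¹) * t₀ := by rw [e1]
      _ = t₀ * zz n a := by group
  by_cases hx : x ∈ Subgroup.zpowers a
  · rw [← mem_powers_iff_mem_zpowers] at hx
    obtain ⟨j, rfl⟩ := hx
    exact h2 j
  · obtain ⟨k, rfl⟩ := D.exists_form hx
    rw [← mul_assoc, h3, mul_assoc, h2, mul_assoc]

theorem Dat.eq_of_central (D : Dat n m a t₀) {c : X} (hc : ∀ x, c * x = x * c) :
    c = 1 ∨ c = zz n a := by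
  by_cases hm : c ∈ Subgroup.zpowers a
  · apply D.eq_of_sq hm
    rw [← mem_powers_iff_mem_zpowers] at hm
    obtain ⟨j, rfl⟩ := hm
    simp only at hc ⊢
    obtain ⟨u, hu, hmm⟩ := D.h3
    have h1 := D.conj_pow j
    have h2 : t₀ * a ^ j * t₀⁻¹ = a ^ j := by
      rw [(hc t₀).symm]; group
    rw [h2, hmm, one_add_mul, pow_add] at h1
    have h3 : a ^ (2 * u * j) = 1 := by
      exact (mul_eq_left.mp h1.symm)
    have h4 := D.pow_dvd h3
    have h5 : Nat.Coprime (2 ^ n) u := by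
      apply Nat.Coprime.pow_left
      exact (Nat.coprime_two_left).2 hu
    have h6 : 2 ^ n ∣ 2 * j := by
      have e : 2 * u * j = u * (2 * j) := by ring
      rw [e] at h4
      exact h5.dvd_of_dvd_mul_left h4
    obtain ⟨w, hw⟩ := h6
    rw [← pow_add, ← two_mul, hw, pow_mul, D.a_pow, one_pow]
  · exfalso
    obtain ⟨k, rfl⟩ := D.exists_form hm
    apply D.not_comm
    have h1 := hc a
    have h2 : a ^ k * a = a * a ^ k := (Commute.pow_left (Commute.refl a) _)
    have h3 : (t₀ * a) * a ^ k = (a * t₀) * a ^ k := by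
      calc (t₀ * a) * a ^ k = t₀ * (a * a ^ k) := by group
        _ = t₀ * (a ^ k * a) := by rw [h2]
        _ = a * (t₀ * a ^ k) := by rw [← mul_assoc, h1]
        _ = (a * t₀) * a ^ k := by group
    exact mul_right_cancel h3

theorem Dat.f4 (D : Dat n m a t₀) {t t' : X} (ht : t ∉ Subgroup.zpowers a)
    (ht' : t' ∉ Subgroup.zpowers a) : t⁻¹ * t' ∈ Subgroup.zpowers a := by
  have hi := D.index
  rw [Subgroup.mul_mem_iff_of_index_two hi]
  constructor
  · intro h
    exact absurd (by simpa using Subgroup.inv_mem _ h) ht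
  · intro h
    exact absurd h ht'

theorem exists_dat_of_qd (h : IsQuasiDihedral X) : ∃ n m : ℕ, ∃ a t₀ : X, Dat n m a t₀ := by
  obtain ⟨n, hn, hc, x, y, hx, hy, hxy⟩ := h
  obtain ⟨k, rfl⟩ : ∃ k, n = k + 3 := ⟨n - 3, by omega⟩
  refine ⟨k + 3, 2 ^ (k + 3 - 1) - 1, x, y, ⟨by omega, hc, hx, ?_, hxy, ?_, ?_, ?_⟩⟩
  · rw [← pow_two, ← hy]; exact pow_orderOf_eq_one y
  · have : 1 ≤ 2 ^ (k + 3 - 1) := Nat.one_le_two_pow
    rw [Nat.sub_add_cancel this]
  · have : 1 ≤ 2 ^ (k + 3 - 1) := Nat.one_le_two_pow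
    rw [Nat.sub_add_cancel this]
    have e : k + 3 - 1 = k + 2 := by omega
    rw [e, pow_add]
    exact Dvd.intro_left _ rfl
  · refine ⟨2 * 2 ^ k - 1, ?_, ?_⟩
    · have : 1 ≤ 2 ^ k := Nat.one_le_two_pow
      exact ⟨2 ^ k - 1, by omega⟩
    · have e : k + 3 - 1 = k + 2 := by omega
      rw [e, pow_add]
      have : 1 ≤ 2 ^ k := Nat.one_le_two_pow
      omega

theorem exists_dat_of_dih (hX : IsPGroup 2 X) {N : ℕ} (hN : 4 ≤ N)
    (e : Nonempty (X ≃* DihedralGroup N)) : ∃ n m : ℕ, ∃ a t₀ : X, Dat n m a t₀ := by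
  obtain ⟨e⟩ := e
  obtain ⟨l, hl⟩ := IsPGroup.iff_card.mp hX
  have hc : Nat.card X = 2 * N := by
    rw [Nat.card_congr e.toEquiv, DihedralGroup.nat_card]
  rw [hc] at hl
  -- `N` is a power of two
  obtain ⟨s, rfl⟩ : ∃ s, l = s + 1 := by
    rcases l with _ | s
    · omega
    · exact ⟨s, rfl⟩
  have hNe : N = 2 ^ s := by
    rw [pow_succ'] at hl
    omega
  subst hNe
  have hs : 2 ≤ s := by
    by_contra hs
    have : s = 0 ∨ s = 1 := by omega
    rcases this with rfl | rfl <;> omega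
  haveI : NeZero (2 ^ s) := ⟨by positivity⟩
  have h1m : 1 ≤ 2 ^ s := Nat.one_le_two_pow
  refine ⟨s, 2 ^ s - 1, e.symm (DihedralGroup.r 1), e.symm (DihedralGroup.sr 0), ⟨hs, ?_, ?_, ?_, ?_, ?_, ?_, ?_⟩⟩
  · rw [hc]; rw [pow_succ]; ring
  · rw [MulEquiv.orderOf_eq, DihedralGroup.orderOf_r_one]
  · rw [← map_mul]
    simp
  · rw [← map_inv, ← map_mul, ← map_mul, ← map_pow]
    congr 1
    rw [DihedralGroup.r_one_pow]
    simp
  · rw [Nat.sub_add_cancel h1m]
    exact Nat.pow_dvd_pow 2 (by omega)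
  · rw [Nat.sub_add_cancel h1m]
    exact (pow_dvd_pow 2 hs)
  · obtain ⟨k, rfl⟩ : ∃ k, s = k + 2 := ⟨s - 2, by omega⟩
    refine ⟨2 * 2 ^ k - 1, ?_, ?_⟩
    · have : 1 ≤ 2 * 2 ^ k := by
        have : 1 ≤ 2 ^ k := Nat.one_le_two_pow
        omega
      refine ⟨2 ^ k - 1, ?_⟩
      have : 1 ≤ 2 ^ k := Nat.one_le_two_pow
      omega
    · rw [pow_add]
      have : 1 ≤ 2 ^ k := Nat.one_le_two_pow
      omega

end Dat

section Main

variable {G : Type*} [Group G] [Finite G]

/-- Transported data. -/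
structure TD (T : Subgroup G) (a z : G) : Prop where
  haT : a ∈ T
  hzA : z ∈ Subgroup.zpowers a
  hz1 : z ≠ 1
  hzC : z ∈ T ⊓ Subgroup.centralizer (T : Set G)
  hsq : ∀ c ∈ Subgroup.zpowers a, c * c = 1 → c = 1 ∨ c = z
  f1 : ∀ t ∈ T, t ∉ Subgroup.zpowers a → t ^ 4 = 1
  f2 : ∀ t ∈ T, t ∉ Subgroup.zpowers a → ∀ c ∈ Subgroup.zpowers a, c ^ 4 = 1 → t * c * t⁻¹ = c⁻¹
  f3 : ∀ c ∈ T ⊓ Subgroup.centralizer (T : Set G), c = 1 ∨ c = z
  f4 : ∀ t ∈ T, ∀ t' ∈ T, t ∉ Subgroup.zpowers a → t' ∉ Subgroup.zpowers a →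
    t⁻¹ * t' ∈ Subgroup.zpowers a

theorem mem_zp {T : Subgroup G} (a t : T) : (t : G) ∈ Subgroup.zpowers (a : G) ↔ t ∈ Subgroup.zpowers a := by
  constructor
  · rintro ⟨k, hk⟩
    exact ⟨k, Subtype.ext (by simpa using hk)⟩
  · rintro ⟨k, hk⟩
    exact ⟨k, by rw [← hk]; simp⟩

theorem exists_TD {T : Subgroup G} {n m : ℕ} {a t₀ : T} (D : Dat n m a t₀) :
    TD T (a : G) ((zz n a : T) : G) := by
  refine ⟨a.2, (mem_zp a (zz n a)).2 D.zz_mem, ?_, ?_, ?_, ?_, ?_, ?_, ?_⟩
  · intro h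
    exact D.zz_ne_one (Subtype.ext h)
  · refine ⟨(zz n a).2, Subgroup.mem_centralizer_iff.2 ?_⟩
    intro x hx
    exact congrArg Subtype.val (D.zz_central ⟨x, hx⟩).symm
  · intro c hc hcc
    have hcT : c ∈ T := (Subgroup.zpowers_le.2 a.2) hc
    have h1 : (⟨c, hcT⟩ : T) ∈ Subgroup.zpowers a := (mem_zp a ⟨c, hcT⟩).1 hc
    rcases D.eq_of_sq h1 (Subtype.ext hcc) with h | h
    · exact Or.inl (congrArg Subtype.val h)
    · exact Or.inr (congrArg Subtype.val h)
  · intro t ht hn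
    have h1 : (⟨t, ht⟩ : T) ∉ Subgroup.zpowers a := fun h => hn ((mem_zp a ⟨t, ht⟩).2 h)
    exact congrArg Subtype.val (D.f1 h1)
  · intro t ht hn c hc hc4
    have hcT : c ∈ T := (Subgroup.zpowers_le.2 a.2) hc
    have h1 : (⟨t, ht⟩ : T) ∉ Subgroup.zpowers a := fun h => hn ((mem_zp a ⟨t, ht⟩).2 h)
    have h2 : (⟨c, hcT⟩ : T) ∈ Subgroup.zpowers a := (mem_zp a ⟨c, hcT⟩).1 hc
    exact congrArg Subtype.val (D.f2 h1 h2 (Subtype.ext hc4))
  · rintro c ⟨hcT, hcC⟩
    have h1 : ∀ x : T, (⟨c, hcT⟩ : T) * x = x * ⟨c, hcT⟩ := by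
      intro x
      apply Subtype.ext
      exact (Subgroup.mem_centralizer_iff.1 hcC x x.2).symm
    rcases D.eq_of_central h1 with h | h
    · exact Or.inl (congrArg Subtype.val h)
    · exact Or.inr (congrArg Subtype.val h)
  · intro t ht t' ht' hn hn'
    have h1 : (⟨t, ht⟩ : T) ∉ Subgroup.zpowers a := fun h => hn ((mem_zp a ⟨t, ht⟩).2 h)
    have h2 : (⟨t', ht'⟩ : T) ∉ Subgroup.zpowers a := fun h => hn' ((mem_zp a ⟨t', ht'⟩).2 h)
    exact (mem_zp a _).2 (D.f4 h1 h2)

theorem fix_of_pow {x y : G} {r b : ℕ} (hr : Odd r) (hy : y ^ r = 1)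
    (h : y ^ (2 ^ b) * x = x * y ^ (2 ^ b)) : y * x = x * y := by
  by_cases hr1 : r = 1
  · subst hr1
    rw [pow_one] at hy
    simp [hy]
  have hr2 : 1 < r := by
    rcases hr with ⟨w, rfl⟩
    omega
  have hc : Nat.Coprime (2 ^ b) r := Nat.Coprime.pow_left _ (Nat.coprime_two_left.2 hr)
  obtain ⟨s, hs⟩ := Nat.exists_mul_mod_eq_one_of_coprime hc hr2
  have h1 : y = (y ^ (2 ^ b)) ^ s := by
    rw [← pow_mul, pow_eq_pow_mod _ hy, hs.2, pow_one]
  rw [h1]
  exact (Commute.pow_left (show Commute (y ^ (2 ^ b)) x from h) s)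

theorem two_elt_eq_one {c : G} {r k : ℕ} (hr : Odd r) (h1 : c ^ r = 1) (h2 : c ^ 2 ^ k = 1) : c = 1 := by
  have h3 := orderOf_dvd_of_pow_eq_one h1
  have h4 := orderOf_dvd_of_pow_eq_one h2
  have hc : Nat.Coprime (2 ^ k) r := Nat.Coprime.pow_left _ (Nat.coprime_two_left.2 hr)
  have := Nat.eq_one_of_dvd_coprimes hc h4 h3
  exact orderOf_eq_one_iff.1 this

theorem cyc_odd {g y : G} {r e : ℕ} (hr : Odd r) (hy : y ^ r = 1) (hg : g ^ 2 ^ e = 1)
    (hm : y * g * y⁻¹ ∈ Subgroup.zpowers g) : y * g * y⁻¹ = g := by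
  set C : Subgroup G := Subgroup.zpowers g with hC
  have hn : y ∈ Subgroup.normalizer (C : Set G) := by
    apply ExtraGlue.mem_normalizer_of_forall'
    rintro u ⟨k, rfl⟩
    show y * g ^ k * y⁻¹ ∈ C
    rw [← conj_zpow]
    exact zpow_mem hm k
  have hP : IsPGroup 2 C := by
    rw [isPGroup_iff_pow_pow_eq_one]
    rintro ⟨u, k, rfl⟩
    refine ⟨e, Subtype.ext ?_⟩
    simp only [SubgroupClass.coe_pow, OneMemClass.coe_one]
    show (g ^ k) ^ 2 ^ e = 1
    rw [← zpow_natCast, ← zpow_mul, mul_comm, zpow_mul, zpow_natCast, hg, one_zpow]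
  obtain ⟨k, hk⟩ := IsPGroup.iff_card.mp hP
  let f : MulAut C := Subgroup.normalizerMonoidHom C ⟨y, hn⟩
  have hf : f ^ r = 1 := by
    show (Subgroup.normalizerMonoidHom C ⟨y, hn⟩) ^ r = 1
    rw [← map_pow]
    have : (⟨y, hn⟩ : Subgroup.normalizer (C : Set G)) ^ r = 1 := Subtype.ext hy
    rw [this, map_one]
  haveI : IsCyclic C := Subgroup.isCyclic_zpowers g
  have hcard : Nat.card (MulAut C) = Nat.totient (2 ^ k) := by
    rw [IsCyclic.card_mulAut, hk]
  obtain ⟨t, ht⟩ : ∃ t, Nat.card (MulAut C) = 2 ^ t := by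
    rcases k with _ | k
    · exact ⟨0, by simp [hcard]⟩
    · exact ⟨k, by rw [hcard, Nat.totient_prime_pow Nat.prime_two (by omega)]; simp⟩
  have h3 : f ^ 2 ^ t = 1 := by rw [← ht]; exact pow_card_eq_one'
  have hf1 : f = 1 := two_elt_eq_one hr hf h3
  have h4 := congrArg (fun φ : MulAut C => ((φ ⟨g, Subgroup.mem_zpowers g⟩ : C) : G)) hf1
  exact h4

theorem exists_y (T : Sylow 2 G) (hne : (T : Subgroup G) ≠ ⊤)
    {Q : Subgroup G} (hQ2 : IsPGroup 2 Q) (hC : Subgroup.centralizer (Q : Set G) ≤ Q) :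
    ∃ y : G, ∃ r : ℕ, Odd r ∧ y ^ r = 1 ∧ ∃ q ∈ Q, y * q * y⁻¹ ≠ q := by
  by_contra hcon
  push Not at hcon
  apply hne
  have hP : IsPGroup 2 G := by
    intro g
    have hg0 : orderOf g ≠ 0 := (orderOf_pos g).ne'
    obtain ⟨e, r, hr, he⟩ := Nat.exists_eq_two_pow_mul_odd hg0
    have h1 : (g ^ 2 ^ e) ^ r = 1 := by
      rw [← pow_mul, ← he, pow_orderOf_eq_one]
    have h2 : g ^ 2 ^ e ∈ Subgroup.centralizer (Q : Set G) := by
      rw [Subgroup.mem_centralizer_iff]
      intro q hq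
      have h3 := hcon _ r hr h1 q hq
      calc q * g ^ 2 ^ e = (g ^ 2 ^ e * q * (g ^ 2 ^ e)⁻¹) * g ^ 2 ^ e := by rw [h3]
        _ = g ^ 2 ^ e * q := by group
    have h3 := hC h2
    obtain ⟨k, hk⟩ := hQ2 ⟨_, h3⟩
    have h4 : (g ^ 2 ^ e) ^ 2 ^ k = 1 := congrArg Subtype.val hk
    have h5 := two_elt_eq_one hr h1 h4
    exact ⟨e, h5⟩
  exact ((T.is_maximal' (hP.to_subgroup ⊤) le_top)).symm ▸ rfl

theorem final_aux (Q : Subgroup G) [Q.Normal] (hQ2 : IsPGroup 2 Q)
    (hC : Subgroup.centralizer (Q : Set G) ≤ Q) {i j y : G} {r : ℕ} (hi : i ∈ Q) (hj : j ∈ Q)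
    (hi4 : i ^ 4 = 1) (hii : i * i ≠ 1) (hjj : j * j = i * i) (hji : j * i * j⁻¹ = i⁻¹)
    (hyi : y * i * y⁻¹ = j) (hyj : y * j * y⁻¹ = i * j) (hr : Odd r) (hy : y ^ r = 1)
    (hform : ∀ q ∈ Q, q = 1 ∨ q = i ∨ q = i * i ∨ q = i⁻¹ ∨ q = j ∨ q = j * i ∨ q = j * (i * i) ∨ q = j * i⁻¹) :
    ∃ U : Subgroup G, U.Normal ∧ Nonempty (↥U ≃* Matrix.SpecialLinearGroup (Fin 2) (ZMod 3)) := by
  classical
  have e1 : y * i = j * y := by rw [← hyi]; group
  have e2 : y * j = i * j * y := by rw [← hyj]; group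
  have e3 : j * i = i⁻¹ * j := by rw [← hji]; group
  have e4 : i⁻¹ * (i * i) = i := by group
  have hx3i : y ^ 3 * i = i * y ^ 3 := by
    calc y ^ 3 * i = y * y * (y * i) := by simp only [pow_succ, pow_zero, one_mul, mul_assoc]
      _ = y * y * (j * y) := by rw [e1]
      _ = y * (y * j) * y := by group
      _ = y * (i * j * y) * y := by rw [e2]
      _ = (y * i) * j * y * y := by group
      _ = (j * y) * j * y * y := by rw [e1]
      _ = j * (y * j) * y * y := by group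
      _ = j * (i * j * y) * y * y := by rw [e2]
      _ = (j * i) * j * y ^ 3 := by simp only [pow_succ, pow_zero, one_mul, mul_assoc]
      _ = (i⁻¹ * j) * j * y ^ 3 := by rw [e3]
      _ = i⁻¹ * (j * j) * y ^ 3 := by group
      _ = i * y ^ 3 := by rw [hjj, e4]
  have hx3j : y ^ 3 * j = j * y ^ 3 := by
    calc y ^ 3 * j = y ^ 3 * (y * i * y⁻¹) := by rw [hyi]
      _ = y * (y ^ 3 * i) * y⁻¹ := by group
      _ = y * (i * y ^ 3) * y⁻¹ := by rw [hx3i]
      _ = (y * i * y⁻¹) * y ^ 3 := by group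
      _ = j * y ^ 3 := by rw [hyi]
  have hCy : ∀ q ∈ Q, q ∈ Subgroup.centralizer ({y ^ 3} : Set G) := by
    have h1 : i ∈ Subgroup.centralizer ({y ^ 3} : Set G) := by
      rw [Subgroup.mem_centralizer_singleton_iff]; exact hx3i.symm
    have h2 : j ∈ Subgroup.centralizer ({y ^ 3} : Set G) := by
      rw [Subgroup.mem_centralizer_singleton_iff]; exact hx3j.symm
    intro q hq
    rcases hform q hq with rfl | rfl | rfl | rfl | rfl | rfl | rfl | rfl
    · exact Subgroup.one_mem _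
    · exact h1
    · exact mul_mem h1 h1
    · exact inv_mem h1
    · exact h2
    · exact mul_mem h2 h1
    · exact mul_mem h2 (mul_mem h1 h1)
    · exact mul_mem h2 (inv_mem h1)
  have hy3C : y ^ 3 ∈ Subgroup.centralizer (Q : Set G) := by
    rw [Subgroup.mem_centralizer_iff]
    intro q hq
    have := hCy q hq
    rw [Subgroup.mem_centralizer_singleton_iff] at this
    exact this
  have hy3Q : y ^ 3 ∈ Q := hC hy3C
  have hy3 : y ^ 3 = 1 := by
    obtain ⟨k, hk⟩ := hQ2 ⟨_, hy3Q⟩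
    have h4 : (y ^ 3) ^ 2 ^ k = 1 := congrArg Subtype.val hk
    refine two_elt_eq_one hr ?_ h4
    rw [← pow_mul, mul_comm, pow_mul, hy, one_pow]
  have hinv : i⁻¹ ≠ i := by
    intro h
    apply hii
    calc i * i = i * i⁻¹ := by rw [h]
      _ = 1 := by group
  have hji' : j ≠ i := by
    rintro rfl
    apply hinv
    rw [← hji]; group
  have hy1 : y ≠ 1 := by
    rintro rfl
    apply hji'
    rw [← hyi]; group
  haveI : Fact (Nat.Prime 3) := ⟨by norm_num⟩
  have hoy : orderOf y = 3 := orderOf_eq_prime hy3 hy1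
  -- the quaternion group
  have hQcardle : Nat.card Q ≤ 8 := by
    let F : Fin 8 → G := ![1, i, i * i, i⁻¹, j, j * i, j * (i * i), j * i⁻¹]
    have hsub : (Q : Set G) ⊆ ((Finset.univ.image F : Finset G) : Set G) := by
      intro q hq
      simp only [Finset.coe_image, Finset.coe_univ, Set.image_univ, Set.mem_range]
      rcases hform q hq with rfl | rfl | rfl | rfl | rfl | rfl | rfl | rfl
      · exact ⟨0, rfl⟩
      · exact ⟨1, rfl⟩
      · exact ⟨2, rfl⟩
      · exact ⟨3, rfl⟩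
      · exact ⟨4, rfl⟩
      · exact ⟨5, rfl⟩
      · exact ⟨6, rfl⟩
      · exact ⟨7, rfl⟩
    have h1 : Nat.card Q = (Q : Set G).ncard := (Nat.card_coe_set_eq _)
    rw [h1]
    calc (Q : Set G).ncard ≤ ((Finset.univ.image F : Finset G) : Set G).ncard :=
          Set.ncard_le_ncard hsub (Finset.finite_toSet _)
      _ = (Finset.univ.image F).card := Set.ncard_coe_finset _
      _ ≤ (Finset.univ : Finset (Fin 8)).card := Finset.card_image_le
      _ = 8 := by simp
  obtain ⟨e⟩ : Nonempty (Q ≃* QuaternionGroup 2) := by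
    let A : Q := ⟨i, hi⟩
    let W : Q := ⟨j, hj⟩
    have h2 : A ^ 2 ≠ 1 := by
      intro h
      apply hii
      have := congrArg Subtype.val h
      simpa [pow_two] using this
    have ho : orderOf A = 2 * 2 := by
      have : orderOf A = 2 ^ (1 + 1) := by
        apply orderOf_eq_prime_pow
        · simpa using h2
        · exact Subtype.ext hi4
      rw [this]; norm_num
    have hW : W * W = A ^ 2 := by
      apply Subtype.ext
      show j * j = i ^ 2
      rw [hjj, pow_two]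
    have hc : W * A * W⁻¹ = A⁻¹ := Subtype.ext hji
    obtain ⟨H, hH, ⟨e'⟩⟩ := QuatHom.exists_subgroup_quaternion A W h2 ho hW hc
    have hcardH : Nat.card H ≤ Nat.card Q := Subgroup.card_le_card_group H
    have htop : H = ⊤ := by
      apply Subgroup.eq_top_of_card_eq
      omega
    exact ⟨(Subgroup.topEquiv.symm.trans (MulEquiv.subgroupCongr htop.symm)).trans e'⟩
  have hQcard : Nat.card Q = 8 := by
    rw [Nat.card_congr e.toEquiv]
    simp [QuaternionGroup.card]
  -- the bound on `G`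
  have hbound : Nat.card G ≤ 48 := by
    let φ : G →* MulAut Q := MulAut.conjNormal
    have hker : Nat.card φ.ker ≤ 2 := by
      have hsub : (φ.ker : Set G) ⊆ (({1, i * i} : Finset G) : Set G) := by
        intro g hg
        have hg' : ∀ q ∈ Q, g * q * g⁻¹ = q := by
          intro q hq
          have h1 : φ g = 1 := hg
          have h2 := congrArg (fun f : MulAut Q => ((f ⟨q, hq⟩ : Q) : G)) h1
          simpa [φ] using h2
        have hgC : g ∈ Subgroup.centralizer (Q : Set G) := by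
          rw [Subgroup.mem_centralizer_iff]
          intro q hq
          have h3 := hg' q hq
          calc q * g = (g * q * g⁻¹) * g := by rw [h3]
            _ = g * q := by group
        have hgQ := hC hgC
        have h1 := hg' i hi
        have h2 := hg' j hj
        simp only [Finset.coe_insert, Finset.coe_singleton, Set.mem_insert_iff, Set.mem_singleton_iff]
        have hcomm : ∀ x : G, x * i * x⁻¹ = i → j * x = x * j → j * i * j⁻¹ = i → False := by
          intro x _ _ h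
          apply hinv
          rw [← hji, h]
        rcases hform g hgQ with h | h | h | h | h | h | h | h
        · exact Or.inl h
        · exfalso
          rw [h] at h2
          apply hinv
          have h3 : j * i * j⁻¹ = i := by
            have : i * j = j * i := by
              calc i * j = (i * j * i⁻¹) * i := by group
                _ = j * i := by rw [h2]
            rw [← this]; group
          rw [← hji, h3]
        · exact Or.inr h
        · exfalso
          rw [h] at h2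
          apply hinv
          have h3 : j * i * j⁻¹ = i := by
            have h4 : i⁻¹ * j * i = j := by
              simpa using h2
            calc j * i * j⁻¹ = (i⁻¹ * j * i) * i * j⁻¹ := by rw [h4]
              _ = i⁻¹ * (j * (i * i) * j⁻¹) := by group
              _ = i⁻¹ * ((j * i * j⁻¹) * (j * i * j⁻¹)) := by group
              _ = i⁻¹ * (i⁻¹ * i⁻¹) := by rw [hji]
              _ = i := by
                have h5 : i ^ 4 = i * i * (i * i) := by simp only [pow_succ, pow_zero, one_mul, mul_assoc]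
                have h6 : i * i * (i * i) = 1 := by rw [← h5, hi4]
                have h7 : i⁻¹ = i * (i * i) := by
                  apply inv_eq_of_mul_eq_one_right
                  rw [← h6]; group
                rw [h7]
                calc i * (i * i) * (i * (i * i) * (i * (i * i))) = (i * i * (i * i)) * (i * i * (i * i)) * i := by group
                  _ = i := by rw [h6]; group
          rw [← hji, h3]
        · exfalso
          rw [h] at h1
          apply hinv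
          rw [← hji, h1]
        · exfalso
          rw [h] at h1
          apply hinv
          have h4 : j * i * j⁻¹ = i := by
            calc j * i * j⁻¹ = j * i * i * (j * i)⁻¹ := by group
              _ = i := h1
          rw [← hji, h4]
        · exfalso
          rw [h] at h1
          apply hinv
          have h4 : j * i * j⁻¹ = i := by
            calc j * i * j⁻¹ = (j * (i * i)) * i * (j * (i * i))⁻¹ := by group
              _ = i := h1
          rw [← hji, h4]
        · exfalso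
          rw [h] at h1
          apply hinv
          have h4 : j * i * j⁻¹ = i := by
            calc j * i * j⁻¹ = (j * i⁻¹) * i * (j * i⁻¹)⁻¹ := by group
              _ = i := h1
          rw [← hji, h4]
      have h1 : Nat.card φ.ker = (φ.ker : Set G).ncard := (Nat.card_coe_set_eq _)
      rw [h1]
      calc (φ.ker : Set G).ncard ≤ (({1, i * i} : Finset G) : Set G).ncard :=
            Set.ncard_le_ncard hsub (Finset.finite_toSet _)
        _ = ({1, i * i} : Finset G).card := Set.ncard_coe_finset _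
        _ ≤ 2 := Finset.card_le_two
    have hrange : Nat.card φ.range ≤ 24 := by
      have h1 : Nat.card φ.range ≤ Nat.card (MulAut Q) := Subgroup.card_le_card_group _
      have h2 : Nat.card (MulAut Q) = 24 := by
        rw [Nat.card_congr (MulAut.congr e).toEquiv]
        exact Q8Aut.card_aut
      omega
    have h3 := Subgroup.card_mul_index φ.ker
    rw [Subgroup.index_ker] at h3
    rw [← h3]
    calc Nat.card φ.ker * Nat.card φ.range ≤ 2 * 24 := Nat.mul_le_mul hker hrange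
      _ = 48 := rfl
  -- the subgroup
  set E : Subgroup G := Subgroup.closure ({i, j, y} : Set G) with hE
  have hiE : i ∈ E := Subgroup.subset_closure (by simp)
  have hjE : j ∈ E := Subgroup.subset_closure (by simp)
  have hyE : y ∈ E := Subgroup.subset_closure (by simp)
  have hQE : Q ≤ E := by
    intro q hq
    rcases hform q hq with rfl | rfl | rfl | rfl | rfl | rfl | rfl | rfl
    · exact Subgroup.one_mem _
    · exact hiE
    · exact mul_mem hiE hiE
    · exact inv_mem hiE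
    · exact hjE
    · exact mul_mem hjE hiE
    · exact mul_mem hjE (mul_mem hiE hiE)
    · exact mul_mem hjE (inv_mem hiE)
  have h8 : 8 ∣ Nat.card E := by
    rw [← hQcard]; exact Subgroup.card_dvd_of_le hQE
  have h3' : 3 ∣ Nat.card E := by
    rw [← hoy]; exact Subgroup.orderOf_dvd_natCard E hyE
  have h24 : 24 ∣ Nat.card E := by
    have : Nat.Coprime 8 3 := by norm_num
    exact this.mul_dvd_of_dvd_of_dvd h8 h3'
  have hEpos : 0 < Nat.card E := Nat.card_pos
  have hE24 : 24 ≤ Nat.card E := Nat.le_of_dvd hEpos h24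
  have hidx := Subgroup.card_mul_index E
  have hGpos : 0 < Nat.card G := Nat.card_pos
  have hidx0 : E.index ≠ 0 := by
    intro h
    rw [h, mul_zero] at hidx
    omega
  have hidx2 : E.index ≤ 2 := by
    by_contra hcon
    have : 3 ≤ E.index := by omega
    have h5 : 24 * 3 ≤ Nat.card E * E.index := Nat.mul_le_mul hE24 this
    omega
  refine ⟨E, ?_, ?_⟩
  · have : E.index = 1 ∨ E.index = 2 := by omega
    rcases this with h | h
    · rw [Subgroup.index_eq_one] at h
      rw [h]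
      infer_instance
    · exact Subgroup.normal_of_index_eq_two h
  · let i' : E := ⟨i, hiE⟩
    let j' : E := ⟨j, hjE⟩
    let y' : E := ⟨y, hyE⟩
    refine SL23Sec.sl3_iso i' j' y' (Subtype.ext hi4) (Subtype.ext hjj) (Subtype.ext hji)
      (Subtype.ext hyi) (Subtype.ext hyj) (Subtype.ext hy3) ?_ hE24
    have hset : ({i', j', y'} : Set E) = ((↑) : E → G) ⁻¹' ({i, j, y} : Set G) := by
      ext x
      simp only [Set.mem_insert_iff, Set.mem_singleton_iff, Set.mem_preimage, Subtype.ext_iff]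
      rfl
    rw [hset]
    exact Subgroup.closure_closure_coe_preimage

theorem l1_aux {T Q : Subgroup G} [Q.Normal] (hQ2 : IsPGroup 2 Q) (hQT : Q ≤ T) {a g y : G} {r : ℕ}
    (f4 : ∀ t ∈ T, ∀ t' ∈ T, t ∉ Subgroup.zpowers a → t' ∉ Subgroup.zpowers a →
      t⁻¹ * t' ∈ Subgroup.zpowers a)
    (hzp : ∀ c ∈ Q ⊓ Subgroup.zpowers a, c ∈ Subgroup.zpowers g) (hr : Odd r) (hy : y ^ r = 1)
    (hyg : y * g * y⁻¹ = g) : ∀ q ∈ Q, y * q * y⁻¹ = q := by
  have hfix : ∀ c ∈ Q ⊓ Subgroup.zpowers a, y * c * y⁻¹ = c := by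
    intro c hc
    obtain ⟨k, rfl⟩ := hzp c hc
    simp only
    rw [← conj_zpow, hyg]
  intro q hq
  by_cases hqa : q ∈ Subgroup.zpowers a
  · exact hfix q ⟨hq, hqa⟩
  have hq'Q : y * q * y⁻¹ ∈ Q := Subgroup.Normal.conj_mem inferInstance q hq y
  have hq'a : y * q * y⁻¹ ∉ Subgroup.zpowers a := by
    intro h
    have h1 := hfix _ ⟨hq'Q, h⟩
    have h2 : y * q * y⁻¹ = q := by
      have h3 : y * (y * q * y⁻¹) = y * q := by
        calc y * (y * q * y⁻¹) = (y * (y * q * y⁻¹) * y⁻¹) * y := by group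
          _ = (y * q * y⁻¹) * y := by rw [h1]
          _ = y * q := by group
      have h4 := mul_left_cancel h3
      exact h4
    exact hqa (h2 ▸ h)
  set d := q⁻¹ * (y * q * y⁻¹) with hd
  have hdQ : d ∈ Q := mul_mem (inv_mem hq) hq'Q
  have hda : d ∈ Subgroup.zpowers a := f4 q (hQT hq) _ (hQT hq'Q) hqa hq'a
  have hdfix : y * d * y⁻¹ = d := hfix d ⟨hdQ, hda⟩
  have hq' : y * q * y⁻¹ = q * d := by rw [hd]; group
  have hind : ∀ k : ℕ, y ^ k * q * (y ^ k)⁻¹ = q * d ^ k := by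
    intro k
    induction k with
    | zero => simp
    | succ k ih =>
      have hdk : y * d ^ k * y⁻¹ = d ^ k := by
        rw [← conj_pow, hdfix]
      calc y ^ (k + 1) * q * (y ^ (k + 1))⁻¹ = y * (y ^ k * q * (y ^ k)⁻¹) * y⁻¹ := by
            rw [pow_succ']; group
        _ = y * (q * d ^ k) * y⁻¹ := by rw [ih]
        _ = (y * q * y⁻¹) * (y * d ^ k * y⁻¹) := by group
        _ = q * d * d ^ k := by rw [hq', hdk]
        _ = q * d ^ (k + 1) := by rw [pow_succ']; group
  have h1 := hind r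
  rw [hy] at h1
  have hdr : d ^ r = 1 := by
    have : q * d ^ r = q * 1 := by rw [← h1]; group
    exact mul_left_cancel this
  obtain ⟨k, hk⟩ := hQ2 ⟨d, hdQ⟩
  have h4 : d ^ 2 ^ k = 1 := congrArg Subtype.val hk
  have hd1 := two_elt_eq_one hr hdr h4
  rw [hq', hd1, mul_one]

theorem main_aux {T Q : Subgroup G} [Q.Normal] (hQ2 : IsPGroup 2 Q) (hQT : Q ≤ T)
    (hC : Subgroup.centralizer (Q : Set G) ≤ Q) {a z : G} (D : TD T a z)
    (hZ : (T ⊓ Subgroup.centralizer (T : Set G)).Normal) {y : G} {r : ℕ} (hr : Odd r) (hy : y ^ r = 1)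
    {q₀ : G} (hq₀ : q₀ ∈ Q) (hyq : y * q₀ * y⁻¹ ≠ q₀) :
    ∃ U : Subgroup G, U.Normal ∧ Nonempty (↥U ≃* Matrix.SpecialLinearGroup (Fin 2) (ZMod 3)) := by
  classical
  set A₀ : Subgroup G := Q ⊓ Subgroup.zpowers a with hA₀
  haveI : IsCyclic A₀ := isCyclic_of_injective
    (Subgroup.inclusion (inf_le_right : A₀ ≤ Subgroup.zpowers a)) (Subgroup.inclusion_injective _)
  obtain ⟨⟨g, hg⟩, hgen⟩ := IsCyclic.exists_generator (α := A₀)
  have hzp : ∀ c ∈ A₀, c ∈ Subgroup.zpowers g := by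
    intro c hc
    obtain ⟨k, hk⟩ := hgen ⟨c, hc⟩
    exact ⟨k, congrArg Subtype.val hk⟩
  have hgQ : g ∈ Q := hg.1
  have hga : g ∈ Subgroup.zpowers a := hg.2
  have htwo : ∀ x ∈ Q, ∃ k : ℕ, x ^ 2 ^ k = 1 := by
    intro x hx
    obtain ⟨k, hk⟩ := hQ2 ⟨x, hx⟩
    exact ⟨k, congrArg Subtype.val hk⟩
  have h1 : y * g * y⁻¹ ∉ Subgroup.zpowers g := by
    intro hm
    obtain ⟨e, he⟩ := htwo g hgQ
    have h2 := cyc_odd hr hy he hm
    exact hyq (l1_aux hQ2 hQT D.f4 hzp hr hy h2 q₀ hq₀)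
  set j : G := y * g * y⁻¹ with hjdef
  have hjQ : j ∈ Q := Subgroup.Normal.conj_mem inferInstance g hgQ y
  have hjT : j ∈ T := hQT hjQ
  have hgT : g ∈ T := hQT hgQ
  have hja : j ∉ Subgroup.zpowers a := fun h => h1 (hzp j ⟨hjQ, h⟩)
  have hj4 : j ^ 4 = 1 := D.f1 j hjT hja
  have hjpow : ∀ k : ℕ, j ^ k = y * g ^ k * y⁻¹ := fun k => by rw [hjdef, conj_pow]
  have hg4 : g ^ 4 = 1 := by
    have := hjpow 4
    rw [hj4] at this
    have h2 : y * (g ^ 4) * y⁻¹ = y * 1 * y⁻¹ := by rw [← this]; group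
    have h3 : y * g ^ 4 = y * 1 := mul_right_cancel h2
    exact mul_left_cancel h3
  have hgg : g * g ≠ 1 := by
    intro hgg
    rcases D.hsq g hga hgg with h | h
    · apply h1
      have : j = 1 := by rw [hjdef, h]; group
      rw [this]; exact one_mem _
    · apply h1
      have h2 : y * z * y⁻¹ ∈ T ⊓ Subgroup.centralizer (T : Set G) := hZ.conj_mem z D.hzC y
      rcases D.f3 _ h2 with h3 | h3
      · exfalso
        apply D.hz1
        have h4 : y * z = y * 1 := by
          calc y * z = (y * z * y⁻¹) * y := by group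
            _ = y * 1 := by rw [h3]; group
        exact mul_left_cancel h4
      · rw [hjdef, h, h3]
        exact Subgroup.mem_zpowers z
  have hjj1 : j * j ≠ 1 := by
    intro h
    apply hgg
    have h2 : y * (g * g) * y⁻¹ = y * 1 * y⁻¹ := by
      rw [mul_one, mul_inv_cancel, ← h, hjdef]; group
    have h3 : y * (g * g) = y * 1 := mul_right_cancel h2
    exact mul_left_cancel h3
  have hji : j * g * j⁻¹ = g⁻¹ := D.f2 j hjT hja g hga hg4
  have hjjz : j * j = z := by
    have h2 : j * j ∈ Subgroup.zpowers a := by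
      have := D.f4 j⁻¹ (inv_mem hjT) j hjT (fun h => hja ((Subgroup.inv_mem_iff _).1 h)) hja
      simpa using this
    have h3 : (j * j) * (j * j) = 1 := by
      rw [← hj4]; simp only [pow_succ, pow_zero, one_mul, mul_assoc]
    rcases D.hsq _ h2 h3 with h | h
    · exact absurd h hjj1
    · exact h
  have hggz : g * g = z := by
    have h2 : g * g ∈ Subgroup.zpowers a := mul_mem hga hga
    have h3 : (g * g) * (g * g) = 1 := by
      rw [← hg4]; simp only [pow_succ, pow_zero, one_mul, mul_assoc]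
    rcases D.hsq _ h2 h3 with h | h
    · exact absurd h hgg
    · exact h
  have hjj : j * j = g * g := by rw [hjjz, hggz]
  -- elements of `⟨g⟩`
  have hcyc : ∀ x ∈ Subgroup.zpowers g, x = 1 ∨ x = g ∨ x = g * g ∨ x = g⁻¹ := by
    have hginv : g⁻¹ = g * (g * g) := by
      apply inv_eq_of_mul_eq_one_right
      rw [← hg4]; simp only [pow_succ, pow_zero, one_mul, mul_assoc]
    rintro x ⟨k, rfl⟩
    have hmod : g ^ k = g ^ (k % 4) := by
      have h3 : k = 4 * (k / 4) + k % 4 := (Int.mul_ediv_add_emod k 4).symm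
      conv_lhs => rw [h3]
      rw [zpow_add, zpow_mul]
      have h4 : g ^ (4 : ℤ) = 1 := by exact_mod_cast hg4
      rw [h4, one_zpow, one_mul]
    simp only
    rw [hmod]
    have h0 : 0 ≤ k % 4 := Int.emod_nonneg _ (by norm_num)
    have h4 : k % 4 < 4 := Int.emod_lt_of_pos _ (by norm_num)
    have : k % 4 = 0 ∨ k % 4 = 1 ∨ k % 4 = 2 ∨ k % 4 = 3 := by omega
    rcases this with h | h | h | h <;> rw [h]
    · simp
    · simp
    · right; right; left
      rw [zpow_ofNat, pow_two]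
    · right; right; right
      rw [hginv, zpow_ofNat]
      simp only [pow_succ, pow_zero, one_mul, mul_assoc]
  have hform : ∀ q ∈ Q, q = 1 ∨ q = g ∨ q = g * g ∨ q = g⁻¹ ∨ q = j ∨ q = j * g ∨ q = j * (g * g) ∨ q = j * g⁻¹ := by
    intro q hq
    by_cases hqa : q ∈ Subgroup.zpowers a
    · rcases hcyc q (hzp q ⟨hq, hqa⟩) with h | h | h | h
      · exact Or.inl h
      · exact Or.inr (Or.inl h)
      · exact Or.inr (Or.inr (Or.inl h))
      · exact Or.inr (Or.inr (Or.inr (Or.inl h)))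
    · have h2 : j⁻¹ * q ∈ Subgroup.zpowers a := D.f4 j hjT q (hQT hq) hja hqa
      have h3 : j⁻¹ * q ∈ A₀ := Subgroup.mem_inf.2 ⟨Q.mul_mem (Q.inv_mem hjQ) hq, h2⟩
      have e : ∀ x : G, j⁻¹ * q = x → q = j * x := by
        intro x hx
        rw [← hx]; group
      rcases hcyc _ (hzp _ h3) with h | h | h | h
      · right; right; right; right; left
        rw [e _ h, mul_one]
      · right; right; right; right; right; left
        exact e _ h
      · right; right; right; right; right; right; left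
        exact e _ h
      · right; right; right; right; right; right; right
        exact e _ h
  have hk : y * j * y⁻¹ ∈ Q := Subgroup.Normal.conj_mem inferInstance j hjQ y
  have hng : y * g ≠ g * y := by
    intro h
    apply hja
    have : j = g := by
      rw [hjdef, h]; group
    rw [this]; exact hga
  have hnj : y * j ≠ j * y := by
    intro h
    apply hja
    have h2 : j = g := by
      have h3 : y * j * y⁻¹ = y * g * y⁻¹ := by
        rw [← hjdef, h]; group
      have h4 : y * j = y * g := mul_right_cancel h3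
      exact mul_left_cancel h4
    rw [h2]; exact hga
  have hy2 : y ^ 2 * g * (y ^ 2)⁻¹ = y * j * y⁻¹ := by
    rw [hjdef, pow_two]; group
  rcases hform _ hk with h | h | h | h | h | h | h | h
  · -- `k = 1`
    exfalso
    apply hja
    have h2 : j = 1 := by
      have h3 : y * j * y⁻¹ = y * 1 * y⁻¹ := by rw [h]; group
      have h4 : y * j = y * 1 := mul_right_cancel h3
      exact mul_left_cancel h4
    rw [h2]; exact one_mem _
  · -- `k = g`
    exfalso
    apply hng
    apply fix_of_pow (b := 1) hr hy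
    have h2 : y ^ 2 * g * (y ^ 2)⁻¹ = g := by rw [hy2, h]
    simp only [pow_one]
    calc y ^ 2 * g = (y ^ 2 * g * (y ^ 2)⁻¹) * y ^ 2 := by group
      _ = g * y ^ 2 := by rw [h2]
  · -- `k = g * g`
    exfalso
    apply hjj1
    have h2 : y * (j * j) * y⁻¹ = (g * g) * (g * g) := by
      rw [← h]; group
    have h3 : (g * g) * (g * g) = 1 := by
      rw [← hg4]; simp only [pow_succ, pow_zero, one_mul, mul_assoc]
    rw [h3] at h2
    have h4 : y * (j * j) * y⁻¹ = y * 1 * y⁻¹ := by rw [h2]; group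
    have h5 : y * (j * j) = y * 1 := mul_right_cancel h4
    exact mul_left_cancel h5
  · -- `k = g⁻¹`
    exfalso
    apply hng
    apply fix_of_pow (b := 2) hr hy
    have h2 : y ^ 2 * g * (y ^ 2)⁻¹ = g⁻¹ := by rw [hy2, h]
    have h3 : y ^ 2 ^ 2 * g * (y ^ 2 ^ 2)⁻¹ = g := by
      have e : y ^ 2 ^ 2 = y ^ 2 * y ^ 2 := by
        rw [← pow_add]; norm_num
      rw [e]
      calc y ^ 2 * y ^ 2 * g * (y ^ 2 * y ^ 2)⁻¹ = y ^ 2 * (y ^ 2 * g * (y ^ 2)⁻¹) * (y ^ 2)⁻¹ := by group
        _ = y ^ 2 * g⁻¹ * (y ^ 2)⁻¹ := by rw [h2]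
        _ = (y ^ 2 * g * (y ^ 2)⁻¹)⁻¹ := by rw [conj_inv]
        _ = g := by rw [h2, inv_inv]
    calc y ^ 2 ^ 2 * g = (y ^ 2 ^ 2 * g * (y ^ 2 ^ 2)⁻¹) * y ^ 2 ^ 2 := by group
      _ = g * y ^ 2 ^ 2 := by rw [h3]
  · -- `k = j`
    exfalso
    apply hnj
    calc y * j = (y * j * y⁻¹) * y := by group
      _ = j * y := by rw [h]
  · -- `k = j * g`: case B
    have hginv : g⁻¹ = g * (g * g) := by
      apply inv_eq_of_mul_eq_one_right
      rw [← hg4]; simp only [pow_succ, pow_zero, one_mul, mul_assoc]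
    have hjinv : j⁻¹ = j * (g * g) := by
      rw [← hjj]
      apply inv_eq_of_mul_eq_one_right
      rw [← hj4]; simp only [pow_succ, pow_zero, one_mul, mul_assoc]
    have hg6 : (g * g) * (g * g) = 1 := by
      rw [← hg4]; simp only [pow_succ, pow_zero, one_mul, mul_assoc]
    have H1 : g⁻¹ * g⁻¹ = g * g := by
      rw [← mul_inv_rev]
      exact inv_eq_of_mul_eq_one_right hg6
    refine final_aux Q hQ2 hC (i := g⁻¹) (j := j⁻¹) (y := y) (inv_mem hgQ) (inv_mem hjQ) ?_ ?_ ?_ ?_ ?_ ?_ hr hy ?_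
    · rw [inv_pow, hg4, inv_one]
    · rw [H1]; exact hgg
    · rw [← mul_inv_rev, ← mul_inv_rev, hjj]
    · have h2 : j⁻¹ * g⁻¹ * j = g := by
        have h3 : g⁻¹ = j * g * j⁻¹ := hji.symm
        rw [h3]; group
      rw [inv_inv, inv_inv]
      exact h2
    · rw [← conj_inv]
    · have h2 : y * j⁻¹ * y⁻¹ = (y * j * y⁻¹)⁻¹ := by group
      rw [h2, h, mul_inv_rev]
    · intro q hq
      rcases hform q hq with h' | h' | h' | h' | h' | h' | h' | h'
      · exact Or.inl h'
      · right; right; right; left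
        rw [inv_inv]; exact h'
      · right; right; left
        rw [H1]; exact h'
      · right; left
        exact h'
      · right; right; right; right; right; right; left
        rw [H1, ← hjj, h']; group
      · right; right; right; right; right; left
        rw [h', hginv, ← mul_assoc g g g, ← hjj]
        group
      · right; right; right; right; left
        rw [h', hjinv]
      · right; right; right; right; right; right; right
        rw [h', inv_inv, hginv, ← mul_assoc g g g, ← hjj, hjinv, ← hjj]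
        group
  · -- `k = j * (g * g)`
    exfalso
    have hjinv : j⁻¹ = j * (g * g) := by
      rw [← hjj]
      apply inv_eq_of_mul_eq_one_right
      rw [← hj4]; simp only [pow_succ, pow_zero, one_mul, mul_assoc]
    apply hnj
    apply fix_of_pow (b := 1) hr hy
    simp only [pow_one]
    have h2 : y * j * y⁻¹ = j⁻¹ := by rw [h, hjinv]
    have h3 : y ^ 2 * j * (y ^ 2)⁻¹ = j := by
      calc y ^ 2 * j * (y ^ 2)⁻¹ = y * (y * j * y⁻¹) * y⁻¹ := by rw [pow_two]; group
        _ = y * j⁻¹ * y⁻¹ := by rw [h2]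
        _ = (y * j * y⁻¹)⁻¹ := by group
        _ = j := by rw [h2, inv_inv]
    calc y ^ 2 * j = (y ^ 2 * j * (y ^ 2)⁻¹) * y ^ 2 := by group
      _ = j * y ^ 2 := by rw [h3]
  · -- `k = j * g⁻¹`: case A
    have h2 : j * g⁻¹ = g * j := by
      have h3 : j * g⁻¹ * j⁻¹ = g := by
        rw [← conj_inv, hji, inv_inv]
      calc j * g⁻¹ = (j * g⁻¹ * j⁻¹) * j := by group
        _ = g * j := by rw [h3]
    exact final_aux Q hQ2 hC hgQ hjQ hg4 hgg hjj hji rfl (h.trans h2) hr hy hform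

end Main

/-- Let G be a finite solvable group with O(G) = 1 whose Sylow 2-subgroup T is dihedral of order at least 8 or semidihedral, with G ≠ T and Z(T) normal in G. Then G has a normal subgroup isomorphic to SL₂(3). -/
theorem result {G : Type*} [Group G] [Finite G] (hsol : IsSolvable G) (hO : Cfsg.oddCore G = ⊥) (T : Sylow 2 G) (hT : (∃ n : ℕ, 4 ≤ n ∧ Nonempty (↥(T : Subgroup G) ≃* DihedralGroup n)) ∨ Cfsg.IsQuasiDihedral ↥(T : Subgroup G)) (hne : (T : Subgroup G) ≠ ⊤) (hZ : ((T : Subgroup G) ⊓ Subgroup.centralizer ((T : Subgroup G) : Set G)).Normal) : ∃ U : Subgroup G, U.Normal ∧ Nonempty (↥U ≃* Matrix.SpecialLinearGroup (Fin 2) (ZMod 3)) := by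
  haveI : Group.IsSolvable G := hsol
  have hT2 : IsPGroup 2 ↥(T : Subgroup G) := T.isPGroup'
  obtain ⟨n, m, a, t₀, D⟩ : ∃ n m : ℕ, ∃ a t₀ : ↥(T : Subgroup G), Dat n m a t₀ := by
    rcases hT with ⟨N, hN, e⟩ | h
    · exact exists_dat_of_dih hT2 hN e
    · exact exists_dat_of_qd h
  have TD := exists_TD D
  have hC := PCore.centralizer_pCore_le (G := G) 2 hO
  have hQ2 : IsPGroup 2 (pCore 2 G) := isPGroup_pCore 2
  obtain ⟨y, r, hr, hy, q, hq, hyq⟩ := exists_y T hne hQ2 hC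
  exact main_aux hQ2 (pCore_le_sylow 2 T) hC TD hZ hr hy hq hyq

end Cfsg.Agent.S2879
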