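import Mathlib
import Cfsg.Statements.S2880
import Cfsg.Agent.Lib.ExtraDual
import Cfsg.Agent.Lib.Frat

set_option autoImplicit false
open Cfsg
open scoped commutatorElement

namespace Cfsg.Agent.S2880

open Cfsg.Agent.Lib.LargeExtra Cfsg.Agent.Lib.ExtraDual

variable {E : Type*} [Group E]

/-- Elementwise version of being extraspecial, for the whole group. -/
theorem exists_extraAt_top [Finite E] (h : IsExtraspecial 2 E) :
    ∃ z : E, ExtraAt (⊤ : Subgroup E) z := by
  have hp : Fact (Nat.Prime 2) := ⟨Nat.prime_two⟩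
  obtain ⟨⟨h2, hfr, hcomm⟩, hcard⟩ := h
  obtain ⟨c, hc1, hcu⟩ := (Nat.card_eq_two_iff' (1 : Subgroup.center E)).mp hcard
  have hcen : ∀ x : E, x ∈ Subgroup.center E → x = 1 ∨ x = (c : E) := by
    intro x hx
    by_cases hx1 : (⟨x, hx⟩ : Subgroup.center E) = 1
    · left; simpa using congrArg Subtype.val hx1
    · right; simpa using congrArg Subtype.val (hcu _ hx1)
  have hc1' : (c : E) ≠ 1 := by
    intro h1
    apply hc1
    exact Subtype.ext h1
  have hord : orderOf (c : E) = 2 := by
    have h3 : orderOf c ∣ 2 := by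
      rw [← hcard]; exact orderOf_dvd_natCard c
    have h4 : orderOf c = 2 := by
      rcases (Nat.dvd_prime Nat.prime_two).mp h3 with h5 | h5
      · exact absurd (orderOf_eq_one_iff.mp h5) hc1
      · exact h5
    rw [Subgroup.orderOf_coe, h4]
  refine ⟨(c : E), ⟨?_, Subgroup.mem_top _, hord, ?_, ?_, ?_, ?_⟩⟩
  · intro x
    obtain ⟨k, hk⟩ := h2 (x : E)
    exact ⟨k, Subtype.ext (by simpa using hk)⟩
  · intro x _
    exact (Subgroup.mem_center_iff.mp c.2) x
  · intro x _ y _
    have h3 : ⁅x, y⁆ ∈ commutator E :=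
      Subgroup.commutator_mem_commutator (Subgroup.mem_top _) (Subgroup.mem_top _)
    rw [hcomm] at h3
    rcases hcen _ h3 with h4 | h4
    · left
      simpa [commutatorElement_def] using h4
    · right
      simpa [commutatorElement_def] using h4
  · intro x _
    have h3 : x ^ 2 ∈ frattini E := Cfsg.Agent.Lib.Frat.pow_mem_frattini h2 _
    rw [hfr] at h3
    exact hcen _ h3
  · intro x _ hxc
    have h3 : x ∈ Subgroup.center E := by
      rw [Subgroup.mem_center_iff]
      intro y
      exact (hxc y (Subgroup.mem_top _)).symm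
    exact hcen _ h3

/-- The square of `x * a`, for `a` of order at most two. -/
theorem sq_mul {z : E} (h : ExtraAt (⊤ : Subgroup E) z) (x a : E) (ha : a ^ 2 = 1) :
    (x * a) ^ 2 = (x * a * x⁻¹ * a⁻¹) * x ^ 2 := by
  have hc : x ^ 2 * a = a * x ^ 2 := by
    rcases h.sq x (Subgroup.mem_top _) with h1 | h1
    · rw [h1]; group
    · rw [h1]; exact (h.cen a (Subgroup.mem_top _)).symm
  have ha' : a * a = 1 := by rw [← pow_two]; exact ha
  have e3 : a⁻¹ = a := by
    rw [inv_eq_iff_mul_eq_one]; exact ha'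
  rw [e3, mul_assoc (x * a * x⁻¹) a, ← hc, pow_two (x * a)]
  group

open scoped Classical in
/-- The sign of the square. -/
noncomputable def sgn (x : E) : ℤ := if x ^ 2 = 1 then 1 else -1

theorem sgn_mul {z : E} (h : ExtraAt (⊤ : Subgroup E) z) (x a : E) (ha : a ^ 2 = 1) :
    sgn (x * a) = sgn x * form x a := by
  classical
  have hz1 := h.ne_one
  have hzz := h.sq_eq
  unfold sgn form
  rw [sq_mul h x a ha]
  rcases h.comm x (Subgroup.mem_top _) a (Subgroup.mem_top _) with h1 | h1 <;>
    rcases h.sq x (Subgroup.mem_top _) with h2 | h2 <;>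
    simp [h1, h2, hz1, hzz]

theorem result_aux [Fintype E] {z : E} (h : ExtraAt (⊤ : Subgroup E) z) (m : ℕ)
    (hcard : Nat.card E = 2 ^ (2 * m + 1))
    (A : Subgroup E) (hA : IsElementaryAbelian 2 A) (hAc : Nat.card A = 2 ^ (m + 1)) :
    Nat.card {x : E // orderOf x = 4} = 2 ^ (2 * m) - 2 ^ m := by
  classical
  have hT : Nat.card E = Nat.card (⊤ : Subgroup E) := by simp
  -- the centraliser of `A` is `A`
  have hcen : ∀ x : E, (∀ a ∈ A, x * a = a * x) → x ∈ A := by
    have hle : A ≤ (⊤ : Subgroup E) ⊓ Subgroup.centralizer (A : Set E) := by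
      intro a ha
      refine ⟨Subgroup.mem_top _, Subgroup.mem_centralizer_iff.mpr ?_⟩
      intro b hb
      have := hA.1.is_comm.comm (⟨b, hb⟩ : A) (⟨a, ha⟩ : A)
      exact congrArg (fun w : A => (w : E)) this
    have h1 := card_pair h (A := A) (B := ⊤) le_top le_top
    rw [← hT, hAc, hcard] at h1
    have h2 : Nat.card ↥(A ⊓ Subgroup.centralizer ((⊤ : Subgroup E) : Set E)) ≤ 2 := by
      have hs : A ⊓ Subgroup.centralizer ((⊤ : Subgroup E) : Set E) ≤ Subgroup.zpowers z := by
        rintro x ⟨-, hx⟩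
        have hx3 := Subgroup.mem_centralizer_iff.mp hx
        rcases h.central x (Subgroup.mem_top _) (fun y hy => (hx3 y hy).symm) with rfl | rfl
        · exact Subgroup.one_mem _
        · exact Subgroup.mem_zpowers _
      have := Subgroup.card_le_of_le hs
      rwa [Nat.card_zpowers, h.order] at this
    have h3 : Nat.card ↥(A) ≤ Nat.card ↥((⊤ : Subgroup E) ⊓ Subgroup.centralizer (A : Set E)) :=
      Subgroup.card_le_of_le hle
    have h4 : Nat.card ↥((⊤ : Subgroup E) ⊓ Subgroup.centralizer (A : Set E)) ≤ Nat.card A := by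
      rw [hAc]
      have e : 2 ^ (2 * m + 1) * 2 = 2 ^ (m + 1) * 2 ^ (m + 1) := by ring
      have : Nat.card ↥((⊤ : Subgroup E) ⊓ Subgroup.centralizer (A : Set E)) * 2 ^ (m + 1) ≤
          2 ^ (m + 1) * 2 ^ (m + 1) := by
        rw [← h1, ← e, mul_comm]
        exact Nat.mul_le_mul_left _ h2
      exact Nat.le_of_mul_le_mul_right this (by positivity)
    have h5 : A = (⊤ : Subgroup E) ⊓ Subgroup.centralizer (A : Set E) :=
      Subgroup.eq_of_le_of_card_ge hle h4
    intro x hx
    rw [h5]
    refine ⟨Subgroup.mem_top _, Subgroup.mem_centralizer_iff.mpr ?_⟩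
    intro a ha
    exact (hx a ha).symm
  -- the sum of signs
  have hsum : ∑ x : E, sgn x = (Nat.card A : ℤ) := by
    have := Fintype.ofFinite A
    have h1 : ∑ a : A, ∑ x : E, sgn (x * (a : E)) = (Fintype.card A : ℤ) * ∑ x : E, sgn x := by
      have : ∀ a : A, ∑ x : E, sgn (x * (a : E)) = ∑ x : E, sgn x := fun a =>
        Equiv.sum_comp (Equiv.mulRight (a : E)) sgn
      simp [this]
    have h2 : ∑ a : A, ∑ x : E, sgn (x * (a : E)) =
        ∑ x : E, sgn x * ∑ a : A, form x (a : E) := by
      rw [Finset.sum_comm]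
      refine Finset.sum_congr rfl fun x _ => ?_
      rw [Finset.mul_sum]
      exact Finset.sum_congr rfl fun a _ => sgn_mul h x a (hA.2 a a.2)
    have h3 : ∀ x : E, ∑ a : A, form x (a : E) =
        if x ∈ A then (Fintype.card A : ℤ) else 0 := by
      intro x
      have h4 := sum_pair_row (A := E) (B := A) (fun x a => form x (a : E))
        (fun _ _ => form_cases _ _)
        (fun x b b' => form_mul_right h (Subgroup.mem_top _) (Subgroup.mem_top _)
          (Subgroup.mem_top _)) x
      rw [h4]
      by_cases hx : x ∈ A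
      · rw [if_pos hx, if_pos]
        intro b
        apply form_eq_one_iff.mpr
        exact congrArg (fun w : A => (w : E)) (hA.1.is_comm.comm (⟨x, hx⟩ : A) b)
      · rw [if_neg hx, if_neg]
        intro hb
        apply hx
        apply hcen
        intro a ha
        exact form_eq_one_iff.mp (hb ⟨a, ha⟩)
    have h5 : ∑ x : E, sgn x * ∑ a : A, form x (a : E) =
        (Fintype.card A : ℤ) * (Fintype.card A : ℤ) := by
      simp only [h3]
      have : ∀ x : E, sgn x * (if x ∈ A then (Fintype.card A : ℤ) else 0) =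
          if x ∈ A then (Fintype.card A : ℤ) else 0 := by
        intro x
        by_cases hx : x ∈ A
        · have : sgn x = 1 := by
            unfold sgn
            rw [if_pos (hA.2 x hx)]
          simp [hx, this]
        · simp [hx]
      simp only [this]
      rw [Finset.sum_ite]
      simp only [Finset.sum_const_zero, add_zero, Finset.sum_const, nsmul_eq_mul]
      congr 1
      rw [← Fintype.card_subtype]
    have hpos : (Fintype.card A : ℤ) ≠ 0 := by
      exact_mod_cast Fintype.card_ne_zero
    rw [Nat.card_eq_fintype_card]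
    apply mul_left_cancel₀ hpos
    rw [← h1, h2, h5]
  -- the count
  have hiff : ∀ x : E, orderOf x = 4 ↔ ¬ x ^ 2 = 1 := by
    intro x
    constructor
    · intro hx h1
      have := orderOf_dvd_of_pow_eq_one h1
      rw [hx] at this
      omega
    · intro hx
      have h4 : x ^ 2 ^ (1 + 1) = 1 := by
        have e : x ^ 2 ^ (1 + 1) = (x ^ 2) ^ 2 := by rw [← pow_mul]; norm_num
        rw [e]
        rcases h.sq x (Subgroup.mem_top _) with h1 | h1
        · rw [h1]; simp
        · rw [h1, pow_two]; exact h.sq_eq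
      have := orderOf_eq_prime_pow (p := 2) (n := 1) (by simpa using hx) h4
      simpa using this
  have hcount : ∑ x : E, sgn x = (Nat.card E : ℤ) - 2 * (Nat.card {x : E // orderOf x = 4} : ℤ) := by
    have e1 : ∀ x : E, sgn x = 1 - 2 * (if orderOf x = 4 then 1 else 0) := by
      intro x
      unfold sgn
      by_cases hx : x ^ 2 = 1
      · have : ¬ orderOf x = 4 := fun h4 => (hiff x).mp h4 hx
        simp [hx, this]
      · have : orderOf x = 4 := (hiff x).mpr hx
        simp [hx, this]
    simp only [e1]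
    rw [Finset.sum_sub_distrib, ← Finset.mul_sum, Nat.card_eq_fintype_card,
      Nat.card_eq_fintype_card, Fintype.card_subtype]
    simp [Finset.card_univ, Finset.sum_boole]
  rw [hsum, hAc, hcard] at hcount
  have e5 : (2 : ℕ) ^ (2 * m + 1) = 2 * 2 ^ (2 * m) := by ring
  have e6 : (2 : ℕ) ^ (m + 1) = 2 * 2 ^ m := by ring
  have e7 : (2 : ℕ) ^ m ≤ 2 ^ (2 * m) := Nat.pow_le_pow_right (by norm_num) (by omega)
  rw [e5, e6] at hcount
  push_cast at hcount
  have e8 : ((2 : ℤ) ^ m) ≤ 2 ^ (2 * m) := by exact_mod_cast e7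
  have e9 : (Nat.card {x : E // orderOf x = 4} : ℤ) = 2 ^ (2 * m) - 2 ^ m := by linarith
  have e10 : ((2 ^ (2 * m) - 2 ^ m : ℕ) : ℤ) = 2 ^ (2 * m) - 2 ^ m := by
    rw [Nat.cast_sub e7]; push_cast; ring
  rw [← e10] at e9
  exact_mod_cast e9

/-- Let E be an extraspecial 2-group of order 2^(2m+1) of plus type, that is, containing an elementary abelian subgroup of order 2^(m+1) (equivalently, a central product of m dihedral groups of order 8). Then E has exactly 2^(2m) − 2^m elements of order 4. -/
theorem result {E : Type*} [Group E] [Finite E] (m : ℕ) (hm : 1 ≤ m) (hE : Cfsg.IsExtraspecial 2 E) (hcard : Nat.card E = 2 ^ (2 * m + 1)) (hplus : ∃ A : Subgroup E, Cfsg.IsElementaryAbelian 2 A ∧ Nat.card A = 2 ^ (m + 1)) : Nat.card {x : E // orderOf x = 4} = 2 ^ (2 * m) - 2 ^ m := by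
  obtain ⟨z, hz⟩ := exists_extraAt_top hE
  obtain ⟨A, hA, hAc⟩ := hplus
  have := Fintype.ofFinite E
  exact result_aux hz m hcard A hA hAc

end Cfsg.Agent.S2880
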