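import Mathlib
import Cfsg.Statements.S2881
import Cfsg.Agent.S2880
-- import your own Cfsg.Agent.* helpers here

set_option autoImplicit false
open Cfsg

namespace Cfsg.Agent.S2881

/-- Let E be an extraspecial 2-group of order 2^(2m+1) of plus type (containing an elementary abelian subgroup of order 2^(m+1)), and let ω be an automorphism of E of order 5 whose fixed points are exactly the centre of E. Then m is divisible by 4. -/
theorem result {E : Type*} [Group E] [Finite E] (m : ℕ) (hm : 1 ≤ m) (hE : Cfsg.IsExtraspecial 2 E) (hcard : Nat.card E = 2 ^ (2 * m + 1)) (hplus : ∃ A : Subgroup E, Cfsg.IsElementaryAbelian 2 A ∧ Nat.card A = 2 ^ (m + 1)) (ω : E ≃* E) (hω : orderOf ω = 5) (hfix : ∀ x : E, ω x = x ↔ x ∈ Subgroup.center E) : 4 ∣ m := by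
  classical
  have hT := Cfsg.Agent.S2880.result m hm hE hcard hplus
  have hp : Fact (Nat.Prime 5) := ⟨by norm_num⟩
  have hpg : IsPGroup 5 (Subgroup.zpowers (ω : MulAut E)) := by
    apply IsPGroup.of_card (n := 1)
    rw [Nat.card_zpowers]
    simpa using hω
  let W : SubMulAction (Subgroup.zpowers (ω : MulAut E)) E :=
    { carrier := {x | orderOf x = 4}
      smul_mem' := by
        intro f x hx
        have h1 : orderOf ((f : MulAut E) x) = orderOf x := MulEquiv.orderOf_eq _ x
        show orderOf ((f : MulAut E) x) = 4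
        rw [h1]; exact hx }
  have hfix : IsEmpty (MulAction.fixedPoints (Subgroup.zpowers (ω : MulAut E)) W) := by
    constructor
    rintro ⟨⟨x, hx⟩, hfx⟩
    have h1 := hfx ⟨ω, Subgroup.mem_zpowers _⟩
    have h2 : ω x = x := congrArg Subtype.val h1
    have h3 : x ∈ Subgroup.center E := (hfix x).mp h2
    have h4 : Nat.card (Subgroup.center E) = 2 := hE.2
    have h5 : x ^ 2 = 1 := by
      have := pow_card_eq_one' (x := (⟨x, h3⟩ : Subgroup.center E))
      rw [h4] at this
      exact congrArg Subtype.val this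
    have h6 : orderOf x ∣ 2 := orderOf_dvd_of_pow_eq_one h5
    have hx' : orderOf x = 4 := hx
    rw [hx'] at h6
    omega
  have hcongr := hpg.card_modEq_card_fixedPoints W
  have h0 : Nat.card (MulAction.fixedPoints (Subgroup.zpowers (ω : MulAut E)) W) = 0 :=
    Nat.card_of_isEmpty
  have hW : Nat.card W = 2 ^ (2 * m) - 2 ^ m := hT
  rw [h0, hW] at hcongr
  have hd : 5 ∣ 2 ^ (2 * m) - 2 ^ m := (Nat.modEq_zero_iff_dvd).mp hcongr
  have hf : 2 ^ (2 * m) - 2 ^ m = 2 ^ m * (2 ^ m - 1) := by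
    rw [two_mul, pow_add, Nat.mul_sub, mul_one]
  rw [hf] at hd
  have hd2 : 5 ∣ 2 ^ m - 1 := by
    apply (Nat.Coprime.dvd_mul_left (k := 5) (m := 2 ^ m) (n := 2 ^ m - 1) ?_).mp hd
    exact Nat.Coprime.pow_right _ (by norm_num)
  have hm1 : 1 ≤ 2 ^ m := Nat.one_le_two_pow
  have hmod : 2 ^ m % 5 = 1 := by omega
  have : m % 4 = 0 := by
    have h7 : m = 4 * (m / 4) + m % 4 := (Nat.div_add_mod m 4).symm
    have h8 : m % 4 < 4 := Nat.mod_lt _ (by norm_num)
    have h9 : 2 ^ m % 5 = 2 ^ (m % 4) % 5 := by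
      conv_lhs => rw [h7, pow_add, pow_mul]
      rw [Nat.mul_mod, Nat.pow_mod]
      norm_num
    rw [h9] at hmod
    have h10 : ∀ r : Fin 4, 2 ^ (r : ℕ) % 5 = 1 → (r : ℕ) = 0 := by decide
    exact h10 ⟨m % 4, h8⟩ hmod
  exact Nat.dvd_of_mod_eq_zero this

end Cfsg.Agent.S2881
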