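import Mathlib
import Cfsg.Statements.S5170
import Cfsg.Agent.Lib.MathieuFusionData

set_option autoImplicit false
open Cfsg

namespace Cfsg.Agent.S5170

open Cfsg.Agent.Lib.Golay Cfsg.Agent.Lib.MathieuFusion Cfsg.Agent.Lib.MathieuFusionData

set_option maxRecDepth 100000

theorem base_ok : baseChk gens24 = true := by decide +kernel
theorem gens_ok : gens24.all isM24 = true := by decide +kernel
theorem clos_ok : closChk gens24 isM24 z24 ins24 = true := by decide +kernel
theorem desc_ok : descChk (prods gens24) [] [] [23,0,1,2,3] = true := by decide +kernel
theorem leaf_ok : leafChk gens24 = true := by decide +kernel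

/-- The 2-fusion system of the Mathieu group M₂₄ (as the explicit permutation group of the 24 points preserving the binary Golay code) on a Sylow 2-subgroup is simple: saturated, over a nontrivial 2-group, with no normal subsystem other than the trivial one and itself. -/
theorem result (S : Sylow 2 Cfsg.M24) : (Cfsg.groupFusionSystem (S : Subgroup Cfsg.M24)).IsSimple 2 := by
  refine isSimple_of_cert M24 gens24 z24 ins24 isM24 [] [23,0,1,2,3] [] 239085 (fun c hc => decode_mem_M24 hc)
    ?_ base_ok gens_ok (by decide) clos_ok desc_ok (by simp) (by simp) ?_ (by norm_num) ?_ S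
  · simp
  · rw [card_M24]; rfl
  · intro h hh hN hfix
    refine leaf_spec base_ok leaf_ok ⟨hh, fun i hi => hfix i (Or.inl ?_)⟩ hN
    revert i
    decide

end Cfsg.Agent.S5170
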