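import Mathlib
import Cfsg.Agent.S5170

set_option autoImplicit false
open Cfsg

namespace Cfsg.Agent.S2882

open Cfsg.Agent.Lib.Golay Cfsg.Agent.Lib.MathieuFusion Cfsg.Agent.Lib.MathieuFusionData Cfsg.Agent.S5170

set_option maxRecDepth 100000

/-- Every element of `M24` normalizing the explicit Sylow subgroup lies in it. -/
theorem mem_B_of_norm (g : Equiv.Perm GolayPt) (hg : g ∈ Cfsg.M24)
    (hgs : ∀ s ∈ B gens24, g * s * g⁻¹ ∈ B gens24) : g ∈ B gens24 := by
  have hN : ∀ s, s ∈ B gens24 ↔ g * s * g⁻¹ ∈ B gens24 := conj_iff_of_finite _ _ hgs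
  have hB𝔾 : B gens24 ≤ Cfsg.M24 := by
    rw [B, Subgroup.closure_le]
    rintro _ ⟨c, hc, rfl⟩
    have hgens := gens_ok
    simp only [List.all_eq_true] at hgens
    exact decode_mem_M24 (hgens c hc)
  refine desc_spec base_ok Cfsg.M24 hB𝔾 (masks := []) (by simp) [23,0,1,2,3] [] desc_ok (by simp) ?_ g hg hN (by simp)
  intro h hh hN' hfix
  refine leaf_spec base_ok leaf_ok ⟨hh, fun i hi => hfix i (Or.inl ?_)⟩ hN'
  revert i
  decide

/-- In the Mathieu group of degree 24 (realised as the automorphism group of the extended binary Golay code) every Sylow 2-subgroup is self-normalizing. -/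
theorem result (S : Sylow 2 ↥Cfsg.M24) : Subgroup.normalizer ((S : Subgroup ↥Cfsg.M24) : Set ↥Cfsg.M24) = (S : Subgroup ↥Cfsg.M24) := by
  classical
  have : Fact (Nat.Prime 2) := ⟨Nat.prime_two⟩
  have hB𝔾 : B gens24 ≤ Cfsg.M24 := by
    rw [B, Subgroup.closure_le]
    rintro _ ⟨c, hc, rfl⟩
    have hgens := gens_ok
    simp only [List.all_eq_true] at hgens
    exact decode_mem_M24 (hgens c hc)
  have hcardB : Nat.card (B gens24) = 2 ^ gens24.length := card_B base_ok
  have hlen : gens24.length = 10 := by decide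
  have hequiv : Nat.card ((B gens24).subgroupOf Cfsg.M24) = Nat.card (B gens24) :=
    Nat.card_congr (Subgroup.subgroupOfEquivOfLe hB𝔾).toEquiv
  have hfac : (Nat.card Cfsg.M24).factorization 2 = 10 := by
    rw [card_M24]
    have : (244823040 : ℕ) = 2 ^ 10 * 239085 := by norm_num
    rw [this, Nat.factorization_mul (by norm_num) (by norm_num), Nat.factorization_pow]
    have h2 : (239085 : ℕ).factorization 2 = 0 := Nat.factorization_eq_zero_of_not_dvd (by norm_num)
    simp [Nat.prime_two.factorization_self, h2]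
  let S₀ : Sylow 2 Cfsg.M24 := Sylow.ofCard ((B gens24).subgroupOf Cfsg.M24) (by rw [hequiv, hcardB, hlen, hfac])
  have hS₀ : (S₀ : Subgroup Cfsg.M24) = (B gens24).subgroupOf Cfsg.M24 := Sylow.coe_ofCard _ _
  obtain ⟨h, rfl⟩ := MulAction.exists_smul_eq Cfsg.M24 S₀ S
  have hmem : ∀ x : Cfsg.M24, x ∈ ((h • S₀ : Sylow 2 Cfsg.M24) : Subgroup Cfsg.M24) ↔ h⁻¹ * x * h ∈ (S₀ : Subgroup Cfsg.M24) := by
    intro x
    rw [Sylow.coe_subgroup_smul, Subgroup.mem_pointwise_smul_iff_inv_smul_mem]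
    simp [MulAut.smul_def, MulAut.conj_apply, mul_assoc]
  apply le_antisymm
  · intro g hg
    rw [hmem, hS₀, Subgroup.mem_subgroupOf]
    have hg' := Subgroup.mem_normalizer_iff.mp hg
    apply mem_B_of_norm _ (h⁻¹ * g * h).2
    intro s hs
    have hs' : (⟨s, hB𝔾 hs⟩ : Cfsg.M24) ∈ (S₀ : Subgroup Cfsg.M24) := by
      rw [hS₀, Subgroup.mem_subgroupOf]; exact hs
    have h1 := (hg' (h * ⟨s, hB𝔾 hs⟩ * h⁻¹)).mp (by
      refine (hmem _).mpr ?_
      simpa [mul_assoc] using hs')
    have h2 := (hmem _).mp h1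
    rw [hS₀, Subgroup.mem_subgroupOf] at h2
    simpa [mul_assoc] using h2
  · exact Subgroup.le_normalizer
end Cfsg.Agent.S2882
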