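import Cfsg.Statements.S2916
import Mathlib
import Cfsg.Agent.Lib.L33Loc6
import Cfsg.Agent.Lib.GL23Char
import Cfsg.Agent.Lib.CommGraph

set_option autoImplicit false
set_option linter.style.haveILetI false
open Cfsg

namespace Cfsg.Agent.S2916

/-- Let G be a finite group with O²(G) = G (no proper normal subgroup of 2-power index), and let t be an involution of G whose centralizer C_G(t) is isomorphic to GL₂(3). Then G is isomorphic to PSL₃(3) or to the Mathieu group M₁₁. -/
theorem result {G : Type*} [Group G] [Finite G] (hO : Cfsg.pResidual 2 G = ⊤) (t : G) (ht : orderOf t = 2) (hC : Nonempty (↥(Subgroup.centralizer ({t} : Set G)) ≃* GL (Fin 2) (ZMod 3))) : (∃ (F : Type) (_ : Field F) (_ : Fintype F), Fintype.card F = 3 ∧ Nonempty (G ≃* Matrix.ProjectiveSpecialLinearGroup (Fin 3) F)) ∨ Cfsg.Spor.IsoM11 G := by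
  obtain ⟨e⟩ := hC
  have hs := Cfsg.Agent.Lib.L33Simple.hom_trivial hO
  have hsimple : IsSimpleGroup G := Cfsg.Agent.Lib.L33Simple.isSimple e ht hs
  rcases Cfsg.Agent.Lib.GL23Char.card_eq ht e with hc | hc
  · left
    let C : Cfsg.Agent.Lib.L33Loc.Ctx G :=
      ⟨t, ht, e, hc, hsimple, fun h2 h1 => Cfsg.Agent.Lib.L33Simple.inv_conj_t e ht hs h2 h1⟩
    obtain ⟨i⟩ := C.equiv
    have hcenter : Subgroup.center (Matrix.SpecialLinearGroup (Fin 3) (ZMod 3)) = ⊥ := by
      rw [Subgroup.eq_bot_iff_forall]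
      intro A hA
      obtain ⟨r, hr, hr'⟩ := Matrix.SpecialLinearGroup.mem_center_iff.1 hA
      have hr1 : r = 1 := by
        have hall : ∀ s : ZMod 3, s ^ 3 = 1 → s = 1 := by decide
        apply hall
        simpa using hr
      apply Subtype.ext
      rw [← hr', hr1]
      simp
    let π₀ : Matrix.SpecialLinearGroup (Fin 3) (ZMod 3) →*
        Matrix.ProjectiveSpecialLinearGroup (Fin 3) (ZMod 3) := QuotientGroup.mk' _
    have hbij : Function.Bijective π₀ := by
      refine ⟨?_, QuotientGroup.mk'_surjective _⟩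
      rw [← MonoidHom.ker_eq_bot_iff]
      show (QuotientGroup.mk' _).ker = ⊥
      rw [QuotientGroup.ker_mk']
      exact hcenter
    let ε : Matrix.SpecialLinearGroup (Fin 3) (ZMod 3) ≃*
        Matrix.ProjectiveSpecialLinearGroup (Fin 3) (ZMod 3) := MulEquiv.ofBijective π₀ hbij
    haveI : Fact (Nat.Prime 3) := ⟨by norm_num⟩
    exact ⟨ZMod 3, inferInstance, inferInstance, ZMod.card 3, ⟨i.trans ε⟩⟩
  · right
    exact Cfsg.Agent.Lib.CommGraph.iso_of_simple hsimple hc

end Cfsg.Agent.S2916
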