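import Cfsg.Statements.S2928
import Cfsg.Agent.Lib.AltFStarD

set_option autoImplicit false
open Cfsg

namespace Cfsg.Agent.S2928

/-- Let n ≥ 8 and let H be a subgroup of the symmetric group of degree n whose generalized Fitting subgroup F*(H) is quasisimple. If H contains a Sylow 2-subgroup of the alternating group of degree n, then F*(H) is isomorphic to an alternating group of degree m for some m ∈ {n − 3, n − 2, n − 1, n}. -/
theorem result (n : ℕ) (hn : 8 ≤ n) (H : Subgroup (Equiv.Perm (Fin n))) (hF : Cfsg.IsQuasisimple ↥(Cfsg.generalizedFittingSubgroup ↥H)) (hS : ∃ P : Sylow 2 ↥(alternatingGroup (Fin n)), ((P : Subgroup ↥(alternatingGroup (Fin n))).map (alternatingGroup (Fin n)).subtype) ≤ H) : ∃ m : ℕ, (m = n - 3 ∨ m = n - 2 ∨ m = n - 1 ∨ m = n) ∧ Nonempty (↥(Cfsg.generalizedFittingSubgroup ↥H) ≃* ↥(alternatingGroup (Fin m))) := by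
  classical
  obtain ⟨P, hP⟩ := hS
  let F := generalizedFittingSubgroup ↥H
  let L : Subgroup (Equiv.Perm (Fin n)) := F.map H.subtype
  let e : ↥F ≃* ↥L := F.equivMapOfInjective H.subtype H.subtype_injective
  have hFn : F.Normal := Cfsg.Agent.Lib.LocalCore.generalizedFitting_normal
  have hLH : L ≤ H := by
    rintro _ ⟨x, -, rfl⟩
    exact x.2
  have s : Cfsg.Agent.Lib.AltFStar.Setup H L
      ((P : Subgroup ↥(alternatingGroup (Fin n))).map (alternatingGroup (Fin n)).subtype) :=
    { hLH := hLH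
      hLn := by
        rintro h hh _ ⟨x, hx, rfl⟩
        exact ⟨_, hFn.conj_mem x hx ⟨h, hh⟩, rfl⟩
      hqs := Cfsg.Agent.Lib.LocalCore.qs_of_mulEquiv e hF
      hcen := by
        intro t ht hcomm
        have hmem : (⟨t, ht⟩ : ↥H) ∈ Subgroup.centralizer (F : Set ↥H) := by
          rw [Subgroup.mem_centralizer_iff]
          intro g hg
          apply Subtype.ext
          exact (hcomm g.1 ⟨g, hg, rfl⟩).symm
        exact ⟨_, Cfsg.Agent.Lib.LocalCore.centralizer_generalizedFitting_le hmem, rfl⟩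
      hPH := hP
      hconj := fun M hM S h1 h2 h3 h4 =>
        Cfsg.Agent.Lib.AltFStar.conj_into_sylow P M hM S h1 h2 h3 h4 }
  obtain ⟨m, ⟨h1, h2⟩, ⟨f⟩⟩ := s.main (by simpa using hn)
  simp only [Fintype.card_fin] at h1 h2
  exact ⟨m, by omega, ⟨e.trans f⟩⟩

end Cfsg.Agent.S2928
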