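import Cfsg.Statements.S2933
import Cfsg.Agent.Lib.Fpf3C
import Cfsg.Agent.Lib.T64U
import Cfsg.Agent.Lib.T64B

set_option autoImplicit false
open Cfsg

namespace Cfsg.Agent.S2933

section

open Cfsg.Agent.Lib.T64 Cfsg.Agent.Lib.Fpf3 Cfsg.Agent.Lib.Fpf3B Cfsg.Agent.Lib.Fpf3C

variable {G : Type*} [Group G]

/-- Conjugation by an element of the normalizer. -/
def conjAut (T : Subgroup G) (g : G) (hg : g ∈ Subgroup.normalizer (T : Set G)) : MulAut T where
  toFun x := ⟨g * x * g⁻¹, (Subgroup.mem_normalizer_iff.mp hg x).mp x.2⟩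
  invFun x := ⟨g⁻¹ * x * g, by
    have h1 := (Subgroup.mem_normalizer_iff.mp hg (g⁻¹ * x * g)).mpr
    apply h1
    have h2 : g * (g⁻¹ * (x : G) * g) * g⁻¹ = x := by group
    rw [h2]
    exact x.2⟩
  left_inv x := by
    apply Subtype.ext
    show g⁻¹ * (g * x * g⁻¹) * g = x
    group
  right_inv x := by
    apply Subtype.ext
    show g * (g⁻¹ * x * g) * g⁻¹ = x
    group
  map_mul' a b := by
    apply Subtype.ext
    show g * (a * b) * g⁻¹ = (g * a * g⁻¹) * (g * b * g⁻¹)
    group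

theorem conjAut_coe (T : Subgroup G) (g : G) (hg : g ∈ Subgroup.normalizer (T : Set G)) (x : T) :
    ((conjAut T g hg x : T) : G) = g * x * g⁻¹ := rfl

theorem fixed_all {V : Type*} [Finite V] (hV : Nat.card V = 4) (f : V → V)
    (hf : ∀ x, f (f (f x)) = x) {a b : V} (hab : a ≠ b) (ha : f a = a) (hb : f b = b) (x : V) :
    f x = x := by
  by_contra hx
  have hinj : Function.Injective f := fun p q hpq => by
    rw [← hf p, hpq, hf]
  have h1 : x ≠ a := fun h => hx (by rw [h, ha])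
  have h2 : x ≠ b := fun h => hx (by rw [h, hb])
  have h3 : f x ≠ a := fun h => h1 (hinj (h.trans ha.symm))
  have h4 : f x ≠ b := fun h => h2 (hinj (h.trans hb.symm))
  have h5 : f (f x) ≠ a := fun h => h3 (hinj (h.trans ha.symm))
  have h6 : f (f x) ≠ b := fun h => h4 (hinj (h.trans hb.symm))
  have h7 : f (f x) ≠ x := fun h => hx (by
    have := hf x
    rw [h] at this
    exact this)
  have h8 : f (f x) ≠ f x := fun h => hx (hinj h)
  let g : Fin 5 → V := ![a, b, x, f x, f (f x)]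
  have hg : Function.Injective g := by
    intro i j hij
    fin_cases i <;> fin_cases j <;> first | rfl | exfalso
    all_goals simp [g] at hij
    all_goals first
      | exact hab hij
      | exact hab hij.symm
      | exact h1 hij
      | exact h1 hij.symm
      | exact h2 hij
      | exact h2 hij.symm
      | exact h3 hij
      | exact h3 hij.symm
      | exact h4 hij
      | exact h4 hij.symm
      | exact h5 hij
      | exact h5 hij.symm
      | exact h6 hij
      | exact h6 hij.symm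
      | exact h7 hij
      | exact h7 hij.symm
      | exact h8 hij
      | exact h8 hij.symm
      | exact hx hij
      | exact hx hij.symm
  have h9 := Nat.card_le_card_of_injective g hg
  rw [hV] at h9
  simp at h9

theorem main {G : Type*} [Group G] [Finite G] (T V : Subgroup G) (hT : IsPGroup 2 ↥T)
    (hVT : V ≤ T ⊓ Subgroup.centralizer (T : Set G)) (hV : Nat.card ↥V = 4 ∧ ∀ v ∈ V, v ^ 2 = 1)
    (t ρ : G) (ht : orderOf t = 2) (hρ : orderOf ρ = 3)
    (htn : t ∈ Subgroup.normalizer (V : Set G) ⊓ Subgroup.normalizer (T : Set G))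
    (hρn : ρ ∈ Subgroup.normalizer (V : Set G) ⊓ Subgroup.normalizer (T : Set G))
    (htρ : t * ρ = ρ * t) (htV : t ∈ Subgroup.centralizer (V : Set G))
    (hVρ : ⁅V, Subgroup.zpowers ρ⁆ = V)
    (hCt : T ⊓ Subgroup.centralizer ({t} : Set G) = V) :
    (Nat.card ↥T = 16 ∧ ∀ x ∈ T, x ^ 2 = 1) ∨
    (∃ n : ℕ, 1 ≤ n ∧ Nonempty (↥T ≃* Multiplicative (ZMod (2 ^ n)) × Multiplicative (ZMod (2 ^ n)))) ∨
    (∃ (F : Type) (_ : Field F) (_ : Fintype F), Fintype.card F = 4 ∧
      ∀ P : Sylow 2 (Matrix.ProjectiveSpecialLinearGroup (Fin 3) F),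
        Nonempty (↥T ≃* ↥(P : Subgroup (Matrix.ProjectiveSpecialLinearGroup (Fin 3) F)))) ∨
    (∃ (F : Type) (_ : Field F) (_ : Fintype F), Fintype.card F = 16 ∧
      ∀ P : Sylow 2 (Cfsg.PSU 3 F 4), Nonempty (↥T ≃* ↥(P : Subgroup (Cfsg.PSU 3 F 4)))) := by
  classical
  have hρ3 : ρ ^ 3 = 1 := by rw [← hρ]; exact pow_orderOf_eq_one ρ
  have ht2 : t ^ 2 = 1 := by rw [← ht]; exact pow_orderOf_eq_one t
  let α : MulAut T := conjAut T t htn.2
  let r : MulAut T := conjAut T ρ hρn.2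
  have hαc : ∀ x : T, ((α x : T) : G) = t * x * t⁻¹ := fun x => rfl
  have hrc : ∀ x : T, ((r x : T) : G) = ρ * x * ρ⁻¹ := fun x => rfl
  have hα : ∀ x, α (α x) = x := by
    intro x
    apply Subtype.ext
    rw [hαc, hαc]
    have h1 : t⁻¹ = t := inv_eq_of_mul_eq_one_left (by rw [← pow_two]; exact ht2)
    rw [h1]
    calc t * (t * (x : G) * t) * t = (t ^ 2) * x * (t ^ 2) := by simp only [pow_two]; group
      _ = x := by rw [ht2]; group
  have hαr : ∀ x, α (r x) = r (α x) := by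
    intro x
    apply Subtype.ext
    rw [hαc, hrc, hrc, hαc]
    have h1 : ρ⁻¹ * t⁻¹ = t⁻¹ * ρ⁻¹ := by
      rw [← mul_inv_rev, ← mul_inv_rev, htρ]
    calc t * (ρ * (x : G) * ρ⁻¹) * t⁻¹ = (t * ρ) * x * (ρ⁻¹ * t⁻¹) := by group
      _ = (ρ * t) * x * (t⁻¹ * ρ⁻¹) := by rw [htρ, h1]
      _ = _ := by group
  have hr3 : ∀ x, r (r (r x)) = x := by
    intro x
    apply Subtype.ext
    rw [hrc, hrc, hrc]
    calc ρ * (ρ * (ρ * (x : G) * ρ⁻¹) * ρ⁻¹) * ρ⁻¹ = (ρ ^ 3) * x * (ρ ^ 3)⁻¹ := by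
          simp only [pow_succ, pow_zero]; group
      _ = x := by rw [hρ3]; group
  have hVT' : V ≤ T := fun v hv => (hVT hv).1
  let V' : Subgroup T := V.subgroupOf T
  have hV'4 : Nat.card V' = 4 := by
    rw [Nat.card_congr (Subgroup.subgroupOfEquivOfLe hVT').toEquiv, hV.1]
  have hV' : ∀ x : T, α x = x ↔ x ∈ V' := by
    intro x
    rw [Subgroup.mem_subgroupOf, ← hCt, Subgroup.mem_inf, Subtype.ext_iff, hαc]
    constructor
    · intro h1
      refine ⟨x.2, ?_⟩
      rw [Subgroup.mem_centralizer_iff]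
      intro s hs
      rw [Set.mem_singleton_iff] at hs
      subst hs
      calc s * (x : G) = s * x * s⁻¹ * s := by group
        _ = _ := by rw [h1]
    · rintro ⟨-, h1⟩
      rw [Subgroup.mem_centralizer_iff] at h1
      have h2 := h1 t (Set.mem_singleton t)
      rw [h2]
      group
  have hV'Z : V' ≤ Subgroup.center T := by
    intro v hv
    rw [Subgroup.mem_center_iff]
    intro g
    apply Subtype.ext
    have h1 := (Subgroup.mem_inf.mp (hVT (show (v : G) ∈ V from hv))).2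
    rw [Subgroup.mem_centralizer_iff] at h1
    have h2 := h1 g g.2
    exact h2
  -- the element of order three has no fixed points
  have hrfp : ∀ y, r y = y → y = 1 := by
    intro y hy
    by_contra hy1
    let X : Subgroup T :=
      { carrier := {x | r x = x}
        one_mem' := map_one r
        mul_mem' := fun {a b} (ha : r a = a) (hb : r b = b) => by
          show r (a * b) = a * b
          rw [map_mul, ha, hb]
        inv_mem' := fun {a} (ha : r a = a) => by
          show r a⁻¹ = a⁻¹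
          rw [map_inv, ha] }
    have hXα : ∀ x ∈ X, α x ∈ X := by
      intro x hx
      have hx' : r x = x := hx
      show r (α x) = α x
      rw [← hαr, hx']
    have hnt : Nontrivial X := ⟨⟨⟨y, hy⟩, 1, fun h1 => hy1 (congrArg Subtype.val h1)⟩⟩
    have hpX : IsPGroup 2 X := hT.to_subgroup X
    obtain ⟨a, ha1, haf⟩ := exists_fix_invol hpX (fun x : X => ⟨α x, hXα x x.2⟩)
      (fun x => Subtype.ext (hα x)) (Subtype.ext (map_one α))
    have ha2 : α (a : T) = a := congrArg Subtype.val haf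
    have ha3 : ((a : T) : G) ∈ V := (hV' _).mp ha2
    have ha4 : ((a : T) : G) ≠ 1 := fun h1 => ha1 (Subtype.ext (Subtype.ext h1))
    have ha5 : r (a : T) = a := a.2
    have hVn : ∀ v ∈ V, ρ * v * ρ⁻¹ ∈ V := fun v hv =>
      (Subgroup.mem_normalizer_iff.mp hρn.1 v).mp hv
    have hcen : ∀ v : V, ρ * (v : G) * ρ⁻¹ = v := by
      have := fixed_all (V := V) hV.1 (fun v => ⟨ρ * v * ρ⁻¹, hVn v v.2⟩)
        (fun x => Subtype.ext (by
          show ρ * (ρ * (ρ * (x : G) * ρ⁻¹) * ρ⁻¹) * ρ⁻¹ = x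
          calc ρ * (ρ * (ρ * (x : G) * ρ⁻¹) * ρ⁻¹) * ρ⁻¹ = (ρ ^ 3) * x * (ρ ^ 3)⁻¹ := by
                simp only [pow_succ, pow_zero]; group
            _ = x := by rw [hρ3]; group))
        (a := ⟨(a : T), ha3⟩) (b := 1) (fun h1 => ha4 (congrArg Subtype.val h1))
        (Subtype.ext (show ρ * ((a : T) : G) * ρ⁻¹ = ((a : T) : G) from congrArg Subtype.val ha5))
        (Subtype.ext (by simp))
      intro v
      exact congrArg Subtype.val (this v)
    have h1 : ⁅V, Subgroup.zpowers ρ⁆ = ⊥ := by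
      rw [Subgroup.commutator_eq_bot_iff_le_centralizer]
      intro v hv
      rw [Subgroup.mem_centralizer_iff]
      rintro _ ⟨k, rfl⟩
      have h2 : Commute ρ v := by
        have h3 := hcen ⟨v, hv⟩
        show ρ * v = v * ρ
        calc ρ * v = ρ * v * ρ⁻¹ * ρ := by group
          _ = _ := by rw [show ρ * v * ρ⁻¹ = v from h3]
      exact (h2.zpow_left k).eq
    rw [h1] at hVρ
    have h2 : Nat.card V = 1 := by
      rw [← hVρ]
      simp
    rw [hV.1] at h2
    norm_num at h2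
  have hF : Fpf r := ⟨hr3, hrfp⟩
  rcases main_abs hT hF α hα hαr V' hV' hV'Z hV'4 with h1 | h1 | h1
  · left
    refine ⟨h1.1, fun x hx => ?_⟩
    exact congrArg Subtype.val (h1.2 ⟨x, hx⟩)
  · exact Or.inr (Or.inl h1)
  · right; right
    obtain ⟨hcard, hna⟩ := h1
    obtain ⟨hcl, hc4⟩ := cl_of_fpf hF hcard hna
    by_cases hroot : ∀ s : T, s ^ 2 = 1 → s ∈ Subgroup.center T
    · right
      have : Fact (Nat.Prime 2) := ⟨Nat.prime_two⟩
      let F := GaloisField 2 4
      let _ : Fintype F := Fintype.ofFinite F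
      have hcardF : Fintype.card F = 16 := by
        rw [← Nat.card_eq_fintype_card, GaloisField.card 2 4 (by norm_num)]
        norm_num
      exact ⟨F, inferInstance, inferInstance, hcardF,
        fun P => Cfsg.Agent.Lib.T64U.psu_sylow_iso hcl hF hcard hc4 hroot hcardF P⟩
    · left
      push Not at hroot
      obtain ⟨a, ha, haZ⟩ := hroot
      rw [pow_two] at ha
      obtain ⟨b, hb, hab⟩ := Cfsg.Agent.Lib.T64B.exists_b hcl hF hc4 ha haZ
      have : Fact (Nat.Prime 2) := ⟨Nat.prime_two⟩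
      let F := GaloisField 2 2
      let _ : Fintype F := Fintype.ofFinite F
      have hcardF : Fintype.card F = 4 := by
        rw [← Nat.card_eq_fintype_card, GaloisField.card 2 2 (by norm_num)]
        norm_num
      obtain ⟨S, ⟨e⟩⟩ := Cfsg.Agent.Lib.T64B.sylow_iso hcardF hcl hF hcard ha hb hab
      exact ⟨F, inferInstance, inferInstance, hcardF, fun P => ⟨e.trans (Sylow.equiv S P)⟩⟩

end

/-- Let T be a 2-subgroup of a finite group G, V ≤ Z(T) a four-group, and t, ρ ∈ N_G(V) ∩ N_G(T) elements of order 2 and 3 with t commuting with ρ and with V. If [V, ρ] = V and C_T(t) = V, then T is elementary abelian of order 16, or homocyclic of rank 2 (ℤ/2ⁿ × ℤ/2ⁿ for some n ≥ 1), or isomorphic to a Sylow 2-subgroup of PSL₃(4) or of PSU₃(4). -/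
theorem result {G : Type*} [Group G] [Finite G] (T V : Subgroup G) (hT : IsPGroup 2 ↥T) (hVT : V ≤ T ⊓ Subgroup.centralizer (T : Set G)) (hV : Nat.card ↥V = 4 ∧ ∀ v ∈ V, v ^ 2 = 1) (t ρ : G) (ht : orderOf t = 2) (hρ : orderOf ρ = 3) (htn : t ∈ Subgroup.normalizer (V : Set G) ⊓ Subgroup.normalizer (T : Set G)) (hρn : ρ ∈ Subgroup.normalizer (V : Set G) ⊓ Subgroup.normalizer (T : Set G)) (htρ : t * ρ = ρ * t) (htV : t ∈ Subgroup.centralizer (V : Set G)) (hVρ : ⁅V, Subgroup.zpowers ρ⁆ = V) (hCt : T ⊓ Subgroup.centralizer ({t} : Set G) = V) : (Nat.card ↥T = 16 ∧ ∀ x ∈ T, x ^ 2 = 1) ∨ (∃ n : ℕ, 1 ≤ n ∧ Nonempty (↥T ≃* Multiplicative (ZMod (2 ^ n)) × Multiplicative (ZMod (2 ^ n)))) ∨ (∃ (F : Type) (_ : Field F) (_ : Fintype F), Fintype.card F = 4 ∧ ∀ P : Sylow 2 (Matrix.ProjectiveSpecialLinearGroup (Fin 3) F), Nonempty (↥T ≃* ↥(P : Subgroup (Matrix.ProjectiveSpecialLinearGroup (Fin 3) F)))) ∨ (∃ (F : Type) (_ : Field F) (_ : Fintype F), Fintype.card F =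 16 ∧ ∀ P : Sylow 2 (Cfsg.PSU 3 F 4), Nonempty (↥T ≃* ↥(P : Subgroup (Cfsg.PSU 3 F 4)))) :=
  main T V hT hVT hV t ρ ht hρ htn hρn htρ htV hVρ hCt

end Cfsg.Agent.S2933
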