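import Mathlib
import Cfsg.Statements.S2968
import Cfsg.Agent.Lib.Isolated

set_option autoImplicit false
open Cfsg

namespace Cfsg.Agent.S2968

open Cfsg.Agent.Lib.Isolated

/-- Let G be a finite group, p a prime, P a Sylow p-subgroup of G and x ∈ P an element of p-power order which is isolated in G (the only conjugate of x commuting with x is x itself). Then x lies in the centre of P, and the subgroup generated by x is both strongly closed and weakly closed in P with respect to G. -/
theorem result {G : Type*} [Group G] [Finite G] {p : ℕ} [Fact p.Prime] (P : Sylow p G) (x : G) (hxP : x ∈ (P : Subgroup G)) (hx : ∃ k : ℕ, orderOf x = p ^ k) (hiso : Cfsg.IsIsolated x) : x ∈ (P : Subgroup G) ⊓ Subgroup.centralizer ((P : Subgroup G) : Set G) ∧ Cfsg.IsStronglyClosed (Subgroup.zpowers x) (P : Subgroup G) ∧ Cfsg.IsWeaklyClosed (Subgroup.zpowers x) (P : Subgroup G) := by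
  have hPp : IsPGroup p (P : Subgroup G) := P.isPGroup'
  have hcomm : ∀ y ∈ (P : Subgroup G), y * x * y⁻¹ = x := fun y hy =>
    conj_eq_of_mem_pgroup hiso hPp hxP hy
  have hle : Subgroup.zpowers x ≤ (P : Subgroup G) := by
    rw [Subgroup.zpowers_le]; exact hxP
  refine ⟨Subgroup.mem_inf.mpr ⟨hxP, ?_⟩, ⟨hle, ?_⟩, ⟨hle, ?_⟩⟩
  · rw [Subgroup.mem_centralizer_iff]
    intro y hy
    have := hcomm y hy
    calc y * x = (y * x * y⁻¹) * y := by group
      _ = x * y := by rw [this]
  · intro u hu g hg
    obtain ⟨k, rfl⟩ := Subgroup.mem_zpowers_iff.mp hu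
    set y := g * x ^ k * g⁻¹ with hy
    have hxy : y * x * y⁻¹ = x := hcomm y hg
    have hxC : x ∈ Subgroup.centralizer ({y} : Set G) := by
      rw [Subgroup.mem_centralizer_iff]
      intro h hh
      rw [Set.mem_singleton_iff] at hh
      subst hh
      calc y * x = (y * x * y⁻¹) * y := by group
        _ = x * y := by rw [hxy]
    have hy' : y = (g * x * g⁻¹) ^ k := by
      rw [hy, conj_zpow]
    have hgxC : g * x * g⁻¹ ∈ Subgroup.centralizer ({y} : Set G) := by
      rw [Subgroup.mem_centralizer_iff]
      intro h hh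
      rw [Set.mem_singleton_iff] at hh
      subst hh
      rw [hy']
      exact ((Commute.refl (g * x * g⁻¹)).zpow_left k).eq
    obtain ⟨c, hc, hcx⟩ := exists_conj_in_subgroup hiso hx hxC hgxC
    have hcy : c * y = y * c := by
      have := (Subgroup.mem_centralizer_iff.mp hc) y (Set.mem_singleton _)
      exact this.symm
    have h1 : y = c * x ^ k * c⁻¹ := by
      rw [hy', ← hcx, conj_zpow]
    have h2 : x ^ k = y := by
      have : c * x ^ k * c⁻¹ = c * y * c⁻¹ := by
        rw [← h1, hcy]; group
      have h3 := mul_left_cancel (mul_right_cancel this)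
      exact h3
    rw [← h2]
    exact Subgroup.zpow_mem_zpowers x k
  · intro g hg
    have h1 : g * x * g⁻¹ ∈ (P : Subgroup G) :=
      hg ⟨x, Subgroup.mem_zpowers x, rfl⟩
    have h2 : g * x * g⁻¹ = x := conj_eq_of_conj_mem hiso hPp hxP h1
    rw [MonoidHom.map_zpowers]
    show Subgroup.zpowers (g * x * g⁻¹) = _
    rw [h2]

end Cfsg.Agent.S2968
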