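import Mathlib
import Cfsg.Statements.S2969
import Cfsg.Agent.Lib.Isolated

set_option autoImplicit false
open Cfsg

namespace Cfsg.Agent.S2969

open Cfsg.Agent.Lib.Isolated

/-- Let G be a finite group, p a prime and x ∈ G an element of p-power order which is isolated in G. If R is a p-subgroup of G containing x, then N_G(R) ≤ C_G(x); in particular x lies in the centre of R. Moreover, if x lies in a normal subgroup N of a subgroup H of G, then H = N·C_H(x). -/
theorem result {G : Type*} [Group G] [Finite G] {p : ℕ} [Fact p.Prime] (x : G) (hx : ∃ k : ℕ, orderOf x = p ^ k) (hiso : Cfsg.IsIsolated x) : (∀ R : Subgroup G, IsPGroup p ↥R → x ∈ R → Subgroup.normalizer (R : Set G) ≤ Subgroup.centralizer ({x} : Set G)) ∧ (∀ H N : Subgroup G, N ≤ H → H ≤ Subgroup.normalizer (N : Set G) → x ∈ N → N ⊔ (H ⊓ Subgroup.centralizer ({x} : Set G)) = H) := by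
  have hcent : ∀ {g : G}, g * x * g⁻¹ = x → g ∈ Subgroup.centralizer ({x} : Set G) := by
    intro g hg
    rw [Subgroup.mem_centralizer_iff]
    intro h hh
    rw [Set.mem_singleton_iff] at hh
    subst hh
    calc h * g = (g * h * g⁻¹) * g := by rw [hg]
      _ = g * h := by group
  refine ⟨?_, ?_⟩
  · intro R hR hxR g hg
    apply hcent
    have h1 : g * x * g⁻¹ ∈ R := (Subgroup.mem_normalizer_iff.mp hg x).mp hxR
    exact conj_eq_of_conj_mem hiso hR hxR h1
  · intro H N hNH hHN hxN
    apply le_antisymm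
    · exact sup_le hNH inf_le_left
    · intro h hh
      have h1 : h * x * h⁻¹ ∈ N := (Subgroup.mem_normalizer_iff.mp (hHN hh) x).mp hxN
      obtain ⟨n, hn, hnx⟩ := exists_conj_in_subgroup hiso hx hxN h1
      have h2 : n⁻¹ * h ∈ H ⊓ Subgroup.centralizer ({x} : Set G) := by
        refine Subgroup.mem_inf.mpr ⟨H.mul_mem (H.inv_mem (hNH hn)) hh, hcent ?_⟩
        calc n⁻¹ * h * x * (n⁻¹ * h)⁻¹ = n⁻¹ * (h * x * h⁻¹) * n := by group
          _ = n⁻¹ * (n * x * n⁻¹) * n := by rw [hnx]
          _ = x := by group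
      have h3 : h = n * (n⁻¹ * h) := by group
      rw [h3]
      exact Subgroup.mul_mem _ (Subgroup.mem_sup_left hn) (Subgroup.mem_sup_right h2)

end Cfsg.Agent.S2969
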