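import Mathlib
import Cfsg.Statements.S2971
import Cfsg.Agent.S2970
import Cfsg.Agent.Lib.OddPGroup
import Cfsg.Agent.Lib.PCore

set_option autoImplicit false
set_option linter.style.haveILetI false
open Cfsg

namespace Cfsg.Agent.S2971

universe u

/-- Two distinct subgroups of order `p` in a finite `p`-group yield a commutative subgroup of exponent `p` and
order larger than `p`. -/
theorem exists_rank_two {R : Type u} [Group R] [Finite R] {p : ℕ} [hp : Fact p.Prime] (hR : IsPGroup p R)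
    (H K : Subgroup R) (hH : Nat.card H = p) (hK : Nat.card K = p) (hne : H ≠ K) :
    ∃ A : Subgroup R, IsMulCommutative A ∧ (∀ a ∈ A, a ^ p = 1) ∧ p < Nat.card A := by
  classical
  have hpp : p.Prime := hp.out
  -- a central element of order `p`
  haveI : Nontrivial H := by
    apply (Finite.one_lt_card_iff_nontrivial (α := H)).mp
    rw [hH]; exact hpp.one_lt
  haveI : Nontrivial R := by
    obtain ⟨x, hx⟩ := exists_ne (1 : H)
    exact ⟨⟨x, 1, fun h => hx (Subtype.ext h)⟩⟩
  haveI hZnt : Nontrivial (Subgroup.center R) := hR.center_nontrivial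
  have hZdvd : p ∣ Nat.card (Subgroup.center R) := by
    have hZp : IsPGroup p (Subgroup.center R) := hR.to_subgroup _
    obtain ⟨n, hn⟩ := IsPGroup.iff_card.mp hZp
    have h1 : 1 < Nat.card (Subgroup.center R) := Finite.one_lt_card
    have hn0 : n ≠ 0 := by
      rintro rfl
      simp [hn] at h1
    rw [hn]
    exact dvd_pow_self p hn0
  obtain ⟨z₀, hz₀⟩ := exists_prime_orderOf_dvd_card' (G := Subgroup.center R) p hZdvd
  set z : R := (z₀ : R) with hz
  have hzord : orderOf z = p := by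
    rw [hz, Subgroup.orderOf_coe, hz₀]
  have hzc : ∀ g : R, g * z = z * g := fun g => (Subgroup.mem_center_iff.mp z₀.2 g)
  set Z : Subgroup R := Subgroup.zpowers z with hZ
  have hZc : Nat.card Z = p := by rw [hZ, Nat.card_zpowers, hzord]
  -- choose `L ≠ Z`
  obtain ⟨L, hL, hLZ⟩ : ∃ L : Subgroup R, Nat.card L = p ∧ L ≠ Z := by
    by_cases h : H = Z
    · exact ⟨K, hK, fun h' => hne (h.trans h'.symm)⟩
    · exact ⟨H, hH, h⟩
  haveI : Fact (Nat.card L).Prime := ⟨by rw [hL]; exact hpp⟩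
  haveI hLcyc : IsCyclic L := isCyclic_of_prime_card rfl
  have hLcomm : ∀ a ∈ L, ∀ b ∈ L, a * b = b * a := by
    intro a ha b hb
    letI : CommGroup L := IsCyclic.commGroup
    have := mul_comm (⟨a, ha⟩ : L) ⟨b, hb⟩
    exact congrArg Subtype.val this
  have hLp : ∀ a ∈ L, a ^ p = 1 := by
    intro a ha
    have h1 : (⟨a, ha⟩ : L) ^ Nat.card L = 1 := pow_card_eq_one'
    rw [hL] at h1
    simpa using congrArg Subtype.val h1
  have hZcen : ∀ a ∈ Z, ∀ g : R, g * a = a * g := by
    intro a ha g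
    obtain ⟨k, rfl⟩ := Subgroup.mem_zpowers_iff.mp ha
    exact ((Commute.zpow_right (show Commute g z from hzc g) k))
  have hZp : ∀ a ∈ Z, a ^ p = 1 := by
    intro a ha
    have h1 : (⟨a, ha⟩ : Z) ^ Nat.card Z = 1 := pow_card_eq_one'
    rw [hZc] at h1
    simpa using congrArg Subtype.val h1
  haveI hZn : Z.Normal := ⟨fun a ha g => by
    have h1 := hZcen a ha g
    have : g * a * g⁻¹ = a := by rw [h1]; group
    rw [this]; exact ha⟩
  have hmemsup : ∀ a ∈ L ⊔ Z, ∃ a1 ∈ L, ∃ a2 ∈ Z, a = a1 * a2 := by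
    intro a ha
    have h1 : a ∈ ((L ⊔ Z : Subgroup R) : Set R) := ha
    rw [Subgroup.mul_normal] at h1
    obtain ⟨a1, ha1, a2, ha2, rfl⟩ := Set.mem_mul.mp h1
    exact ⟨a1, ha1, a2, ha2, rfl⟩
  refine ⟨L ⊔ Z, ?_, ?_, ?_⟩
  · refine ⟨⟨?_⟩⟩
    rintro ⟨a, ha⟩ ⟨b, hb⟩
    apply Subtype.ext
    obtain ⟨a1, ha1, a2, ha2, rfl⟩ := hmemsup a ha
    obtain ⟨b1, hb1, b2, hb2, rfl⟩ := hmemsup b hb
    show a1 * a2 * (b1 * b2) = b1 * b2 * (a1 * a2)
    calc a1 * a2 * (b1 * b2) = a1 * (a2 * b1) * b2 := by group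
      _ = a1 * (b1 * a2) * b2 := by rw [hZcen a2 ha2 b1]
      _ = (a1 * b1) * (a2 * b2) := by group
      _ = (b1 * a1) * (b2 * a2) := by rw [hLcomm a1 ha1 b1 hb1, hZcen a2 ha2 b2]
      _ = b1 * (a1 * b2) * a2 := by group
      _ = b1 * (b2 * a1) * a2 := by rw [hZcen b2 hb2 a1]
      _ = b1 * b2 * (a1 * a2) := by group
  · intro a ha
    obtain ⟨a1, ha1, a2, ha2, rfl⟩ := hmemsup a ha
    have hcomm : Commute a1 a2 := hZcen a2 ha2 a1
    rw [hcomm.mul_pow, hLp a1 ha1, hZp a2 ha2, one_mul]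
  · by_contra hle
    push Not at hle
    have hL1 : L = L ⊔ Z := by
      apply Subgroup.eq_of_le_of_card_ge le_sup_left
      rw [hL]; exact hle
    have hZ1 : Z = L ⊔ Z := by
      apply Subgroup.eq_of_le_of_card_ge le_sup_right
      rw [hZc]; exact hle
    exact hLZ (hL1.trans hZ1.symm)

theorem result {G : Type*} [Group G] [Finite G] {p : ℕ} [Fact p.Prime] (hp : p ≠ 2) (hrk : Cfsg.PRankLE p 1 G) (x : G) (hx : orderOf x = p) (hiso : Cfsg.IsIsolated x) : Cfsg.InZStar p x := by
  classical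
  have hpp : p.Prime := Fact.out
  -- the Sylow subgroups are cyclic
  have hcyc : ∀ P : Sylow p G, IsCyclic ↥(P : Subgroup G) := by
    intro P
    apply Cfsg.Agent.Lib.OddPGroup.isCyclic_of_unique hp P.isPGroup'
    intro H K hH hK
    by_contra hne
    obtain ⟨A, hA1, hA2, hA3⟩ := exists_rank_two P.isPGroup' H K hH hK hne
    have h1 := hrk (A.map (P : Subgroup G).subtype) ?_ ?_
    · rw [Subgroup.card_map_of_injective (P : Subgroup G).subtype_injective] at h1
      rw [pow_one] at h1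
      omega
    · refine ⟨⟨?_⟩⟩
      rintro ⟨a, ha⟩ ⟨b, hb⟩
      obtain ⟨a', ha', rfl⟩ := Subgroup.mem_map.mp ha
      obtain ⟨b', hb', rfl⟩ := Subgroup.mem_map.mp hb
      apply Subtype.ext
      have := hA1.is_comm.comm (⟨a', ha'⟩ : A) ⟨b', hb'⟩
      have h2 : a' * b' = b' * a' := congrArg Subtype.val this
      show ((a' : G) * (b' : G)) = (b' : G) * (a' : G)
      exact congrArg Subtype.val h2
    · intro a ha
      obtain ⟨a', ha', rfl⟩ := Subgroup.mem_map.mp ha
      have := hA2 a' ha'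
      simpa using congrArg Subtype.val this
  have hx1 : x ≠ 1 := by
    rintro rfl
    rw [orderOf_one] at hx
    exact hpp.one_lt.ne hx
  have hnpc : Cfsg.HasNormalPComplement p G :=
    (Cfsg.Agent.S2970.result x ⟨1, by rw [hx, pow_one]⟩ hiso).2 hx1 hcyc
  obtain ⟨P, N, hN, hNP⟩ := hnpc
  haveI := hN
  -- `N ≤ O_{p'}(G)`
  have hNcard : (Nat.card N).Coprime p := by
    have h1 : Nat.card N * Nat.card (P : Subgroup G) = Nat.card G := hNP.card_mul_card
    have h2 : (Nat.card (P : Subgroup G)).Coprime (P : Subgroup G).index := P.card_coprime_index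
    have hpos : 0 < Nat.card (P : Subgroup G) := Nat.card_pos
    have h3 : (P : Subgroup G).index = Nat.card N :=
      Nat.eq_of_mul_eq_mul_right hpos ((P : Subgroup G).index_mul_card.trans h1.symm)
    rw [h3] at h2
    have hdvd : p ∣ Nat.card (P : Subgroup G) ∨ Nat.card (P : Subgroup G) = 1 := by
      obtain ⟨n, hn⟩ := IsPGroup.iff_card.mp P.isPGroup'
      rcases n with _ | n
      · right; simpa using hn
      · left; rw [hn]; exact dvd_pow_self p (by omega)
    rcases hdvd with hd | hd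
    · exact (Nat.Coprime.coprime_dvd_left hd h2).symm
    · -- the Sylow subgroup is trivial: then `p ∤ |G|`, contradiction with `x`
      exfalso
      have hxS : p ∣ Nat.card G := by rw [← hx]; exact orderOf_dvd_natCard x
      have hcop := P.card_coprime_index
      rw [hd] at h1
      rw [mul_one] at h1
      have h4 : p ∣ Nat.card (P : Subgroup G) := by
        have := (Sylow.pow_dvd_card_of_pow_dvd_card P (n := 1) (by simpa using hxS))
        simpa using this
      rw [hd] at h4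
      exact hpp.one_lt.ne' (Nat.dvd_one.mp h4)
  have hNle : N ≤ pPrimeCore p G := Cfsg.Agent.Lib.PCore.le_pPrimeCore hN hNcard
  have hPcomm : ∀ a ∈ (P : Subgroup G), ∀ b ∈ (P : Subgroup G), a * b = b * a := by
    intro a ha b hb
    haveI := hcyc P
    letI : CommGroup (P : Subgroup G) := IsCyclic.commGroup
    have := mul_comm (⟨a, ha⟩ : (P : Subgroup G)) ⟨b, hb⟩
    exact congrArg Subtype.val this
  intro g
  apply hNle
  have hdecomp : ∀ u : G, ∃ a ∈ (P : Subgroup G), ∃ n ∈ N, u = a * n := by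
    intro u
    have hu : u ∈ (((P : Subgroup G) ⊔ N : Subgroup G) : Set G) := by
      rw [sup_comm, hNP.sup_eq_top]; trivial
    rw [Subgroup.mul_normal] at hu
    obtain ⟨a, ha, n, hn, rfl⟩ := Set.mem_mul.mp hu
    exact ⟨a, ha, n, hn, rfl⟩
  have hq : ((g * x * g⁻¹ * x⁻¹ : G) : G ⧸ N) = 1 := by
    obtain ⟨a, ha, n, hn, rfl⟩ := hdecomp g
    obtain ⟨b, hb, m, hm, hxe⟩ := hdecomp x
    rw [hxe]
    have hn1 : ((n : G) : G ⧸ N) = 1 := (QuotientGroup.eq_one_iff n).mpr hn
    have hm1 : ((m : G) : G ⧸ N) = 1 := (QuotientGroup.eq_one_iff m).mpr hm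
    have hab : ((a : G) : G ⧸ N) * (b : G) = (b : G) * (a : G) := by
      rw [← QuotientGroup.mk_mul, ← QuotientGroup.mk_mul, hPcomm a ha b hb]
    simp only [QuotientGroup.mk_mul, QuotientGroup.mk_inv, hn1, hm1, mul_one, mul_inv_rev, inv_one, one_mul]
    rw [hab]
    group
  exact (QuotientGroup.eq_one_iff _).mp hq

end Cfsg.Agent.S2971
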