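import Mathlib
import Cfsg.Statements.S2972
import Cfsg.Agent.Lib.IsolatedMin
import Cfsg.Agent.Lib.Replacement
import Cfsg.Agent.Lib.SylowConjLemmas

set_option autoImplicit false
open Cfsg

namespace Cfsg.Agent.S2972

/-- Let G be a finite group, p a prime and x ∈ G an isolated element of order p (the only conjugate of x commuting with x is x) which is not central modulo the largest normal subgroup of order prime to p, while x is central modulo the largest normal subgroup of order prime to p in every proper subgroup containing x, and the image of x is so in every quotient of G by a nontrivial normal subgroup (a minimal counterexample to the Z*_p statement). Then the derived subgroup G' is a non-abelian simple group and G = G'⟨x⟩. -/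
theorem result {G : Type*} [Group G] [Finite G] {p : ℕ} [Fact p.Prime] (x : G) (hx : orderOf x = p) (hiso : Cfsg.IsIsolated x) (hnz : ¬ Cfsg.InZStar p x) (hmin : ∀ (H : Subgroup G) (hxH : x ∈ H), H ≠ ⊤ → Cfsg.InZStar p (⟨x, hxH⟩ : ↥H)) (hquot : ∀ (N : Subgroup G) [N.Normal], N ≠ ⊥ → Cfsg.InZStar p (QuotientGroup.mk x : G ⧸ N)) : IsSimpleGroup ↥(commutator G) ∧ ¬ IsMulCommutative ↥(commutator G) ∧ commutator G ⊔ Subgroup.zpowers x = ⊤ := by
  classical
  have hcase : Cfsg.Agent.Lib.IsolatedMin.MinCE p x := ⟨hx, hiso, hnz, hmin, hquot⟩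
  have hxp : ∃ k : ℕ, orderOf x = p ^ k := hcase.hxp
  have hpq : p.Prime := Fact.out
  set W : Subgroup G := commutator G with hW
  have hWn : W.Normal := inferInstance
  -- the whole group
  have hWx : W ⊔ Subgroup.zpowers x = ⊤ := by
    apply hcase.normal_eq_top
    · exact Cfsg.Agent.Lib.IsolatedMin.normal_of_commutator_le le_sup_left
    · exact Subgroup.mem_sup_right (Subgroup.mem_zpowers x)
  have hWx' : Subgroup.zpowers x ⊔ W = ⊤ := by rw [sup_comm]; exact hWx
  -- the core facts
  have hcoreW : ∀ z ∈ pPrimeCore p W, z = 1 := by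
    intro z hz
    have h2 : (z : G) ∈ (pPrimeCore p W).map W.subtype := ⟨z, hz, rfl⟩
    rw [Cfsg.Agent.Lib.PCore.map_pPrimeCore_of_normal, hcase.core_eq_bot, inf_bot_eq] at h2
    exact Subtype.ext (Subgroup.mem_bot.mp h2)
  have hWne : W ≠ ⊥ := by
    intro h
    obtain ⟨g, hg⟩ := hcase.exists_conj_ne
    apply hg
    have h1 : g * x * g⁻¹ * x⁻¹ ∈ W := Subgroup.commutator_mem_commutator (Subgroup.mem_top g) (Subgroup.mem_top x)
    rw [h] at h1
    have h2 : g * x * g⁻¹ * x⁻¹ = 1 := Subgroup.mem_bot.mp h1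
    calc g * x * g⁻¹ = (g * x * g⁻¹ * x⁻¹) * x := by group
      _ = x := by rw [h2]; group
  have hWnt : Nontrivial W := by
    rw [Subgroup.nontrivial_iff_ne_bot]
    exact hWne
  -- a Sylow subgroup containing `x`
  obtain ⟨P, hP⟩ := (Cfsg.Agent.Lib.Isolated.isPGroup_zpowers (p := p) hxp).exists_le_sylow
  have hxP : x ∈ (P : Subgroup G) := hP (Subgroup.mem_zpowers x)
  -- minimal normal subgroups
  have hmain : ∀ S : Subgroup W, S.Normal → S ≠ ⊥ →
      (∀ S' : Subgroup W, S'.Normal → S' ≠ ⊥ → S' ≤ S → S' = S) → S = ⊤ := by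
    intro S hSn hSne hSmin
    by_cases hinv : ∀ s ∈ S, ∃ h : x * (s : G) * x⁻¹ ∈ W, (⟨x * (s : G) * x⁻¹, h⟩ : W) ∈ S
    · -- `S` is `x`-invariant
      set S₁ : Subgroup G := S.map W.subtype with hS₁
      have hS₁n : S₁.Normal := by
        constructor
        intro n hn g
        have hle : Subgroup.zpowers x ⊔ W ≤ Subgroup.normalizer (S₁ : Set G) := by
          apply sup_le
          · rw [Subgroup.zpowers_le]
            apply Cfsg.Agent.Lib.Replacement.mem_normalizer_of_forall
            rintro _ ⟨s, hs, rfl⟩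
            obtain ⟨h, hh⟩ := hinv s hs
            exact ⟨_, hh, rfl⟩
          · intro w hw
            apply Cfsg.Agent.Lib.Replacement.mem_normalizer_of_forall
            rintro _ ⟨s, hs, rfl⟩
            exact ⟨_, hSn.conj_mem s hs ⟨w, hw⟩, rfl⟩
        rw [hWx'] at hle
        exact (Subgroup.mem_normalizer_iff.mp (hle (Subgroup.mem_top g)) n).mp hn
      have hS₁ne : S₁ ≠ ⊥ := by
        intro h
        apply hSne
        rw [eq_bot_iff]
        intro s hs
        have : (s : G) ∈ S₁ := ⟨s, hs, rfl⟩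
        rw [h] at this
        exact Subgroup.mem_bot.mpr (Subtype.ext (Subgroup.mem_bot.mp this))
      have h1 := hcase.commutator_le hS₁n hS₁ne
      rw [eq_top_iff]
      intro w _
      obtain ⟨s, hs, hsw⟩ := h1 w.2
      have : s = w := Subtype.ext hsw
      rwa [← this]
    · exfalso
      -- the conjugate
      let φ : W →* W :=
        { toFun := fun w => ⟨x * (w : G) * x⁻¹, hWn.conj_mem _ w.2 x⟩
          map_one' := by apply Subtype.ext; simp
          map_mul' := by
            intro a b
            apply Subtype.ext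
            show x * ((a : G) * (b : G)) * x⁻¹ = (x * a * x⁻¹) * (x * b * x⁻¹)
            group }
      have hφinj : Function.Injective φ := by
        intro a b hab
        have h1 : x * (a : G) * x⁻¹ = x * (b : G) * x⁻¹ := congrArg Subtype.val hab
        apply Subtype.ext
        simpa using h1
      set Sx : Subgroup W := S.map φ with hSx
      -- it is normal in `W`
      have hSxn : Sx.Normal := by
        constructor
        rintro _ ⟨s, hs, rfl⟩ w
        -- `x⁻¹ w x`
        let w' : W := ⟨x⁻¹ * (w : G) * x, by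
          have := hWn.conj_mem _ w.2 x⁻¹
          simpa using this⟩
        refine ⟨w' * s * w'⁻¹, hSn.conj_mem s hs w', ?_⟩
        apply Subtype.ext
        show x * (((x⁻¹ * (w : G) * x) * (s : G)) * (x⁻¹ * (w : G) * x)⁻¹) * x⁻¹ = (w : G) * (x * (s : G) * x⁻¹) * (w : G)⁻¹
        group
      have hinfn : (S ⊓ Sx).Normal := inferInstance
      have hinfbot : S ⊓ Sx = ⊥ := by
        by_contra hne
        have h1 := hSmin _ hinfn hne inf_le_left
        have h2 : S ≤ Sx := by
          rw [← h1]
          exact inf_le_right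
        have h3 : Nat.card Sx = Nat.card S := Subgroup.card_map_of_injective hφinj
        have h4 : S = Sx := Subgroup.eq_of_le_of_card_ge h2 h3.le
        apply hinv
        intro s hs
        refine ⟨hWn.conj_mem _ s.2 x, ?_⟩
        rw [h4]
        exact ⟨s, hs, rfl⟩
      have hfix : ∀ s ∈ S, x * (s : G) * x⁻¹ = s → s = 1 := by
        intro s hs h1
        have h2 : s ∈ S ⊓ Sx := ⟨hs, s, hs, Subtype.ext h1⟩
        rw [hinfbot] at h2
        exact Subgroup.mem_bot.mp h2
      -- `S` is a `p'`-group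
      have hnd : ¬ p ∣ Nat.card S := by
        intro hd
        obtain ⟨y₀, hy₀⟩ := exists_prime_orderOf_dvd_card' (G := S) p hd
        have hpy : IsPGroup p (Subgroup.zpowers ((y₀ : W) : G)) := by
          apply Cfsg.Agent.Lib.Isolated.isPGroup_zpowers
          refine ⟨1, ?_⟩
          rw [pow_one, ← hy₀]
          rw [Subgroup.orderOf_coe, Subgroup.orderOf_coe]
        obtain ⟨g, hg⟩ := Cfsg.Agent.Lib.SylowConjLemmas.exists_conj_mem P _ hpy
        have hg' := hg ((y₀ : W) : G) (Subgroup.mem_zpowers _)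
        have hgmem : g ∈ Subgroup.zpowers x ⊔ W := by rw [hWx']; trivial
        obtain ⟨c, hc, w, hw, rfl⟩ := Subgroup.mem_sup_of_normal_right.mp hgmem
        have hcP : c ∈ (P : Subgroup G) := hP hc
        set y₁ : W := ⟨w, hw⟩ * (y₀ : W) * (⟨w, hw⟩ : W)⁻¹ with hy₁
        have hy₁S : y₁ ∈ S := hSn.conj_mem _ y₀.2 _
        have hy₁P : (y₁ : G) ∈ (P : Subgroup G) := by
          have e : (y₁ : G) = c⁻¹ * ((c * w) * ((y₀ : W) : G) * (c * w)⁻¹) * c := by
            show w * ((y₀ : W) : G) * w⁻¹ = _
            group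
          rw [e]
          exact Subgroup.mul_mem _ (Subgroup.mul_mem _ (Subgroup.inv_mem _ hcP) hg') hcP
        have hcomm := Cfsg.Agent.Lib.Isolated.conj_eq_of_mem_pgroup hiso P.isPGroup' hxP hy₁P
        have hfix₁ : x * (y₁ : G) * x⁻¹ = y₁ := by
          have h1 : (y₁ : G) * x = x * (y₁ : G) := by
            calc (y₁ : G) * x = ((y₁ : G) * x * (y₁ : G)⁻¹) * (y₁ : G) := by group
              _ = x * (y₁ : G) := by rw [hcomm]
          rw [← h1]
          group
        have hy₁1 : y₁ = 1 := hfix y₁ hy₁S hfix₁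
        have hy₀1 : y₀ = 1 := by
          apply Subtype.ext
          have h2 : (y₀ : W) = (⟨w, hw⟩ : W)⁻¹ * y₁ * (⟨w, hw⟩ : W) := by
            rw [hy₁]; group
          rw [h2, hy₁1]
          simp
        rw [hy₀1, orderOf_one] at hy₀
        exact hpq.one_lt.ne hy₀
      have hcop : (Nat.card S).Coprime p :=
        ((Nat.Prime.coprime_iff_not_dvd hpq).mpr hnd).symm
      apply hSne
      rw [eq_bot_iff]
      intro s hs
      exact Subgroup.mem_bot.mpr (hcoreW s (Cfsg.Agent.Lib.PCore.le_pPrimeCore hSn hcop hs))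
  -- simple
  have hsimple : IsSimpleGroup W := by
    refine ⟨?_⟩
    intro T hTn
    by_cases hT : T = ⊥
    · exact Or.inl hT
    · right
      -- minimal normal subgroup below `T`
      let F : Set (Subgroup W) := {S | S.Normal ∧ S ≠ ⊥ ∧ S ≤ T}
      have : Nonempty F := ⟨⟨T, hTn, hT, le_rfl⟩⟩
      obtain ⟨⟨S, hS1, hS2, hS3⟩, hSm⟩ := Finite.exists_min (fun Z : F => Nat.card (Z.1))
      have hStop := hmain S hS1 hS2 (fun S' h1 h2 h3 => by
        have h4 := hSm ⟨S', h1, h2, h3.trans hS3⟩
        exact Subgroup.eq_of_le_of_card_ge h3 h4)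
      rw [eq_top_iff, ← hStop]
      exact hS3
  refine ⟨hsimple, ?_, hWx⟩
  intro hab
  -- `W` abelian: `W` is a `p`-group
  have hall : ∀ r : ℕ, r.Prime → r ∣ Nat.card W → r = p := by
    intro r hr hd
    by_contra hne
    have : Fact r.Prime := ⟨hr⟩
    obtain ⟨y, hy⟩ := exists_prime_orderOf_dvd_card' (G := W) r hd
    have hZn : (Subgroup.zpowers y).Normal := inferInstance
    have hc : (Nat.card (Subgroup.zpowers y)).Coprime p := by
      rw [Nat.card_zpowers, hy]
      exact (Nat.coprime_primes hr hpq).mpr hne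
    have h1 := Cfsg.Agent.Lib.PCore.le_pPrimeCore hZn hc (Subgroup.mem_zpowers y)
    have h2 := hcoreW y h1
    rw [h2, orderOf_one] at hy
    exact hr.one_lt.ne hy
  have hWp : IsPGroup p W := by
    have h1 := Nat.eq_prime_pow_of_unique_prime_dvd (Nat.card_pos (α := W)).ne' (fun {d} hd h => hall d hd h)
    exact IsPGroup.of_card h1
  have hGp : IsPGroup p ↥(W ⊔ Subgroup.zpowers x) :=
    hWp.to_sup_of_normal_left (Cfsg.Agent.Lib.Isolated.isPGroup_zpowers hxp)
  obtain ⟨g, hg⟩ := hcase.exists_conj_ne
  apply hg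
  exact Cfsg.Agent.Lib.Isolated.conj_eq_of_mem_pgroup hiso hGp (Subgroup.mem_sup_right (Subgroup.mem_zpowers x))
    (by rw [hWx]; trivial)

end Cfsg.Agent.S2972
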