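import Mathlib
import Cfsg.Statements.S2975
import Cfsg.Agent.Lib.IsolatedMin
import Cfsg.Agent.Lib.CharTwoLocal
import Cfsg.Agent.Lib.CoprimeHyper
import Cfsg.Agent.Lib.SylowConjLemmas
import Cfsg.Agent.Lib.Replacement
import Cfsg.Agent.Lib.Coprime
import Cfsg.Agent.Lib.TransferCore

set_option autoImplicit false
open Cfsg

namespace Cfsg.Agent.S2975

/-- Let G be a finite group, p a prime and x ∈ G an isolated element of order p (the only conjugate of x commuting with x is x) which is not central modulo the largest normal subgroup of order prime to p, while x is central modulo the largest normal subgroup of order prime to p in every proper subgroup containing x, and the image of x is so in every quotient of G by a nontrivial normal subgroup (a minimal counterexample to the Z*_p statement). Then for every prime q, every q-subgroup of G that is normalized by x and maximal among the q-subgroups normalized by x is either trivial or a Sylow q-subgroup of G; and C_G(x) permutes the x-invariant Sylow q-subgroups of G transitively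 by conjugation. -/
theorem result {G : Type*} [Group G] [Finite G] {p : ℕ} [Fact p.Prime] (x : G) (hx : orderOf x = p) (hiso : Cfsg.IsIsolated x) (hnz : ¬ Cfsg.InZStar p x) (hmin : ∀ (H : Subgroup G) (hxH : x ∈ H), H ≠ ⊤ → Cfsg.InZStar p (⟨x, hxH⟩ : ↥H)) (hquot : ∀ (N : Subgroup G) [N.Normal], N ≠ ⊥ → Cfsg.InZStar p (QuotientGroup.mk x : G ⧸ N)) (q : ℕ) [Fact q.Prime] : (∀ Q : Subgroup G, IsPGroup q ↥Q → x ∈ Subgroup.normalizer (Q : Set G) → (∀ R : Subgroup G, IsPGroup q ↥R → x ∈ Subgroup.normalizer (R : Set G) → Q ≤ R → R = Q) → Q = ⊥ ∨ ∃ S : Sylow q G, (S : Subgroup G) = Q) ∧ (∀ S₁ S₂ : Sylow q G, x ∈ Subgroup.normalizer ((S₁ : Subgroup G) : Set G) → x ∈ Subgroup.normalizer ((S₂ : Subgroup G) : Set G) → ∃ c ∈ Subgroup.centralizer ({x} : Set G), (S₁ : Subgroup G).map (MulAut.conj c).toMonoidHom = (S₂ : Subgroup G)) := by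
  classical
  have hcase : Cfsg.Agent.Lib.IsolatedMin.MinCE p x := ⟨hx, hiso, hnz, hmin, hquot⟩
  have hxp : ∃ k : ℕ, orderOf x = p ^ k := hcase.hxp
  have hpq : p.Prime := Fact.out
  have hqq : q.Prime := Fact.out
  refine ⟨?_, ?_⟩
  · intro Q hQ hxQ hmax
    by_cases hqp : q = p
    · subst hqp
      right
      have hzx : IsPGroup q (Subgroup.zpowers x) := Cfsg.Agent.Lib.Isolated.isPGroup_zpowers hxp
      have hzle : Subgroup.zpowers x ≤ Subgroup.normalizer (Q : Set G) := by
        rw [Subgroup.zpowers_le]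
        exact hxQ
      have hsup : IsPGroup q ↥(Q ⊔ Subgroup.zpowers x) := hQ.to_sup_of_normal_left' hzx hzle
      obtain ⟨S, hS⟩ := hsup.exists_le_sylow
      refine ⟨S, ?_⟩
      apply hmax _ S.isPGroup'
      · apply Subgroup.le_normalizer
        exact hS (Subgroup.mem_sup_right (Subgroup.mem_zpowers x))
      · exact le_sup_left.trans hS
    · by_contra hcon
      push Not at hcon
      obtain ⟨hne, hnS⟩ := hcon
      set H : Subgroup G := Subgroup.normalizer (Q : Set G) with hHdef
      -- `Q` is not normal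
      have hHtop : H ≠ ⊤ := by
        intro htop
        have hQn : Q.Normal := by
          constructor
          intro n hn g
          have : g ∈ H := by rw [htop]; trivial
          exact (Subgroup.mem_normalizer_iff.mp this n).mp hn
        apply hnz
        intro g
        have h1 := hquot Q hne (g : G ⧸ Q)
        set C : Subgroup G := (pPrimeCore p (G ⧸ Q)).comap (QuotientGroup.mk' Q) with hC
        have hCn : C.Normal := inferInstance
        have hCcard : (Nat.card C).Coprime p := by
          rw [hC, Cfsg.Agent.Lib.Coprime.card_comap_mk]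
          apply Nat.Coprime.mul_left (Cfsg.Agent.Lib.PCore.card_pPrimeCore_coprime p)
          obtain ⟨n, hn⟩ := IsPGroup.iff_card.mp hQ
          rw [hn]
          exact ((Nat.coprime_primes hqq hpq).mpr hqp).pow_left n
        exact Cfsg.Agent.Lib.PCore.le_pPrimeCore hCn hCcard h1
      have hm := hmin H hxQ hHtop
      obtain ⟨S, hS⟩ := hQ.exists_le_sylow
      have hlt : Q < (S : Subgroup G) := by
        apply lt_of_le_of_ne hS
        intro h
        exact hnS S h.symm
      obtain ⟨t, htS, htQ, htN⟩ := Cfsg.Agent.Lib.CharTwoLocal.exists_mem_normalizer_of_lt S.isPGroup' hlt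
      set T : Subgroup G := (S : Subgroup G) ⊓ H with hT
      have hQT : Q ≤ T := le_inf hS Subgroup.le_normalizer
      have hQTlt : Q < T := lt_of_le_of_ne hQT (fun h => htQ (by rw [h]; exact ⟨htS, htN⟩))
      have hTp : IsPGroup q T := S.isPGroup'.to_le inf_le_left
      set x₀ : H := ⟨x, hxQ⟩ with hx₀
      set T₀ : Subgroup H := T.subgroupOf H with hT₀
      set K : Subgroup H := pPrimeCore p H with hK
      set Y : Subgroup H := T₀ ⊔ K with hY
      have hT₀p : IsPGroup q T₀ := hTp.comap_of_injective _ H.subtype_injective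
      have hT₀nd : ¬ p ∣ Nat.card T₀ := by
        obtain ⟨n, hn⟩ := IsPGroup.iff_card.mp hT₀p
        rw [hn]
        intro hd
        exact hqp ((Nat.prime_dvd_prime_iff_eq hpq hqq).mp (hpq.dvd_of_dvd_pow hd)).symm
      have hYnd : ¬ p ∣ Nat.card Y := by
        intro hd
        have h1 := hd.trans (Cfsg.Agent.Lib.PCore.card_sup_dvd T₀ K)
        rcases hpq.dvd_mul.mp h1 with h2 | h2
        · exact hT₀nd h2
        · exact Cfsg.Agent.Lib.PCore.not_dvd_card_pPrimeCore p h2
      -- `x` normalizes `Y`
      have hxY : Subgroup.zpowers x₀ ≤ Subgroup.normalizer (Y : Set H) := by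
        rw [Subgroup.zpowers_le]
        apply Cfsg.Agent.Lib.Replacement.mem_normalizer_of_forall
        have hle : Y ≤ Y.comap (MulAut.conj x₀).toMonoidHom := by
          apply sup_le
          · intro t ht
            show x₀ * t * x₀⁻¹ ∈ Y
            have e : x₀ * t * x₀⁻¹ = (t * x₀ * t⁻¹ * x₀⁻¹)⁻¹ * t := by group
            rw [e]
            exact Y.mul_mem (Y.inv_mem (Subgroup.mem_sup_right (hm t))) (Subgroup.mem_sup_left ht)
          · intro k hk
            exact Subgroup.mem_sup_right ((inferInstance : K.Normal).conj_mem k hk x₀)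
        exact fun y hy => hle hy
      obtain ⟨R, hR⟩ := Cfsg.Agent.Lib.CoprimeHyper.exists_invariant_sylow (q := q)
        (Subgroup.zpowers x₀) Y (Cfsg.Agent.Lib.Isolated.isPGroup_zpowers (p := p)
          (by
            obtain ⟨k, hk⟩ := hxp
            exact ⟨k, by rw [← hk, hx₀]; exact Subgroup.orderOf_mk x hxQ⟩)) hYnd hxY
      -- the group `R` in `G`
      set R₁ : Subgroup H := (R : Subgroup Y).map Y.subtype with hR₁
      set R₂ : Subgroup G := R₁.map H.subtype with hR₂
      have hR₂p : IsPGroup q R₂ := (R.isPGroup'.map _).map _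
      have hxR₂ : x ∈ Subgroup.normalizer (R₂ : Set G) := by
        apply Cfsg.Agent.Lib.Replacement.mem_normalizer_of_forall
        rintro _ ⟨r, hr, rfl⟩
        refine ⟨x₀ * r * x₀⁻¹, hR x₀ (Subgroup.mem_zpowers x₀) r hr, rfl⟩
      -- `Q` lies in `R`
      have hQH : Q ≤ H := Subgroup.le_normalizer
      have hQY : Q.subgroupOf H ≤ Y := by
        intro q' hq'
        exact Subgroup.mem_sup_left (Subgroup.mem_subgroupOf.mpr (hQT (Subgroup.mem_subgroupOf.mp hq')))
      have hQR : Q ≤ R₂ := by
        intro z hz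
        have hzH : z ∈ H := hQH hz
        have hzY : (⟨z, hzH⟩ : H) ∈ Y := hQY (Subgroup.mem_subgroupOf.mpr hz)
        -- the normal subgroup
        set Q' : Subgroup Y := (Q.subgroupOf H).subgroupOf Y with hQ'
        have hQ'n : Q'.Normal := by
          constructor
          intro n hn g
          have h2 := (Subgroup.mem_normalizer_iff.mp (g : H).2 ((n : H) : G)).mp
            (Subgroup.mem_subgroupOf.mp (Subgroup.mem_subgroupOf.mp hn))
          exact Subgroup.mem_subgroupOf.mpr (Subgroup.mem_subgroupOf.mpr h2)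
        have hQ'p : IsPGroup q Q' :=
          (hQ.comap_of_injective _ H.subtype_injective).comap_of_injective _ Y.subtype_injective
        have hle := (Cfsg.Agent.Lib.PCore.le_pCore hQ'n hQ'p).trans (Cfsg.Agent.Lib.PCore.pCore_le_sylow q R)
        have h3 : (⟨⟨z, hzH⟩, hzY⟩ : Y) ∈ (R : Subgroup Y) :=
          hle (Subgroup.mem_subgroupOf.mpr (Subgroup.mem_subgroupOf.mpr hz))
        exact ⟨_, ⟨_, h3, rfl⟩, rfl⟩
      have hR₂eq := hmax R₂ hR₂p hxR₂ hQR
      -- cardinalities
      have hTY : IsPGroup q (T₀.subgroupOf Y) := hT₀p.comap_of_injective _ Y.subtype_injective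
      obtain ⟨R', hR'⟩ := hTY.exists_le_sylow
      have hc1 : Nat.card (R' : Subgroup Y) = Nat.card (R : Subgroup Y) := by
        rw [Sylow.card_eq_multiplicity, Sylow.card_eq_multiplicity]
      have hc2 : Nat.card R₂ = Nat.card (R : Subgroup Y) := by
        rw [hR₂, hR₁, Subgroup.card_map_of_injective H.subtype_injective,
          Subgroup.card_map_of_injective Y.subtype_injective]
      have hc3 : Nat.card T = Nat.card (T₀.subgroupOf Y) := by
        have h1 : T₀ ≤ Y := le_sup_left
        have h2 : Nat.card (T₀.subgroupOf Y) = Nat.card T₀ := by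
          rw [← Subgroup.card_map_of_injective Y.subtype_injective, Subgroup.map_subgroupOf_eq_of_le h1]
        have h3 : T ≤ H := inf_le_right
        have h4 : Nat.card T₀ = Nat.card T := by
          rw [← Subgroup.card_map_of_injective H.subtype_injective, hT₀, Subgroup.map_subgroupOf_eq_of_le h3]
        rw [h2, h4]
      have hc4 : Nat.card T ≤ Nat.card Q := by
        rw [← hR₂eq, hc2, ← hc1, hc3]
        exact Subgroup.card_le_of_le hR'
      exact hQTlt.ne (Subgroup.eq_of_le_of_card_ge hQT hc4)
  · intro S₁ S₂ h1 h2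
    obtain ⟨g, hg⟩ := MulAction.exists_smul_eq G S₁ S₂
    have hmem : ∀ y, y ∈ (S₂ : Subgroup G) ↔ g⁻¹ * y * g ∈ (S₁ : Subgroup G) := by
      intro y
      rw [← hg]
      exact Cfsg.Agent.Lib.TransferCore.mem_smul_sylow
    have hS₂ : (S₂ : Subgroup G) = (S₁ : Subgroup G).map (MulAut.conj g).toMonoidHom := by
      ext y
      rw [hmem, Cfsg.Agent.Lib.SylowConjLemmas.mem_map_conj]
    have h3 : g⁻¹ * x * g ∈ Subgroup.normalizer ((S₁ : Subgroup G) : Set G) := by
      apply Cfsg.Agent.Lib.SylowConjLemmas.of_conj_mem_normalizer_map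
      rw [← hS₂]
      exact h2
    obtain ⟨n, hn, hnx⟩ := Cfsg.Agent.Lib.Isolated.exists_conj_in_subgroup (g := g⁻¹) hiso hxp h1 (by simpa using h3)
    refine ⟨g * n, ?_, ?_⟩
    · rw [Subgroup.mem_centralizer_singleton_iff]
      have e : (g * n) * x * (g * n)⁻¹ = x := by
        calc (g * n) * x * (g * n)⁻¹ = g * (n * x * n⁻¹) * g⁻¹ := by group
          _ = g * (g⁻¹ * x * g⁻¹⁻¹) * g⁻¹ := by rw [hnx]
          _ = x := by group
      calc g * n * x = ((g * n) * x * (g * n)⁻¹) * (g * n) := by group
        _ = x * (g * n) := by rw [e]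
    · ext y
      rw [Cfsg.Agent.Lib.SylowConjLemmas.mem_map_conj, hmem]
      have e : (g * n)⁻¹ * y * (g * n) = n⁻¹ * (g⁻¹ * y * g) * n⁻¹⁻¹ := by group
      rw [e]
      exact (Subgroup.mem_normalizer_iff.mp (Subgroup.inv_mem _ hn) _).symm

end Cfsg.Agent.S2975
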