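import Mathlib
import Cfsg.Statements.S3011
import Cfsg.Agent.S0200
import Cfsg.Agent.Lib.PCore

set_option autoImplicit false
open Cfsg

namespace Cfsg.Agent.S3011

/-- An element of odd order is a power of its square. -/
theorem exists_pow_sq {G : Type*} [Group G] {h : G} (hodd : Odd (orderOf h)) :
    ∃ k : ℕ, h = (h ^ 2) ^ k := by
  obtain ⟨m, hm⟩ := hodd
  refine ⟨m + 1, ?_⟩
  rw [← pow_mul]
  have h1 : 2 * (m + 1) = orderOf h + 1 := by omega
  rw [h1, pow_succ, pow_orderOf_eq_one, one_mul]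

theorem commute_of_sq {G : Type*} [Group G] {h f : G} (hodd : Odd (orderOf h))
    (hc : Commute (h ^ 2) f) : Commute h f := by
  obtain ⟨k, hk⟩ := exists_pow_sq hodd
  rw [hk]
  exact hc.pow_left k

theorem eq_one_of_sq {G : Type*} [Group G] {h : G} (hodd : Odd (orderOf h)) (h2 : h ^ 2 = 1) : h = 1 := by
  obtain ⟨k, hk⟩ := exists_pow_sq hodd
  rw [hk, h2, one_pow]

theorem inv_step {G : Type*} [Group G] {k f : G} (h5 : k * f⁻¹ * k⁻¹ = f) :
    (k * k) * f = f * (k * k) := by
  have h7 : k * f * k⁻¹ = f⁻¹ := by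
    calc k * f * k⁻¹ = (k * f⁻¹ * k⁻¹)⁻¹ := by group
      _ = f⁻¹ := by rw [h5]
  calc (k * k) * f = k * (k * f * k⁻¹) * k := by group
    _ = k * f⁻¹ * k := by rw [h7]
    _ = (k * f⁻¹ * k⁻¹) * (k * k) := by group
    _ = f * (k * k) := by rw [h5]

/-- The main configuration. -/
theorem no_config {G : Type*} [Group G] [Finite G] (V : Subgroup G) (hS : Cfsg.IsSidkiPair V)
    (x y : G) (hxV : x ∈ V) (hyV : y ∈ V) (hx2 : x * x = 1) (hy2 : y * y = 1)
    (hcomm : x * y = y * x)
    (hV : ∀ w ∈ V, w ≠ 1 → w = x ∨ w = y ∨ w = x * y)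
    (f h : G) (hf1 : f ≠ 1) (hh1 : h ≠ 1) (hfo : Odd (orderOf f)) (hho : Odd (orderOf h))
    (hxf : x * f = f * x) (hyf : y * f = f⁻¹ * y) (hyh : y * h = h * y) (hxh : x * h = h⁻¹ * x) :
    False := by
  have hxi : x⁻¹ = x := inv_eq_of_mul_eq_one_left hx2
  have hyi : y⁻¹ = y := inv_eq_of_mul_eq_one_left hy2
  -- conjugations
  have cxf : x * f * x⁻¹ = f := by rw [hxf]; group
  have cyf : y * f * y⁻¹ = f⁻¹ := by rw [hyf]; group
  have cyh : y * h * y⁻¹ = h := by rw [hyh]; group
  have cxh : x * h * x⁻¹ = h⁻¹ := by rw [hxh]; group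
  -- the conjugate
  have hc1 : Commute h f := by
    set f' := h⁻¹ * f * h with hf'
    have hf'o : Odd (orderOf f') := by
      have : orderOf f' = orderOf f := by
        rw [hf']
        have e : h⁻¹ * f * h = MulAut.conj h⁻¹ f := by simp [MulAut.conj_apply]
        rw [e, MulEquiv.orderOf_eq]
      rw [this]; exact hfo
    have hyf' : y * f' * y⁻¹ = f'⁻¹ := by
      have : y * f' * y⁻¹ = (y * h * y⁻¹)⁻¹ * (y * f * y⁻¹) * (y * h * y⁻¹) := by
        rw [hf']; group
      rw [this, cyh, cyf, hf']; group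
    obtain ⟨w, hwV, hw1, hwc⟩ := hS f' y hyV hf'o hyf'
    have hf'1 : f' ≠ 1 := by
      intro h0
      apply hf1
      have : f = h * f' * h⁻¹ := by rw [hf']; group
      rw [this, h0]; group
    rcases hV w hwV hw1 with rfl | rfl | rfl
    · -- `x` commutes with `f'`
      have h1 : w * f' * w⁻¹ = f' := by rw [hwc]; group
      have h2 : w * f' * w⁻¹ = h * f * h⁻¹ := by
        have : w * f' * w⁻¹ = (w * h * w⁻¹)⁻¹ * (w * f * w⁻¹) * (w * h * w⁻¹) := by
          rw [hf']; group
        rw [this, cxf, cxh]; group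
      have h3 : (h * h) * f = f * (h * h) := by
        have h4 : h * f * h⁻¹ = h⁻¹ * f * h := by rw [← h2, h1]
        calc (h * h) * f = h * (h * f * h⁻¹) * h := by group
          _ = h * (h⁻¹ * f * h) * h := by rw [h4]
          _ = f * (h * h) := by group
      apply commute_of_sq hho
      rw [sq]
      exact h3
    · -- `y` inverts `f'`, impossible
      exfalso
      apply hf'1
      apply eq_one_of_sq hf'o
      have h1 : w * f' * w⁻¹ = f' := by rw [hwc]; group
      rw [h1] at hyf'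
      rw [sq]
      nth_rw 1 [hyf']
      group
    · -- `x y` inverts `f`, `h`
      have h1 : (x * y) * f' * (x * y)⁻¹ = f' := by rw [hwc]; group
      have czf : (x * y) * f * (x * y)⁻¹ = f⁻¹ := by
        calc (x * y) * f * (x * y)⁻¹ = x * (y * f * y⁻¹) * x⁻¹ := by group
          _ = x * f⁻¹ * x⁻¹ := by rw [cyf]
          _ = (x * f * x⁻¹)⁻¹ := by group
          _ = f⁻¹ := by rw [cxf]
      have czh : (x * y) * h * (x * y)⁻¹ = h⁻¹ := by
        calc (x * y) * h * (x * y)⁻¹ = x * (y * h * y⁻¹) * x⁻¹ := by group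
          _ = h⁻¹ := by rw [cyh, cxh]
      have h2 : (x * y) * f' * (x * y)⁻¹ = h * f⁻¹ * h⁻¹ := by
        have : (x * y) * f' * (x * y)⁻¹ = ((x * y) * h * (x * y)⁻¹)⁻¹ * ((x * y) * f * (x * y)⁻¹) * ((x * y) * h * (x * y)⁻¹) := by
          rw [hf']; group
        rw [this, czf, czh]; group
      have h4 : h * f⁻¹ * h⁻¹ = h⁻¹ * f * h := by rw [← h2, h1]
      -- `h ^ 2` inverts `f`
      have h5 : (h * h) * f⁻¹ * (h * h)⁻¹ = f := by
        calc (h * h) * f⁻¹ * (h * h)⁻¹ = h * (h * f⁻¹ * h⁻¹) * h⁻¹ := by group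
          _ = h * (h⁻¹ * f * h) * h⁻¹ := by rw [h4]
          _ = f := by group
      have h8 : ((h * h) * (h * h)) * f = f * ((h * h) * (h * h)) := inv_step h5
      have h8' : Commute ((h ^ 2) ^ 2) f := by
        show (h ^ 2) ^ 2 * f = f * (h ^ 2) ^ 2
        rw [sq, sq h]
        exact h8
      have h9 : Commute (h ^ 2) f := by
        obtain ⟨k, hk⟩ := exists_pow_sq hho
        have : h ^ 2 = ((h ^ 2) ^ 2) ^ k := by
          calc h ^ 2 = ((h ^ 2) ^ k) ^ 2 := congrArg (fun z => z ^ 2) hk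
            _ = ((h ^ 2) ^ 2) ^ k := by
              simp only [← pow_mul]
              congr 1
              ring
        rw [this]
        exact h8'.pow_left k
      exact commute_of_sq hho h9
  -- the product
  have huo : Odd (orderOf (f * h)) := by
    have h1 : orderOf (f * h) ∣ orderOf f * orderOf h := hc1.symm.orderOf_mul_dvd_mul_orderOf
    exact Odd.of_dvd_nat (hfo.mul hho) h1
  have hcfh : f * h = h * f := hc1.symm.eq
  have czu : (x * y) * (f * h) * (x * y)⁻¹ = (f * h)⁻¹ := by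
    have czf : (x * y) * f * (x * y)⁻¹ = f⁻¹ := by
      calc (x * y) * f * (x * y)⁻¹ = x * (y * f * y⁻¹) * x⁻¹ := by group
        _ = x * f⁻¹ * x⁻¹ := by rw [cyf]
        _ = (x * f * x⁻¹)⁻¹ := by group
        _ = f⁻¹ := by rw [cxf]
    have czh : (x * y) * h * (x * y)⁻¹ = h⁻¹ := by
      calc (x * y) * h * (x * y)⁻¹ = x * (y * h * y⁻¹) * x⁻¹ := by group
        _ = h⁻¹ := by rw [cyh, cxh]
    calc (x * y) * (f * h) * (x * y)⁻¹ = ((x * y) * f * (x * y)⁻¹) * ((x * y) * h * (x * y)⁻¹) := by group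
      _ = f⁻¹ * h⁻¹ := by rw [czf, czh]
      _ = (h * f)⁻¹ := by group
      _ = (f * h)⁻¹ := by rw [hcfh]
  obtain ⟨w, hwV, hw1, hwc⟩ := hS (f * h) (x * y) (V.mul_mem hxV hyV) huo czu
  rcases hV w hwV hw1 with rfl | rfl | rfl
  · -- `x` commutes with `f h`
    apply hh1
    apply eq_one_of_sq hho
    have h1 : w * (f * h) * w⁻¹ = f * h := by rw [hwc]; group
    have h2 : w * (f * h) * w⁻¹ = f * h⁻¹ := by
      calc w * (f * h) * w⁻¹ = (w * f * w⁻¹) * (w * h * w⁻¹) := by group
        _ = f * h⁻¹ := by rw [cxf, cxh]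
    have h3 : f * h⁻¹ = f * h := by rw [← h2, h1]
    have h4 := mul_left_cancel h3
    rw [sq]
    nth_rw 1 [← h4]
    group
  · apply hf1
    apply eq_one_of_sq hfo
    have h1 : w * (f * h) * w⁻¹ = f * h := by rw [hwc]; group
    have h2 : w * (f * h) * w⁻¹ = f⁻¹ * h := by
      calc w * (f * h) * w⁻¹ = (w * f * w⁻¹) * (w * h * w⁻¹) := by group
        _ = f⁻¹ * h := by rw [cyf, cyh]
    have h3 : f⁻¹ * h = f * h := by rw [← h2, h1]
    have h4 := mul_right_cancel h3
    rw [sq]
    nth_rw 1 [← h4]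
    group
  · -- `x y` inverts `f h`
    have h1 : (x * y) * (f * h) * (x * y)⁻¹ = f * h := by rw [hwc]; group
    rw [czu] at h1
    have h5 : f * h = 1 := by
      apply eq_one_of_sq huo
      rw [sq]
      nth_rw 1 [← h1]
      group
    have h6 : h = f⁻¹ := eq_inv_of_mul_eq_one_right h5
    apply hf1
    apply eq_one_of_sq hfo
    have h7 : x * h * x⁻¹ = h := by
      rw [h6]
      calc x * f⁻¹ * x⁻¹ = (x * f * x⁻¹)⁻¹ := by group
        _ = f⁻¹ := by rw [cxf]
    rw [cxh] at h7
    rw [h6, inv_inv] at h7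
    rw [sq]
    nth_rw 1 [h7]
    group

/-- Let G be a finite group and V a nontrivial elementary abelian 2-subgroup of G of order at most 4 such that, whenever an element of V inverts an element h of G of odd order, some nontrivial element of V commutes with h. Then V meets O₂(G) nontrivially. (The case of order at most 4 has a short argument from the Baer–Suzuki theorem.) -/
theorem result {G : Type*} [Group G] [Finite G] (V : Subgroup G) (hV : Cfsg.IsElementaryAbelian 2 V) (hV1 : V ≠ ⊥) (hS : Cfsg.IsSidkiPair V) (h4 : Nat.card V ≤ 4) : V ⊓ Cfsg.pCore 2 G ≠ ⊥ := by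
  classical
  have hp : Fact (Nat.Prime 2) := ⟨Nat.prime_two⟩
  intro hbot
  have hcommV : ∀ u ∈ V, ∀ v ∈ V, u * v = v * u := by
    intro u hu v hv
    have := hV.1.is_comm.comm ⟨u, hu⟩ ⟨v, hv⟩
    exact congrArg Subtype.val this
  have hsqV : ∀ u ∈ V, u * u = 1 := by
    intro u hu
    rw [← sq]
    exact hV.2 u hu
  -- elements of `V` invert
  have hinv : ∀ v ∈ V, v ≠ 1 → ∃ h : G, h ≠ 1 ∧ Odd (orderOf h) ∧ v * h * v⁻¹ = h⁻¹ := by
    intro v hv hv1
    apply Cfsg.Agent.S0200.result
    · apply orderOf_eq_prime (hV.2 v hv) hv1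
    · intro N hN hN2 hvN
      apply hv1
      have hle : N ≤ Cfsg.pCore 2 G := Cfsg.Agent.Lib.PCore.le_pCore hN hN2
      have : v ∈ V ⊓ Cfsg.pCore 2 G := ⟨hv, hle hvN⟩
      rw [hbot] at this
      exact this
  obtain ⟨a, haV, ha1⟩ : ∃ a ∈ V, a ≠ 1 := by
    obtain ⟨a, ha⟩ := (Subgroup.ne_bot_iff_exists_ne_one.mp hV1 : ∃ a : V, a ≠ 1)
    exact ⟨a.1, a.2, fun h => ha (Subtype.ext h)⟩
  obtain ⟨f, hf1, hfo, hafi⟩ := hinv a haV ha1
  obtain ⟨b, hbV, hb1, hbf⟩ := hS f a haV hfo hafi
  obtain ⟨h, hh1, hho, hbh⟩ := hinv b hbV hb1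
  obtain ⟨d, hdV, hd1, hdh⟩ := hS h b hbV hho hbh
  have hab : a ≠ b := by
    rintro rfl
    apply hf1
    apply eq_one_of_sq hfo
    have h1 : a * f * a⁻¹ = f := by rw [hbf]; group
    rw [h1] at hafi
    rw [sq]
    nth_rw 1 [hafi]
    group
  have hbd : b ≠ d := by
    rintro rfl
    apply hh1
    apply eq_one_of_sq hho
    have h1 : b * h * b⁻¹ = h := by rw [hdh]; group
    rw [h1] at hbh
    rw [sq]
    nth_rw 1 [hbh]
    group
  -- enumeration of elements of `V`
  have henum : ∀ x ∈ V, ∀ y ∈ V, x ≠ 1 → y ≠ 1 → x ≠ y → ∀ w ∈ V, w ≠ 1 → w = x ∨ w = y ∨ w = x * y := by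
    intro x hx y hy hx1 hy1 hxy w hw hw1
    by_contra hcon
    push Not at hcon
    obtain ⟨h1, h2, h3⟩ := hcon
    let s : Finset G := {1, x, y, x * y, w}
    have hxy1 : x * y ≠ 1 := by
      intro h0
      apply hxy
      have := hsqV y hy
      calc x = x * (y * y) := by rw [this, mul_one]
        _ = (x * y) * y := by group
        _ = y := by rw [h0, one_mul]
    have hxyx : x * y ≠ x := by
      intro h0
      exact hy1 (by simpa using h0)
    have hxyy : x * y ≠ y := by
      intro h0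
      exact hx1 (by simpa using h0)
    have hs : s.card = 5 := by
      have e1 : (x * y) ∉ ({w} : Finset G) := by
        simp only [Finset.mem_singleton]; exact Ne.symm h3
      have e2 : y ∉ ({x * y, w} : Finset G) := by
        simp only [Finset.mem_insert, Finset.mem_singleton, not_or]; exact ⟨hxyy.symm, Ne.symm h2⟩
      have e3 : x ∉ ({y, x * y, w} : Finset G) := by
        simp only [Finset.mem_insert, Finset.mem_singleton, not_or]; exact ⟨hxy, hxyx.symm, Ne.symm h1⟩
      have e4 : (1 : G) ∉ ({x, y, x * y, w} : Finset G) := by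
        simp only [Finset.mem_insert, Finset.mem_singleton, not_or]
        exact ⟨hx1.symm, hy1.symm, hxy1.symm, hw1.symm⟩
      simp only [s]
      rw [Finset.card_insert_of_notMem e4, Finset.card_insert_of_notMem e3,
        Finset.card_insert_of_notMem e2, Finset.card_insert_of_notMem e1, Finset.card_singleton]
    have hsub : (s : Set G) ⊆ V := by
      intro z hz
      simp only [s, Finset.coe_insert, Finset.coe_singleton, Set.mem_insert_iff, Set.mem_singleton_iff] at hz
      rcases hz with rfl | rfl | rfl | rfl | rfl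
      · exact V.one_mem
      · exact hx
      · exact hy
      · exact V.mul_mem hx hy
      · exact hw
    have hc := Set.ncard_le_ncard hsub (Set.toFinite _)
    rw [Set.ncard_coe_finset, hs] at hc
    have h5 : (V : Set G).ncard = Nat.card V := Nat.card_coe_set_eq _
    omega
  have hV' := henum b hbV d hdV hb1 hd1 hbd
  -- `d` inverts `f`
  have hdf : d * f = f⁻¹ * d := by
    rcases henum a haV b hbV ha1 hb1 hab d hdV hd1 with rfl | rfl | rfl
    · calc d * f = (d * f * d⁻¹) * d := by group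
        _ = f⁻¹ * d := by rw [hafi]
    · exact absurd rfl hbd
    · calc (a * b) * f = a * (b * f) := by group
        _ = a * (f * b) := by rw [hbf]
        _ = (a * f * a⁻¹) * (a * b) := by group
        _ = f⁻¹ * (a * b) := by rw [hafi]
  have hbh' : b * h = h⁻¹ * b := by
    calc b * h = (b * h * b⁻¹) * b := by group
      _ = h⁻¹ * b := by rw [hbh]
  exact no_config V hS b d hbV hdV (hsqV b hbV) (hsqV d hdV) (hcommV b hbV d hdV) hV' f h hf1 hh1 hfo hho
    hbf hdf hdh hbh'

end Cfsg.Agent.S3011
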