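import Mathlib
import Cfsg.Statements.S3035
import Cfsg.Agent.Lib.D8OneFused
import Cfsg.Agent.Lib.ZStar
import Cfsg.Agent.Lib.PCore
import Cfsg.Agent.S0495
import Cfsg.Agent.S0255

set_option autoImplicit false
set_option linter.all false
open Cfsg

namespace Cfsg.Agent.S3035

open Subgroup DihedralGroup Cfsg.Agent.Lib.D8CentGroup Cfsg.Agent.Lib.D8Fus Cfsg.Agent.Lib.D8Simple
  Cfsg.Agent.Lib.D8OneFused

/-- A central element modulo the odd core: the centralizer covers the quotient. -/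
theorem sup_of_zstar {G : Type*} [Group G] [Finite G] {z : G} (hz : orderOf z = 2) (hI : InZStar 2 z) :
    centralizer ({z} : Set G) ⊔ oddCore G = ⊤ := by
  have hzz : z * z = 1 := by
    have := pow_orderOf_eq_one z
    rwa [hz, pow_two] at this
  have hzi : z⁻¹ = z := inv_eq_of_mul_eq_one_left hzz
  rw [eq_top_iff]
  intro g _
  set y := g * z * g⁻¹ with hy
  have hyy : y * y = 1 := by
    rw [hy]
    calc g * z * g⁻¹ * (g * z * g⁻¹) = g * (z * z) * g⁻¹ := by group
      _ = 1 := by rw [hzz]; group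
  have hyi : y⁻¹ = y := inv_eq_of_mul_eq_one_left hyy
  set k := y * z with hk
  have hkO : k ∈ oddCore G := by
    have := hI g
    rwa [← hy, hzi] at this
  have hki : z * k * z⁻¹ = k⁻¹ := by
    rw [hk, hzi, mul_inv_rev, hzi, hyi]
    calc z * (y * z) * z = z * y * (z * z) := by group
      _ = z * y := by rw [hzz, mul_one]
  have hodd : Odd (orderOf k) := by
    have h1 : orderOf k ∣ Nat.card (oddCore G) := Subgroup.orderOf_dvd_natCard _ hkO
    have h2 : Nat.Coprime (Nat.card (oddCore G)) 2 := Cfsg.Agent.Lib.PCore.card_pPrimeCore_coprime 2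
    exact Odd.of_dvd_nat (Nat.coprime_two_right.1 h2) h1
  obtain ⟨q, hq⟩ := hodd
  set m := k ^ (q + 1) with hm
  have hmO : m ∈ oddCore G := pow_mem hkO _
  have hmm : m * m = k := by
    rw [hm, ← pow_add]
    have h3 : q + 1 + (q + 1) = orderOf k + 1 := by omega
    rw [h3, pow_succ, pow_orderOf_eq_one, one_mul]
  have hzm : z * m * z⁻¹ = m⁻¹ := by
    rw [hm, ← conj_pow, hki, inv_pow]
  have hmz : m * z * m⁻¹ = y := by
    have h4 : m⁻¹ = z * m * z := by rw [← hzm, hzi]
    calc m * z * m⁻¹ = m * z * (z * m * z) := by rw [h4]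
      _ = m * (z * z) * m * z := by group
      _ = (m * m) * z := by rw [hzz, mul_one]
      _ = k * z := by rw [hmm]
      _ = y * (z * z) := by rw [hk, mul_assoc]
      _ = y := by rw [hzz, mul_one]
  have hT : m⁻¹ * g ∈ centralizer ({z} : Set G) := by
    rw [mem_centralizer_singleton_iff]
    have h5 : m * z * m⁻¹ = g * z * g⁻¹ := hmz
    calc m⁻¹ * g * z = m⁻¹ * (g * z * g⁻¹) * g := by group
      _ = m⁻¹ * (m * z * m⁻¹) * g := by rw [h5]
      _ = z * (m⁻¹ * g) := by group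
  have h6 : g = m * (m⁻¹ * g) := by group
  rw [h6]
  exact Subgroup.mul_mem _ ((le_sup_right : oddCore G ≤ centralizer ({z} : Set G) ⊔ oddCore G) hmO)
    ((le_sup_left : centralizer ({z} : Set G) ≤ centralizer ({z} : Set G) ⊔ oddCore G) hT)

/-- The neither-fused case. -/
theorem isolated_of_not_fused {G : Type*} [Group G] [Finite G] {z : G} (e : centralizer ({z} : Set G) ≃* DihedralGroup 4)
    (hz : orderOf z = 2) (hfa : ¬ ∃ g, g * z * g⁻¹ = aa e) (hfb : ¬ ∃ g, g * z * g⁻¹ = bb e) :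
    IsIsolatedInvolution z := by
  refine ⟨hz, ?_⟩
  intro g hg
  have h1 : (g * z * g⁻¹) * z = z * (g * z * g⁻¹) := hg.eq.symm
  have h2 : (g * z * g⁻¹) ^ 2 = 1 := by
    have : z ^ 2 = 1 := by
      rw [← hz]; exact pow_orderOf_eq_one z
    rw [conj_pow, this]
    group
  have h3 : g * z * g⁻¹ ≠ 1 := by
    intro h
    apply t_ne_one hz
    calc z = g⁻¹ * (g * z * g⁻¹) * g := by group
      _ = 1 := by rw [h]; group
  have hc : ∀ (e' : centralizer ({z} : Set G) ≃* DihedralGroup 4), g * z * g⁻¹ = aa e' * z →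
      ∃ g', g' * z * g'⁻¹ = aa e' := by
    intro e' h
    refine ⟨(inG e' (r 1))⁻¹ * g, ?_⟩
    have h5 := rho_conj e' hz
    calc (inG e' (r 1))⁻¹ * g * z * ((inG e' (r 1))⁻¹ * g)⁻¹
        = (inG e' (r 1))⁻¹ * (g * z * g⁻¹) * (inG e' (r 1)) := by group
      _ = (inG e' (r 1))⁻¹ * (inG e' (r 1) * aa e' * (inG e' (r 1))⁻¹) * (inG e' (r 1)) := by rw [h, h5]
      _ = aa e' := by group
  rcases inv_comm_t e hz h1 h2 h3 with h | h | h | h | h
  · exact h
  · exact absurd ⟨g, h⟩ hfa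
  · exact absurd (hc e h) hfa
  · exact absurd ⟨g, h⟩ hfb
  · exact absurd (hc (eS e) h) hfb

instance fact2' : Fact (Nat.Prime 2) := ⟨Nat.prime_two⟩

/-- `PSL₃(2) = SL₃(2)`. -/
theorem psl32 : Nonempty (Matrix.ProjectiveSpecialLinearGroup (Fin 3) (ZMod 2) ≃*
    Matrix.SpecialLinearGroup (Fin 3) (ZMod 2)) := by
  have hbot : Subgroup.center (Matrix.SpecialLinearGroup (Fin 3) (ZMod 2)) = ⊥ := by
    rw [eq_bot_iff]
    intro x hx
    obtain ⟨r, hr, h⟩ := (Matrix.SpecialLinearGroup.mem_center_iff).1 hx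
    have hr1 : r = 1 := by
      have key : ∀ r : ZMod 2, r ^ 3 = 1 → r = 1 := by decide
      rw [Fintype.card_fin] at hr
      exact key r hr
    rw [Subgroup.mem_bot]
    apply Subtype.ext
    rw [← h, hr1]
    simp
  exact ⟨(QuotientGroup.quotientMulEquivOfEq hbot).trans QuotientGroup.quotientBot⟩

/-- **S3035.** -/
theorem result {G : Type*} [Group G] [Finite G] (z : G) (hz : orderOf z = 2)
    (hC : Nonempty (↥(Subgroup.centralizer ({z} : Set G)) ≃* DihedralGroup 4)) :
    Subgroup.centralizer ({z} : Set G) ⊔ Cfsg.oddCore G = ⊤ ∨ Nonempty (G ≃* Equiv.Perm (Fin 4)) ∨ Nonempty (G ≃* Equiv.Perm (Fin 5)) ∨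
      Nonempty (G ≃* Matrix.SpecialLinearGroup (Fin 3) (ZMod 2)) ∨ Nonempty (G ≃* ↥(alternatingGroup (Fin 6))) := by
  obtain ⟨e⟩ := hC
  by_cases hfa : ∃ g, g * z * g⁻¹ = aa e
  · by_cases hfb : ∃ g, g * z * g⁻¹ = bb e
    · right; right; right
      rcases card_eq e hz hfa hfb with h | h
      · left
        have hs : IsSimpleGroup G := isSimple e hz hfa hfb
        obtain ⟨i₁⟩ := Cfsg.Agent.S0495.result (G := G) h (F := ZMod 7) (ZMod.card 7)
        obtain ⟨i₂⟩ := Cfsg.Agent.S0255.result (F := ZMod 7) (K := ZMod 2) (ZMod.card 7) (ZMod.card 2)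
        obtain ⟨i₃⟩ := psl32
        exact ⟨(i₁.trans i₂).trans i₃⟩
      · right
        exact Cfsg.Agent.Lib.D8A6Main.iso_A6 e hz hfa hfb h
    · right
      rcases main e hz hfa hfb with h | h
      · exact Or.inl h
      · exact Or.inr (Or.inl h)
  · by_cases hfb : ∃ g, g * z * g⁻¹ = bb e
    · right
      have hfa' : ∃ g, g * z * g⁻¹ = aa (eS e) := hfb
      have hfb' : ¬ ∃ g, g * z * g⁻¹ = bb (eS e) := hfa
      rcases main (eS e) hz hfa' hfb' with h | h
      · exact Or.inl h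
      · exact Or.inr (Or.inl h)
    · left
      exact sup_of_zstar hz (Cfsg.Agent.Lib.ZStar.zstar (isolated_of_not_fused e hz hfa hfb))

end Cfsg.Agent.S3035
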