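-- Statement S3053
import Mathlib
import Cfsg.Agent.Lib.ControlSec
import Cfsg.Agent.Lib.CentralSylow
import Cfsg.Statements.S3053

set_option autoImplicit false
open Cfsg

namespace Cfsg.Agent.S3053

open Cfsg.Agent.Lib.AlperinControl Cfsg.Agent.Lib.ControlSec

section Q
variable {Q : Type*} [Group Q]

theorem pow_mul_class2 {x y c : Q} (hc : y * x = c * x * y) (hcx : c * x = x * c) (hcy : c * y = y * c) (n : ℕ) :
    (x * y) ^ n = x ^ n * y ^ n * c ^ (n.choose 2) := by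
  have hy : ∀ n : ℕ, y ^ n * x = c ^ n * x * y ^ n := by
    intro n
    induction n with
    | zero => simp
    | succ n ih =>
      have hcyn : y ^ n * c = c * y ^ n := (Commute.pow_right (show Commute c y from hcy) n).eq.symm
      calc y ^ (n + 1) * x = y ^ n * (y * x) := by rw [pow_succ]; group
        _ = (y ^ n * c) * x * y := by rw [hc]; group
        _ = c * (y ^ n * x) * y := by rw [hcyn]; group
        _ = c ^ (n + 1) * x * y ^ (n + 1) := by rw [ih, pow_succ', pow_succ]; group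
  induction n with
  | zero => simp
  | succ n ih =>
    have hcxn : c ^ (n.choose 2) * x = x * c ^ (n.choose 2) := (Commute.pow_left (show Commute c x from hcx) _).eq
    have hcyn : c ^ (n.choose 2) * y = y * c ^ (n.choose 2) := (Commute.pow_left (show Commute c y from hcy) _).eq
    have hcn2 : c ^ n * x = x * c ^ n := (Commute.pow_left (show Commute c x from hcx) n).eq
    have hch : (n + 1).choose 2 = n + n.choose 2 := by
      rw [Nat.choose_succ_succ' n 1, Nat.choose_one_right]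
    rw [pow_succ, ih, hch, pow_add c]
    calc x ^ n * y ^ n * c ^ (n.choose 2) * (x * y)
        = x ^ n * y ^ n * (c ^ (n.choose 2) * x) * y := by group
      _ = x ^ n * (y ^ n * x) * (c ^ (n.choose 2) * y) := by rw [hcxn]; group
      _ = x ^ n * (c ^ n * x * y ^ n) * (c ^ (n.choose 2) * y) := by rw [hy]
      _ = x ^ n * (c ^ n * x) * y ^ n * (c ^ (n.choose 2) * y) := by group
      _ = x ^ n * (x * c ^ n) * y ^ n * (y * c ^ (n.choose 2)) := by rw [hcn2, hcyn]
      _ = x ^ (n + 1) * (c ^ n * (y ^ n * y)) * c ^ (n.choose 2) := by rw [pow_succ]; group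
      _ = x ^ (n + 1) * ((y ^ n * y) * c ^ n) * c ^ (n.choose 2) := by
          rw [show y ^ n * y = y ^ (n + 1) from (pow_succ y n).symm]
          rw [(Commute.pow_pow (show Commute c y from hcy) n (n + 1)).eq]
      _ = x ^ (n + 1) * y ^ (n + 1) * (c ^ n * c ^ (n.choose 2)) := by rw [pow_succ y n]; group

variable [Finite Q] {p : ℕ} [hp : Fact p.Prime]

theorem pow_mem_center (hQ : Nat.card Q = p ^ 3) (hZ : Nat.card (Subgroup.center Q) = p) (x : Q) :
    x ^ p ∈ Subgroup.center Q := by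
  have hpos : 0 < p := hp.out.pos
  have h1 : Nat.card (Q ⧸ Subgroup.center Q) = p ^ 2 := by
    have := Subgroup.card_eq_card_quotient_mul_card_subgroup (Subgroup.center Q)
    rw [hQ, hZ] at this
    have h2 : p ^ 2 * p = Nat.card (Q ⧸ Subgroup.center Q) * p := by rw [← this]; ring
    exact (Nat.eq_of_mul_eq_mul_right hpos h2).symm
  have h2 : ¬ IsCyclic (Q ⧸ Subgroup.center Q) := by
    intro hcyc
    have hcomm : IsMulCommutative Q := MonoidHom.isMulCommutative_of_isCyclic_of_ker_le_center (QuotientGroup.mk' (Subgroup.center Q))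
      (by rw [QuotientGroup.ker_mk'])
    have : Subgroup.center Q = ⊤ := by
      ext a
      simp only [Subgroup.mem_top, iff_true]
      rw [Subgroup.mem_center_iff]
      intro b
      exact (hcomm.is_comm.comm b a)
    rw [this, Subgroup.card_top, hQ] at hZ
    have h5 : p ^ 3 = p ^ 1 := by simpa using hZ
    have := Nat.pow_right_injective hp.out.two_le h5
    omega
  have h3 : orderOf (x : Q ⧸ Subgroup.center Q) ∣ p ^ 2 := by
    rw [← h1]; exact orderOf_dvd_natCard _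
  obtain ⟨k, hk, hk2⟩ := (Nat.dvd_prime_pow hp.out).1 h3
  have hk3 : k ≤ 1 := by
    by_contra hc
    have : k = 2 := by omega
    subst this
    exact h2 (isCyclic_of_orderOf_eq_card _ (by rw [hk2, h1]))
  have h4 : ((x ^ p : Q) : Q ⧸ Subgroup.center Q) = 1 := by
    rw [QuotientGroup.mk_pow]
    apply orderOf_dvd_iff_pow_eq_one.mp
    rw [hk2]
    exact (pow_dvd_pow p hk3).trans (by simp)
  exact (QuotientGroup.eq_one_iff _).mp h4

end Q

section Q2
variable {Q : Type*} [Group Q] [Finite Q] {p : ℕ} [hp : Fact p.Prime]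

theorem exists_E (hp2 : p ≠ 2) (hQ : Nat.card Q = p ^ 3) (hZ : Nat.card (Subgroup.center Q) = p)
    (hcomm : ∀ x y : Q, x * y * x⁻¹ * y⁻¹ ∈ Subgroup.center Q) (hu : ∃ u : Q, u ^ p ≠ 1) :
    ∃ E : Subgroup Q, (∀ x, x ∈ E ↔ x ^ p = 1) ∧ Nat.card E = p ^ 2 ∧ (∀ x y : Q, (x * y) ^ p = x ^ p * y ^ p) := by
  have hpos : 0 < p := hp.out.pos
  have h2p : 2 < p := lt_of_le_of_ne hp.out.two_le (Ne.symm hp2)
  have hcen : ∀ c ∈ Subgroup.center Q, c ^ p = 1 := by
    intro c hc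
    have h1 : (⟨c, hc⟩ : Subgroup.center Q) ^ p = 1 := by
      rw [← hZ]; exact pow_card_eq_one'
    simpa using congrArg Subtype.val h1
  have hmul : ∀ x y : Q, (x * y) ^ p = x ^ p * y ^ p := by
    intro x y
    set c := y * x * y⁻¹ * x⁻¹ with hc
    have hcc : c ∈ Subgroup.center Q := hcomm y x
    have h1 : y * x = c * x * y := by rw [hc]; group
    have h2 : c * x = x * c := (Subgroup.mem_center_iff.1 hcc x).symm
    have h3 : c * y = y * c := (Subgroup.mem_center_iff.1 hcc y).symm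
    rw [pow_mul_class2 h1 h2 h3 p]
    obtain ⟨m, hm⟩ := hp.out.dvd_choose_self (k := 2) (by norm_num) h2p
    rw [hm, pow_mul, hcen c hcc, one_pow, mul_one]
  let φ : Q →* Q :=
    { toFun := fun x => x ^ p
      map_one' := one_pow p
      map_mul' := hmul }
  have hφ : ∀ x, φ x = x ^ p := fun x => rfl
  refine ⟨φ.ker, fun x => by rw [MonoidHom.mem_ker, hφ], ?_, hmul⟩
  have hr : φ.range ≤ Subgroup.center Q := by
    rintro _ ⟨x, rfl⟩
    exact pow_mem_center hQ hZ x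
  have hr2 : Nat.card φ.range = p := by
    have h1 : Nat.card φ.range ∣ p := by
      rw [← hZ]; exact Subgroup.card_dvd_of_le hr
    rcases (Nat.dvd_prime hp.out).1 h1 with h | h
    · exfalso
      obtain ⟨u, hu⟩ := hu
      have h2 : φ.range = ⊥ := Subgroup.card_eq_one.mp h
      have h3 : φ u ∈ φ.range := ⟨u, rfl⟩
      rw [h2, Subgroup.mem_bot] at h3
      exact hu h3
    · exact h
  have h1 := Subgroup.card_mul_index φ.ker
  rw [Subgroup.index_ker, hr2, hQ] at h1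
  have h2 : Nat.card φ.ker * p = p ^ 2 * p := by rw [h1]; ring
  exact Nat.eq_of_mul_eq_mul_right hpos h2

theorem eq_top_of_gt (hQ : Nat.card Q = p ^ 3) {E C : Subgroup Q} (hE : Nat.card E = p ^ 2)
    (hEC : E ≤ C) (hne : ¬ C ≤ E) : C = ⊤ := by
  have h1 : Nat.card C ∣ p ^ 3 := by rw [← hQ]; exact Subgroup.card_subgroup_dvd_card C
  obtain ⟨k, hk, hk2⟩ := (Nat.dvd_prime_pow hp.out).1 h1
  have h2 : p ^ 2 < p ^ k := by
    rw [← hE, ← hk2]
    have hlt : E < C := lt_of_le_of_ne hEC (fun h => hne (h ▸ le_refl _))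
    exact Set.ncard_lt_ncard (by exact hlt) (Set.toFinite _)
  have h3 : 2 < k := (Nat.pow_lt_pow_iff_right hp.out.one_lt).1 h2
  have h4 : k = 3 := by omega
  apply Subgroup.eq_top_of_card_eq
  rw [hk2, h4, hQ]

theorem mem_center_of_comm (hQ : Nat.card Q = p ^ 3) {E : Subgroup Q} (hE : Nat.card E = p ^ 2)
    (hEc : ∀ a ∈ E, ∀ b ∈ E, a * b = b * a) {u e : Q} (hu : u ∉ E) (he : e ∈ E) (hue : u * e * u⁻¹ = e) :
    e ∈ Subgroup.center Q := by
  have h1 : Subgroup.centralizer ({e} : Set Q) = ⊤ := by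
    apply eq_top_of_gt hQ hE
    · intro a ha
      rw [Subgroup.mem_centralizer_singleton_iff]
      exact hEc a ha e he
    · intro h
      apply hu
      apply h
      rw [Subgroup.mem_centralizer_singleton_iff]
      calc u * e = (u * e * u⁻¹) * u := by group
        _ = e * u := by rw [hue]
  rw [Subgroup.mem_center_iff]
  intro y
  have : y ∈ Subgroup.centralizer ({e} : Set Q) := by rw [h1]; trivial
  rw [Subgroup.mem_centralizer_singleton_iff] at this
  exact this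

end Q2

section invert
variable {G : Type*} [Group G]

theorem invert_aux {p : ℕ} (A B : MulAut G) (z₀ z₁ : G) (α β k : ℕ) (hcomm : z₀ * z₁ = z₁ * z₀)
    (hp0 : z₀ ^ p = 1) (hp1 : z₁ ^ p = 1) (hA0 : A z₀ = z₀) (hA1 : A z₁ = z₀ ^ α * z₁)
    (hB1 : B z₁ = z₁) (hB0 : B z₀ = z₁ ^ β * z₀) (hk : p ∣ k * α * β + 1) :
    ((A ^ k * B * A ^ k) * (A ^ k * B * A ^ k)) z₀ = z₀⁻¹ ∧
    ((A ^ k * B * A ^ k) * (A ^ k * B * A ^ k)) z₁ = z₁⁻¹ := by
  have hc : Commute z₀ z₁ := hcomm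
  have hAk0 : ∀ n : ℕ, (A ^ n) z₀ = z₀ := by
    intro n
    induction n with
    | zero => simp
    | succ n ih => rw [pow_succ, MulAut.mul_apply, hA0, ih]
  have hAk1 : ∀ n : ℕ, (A ^ n) z₁ = z₀ ^ (n * α) * z₁ := by
    intro n
    induction n with
    | zero => simp
    | succ n ih =>
      rw [pow_succ, MulAut.mul_apply, hA1, map_mul, map_pow, hAk0, ih, ← mul_assoc, ← pow_add]
      congr 2
      ring
  have hz0 : ∀ n : ℕ, p ∣ n → z₀ ^ n = 1 := by
    rintro n ⟨m, rfl⟩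
    rw [pow_mul, hp0, one_pow]
  have hz1 : ∀ n : ℕ, p ∣ n → z₁ ^ n = 1 := by
    rintro n ⟨m, rfl⟩
    rw [pow_mul, hp1, one_pow]
  have hW0 : (A ^ k * B * A ^ k) z₀ = z₁ ^ β := by
    rw [MulAut.mul_apply, MulAut.mul_apply, hAk0, hB0, map_mul, map_pow, hAk0, hAk1, (hc.pow_left (k * α)).mul_pow β]
    rw [← pow_mul]
    calc z₀ ^ (k * α * β) * z₁ ^ β * z₀ = z₀ ^ (k * α * β) * (z₁ ^ β * z₀) := by group
      _ = z₀ ^ (k * α * β) * (z₀ * z₁ ^ β) := by rw [(hc.pow_right β).eq]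
      _ = z₀ ^ (k * α * β + 1) * z₁ ^ β := by rw [pow_succ]; group
      _ = z₁ ^ β := by rw [hz0 _ hk, one_mul]
  have hW1 : (A ^ k * B * A ^ k) z₁ = z₀ ^ (k * α) := by
    rw [MulAut.mul_apply, MulAut.mul_apply, hAk1, map_mul, map_pow, hB0, hB1, ((hc.symm.pow_left β).mul_pow (k * α))]
    rw [← pow_mul]
    have h1 : z₁ ^ (β * (k * α)) * z₀ ^ (k * α) * z₁ = z₁ ^ (k * α * β + 1) * z₀ ^ (k * α) := by
      calc z₁ ^ (β * (k * α)) * z₀ ^ (k * α) * z₁ = z₁ ^ (β * (k * α)) * (z₀ ^ (k * α) * z₁) := by group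
        _ = z₁ ^ (β * (k * α)) * (z₁ * z₀ ^ (k * α)) := by rw [(hc.pow_left (k * α)).eq]
        _ = z₁ ^ (β * (k * α) + 1) * z₀ ^ (k * α) := by rw [pow_succ]; group
        _ = z₁ ^ (k * α * β + 1) * z₀ ^ (k * α) := by congr 2; ring
    rw [h1, hz1 _ hk, one_mul, map_pow, hAk0]
  have hinv0 : z₀ ^ (k * α * β) = z₀⁻¹ := by
    rw [eq_inv_iff_mul_eq_one, ← pow_succ]
    exact hz0 _ hk
  have hinv1 : z₁ ^ (k * α * β) = z₁⁻¹ := by
    rw [eq_inv_iff_mul_eq_one, ← pow_succ]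
    exact hz1 _ hk
  constructor
  · rw [MulAut.mul_apply, hW0, map_pow, hW1, ← pow_mul, hinv0]
  · rw [MulAut.mul_apply, hW1, map_pow, hW0, ← pow_mul, show β * (k * α) = k * α * β by ring, hinv1]

end invert

section main
variable {G : Type*} [Group G] [Finite G] {p : ℕ} [hp : Fact p.Prime]

omit [Finite G] in
theorem exists_pow_of_card_prime {Z : Subgroup G} [Finite Z] (hZ : Nat.card Z = p) {z y : G} (hz : z ∈ Z) (hz1 : z ≠ 1)
    (hy : y ∈ Z) : ∃ m : ℕ, z ^ m = y := by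
  have h1 : Subgroup.zpowers (⟨z, hz⟩ : Z) = ⊤ := zpowers_eq_top_of_prime_card hZ (by
    intro h; exact hz1 (congrArg Subtype.val h))
  have h2 : (⟨y, hy⟩ : Z) ∈ Subgroup.zpowers (⟨z, hz⟩ : Z) := by rw [h1]; trivial
  rw [← mem_powers_iff_mem_zpowers, Submonoid.mem_powers_iff] at h2
  obtain ⟨m, hm⟩ := h2
  exact ⟨m, by simpa using congrArg Subtype.val hm⟩

omit [Finite G] in
theorem pow_core {O : Subgroup G} {a c : G} (hO : ∀ x ∈ O, a⁻¹ * x * a ∈ O) (hc : c ∈ O) (n : ℕ) :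
    ∃ c' ∈ O, (a * c) ^ n = a ^ n * c' := by
  induction n with
  | zero => exact ⟨1, O.one_mem, by simp⟩
  | succ n ih =>
    obtain ⟨c', hc', h⟩ := ih
    refine ⟨(a⁻¹ * c' * a) * c, O.mul_mem (hO c' hc') hc, ?_⟩
    rw [pow_succ, h, pow_succ]
    group

theorem main_N (hp2 : p ≠ 2) (P : Sylow p G) (Z E : Subgroup G)
    (hZE : Z ≤ E) (hZcard : Nat.card Z = p) (hEcard : Nat.card E = p ^ 2)
    (hEpow : ∀ x ∈ E, x ^ p = 1) (hEc : ∀ x ∈ E, ∀ y ∈ E, x * y = y * x)
    (hmul : ∀ x ∈ (P : Subgroup G), ∀ y ∈ (P : Subgroup G), (x * y) ^ p = x ^ p * y ^ p)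
    (hEP : E ≤ P) (hZpow : ∀ x ∈ (P : Subgroup G), x ^ p ∈ Z)
    (u : G) (huP : u ∈ (P : Subgroup G)) (hup : u ^ p ≠ 1)
    (hcu : ∀ e ∈ E, u * e * u⁻¹ * e⁻¹ ∈ Z) (hcu2 : ∀ e ∈ E, u * e * u⁻¹ = e → e ∈ Z)
    (hZu : ∀ z ∈ Z, u * z * u⁻¹ = z)
    (hCP : ∀ x ∈ (P : Subgroup G), (∀ e ∈ E, x * e = e * x) → x ∈ E)
    (hPN : (P : Subgroup G) ≤ NN E) :
    ∀ h ∈ NN E, ∀ z ∈ Z, h * z * h⁻¹ ∈ Z := by
  classical
  intro h hh z hz
  by_contra hz1
  set z₁ := h * z * h⁻¹ with hz₁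
  have hz₁E : z₁ ∈ E := conj_mem_of_mem_NN hh (hZE hz)
  have hh' : h⁻¹ ∈ NN E := (NN E).inv_mem hh
  have hne : z ≠ 1 := by
    rintro rfl
    apply hz1
    rw [hz₁]; simp [Z.one_mem]
  have hzE := hZE hz
  -- action of `u`
  obtain ⟨α, hα⟩ := exists_pow_of_card_prime hZcard hz hne (hcu z₁ hz₁E)
  have hu1 : u * z₁ * u⁻¹ = z ^ α * z₁ := by rw [hα]; group
  have hu0 : u * z * u⁻¹ = z := hZu z hz
  have hαp : ¬ p ∣ α := by
    rintro ⟨m, rfl⟩
    rw [pow_mul, hEpow z hzE, one_pow, one_mul] at hu1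
    exact hz1 (hcu2 z₁ hz₁E hu1)
  -- action of `v`
  set v := h * u * h⁻¹ with hv
  set e := h⁻¹ * z * h with he
  have heE : e ∈ E := by
    have := conj_mem_of_mem_NN hh' hzE
    simpa [he] using this
  have hhe : h * e * h⁻¹ = z := by rw [he]; group
  have hene : e ≠ 1 := by
    intro h0
    apply hne
    rw [← hhe, h0]; simp
  obtain ⟨β, hβ⟩ := exists_pow_of_card_prime hZcard hz hne (hcu e heE)
  have hue : u * e * u⁻¹ = z ^ β * e := by rw [hβ]; group
  have hv1 : v * z₁ * v⁻¹ = z₁ := by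
    calc v * z₁ * v⁻¹ = h * (u * z * u⁻¹) * h⁻¹ := by rw [hv, hz₁]; group
      _ = z₁ := by rw [hu0]
  have hv0 : v * z * v⁻¹ = z₁ ^ β * z := by
    calc v * z * v⁻¹ = h * (u * e * u⁻¹) * h⁻¹ := by rw [hv, he]; group
      _ = h * (z ^ β * e) * h⁻¹ := by rw [hue]
      _ = (h * z ^ β * h⁻¹) * (h * e * h⁻¹) := by group
      _ = z₁ ^ β * z := by rw [hhe, hz₁, conj_pow]
  have hβp : ¬ p ∣ β := by
    rintro ⟨m, rfl⟩
    rw [pow_mul, hEpow z hzE, one_pow, one_mul] at hue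
    have heZ : e ∈ Z := hcu2 e heE hue
    obtain ⟨a, ha⟩ := exists_pow_of_card_prime hZcard heZ hene hz
    apply hz1
    have : z₁ = z ^ a := by
      rw [hz₁]
      nth_rewrite 1 [← ha]
      rw [← conj_pow, hhe]
    rw [this]
    exact Z.pow_mem hz a
  -- the exponent `k`
  have hk : ∃ k : ℕ, p ∣ k * α * β + 1 := by
    have hm : ((α * β : ℕ) : ZMod p) ≠ 0 := by
      rw [Ne, ZMod.natCast_eq_zero_iff]
      intro h1
      rcases (hp.out.dvd_mul).1 h1 with h2 | h2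
      · exact hαp h2
      · exact hβp h2
    refine ⟨(-((α * β : ℕ) : ZMod p)⁻¹).val, ?_⟩
    rw [← ZMod.natCast_eq_zero_iff]
    push_cast
    rw [ZMod.natCast_val, ZMod.cast_id', id]
    push_cast at hm
    have h3 : (-((α : ZMod p) * β)⁻¹) * α * β = -1 := by
      rw [mul_assoc, neg_mul, inv_mul_cancel₀ hm]
    rw [h3]
    ring
  obtain ⟨k, hk⟩ := hk
  have huN : u ∈ NN E := hPN huP
  have hvN : v ∈ NN E := (NN E).mul_mem ((NN E).mul_mem hh huN) hh'
  set t := (u ^ k * v * u ^ k) * (u ^ k * v * u ^ k) with ht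
  have htN : t ∈ NN E := by
    have : u ^ k ∈ NN E := (NN E).pow_mem huN k
    exact (NN E).mul_mem ((NN E).mul_mem ((NN E).mul_mem this hvN) this) ((NN E).mul_mem ((NN E).mul_mem this hvN) this)
  have hconj : MulAut.conj t = (MulAut.conj u ^ k * MulAut.conj v * MulAut.conj u ^ k) * (MulAut.conj u ^ k * MulAut.conj v * MulAut.conj u ^ k) := by
    rw [ht]; simp only [map_mul, map_pow]
  obtain ⟨ht0, ht1⟩ := invert_aux (p := p) (MulAut.conj u) (MulAut.conj v) z z₁ α β k (hEc z hzE z₁ hz₁E) (hEpow z hzE) (hEpow z₁ hz₁E)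
    (by simpa [MulAut.conj_apply] using hu0) (by simpa [MulAut.conj_apply] using hu1) (by simpa [MulAut.conj_apply] using hv1)
    (by simpa [MulAut.conj_apply] using hv0) hk
  rw [← hconj, MulAut.conj_apply] at ht0 ht1
  -- `t` inverts `E`
  let I : Subgroup G :=
    { carrier := {a | a ∈ E ∧ t * a * t⁻¹ = a⁻¹}
      one_mem' := ⟨E.one_mem, by simp⟩
      mul_mem' := by
        rintro a b ⟨ha, ha2⟩ ⟨hb, hb2⟩
        refine ⟨E.mul_mem ha hb, ?_⟩
        calc t * (a * b) * t⁻¹ = (t * a * t⁻¹) * (t * b * t⁻¹) := by group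
          _ = (a * b)⁻¹ := by rw [ha2, hb2, hEc _ (E.inv_mem ha) _ (E.inv_mem hb)]; group
      inv_mem' := by
        rintro a ⟨ha, ha2⟩
        refine ⟨E.inv_mem ha, ?_⟩
        calc t * a⁻¹ * t⁻¹ = (t * a * t⁻¹)⁻¹ := by group
          _ = (a⁻¹)⁻¹ := by rw [ha2] }
  have hIE : I ≤ E := fun a ha => ha.1
  have hzI : z ∈ I := ⟨hzE, ht0⟩
  have hz₁I : z₁ ∈ I := ⟨hz₁E, ht1⟩
  have hZI : Z ≤ I := by
    intro y hy
    obtain ⟨m, rfl⟩ := exists_pow_of_card_prime hZcard hz hne hy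
    exact I.pow_mem hzI m
  have hIeq : I = E := by
    have h1 : Nat.card I ∣ p ^ 2 := by rw [← hEcard]; exact Subgroup.card_dvd_of_le hIE
    obtain ⟨k', hk', hk2⟩ := (Nat.dvd_prime_pow hp.out).1 h1
    have hlt : Z < I := lt_of_le_of_ne hZI (fun h0 => hz1 (h0 ▸ hz₁I))
    have h2 : p < p ^ k' := by
      nth_rewrite 1 [← hZcard]
      rw [← hk2]
      exact Set.ncard_lt_ncard (by exact hlt) (Set.toFinite _)
    have h3 : 1 < k' := by
      have : p ^ 1 < p ^ k' := by simpa using h2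
      exact (Nat.pow_lt_pow_iff_right hp.out.one_lt).1 this
    have h4 : k' = 2 := by omega
    apply Subgroup.eq_of_le_of_card_ge hIE
    rw [hEcard, hk2, h4]
  have hinv : ∀ a ∈ E, t * a * t⁻¹ = a⁻¹ := by
    intro a ha
    have : a ∈ I := by rw [hIeq]; exact ha
    exact this.2
  -- `l = [t, u]` centralizes `E`
  set l := t * u * t⁻¹ * u⁻¹ with hl
  have hlN : l ∈ NN E := (NN E).mul_mem ((NN E).mul_mem ((NN E).mul_mem htN huN) ((NN E).inv_mem htN)) ((NN E).inv_mem huN)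
  have hlC : ∀ a ∈ E, a * l = l * a := by
    intro a ha
    have ha1 : u⁻¹ * a * u ∈ E := by
      have := conj_mem_of_mem_NN ((NN E).inv_mem huN) ha
      simpa using this
    have h1 := hinv _ (E.inv_mem ha1)
    have h2 : t⁻¹ * (u⁻¹ * a * u) * t = (u⁻¹ * a * u)⁻¹ := by
      rw [inv_inv] at h1
      calc t⁻¹ * (u⁻¹ * a * u) * t = t⁻¹ * (t * (u⁻¹ * a * u)⁻¹ * t⁻¹) * t := by rw [h1]
        _ = (u⁻¹ * a * u)⁻¹ := by group
    have h3 := hinv _ (E.inv_mem ha)
    rw [inv_inv] at h3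
    calc a * l = t * a⁻¹ * t⁻¹ * l := by rw [h3]
      _ = t * (a⁻¹ * u * t⁻¹ * u⁻¹) := by rw [hl]; group
      _ = t * (u * (u⁻¹ * a * u)⁻¹ * t⁻¹ * u⁻¹) := by group
      _ = t * (u * (t⁻¹ * (u⁻¹ * a * u) * t) * t⁻¹ * u⁻¹) := by rw [h2]
      _ = l * a := by rw [hl]; group
  -- decomposition of `l`
  let N : Subgroup G := NN E
  let T : Sylow p N := P.subtype hPN
  let C : Subgroup N := (Subgroup.centralizer (E : Set G)).subgroupOf N
  have hCn : C.Normal := by
    constructor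
    intro n hn g
    show ((g * n * g⁻¹ : N) : G) ∈ Subgroup.centralizer (E : Set G)
    rw [Subgroup.mem_centralizer_iff]
    intro a ha
    have hn' : (n : G) ∈ Subgroup.centralizer (E : Set G) := hn
    rw [Subgroup.mem_centralizer_iff] at hn'
    have h1 : (g : G)⁻¹ * a * g ∈ E := by
      have := conj_mem_of_mem_NN ((NN E).inv_mem g.2) ha
      simpa using this
    have h2 := hn' _ h1
    push_cast
    calc a * ((g : G) * n * (g : G)⁻¹) = g * ((g : G)⁻¹ * a * g * n) * (g : G)⁻¹ := by group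
      _ = g * (n * ((g : G)⁻¹ * a * g)) * (g : G)⁻¹ := by rw [h2]
      _ = ((g : G) * n * (g : G)⁻¹) * a := by group
  have hCT : ∀ y ∈ (T : Subgroup N) ⊓ C, ∀ c ∈ C, y * c = c * y := by
    intro y hy c hc
    obtain ⟨hy1, hy2⟩ := hy
    have hy3 : (y : G) ∈ (P : Subgroup G) := by
      have := hy1
      rw [Sylow.coe_subtype] at this
      exact this
    have hy4 : (y : G) ∈ Subgroup.centralizer (E : Set G) := hy2
    rw [Subgroup.mem_centralizer_iff] at hy4
    have hy5 : (y : G) ∈ E := hCP _ hy3 (fun a ha => (hy4 a ha).symm)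
    have hc2 : (c : G) ∈ Subgroup.centralizer (E : Set G) := hc
    rw [Subgroup.mem_centralizer_iff] at hc2
    exact Subtype.ext (hc2 _ hy5)
  have hle := Cfsg.Agent.Lib.CentralSylow.central_sylow_le T C hCT
  have hlC' : (⟨l, hlN⟩ : N) ∈ C := by
    show l ∈ Subgroup.centralizer (E : Set G)
    rw [Subgroup.mem_centralizer_iff]
    exact hlC
  have hl2 := hle hlC'
  rw [Subgroup.mem_sup_of_normal_right] at hl2
  obtain ⟨e', he', c', hc', hec⟩ := hl2
  have he'1 : (e' : G) ∈ E := by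
    obtain ⟨hy1, hy2⟩ := he'
    have hy3 : (e' : G) ∈ (P : Subgroup G) := by
      have := hy1
      rw [Sylow.coe_subtype] at this
      exact this
    have hy4 : (e' : G) ∈ Subgroup.centralizer (E : Set G) := hy2
    rw [Subgroup.mem_centralizer_iff] at hy4
    exact hCP _ hy3 (fun a ha => (hy4 a ha).symm)
  have hlec : l = (e' : G) * (c' : G) := by
    have := congrArg Subtype.val hec
    simpa using this.symm
  -- the core inside `G`
  let O : Subgroup G := (Cfsg.pPrimeCore p N).map N.subtype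
  have hON : ∀ x ∈ O, x ∈ N := by
    rintro _ ⟨x, _, rfl⟩
    exact x.2
  have hOn : ∀ a ∈ N, ∀ x ∈ O, a⁻¹ * x * a ∈ O := by
    rintro a ha _ ⟨x, hx, rfl⟩
    have h1 := (Cfsg.pPrimeCore_normal p N).conj_mem x hx (⟨a, ha⟩ : N)⁻¹
    refine ⟨_, h1, ?_⟩
    simp
  have hOcard : (Nat.card O).Coprime p := by
    have h1 := Cfsg.Agent.Lib.PCore.card_pPrimeCore_coprime (G := N) p
    rwa [show Nat.card O = Nat.card (Cfsg.pPrimeCore p N) from
      Subgroup.card_map_of_injective N.subtype_injective]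
  set y := u ^ p with hy
  have hyZ : y ∈ Z := hZpow u huP
  have hyE := hZE hyZ
  -- `t u t⁻¹ = (e' u) (u⁻¹ c' u)`
  have h1 : t * u * t⁻¹ = ((e' : G) * u) * (u⁻¹ * (c' : G) * u) := by
    have : t * u * t⁻¹ = l * u := by rw [hl]; group
    rw [this, hlec]; group
  have hc'O : (c' : G) ∈ O := ⟨c', hc', rfl⟩
  have hc1O : u⁻¹ * (c' : G) * u ∈ O := hOn u huN _ hc'O
  have heuN : (e' : G) * u ∈ N := N.mul_mem (hPN (hEP he'1)) huN
  obtain ⟨c₂, hc₂, h2⟩ := pow_core (hOn _ heuN) hc1O p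
  have h3 : ((e' : G) * u) ^ p = y := by
    rw [hmul _ (hEP he'1) _ huP, hEpow _ he'1, one_mul]
  have h4 : (t * u * t⁻¹) ^ p = y⁻¹ := by
    rw [conj_pow, hinv y hyE]
  rw [h1, h2, h3] at h4
  have h5 : c₂ = y⁻¹ * y⁻¹ := by
    calc c₂ = y⁻¹ * (y * c₂) := by group
      _ = y⁻¹ * y⁻¹ := by rw [h4]
  have hyp : y ^ p = 1 := hEpow y hyE
  have h6 : c₂ ^ p = 1 := by
    have hcy : Commute y⁻¹ y⁻¹ := Commute.refl _
    rw [h5, hcy.mul_pow, inv_pow, hyp]; simp
  have h7 : c₂ = 1 := by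
    have h8 : (⟨c₂, hc₂⟩ : O) ^ p = 1 := Subtype.ext (by simpa using h6)
    have h9 := orderOf_dvd_of_pow_eq_one h8
    have h10 : orderOf (⟨c₂, hc₂⟩ : O) ∣ Nat.card O := orderOf_dvd_natCard _
    have h11 : orderOf (⟨c₂, hc₂⟩ : O) = 1 := Nat.eq_one_of_dvd_coprimes hOcard h10 h9
    rw [orderOf_eq_one_iff] at h11
    exact congrArg Subtype.val h11
  have h12 : y * y = 1 := by
    rw [h7] at h5
    have : (y * y)⁻¹ = 1 := by
      rw [mul_inv_rev]; exact h5.symm
    exact inv_eq_one.mp this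
  apply hup
  have hcop : Nat.Coprime 2 p := (Nat.coprime_primes Nat.prime_two hp.out).2 (Ne.symm hp2)
  have h13 : orderOf y ∣ 2 := orderOf_dvd_of_pow_eq_one (by rwa [pow_two])
  have h14 : orderOf y ∣ p := orderOf_dvd_of_pow_eq_one hyp
  have h15 : orderOf y = 1 := Nat.eq_one_of_dvd_coprimes hcop h13 h14
  rwa [orderOf_eq_one_iff] at h15

end main

theorem core {G : Type*} [Group G] [Finite G]
    {p : ℕ} [Fact p.Prime] (hp : p ≠ 2) (P : Sylow p G) (hE : Cfsg.IsExtraspecial p ↥(P : Subgroup G))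
    (hcard : Nat.card ↥(P : Subgroup G) = p ^ 3) (hexp : Monoid.exponent ↥(P : Subgroup G) = p ^ 2) :
    Cfsg.IsStronglyClosed ((Subgroup.center ↥(P : Subgroup G)).map (P : Subgroup G).subtype) (P : Subgroup G) := by
  classical
  have hpp : p.Prime := Fact.out
  obtain ⟨⟨-, -, hcomm⟩, hZcard⟩ := hE
  have hcomm' : ∀ x y : ↥(P : Subgroup G), x * y * x⁻¹ * y⁻¹ ∈ Subgroup.center ↥(P : Subgroup G) := by
    intro x y
    rw [← hcomm]
    exact Subgroup.commutator_mem_commutator (Subgroup.mem_top x) (Subgroup.mem_top y)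
  have hu : ∃ u : ↥(P : Subgroup G), u ^ p ≠ 1 := by
    by_contra hc
    push Not at hc
    have h1 : Monoid.exponent ↥(P : Subgroup G) ∣ p := Monoid.exponent_dvd_of_forall_pow_eq_one hc
    rw [hexp] at h1
    have h2 : p ^ 2 ≤ p := Nat.le_of_dvd hpp.pos h1
    have h3 : 2 ≤ p := hpp.two_le
    nlinarith
  obtain ⟨E, hE1, hE2, hmul⟩ := exists_E hp hcard hZcard hcomm' hu
  obtain ⟨u, hup⟩ := hu
  have huE : u ∉ E := fun h => hup ((hE1 u).1 h)
  have hEc : ∀ a ∈ E, ∀ b ∈ E, a * b = b * a := by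
    intro a ha b hb
    have := IsPGroup.isMulCommutative_of_card_eq_prime_sq hE2
    exact congrArg Subtype.val (this.is_comm.comm ⟨a, ha⟩ ⟨b, hb⟩)
  have hcen : ∀ c ∈ Subgroup.center ↥(P : Subgroup G), c ^ p = 1 := by
    intro c hc
    have h1 := pow_card_eq_one' (x := (⟨c, hc⟩ : Subgroup.center ↥(P : Subgroup G)))
    rw [hZcard] at h1
    simpa using congrArg Subtype.val h1
  set Z : Subgroup G := (Subgroup.center ↥(P : Subgroup G)).map (P : Subgroup G).subtype with hZ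
  set E₀ : Subgroup G := E.map (P : Subgroup G).subtype with hE₀
  have hmemE : ∀ x ∈ (P : Subgroup G), x ^ p = 1 → x ∈ E₀ := by
    intro x hx hxp
    refine ⟨⟨x, hx⟩, (hE1 _).2 (Subtype.ext (by simpa using hxp)), rfl⟩
  have hZE : Z ≤ E₀ := Subgroup.map_mono (fun c hc => (hE1 c).2 (hcen c hc))
  have hEP : E₀ ≤ P := Subgroup.map_subtype_le E
  have hZcard' : Nat.card Z = p := by
    rw [hZ, Subgroup.card_map_of_injective (P : Subgroup G).subtype_injective, hZcard]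
  have hEcard' : Nat.card E₀ = p ^ 2 := by
    rw [hE₀, Subgroup.card_map_of_injective (P : Subgroup G).subtype_injective, hE2]
  have hEpow : ∀ x ∈ E₀, x ^ p = 1 := by
    rintro _ ⟨x, hx, rfl⟩
    have := (hE1 x).1 hx
    simpa using congrArg Subtype.val this
  have hEc' : ∀ x ∈ E₀, ∀ y ∈ E₀, x * y = y * x := by
    rintro _ ⟨x, hx, rfl⟩ _ ⟨y, hy, rfl⟩
    exact congrArg Subtype.val (hEc x hx y hy)
  have hmul' : ∀ x ∈ (P : Subgroup G), ∀ y ∈ (P : Subgroup G), (x * y) ^ p = x ^ p * y ^ p := by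
    intro x hx y hy
    exact congrArg Subtype.val (hmul ⟨x, hx⟩ ⟨y, hy⟩)
  have hZpow : ∀ x ∈ (P : Subgroup G), x ^ p ∈ Z := by
    intro x hx
    exact ⟨(⟨x, hx⟩ : ↥(P : Subgroup G)) ^ p, pow_mem_center hcard hZcard _, rfl⟩
  have hcu : ∀ e ∈ E₀, (u : G) * e * (u : G)⁻¹ * e⁻¹ ∈ Z := by
    rintro _ ⟨e, -, rfl⟩
    exact ⟨_, hcomm' u e, rfl⟩
  have hcu2 : ∀ e ∈ E₀, (u : G) * e * (u : G)⁻¹ = e → e ∈ Z := by
    rintro _ ⟨e, he, rfl⟩ h
    exact ⟨e, mem_center_of_comm hcard hE2 hEc huE he (Subtype.ext h), rfl⟩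
  have hZu : ∀ z ∈ Z, (u : G) * z * (u : G)⁻¹ = z := by
    rintro _ ⟨z, hz, rfl⟩
    have h1 := Subgroup.mem_center_iff.1 hz u
    have h2 : (u : G) * z = z * u := congrArg Subtype.val h1
    show (u : G) * z * (u : G)⁻¹ = z
    rw [h2]; group
  have hCP : ∀ x ∈ (P : Subgroup G), (∀ e ∈ E₀, x * e = e * x) → x ∈ E₀ := by
    intro x hx h
    by_contra hxE
    have hxE' : (⟨x, hx⟩ : ↥(P : Subgroup G)) ∉ E := fun h0 => hxE ⟨_, h0, rfl⟩
    have h1 : E ≤ Subgroup.center ↥(P : Subgroup G) := by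
      intro e he
      apply mem_center_of_comm hcard hE2 hEc hxE' he
      apply Subtype.ext
      show x * e * x⁻¹ = e
      rw [h e ⟨e, he, rfl⟩]; group
    have h2 := Subgroup.card_le_of_le h1
    rw [hE2, hZcard] at h2
    have h3 : 2 ≤ p := hpp.two_le
    nlinarith
  have hPN : (P : Subgroup G) ≤ NN E₀ := by
    intro x hx
    apply mem_NN_of_forall
    intro e he
    apply hmemE
    · exact (P : Subgroup G).mul_mem ((P : Subgroup G).mul_mem hx (hEP he)) ((P : Subgroup G).inv_mem hx)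
    · rw [conj_pow, hEpow e he]; simp
  have hmain := main_N hp P Z E₀ hZE hZcard' hEcard' hEpow hEc' hmul' hEP hZpow (u : G) u.2
    (by intro h; exact hup (Subtype.ext (by simpa using h))) hcu hcu2 hZu hCP hPN
  refine ⟨Subgroup.map_subtype_le _, ?_⟩
  intro z hz g hy
  set y := g * z * g⁻¹ with hydef
  have hzE := hZE hz
  have hyE : y ∈ E₀ := by
    apply hmemE y hy
    rw [hydef, conj_pow, hEpow z hzE]; simp
  -- `g P g⁻¹` and `E₀` lie in the centralizer of `y`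
  let Y : Subgroup G := Subgroup.centralizer ({y} : Set G)
  have hT : IsSyl p (cj g (P : Subgroup G)) ⊤ := by
    have := isSyl_cj (isSyl_of_sylow P) g
    rwa [show cj g (⊤ : Subgroup G) = ⊤ from Subgroup.map_top_of_surjective _ (MulAut.conj g).surjective] at this
  have hTY : cj g (P : Subgroup G) ≤ Y := by
    rintro _ ⟨a, ha, rfl⟩
    show _ ∈ Subgroup.centralizer ({y} : Set G)
    rw [Subgroup.mem_centralizer_singleton_iff]
    obtain ⟨z', hz', rfl⟩ := hz
    have h1 := Subgroup.mem_center_iff.1 hz' ⟨a, ha⟩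
    have h2 : a * (z' : G) = z' * a := congrArg Subtype.val h1
    show g * a * g⁻¹ * (g * z' * g⁻¹) = (g * z' * g⁻¹) * (g * a * g⁻¹)
    calc g * a * g⁻¹ * (g * z' * g⁻¹) = g * (a * z') * g⁻¹ := by group
      _ = g * (z' * a) * g⁻¹ := by rw [h2]
      _ = _ := by group
  have hTY2 : IsSyl p (cj g (P : Subgroup G)) Y := isSyl_of_le hT hTY le_top
  have hEY : E₀ ≤ Y := by
    intro e he
    show _ ∈ Subgroup.centralizer ({y} : Set G)
    rw [Subgroup.mem_centralizer_singleton_iff]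
    exact hEc' e he y hyE
  have hEp : IsPGroup p E₀ := IsPGroup.of_card hEcard'
  obtain ⟨k, hk, hke⟩ := hTY2.conj E₀ hEY hEp
  have hky : k * y = y * k := by
    have : k ∈ Subgroup.centralizer ({y} : Set G) := hk
    rwa [Subgroup.mem_centralizer_singleton_iff] at this
  set g' := k⁻¹ * g with hg'
  have hg'N : g'⁻¹ ∈ NN E₀ := by
    apply mem_NN_of_forall
    intro e he
    have h1 := mem_cj.1 (hke e he)
    have h2 : g'⁻¹ * e * g'⁻¹⁻¹ = g⁻¹ * (k * e * k⁻¹) * g := by rw [hg']; group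
    rw [h2]
    apply hmemE _ h1
    have h5 : ∀ a b : G, (a⁻¹ * b * a) ^ p = a⁻¹ * b ^ p * a := fun a b => by
      have := conj_pow (a := a⁻¹) (b := b) (i := p)
      simpa using this
    rw [h5, conj_pow, hEpow e he]; simp
  have hg'2 : g' ∈ NN E₀ := by simpa using (NN E₀).inv_mem hg'N
  have h3 := hmain g' hg'2 z hz
  have h4 : g' * z * g'⁻¹ = y := by
    calc g' * z * g'⁻¹ = k⁻¹ * y * k := by rw [hg', hydef]; group
      _ = y := by rw [mul_assoc, ← hky]; group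
  rwa [h4] at h3

/-- Let p be an odd prime and G a finite group with a Sylow p-subgroup P that is extraspecial of order p³ and exponent p². Then the centre of P is strongly closed in P with respect to G: a G-conjugate of an element of Z(P) that lies in P already lies in Z(P). In particular a nontrivial central element of P is conjugate in G to no noncentral element of P. -/
theorem result {G : Type*} [Group G] [Finite G]
    {p : ℕ} [Fact p.Prime] (hp : p ≠ 2) (P : Sylow p G) (hE : Cfsg.IsExtraspecial p ↥P)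
    (hcard : Nat.card P = p ^ 3) (hexp : Monoid.exponent ↥P = p ^ 2) :
    Cfsg.IsStronglyClosed ((Subgroup.center ↥P).map (P : Subgroup G).subtype) (P : Subgroup G) :=
  core hp P hE hcard hexp


end Cfsg.Agent.S3053
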