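-- Statement S3062
import Mathlib
import Cfsg.Agent.Lib.AbReplace
import Cfsg.Statements.S3062

set_option autoImplicit false
open Cfsg
open scoped commutatorElement

namespace Cfsg.Agent.S3062

open Cfsg.Agent.Lib.AbReplace Cfsg.Agent.Lib.DStarCore Cfsg.Agent.Lib.AlperinControl

/-- Let S be a finite p-group, J(S) the subgroup generated by the abelian subgroups of S of largest order and Z(J(S)) its centre. Then Z(S) ≤ D*(S) ≤ Z(J(S)), and every maximal normal abelian subgroup of S contains D*(S). -/
theorem result {S : Type*} [Group S] [Finite S] {p : ℕ} [Fact p.Prime]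
    (hS : IsPGroup p S) :
    Subgroup.center S ≤ Cfsg.dStar S ∧
    Cfsg.dStar S ≤ Cfsg.thompsonSubgroupA S ⊓ Subgroup.centralizer (Cfsg.thompsonSubgroupA S : Set S) ∧
    ∀ A : Subgroup S, A.Normal → IsMulCommutative A →
      (∀ B : Subgroup S, B.Normal → IsMulCommutative B → A ≤ B → B = A) → Cfsg.dStar S ≤ A := by
  classical
  have hT : IsPGroup p (⊤ : Subgroup S) := hS.to_subgroup ⊤
  set D : Subgroup S := Cfsg.dStar S with hD
  have hD' : D = dS ⊤ := dStar_eq S
  have hmem : dS (⊤ : Subgroup S) ∈ fam ⊤ := dS_mem hT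
  have hDc : ∀ a ∈ D, ∀ b ∈ D, a * b = b * a := by rw [hD']; exact hmem.2.1
  have hDcent : ∀ x, cond D x → ∀ a ∈ D, a * x = x * a := by
    rw [hD']; intro x hc; exact hmem.2.2 x trivial hc
  have hDnorm : D.Normal := by
    constructor
    intro n hn g
    rw [hD'] at hn ⊢
    exact conj_mem_of_mem_NN (dS_normal (Subgroup.mem_top g)) hn
  -- quadratic criterion
  have hquad : ∀ (A : Subgroup S), (∀ a ∈ A, ∀ b ∈ A, a * b = b * a) → D ≤ Subgroup.normalizer (A : Set S) →
      ∀ a ∈ A, ∀ d ∈ D, a * d = d * a := by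
    intro A hAc hAn a ha d hd
    have hc : cond D a := by
      apply cond_of_quadratic hDc (fun v hv => hDnorm.conj_mem v hv a)
      intro v hv
      apply hAc _ _ _ ha
      have e : ⁅v, a⁆ = (v * a * v⁻¹) * a⁻¹ := by rw [commutatorElement_def]
      rw [e]
      exact A.mul_mem (conj_mem_of_mem_NN (hAn hv) ha) (A.inv_mem ha)
    exact (hDcent a hc d hd).symm
  -- all members of `𝔸` contain `D`
  have hall : ∀ B ∈ Cfsg.maxAbelianSubgroups S, D ≤ B := by
    by_contra hcon
    push Not at hcon
    have hne : {B : Subgroup S | B ∈ Cfsg.maxAbelianSubgroups S ∧ ¬ D ≤ B}.Nonempty := hcon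
    obtain ⟨B, hB, hmax⟩ := Set.exists_max_image _ (fun B : Subgroup S => Nat.card ↥(B ⊓ D))
      (Set.toFinite _) hne
    have hnot : ¬ D ≤ Subgroup.normalizer (B : Set S) := by
      intro hn
      apply hB.2
      apply le_of_centralizes hB.1 hDc
      exact hquad B (forall_of_isMulCommutative hB.1.1) hn
    obtain ⟨b, -, T, -, hT1, hT2, hT3⟩ := replace_step hS D hDc hB.1 hnot
    have hT4 : ¬ D ≤ T := by
      intro h
      exact hT3.ne (le_antisymm inf_le_right (le_inf h le_rfl))
    have h1 := hmax T ⟨hT1, hT4⟩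
    exact absurd (Subgroup.eq_of_le_of_card_ge hT2.le h1) hT2.ne
  refine ⟨?_, ?_, ?_⟩
  · -- center
    apply le_sSup
    refine ⟨?_, ?_⟩
    · exact isMulCommutative_of_forall fun a ha b hb => (Subgroup.mem_center_iff.mp ha b).symm
    · intro x _ a ha
      exact (Subgroup.mem_center_iff.mp ha x).symm
  · obtain ⟨A₀, hA₀⟩ := exists_mem_max (S := S)
    refine le_inf ((hall A₀ hA₀).trans (le_sSup hA₀)) ?_
    intro d hd
    rw [Subgroup.mem_centralizer_iff]
    intro j hj
    have h1 : Cfsg.thompsonSubgroupA S ≤ Subgroup.centralizer ({d} : Set S) := by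
      apply sSup_le
      intro B hB x hx
      rw [Subgroup.mem_centralizer_singleton_iff]
      exact forall_of_isMulCommutative hB.1 x hx d (hall B hB hd)
    have h2 := h1 hj
    rw [Subgroup.mem_centralizer_singleton_iff] at h2
    exact h2
  · intro A hAn hAc hAmax
    have hA' := forall_of_isMulCommutative hAc
    have hcm := hquad A hA' (fun d _ => by
      rw [Subgroup.normalizer_eq_top_iff.mpr hAn]; exact Subgroup.mem_top d)
    have hsup := hAmax (A ⊔ D) (Subgroup.sup_normal A D)
      (isMulCommutative_of_forall (comm_sup A D hA' hDc hcm)) le_sup_left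
    rw [← hsup]
    exact le_sup_right

end Cfsg.Agent.S3062
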