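-- Statement S3063
import Mathlib
import Cfsg.Agent.Lib.AbReplace
import Cfsg.Agent.Lib.Replacement
import Cfsg.Agent.S3078
import Cfsg.Statements.S3063

set_option autoImplicit false
open Cfsg
open scoped commutatorElement

namespace Cfsg.Agent.S3063

open Cfsg.Agent.Lib.AbReplace

section Core

variable {S : Type*} [Group S] [Finite S]

/-- The core of the argument: with `S/E` abelian, `E` abelian and normalizing `A ∈ 𝔸`, the subgroup
`T = (A ∩ A^b) ⟨a b⁻¹ a⁻¹ b⟩` belongs to `𝔸`. -/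
theorem twist (E : Subgroup S) [E.Normal] (hEc : ∀ e ∈ E, ∀ f ∈ E, e * f = f * e)
    (hE : ∀ x y : S, x * y * x⁻¹ * y⁻¹ ∈ E) {A : Subgroup S} (hA : A ∈ Cfsg.maxAbelianSubgroups S)
    (hEA : E ≤ Subgroup.normalizer (A : Set S)) (b : S) :
    (A ⊓ A.map (MulAut.conj (b⁻¹)).toMonoidHom) ⊔ Subgroup.closure {g : S | ∃ a ∈ A, g = a * b⁻¹ * a⁻¹ * b} ∈
      Cfsg.maxAbelianSubgroups S := by
  classical
  set A' : Subgroup S := A.map (MulAut.conj (b⁻¹)).toMonoidHom with hA'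
  set K : Subgroup S := A ⊓ A' with hK
  set D : Subgroup S := Subgroup.closure {g : S | ∃ a ∈ A, g = a * b⁻¹ * a⁻¹ * b} with hD
  have hA'mem : ∀ x, x ∈ A' ↔ b * x * b⁻¹ ∈ A := by
    intro x
    constructor
    · rintro ⟨y, hy, rfl⟩
      have : b * ((MulAut.conj b⁻¹).toMonoidHom y) * b⁻¹ = y := by
        simp
        group
      rw [this]; exact hy
    · intro h
      refine ⟨b * x * b⁻¹, h, ?_⟩
      simp
      group
  have hcomA := forall_of_isMulCommutative hA.1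
  have hcomA' : ∀ x ∈ A', ∀ y ∈ A', x * y = y * x := by
    intro x hx y hy
    have h1 := hcomA _ ((hA'mem x).mp hx) _ ((hA'mem y).mp hy)
    have h2 : b * (x * y) * b⁻¹ = b * (y * x) * b⁻¹ := by
      calc b * (x * y) * b⁻¹ = b * x * b⁻¹ * (b * y * b⁻¹) := by group
        _ = b * y * b⁻¹ * (b * x * b⁻¹) := h1
        _ = b * (y * x) * b⁻¹ := by group
    simpa using h2
  have hprime : ∀ a ∈ A, b⁻¹ * a * b ∈ A' := by
    intro a ha
    rw [hA'mem]
    have : b * (b⁻¹ * a * b) * b⁻¹ = a := by group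
    rw [this]; exact ha
  have hEnA : ∀ e ∈ E, ∀ x ∈ A, e * x * e⁻¹ ∈ A := fun e he x hx =>
    (Subgroup.mem_normalizer_iff.mp (hEA he) x).mp hx
  have hEnA' : ∀ e ∈ E, ∀ x ∈ A', e * x * e⁻¹ ∈ A' := by
    intro e he x hx
    rw [hA'mem]
    have h1 : b * e * b⁻¹ ∈ E := (inferInstance : E.Normal).conj_mem e he b
    have h2 := hEnA _ h1 _ ((hA'mem x).mp hx)
    have h3 : b * e * b⁻¹ * (b * x * b⁻¹) * (b * e * b⁻¹)⁻¹ = b * (e * x * e⁻¹) * b⁻¹ := by group
    rwa [h3] at h2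
  -- `A` normalizes `A'`
  have hconjA' : ∀ a ∈ A, ∀ x ∈ A', a * x * a⁻¹ ∈ A' := by
    intro a ha x hx
    have he : b⁻¹ * a⁻¹ * b * a ∈ E := by
      have := hE b⁻¹ a⁻¹
      simpa using this
    have h1 := hEnA' _ he x hx
    have h2 := hprime a ha
    have h3 := A'.mul_mem (A'.mul_mem h2 h1) (A'.inv_mem h2)
    have h4 : b⁻¹ * a * b * ((b⁻¹ * a⁻¹ * b * a) * x * (b⁻¹ * a⁻¹ * b * a)⁻¹) * (b⁻¹ * a * b)⁻¹ = a * x * a⁻¹ := by
      group
    rwa [h4] at h3
  -- `A'` normalizes `A`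
  have hconjA : ∀ x ∈ A', ∀ a ∈ A, x * a * x⁻¹ ∈ A := by
    intro x hx a ha
    have hy := (hA'mem x).mp hx
    set y := b * x * b⁻¹ with hydef
    have hxy : x = b⁻¹ * y * b := by rw [hydef]; group
    have he : y⁻¹ * b⁻¹ * y * b ∈ E := by
      have := hE y⁻¹ b⁻¹
      simpa using this
    have h1 := hEnA _ he a ha
    have h3 := A.mul_mem (A.mul_mem hy h1) (A.inv_mem hy)
    have h4 : y * ((y⁻¹ * b⁻¹ * y * b) * a * (y⁻¹ * b⁻¹ * y * b)⁻¹) * y⁻¹ = x * a * x⁻¹ := by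
      rw [hxy]; group
    rwa [h4] at h3
  have hcommK : ∀ x ∈ A, ∀ y ∈ A', x * y * x⁻¹ * y⁻¹ ∈ K := by
    intro x hx y hy
    refine ⟨?_, ?_⟩
    · have h1 := hconjA y hy _ (A.inv_mem hx)
      have h2 : x * y * x⁻¹ * y⁻¹ = x * (y * x⁻¹ * y⁻¹) := by group
      rw [h2]
      exact A.mul_mem hx h1
    · have h1 := hconjA' x hx y hy
      exact A'.mul_mem h1 (A'.inv_mem hy)
  have hKA : ∀ k ∈ K, ∀ x ∈ A, k * x = x * k := fun k hk x hx => hcomA k hk.1 x hx
  have hKA' : ∀ k ∈ K, ∀ x ∈ A', k * x = x * k := fun k hk x hx => hcomA' k hk.2 x hx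
  let g : S → S := fun a => a * b⁻¹ * a⁻¹ * b
  have hgdef : ∀ a, g a = a * (b⁻¹ * a⁻¹ * b) := fun a => by simp only [g]; group
  have hgE : ∀ a, g a ∈ E := by
    intro a
    have := hE a b⁻¹
    simpa [g] using this
  have hKg : ∀ k ∈ K, ∀ a ∈ A, k * g a = g a * k := by
    intro k hk a ha
    rw [hgdef]
    have h1 := hKA k hk a ha
    have h2 := hKA' k hk _ (hprime _ (A.inv_mem ha))
    calc k * (a * (b⁻¹ * a⁻¹ * b)) = (k * a) * (b⁻¹ * a⁻¹ * b) := by group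
      _ = a * (k * (b⁻¹ * a⁻¹ * b)) := by rw [h1]; group
      _ = a * ((b⁻¹ * a⁻¹ * b) * k) := by rw [h2]
      _ = _ := by group
  have hgmul : ∀ a₁ ∈ A, ∀ a₂ ∈ A, (g (a₁ * a₂))⁻¹ * (g a₁ * g a₂) ∈ K := by
    intro a₁ ha₁ a₂ ha₂
    have hy₁ : b⁻¹ * a₁ * b ∈ A' := hprime _ ha₁
    have hy₂ : b⁻¹ * a₂ * b ∈ A' := hprime _ ha₂
    have hy₁' : (b⁻¹ * a₁ * b)⁻¹ ∈ A' := A'.inv_mem hy₁
    have hy₂' : (b⁻¹ * a₂ * b)⁻¹ ∈ A' := A'.inv_mem hy₂
    have hz := hcommK a₂⁻¹ (A.inv_mem ha₂) _ hy₁'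
    set y₁ := b⁻¹ * a₁ * b with hy₁def
    set y₂ := b⁻¹ * a₂ * b with hy₂def
    set z := a₂⁻¹ * y₁⁻¹ * a₂⁻¹⁻¹ * y₁⁻¹⁻¹ with hzdef
    have e1 : ∀ a, g a = a * (b⁻¹ * a * b)⁻¹ := fun a => by simp only [g]; group
    have e2 : b⁻¹ * (a₁ * a₂) * b = y₁ * y₂ := by rw [hy₁def, hy₂def]; group
    have h12 : y₁ * y₂ = y₂ * y₁ := hcomA' _ hy₁ _ hy₂
    have hcomm := hKA' z hz y₁⁻¹ hy₁'
    have hcomm2 := hKA' z hz y₂⁻¹ hy₂'
    have e3 : y₁⁻¹ * a₂ = a₂ * z * y₁⁻¹ := by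
      rw [hzdef]; group
    have key : g a₁ * g a₂ = g (a₁ * a₂) * z := by
      rw [e1, e1, e1, e2, ← hy₁def, ← hy₂def]
      calc a₁ * y₁⁻¹ * (a₂ * y₂⁻¹) = a₁ * (y₁⁻¹ * a₂) * y₂⁻¹ := by group
        _ = a₁ * (a₂ * z * y₁⁻¹) * y₂⁻¹ := by rw [e3]
        _ = a₁ * a₂ * (z * y₁⁻¹) * y₂⁻¹ := by group
        _ = a₁ * a₂ * (y₁⁻¹ * z) * y₂⁻¹ := by rw [hcomm]
        _ = a₁ * a₂ * y₁⁻¹ * (z * y₂⁻¹) := by group
        _ = a₁ * a₂ * y₁⁻¹ * (y₂⁻¹ * z) := by rw [hcomm2]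
        _ = a₁ * a₂ * (y₁ * y₂)⁻¹ * z := by
            have : (y₁ * y₂)⁻¹ = y₁⁻¹ * y₂⁻¹ := by
              rw [h12]; group
            rw [this]; group
    rw [key]
    simpa using hz
  have hDE : D ≤ E := by
    rw [hD, Subgroup.closure_le]
    rintro _ ⟨a, _, rfl⟩
    exact hgE a
  have hKc : ∀ k ∈ K, ∀ d ∈ D, k * d = d * k := by
    intro k hk d hd
    have h1 : D ≤ Subgroup.centralizer ({k} : Set S) := by
      rw [hD, Subgroup.closure_le]
      rintro _ ⟨a, ha, rfl⟩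
      show _ ∈ Subgroup.centralizer ({k} : Set S)
      rw [Subgroup.mem_centralizer_singleton_iff]
      exact (hKg k hk a ha).symm
    have h2 := h1 hd
    rw [Subgroup.mem_centralizer_singleton_iff] at h2
    exact h2.symm
  have hTc : ∀ x ∈ K ⊔ D, ∀ y ∈ K ⊔ D, x * y = y * x :=
    comm_sup K D (fun a ha c hc => hcomA a ha.1 c hc.1) (fun a ha c hc => hEc a (hDE ha) c (hDE hc)) hKc
  have hTab : IsMulCommutative ↥(K ⊔ D) := isMulCommutative_of_forall hTc
  refine ⟨hTab, fun C hC => (hA.2 C hC).trans ?_⟩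
  -- the order of `T`
  have hKT : K ≤ K ⊔ D := le_sup_left
  apply Cfsg.Agent.S3078.card_le_of_twisted A (K ⊔ D) K inf_le_left hKT
  · rw [Subgroup.normal_subgroupOf_iff_le_normalizer hKT]
    intro t ht
    rw [Subgroup.mem_normalizer_iff]
    intro k
    have hgen : ∀ k ∈ K, t * k * t⁻¹ = k := fun k hk => by
      rw [hTc t ht k (hKT hk)]; group
    constructor
    · intro hk; rw [hgen k hk]; exact hk
    · intro hk
      by_cases htk : k ∈ K
      · exact htk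
      · have : k = t⁻¹ * (t * k * t⁻¹) * t := by group
        rw [this]
        have h2 : t⁻¹ ∈ K ⊔ D := Subgroup.inv_mem _ ht
        have h3 := hTc t⁻¹ h2 _ (hKT hk)
        rw [h3]; simpa using hk
  · exact fun a ha => (le_sup_right : D ≤ K ⊔ D) (Subgroup.subset_closure ⟨a, ha, rfl⟩)
  · exact hgmul
  · intro a ha hk
    refine ⟨ha, ?_⟩
    have h1 : g a ∈ A' := hk.2
    rw [hgdef] at h1
    have h2 : b⁻¹ * a⁻¹ * b ∈ A' := hprime _ (A.inv_mem ha)
    have h3 := A'.mul_mem h1 (A'.inv_mem h2)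
    have e : a * (b⁻¹ * a⁻¹ * b) * (b⁻¹ * a⁻¹ * b)⁻¹ = a := by group
    rwa [e] at h3

/-- Second step: if moreover `T` does not meet `E` in more than `A` does, then `A = (A ∩ E)(A ∩ A^b)`. -/
theorem decomposition (E : Subgroup S) [E.Normal] (hEc : ∀ e ∈ E, ∀ f ∈ E, e * f = f * e)
    (hE : ∀ x y : S, x * y * x⁻¹ * y⁻¹ ∈ E) {A : Subgroup S} (hA : A ∈ Cfsg.maxAbelianSubgroups S)
    (hEA : E ≤ Subgroup.normalizer (A : Set S)) (b : S)
    (hmax : Nat.card ↥(((A ⊓ A.map (MulAut.conj (b⁻¹)).toMonoidHom) ⊔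
      Subgroup.closure {g : S | ∃ a ∈ A, g = a * b⁻¹ * a⁻¹ * b}) ⊓ E) ≤ Nat.card ↥(A ⊓ E)) :
    A ≤ (A ⊓ E) ⊔ (A ⊓ A.map (MulAut.conj (b⁻¹)).toMonoidHom) := by
  classical
  have hTmem := twist E hEc hE hA hEA b
  set K : Subgroup S := A ⊓ A.map (MulAut.conj (b⁻¹)).toMonoidHom with hK
  set D : Subgroup S := Subgroup.closure {g : S | ∃ a ∈ A, g = a * b⁻¹ * a⁻¹ * b} with hD
  set T := K ⊔ D with hT
  set C := A ⊓ E with hC
  set U := T ⊓ E with hU
  have hDE : D ≤ E := by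
    rw [hD, Subgroup.closure_le]
    rintro _ ⟨a, _, rfl⟩
    have := hE a b⁻¹
    simpa using this
  have hTKU : T = K ⊔ U :=
    le_antisymm (sup_le le_sup_left ((le_inf le_sup_right hDE).trans le_sup_right))
      (sup_le le_sup_left inf_le_left)
  have hKT : K ≤ T := le_sup_left
  have hTc := forall_of_isMulCommutative hTmem.1
  have hAc := forall_of_isMulCommutative hA.1
  have hKn : K ≤ Subgroup.normalizer (U : Set S) := by
    intro k hk
    apply Cfsg.Agent.S0650.mem_normalizer_of_forall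
    intro u hu
    have : k * u * k⁻¹ = u := by rw [hTc k (hKT hk) u hu.1]; group
    rw [this]; exact hu
  have hKCn : K ≤ Subgroup.normalizer (C : Set S) := by
    intro k hk
    apply Cfsg.Agent.S0650.mem_normalizer_of_forall
    intro u hu
    have : k * u * k⁻¹ = u := by rw [hAc k hk.1 u hu.1]; group
    rw [this]; exact hu
  have h1 := Cfsg.Agent.Lib.Replacement.card_sup_mul_card_inf K U hKn
  have h2 := Cfsg.Agent.Lib.Replacement.card_sup_mul_card_inf K C hKCn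
  have he1 : K ⊓ U = K ⊓ E := by
    apply le_antisymm
    · exact le_inf inf_le_left (inf_le_right.trans inf_le_right)
    · exact le_inf inf_le_left (le_inf (inf_le_left.trans hKT) inf_le_right)
  have he2 : K ⊓ C = K ⊓ E := by
    apply le_antisymm
    · exact le_inf inf_le_left (inf_le_right.trans inf_le_right)
    · exact le_inf inf_le_left (le_inf (inf_le_left.trans inf_le_left) inf_le_right)
  rw [← hTKU, he1] at h1
  rw [he2] at h2
  have hcardT : Nat.card T = Nat.card A := le_antisymm (hA.2 _ hTmem.1) (hTmem.2 _ hA.1)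
  rw [hcardT] at h1
  have hpos : 0 < Nat.card ↥(K ⊓ E) := Nat.card_pos
  have hle : Nat.card A ≤ Nat.card ↥(K ⊔ C) := by
    apply Nat.le_of_mul_le_mul_right _ hpos
    rw [h1, h2]
    exact Nat.mul_le_mul_left _ hmax
  have hsub : K ⊔ C ≤ A := sup_le inf_le_left inf_le_left
  have := Subgroup.eq_of_le_of_card_ge hsub hle
  rw [← this, sup_comm]

end Core

/-- A weak replacement Theorem for metabelian p-groups: let S be a finite p-group whose derived subgroup is abelian and A an abelian subgroup of S of largest possible order. Then the normal closure of A in S contains an abelian subgroup B of the same order as A that is normal in S. -/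
theorem result {S : Type*} [Group S] [Finite S] {p : ℕ} [Fact p.Prime]
    (hS : IsPGroup p S) (hmeta : IsMulCommutative ↥(commutator S))
    (A : Subgroup S) (hA : A ∈ Cfsg.maxAbelianSubgroups S) :
    ∃ B ∈ Cfsg.maxAbelianSubgroups S, B.Normal ∧ B ≤ Subgroup.normalClosure (A : Set S) := by
  classical
  set E : Subgroup S := commutator S with hEdef
  have hEc : ∀ e ∈ E, ∀ f ∈ E, e * f = f * e := forall_of_isMulCommutative hmeta
  have hE : ∀ x y : S, x * y * x⁻¹ * y⁻¹ ∈ E := by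
    intro x y
    rw [← commutatorElement_def]
    exact Subgroup.commutator_mem_commutator (Subgroup.mem_top x) (Subgroup.mem_top y)
  set N : Subgroup S := Subgroup.normalClosure (A : Set S) with hNdef
  have hNn : N.Normal := inferInstance
  have hAN : A ≤ N := Subgroup.le_normalClosure
  -- choose
  have hne : {B : Subgroup S | B ∈ Cfsg.maxAbelianSubgroups S ∧ B ≤ N}.Nonempty := ⟨A, hA, hAN⟩
  obtain ⟨B, hB, hmax⟩ := Set.exists_max_image _ (fun B : Subgroup S => Nat.card ↥(B ⊓ E))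
    (Set.toFinite _) hne
  have hTN : ∀ b : S, ((B ⊓ B.map (MulAut.conj (b⁻¹)).toMonoidHom) ⊔
      Subgroup.closure {g : S | ∃ a ∈ B, g = a * b⁻¹ * a⁻¹ * b}) ≤ N := by
    intro b
    apply sup_le (inf_le_left.trans hB.2)
    rw [Subgroup.closure_le]
    rintro _ ⟨a, ha, rfl⟩
    have h1 : b⁻¹ * a⁻¹ * b ∈ N := by
      have := hNn.conj_mem a⁻¹ (hB.2 (B.inv_mem ha)) b⁻¹
      simpa using this
    have h2 : a * b⁻¹ * a⁻¹ * b = a * (b⁻¹ * a⁻¹ * b) := by group
    show a * b⁻¹ * a⁻¹ * b ∈ N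
    rw [h2]
    exact N.mul_mem (hB.2 ha) h1
  -- `E` normalizes `B`
  have hEB : E ≤ Subgroup.normalizer (B : Set S) := by
    by_contra hnot
    obtain ⟨b, hb, T, hTdef, hT1, hT2, -⟩ := replace_step hS E hEc hB.1 hnot
    have hT3 : T ≤ N := by rw [hTdef]; exact hTN b
    have h1 := hmax T ⟨hT1, hT3⟩
    exact absurd (Subgroup.eq_of_le_of_card_ge hT2.le h1) hT2.ne
  have hdec : ∀ b : S, B ≤ (B ⊓ E) ⊔ (B ⊓ B.map (MulAut.conj (b⁻¹)).toMonoidHom) := fun b =>
    decomposition E hEc hE hB.1 hEB b (hmax _ ⟨twist E hEc hE hB.1 hEB b, hTN b⟩)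
  have hBc := forall_of_isMulCommutative hB.1.1
  -- conjugates of `C = B ⊓ E` lie in `B`
  have hCconj : ∀ (b : S), ∀ c ∈ B ⊓ E, b⁻¹ * c * b ∈ B ⊓ E := by
    intro b c hc
    have hconjE : ∀ c ∈ B ⊓ E, (MulAut.conj (b⁻¹)).toMonoidHom c ∈ E := fun c hc =>
      (inferInstance : E.Normal).conj_mem c hc.2 b⁻¹
    let W : Subgroup S := (B ⊓ E).map (MulAut.conj (b⁻¹)).toMonoidHom
    have hWc : ∀ x ∈ W, ∀ y ∈ W, x * y = y * x := by
      rintro _ ⟨x, hx, rfl⟩ _ ⟨y, hy, rfl⟩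
      rw [← map_mul, ← map_mul, hBc x hx.1 y hy.1]
    have hWB : W ≤ B := by
      apply le_of_centralizes hB.1 hWc
      intro a ha w hw
      have hcent : B ≤ Subgroup.centralizer ({w} : Set S) := by
        refine (hdec b).trans (sup_le ?_ ?_)
        · intro x hx
          obtain ⟨c', hc', rfl⟩ := hw
          show _ ∈ Subgroup.centralizer _
          rw [Subgroup.mem_centralizer_singleton_iff]
          exact hEc _ hx.2 _ (hconjE c' hc')
        · intro x hx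
          obtain ⟨c', hc', rfl⟩ := hw
          show _ ∈ Subgroup.centralizer _
          rw [Subgroup.mem_centralizer_singleton_iff]
          obtain ⟨y, hy, rfl⟩ := hx.2
          rw [← map_mul, ← map_mul, hBc y hy c' hc'.1]
      have h := hcent ha
      rw [Subgroup.mem_centralizer_singleton_iff] at h
      exact h
    have e : b⁻¹ * c * b = (MulAut.conj (b⁻¹)).toMonoidHom c := by simp
    rw [e]
    exact ⟨hWB ⟨c, hc, rfl⟩, hconjE c hc⟩
  -- `B` lies in its conjugates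
  have hBle : ∀ b : S, B ≤ B.map (MulAut.conj (b⁻¹)).toMonoidHom := by
    intro b
    refine (hdec b).trans (sup_le ?_ inf_le_right)
    intro c hc
    have h1 := hCconj b⁻¹ c hc
    refine ⟨b⁻¹⁻¹ * c * b⁻¹, h1.1, ?_⟩
    simp
    group
  refine ⟨B, hB.1, ?_, hB.2⟩
  constructor
  intro n hn g
  have h1 := hBle g hn
  obtain ⟨y, hy, hye⟩ := h1
  have h2 : y = g * n * g⁻¹ := by
    have hye' : g⁻¹ * y * g⁻¹⁻¹ = n := hye
    rw [← hye']; group
  rw [← h2]
  exact hy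

end Cfsg.Agent.S3063
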