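import Mathlib
-- Template for statement S3067 (row 3067; see /opt/grader/pristine/manifest.json for weights).
-- Copy to Cfsg/Agent/S3067.lean and replace the sorry. The statement below is byte-identical to the frozen
-- statement Cfsg.CfsgFrozen.S3067 (Cfsg/Statements/S3067.lean; the theorem Cfsg.loc3_coprime_automorphism_moves_involution_centralizer);
-- the grader kernel-checks Cfsg.Agent.S3067.result against that frozen type. Keep the theorem IN THIS FILE
-- (a `result` declared elsewhere and merely imported here is not credited); helpers may live anywhere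
-- under Cfsg/Agent/.
import Cfsg.Statements.S3067
import Cfsg.Agent.Lib.InvolFixAut
import Cfsg.Agent.S0215
-- import your own Cfsg.Agent.* helpers here

set_option autoImplicit false
open Cfsg

namespace Cfsg.Agent.S3067

/-- Let G be a finite non-abelian simple group, τ an involution of G, and α a nontrivial automorphism of G whose order is coprime to the order of G. Then α moves some element of the centralizer of τ: α does not fix C_G(τ) elementwise. -/
theorem result {G : Type*} [Group G] [Finite G] [IsSimpleGroup G]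
    (hG : ¬ IsMulCommutative G) (τ : G) (hτ : orderOf τ = 2) (α : MulAut G) (hα : α ≠ 1)
    (hcop : (orderOf α).Coprime (Nat.card G)) :
    ∃ c ∈ Subgroup.centralizer ({τ} : Set G), α c ≠ c := by
  classical
  by_contra hcon
  push Not at hcon
  haveI : Finite (MulAut G) := Finite.of_injective (fun f : MulAut G => (f : G → G))
    (fun f g e => MulEquiv.ext (congrFun e))
  have hcenter : Subgroup.center G = ⊥ := by
    rcases IsSimpleGroup.eq_bot_or_eq_top_of_normal (Subgroup.center G) inferInstance with h | h
    · exact h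
    · exfalso
      apply hG
      refine ⟨⟨fun a b => ?_⟩⟩
      have ha : a ∈ Subgroup.center G := by rw [h]; trivial
      exact (Subgroup.mem_center_iff.mp ha b).symm
  let ι : G →* MulAut G := MulAut.conj
  have hι : Function.Injective ι := by
    rw [injective_iff_map_eq_one]
    intro g hg
    have hgc : g ∈ Subgroup.center G := by
      rw [Subgroup.mem_center_iff]
      intro x
      have := congrArg (fun f : MulAut G => f x) hg
      have h2 : g * x * g⁻¹ = x := this
      calc x * g = (g * x * g⁻¹) * g := by rw [h2]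
        _ = g * x := by group
    rw [hcenter] at hgc
    exact hgc
  set N : Subgroup (MulAut G) := ι.range with hN
  have hNnorm : N.Normal := by
    refine ⟨?_⟩
    rintro _ ⟨g, rfl⟩ φ
    refine ⟨φ g, ?_⟩
    ext x
    show φ g * x * (φ g)⁻¹ = φ (g * φ⁻¹ x * g⁻¹)
    simp
  have hcardN : Nat.card N = Nat.card G :=
    (Nat.card_congr (MonoidHom.ofInjective hι).toEquiv).symm
  have hconj : ∀ g : G, α * ι g * α⁻¹ = ι (α g) := by
    intro g
    ext x
    show α (g * α⁻¹ x * g⁻¹) = α g * x * (α g)⁻¹
    simp
  have hfixι : ∀ g : G, ι g * α = α * ι g → α g = g := by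
    intro g hg
    apply hι
    rw [← hconj, ← hg]
    group
  have hτ2 : τ * τ = 1 := by
    have := pow_orderOf_eq_one τ
    rw [hτ, pow_two] at this
    exact this
  have hτ1 : τ ≠ 1 := by
    intro e
    rw [e, orderOf_one] at hτ
    omega
  have H : Cfsg.Agent.Lib.InvolFixAut.Hyp N α (ι τ) :=
    { norm := hNnorm
      cop := by rw [hcardN]; exact hcop
      tN := ⟨τ, rfl⟩
      t2 := by rw [← map_mul, hτ2, map_one]
      t1 := fun e => hτ1 (hι (by rw [e, map_one]))
      fix := by
        rintro _ ⟨g, rfl⟩ hc
        have h1 : g * τ = τ * g := by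
          apply hι
          rw [map_mul, map_mul]
          exact hc
        have h2 : g ∈ Subgroup.centralizer ({τ} : Set G) := by
          rw [Subgroup.mem_centralizer_singleton_iff]
          exact h1
        have h3 := hcon g h2
        have h4 := hconj g
        rw [h3] at h4
        calc ι g * α = (α * ι g * α⁻¹) * α := by rw [h4]
          _ = α * ι g := by group }
  set Y := Cfsg.Agent.Lib.InvolFixAut.Ypr N (ι τ) α with hY
  let S : Set G := {g | ι g ∈ Y}
  have hSfix : ∀ g ∈ S, α g = g := fun g hg => hfixι g (H.Ypr_comm hg)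
  have hSconj : ∀ g ∈ S, ∀ c : G, c * g * c⁻¹ ∈ S := by
    intro g hg c
    have := H.Ypr_conj_mem (⟨c, rfl⟩ : ι c ∈ N) hg
    show ι (c * g * c⁻¹) ∈ Y
    rw [map_mul, map_mul, map_inv]
    exact this
  let F : Subgroup G :=
    { carrier := {g | α g = g}
      mul_mem' := by
        intro a b ha hb
        show α (a * b) = a * b
        rw [map_mul, show α a = a from ha, show α b = b from hb]
      one_mem' := map_one α
      inv_mem' := by
        intro a ha
        show α a⁻¹ = a⁻¹
        rw [map_inv, show α a = a from ha] }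
  have hQF : Subgroup.normalClosure S ≤ F := by
    rw [Subgroup.normalClosure, Subgroup.closure_le]
    intro x hx
    obtain ⟨a₀, ha₀, hc⟩ := Group.mem_conjugatesOfSet_iff.mp hx
    obtain ⟨c, rfl⟩ := isConj_iff.mp hc
    exact hSfix _ (hSconj a₀ ha₀ c)
  have hQbot : Subgroup.normalClosure S = ⊥ := by
    rcases IsSimpleGroup.eq_bot_or_eq_top_of_normal (Subgroup.normalClosure S) inferInstance with h | h
    · exact h
    · exfalso
      apply hα
      ext x
      have : x ∈ F := hQF (by rw [h]; trivial)
      exact this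
  have hS1 : ∀ g ∈ S, g = 1 := by
    intro g hg
    have : g ∈ Subgroup.normalClosure S := Subgroup.subset_normalClosure hg
    rw [hQbot] at this
    exact this
  have huniq : ∀ g : G, ι g ∈ Cfsg.Agent.Lib.InvolFixAut.Iv N (ι τ) → ι g * α = α * ι g → g = τ := by
    intro g hg hgc
    have h1 : g * τ ∈ S := by
      show ι (g * τ) ∈ Y
      rw [map_mul]
      exact ⟨ι g, hg, ι τ, Cfsg.Agent.Lib.InvolFixAut.t_mem_Iv, hgc, H.t_comm_a, rfl⟩
    have h2 := hS1 _ h1
    calc g = g * (τ * τ) := by rw [hτ2, mul_one]
      _ = (g * τ) * τ := by group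
      _ = τ := by rw [h2, one_mul]
  haveI : Fact (Nat.Prime 2) := ⟨Nat.prime_two⟩
  have hZ2 : IsPGroup 2 (Subgroup.zpowers τ) := by
    rw [IsPGroup.iff_card, Nat.card_zpowers, hτ]
    exact ⟨1, by norm_num⟩
  obtain ⟨P, hP⟩ := hZ2.exists_le_sylow
  have hτP : τ ∈ P := hP (Subgroup.mem_zpowers τ)
  have hP₀N : (P : Subgroup G).map ι ≤ N := by
    rintro _ ⟨g, _, rfl⟩
    exact ⟨g, rfl⟩
  have hP₀2 : IsPGroup 2 ((P : Subgroup G).map ι) := P.2.map ι
  have hP₀fix := H.sylow_fix hP₀N hP₀2 ⟨τ, hτP, rfl⟩
  have hiso : ∀ g : G, g * τ * g⁻¹ ∈ P → g * τ * g⁻¹ = τ := by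
    intro g hg
    apply huniq
    · refine ⟨ι g, ⟨g, rfl⟩, ?_⟩
      rw [map_mul, map_mul, map_inv]
    · exact hP₀fix _ ⟨_, hg, rfl⟩
  obtain ⟨N₁, hN₁, hodd, hcomm⟩ := Cfsg.Agent.S0215.result P τ hτ hτP hiso
  rcases IsSimpleGroup.eq_bot_or_eq_top_of_normal N₁ hN₁ with h | h
  · have hτc : τ ∈ Subgroup.center G := by
      rw [Subgroup.mem_center_iff]
      intro g
      have h1 := hcomm g
      rw [h, Subgroup.mem_bot] at h1
      have h2 : τ * g * τ⁻¹ = g := by
        have := mul_eq_one_iff_eq_inv.mp h1
        rw [this, inv_inv]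
      calc g * τ = (τ * g * τ⁻¹) * τ := by rw [h2]
        _ = τ * g := by group
    rw [hcenter] at hτc
    exact hτ1 hτc
  · rw [h, Subgroup.card_top] at hodd
    have h2 : 2 ∣ Nat.card G := by
      have := orderOf_dvd_natCard τ
      rwa [hτ] at this
    rw [← Nat.not_even_iff_odd] at hodd
    exact hodd (even_iff_two_dvd.mpr h2)

end Cfsg.Agent.S3067
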