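import Mathlib
import Cfsg.Statements.S3068
import Cfsg.Agent.Lib.J7d
import Cfsg.Agent.Lib.WYTate
import Cfsg.Agent.Lib.PResid

set_option autoImplicit false
open Cfsg

universe u

namespace Cfsg.Agent.S3068

open Cfsg.Agent.Lib.J7a Cfsg.Agent.Lib.TransferRed Cfsg.Agent.Lib.SecFunctor

section Ext

variable {G : Type u} [Group G] [Finite G] {p : ℕ} [hp : Fact p.Prime]

/-- A homomorphism of `H ≥ S` into `C_p` extends, if `H` controls the focal subgroup. -/
theorem extends_of_focal (S H : Subgroup G) (hSH : S ≤ H) (hSi : ¬ p ∣ S.index)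
    (hc : S ⊓ commutator G ≤ ⁅H, H⁆) (δ : H →* Multiplicative (ZMod p)) :
    ∃ F : G →* Multiplicative (ZMod p), ∀ h : H, F h = δ h := by
  classical
  have hpp := hp.out
  have hexp : ∀ a : Multiplicative (ZMod p), a ^ p = 1 := by
    intro a
    have h1 : Nat.card (Multiplicative (ZMod p)) = p := by
      simp [Nat.card_eq_fintype_card]
    have := pow_card_eq_one' (x := a)
    rwa [h1] at this
  have hker : ∀ t : H, (t : G) ∈ ⁅H, H⁆ → δ t = 1 := by
    intro t ht
    have h1 : ⁅H, H⁆ = (commutator H).map H.subtype := by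
      have e : (⊤ : Subgroup H).map H.subtype = H := by
        rw [← MonoidHom.range_eq_map]
        exact H.range_subtype
      rw [commutator_def, Subgroup.map_commutator, e]
    rw [h1] at ht
    obtain ⟨t', ht', he⟩ := ht
    have h2 : t' = t := Subtype.ext he
    rw [← h2]
    have h3 : commutator H ≤ δ.ker := by
      rw [commutator_def, Subgroup.commutator_le]
      intro a _ b _
      rw [MonoidHom.mem_ker, map_commutatorElement, commutatorElement_eq_one_iff_mul_comm]
      exact mul_comm _ _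
    exact h3 ht'
  let ι : G →* Abelianization G := Abelianization.of
  have hι : ∀ x y : G, ι x = ι y → x * y⁻¹ ∈ commutator G := by
    intro x y hxy
    have h1 : ι (x * y⁻¹) = 1 := by
      rw [map_mul, map_inv, hxy, mul_inv_cancel]
    exact (QuotientGroup.eq_one_iff _).mp h1
  have hsurj : Function.Surjective ι := QuotientGroup.mk'_surjective _
  let S' : Subgroup (Abelianization G) := S.map ι
  let i := S'.index
  have hi : ¬ p ∣ i := by
    intro hd
    apply hSi
    exact hd.trans (Subgroup.index_map_dvd S hsurj)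
  have hpow : ∀ g : G, ∃ s ∈ S, ι s = ι g ^ i := by
    intro g
    have := Subgroup.pow_index_mem S' (ι g)
    obtain ⟨s, hs, he⟩ := this
    exact ⟨s, hs, he⟩
  choose s hsS hsι using hpow
  have hkey : ∀ (x y : G) (hx : x ∈ S) (hy : y ∈ S), ι x = ι y → δ ⟨x, hSH hx⟩ = δ ⟨y, hSH hy⟩ := by
    intro x y hx hy hxy
    have h1 : x * y⁻¹ ∈ S ⊓ commutator G := ⟨S.mul_mem hx (S.inv_mem hy), hι x y hxy⟩
    have h2 := hker ⟨x * y⁻¹, H.mul_mem (hSH hx) (H.inv_mem (hSH hy))⟩ (hc h1)
    have h3 : (⟨x * y⁻¹, H.mul_mem (hSH hx) (H.inv_mem (hSH hy))⟩ : H) =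
        ⟨x, hSH hx⟩ * (⟨y, hSH hy⟩ : H)⁻¹ := rfl
    rw [h3, map_mul, map_inv] at h2
    exact mul_inv_eq_one.mp h2
  let F₀ : G →* Multiplicative (ZMod p) := MonoidHom.mk' (fun g => δ ⟨s g, hSH (hsS g)⟩) (by
    intro a b
    have h1 : ι (s (a * b)) = ι (s a * s b) := by
      rw [hsι, map_mul, map_mul, hsι, hsι, mul_pow]
    have h2 := hkey _ _ (hsS (a * b)) (S.mul_mem (hsS a) (hsS b)) h1
    rw [h2]
    rw [← map_mul]
    rfl)
  have hF₀ : ∀ (x : G) (hx : x ∈ S), F₀ x = δ ⟨x, hSH hx⟩ ^ i := by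
    intro x hx
    have h1 : ι (s x) = ι (x ^ i) := by
      rw [hsι, map_pow]
    have h2 := hkey _ _ (hsS x) (S.pow_mem hx i) h1
    have h3 : F₀ x = δ ⟨s x, hSH (hsS x)⟩ := rfl
    rw [h3, h2, ← map_pow]
    rfl
  have hcop : Nat.Coprime i p := ((Nat.Prime.coprime_iff_not_dvd hpp).mpr hi).symm
  obtain ⟨j, -, hj⟩ := Nat.exists_mul_mod_eq_one_of_coprime hcop hpp.one_lt
  let F : G →* Multiplicative (ZMod p) := F₀ ^ j
  refine ⟨F, ?_⟩
  have hFS : ∀ (x : G) (hx : x ∈ S), F x = δ ⟨x, hSH hx⟩ := by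
    intro x hx
    show (F₀ ^ j) x = _
    rw [MonoidHom.pow_apply, hF₀ x hx, ← pow_mul, pow_eq_pow_mod (i * j) (hexp _), hj, pow_one]
  let ε : H →* Multiplicative (ZMod p) := (F.comp H.subtype) / δ
  have hεS : S.subgroupOf H ≤ ε.ker := by
    intro t ht
    rw [MonoidHom.mem_ker]
    have h2 := hFS t ht
    change F t / δ t = 1
    rw [h2, div_self']
  have hidx : ¬ p ∣ ε.ker.index := by
    intro hd
    apply hSi
    have h2 : ε.ker.index ∣ (S.subgroupOf H).index := Subgroup.index_dvd_of_le hεS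
    have h3 : S.relIndex H * H.index = S.index := Subgroup.relIndex_mul_index hSH
    exact (hd.trans h2).trans ⟨_, h3.symm⟩
  intro t
  have h4 : ε t ^ ε.ker.index = 1 := by
    rw [← map_pow]
    exact Subgroup.pow_index_mem ε.ker t
  have h5 : ε t = 1 := by
    have h6 : Nat.Coprime ε.ker.index p := ((Nat.Prime.coprime_iff_not_dvd hpp).mpr hidx).symm
    have h7 := orderOf_dvd_of_pow_eq_one h4
    have h8 := orderOf_dvd_of_pow_eq_one (hexp (ε t))
    exact orderOf_eq_one_iff.mp (Nat.eq_one_of_dvd_coprimes h6 h7 h8)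
  exact div_eq_one.mp h5

/-- The largest `p`-factor groups agree. -/
theorem iso_of_focal (S : Sylow p G) (H : Subgroup G) (hSH : (S : Subgroup G) ≤ H)
    (hc : (S : Subgroup G) ⊓ commutator G ≤ ⁅H, H⁆)
    [hn : (Cfsg.pResidual p G).Normal] [hm : (Cfsg.pResidual p H).Normal] :
    Nonempty (G ⧸ Cfsg.pResidual p G ≃* H ⧸ Cfsg.pResidual p H) := by
  classical
  have hHi : ¬ p ∣ H.index := fun hd => S.not_dvd_index (hd.trans (Subgroup.index_dvd_of_le hSH))
  have hQ : IsPGroup p (H ⧸ Cfsg.pResidual p H) := Cfsg.Agent.Lib.PResid.isPGroup_quotient_pResidual p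
  obtain ⟨φ, hφ⟩ := Cfsg.Agent.Lib.WYTate.tate_control H hHi
    (extends_of_focal (S : Subgroup G) H hSH S.not_dvd_index hc) _ (H ⧸ Cfsg.pResidual p H) rfl hQ
    (QuotientGroup.mk' _)
  have h1 : Cfsg.pResidual p G ≤ φ.ker := by
    unfold Cfsg.pResidual
    rw [Subgroup.closure_le]
    intro g hg
    change φ g = 1
    obtain ⟨n, hn'⟩ := hQ (φ g)
    exact Cfsg.Agent.Lib.PResid.eq_one_of_pow_eq_one_of_coprime hn' (k := orderOf g)
      (by rw [← map_pow, pow_orderOf_eq_one, map_one]) hg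
  have h2 : Cfsg.pResidual p H ≤ ((QuotientGroup.mk' (Cfsg.pResidual p G)).comp H.subtype).ker := by
    intro x hx
    rw [MonoidHom.mem_ker]
    have h3 : (x : G) ∈ Cfsg.pResidual p G :=
      Cfsg.Agent.Lib.PResid.map_pResidual_le p H ⟨x, hx, rfl⟩
    exact (QuotientGroup.eq_one_iff _).mpr h3
  let a : G ⧸ Cfsg.pResidual p G →* H ⧸ Cfsg.pResidual p H := QuotientGroup.lift _ φ h1
  let b : H ⧸ Cfsg.pResidual p H →* G ⧸ Cfsg.pResidual p G := QuotientGroup.lift _ _ h2
  have hab : a.comp b = MonoidHom.id _ := by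
    ext x
    show φ (x : G) = QuotientGroup.mk x
    exact hφ x
  have hba : b.comp a = MonoidHom.id _ := by
    ext x
    obtain ⟨t, ht, r, hr, rfl⟩ := Cfsg.Agent.Lib.PResid.exists_sylow_mul_pResidual S x
    have e1 : (QuotientGroup.mk' (Cfsg.pResidual p G)) r = 1 := (QuotientGroup.eq_one_iff _).mpr hr
    have e2 : φ r = 1 := h1 hr
    show b (φ (t * r)) = QuotientGroup.mk' _ (t * r)
    rw [map_mul φ, map_mul b, map_mul (QuotientGroup.mk' _), e1, e2, map_one, mul_one, mul_one]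
    have e3 := hφ ⟨t, hSH ht⟩
    have e4 : φ t = QuotientGroup.mk ⟨t, hSH ht⟩ := e3
    rw [e4]
    rfl
  exact ⟨MonoidHom.toMulEquiv a b hba hab⟩

end Ext

/-- Let p ≥ 7 be a prime, S a Sylow p-subgroup of the finite group G, J(S) the subgroup generated by the abelian subgroups of S of largest order and M = N_G(J(S)). Then G/O^p(G) ≅ M/O^p(M): the largest p-factor group of G is that of M (here O^p(X) is the subgroup generated by the elements of X of order prime to p). -/
theorem result {G : Type*} [Group G] [Finite G] {p : ℕ} [Fact p.Prime]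
    (hp : 7 ≤ p) (S : Sylow p G)
    [hn : (Cfsg.pResidual p G).Normal]
    [hm : (Cfsg.pResidual p ↥(Subgroup.normalizer (Cfsg.thompsonSubgroupAOf (S : Subgroup G) : Set G))).Normal] :
    Nonempty (G ⧸ Cfsg.pResidual p G ≃*
      ↥(Subgroup.normalizer (Cfsg.thompsonSubgroupAOf (S : Subgroup G) : Set G)) ⧸
        Cfsg.pResidual p ↥(Subgroup.normalizer (Cfsg.thompsonSubgroupAOf (S : Subgroup G) : Set G))) := by
  have hSN : (S : Subgroup G) ≤ Subgroup.normalizer (Cfsg.thompsonSubgroupAOf (S : Subgroup G) : Set G) :=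
    Subgroup.le_normalizer.trans
      (normalizer_le_induced (Cfsg.Agent.Lib.NPCThompson.isCharPFunctor_thompsonA (p := p)) (S : Subgroup G) S.isPGroup')
  have h1 := ft_thompson hp G S
  rw [TT_singleton] at h1
  exact iso_of_focal S _ hSN (h1.trans inf_le_right)

end Cfsg.Agent.S3068
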