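-- Statement S3071
import Mathlib
import Cfsg.Agent.Lib.ControlSec
import Cfsg.Agent.Lib.QuadP
import Cfsg.Statements.S3071

set_option autoImplicit false
open Cfsg

namespace Cfsg.Agent.S3071

open Cfsg.Agent.Lib.ControlSec Cfsg.Agent.Lib.AlperinControl Cfsg.Agent.Lib.ZJControl Cfsg.Agent.Lib.QuadP
open Cfsg.Agent.Lib.InvolvesAPI Cfsg.Agent.Lib.ZJCore3

universe u

set_option linter.unusedSectionVars false

section Helpers

variable {p : ℕ} [hp : Fact p.Prime]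

/-- Groups without `SL₂(p)`-sections. -/
theorem slClass (hp2 : p ≠ 2) : SecClass.{u} p (fun (X : Type u) [Group X] => ¬ Involves (SLp p) X) where
  sub := fun h K hi => h (Involves.trans hi (involves_of_subgroup K))
  quot := fun h N _ hi => h (Involves.trans hi (involves_of_quot N))
  st := by
    intro X _ _ h P hP g hg hq
    rcases normalizer_or_involves hp2 P hP g hg hq with h1 | h1
    · exact h1
    · exact absurd (Involves.trans h1 (involves_of_subgroup _)) h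

variable {G : Type u} [Group G] [Finite G]

theorem WW_cj (g : G) (T : Subgroup G) : WW 0 (cj g T) = cj g (WW 0 T) :=
  (map_WW 0 (MulAut.conj g).toMonoidHom (fun _ _ _ _ h => (MulAut.conj g).injective h)).symm

theorem mem_NN_WW {T : Subgroup G} {g : G} (hg : g ∈ NN T) : g ∈ NN (WW 0 T) := by
  apply mem_NN_of_forall
  intro x hx
  have h1 := WW_cj g T
  rw [cj_eq_of_mem_NN hg] at h1
  rw [h1]
  exact conj_mem_cj hx

/-- Control inside a subgroup without `SL₂(p)`-sections. -/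
theorem control_in (hp2 : p ≠ 2) {Y T : Subgroup G} (hY : ¬ Involves (SLp p) ↥Y) (hT : IsSyl p T Y) {Q : Subgroup G}
    (hQ : Q ≤ T) {h : G} (hh : h ∈ Y) (hhQ : cj h Q ≤ T) : Agrees (Y ⊓ NN (WW 0 T)) Q h := by
  obtain ⟨S', hS'⟩ := hT.sylow_exists
  have hTY := hT.le
  have hD : IsStronglyClosed (S' : Subgroup ↥Y) (S' : Subgroup ↥Y) := ⟨le_rfl, fun x hx g hg => hg⟩
  set A : Set ↥Y := (Q.subgroupOf Y : Set ↥Y) with hAdef
  have hA : A ⊆ (S' : Subgroup ↥Y) := by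
    intro a ha
    rw [hS']
    exact hQ ha
  have hc := control_sec (slClass hp2) hp2 0 hY S' _ hD A hA
  obtain ⟨x, hx, hxa⟩ := hc.2 ⟨h, hh⟩ (by
    rintro _ ⟨a, ha, rfl⟩
    have h1 : h * (a : G) * h⁻¹ ∈ T := hhQ (conj_mem_cj ha)
    show _ ∈ ((S' : Subgroup ↥Y) : Set ↥Y)
    rw [hS']
    exact h1)
  refine ⟨x, ⟨x.2, ?_⟩, ?_⟩
  · have hmap : (WW 0 (S' : Subgroup ↥Y)).map Y.subtype = WW 0 T := by
      rw [map_WW 0 Y.subtype (fun _ _ _ _ h => Subtype.ext h), hS']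
      congr 1
      ext t
      constructor
      · rintro ⟨t₀, ht₀, rfl⟩
        exact ht₀
      · intro ht
        exact ⟨⟨t, hTY ht⟩, ht, rfl⟩
    apply mem_NN_of_forall
    intro w hw
    rw [← hmap] at hw ⊢
    obtain ⟨w₀, hw₀, rfl⟩ := hw
    exact ⟨x * w₀ * x⁻¹, conj_mem_of_mem_NN hx hw₀, rfl⟩
  · intro a ha
    have haY := hTY (hQ ha)
    have h1 := hxa ⟨a, haY⟩ ha
    exact (congrArg Subtype.val h1).symm

/-- The centre of `T` lies in `Z(J(T))`. -/
theorem center_le_WW {T : Subgroup G} {z : G} (hz : z ∈ T) (hc : ∀ t ∈ T, t * z = z * t) : z ∈ WW 0 T := by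
  apply Subgroup.mem_sInf.mpr
  intro A hA
  obtain ⟨hAT, hAc, hAm⟩ := hA
  have hcomm := clsE_comm hAc
  set Z := Subgroup.zpowers z with hZ
  have hZT : Z ≤ T := (Subgroup.zpowers_le).mpr hz
  have hAZ : ∀ a ∈ A, ∀ w ∈ Z, a * w = w * a := by
    intro a ha w hw
    obtain ⟨i, rfl⟩ := Subgroup.mem_zpowers_iff.mp hw
    exact (Commute.zpow_right (show Commute a z from hc a (hAT ha)) i).eq
  have hZZ : ∀ v ∈ Z, ∀ w ∈ Z, v * w = w * v := by
    intro v hv w hw
    obtain ⟨i, rfl⟩ := Subgroup.mem_zpowers_iff.mp hv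
    obtain ⟨j, rfl⟩ := Subgroup.mem_zpowers_iff.mp hw
    exact (Commute.zpow_zpow (Commute.refl z) i j).eq
  have hAN : A ≤ NN Z := by
    intro a ha
    apply mem_NN_of_forall
    intro w hw
    rw [hAZ a ha w hw]
    simpa using hw
  have hsup : clsE 0 (A ⊔ Z) := by
    refine ⟨⟨⟨?_⟩⟩, fun a _ => pow_zero a⟩
    rintro ⟨x, hx⟩ ⟨y, hy⟩
    apply Subtype.ext
    show x * y = y * x
    obtain ⟨a, ha, v, hv, rfl⟩ := mem_sup_of_le_NN hAN hx
    obtain ⟨b, hb, w, hw, rfl⟩ := mem_sup_of_le_NN hAN hy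
    calc a * v * (b * w) = a * (v * b) * w := by group
      _ = a * (b * v) * w := by rw [← hAZ b hb v hv]
      _ = (a * b) * (v * w) := by group
      _ = (b * a) * (w * v) := by rw [hcomm a ha b hb, hZZ v hv w hw]
      _ = b * (a * w) * v := by group
      _ = b * (w * a) * v := by rw [hAZ a ha w hw]
      _ = b * w * (a * v) := by group
  have h1 := hAm (A ⊔ Z) (sup_le hAT hZT) hsup
  have h2 : A = A ⊔ Z := Subgroup.eq_of_le_of_card_ge le_sup_left h1
  rw [h2]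
  exact (le_sup_right : Z ≤ A ⊔ Z) (Subgroup.mem_zpowers z)

/-- Absence of `SL₂(p)` sections passes to conjugates. -/
theorem free_cj {P : Subgroup G} (h : ¬ Involves (SLp p) ↥(NN P)) (k : G) : ¬ Involves (SLp p) ↥(NN (cj k P)) := by
  intro hi
  apply h
  rw [← cj_NN] at hi
  refine Involves.trans hi ?_
  exact involves_of_injective ((NN P).equivMapOfInjective _ (MulAut.conj k).injective).symm.toMonoidHom
    ((NN P).equivMapOfInjective _ (MulAut.conj k).injective).symm.injective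

/-- The hypothesis of the statement in terms of `Involves`. -/
theorem free_of_hfree {N : Subgroup G}
    (h : ¬ ∃ (H K : Subgroup G) (hK : (K.subgroupOf H).Normal), H ≤ N ∧
        Nonempty ((H ⧸ K.subgroupOf H) ≃* Matrix.SpecialLinearGroup (Fin 2) (ZMod p))) :
    ¬ Involves (SLp p) ↥N := by
  intro hi
  apply h
  obtain ⟨K₁, f₁, hf₁⟩ := exists_surj_of_involves hi
  set H := K₁.map N.subtype with hH
  have e := K₁.equivMapOfInjective N.subtype N.subtype_injective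
  let f : ↥H →* SLp p := f₁.comp e.symm.toMonoidHom
  have hf : Function.Surjective f := hf₁.comp e.symm.surjective
  let R : Subgroup G := f.ker.map H.subtype
  have hR : R.subgroupOf H = f.ker := by
    unfold R Subgroup.subgroupOf
    exact Subgroup.comap_map_eq_self_of_injective H.subtype_injective _
  have hn : (R.subgroupOf H).Normal := by
    rw [hR]
    infer_instance
  refine ⟨H, R, hn, Subgroup.map_subtype_le _, ⟨(QuotientGroup.quotientMulEquivOfEq hR).trans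
    (QuotientGroup.quotientKerEquivOfSurjective f hf)⟩⟩

/-- Climbing through normalizers of `Z(J)`. -/
theorem climb (hp2 : p ≠ 2) {S Q R : Subgroup G} (hS : IsSyl p S ⊤)
    (hfree : ∀ P : Subgroup G, S ⊓ Subgroup.centralizer (S : Set G) ≤ P → P ≤ S → ¬ Involves (SLp p) ↥(NN P))
    (hQR : Q ≤ R) (hRS : R ≤ S) (hcard : Nat.card Q < Nat.card R)
    (IH : ∀ Q₁ ≤ S, Nat.card Q < Nat.card Q₁ → ∀ h : G, cj h Q₁ ≤ S → Agrees (NN (WW 0 S)) Q₁ h) :
    ∀ m : ℕ, ∀ T' T'' : Subgroup G, Nat.card G - Nat.card T' = m → IsSyl p T'' ⊤ → T' ≤ T'' →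
      (T'' ⊓ Subgroup.centralizer (T'' : Set G) ≤ T') → R ≤ T' →
      ∀ n ∈ NN Q ⊓ NN (WW 0 T'), Agrees (NN (WW 0 S)) Q n := by
  intro m
  induction m using Nat.strong_induction_on with
  | _ m ihm =>
  intro T' T'' hm hT'' hT'T'' hPi hRT' n hn
  have hT'p : IsPGroup p T' := hT''.pgrp.to_le hT'T''
  obtain ⟨k, hk, hkT⟩ := hS.exists_eq_cj hT''
  by_cases hTT : T' = T''
  · subst hTT
    have hQ₁ : cj k⁻¹ R ≤ S := by
      apply cj_le_iff.mpr
      intro a ha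
      have h1 := hRT' ha
      rw [hkT] at h1
      have h2 := mem_cj.mp h1
      simpa using h2
    have hcardQ₁ : Nat.card Q < Nat.card (cj k⁻¹ R) := by rwa [card_cj]
    have hcj : cj k (cj k⁻¹ R) ≤ S := by
      rw [← cj_mul]
      simp only [mul_inv_cancel, cj_one]
      exact hRS
    obtain ⟨y, hy, hya⟩ := IH _ hQ₁ hcardQ₁ k hcj
    have hn₀' : k⁻¹ * n * k ∈ NN (WW 0 S) := by
      have h1 : n ∈ NN (WW 0 T') := hn.2
      rw [hkT, WW_cj, ← cj_NN] at h1
      exact mem_cj.mp h1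
    refine ⟨y * (k⁻¹ * n * k) * y⁻¹, Subgroup.mul_mem _ (Subgroup.mul_mem _ hy hn₀') (Subgroup.inv_mem _ hy), ?_⟩
    intro a ha
    have ha₀ : k⁻¹ * a * k⁻¹⁻¹ ∈ cj k⁻¹ R := conj_mem_cj (hQR ha)
    have h1 := hya _ ha₀
    have h2 : y * (k⁻¹ * a * k) * y⁻¹ = a := by
      have e1 : k⁻¹ * a * k⁻¹⁻¹ = k⁻¹ * a * k := by group
      rw [e1] at h1
      rw [h1]; group
    have hna : n * a * n⁻¹ ∈ Q := conj_mem_of_mem_NN hn.1 ha
    have ha₁ : k⁻¹ * (n * a * n⁻¹) * k⁻¹⁻¹ ∈ cj k⁻¹ R := conj_mem_cj (hQR hna)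
    have h3 := hya _ ha₁
    have h4 : y * (k⁻¹ * (n * a * n⁻¹) * k) * y⁻¹ = n * a * n⁻¹ := by
      have e1 : k⁻¹ * (n * a * n⁻¹) * k⁻¹⁻¹ = k⁻¹ * (n * a * n⁻¹) * k := by group
      rw [e1] at h3
      rw [h3]; group
    have h5 : y⁻¹ * a * y = k⁻¹ * a * k := by
      nth_rewrite 1 [← h2]; group
    calc y * (k⁻¹ * n * k) * y⁻¹ * a * (y * (k⁻¹ * n * k) * y⁻¹)⁻¹
        = y * (k⁻¹ * n * k) * (y⁻¹ * a * y) * (k⁻¹ * n * k)⁻¹ * y⁻¹ := by group
      _ = y * (k⁻¹ * n * k) * (k⁻¹ * a * k) * (k⁻¹ * n * k)⁻¹ * y⁻¹ := by rw [h5]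
      _ = y * (k⁻¹ * (n * a * n⁻¹) * k) * y⁻¹ := by group
      _ = n * a * n⁻¹ := h4
  · have hlt' : T' < T'' := lt_of_le_of_ne hT'T'' hTT
    have hgrow : T' < T'' ⊓ NN T' := lt_inf_NN hT''.pgrp hlt'
    set T₂' := T'' ⊓ NN T' with hT₂'
    have hT₂'p : IsPGroup p T₂' := hT''.pgrp.to_le inf_le_left
    set W := WW 0 T' with hW
    have hWT' : W ≤ T' := WW_le 0 T'
    have hT₂'Y : T₂' ≤ NN W := fun x hx => mem_NN_WW hx.2
    obtain ⟨T₂, hT₂, hT₂T₂⟩ := exists_isSyl_ge hT₂'Y hT₂'p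
    have hYfree : ¬ Involves (SLp p) ↥(NN W) := by
      have h1 : S ⊓ Subgroup.centralizer (S : Set G) ≤ cj k⁻¹ W := by
        rintro z ⟨hz1, hz2⟩
        rw [mem_cj]
        have e : k⁻¹⁻¹ * z * k⁻¹ = k * z * k⁻¹ := by group
        rw [e]
        have hz' : k * z * k⁻¹ ∈ T'' := by
          rw [hkT]
          exact conj_mem_cj hz1
        have hzc : k * z * k⁻¹ ∈ Subgroup.centralizer (T'' : Set G) := by
          rw [Subgroup.mem_centralizer_iff]
          intro t ht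
          rw [hkT] at ht
          have h2 := mem_cj.mp ht
          have h3 := Subgroup.mem_centralizer_iff.mp hz2 _ h2
          calc t * (k * z * k⁻¹) = k * ((k⁻¹ * t * k) * z) * k⁻¹ := by group
            _ = k * (z * (k⁻¹ * t * k)) * k⁻¹ := by rw [h3]
            _ = k * z * k⁻¹ * t := by group
        have hz'T' := hPi ⟨hz', hzc⟩
        exact center_le_WW hz'T' fun t ht => Subgroup.mem_centralizer_iff.mp hzc t (hT'T'' ht)
      have h2 : cj k⁻¹ W ≤ S := by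
        apply cj_le_iff.mpr
        intro a ha
        have h3 := hT'T'' (hWT' ha)
        rw [hkT] at h3
        have h4 := mem_cj.mp h3
        simpa using h4
      have h3 := free_cj (hfree _ h1 h2) k
      have e : cj k (cj k⁻¹ W) = W := by
        rw [← cj_mul, mul_inv_cancel, cj_one]
      rw [e] at h3
      exact h3
    have hnY : n ∈ NN W := hn.2
    have hQT₂ : Q ≤ T₂ := hQR.trans (hRT'.trans (hgrow.le.trans hT₂T₂))
    have hnQ : cj n Q = Q := cj_eq_of_mem_NN hn.1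
    obtain ⟨n', hn', hn'a⟩ := control_in hp2 hYfree hT₂ hQT₂ hnY (by rw [hnQ]; exact hQT₂)
    have hn'Q : n' ∈ NN Q := by
      apply mem_NN_of_forall
      intro a ha
      rw [hn'a a ha]
      exact conj_mem_of_mem_NN hn.1 ha
    obtain ⟨T₃, hT₃, hT₂T₃⟩ := exists_isSyl_ge (le_top : T₂ ≤ ⊤) hT₂.pgrp
    have hPi' : T₃ ⊓ Subgroup.centralizer (T₃ : Set G) ≤ T₂ := by
      rintro z ⟨hz1, hz2⟩
      have hT'T₂ : T' ≤ T₂ := hgrow.le.trans hT₂T₂
      have hzW : z ∈ NN W := by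
        apply mem_NN_of_forall
        intro x hx
        have h1 := Subgroup.mem_centralizer_iff.mp hz2 x (hT₂T₃ (hT'T₂ (hWT' hx)))
        have e : z * x * z⁻¹ = x := by
          rw [← h1]
          group
        rw [e]
        exact hx
      have hU : T₂ ⊔ Subgroup.zpowers z ≤ NN W := sup_le hT₂.le ((Subgroup.zpowers_le).mpr hzW)
      have hUp : IsPGroup p ↥(T₂ ⊔ Subgroup.zpowers z) :=
        hT₃.pgrp.to_le (sup_le hT₂T₃ ((Subgroup.zpowers_le).mpr hz1))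
      have h3 := hT₂.eq_of_le hU hUp le_sup_left
      rw [← h3]
      exact (le_sup_right : Subgroup.zpowers z ≤ T₂ ⊔ Subgroup.zpowers z) (Subgroup.mem_zpowers z)
    have hcardT : Nat.card T' < Nat.card T₂ := by
      have hlt₂ : T' < T₂ := lt_of_lt_of_le hgrow hT₂T₂
      refine lt_of_le_of_ne (Subgroup.card_le_of_le hlt₂.le) fun he' => ?_
      exact hlt₂.ne (Subgroup.eq_of_le_of_card_ge hlt₂.le he'.ge)
    have hcardG : Nat.card T₂ ≤ Nat.card G := Subgroup.card_le_card_group _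
    obtain ⟨x, hx, hxa⟩ := ihm (Nat.card G - Nat.card T₂) (by omega) T₂ T₃ rfl hT₃ hT₂T₃ hPi'
      (hRT'.trans (hgrow.le.trans hT₂T₂)) n' ⟨hn'Q, hn'.2⟩
    exact ⟨x, hx, fun a ha => (hxa a ha).trans (hn'a a ha)⟩

/-- The main control statement. -/
theorem main_control (hp2 : p ≠ 2) {S : Subgroup G} (hS : IsSyl p S ⊤)
    (hfree : ∀ P : Subgroup G, S ⊓ Subgroup.centralizer (S : Set G) ≤ P → P ≤ S → ¬ Involves (SLp p) ↥(NN P)) :
    ∀ Q ≤ S, ∀ h ∈ (⊤ : Subgroup G), cj h Q ≤ S → Agrees (NN (WW 0 S)) Q h := by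
  apply alperin_control hS
  intro Q hQ htm IH g hg
  have hgQ : g ∈ NN Q := hg.2
  by_cases hQS : Q = S
  · subst hQS
    exact Agrees.of_mem (mem_NN_WW hgQ)
  have IH' : ∀ Q₁ ≤ S, Nat.card Q < Nat.card Q₁ → ∀ h : G, cj h Q₁ ≤ S → Agrees (NN (WW 0 S)) Q₁ h :=
    fun Q₁ h1 h2 h h3 => IH Q₁ h1 h2 h trivial h3
  have htm' : IsSyl p (S ⊓ NN Q) (NN Q) := by
    rw [top_inf_eq] at htm
    exact htm
  by_cases hc : S ⊓ Subgroup.centralizer (Q : Set G) ≤ Q
  · have hQlt : Q < S := lt_of_le_of_ne hQ hQS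
    have hQR : Q < S ⊓ NN Q := lt_inf_NN hS.pgrp hQlt
    set R := S ⊓ NN Q with hR
    have hZQ : S ⊓ Subgroup.centralizer (S : Set G) ≤ Q := by
      rintro z ⟨hz1, hz2⟩
      apply hc
      refine ⟨hz1, Subgroup.mem_centralizer_iff.mpr ?_⟩
      intro q hq
      exact Subgroup.mem_centralizer_iff.mp hz2 q (hQ hq)
    have hfreeQ := hfree Q hZQ hQ
    obtain ⟨n₀, hn₀, hn₀a⟩ := control_in hp2 hfreeQ htm' hQR.le hgQ (by rw [cj_eq_of_mem_NN hgQ]; exact hQR.le)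
    have hcard : Nat.card Q < Nat.card R := by
      refine lt_of_le_of_ne (Subgroup.card_le_of_le hQR.le) fun he' => ?_
      exact hQR.ne (Subgroup.eq_of_le_of_card_ge hQR.le he'.ge)
    obtain ⟨x, hx, hxa⟩ := climb hp2 hS hfree hQR.le inf_le_left hcard IH' _ R S rfl hS inf_le_left
      (hZQ.trans hQR.le) le_rfl n₀ ⟨hn₀.1, hn₀.2⟩
    exact ⟨x, hx, fun a ha => (hxa a ha).trans (hn₀a a ha)⟩
  · set N := NN Q with hN
    set D₀ := N ⊓ Subgroup.centralizer (Q : Set G) with hD₀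
    have hND₀ : N ≤ NN D₀ := by
      intro x hx
      apply mem_NN_of_forall
      intro c hc'
      exact ⟨N.mul_mem (N.mul_mem hx hc'.1) (N.inv_mem hx), conj_mem_of_mem_NN (le_NN_centralizer (le_refl N) hx) hc'.2⟩
    have hR₂ := isSyl_inf htm' (inf_le_left : D₀ ≤ N) hND₀
    set R₂ := (S ⊓ NN Q) ⊓ D₀ with hR₂def
    obtain ⟨d, hd, hdg⟩ := frattini hR₂ (hND₀ hgQ)
    have hn₃N : d⁻¹ * g ∈ N := N.mul_mem (N.inv_mem hd.1) hgQ
    set Q₃ := Q ⊔ R₂ with hQ₃
    have hR₂T : R₂ ≤ S := inf_le_left.trans inf_le_left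
    have hQ₃T : Q₃ ≤ S := sup_le hQ hR₂T
    have hQlt₃ : Q < Q₃ := by
      refine lt_of_le_not_ge le_sup_left fun h => hc ?_
      rintro s ⟨hs1, hs2⟩
      have hsN : s ∈ N := by
        apply mem_NN_of_forall
        intro a ha
        have h1 := Subgroup.mem_centralizer_iff.mp hs2 a ha
        have e : s * a * s⁻¹ = a := by
          rw [← h1]
          group
        rw [e]
        exact ha
      exact h (le_sup_right (a := Q) (⟨⟨hs1, hsN⟩, ⟨hsN, hs2⟩⟩ : s ∈ R₂))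
    have hcard : Nat.card Q < Nat.card Q₃ := by
      refine lt_of_le_of_ne (Subgroup.card_le_of_le hQlt₃.le) fun he' => ?_
      exact hQlt₃.ne (Subgroup.eq_of_le_of_card_ge hQlt₃.le he'.ge)
    have hn₃Q₃ : d⁻¹ * g ∈ NN Q₃ := mem_NN_sup hn₃N hdg
    obtain ⟨x, hx, hxa⟩ := IH' Q₃ hQ₃T hcard _ (by rw [cj_eq_of_mem_NN hn₃Q₃]; exact hQ₃T)
    refine ⟨x, hx, fun a ha => ?_⟩
    have h1 := hxa a ((le_sup_left : Q ≤ Q₃) ha)
    have hb : (d⁻¹ * g) * a * (d⁻¹ * g)⁻¹ ∈ Q := conj_mem_of_mem_NN hn₃N ha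
    have h2 := Subgroup.mem_centralizer_iff.mp hd.2 _ hb
    calc x * a * x⁻¹ = (d⁻¹ * g) * a * (d⁻¹ * g)⁻¹ := h1
      _ = d * ((d⁻¹ * g) * a * (d⁻¹ * g)⁻¹) * d⁻¹ := by rw [← h2]; group
      _ = g * a * g⁻¹ := by group

end Helpers


/-- Let p be an odd prime and S a Sylow p-subgroup of the finite group G such that, for every subgroup P with Z(S) ≤ P ≤ S, the normalizer N_G(P) has no section isomorphic to SL₂(p). Let J(S) be the subgroup generated by the abelian subgroups of S of largest order. Then two elements of S are conjugate in G if and only if they are conjugate in N_G(Z(J(S))). -/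
theorem result {G : Type*} [Group G] [Finite G] {p : ℕ} [Fact p.Prime]
    (hp : p ≠ 2) (S : Sylow p G)
    (hfree : ∀ P : Subgroup G, (S : Subgroup G) ⊓ Subgroup.centralizer ((S : Subgroup G) : Set G) ≤ P → P ≤ S →
      ¬ ∃ (H K : Subgroup G) (hK : (K.subgroupOf H).Normal), H ≤ Subgroup.normalizer (P : Set G) ∧
        Nonempty ((H ⧸ K.subgroupOf H) ≃* Matrix.SpecialLinearGroup (Fin 2) (ZMod p))) :
    ∀ x ∈ S, ∀ y ∈ S, (∃ g : G, g * x * g⁻¹ = y) ↔
      ∃ n ∈ Subgroup.normalizer (Cfsg.centerThompsonAOf (S : Subgroup G) : Set G), n * x * n⁻¹ = y := by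
  intro x hx y hy
  have hS := isSyl_of_sylow S
  have hfree' : ∀ P : Subgroup G, (S : Subgroup G) ⊓ Subgroup.centralizer ((S : Subgroup G) : Set G) ≤ P → P ≤ S →
      ¬ Involves (SLp p) ↥(NN P) := fun P h1 h2 => free_of_hfree (hfree P h1 h2)
  constructor
  · rintro ⟨g, rfl⟩
    have hQ : Subgroup.zpowers x ≤ (S : Subgroup G) := (Subgroup.zpowers_le).mpr hx
    have hgQ : cj g (Subgroup.zpowers x) ≤ (S : Subgroup G) := by
      rw [cj_le_iff]
      intro a ha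
      obtain ⟨i, rfl⟩ := Subgroup.mem_zpowers_iff.mp ha
      have e : g * x ^ i * g⁻¹ = (g * x * g⁻¹) ^ i := by
        exact (conj_zpow).symm
      rw [e]
      exact Subgroup.zpow_mem _ hy i
    obtain ⟨n, hn, hna⟩ := main_control hp hS hfree' _ hQ g trivial hgQ
    rw [WW_zero_eq] at hn
    exact ⟨n, hn, hna x (Subgroup.mem_zpowers x)⟩
  · rintro ⟨n, _, rfl⟩
    exact ⟨n, rfl⟩

end Cfsg.Agent.S3071
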