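-- Statement S3073
import Mathlib
import Cfsg.Agent.S1988
import Cfsg.Agent.Lib.KInf
import Cfsg.Agent.Lib.NPCBasic
import Cfsg.Statements.S3073

set_option autoImplicit false
universe u
open Cfsg

namespace Cfsg.Agent.S3073

/-- For an odd prime p, every finite p-group S has a characteristic subgroup K with C_S(K) ≤ K such that, whenever S is (isomorphic to) a Sylow p-subgroup of a finite group G, G has a normal p-complement if and only if N_G(K)/C_G(K) is a p-group, i.e. every element of N_G(K) of order prime to p centralizes K (K transported into G along the isomorphism). -/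
theorem result (p : ℕ) [Fact p.Prime] (hp : p ≠ 2)
    (S : Type u) [Group S] [Finite S] (hS : IsPGroup p S) :
    ∃ K : Subgroup S, K.Characteristic ∧ Subgroup.centralizer (K : Set S) ≤ K ∧
      ∀ (G : Type u) [Group G] [Finite G] (P : Sylow p G) (e : ↥(P : Subgroup G) ≃* S),
        Cfsg.HasNormalPComplement p G ↔
          ∀ g ∈ Subgroup.normalizer (((K.comap (e : ↥(P : Subgroup G) →* S)).map (P : Subgroup G).subtype : Subgroup G) : Set G),
            (orderOf g).Coprime p →
              g ∈ Subgroup.centralizer (((K.comap (e : ↥(P : Subgroup G) →* S)).map (P : Subgroup G).subtype : Subgroup G) : Set G) := by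
  classical
  refine ⟨Cfsg.kInfLower S, ?_, Cfsg.Agent.Lib.KInf.centralizer_kInfLower_le hS, ?_⟩
  · constructor
    intro φ
    have h := Cfsg.Agent.Lib.KInf.kInfLower_map_equiv φ.symm
    rw [Subgroup.map_equiv_eq_comap_symm'] at h
    exact h
  · intro G _ _ P e
    have hK : (Cfsg.kInfLower S).comap (e : ↥(P : Subgroup G) →* S) = Cfsg.kInfLower ↥(P : Subgroup G) := by
      have h := Cfsg.Agent.Lib.KInf.kInfLower_map_equiv e.symm
      rw [Subgroup.map_equiv_eq_comap_symm'] at h
      exact h
    rw [hK]
    have hind : (Cfsg.kInfLower ↥(P : Subgroup G)).map (P : Subgroup G).subtype =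
        Cfsg.inducedFunctor Cfsg.kInfLower (P : Subgroup G) := rfl
    rw [hind]
    constructor
    · intro hnpc g hg hco
      obtain ⟨N, hNn, hNc, k, hk⟩ := Cfsg.Agent.Lib.NPCBasic.hasNPC_iff.mp hnpc
      -- `g` lies in `N`
      have hgN : g ∈ N := by
        have h1 : (QuotientGroup.mk g : G ⧸ N) ^ Nat.card (G ⧸ N) = 1 := pow_card_eq_one'
        have h2 : Nat.card (G ⧸ N) = p ^ k := hk
        rw [h2] at h1
        have h3 : (QuotientGroup.mk (g ^ p ^ k) : G ⧸ N) = 1 := by rw [QuotientGroup.mk_pow]; exact h1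
        have h4 : g ^ p ^ k ∈ N := (QuotientGroup.eq_one_iff _).mp h3
        exact Cfsg.Agent.Lib.KInfStable.mem_of_pow_mem_of_coprime (p := p) hco (H := N) (n := k) h4
      rw [Subgroup.mem_centralizer_iff]
      intro x hx
      obtain ⟨y, hy, rfl⟩ := hx
      set K' := Cfsg.inducedFunctor Cfsg.kInfLower (P : Subgroup G) with hK'
      have hxK : ((y : ↥(P : Subgroup G)) : G) ∈ K' := ⟨y, hy, rfl⟩
      have hc1 : g * (y : G) * g⁻¹ * (y : G)⁻¹ ∈ N := by
        have e1 : g * (y : G) * g⁻¹ * (y : G)⁻¹ = g * ((y : G) * g⁻¹ * (y : G)⁻¹) := by group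
        rw [e1]
        exact N.mul_mem hgN (hNn.conj_mem _ (N.inv_mem hgN) (y : G))
      have hc2 : g * (y : G) * g⁻¹ * (y : G)⁻¹ ∈ K' :=
        K'.mul_mem ((Subgroup.mem_normalizer_iff.mp hg _).mp hxK) (K'.inv_mem hxK)
      have hKP : K' ≤ (P : Subgroup G) := Subgroup.map_subtype_le _
      have hbot : ∀ z : G, z ∈ N → z ∈ (P : Subgroup G) → z = 1 := by
        intro z hzN hzP
        have h1 : orderOf (⟨z, hzN⟩ : ↥N) ∣ Nat.card N := orderOf_dvd_natCard _
        rw [Subgroup.orderOf_mk] at h1
        obtain ⟨m, hm⟩ := (IsPGroup.iff_orderOf.mp P.isPGroup') ⟨z, hzP⟩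
        rw [Subgroup.orderOf_mk] at hm
        rw [hm] at h1
        have h2 := (Nat.Coprime.pow_left m hNc.symm).eq_one_of_dvd h1
        rw [h2] at hm
        exact orderOf_eq_one_iff.mp hm
      have h1 := hbot _ hc1 (hKP hc2)
      have h2 : g * (y : G) * g⁻¹ = (y : G) := by
        have := mul_inv_eq_one.mp h1
        exact this
      show (y : G) * g = g * y
      have : g * (y : G) = (y : G) * g := by
        have h3 := congrArg (· * g) h2
        simpa using h3
      exact this.symm
    · intro h
      exact Cfsg.Agent.S1988.result hp P (Or.inr h)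

end Cfsg.Agent.S3073
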