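import Cfsg.Statements.S3157
import Cfsg.Agent.Lib.T64C

set_option autoImplicit false
open Cfsg

namespace Cfsg.Agent.S3157

section
open Cfsg.Agent.Lib.T64 Cfsg.Agent.Lib.T64B Cfsg.Agent.Lib.T64C

theorem main {T : Type*} [Group T] [Finite T] (hT : Nat.card T = 64) (hna : ¬ IsMulCommutative T)
    (ρ x : MulAut T) (hρ : orderOf ρ = 3) (hx : orderOf x = 2)
    (hxr : x * ρ * x⁻¹ = ρ⁻¹) (hfp : ∀ y : T, ρ y = y → y = 1) (C : Subgroup T)
    (hC : ∀ y : T, y ∈ C ↔ x y = y) :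
    (∃ (F : Type) (_ : Field F) (_ : Fintype F), Fintype.card F = 4 ∧
        ∃ S : Sylow 2 (Matrix.ProjectiveSpecialLinearGroup (Fin 3) F), Nonempty (T ≃* ↥(S : Subgroup (Matrix.ProjectiveSpecialLinearGroup (Fin 3) F)))) ∧
      (Nonempty (↥C ≃* DihedralGroup 4) ∨ Nonempty (↥C ≃* QuaternionGroup 2)) := by
  have hρ3 : ρ ^ 3 = 1 := by rw [← hρ]; exact pow_orderOf_eq_one ρ
  have hx2 : x ^ 2 = 1 := by rw [← hx]; exact pow_orderOf_eq_one x
  have hr3 : ∀ t, ρ (ρ (ρ t)) = t := fun t => by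
    have := congrArg (fun f : MulAut T => f t) hρ3
    simpa [pow_succ] using this
  have hx2' : ∀ t, x (x t) = t := fun t => by
    have := congrArg (fun f : MulAut T => f t) hx2
    simpa [pow_succ] using this
  have hxρ : ∀ t, x (ρ t) = ρ (ρ (x t)) := by
    intro t
    have h1 : (x * ρ * x⁻¹) (x t) = ρ⁻¹ (x t) := by rw [hxr]
    have h2 : (x * ρ * x⁻¹) (x t) = x (ρ t) := by
      simp [MulAut.mul_apply]
    rw [h2] at h1
    rw [h1]
    have h3 : ρ (ρ⁻¹ (x t)) = x t := by simp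
    calc ρ⁻¹ (x t) = ρ (ρ (ρ (ρ⁻¹ (x t)))) := (hr3 _).symm
      _ = ρ (ρ (x t)) := by rw [h3]
  have hF : Fpf ρ := ⟨hr3, hfp⟩
  obtain ⟨hcl, hc4⟩ := cl_of_fpf hF hT hna
  have hI : Inv ρ x := ⟨hx2', hxρ⟩
  refine ⟨?_, cfix_iso hcl hF hI hT hc4 hna C hC⟩
  by_cases hroot : ∀ t : T, t ^ 2 = 1 → t ∈ Subgroup.center T
  · exfalso
    have hρ1 : ∃ t, ρ t ≠ t := by
      by_contra hcon
      push Not at hcon
      apply hρ.symm ▸ (by norm_num : (3 : ℕ) ≠ 1)
      rw [orderOf_eq_one_iff]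
      ext t
      simpa using hcon t
    exact Cfsg.Agent.S3156.no_S3 (hyp_of_root hcl hF hT hc4 hroot) ρ x hr3 hρ1 hx2' hxρ
  · push Not at hroot
    obtain ⟨a, ha, haZ⟩ := hroot
    rw [pow_two] at ha
    obtain ⟨b, hb, hab⟩ := exists_b hcl hF hc4 ha haZ
    have : Fact (Nat.Prime 2) := ⟨Nat.prime_two⟩
    let F := GaloisField 2 2
    letI : Fintype F := Fintype.ofFinite F
    have hcardF : Fintype.card F = 4 := by
      rw [← Nat.card_eq_fintype_card, GaloisField.card 2 2 (by norm_num)]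
      norm_num
    exact ⟨F, inferInstance, inferInstance, hcardF, sylow_iso hcardF hcl hF hT ha hb hab⟩

end

/-- Let T be a non-abelian group of order 64 admitting automorphisms ρ of order 3 and x of order 2 with x ρ x⁻¹ = ρ⁻¹ (so they generate a symmetric group of degree 3), where ρ fixes only the identity. Then T is isomorphic to a Sylow 2-subgroup of the projective special linear group of dimension 3 over the field with 4 elements, and the subgroup of fixed points of x is dihedral of order 8 or quaternion of order 8. -/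
theorem result {T : Type*} [Group T] [Finite T] (hT : Nat.card T = 64) (hna : ¬ IsMulCommutative T) (ρ x : MulAut T) (hρ : orderOf ρ = 3) (hx : orderOf x = 2)
    (hxr : x * ρ * x⁻¹ = ρ⁻¹) (hfp : ∀ y : T, ρ y = y → y = 1) (C : Subgroup T) (hC : ∀ y : T, y ∈ C ↔ x y = y) :
    (∃ (F : Type) (_ : Field F) (_ : Fintype F), Fintype.card F = 4 ∧
        ∃ S : Sylow 2 (Matrix.ProjectiveSpecialLinearGroup (Fin 3) F), Nonempty (T ≃* ↥(S : Subgroup (Matrix.ProjectiveSpecialLinearGroup (Fin 3) F)))) ∧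
      (Nonempty (↥C ≃* DihedralGroup 4) ∨ Nonempty (↥C ≃* QuaternionGroup 2)) :=
  main hT hna ρ x hρ hx hxr hfp C hC

end Cfsg.Agent.S3157
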