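import Mathlib
import Cfsg.Statements.S3161
import Cfsg.Agent.Lib.CITElem3
import Cfsg.Agent.Lib.PSLFusion
import Cfsg.Agent.Lib.LayerCoords
import Cfsg.Agent.Lib.SquaringIso
import Cfsg.Agent.S1141

set_option autoImplicit false
set_option linter.style.haveILetI false
set_option linter.unusedSectionVars false
set_option linter.unusedVariables false

open Cfsg

namespace Cfsg.Agent.S3161

open Cfsg.Agent.Lib.LayerHS

universe u

/-- The hypotheses give an `HS` structure over any field of order `2 ^ n`. -/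
theorem exists_HS {Q : Type u} [Group Q] [Finite Q] (K : Type) [Field K] [Fintype K] (n : ℕ)
    (hK : Fintype.card K = 2 ^ n) (hn : 1 ≤ n) (α ρ : MulAut Q) (hα : orderOf α = 2) (hc : Commute α ρ)
    (C : Subgroup Q) (hC : ∀ x : Q, x ∈ C ↔ α x = x)
    (hCE : Cfsg.IsElementaryAbelian 2 C ∧ Nat.card ↥C = 2 ^ n)
    (htr : ∀ x y : Q, x ∈ C → y ∈ C → x ≠ 1 → y ≠ 1 → ∃ k : ℕ, (ρ ^ k) x = y) :
    ∃ (lam : K) (S : HS lam Q), S.ρ = ρ ∧ S.α = α ∧ (∀ a : K, a ≠ 0 → ∃ k : ℕ, a = lam ^ k) := by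
  classical
  obtain ⟨⟨hcomm, hexp⟩, hcard⟩ := hCE
  letI instC : CommGroup C := { (inferInstance : Group C) with mul_comm := fun a b => hcomm.is_comm.comm a b }
  have hαρ : ∀ x, α (ρ x) = ρ (α x) := fun x => DFunLike.congr_fun hc.eq x
  have hαρi : ∀ x, α (ρ⁻¹ x) = ρ⁻¹ (α x) := fun x => DFunLike.congr_fun hc.inv_right.eq x
  have hρC : ∀ x ∈ C, ρ x ∈ C := by
    intro x hx
    rw [hC] at hx ⊢
    rw [hαρ, hx]
  have hρiC : ∀ x ∈ C, ρ⁻¹ x ∈ C := by
    intro x hx
    rw [hC] at hx ⊢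
    rw [hαρi, hx]
  let τ : MulAut C :=
    { toFun := fun x => ⟨ρ x.1, hρC _ x.2⟩
      invFun := fun x => ⟨ρ⁻¹ x.1, hρiC _ x.2⟩
      left_inv := fun x => Subtype.ext (by simp)
      right_inv := fun x => Subtype.ext (by simp)
      map_mul' := fun x y => Subtype.ext (by simp) }
  have hτ : ∀ x : C, ((τ x : C) : Q) = ρ x.1 := fun _ => rfl
  have hτk : ∀ (k : ℕ) (x : C), (((τ ^ k) x : C) : Q) = (ρ ^ k) x.1 := by
    intro k x
    induction k with
    | zero => rfl
    | succ k ih =>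
      rw [pow_succ', pow_succ', MulAut.mul_apply, MulAut.mul_apply, hτ, ih]
  let D : Subgroup (MulAut C) := Subgroup.zpowers τ
  let act : D →* MulAut C := D.subtype
  have hD : ∀ a b : D, a * b = b * a := by
    rintro ⟨_, m, rfl⟩ ⟨_, l, rfl⟩
    apply Subtype.ext
    exact ((Commute.refl τ).zpow_zpow m l).eq
  have hnt : Nontrivial C := by
    have h1 : 1 < Nat.card C := by
      rw [hcard]
      exact Nat.one_lt_two_pow (by omega)
    exact Finite.one_lt_card_iff_nontrivial.mp h1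
  obtain ⟨e, he⟩ := exists_ne (1 : C)
  have hexp' : ∀ a : C, a * a = 1 := by
    intro a
    apply Subtype.ext
    have := hexp a.1 a.2
    rw [pow_two] at this
    exact this
  have hne_coe : ∀ a : C, a ≠ 1 → a.1 ≠ 1 := fun a ha h => ha (Subtype.ext h)
  have htr' : ∀ a : C, a ≠ 1 → ∃ k : ℕ, (τ ^ k) e = a := by
    intro a ha
    obtain ⟨k, hk⟩ := htr e.1 a.1 e.2 a.2 (hne_coe e he) (hne_coe a ha)
    refine ⟨k, Subtype.ext ?_⟩
    rw [hτk, hk]
  have hfree : ∀ d : D, act d e = e → d = 1 := by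
    rintro ⟨σ, hσ⟩ h
    have h1 : σ e = e := h
    apply Subtype.ext
    show σ = 1
    ext a
    by_cases ha : a = 1
    · rw [ha, map_one]; rfl
    · obtain ⟨k, hk⟩ := htr' a ha
      have hcm : Commute σ (τ ^ k) := by
        obtain ⟨m, rfl⟩ := hσ
        exact ((Commute.refl τ).zpow_left m).pow_right k
      have h3 : σ ((τ ^ k) e) = (τ ^ k) (σ e) := DFunLike.congr_fun hcm.eq e
      rw [← hk, h3, h1]
      rfl
  obtain ⟨K₀, fK, ev, ιD, h1, h2, h3, h4, h5, h6, h7⟩ :=
    Cfsg.Agent.Lib.CITElem.exists_field hD act e he hexp' (by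
      intro a ha
      obtain ⟨k, hk⟩ := htr' a ha
      exact ⟨⟨τ ^ k, Subgroup.npow_mem_zpowers τ k⟩, hk⟩) hfree
  letI : Fintype C := Fintype.ofFinite C
  letI : Fintype K₀ := Fintype.ofEquiv C ev.symm
  have hcK₀ : Fintype.card K₀ = Fintype.card K := by
    rw [hK, ← hcard, Nat.card_eq_fintype_card]
    exact Fintype.card_congr ev
  let e' : K₀ ≃+* K := FiniteField.ringEquivOfCardEq hcK₀
  let τD : D := ⟨τ, Subgroup.mem_zpowers τ⟩
  let lam : K := e' (ιD τD)
  have ev0 : ev 0 = 1 := by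
    have := h1 0 0
    rw [add_zero] at this
    exact mul_eq_left.mp this.symm
  have hev2 : ∀ z, ((ev (ιD τD * z) : C) : Q) = ρ (ev z).1 := by
    intro z
    rw [h2]
    rfl
  let S : HS lam Q :=
    { α := α
      ρ := ρ
      ι := fun a => (ev (e'.symm a)).1
      ι_add := by
        intro a b
        rw [map_add, h1]
        rfl
      ι_inj := by
        intro a h
        have h8 : ev (e'.symm a) = 1 := Subtype.ext h
        have h9 : e'.symm a = 0 := ev.injective (h8.trans ev0.symm)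
        simpa using h9
      α_α := by
        intro x
        have h8 : α ^ 2 = 1 := by rw [← hα]; exact pow_orderOf_eq_one α
        have h9 := DFunLike.congr_fun h8 x
        rw [pow_two] at h9
        exact h9
      αρ := hαρ
      fix := by
        intro x
        rw [← hC]
        constructor
        · intro hx
          refine ⟨e' (ev.symm ⟨x, hx⟩), ?_⟩
          simp
        · rintro ⟨a, rfl⟩
          exact (ev (e'.symm a)).2
      ρι := by
        intro a
        have h8 : e'.symm (lam * a) = ιD τD * e'.symm a := by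
          rw [map_mul]
          congr 1
          exact e'.symm_apply_apply _
        show ρ (ev (e'.symm a)).1 = (ev (e'.symm (lam * a))).1
        rw [h8, hev2] }
  refine ⟨lam, S, rfl, rfl, ?_⟩
  intro a ha
  have hz : e'.symm a ≠ 0 := by simpa using ha
  obtain ⟨d, hd⟩ := h4 _ hz
  have hιpow : ∀ k : ℕ, ιD (τD ^ k) = (ιD τD) ^ k := by
    intro k
    induction k with
    | zero => simpa using h6
    | succ k ih => rw [pow_succ, pow_succ, h7, ih]
  obtain ⟨σ, hσ⟩ := d
  have hσ' : σ ∈ Submonoid.powers τ := by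
    have : IsOfFinOrder τ := isOfFinOrder_of_finite τ
    exact (this.mem_powers_iff_mem_zpowers).mpr hσ
  obtain ⟨k, hk⟩ := hσ'
  refine ⟨k, ?_⟩
  have h8 : (⟨σ, hσ⟩ : D) = τD ^ k := by
    apply Subtype.ext
    exact hk.symm
  rw [h8, hιpow] at hd
  calc a = e' (e'.symm a) := by simp
    _ = e' ((ιD τD) ^ k) := by rw [hd]
    _ = lam ^ k := by rw [map_pow]

section L3

open Cfsg.Agent.Lib.PSLFusionBasic Cfsg.Agent.Lib.PSLFusion Cfsg.Agent.Lib.SLSpec Matrix

variable {K : Type} [Field K] [Finite K] [CharP K 2]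

/-- The explicit element of `U`. -/
def mkU (s t r : K) : U K 3 :=
  ⟨⟨!![1, s, r; 0, 1, t; 0, 0, 1], by
      rw [Matrix.det_fin_three]
      simp⟩, by
    refine ⟨?_, ?_⟩
    · intro i j hij
      fin_cases i <;> fin_cases j <;> first | rfl | (exfalso; revert hij; decide)
    · intro i
      fin_cases i <;> rfl⟩

/-- Coordinates. -/
def ca (M : U K 3) : K := M.1.1 0 1
def cc (M : U K 3) : K := M.1.1 1 2
def cb (M : U K 3) : K := M.1.1 0 2

theorem U_coe (M : U K 3) : M.1.1 = !![1, ca M, cb M; 0, 1, cc M; 0, 0, 1] := by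
  have h1 := M.2.1
  have h3 := M.2.2
  ext i j
  fin_cases i <;> fin_cases j
  · exact h3 0
  · rfl
  · rfl
  · exact h1 1 0 (by decide)
  · exact h3 1
  · rfl
  · exact h1 2 0 (by decide)
  · exact h1 2 1 (by decide)
  · exact h3 2

theorem U_ext {M N : U K 3} (h1 : ca M = ca N) (h2 : cc M = cc N) (h3 : cb M = cb N) : M = N := by
  apply Subtype.ext
  apply Subtype.ext
  rw [U_coe M, U_coe N, h1, h2, h3]

theorem coe_mul' (M N : U K 3) : (M * N).1.1 = M.1.1 * N.1.1 := rfl

theorem ca_mul (M N : U K 3) : ca (M * N) = ca M + ca N := by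
  show (M * N).1.1 0 1 = _
  rw [coe_mul', U_coe M, U_coe N]
  simp [Matrix.mul_apply, Fin.sum_univ_three]
  ring

theorem cc_mul (M N : U K 3) : cc (M * N) = cc M + cc N := by
  show (M * N).1.1 1 2 = _
  rw [coe_mul', U_coe M, U_coe N]
  simp [Matrix.mul_apply, Fin.sum_univ_three]
  ring

theorem cb_mul (M N : U K 3) : cb (M * N) = cb M + cb N + ca M * cc N := by
  show (M * N).1.1 0 2 = _
  rw [coe_mul', U_coe M, U_coe N]
  simp [Matrix.mul_apply, Fin.sum_univ_three]
  ring

theorem ca_mk (s t r : K) : ca (mkU s t r) = s := rfl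
theorem cc_mk (s t r : K) : cc (mkU s t r) = t := rfl
theorem cb_mk (s t r : K) : cb (mkU s t r) = r := rfl

theorem ca_one : ca (1 : U K 3) = 0 := by
  show (1 : Matrix (Fin 3) (Fin 3) K) 0 1 = 0
  simp
theorem cc_one : cc (1 : U K 3) = 0 := by
  show (1 : Matrix (Fin 3) (Fin 3) K) 1 2 = 0
  simp
theorem cb_one : cb (1 : U K 3) = 0 := by
  show (1 : Matrix (Fin 3) (Fin 3) K) 0 2 = 0
  simp

/-- Recognition of the unitriangular group. -/
theorem target_L3 {Q : Type u} [Group Q] [Finite Q] (a c : Q → K) (am : ∀ x y, a (x * y) = a x + a y)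
    (cm : ∀ x y, c (x * y) = c x + c y) (hs : ∀ s t, ∃ x, a x = s ∧ c x = t) (ι : K → Q)
    (ιa : ∀ u v, ι (u + v) = ι u * ι v) (ιi : ∀ b, ι b = 1 → b = 0)
    (hk : ∀ x, (a x = 0 ∧ c x = 0) ↔ ∃ b, x = ι b) (hc : ∀ b x, ι b * x = x * ι b)
    (hsq : ∀ x, ∃ t, x * x = ι t) (hf : ∀ x t, x * x = ι t → t = a x * c x) :
    Nonempty (Q ≃* U K 3) := by
  have h2 : (2 : K) = 0 := CharTwo.two_eq_zero
  refine Cfsg.Agent.Lib.SquaringIso.iso_of_sq (A := K × K) (B := K)
    (fun x => (a x, c x)) (fun M => (ca M, cc M))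
    (fun x y => Prod.ext (am x y) (cm x y)) (fun x y => Prod.ext (ca_mul x y) (cc_mul x y))
    ?_ ?_ ι (fun b => mkU 0 0 b) ιa ?_ ιi ?_ ?_ ?_ hc ?_ hsq ?_
  · rintro ⟨s, t⟩
    obtain ⟨x, h1, h3⟩ := hs s t
    exact ⟨x, Prod.ext h1 h3⟩
  · rintro ⟨s, t⟩
    exact ⟨mkU s t 0, rfl⟩
  · intro u v
    apply U_ext
    · rw [ca_mul]; simp [ca_mk]
    · rw [cc_mul]; simp [cc_mk]
    · rw [cb_mul]; simp [cb_mk, ca_mk]
  · intro b h
    have := congrArg cb h
    rwa [cb_mk, cb_one] at this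
  · intro x
    constructor
    · intro h
      exact (hk x).mp ⟨congrArg Prod.fst h, congrArg Prod.snd h⟩
    · intro h
      obtain ⟨h1, h3⟩ := (hk x).mpr h
      exact Prod.ext h1 h3
  · intro M
    constructor
    · intro h
      have h1 : ca M = 0 := congrArg Prod.fst h
      have h3 : cc M = 0 := congrArg Prod.snd h
      exact ⟨cb M, U_ext h1 h3 rfl⟩
    · rintro ⟨b, rfl⟩
      rfl
  · intro b M
    apply U_ext
    · rw [ca_mul, ca_mul]; simp [ca_mk]
    · rw [cc_mul, cc_mul]; simp [cc_mk]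
    · rw [cb_mul, cb_mul]; simp [cb_mk, ca_mk, cc_mk]; ring
  · intro x y b hxy hb
    have h1 : a x = ca y := congrArg Prod.fst hxy
    have h3 : c x = cc y := congrArg Prod.snd hxy
    have h5 := hf x b hb
    apply U_ext
    · rw [ca_mul, ca_mk]; linear_combination (ca y) * h2
    · rw [cc_mul, cc_mk]; linear_combination (cc y) * h2
    · rw [cb_mul, cb_mk, h5, h1, h3]; linear_combination (cb y) * h2

theorem U_equiv_Ubar : Nonempty (U K 3 ≃* Ubar K 3) := by
  haveI : Fact (Nat.Prime 2) := ⟨Nat.prime_two⟩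
  let f := (proj (F := K) (n := 3)).subgroupMap (U K 3)
  have hf : Function.Bijective f := by
    refine ⟨?_, (proj (F := K) (n := 3)).subgroupMap_surjective _⟩
    intro x y hxy
    obtain ⟨m, hm⟩ := pow_eq_one_of_mem_U 2 x.2
    obtain ⟨m', hm'⟩ := pow_eq_one_of_mem_U 2 y.2
    apply Subtype.ext
    exact eq_of_proj_eq 2 (congrArg Subtype.val hxy) hm hm'
  exact ⟨MulEquiv.ofBijective f hf⟩

end L3

section U3

open Cfsg.Agent.Lib.SU3Heis Cfsg.Agent.Lib.HermCount Cfsg.Agent.S3315 Cfsg.Agent.S1141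

variable {L : Type} [Field L] [Fintype L] {q : ℕ} (hF : Fintype.card L = q ^ 2) (h2 : (2 : L) = 0)

/-- The fixed field. -/
def fixK (hF : Fintype.card L = q ^ 2) : Subfield L :=
  (Cfsg.Agent.Lib.HermForm.frobQ hF).eqLocusField (RingHom.id L)

omit h2 in
theorem mem_fixK {x : L} : x ∈ fixK hF ↔ x ^ q = x := Iff.rfl

/-- Recognition of the unitary group. -/
theorem target_U3 {Q : Type u} [Group Q] [Finite Q] (P : Q → L) (Pm : ∀ x y, P (x * y) = P x + P y)
    (Ps : ∀ d, ∃ x, P x = d) (ι : fixK hF → Q) (ιa : ∀ u v, ι (u + v) = ι u * ι v) (ιi : ∀ b, ι b = 1 → b = 0)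
    (hk : ∀ x, P x = 0 ↔ ∃ b, x = ι b) (hc : ∀ b x, ι b * x = x * ι b)
    (hsq : ∀ x, ∃ t, x * x = ι t) (hf : ∀ x t, x * x = ι t → (t : L) = P x * P x ^ q) :
    Nonempty (Q ≃* T hF h2) := by
  have hq : q ≠ 0 := by have := two_le_q hF; omega
  have hex : ∀ b : fixK hF, ∃ g : T hF h2, δ g.1 = 0 ∧ η g.1 = (b : L) := by
    intro b
    apply exists_T hF h2
    have hb : (b : L) ^ q = b := (mem_fixK hF).mp b.2
    rw [hb, zero_mul]
    linear_combination (b : L) * h2
  choose j hj1 hj2 using hex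
  refine Cfsg.Agent.Lib.SquaringIso.iso_of_sq (A := L) (B := fixK hF)
    P (fun g => δ g.1) Pm (fun x y => δ_mul hF h2 x y) Ps ?_ ι j ιa ?_ ιi ?_ hk ?_ hc ?_ hsq ?_
  · intro d
    obtain ⟨e, he⟩ := Cfsg.Agent.Lib.UnitaryE.exists_trace_eq hF (nrm_fixed hF d)
    obtain ⟨g, hg, -⟩ := exists_T hF h2 he
    exact ⟨g, hg⟩
  · intro u v
    apply T_ext hF h2
    · rw [δ_mul hF h2, hj1, hj1, hj1, add_zero]
    · rw [η_mul hF h2, hj2, hj2, hj2, hj1, hj1, Subfield.coe_add, zero_pow hq, zero_mul, add_zero]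
  · intro b h
    have h3 := hj2 b
    rw [h, η_one hF h2] at h3
    exact Subtype.ext h3.symm
  · intro y
    constructor
    · intro h
      have h0 : δ y.1 = 0 := h
      have h3 := rel hF h2 y
      rw [h0, zero_mul] at h3
      have h5 : η y.1 ^ q = η y.1 := by linear_combination h3 - (η y.1) * h2
      refine ⟨⟨η y.1, (mem_fixK hF).mpr h5⟩, ?_⟩
      apply T_ext hF h2
      · rw [h0, hj1]
      · rw [hj2]
    · rintro ⟨b, rfl⟩
      exact hj1 b
  · intro b y
    apply T_ext hF h2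
    · rw [δ_mul hF h2, δ_mul hF h2, hj1, zero_add, add_zero]
    · rw [η_mul hF h2, η_mul hF h2, hj1, hj2, zero_pow hq, zero_mul, mul_zero]
      ring
  · intro x y b hxy hb
    have h5 := hf x b hb
    have h0 : P x = δ y.1 := hxy
    apply T_ext hF h2
    · show δ (y * y).1 = _
      rw [δ_mul hF h2, hj1]
      linear_combination (δ y.1) * h2
    · show η (y * y).1 = _
      rw [η_mul hF h2, hj2, h5, h0]
      linear_combination (η y.1) * h2

/-- `T` is isomorphic to a Sylow 2-subgroup of `PSU₃`. -/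
theorem T_sylow {n : ℕ} (hn : 1 ≤ n) (hF : Fintype.card L = (2 ^ n) ^ 2) (h2 : (2 : L) = 0) :
    ∃ S : Sylow 2 (Cfsg.PSU 3 L (2 ^ n)), Nonempty (T hF h2 ≃* ↥(S : Subgroup (Cfsg.PSU 3 L (2 ^ n)))) := by
  haveI : Fact (Nat.Prime 2) := ⟨Nat.prime_two⟩
  obtain ⟨S⟩ : Nonempty (Sylow 2 (Cfsg.PSU 3 L (2 ^ n))) := inferInstance
  have hZ : Nat.Coprime (Nat.card (Subgroup.center (Cfsg.SU 3 L (2 ^ n)))) 2 := by
    rw [Cfsg.Agent.Lib.UnitarySU.card_center_SU hF (by norm_num)]
    have h3 : Nat.gcd 3 (2 ^ n + 1) ∣ 3 := Nat.gcd_dvd_left _ _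
    have h5 : Nat.Coprime 3 2 := by norm_num
    exact Nat.Coprime.coprime_dvd_left h3 h5
  obtain ⟨P, ⟨hP⟩⟩ := sylow_quot _ hZ S
  obtain ⟨hT⟩ := sylow_equiv rfl hn hF h2 P
  exact ⟨S, ⟨hT.symm.trans hP⟩⟩

/-- The core of the main theorem, over a field `L` of order `4 ^ n`. -/
theorem main_L {Q : Type u} [Group Q] [Finite Q] (hQ : IsPGroup 2 Q) (hna : ¬ IsMulCommutative Q) (n : ℕ) (hn : 2 ≤ n)
    (α ρ : MulAut Q) (hα : orderOf α = 2) (hρ : orderOf ρ = 2 ^ n - 1) (hc : Commute α ρ)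
    (C : Subgroup Q) (hC : ∀ x : Q, x ∈ C ↔ α x = x) (hCE : Cfsg.IsElementaryAbelian 2 C ∧ Nat.card ↥C = 2 ^ n)
    (htr : ∀ x y : Q, x ∈ C → y ∈ C → x ≠ 1 → y ≠ 1 → ∃ k : ℕ, (ρ ^ k) x = y)
    (hF : Fintype.card L = (2 ^ n) ^ 2) (h2 : (2 : L) = 0) :
    (∃ (F : Type) (_ : Field F) (_ : Fintype F), Fintype.card F = 4 ^ n ∧
        ∃ S : Sylow 2 (Cfsg.PSU 3 F (2 ^ n)), Nonempty (Q ≃* ↥(S : Subgroup (Cfsg.PSU 3 F (2 ^ n))))) ∨
      (∃ (F : Type) (_ : Field F) (_ : Fintype F), Fintype.card F = 2 ^ n ∧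
        ∃ S : Sylow 2 (Matrix.ProjectiveSpecialLinearGroup (Fin 3) F), Nonempty (Q ≃* ↥(S : Subgroup (Matrix.ProjectiveSpecialLinearGroup (Fin 3) F)))) := by
  classical
  haveI : Fact (Nat.Prime 2) := ⟨Nat.prime_two⟩
  set q := 2 ^ n with hq
  have hq4 : 4 ≤ q := by
    calc 4 = 2 ^ 2 := by norm_num
      _ ≤ 2 ^ n := Nat.pow_le_pow_right (by norm_num) hn
  let K₀ : Subfield L := fixK hF
  let K : Type := ↥K₀
  letI : Fintype K := Fintype.ofFinite K
  have h2K : (2 : K) = 0 := Subtype.ext h2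
  haveI : CharP K 2 := CharTwo.of_one_ne_zero_of_two_eq_zero one_ne_zero h2K
  haveI : CharP L 2 := CharTwo.of_one_ne_zero_of_two_eq_zero one_ne_zero h2
  have hK : Fintype.card K = q := by
    rw [← Nat.card_eq_fintype_card, ← card_trHom_ker hF h2]
    refine Nat.card_congr (Equiv.subtypeEquivRight ?_)
    intro x
    show x ^ q = x ↔ x ∈ (trHom hF).ker
    rw [AddMonoidHom.mem_ker]
    show _ ↔ x + x ^ q = 0
    constructor
    · intro h
      rw [h]; linear_combination x * h2
    · intro h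
      linear_combination h - x * h2
  obtain ⟨lam, S, hSρ, hSα, hlam⟩ := exists_HS K n hK (by omega) α ρ hα hc C hC hCE htr
  have h4 : ∃ c : K, c ≠ 0 ∧ c ≠ 1 := by
    by_contra hno
    push Not at hno
    have h5 : (Finset.univ : Finset K) ⊆ {0, 1} := by
      intro x _
      by_cases hx : x = 0
      · simp [hx]
      · simp [hno x hx]
    have h6 := Finset.card_le_card h5
    have h7 : ({0, 1} : Finset K).card ≤ 2 := Finset.card_le_two
    rw [Finset.card_univ, hK] at h6
    omega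
  have hna' : ∃ x y : Q, x * y ≠ y * x := by
    by_contra hno
    push Not at hno
    exact hna (IsMulCommutative.of_comm hno)
  have hG := HS.struct hlam h4 _ S hQ rfl hna'
  have hlam0 : lam ≠ 0 := by
    rintro rfl
    obtain ⟨c, hc0, hc1⟩ := h4
    obtain ⟨k, hk⟩ := hlam c hc0
    rcases Nat.eq_zero_or_pos k with rfl | hk0
    · exact hc1 (by simpa using hk)
    · exact hc0 (by rw [hk, zero_pow hk0.ne'])
  have hNodd : Odd (q - 1) :=
    Nat.Even.sub_odd (by omega) ((Nat.even_pow' (by omega)).mpr even_two) odd_one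
  have hρN : ∀ x, S.ρ^[q - 1] x = x := by
    intro x
    have h5 : ρ ^ (q - 1) = 1 := by rw [← hρ]; exact pow_orderOf_eq_one ρ
    have h6 : ∀ (k : ℕ) (y : Q), S.ρ^[k] y = (ρ ^ k) y := by
      intro k y
      induction k with
      | zero => rfl
      | succ k ih => rw [Function.iterate_succ_apply', ih, hSρ, pow_succ', MulAut.mul_apply]
    rw [h6, h5]
    rfl
  have hlamN : lam ^ (q - 1) = 1 := by
    rw [← hK]; exact FiniteField.pow_card_sub_one_eq_one lam hlam0
  obtain ⟨π, φ, ω, πm, φm, hpv, hkr, hsqf⟩ := HS.Good.coords S hQ hlam hG hna' (q - 1) hNodd hρN hlamN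
  -- the square root
  let rt : K → K := fun x => x ^ (2 ^ (n - 1))
  have rt_sq : ∀ x, (rt x) ^ 2 = x := by
    intro x
    show (x ^ (2 ^ (n - 1))) ^ 2 = x
    rw [← pow_mul, ← pow_succ, show n - 1 + 1 = n by omega, ← hq, ← hK]
    exact FiniteField.pow_card x
  have rt_add : ∀ x y, rt (x + y) = rt x + rt y := by
    intro x y
    show (x + y) ^ (2 ^ (n - 1)) = x ^ (2 ^ (n - 1)) + y ^ (2 ^ (n - 1))
    exact add_pow_char_pow x y 2 (n - 1)
  have sq_inj : ∀ x y : K, x ^ 2 = y ^ 2 → x = y := by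
    intro x y h
    have h5 : (x + y) ^ 2 = 0 := by linear_combination h + (x * y + y ^ 2) * h2K
    have h6 := pow_eq_zero_iff (two_ne_zero) |>.mp h5
    exact CharTwo.add_eq_zero.mp h6
  have rt_of : ∀ x, rt (x ^ 2) = x := fun x => sq_inj _ _ (rt_sq _)
  let A : Q → K := fun x => rt (π x)
  let D : Q → K := fun x => rt (φ x)
  have Am : ∀ x y, A (x * y) = A x + A y := fun x y => by
    show rt (π (x * y)) = rt (π x) + rt (π y)
    rw [πm, rt_add]
  have Dm : ∀ x y, D (x * y) = D x + D y := fun x y => by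
    show rt (φ (x * y)) = rt (φ x) + rt (φ y)
    rw [φm, rt_add]
  have hAsq : ∀ x, A x ^ 2 = π x := fun x => rt_sq _
  have hDsq : ∀ x, D x ^ 2 = φ x := fun x => rt_sq _
  have hsurj : ∀ s r, ∃ x, A x = s ∧ D x = r := by
    intro s r
    obtain ⟨x, h5, h6⟩ := hpv (s ^ 2) (r ^ 2)
    refine ⟨x, ?_, ?_⟩
    · show rt (π x) = s
      rw [h5, rt_of]
    · show rt (φ x) = r
      rw [h6, rt_of]
  have hker : ∀ x, (A x = 0 ∧ D x = 0) ↔ ∃ b, x = S.ι b := by
    intro x
    rw [← hkr, ← hAsq, ← hDsq]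
    constructor
    · rintro ⟨h5, h6⟩
      rw [h5, h6]
      simp
    · rintro ⟨h5, h6⟩
      exact ⟨pow_eq_zero_iff (two_ne_zero) |>.mp h5, pow_eq_zero_iff (two_ne_zero) |>.mp h6⟩
  have hform : ∀ x t, x * x = S.ι t → t = A x ^ 2 + A x * D x + ω * D x ^ 2 := by
    intro x t ht
    have h5 := hsqf x t ht
    rw [← hAsq, ← hDsq] at h5
    have h6 : t + A x ^ 2 + ω * D x ^ 2 = A x * D x := sq_inj _ _ (by rw [h5]; ring)
    linear_combination h6 - (A x ^ 2 + ω * D x ^ 2) * h2K
  by_cases hω : ∃ r : K, r ^ 2 + r = ω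
  · -- the linear case
    right
    obtain ⟨r, hr⟩ := hω
    obtain ⟨e⟩ := target_L3 (K := K) (fun x => A x + r * D x) (fun x => A x + (r + 1) * D x)
      (fun x y => by
        show A (x * y) + r * D (x * y) = _
        rw [Am, Dm]; ring)
      (fun x y => by
        show A (x * y) + (r + 1) * D (x * y) = _
        rw [Am, Dm]; ring)
      (by
        intro s t
        obtain ⟨x, h5, h6⟩ := hsurj (s + r * (s + t)) (s + t)
        refine ⟨x, ?_, ?_⟩
        · show A x + r * D x = s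
          rw [h5, h6]
          linear_combination (r * (s + t)) * h2K
        · show A x + (r + 1) * D x = t
          rw [h5, h6]
          linear_combination (r * (s + t) + s) * h2K)
      S.ι S.ι_add S.ι_inj
      (by
        intro x
        rw [← hker]
        constructor
        · rintro ⟨h5, h6⟩
          have h5' : A x + r * D x = 0 := h5
          have h6' : A x + (r + 1) * D x = 0 := h6
          have h7 : D x = 0 := by
            linear_combination h6' - h5'
          refine ⟨?_, h7⟩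
          rw [h7, mul_zero, add_zero] at h5'
          exact h5'
        · rintro ⟨h5, h6⟩
          constructor
          · show A x + r * D x = 0
            rw [h5, h6]; ring
          · show A x + (r + 1) * D x = 0
            rw [h5, h6]; ring)
      (S.ι_central hQ hlam) hG.sq
      (by
        intro x t ht
        rw [hform x t ht, ← hr]
        linear_combination (-(A x) * (r * D x)) * h2K)
    obtain ⟨e'⟩ := U_equiv_Ubar (K := K)
    exact ⟨K, inferInstance, inferInstance, hK, Cfsg.Agent.Lib.PSLFusion.sylowUbar 2 (by norm_num), ⟨e.trans e'⟩⟩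
  · -- the unitary case
    left
    obtain ⟨θ₀, hθ₀⟩ := Cfsg.Agent.Lib.UnitaryE.exists_trace_one hF
    let ω₀ : K := ⟨θ₀ * θ₀ ^ q, (mem_fixK hF).mpr (nrm_fixed hF θ₀)⟩
    have hω₀L : (ω₀ : L) = θ₀ * θ₀ ^ q := rfl
    have hθq : θ₀ ^ q = θ₀ + 1 := by linear_combination hθ₀ - θ₀ * h2
    let wp : K →+ K :=
      { toFun := fun r => r ^ 2 + r
        map_zero' := by ring
        map_add' := fun x y => by linear_combination (x * y) * h2K }
    have hwp : ∀ r, wp r = r ^ 2 + r := fun _ => rfl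
    have hker2 : ∀ x : K, x ∈ wp.ker ↔ x = 0 ∨ x = 1 := by
      intro x
      rw [AddMonoidHom.mem_ker, hwp]
      constructor
      · intro h
        have h5 : x * (x + 1) = 0 := by linear_combination h
        rcases mul_eq_zero.mp h5 with h6 | h6
        · exact Or.inl h6
        · exact Or.inr (CharTwo.add_eq_zero.mp h6)
      · rintro (rfl | rfl)
        · ring
        · linear_combination h2K
    have hcardker : Nat.card wp.ker = 2 := by
      have e2 : wp.ker ≃ Fin 2 :=
        { toFun := fun x => if x.1 = 0 then 0 else 1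
          invFun := fun i => if i = 0 then ⟨0, (hker2 0).mpr (Or.inl rfl)⟩ else ⟨1, (hker2 1).mpr (Or.inr rfl)⟩
          left_inv := by
            rintro ⟨x, hx⟩
            rcases (hker2 x).mp hx with rfl | rfl
            · simp
            · simp
          right_inv := by
            intro i
            fin_cases i
            · simp
            · simp }
      rw [Nat.card_congr e2]
      simp
    have hindex : wp.range.index = 2 := by
      have h5 := AddSubgroup.card_mul_index wp.ker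
      have h6 := AddSubgroup.card_mul_index wp.range
      rw [AddSubgroup.index_ker, hcardker] at h5
      have h7 : 0 < Nat.card wp.range := Nat.card_pos
      have h8 : Nat.card wp.range * 2 = Nat.card wp.range * wp.range.index := by
        rw [h6, ← h5]; ring
      exact (Nat.eq_of_mul_eq_mul_left h7 h8).symm
    have hωn : ω ∉ wp.range := by
      rintro ⟨r, hr⟩
      exact hω ⟨r, hr⟩
    have hω₀n : ω₀ ∉ wp.range := by
      rintro ⟨r, hr⟩
      have h5 : ((r : L)) ^ 2 + (r : L) = θ₀ * θ₀ ^ q := by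
        rw [← hω₀L, ← hr, hwp]
        rfl
      have hrq : (r : L) ^ q = r := (mem_fixK hF).mp r.2
      have h6 : (θ₀ + r) * (θ₀ + r + 1) = 0 := by
        rw [hθq] at h5
        linear_combination h5 + (θ₀ ^ 2 + θ₀ * r + θ₀) * h2
      have h7 : (θ₀ : L) ^ q = θ₀ := by
        rcases mul_eq_zero.mp h6 with h8 | h8
        · have h9 : θ₀ = r := CharTwo.add_eq_zero.mp h8
          rw [h9]; exact hrq
        · have h9 : θ₀ = r + 1 := by linear_combination h8 - (r + 1) * h2
          rw [h9, add_pow_q hF, hrq, one_pow]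
      rw [h7] at hθ₀
      apply one_ne_zero (α := L)
      rw [← hθ₀]
      linear_combination θ₀ * h2
    have hsum : ω + ω₀ ∈ wp.range :=
      (AddSubgroup.add_mem_iff_of_index_two hindex).mpr (by simp [hωn, hω₀n])
    obtain ⟨r₁, hr₁⟩ := hsum
    rw [hwp] at hr₁
    have hr₁L : (r₁ : L) ^ 2 + (r₁ : L) = (ω : L) + θ₀ * θ₀ ^ q := by
      rw [← hω₀L]
      exact congrArg Subtype.val hr₁
    have hr₁q : (r₁ : L) ^ q = r₁ := (mem_fixK hF).mp r₁.2
    set θ₁ : L := θ₀ + r₁ with hθ₁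
    have hθ₁q : θ₁ ^ q = θ₁ + 1 := by
      rw [hθ₁, add_pow_q hF, hθq, hr₁q]
      ring
    have hθ₁2 : θ₁ ^ 2 + θ₁ = (ω : L) := by
      rw [hθq] at hr₁L
      rw [hθ₁]
      linear_combination hr₁L + (θ₀ ^ 2 + θ₀ + θ₀ * r₁) * h2
    have hcoeq : ∀ a : K, (a : L) ^ q = a := fun a => (mem_fixK hF).mp a.2
    let P : Q → L := fun x => (A x : L) + (D x : L) * θ₁
    have hPq : ∀ x, P x ^ q = (A x : L) + (D x : L) * (θ₁ + 1) := by
      intro x
      show ((A x : L) + (D x : L) * θ₁) ^ q = _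
      rw [add_pow_q hF, mul_pow, hcoeq, hcoeq, hθ₁q]
    obtain ⟨e⟩ := target_U3 hF h2 P
      (fun x y => by
        show (A (x * y) : L) + (D (x * y) : L) * θ₁ = _
        rw [Am, Dm, Subfield.coe_add, Subfield.coe_add]
        show _ = (A x : L) + (D x : L) * θ₁ + ((A y : L) + (D y : L) * θ₁)
        ring)
      (by
        intro d
        have hC1 : d + d ^ q ∈ K₀ := by
          apply (mem_fixK hF).mpr
          rw [add_pow_q hF, pow_q_pow_q hF, add_comm]
        have hA1 : d + (d + d ^ q) * θ₁ ∈ K₀ := by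
          apply (mem_fixK hF).mpr
          rw [add_pow_q hF, mul_pow, add_pow_q hF, pow_q_pow_q hF, hθ₁q]
          linear_combination d ^ q * h2
        obtain ⟨x, h5, h6⟩ := hsurj ⟨_, hA1⟩ ⟨_, hC1⟩
        refine ⟨x, ?_⟩
        show (A x : L) + (D x : L) * θ₁ = d
        rw [h5, h6]
        show d + (d + d ^ q) * θ₁ + (d + d ^ q) * θ₁ = d
        linear_combination ((d + d ^ q) * θ₁) * h2)
      S.ι S.ι_add S.ι_inj
      (by
        intro x
        rw [← hker]
        have hx1 : P x = (A x : L) + (D x : L) * θ₁ := rfl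
        constructor
        · intro h
          have h5 := hPq x
          rw [h, zero_pow (by omega)] at h5
          have h6 : (D x : L) = 0 := by
            rw [hx1] at h
            linear_combination -h5 - h
          have h7 : (A x : L) = 0 := by
            rw [hx1, h6, zero_mul, add_zero] at h
            exact h
          exact ⟨Subtype.ext h7, Subtype.ext h6⟩
        · rintro ⟨h5, h6⟩
          show (A x : L) + (D x : L) * θ₁ = 0
          rw [h5, h6]
          simp)
      (S.ι_central hQ hlam) hG.sq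
      (by
        intro x t ht
        rw [hPq, hform x t ht]
        show ((A x) ^ 2 + A x * D x + ω * (D x) ^ 2 : K).1 = _
        have : ((A x) ^ 2 + A x * D x + ω * (D x) ^ 2 : K).1 = (A x : L) ^ 2 + (A x : L) * (D x : L) + (ω : L) * (D x : L) ^ 2 := rfl
        rw [this, ← hθ₁2]
        show _ = ((A x : L) + (D x : L) * θ₁) * _
        linear_combination (-(A x : L) * (D x : L) * θ₁) * h2)
    obtain ⟨S', ⟨e'⟩⟩ := T_sylow (by omega) hF h2
    refine ⟨L, inferInstance, inferInstance, ?_, S', ⟨e.trans e'⟩⟩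
    rw [hF, hq, ← pow_mul, mul_comm, pow_mul]
    norm_num

end U3

/-- Let Q be a non-abelian finite 2-group admitting commuting automorphisms α of order 2 and ρ of order 2^n − 1, where n ≥ 2, such that the fixed points of α form an elementary abelian subgroup of order 2^n on whose nonidentity elements the group generated by ρ acts transitively. Then Q is isomorphic to a Sylow 2-subgroup of the projective special unitary group of dimension 3 with parameter 2^n (realised over the field with 4^n elements) or of the projective special linear group of dimension 3 over the field with 2^n elements. -/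
theorem result {Q : Type*} [Group Q] [Finite Q] (hQ : IsPGroup 2 Q) (hna : ¬ IsMulCommutative Q) (n : ℕ) (hn : 2 ≤ n)
    (α ρ : MulAut Q) (hα : orderOf α = 2) (hρ : orderOf ρ = 2 ^ n - 1) (hc : Commute α ρ)
    (C : Subgroup Q) (hC : ∀ x : Q, x ∈ C ↔ α x = x) (hCE : Cfsg.IsElementaryAbelian 2 C ∧ Nat.card ↥C = 2 ^ n)
    (htr : ∀ x y : Q, x ∈ C → y ∈ C → x ≠ 1 → y ≠ 1 → ∃ k : ℕ, (ρ ^ k) x = y) :
    (∃ (F : Type) (_ : Field F) (_ : Fintype F), Fintype.card F = 4 ^ n ∧
        ∃ S : Sylow 2 (Cfsg.PSU 3 F (2 ^ n)), Nonempty (Q ≃* ↥(S : Subgroup (Cfsg.PSU 3 F (2 ^ n))))) ∨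
      (∃ (F : Type) (_ : Field F) (_ : Fintype F), Fintype.card F = 2 ^ n ∧
        ∃ S : Sylow 2 (Matrix.ProjectiveSpecialLinearGroup (Fin 3) F), Nonempty (Q ≃* ↥(S : Subgroup (Matrix.ProjectiveSpecialLinearGroup (Fin 3) F)))) := by
  classical
  haveI : Fact (Nat.Prime 2) := ⟨Nat.prime_two⟩
  have hcard := GaloisField.card 2 (2 * n) (by omega)
  haveI : Finite (GaloisField 2 (2 * n)) := Nat.finite_of_card_ne_zero (by rw [hcard]; positivity)
  letI : Fintype (GaloisField 2 (2 * n)) := Fintype.ofFinite _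
  have hF : Fintype.card (GaloisField 2 (2 * n)) = (2 ^ n) ^ 2 := by
    rw [← Nat.card_eq_fintype_card, hcard, ← pow_mul, mul_comm]
  have h2 : (2 : GaloisField 2 (2 * n)) = 0 := by
    exact_mod_cast CharP.cast_eq_zero (GaloisField 2 (2 * n)) 2
  exact main_L hQ hna n hn α ρ hα hρ hc C hC hCE htr hF h2

end Cfsg.Agent.S3161
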