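import Mathlib
import Cfsg.Statements.S3162
import Cfsg.Agent.Lib.AutQuad
import Cfsg.Agent.S3315

set_option autoImplicit false
open Cfsg

namespace Cfsg.Agent.S3162

section
open Cfsg.Agent.Lib.SU3Heis Cfsg.Agent.Lib.AutQuad

variable {F : Type*} [Field F] [Fintype F] {n : ℕ}

/-- Coordinates on the explicit Sylow subgroup. -/
noncomputable def coordT (hF : Fintype.card F = (2 ^ n) ^ 2) (h2 : (2 : F) = 0) :
    Coord (T hF h2) F n where
  δ g := δ g.1
  η g := η g.1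
  R d e := e + e ^ (2 ^ n) = d * d ^ (2 ^ n)
  δ_mul g h := δ_mul hF h2 g h
  η_mul g h := η_mul hF h2 g h
  ext g h h1 h3 := T_ext hF h2 h1 h3
  rel g := Cfsg.Agent.Lib.SU3Heis.rel hF h2 g
  exists_mk d e h := exists_T hF h2 h
  R_scale c hc i d e h := by
    haveI : CharP F 2 := CharTwo.of_one_ne_zero_of_two_eq_zero one_ne_zero h2
    have hadd := Cfsg.Agent.Lib.HermCount.add_pow_q hF
    have hqq := Cfsg.Agent.Lib.HermCount.pow_q_pow_q hF
    have hcq : (c ^ (2 ^ n + 1)) ^ 2 ^ n = c ^ (2 ^ n + 1) := by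
      rw [pow_succ, mul_pow, hqq]
      ring
    have he : (e + e ^ 2 ^ n) ^ 2 ^ i = (d * d ^ 2 ^ n) ^ 2 ^ i := by rw [h]
    rw [add_pow_char_pow] at he
    rw [mul_pow, hcq, mul_pow c, pow_succ c]
    have h1 : (e ^ 2 ^ i) ^ 2 ^ n = (e ^ 2 ^ n) ^ 2 ^ i := by
      rw [← pow_mul, ← pow_mul, mul_comm]
    have h3 : (d ^ 2 ^ i) ^ 2 ^ n = (d ^ 2 ^ n) ^ 2 ^ i := by
      rw [← pow_mul, ← pow_mul, mul_comm]
    rw [h1, h3]
    rw [mul_pow] at he
    linear_combination (c ^ 2 ^ n * c) * he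
  surj d := by
    obtain ⟨e, he⟩ := Cfsg.Agent.Lib.UnitaryE.exists_trace_eq hF (nrm_fixed hF d)
    exact ⟨e, he⟩
  center_iff g := mem_center_iff hF h2 g
  sq_surj z hz := by
    by_cases h1 : z = 1
    · exact ⟨1, by rw [h1, one_pow]⟩
    · have h3 := card_sqrt hF h2 hz h1
      have hq := Cfsg.Agent.Lib.HermCount.two_le_q hF
      have h4 : 0 < Nat.card {s : T hF h2 // s ^ 2 = z} := by
        rw [h3]; positivity
      haveI : Nonempty {s : T hF h2 // s ^ 2 = z} := (Nat.card_pos_iff.mp h4).1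
      obtain ⟨⟨x, hx⟩⟩ := ‹Nonempty {s : T hF h2 // s ^ 2 = z}›
      exact ⟨x, hx⟩

theorem main {S : Type*} [Group S] [Finite S] (n : ℕ) (hn : 2 ≤ n) {F : Type*} [Field F] [Fintype F] (hF : Fintype.card F = 4 ^ n)
    (P : Sylow 2 ↥(Cfsg.SU 3 F (2 ^ n))) (hS : Nonempty (S ≃* ↥(P : Subgroup ↥(Cfsg.SU 3 F (2 ^ n))))) :
    Cfsg.IsElementaryAbelian 2 (Cfsg.pCore 2 (MulAut S)) ∧ Nat.card ↥(Cfsg.pCore 2 (MulAut S)) = 2 ^ (2 * n ^ 2) ∧
      Nat.card (MulAut S) = 2 ^ (2 * n ^ 2) * (2 * n * ((2 ^ n) ^ 2 - 1)) := by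
  obtain ⟨f⟩ := hS
  have hF' : Fintype.card F = (2 ^ n) ^ 2 := by
    rw [hF, ← pow_mul, mul_comm, pow_mul]; norm_num
  have hF2 : Fintype.card F = 2 ^ (2 * n) := by
    rw [hF', ← pow_mul, mul_comm]
  have h2 : (2 : F) = 0 := by
    have h0 : ((Fintype.card F : ℕ) : F) = 0 := Nat.cast_card_eq_zero F
    rw [hF2] at h0
    push_cast at h0
    exact pow_eq_zero_iff (by omega) |>.1 h0
  haveI : CharP F 2 := CharTwo.of_one_ne_zero_of_two_eq_zero one_ne_zero h2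
  obtain ⟨g⟩ := Cfsg.Agent.S3315.sylow_equiv rfl (by omega) hF' h2 P
  let e : S ≃* T hF' h2 := f.trans g
  have hZ : Nat.card (Subgroup.center S) = 2 ^ n := by
    rw [Nat.card_congr (Subgroup.centerCongr e).toEquiv, card_center_T]
  have hs : ∀ i j, i < 2 * n → j < 2 * n → i ≠ j →
      (j + 2 * n) % (2 * n) ≠ i ∨ (i + 2 * n) % (2 * n) ≠ j := by
    intro i j _ hj hij
    left
    rw [Nat.add_mod_right, Nat.mod_eq_of_lt hj]
    exact hij.symm
  have h := Coord.main (Coord.ofEquiv e (coordT hF' h2)) (N := 2 * n) (r := n) hF2 (by omega)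
    (by omega) (by omega) hs hZ
  have hnn : 2 * n * n = 2 * n ^ 2 := by ring
  have h22 : (2 ^ n) ^ 2 = 2 ^ (2 * n) := by rw [← pow_mul, mul_comm]
  rw [hnn] at h
  rw [h22]
  exact h

end

/-- Let S be a Sylow 2-subgroup of the special unitary group of dimension 3 with parameter q = 2^n (n ≥ 2; realised over the field with q² elements). Then the largest normal 2-subgroup of the automorphism group of S is elementary abelian of order 2^(2n²), and the automorphism group has order 2^(2n²) · 2n(q² − 1). -/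
theorem result {S : Type*} [Group S] [Finite S] (n : ℕ) (hn : 2 ≤ n) {F : Type*} [Field F] [Fintype F] (hF : Fintype.card F = 4 ^ n)
    (P : Sylow 2 ↥(Cfsg.SU 3 F (2 ^ n))) (hS : Nonempty (S ≃* ↥(P : Subgroup ↥(Cfsg.SU 3 F (2 ^ n))))) :
    Cfsg.IsElementaryAbelian 2 (Cfsg.pCore 2 (MulAut S)) ∧ Nat.card ↥(Cfsg.pCore 2 (MulAut S)) = 2 ^ (2 * n ^ 2) ∧
      Nat.card (MulAut S) = 2 ^ (2 * n ^ 2) * (2 * n * ((2 ^ n) ^ 2 - 1)) :=
  main n hn hF P hS

end Cfsg.Agent.S3162
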