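import Mathlib
import Cfsg.Statements.S3184
import Cfsg.Agent.Lib.ZStar
import Cfsg.Agent.Lib.QuatSylow

set_option autoImplicit false
open Cfsg

namespace Cfsg.Agent.S3184

theorem mem_smul_sylow {G : Type*} [Group G] [Finite G] (P : Sylow 2 G) (g w : G) :
    w ∈ ((g • P : Sylow 2 G) : Subgroup G) ↔ g⁻¹ * w * g ∈ (P : Subgroup G) := by
  rw [Sylow.smul_def, Sylow.pointwise_smul_def]
  constructor
  · rintro ⟨s, hs, hw⟩
    have hw' : g * s * g⁻¹ = w := hw
    rw [← hw']
    have : g⁻¹ * (g * s * g⁻¹) * g = s := by group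
    rw [this]
    exact hs
  · intro h
    refine ⟨_, h, ?_⟩
    show g * (g⁻¹ * w * g) * g⁻¹ = w
    group

/-- Let G be a finite group in which the intersection of any two distinct Sylow 2-subgroups is contained in the centre of some Sylow 2-subgroup, and let S be a Sylow 2-subgroup. If C is a nontrivial cyclic characteristic subgroup of S, then the involution of C is central modulo the largest normal subgroup of odd order of G: each of its conjugates has the same image in G/O(G). -/
theorem result {G : Type*} [Group G] [Finite G]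
    (hCI : ∀ S T : Sylow 2 G, S ≠ T → ∃ U : Sylow 2 G,
      (S : Subgroup G) ⊓ (T : Subgroup G) ≤ (Subgroup.center ↥(U : Subgroup G)).map (U : Subgroup G).subtype)
    (S : Sylow 2 G) (C : Subgroup ↥(S : Subgroup G)) (hC : C ≠ ⊥) (hCc : IsCyclic ↥C) (hCh : C.Characteristic)
    (c : ↥(S : Subgroup G)) (hc : c ∈ C) (hc2 : orderOf c = 2) :
    ∀ g : G, (QuotientGroup.mk (s := Cfsg.oddCore G) (g * (c : G) * g⁻¹)) =
      QuotientGroup.mk (s := Cfsg.oddCore G) (c : G) := by
  classical
  haveI hf : Fact (Nat.Prime 2) := ⟨Nat.prime_two⟩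
  set c₀ : G := (c : G) with hc₀
  have hco : orderOf c₀ = 2 := by rw [hc₀, Subgroup.orderOf_coe, hc2]
  have hcc : c₀ * c₀ = 1 := by rw [← pow_two, ← hco, pow_orderOf_eq_one]
  -- the involution of `C` is unique
  have huniq : ∀ w : (S : Subgroup G), w ∈ C → orderOf w = 2 → w = c := by
    intro w hw hwo
    haveI : Fintype C := Fintype.ofFinite C
    have hd : 2 ∣ Fintype.card C := by
      rw [← Nat.card_eq_fintype_card]
      have h1 := orderOf_dvd_natCard (⟨c, hc⟩ : C)
      rwa [Subgroup.orderOf_mk, hc2] at h1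
    have h1 := IsCyclic.card_orderOf_eq_totient (α := C) (d := 2) hd
    rw [Nat.totient_two] at h1
    obtain ⟨a, ha⟩ := Finset.card_eq_one.1 h1
    have h2 : (⟨w, hw⟩ : C) ∈ Finset.univ.filter (fun a : C => orderOf a = 2) := by
      simp [Subgroup.orderOf_mk, hwo]
    have h3 : (⟨c, hc⟩ : C) ∈ Finset.univ.filter (fun a : C => orderOf a = 2) := by
      simp [Subgroup.orderOf_mk, hc2]
    rw [ha, Finset.mem_singleton] at h2 h3
    have h4 := h2.trans h3.symm
    exact congrArg Subtype.val h4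
  have hfix : ∀ f : (S : Subgroup G) ≃* (S : Subgroup G), f c = c := by
    intro f
    apply huniq
    · have h1 : c ∈ C.comap f.toMonoidHom := by
        rw [hCh.fixed f]
        exact hc
      exact h1
    · rw [MulEquiv.orderOf_eq, hc2]
  have hNfix : ∀ n : G, (∀ s ∈ (S : Subgroup G), n * s * n⁻¹ ∈ (S : Subgroup G)) →
      n * c₀ * n⁻¹ = c₀ := by
    intro n hn
    let f : (S : Subgroup G) →* (S : Subgroup G) :=
      { toFun := fun s => ⟨n * s * n⁻¹, hn s s.2⟩
        map_one' := by
          apply Subtype.ext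
          simp
        map_mul' := by
          intro a b
          apply Subtype.ext
          show n * (a * b : G) * n⁻¹ = (n * a * n⁻¹) * (n * b * n⁻¹)
          group }
    have hinj : Function.Injective f := by
      intro a b hab
      have h1 : n * (a : G) * n⁻¹ = n * (b : G) * n⁻¹ := congrArg Subtype.val hab
      exact Subtype.ext (mul_left_cancel (mul_right_cancel h1))
    have hb : Function.Bijective f := Finite.injective_iff_bijective.1 hinj
    have h2 := hfix (MulEquiv.ofBijective f hb)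
    exact congrArg Subtype.val h2
  have hZ : ∀ s ∈ (S : Subgroup G), s * c₀ * s⁻¹ = c₀ := by
    intro s hs
    apply hNfix
    intro t ht
    exact (S : Subgroup G).mul_mem ((S : Subgroup G).mul_mem hs ht) ((S : Subgroup G).inv_mem hs)
  have hZ' : ∀ s ∈ (S : Subgroup G), s * c₀ = c₀ * s := by
    intro s hs
    have h1 := hZ s hs
    rwa [mul_inv_eq_iff_eq_mul] at h1
  have hcS : c₀ ∈ (S : Subgroup G) := c.2
  -- conjugates in the centre of `S`
  have claim1 : ∀ g : G, (∀ s ∈ (S : Subgroup G), s * (g * c₀ * g⁻¹) = (g * c₀ * g⁻¹) * s) →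
      g * c₀ * g⁻¹ = c₀ := by
    intro g hg
    set x := g * c₀ * g⁻¹ with hx
    have hSH : (S : Subgroup G) ≤ Subgroup.centralizer ({x} : Set G) := by
      intro s hs
      rw [Subgroup.mem_centralizer_singleton_iff]
      exact hg s hs
    have hQH : ((g • S : Sylow 2 G) : Subgroup G) ≤ Subgroup.centralizer ({x} : Set G) := by
      intro w hw
      rw [mem_smul_sylow] at hw
      rw [Subgroup.mem_centralizer_singleton_iff, hx]
      have h1 := hZ' _ hw
      calc w * (g * c₀ * g⁻¹) = g * ((g⁻¹ * w * g) * c₀) * g⁻¹ := by group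
        _ = g * (c₀ * (g⁻¹ * w * g)) * g⁻¹ := by rw [h1]
        _ = _ := by group
    obtain ⟨h, hh, hhw⟩ := Cfsg.Agent.Lib.QuatSylow.exists_conj_mem_rel S hSH
      (g • S : Sylow 2 G).isPGroup' hQH
    rw [Subgroup.mem_centralizer_singleton_iff] at hh
    have h1 := hNfix (h * g) (by
      intro s hs
      have h2 := hhw (g * s * g⁻¹) ((mem_smul_sylow S g _).2 (by
        have : g⁻¹ * (g * s * g⁻¹) * g = s := by group
        rw [this]
        exact hs))
      have h3 : h * g * s * (h * g)⁻¹ = h * (g * s * g⁻¹) * h⁻¹ := by group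
      rw [h3]
      exact h2)
    have h4 : h * g * c₀ * (h * g)⁻¹ = x := by
      calc h * g * c₀ * (h * g)⁻¹ = h * x * h⁻¹ := by rw [hx]; group
        _ = x := by rw [hh]; group
    rw [← h4, h1]
  -- isolated
  have hiso : Cfsg.IsIsolatedInvolution c₀ := by
    refine ⟨hco, fun g hcomm => ?_⟩
    by_contra hne
    set x := g * c₀ * g⁻¹ with hx
    have hxo : orderOf x = 2 := by
      rw [hx, Cfsg.Agent.Lib.QuatSylow.orderOf_conj_aux, hco]
    have hSC₀ : (S : Subgroup G) ≤ Subgroup.centralizer ({c₀} : Set G) := by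
      intro s hs
      rw [Subgroup.mem_centralizer_singleton_iff]
      exact hZ' s hs
    have hxC₀ : x ∈ Subgroup.centralizer ({c₀} : Set G) := by
      rw [Subgroup.mem_centralizer_singleton_iff]
      exact hcomm.eq.symm
    obtain ⟨k, hk, hkx⟩ := Cfsg.Agent.Lib.QuatSylow.exists_conj_mem_rel S hSC₀
      (Cfsg.Agent.Lib.QuatSylow.isPGroup_zpowers_of_orderOf (k := 1) (y := x) (by rw [hxo]; norm_num))
      (by rw [Subgroup.zpowers_le]; exact hxC₀)
    have hk' := (Subgroup.mem_centralizer_singleton_iff).1 hk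
    set x' := k * x * k⁻¹ with hx'
    have hx'S : x' ∈ (S : Subgroup G) := hkx x (Subgroup.mem_zpowers x)
    set g' := k * g with hg'
    have hx'g : x' = g' * c₀ * g'⁻¹ := by
      rw [hx', hx, hg']
      group
    have hx'ne : x' ≠ c₀ := by
      intro h
      apply hne
      calc x = k⁻¹ * x' * k := by rw [hx']; group
        _ = k⁻¹ * c₀ * k := by rw [h]
        _ = k⁻¹ * (k * c₀) := by rw [mul_assoc, hk']
        _ = c₀ := by group
    have hx'c : c₀ * x' = x' * c₀ := by
      have hxc : x * c₀ = c₀ * x := hcomm.eq.symm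
      rw [hx']
      calc c₀ * (k * x * k⁻¹) = (c₀ * k) * x * k⁻¹ := by group
        _ = (k * c₀) * x * k⁻¹ := by rw [hk']
        _ = k * (c₀ * x) * k⁻¹ := by group
        _ = k * (x * c₀) * k⁻¹ := by rw [hxc]
        _ = k * x * (c₀ * k⁻¹) := by group
        _ = k * x * (k⁻¹ * c₀) := by
          congr 1
          have := (Commute.inv_left (show Commute k c₀ from hk')).eq
          exact this.symm
        _ = _ := by group
    set H := Subgroup.centralizer ({x'} : Set G) with hH
    have hP'H : ((g' • S : Sylow 2 G) : Subgroup G) ≤ H := by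
      intro w hw
      rw [mem_smul_sylow] at hw
      rw [hH, Subgroup.mem_centralizer_singleton_iff, hx'g]
      have h1 := hZ' _ hw
      calc w * (g' * c₀ * g'⁻¹) = g' * ((g'⁻¹ * w * g') * c₀) * g'⁻¹ := by group
        _ = g' * (c₀ * (g'⁻¹ * w * g')) * g'⁻¹ := by rw [h1]
        _ = _ := by group
    have hD : IsPGroup 2 ((S : Subgroup G) ⊓ H : Subgroup G) :=
      S.isPGroup'.to_le inf_le_left
    obtain ⟨t, ht, htD⟩ := Cfsg.Agent.Lib.QuatSylow.exists_conj_mem_rel (g' • S : Sylow 2 G) hP'H hD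
      inf_le_right
    set T : Sylow 2 G := t⁻¹ • (g' • S : Sylow 2 G) with hT
    have hDT : ((S : Subgroup G) ⊓ H : Subgroup G) ≤ (T : Subgroup G) := by
      intro w hw
      rw [hT, mem_smul_sylow, inv_inv]
      exact htD w hw
    have hTH : (T : Subgroup G) ≤ H := by
      intro w hw
      rw [hT, mem_smul_sylow, inv_inv] at hw
      have h1 := hP'H hw
      have h2 : w = t⁻¹ * (t * w * t⁻¹) * t := by group
      rw [h2]
      exact H.mul_mem (H.mul_mem (H.inv_mem ht) h1) ht
    have hTS : T ≠ S := by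
      intro h
      apply hx'ne
      rw [hx'g]
      apply claim1
      intro s hs
      have h1 : s ∈ H := hTH (by rw [h]; exact hs)
      rw [hH, Subgroup.mem_centralizer_singleton_iff] at h1
      rw [← hx'g]
      exact h1
    obtain ⟨U, hU⟩ := hCI S T (Ne.symm hTS)
    have hmemST : ∀ w ∈ ((S : Subgroup G) ⊓ H : Subgroup G), w ∈ (U : Subgroup G) ∧
        ∀ v ∈ (U : Subgroup G), v * w = w * v := by
      intro w hw
      have h1 : w ∈ (S : Subgroup G) ⊓ (T : Subgroup G) := ⟨hw.1, hDT hw⟩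
      obtain ⟨u, hu, rfl⟩ := hU h1
      refine ⟨u.2, fun v hv => ?_⟩
      have h2 := (Subgroup.mem_center_iff.1 hu) ⟨v, hv⟩
      exact congrArg Subtype.val h2
    have hcD : c₀ ∈ ((S : Subgroup G) ⊓ H : Subgroup G) := by
      refine Subgroup.mem_inf.2 ⟨hcS, ?_⟩
      rw [hH, Subgroup.mem_centralizer_singleton_iff]
      exact hx'c
    have hxD : x' ∈ ((S : Subgroup G) ⊓ H : Subgroup G) := by
      refine Subgroup.mem_inf.2 ⟨hx'S, ?_⟩
      rw [hH, Subgroup.mem_centralizer_singleton_iff]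
    obtain ⟨hcU, hcU'⟩ := hmemST c₀ hcD
    obtain ⟨hxU, hxU'⟩ := hmemST x' hxD
    have hUC₀ : (U : Subgroup G) ≤ Subgroup.centralizer ({c₀} : Set G) := by
      intro v hv
      rw [Subgroup.mem_centralizer_singleton_iff]
      exact hcU' v hv
    obtain ⟨k₂, hk₂, hk₂w⟩ := Cfsg.Agent.Lib.QuatSylow.exists_conj_mem_rel S hSC₀ U.isPGroup' hUC₀
    have hk₂' := (Subgroup.mem_centralizer_singleton_iff).1 hk₂
    -- conjugation by `k₂` carries `U` onto `S`
    have hUS : ((k₂ • U : Sylow 2 G) : Subgroup G) = (S : Subgroup G) := by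
      apply Subgroup.eq_of_le_of_card_ge
      · intro w hw
        rw [mem_smul_sylow] at hw
        have h1 := hk₂w _ hw
        have h2 : k₂ * (k₂⁻¹ * w * k₂) * k₂⁻¹ = w := by group
        rwa [h2] at h1
      · rw [Sylow.card_eq_multiplicity S, Sylow.card_eq_multiplicity (k₂ • U : Sylow 2 G)]
    have h5 := claim1 (k₂ * g') (by
      intro s hs
      have h6 : s ∈ ((k₂ • U : Sylow 2 G) : Subgroup G) := by rw [hUS]; exact hs
      rw [mem_smul_sylow] at h6
      have h7 := hxU' _ h6
      have h8 : k₂ * g' * c₀ * (k₂ * g')⁻¹ = k₂ * x' * k₂⁻¹ := by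
        rw [hx'g]
        group
      rw [h8]
      calc s * (k₂ * x' * k₂⁻¹) = k₂ * ((k₂⁻¹ * s * k₂) * x') * k₂⁻¹ := by group
        _ = k₂ * (x' * (k₂⁻¹ * s * k₂)) * k₂⁻¹ := by rw [h7]
        _ = _ := by group)
    apply hx'ne
    have h8 : k₂ * g' * c₀ * (k₂ * g')⁻¹ = k₂ * x' * k₂⁻¹ := by
      rw [hx'g]
      group
    rw [h8] at h5
    calc x' = k₂⁻¹ * (k₂ * x' * k₂⁻¹) * k₂ := by group
      _ = k₂⁻¹ * c₀ * k₂ := by rw [h5]
      _ = k₂⁻¹ * (k₂ * c₀) := by rw [mul_assoc, hk₂']
      _ = c₀ := by group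
  intro g
  have h1 := Cfsg.Agent.Lib.ZStar.zstar hiso g
  rw [QuotientGroup.eq]
  have h2 : c₀ * (g * c₀ * g⁻¹)⁻¹ = (g * c₀ * g⁻¹ * c₀⁻¹)⁻¹ := by group
  have h3 : c₀ * (g * c₀ * g⁻¹)⁻¹ ∈ Cfsg.pPrimeCore 2 G := by
    rw [h2]
    exact inv_mem h1
  exact (Subgroup.Normal.mem_comm inferInstance h3)

end Cfsg.Agent.S3184
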