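import Cfsg.Statements.S3192
import Cfsg.Agent.Lib.ItoChain
import Cfsg.Agent.Lib.ItoAnti
import Cfsg.Agent.Lib.ItoSL2
import Cfsg.Agent.Lib.FCBase
import Cfsg.Agent.S0183
import Cfsg.Agent.S2202

set_option autoImplicit false
set_option linter.style.haveILetI false
set_option linter.unusedSectionVars false
open Cfsg

namespace Cfsg.Agent.S3192

section

open Subgroup Cfsg.Agent.Lib Cfsg.Agent.Lib.CoprimeClass Cfsg.Agent.Lib.ItoChain
  Cfsg.Agent.Lib.ItoAnti

universe u

variable {G : Type u} [Group G] [Finite G]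

/-- `PSL₂` is `SL₂` in characteristic two. -/
noncomputable def pslEquiv (F : Type) [Field F] [CharP F 2] :
    Matrix.ProjectiveSpecialLinearGroup (Fin 2) F ≃* Matrix.SpecialLinearGroup (Fin 2) F :=
  (QuotientGroup.quotientMulEquivOfEq (by
    rw [Subgroup.eq_bot_iff_forall]
    intro x hx
    obtain ⟨r, hr, hrx⟩ := Matrix.SpecialLinearGroup.mem_center_iff.mp hx
    have h1 : r = 1 := by
      have h2 : (r + 1) * (r + 1) = 0 := by
        have h3 : (2 : F) = 0 := ItoSL2.two_zero
        have h4 : r ^ 2 = 1 := by simpa using hr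
        linear_combination h4 + (r + 1) * h3
      have h5 : r + 1 = 0 := by simpa using h2
      have h6 : (2 : F) = 0 := ItoSL2.two_zero
      linear_combination h5 - h6
    apply Subtype.ext
    rw [← hrx, h1]
    simp)).trans QuotientGroup.quotientBot

theorem exists_hnab (hnc : ¬ IsMulCommutative G) : ∃ a b : G, a * b ≠ b * a := by
  by_contra hcon
  push Not at hcon
  exact hnc ⟨⟨hcon⟩⟩

/-- The three-element set of class sizes. -/
theorem exists_third {S : Set ℕ} (hS : S.ncard = 3) {a b : ℕ} (ha : a ∈ S) (hb : b ∈ S)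
    (hab : a ≠ b) : ∃ c ∈ S, c ≠ a ∧ c ≠ b ∧ S = {a, b, c} := by
  have hfin : S.Finite := Set.finite_of_ncard_ne_zero (by omega)
  have h1 : ({a, b} : Set ℕ).ncard < S.ncard := by
    rw [Set.ncard_pair hab, hS]
    omega
  obtain ⟨c, hc, hcn⟩ := Set.exists_mem_notMem_of_ncard_lt_ncard h1
  simp only [Set.mem_insert_iff, Set.mem_singleton_iff, not_or] at hcn
  refine ⟨c, hc, hcn.1, hcn.2, ?_⟩
  symm
  apply Set.eq_of_subset_of_ncard_le
  · intro x hx
    simp only [Set.mem_insert_iff, Set.mem_singleton_iff] at hx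
    rcases hx with rfl | rfl | rfl <;> assumption
  · rw [hS, Set.ncard_eq_three.2 ⟨a, b, c, hab, Ne.symm hcn.1, Ne.symm hcn.2, rfl⟩]
  · exact hfin

/-- The chain case is impossible. -/
theorem anti_of_three [IsSimpleGroup G] (hnab : ∃ a b : G, a * b ≠ b * a)
    (h3 : Set.ncard {m : ℕ | ∃ x : G, x ∉ center G ∧ m = (centralizer ({x} : Set G)).index} = 3) :
    Anti G := by
  by_contra hA
  unfold Anti at hA
  push Not at hA
  obtain ⟨x, y, hx, hy, hle, hne⟩ := hA
  have hcen := center_bot hnab
  have hd : cs y ∣ cs x := cs_dvd_of_le hle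
  have hcs : cs y ≠ cs x := fun h => hne (eq_of_le_of_cs hle h.symm)
  have hmem : ∀ z : G, z ≠ 1 → cs z ∈ {m : ℕ | ∃ x : G, x ∉ center G ∧
      m = (centralizer ({x} : Set G)).index} := by
    intro z hz
    refine ⟨z, ?_, rfl⟩
    rw [hcen]
    exact hz
  obtain ⟨c, hc, hc1, hc2, hS⟩ := exists_third h3 (hmem y hy) (hmem x hx) hcs
  obtain ⟨z, hz, hzc⟩ := hc
  have hz1 : z ≠ 1 := by
    rintro rfl
    exact hz (one_mem _)
  have hH : Hyp G (cs y) (cs x) c :=
    { nab := hnab
      all := fun w hw => by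
        have := hmem w hw
        rw [hS] at this
        simpa using this
      dvd := hd
      hij := hcs
      hki := hc1
      hkj := hc2
      exi := ⟨y, hy, rfl⟩
      exj := ⟨x, hx, rfl⟩
      exk := ⟨z, hz1, hzc.symm⟩ }
  exact hH.false_of_hyp

/-- Cyclic Sylow `2`-subgroups are excluded. -/
theorem not_cyclic [IsSimpleGroup G] (hnab : ∃ a b : G, a * b ≠ b * a)
    (hinv : ∀ t : G, orderOf t = 2 → ∀ a ∈ cz t, ∀ b ∈ cz t, a * b = b * a)
    (heven : Even (Nat.card G)) (hcyc : ∀ P : Sylow 2 G, IsCyclic ↥P) : False := by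
  haveI : Fact (Nat.Prime 2) := ⟨Nat.prime_two⟩
  have h2G : 2 ∣ Nat.card G := heven.two_dvd
  let P : Sylow 2 G := default
  have hPbot : (P : Subgroup G) ≠ ⊥ := P.ne_bot_of_dvd_card h2G
  obtain ⟨z, hzP, hzo, hle⟩ := exists_central (P : Subgroup G) P.isPGroup' hPbot
  have hz1 : z ≠ 1 := by
    rintro rfl
    rw [orderOf_one] at hzo
    omega
  have hzz : z * z = 1 := by
    rw [← pow_two, ← hzo]
    exact pow_orderOf_eq_one z
  have hN : normalizer ((P : Subgroup G) : Set G) ≤ centralizer ((P : Subgroup G) : Set G) := by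
    intro g hg
    have h1 : g * z * g⁻¹ ∈ (P : Subgroup G) := (mem_normalizer_iff.1 hg z).1 hzP
    have h2 : g * z * g⁻¹ = z := by
      by_contra hne
      have hc : (g * z * g⁻¹) * z = z * (g * z * g⁻¹) := mem_cent.1 (hle h1)
      refine FCBase.no_two_invol hcyc (a := g * z * g⁻¹) (b := z) ?_ hz1 hne ?_ hzz hc
      · intro h
        apply hz1
        have : z = g⁻¹ * (g * z * g⁻¹) * g := by group
        rw [this, h]
        group
      · calc g * z * g⁻¹ * (g * z * g⁻¹) = g * (z * z) * g⁻¹ := by group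
          _ = 1 := by rw [hzz]; group
    have hgz : g ∈ cz z := by
      rw [mem_cent]
      calc g * z = (g * z * g⁻¹) * g := by group
        _ = z * g := by rw [h2]
    rw [mem_centralizer_iff]
    intro u hu
    exact hinv z hzo u (hle hu) g hgz
  have hcompl := MonoidHom.ker_transferSylow_isComplement' P hN
  have hkern : (MonoidHom.transferSylow P hN).ker.Normal := inferInstance
  have hcard := hcompl.card_mul_card
  rcases hkern.eq_bot_or_eq_top with h0 | h0
  · rw [h0] at hcard
    simp only [Subgroup.card_bot, one_mul] at hcard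
    have h1 : (P : Subgroup G) = ⊤ := Subgroup.eq_top_of_card_eq _ hcard
    have h3 : cz z = ⊤ := by
      rw [h1] at hle
      exact top_le_iff.1 hle
    have h4 : cs z = 1 := by
      show (cz z).index = 1
      rw [h3]
      exact index_top
    exact cs_ne_one hnab hz1 h4
  · rw [h0] at hcard
    simp only [Subgroup.card_top] at hcard
    have hpos : 0 < Nat.card G := Nat.card_pos
    have h1 : Nat.card (P : Subgroup G) = 1 := by
      apply Nat.eq_of_mul_eq_mul_left hpos
      rw [hcard, mul_one]
    exact hPbot (Subgroup.eq_bot_of_card_eq _ h1)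

/-- Normal Sylow `2`-subgroups are excluded. -/
theorem not_normal [IsSimpleGroup G] (hnab : ∃ a b : G, a * b ≠ b * a)
    (heven : Even (Nat.card G)) (hnorm : ∀ P : Sylow 2 G, (P : Subgroup G).Normal) : False := by
  haveI : Fact (Nat.Prime 2) := ⟨Nat.prime_two⟩
  have h2G : 2 ∣ Nat.card G := heven.two_dvd
  let P : Sylow 2 G := default
  have hPbot : (P : Subgroup G) ≠ ⊥ := P.ne_bot_of_dvd_card h2G
  obtain ⟨z, hzP, hzo, hle⟩ := exists_central (P : Subgroup G) P.isPGroup' hPbot
  have hz1 : z ≠ 1 := by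
    rintro rfl
    rw [orderOf_one] at hzo
    omega
  rcases (hnorm P).eq_bot_or_eq_top with h0 | h0
  · exact hPbot h0
  · rw [h0] at hle
    have h3 : cz z = ⊤ := top_le_iff.1 hle
    have h4 : cs z = 1 := by
      show (cz z).index = 1
      rw [h3]
      exact index_top
    exact cs_ne_one hnab hz1 h4

/-- The forward direction. -/
theorem forward [IsSimpleGroup G] (hnab : ∃ a b : G, a * b ≠ b * a) (hA : Anti G) :
    ∃ (m : ℕ) (F : Type) (_ : Field F) (_ : Fintype F), 2 ≤ m ∧ Fintype.card F = 2 ^ m ∧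
      Nonempty (G ≃* Matrix.ProjectiveSpecialLinearGroup (Fin 2) F) := by
  have hnsolv : ¬ Group.IsSolvable G := by
    intro h
    obtain ⟨a, b, hab⟩ := hnab
    exact hab (IsSimpleGroup.comm_iff_isSolvable.2 h a b)
  have heven : Even (Nat.card G) := by
    by_contra hodd
    rw [Nat.not_even_iff_odd] at hodd
    exact hnsolv (Cfsg.Agent.S0183.result hodd (isCN hA))
  have hinv := fun t ht => comm_of_invol hA t ht
  have hmain := Cfsg.Agent.S2202.result heven (fun t ht => ⟨⟨fun a b =>
    Subtype.ext (hinv t ht a a.2 b b.2)⟩⟩)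
  rcases hmain with h1 | h1 | h1
  · exact (not_cyclic hnab hinv heven h1).elim
  · exact (not_normal hnab heven h1).elim
  · obtain ⟨F, hF, hFt, A, hAg, hAf, hchar, hAodd, ⟨e⟩⟩ := h1
    haveI := hchar
    -- the projection is an isomorphism
    let π : G →* Matrix.SpecialLinearGroup (Fin 2) F :=
      (MonoidHom.fst _ _).comp e.toMonoidHom
    have hπs : Function.Surjective π := by
      intro y
      obtain ⟨x, hx⟩ := e.surjective (y, 1)
      refine ⟨x, ?_⟩
      show (e x).1 = y
      rw [hx]
    have hker : π.ker.Normal := inferInstance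
    have hπi : Function.Injective π := by
      rw [← MonoidHom.ker_eq_bot_iff]
      refine hker.eq_bot_or_eq_top.resolve_right fun h => ?_
      obtain ⟨a, b, hab⟩ := hnab
      apply hab
      have ha : π a = 1 := by
        have : a ∈ π.ker := by rw [h]; trivial
        exact this
      have hb : π b = 1 := by
        have : b ∈ π.ker := by rw [h]; trivial
        exact this
      apply e.injective
      rw [map_mul, map_mul]
      apply Prod.ext
      · show (e a).1 * (e b).1 = (e b).1 * (e a).1
        have ha' : (e a).1 = 1 := ha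
        have hb' : (e b).1 = 1 := hb
        rw [ha', hb']
      · show (e a).2 * (e b).2 = (e b).2 * (e a).2
        exact mul_comm _ _
    let e' : G ≃* Matrix.SpecialLinearGroup (Fin 2) F := MulEquiv.ofBijective π ⟨hπi, hπs⟩
    obtain ⟨n, hn, hcard⟩ := FiniteField.card F 2
    refine ⟨(n : ℕ), F, hF, hFt, ?_, hcard, ⟨e'.trans (pslEquiv F).symm⟩⟩
    by_contra hn2
    have hn1 : (n : ℕ) = 1 := by
      have := n.pos
      omega
    rw [hn1, pow_one] at hcard
    have hS := ClassicalSmall.card_SL2 (F := F)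
    rw [hcard] at hS
    have hG : Nat.card G = 6 := by
      rw [Nat.card_congr e'.toEquiv, hS]
    exact hnsolv (BurnsidePQ.isSolvable_of_card_eq 2 3 Nat.prime_two Nat.prime_three 6 G hG
      ⟨1, 1, by norm_num⟩)

/-- The reverse direction, for `SL₂`. -/
theorem backward {F : Type} [Field F] [Fintype F] [CharP F 2] (hq : 4 ≤ Fintype.card F)
    (e : G ≃* Matrix.SpecialLinearGroup (Fin 2) F) :
    IsSimpleGroup G ∧ ¬ IsMulCommutative G ∧
      Set.ncard {m : ℕ | ∃ x : G, x ∉ center G ∧
        m = (centralizer ({x} : Set G)).index} = 3 := by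
  have hq' : 4 ≤ Nat.card F := by rwa [Nat.card_eq_fintype_card]
  have hN : Nat.card F = Fintype.card F := Nat.card_eq_fintype_card
  set q := Fintype.card F with hqdef
  obtain ⟨k, hk⟩ : ∃ k, q = k + 4 := ⟨q - 4, by omega⟩
  have hSc := ClassicalSmall.card_SL2 (F := F)
  rw [← hqdef] at hSc
  have hGc : Nat.card G = (q + 1) * q * (q - 1) := by
    rw [Nat.card_congr e.toEquiv, hSc]
  -- index computations
  have hind : ∀ x : G, (centralizer ({x} : Set G)).index =
      (centralizer ({e x} : Set (Matrix.SpecialLinearGroup (Fin 2) F))).index := by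
    intro x
    have h1 : centralizer ({x} : Set G) =
        (centralizer ({e x} : Set (Matrix.SpecialLinearGroup (Fin 2) F))).comap e.toMonoidHom := by
      ext z
      rw [mem_comap, mem_cent, mem_cent]
      show z * x = x * z ↔ e z * e x = e x * e z
      rw [← map_mul, ← map_mul, e.injective.eq_iff]
    rw [h1]
    exact index_comap_of_surjective _ e.surjective
  have hval : ∀ (y : Matrix.SpecialLinearGroup (Fin 2) F) (t s : ℕ), 0 < t → t * s = (q + 1) * q * (q - 1) →
      Nat.card (centralizer ({y} : Set (Matrix.SpecialLinearGroup (Fin 2) F))) = t →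
      (centralizer ({y} : Set (Matrix.SpecialLinearGroup (Fin 2) F))).index = s := by
    intro y t s ht hts hy
    have h1 := index_mul_card (centralizer ({y} : Set (Matrix.SpecialLinearGroup (Fin 2) F)))
    rw [hy, hSc, ← hts, mul_comm] at h1
    exact Nat.eq_of_mul_eq_mul_left ht h1
  have hvq : q * ((q + 1) * (q - 1)) = (q + 1) * q * (q - 1) := by ring
  have hv1 : (q - 1) * ((q + 1) * q) = (q + 1) * q * (q - 1) := by ring
  have hv2 : (q + 1) * (q * (q - 1)) = (q + 1) * q * (q - 1) := by ring
  have hallv : ∀ x : G, x ≠ 1 → (centralizer ({x} : Set G)).index = (q + 1) * (q - 1) ∨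
      (centralizer ({x} : Set G)).index = (q + 1) * q ∨
      (centralizer ({x} : Set G)).index = q * (q - 1) := by
    intro x hx
    have hy : e x ≠ 1 := by
      intro h
      exact hx (e.injective (by rw [h, map_one]))
    rw [hind x]
    rcases ItoSL2.card_cz_cases hy with h | h | h
    · rw [hN] at h
      exact Or.inl (hval _ q _ (by omega) hvq h)
    · rw [hN] at h
      exact Or.inr (Or.inl (hval _ (q - 1) _ (by omega) hv1 h))
    · rw [hN] at h
      exact Or.inr (Or.inr (hval _ (q + 1) _ (by omega) hv2 h))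
  obtain ⟨hex1, hex2, hex3⟩ := ItoSL2.exists_cz_eq (F := F) (by omega)
  obtain ⟨y₁, hy₁, hy₁c⟩ := hex1
  obtain ⟨y₂, hy₂, hy₂c⟩ := hex2
  obtain ⟨y₃, hy₃, hy₃c⟩ := hex3
  rw [hN] at hy₁c hy₂c hy₃c
  have hi₁ := hval _ q _ (by omega) hvq hy₁c
  have hi₂ := hval _ (q - 1) _ (by omega) hv1 hy₂c
  have hi₃ := hval _ (q + 1) _ (by omega) hv2 hy₃c
  have hne1 : (1 : G) ≠ e.symm y₁ := by
    intro h
    apply hy₁
    rw [← e.apply_symm_apply y₁, ← h, map_one]
  -- simplicity
  haveI hsP : IsSimpleGroup (Matrix.ProjectiveSpecialLinearGroup (Fin 2) F) :=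
    Matrix.ProjectiveSpecialLinearGroup.rank_two_simple hq'
  haveI hsS : IsSimpleGroup (Matrix.SpecialLinearGroup (Fin 2) F) :=
    (pslEquiv F).symm.isSimpleGroup
  haveI hsG : IsSimpleGroup G := e.isSimpleGroup
  have hnc : ¬ IsMulCommutative G := by
    intro hc
    have h1 : centralizer ({e.symm y₁} : Set G) = ⊤ := by
      rw [eq_top_iff]
      intro z _
      rw [mem_cent]
      exact hc.is_comm.comm _ _
    have h2 := hind (e.symm y₁)
    rw [h1, index_top, e.apply_symm_apply, hi₁] at h2
    rw [hk] at h2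
    have : (k + 4 + 1) * (k + 4 - 1) = 1 := h2.symm
    have h3 : 4 ≤ (k + 4 + 1) * (k + 4 - 1) := by
      have : k + 4 - 1 = k + 3 := by omega
      rw [this]
      nlinarith
    omega
  refine ⟨hsG, hnc, ?_⟩
  have hcen := center_bot (exists_hnab hnc)
  have hset : {m : ℕ | ∃ x : G, x ∉ center G ∧ m = (centralizer ({x} : Set G)).index} =
      {(q + 1) * (q - 1), (q + 1) * q, q * (q - 1)} := by
    ext m
    simp only [Set.mem_ofPred_eq, Set.mem_insert_iff, Set.mem_singleton_iff]
    constructor
    · rintro ⟨x, hx, rfl⟩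
      have hx1 : x ≠ 1 := by
        rintro rfl
        exact hx (one_mem _)
      exact hallv x hx1
    · have hnot : ∀ y : Matrix.SpecialLinearGroup (Fin 2) F, y ≠ 1 → e.symm y ∉ center G := by
        intro y hy h
        rw [hcen] at h
        apply hy
        have h2 : e.symm y = 1 := h
        rw [← e.apply_symm_apply y, h2, map_one]
      rintro (rfl | rfl | rfl)
      · exact ⟨e.symm y₁, hnot _ hy₁, by rw [hind, e.apply_symm_apply, hi₁]⟩
      · exact ⟨e.symm y₂, hnot _ hy₂, by rw [hind, e.apply_symm_apply, hi₂]⟩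
      · exact ⟨e.symm y₃, hnot _ hy₃, by rw [hind, e.apply_symm_apply, hi₃]⟩
  rw [hset]
  rw [Set.ncard_eq_three]
  refine ⟨_, _, _, ?_, ?_, ?_, rfl⟩
  · rw [hk]
    intro h
    have h1 : k + 4 - 1 = k + 3 := by omega
    rw [h1] at h
    nlinarith
  · rw [hk]
    intro h
    have h1 : k + 4 - 1 = k + 3 := by omega
    rw [h1] at h
    nlinarith
  · rw [hk]
    intro h
    have h1 : k + 4 - 1 = k + 3 := by omega
    rw [h1] at h
    nlinarith

theorem main (G : Type*) [Group G] [Finite G] :
    (IsSimpleGroup G ∧ ¬ IsMulCommutative G ∧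
        Set.ncard {m : ℕ | ∃ x : G, x ∉ Subgroup.center G ∧ m = (Subgroup.centralizer ({x} : Set G)).index} = 3) ↔
      ∃ (m : ℕ) (F : Type) (_ : Field F) (_ : Fintype F), 2 ≤ m ∧ Fintype.card F = 2 ^ m ∧
        Nonempty (G ≃* Matrix.ProjectiveSpecialLinearGroup (Fin 2) F) := by
  constructor
  · rintro ⟨hs, hnc, h3⟩
    have hnab := exists_hnab hnc
    exact forward hnab (anti_of_three hnab h3)
  · rintro ⟨m, F, hF, hFt, hm, hcard, ⟨e⟩⟩
    have hchar : CharP F 2 := by
      have h1 : Fintype.card F % 2 = 0 := by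
        rw [hcard]
        obtain ⟨l, rfl⟩ : ∃ l, m = l + 1 := ⟨m - 1, by omega⟩
        rw [pow_succ]
        simp
      have h2 : ringChar F = 2 := FiniteField.even_card_iff_char_two.mpr h1
      have h3 := ringChar.charP F
      rwa [h2] at h3
    haveI := hchar
    have hq : 4 ≤ Fintype.card F := by
      rw [hcard]
      calc 4 = 2 ^ 2 := by norm_num
        _ ≤ 2 ^ m := Nat.pow_le_pow_right (by norm_num) hm
    exact backward hq (e.trans (pslEquiv F))

end

/-- Simple groups of conjugate type rank three. For a finite group G consider the set of indices of the centralizers of the non-central elements of G. Then G is a non-abelian simple group for which this set has exactly three members if and only if G is isomorphic to PSL(2, 2^m) for some m ≥ 2. -/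
theorem result (G : Type*) [Group G] [Finite G] :
    (IsSimpleGroup G ∧ ¬ IsMulCommutative G ∧
        Set.ncard {m : ℕ | ∃ x : G, x ∉ Subgroup.center G ∧ m = (Subgroup.centralizer ({x} : Set G)).index} = 3) ↔
      ∃ (m : ℕ) (F : Type) (_ : Field F) (_ : Fintype F), 2 ≤ m ∧ Fintype.card F = 2 ^ m ∧
        Nonempty (G ≃* Matrix.ProjectiveSpecialLinearGroup (Fin 2) F) :=
  main G

end Cfsg.Agent.S3192
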