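import Mathlib
import Cfsg.Statements.S3195
import Cfsg.Agent.S3011

set_option autoImplicit false
open Cfsg

namespace Cfsg.Agent.S3195

/-- Let A be a Klein four-subgroup of a finite group G. If every G-conjugate of every involution of A commutes with some involution of A (its centralizer meets A nontrivially), then A meets the largest normal 2-subgroup O₂(G) nontrivially. -/
theorem result {G : Type*} [Group G] [Finite G]
    (A : Subgroup G) (hA : IsKleinFour ↥A)
    (h : ∀ a ∈ A, a ≠ 1 → ∀ g : G, A ⊓ Subgroup.centralizer ({g * a * g⁻¹} : Set G) ≠ ⊥) :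
    A ⊓ Cfsg.pCore 2 G ≠ ⊥ := by
  have hsq : ∀ a ∈ A, a ^ 2 = 1 := by
    intro a ha
    have h1 : (⟨a, ha⟩ : A) ^ 2 = 1 := by
      have := Monoid.pow_exponent_eq_one (⟨a, ha⟩ : A)
      rwa [hA.exponent_two] at this
    exact congrArg Subtype.val h1
  have hcomm : ∀ a ∈ A, ∀ b ∈ A, a * b = b * a := by
    intro a ha b hb
    have h1 := hsq a ha
    have h2 := hsq b hb
    have h3 := hsq (a * b) (A.mul_mem ha hb)
    rw [sq] at h1 h2 h3
    calc a * b = a * b * (b * a) * (b * a)⁻¹ := by group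
      _ = a * (b * b) * a * (b * a)⁻¹ := by group
      _ = (b * a)⁻¹ := by rw [h2, mul_one, h1, one_mul]
      _ = a⁻¹ * b⁻¹ := by group
      _ = a * b⁻¹ := by rw [inv_eq_of_mul_eq_one_left h1]
      _ = a * b := by rw [inv_eq_of_mul_eq_one_left h2]
      _ = (a * b) * (a * b) * (a * b)⁻¹ := by group
      _ = (a * b)⁻¹ := by rw [h3, one_mul]
      _ = b⁻¹ * a⁻¹ := by group
      _ = b * a := by rw [inv_eq_of_mul_eq_one_left h1, inv_eq_of_mul_eq_one_left h2]
  have hne : A ≠ ⊥ := by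
    intro h0
    have h1 := hA.card_four
    rw [h0] at h1
    simp at h1
  apply Cfsg.Agent.S3011.result A
  · refine ⟨⟨⟨fun u v => ?_⟩⟩, hsq⟩
    exact Subtype.ext (hcomm u u.2 v v.2)
  · exact hne
  · -- Sidki pair
    intro f v hv hodd hinv
    obtain ⟨a, ha⟩ := (Subgroup.ne_bot_iff_exists_ne_one.mp hne : ∃ a : A, a ≠ 1)
    have ha' : (a : G) ≠ 1 := fun h0 => ha (Subtype.ext h0)
    by_cases hv1 : v = 1
    · subst hv1
      refine ⟨a, a.2, ha', ?_⟩
      have h1 : f = f⁻¹ := by simpa using hinv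
      have h2 : f ^ 2 = 1 := by rw [sq]; nth_rw 1 [h1]; group
      rw [Cfsg.Agent.S3011.eq_one_of_sq hodd h2]
      group
    · have h0 := h v hv hv1 f
      obtain ⟨w, hw⟩ := (Subgroup.ne_bot_iff_exists_ne_one.mp h0 : ∃ w : ↥(A ⊓ Subgroup.centralizer ({f * v * f⁻¹} : Set G)), w ≠ 1)
      have hw1 : (w : G) ≠ 1 := fun h0 => hw (Subtype.ext h0)
      have hwA : (w : G) ∈ A := w.2.1
      have hwc : (w : G) * (f * v * f⁻¹) = (f * v * f⁻¹) * w :=
        (Subgroup.mem_centralizer_singleton_iff.mp w.2.2)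
      have hvi : v⁻¹ = v := inv_eq_of_mul_eq_one_left (by rw [← sq]; exact hsq v hv)
      -- `v * (f v f⁻¹) = f⁻¹ * f⁻¹`
      have e : v * (f * v * f⁻¹) = f⁻¹ * f⁻¹ := by
        have : v * f * v⁻¹ = f⁻¹ := hinv
        rw [hvi] at this
        calc v * (f * v * f⁻¹) = (v * f * v) * f⁻¹ := by group
          _ = f⁻¹ * f⁻¹ := by rw [this]
      have hcw : (w : G) * (f⁻¹ * f⁻¹) = (f⁻¹ * f⁻¹) * w := by
        rw [← e, ← mul_assoc, hcomm _ hwA v hv, mul_assoc, hwc, ← mul_assoc, ← mul_assoc, mul_assoc (v * _)]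
      refine ⟨w, hwA, hw1, ?_⟩
      have h3 : Commute (f ^ 2) (w : G) := by
        have h4 : Commute (f⁻¹ * f⁻¹) (w : G) := hcw.symm
        have h5 : f ^ 2 = (f⁻¹ * f⁻¹)⁻¹ := by rw [sq, mul_inv_rev, inv_inv]
        rw [h5]
        exact h4.inv_left
      exact (Cfsg.Agent.S3011.commute_of_sq hodd h3).symm.eq
  · rw [hA.card_four]

end Cfsg.Agent.S3195
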