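import Mathlib
import Cfsg.Statements.S4593
import Cfsg.Agent.Lib.AbSylowFix
import Cfsg.Agent.Lib.PCore

set_option autoImplicit false
open Cfsg

namespace Cfsg.Agent.S4593

/-- Let G be a finite group with trivial centre and no nontrivial normal subgroup of odd order, whose Sylow 2-subgroups are abelian, and let P be a Sylow 2-subgroup. Every automorphism of G of 2-power order that fixes P elementwise is inner. -/
theorem result {G : Type*} [Group G] [Finite G] (hZ : Subgroup.center G = ⊥) (hcore : Cfsg.pPrimeCore 2 G = ⊥) (P : Sylow 2 G) (hab : IsMulCommutative (P : Subgroup G))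
    (α : MulAut G) (h2 : ∃ j : ℕ, orderOf α = 2 ^ j) (hfix : ∀ x ∈ (P : Subgroup G), α x = x) :
    ∃ g : G, ∀ x : G, α x = g * x * g⁻¹ := by
  classical
  obtain ⟨j, hj⟩ := h2
  have hp2 : Fact (Nat.Prime 2) := ⟨Nat.prime_two⟩
  let c : G →* MulAut G := MulAut.conj
  have hcapp : ∀ g x : G, c g x = g * x * g⁻¹ := fun g x => MulAut.conj_apply g x
  have hcrel : ∀ (β : MulAut G) (g : G), β * c g = c (β g) * β := by
    intro β g
    ext x
    rw [MulAut.mul_apply, MulAut.mul_apply, hcapp, hcapp, map_mul, map_mul, map_inv]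
  let Inn : Subgroup (MulAut G) := c.range
  haveI hInnN : Inn.Normal := by
    refine ⟨?_⟩
    rintro _ ⟨g, rfl⟩ β
    refine ⟨β g, ?_⟩
    have := hcrel β g
    rw [this]
    simp
  have hcinj : Function.Injective c := by
    rw [injective_iff_map_eq_one]
    intro a ha
    have h1 : a ∈ Subgroup.center G := by
      rw [Subgroup.mem_center_iff]
      intro g
      have := DFunLike.congr_fun ha g
      rw [hcapp] at this
      have h3 : a * g * a⁻¹ = g := this
      calc g * a = a * g * a⁻¹ * a := by rw [h3]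
        _ = a * g := by group
    rw [hZ, Subgroup.mem_bot] at h1
    exact h1
  let Y : Subgroup (MulAut G) := Inn ⊔ Subgroup.zpowers α
  have hdecomp : ∀ y ∈ Y, ∃ (g : G) (k : ℤ), y = c g * α ^ k := by
    intro y hy
    have hy' : y ∈ ((Inn ⊔ Subgroup.zpowers α : Subgroup (MulAut G)) : Set (MulAut G)) := hy
    rw [Subgroup.normal_mul] at hy'
    obtain ⟨a, ⟨g, rfl⟩, b, hb, rfl⟩ := hy'
    obtain ⟨k, rfl⟩ := Subgroup.mem_zpowers_iff.1 hb
    exact ⟨g, k, rfl⟩
  have hcY : ∀ g : G, c g ∈ Y := fun g => Subgroup.mem_sup_left ((⟨g, rfl⟩ : c g ∈ c.range))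
  have hαY : α ∈ Y := Subgroup.mem_sup_right (Subgroup.mem_zpowers α)
  have hfin : Finite (MulAut G) := inferInstance
  let cY : G →* Y := c.codRestrict Y hcY
  have hcYinj : Function.Injective cY := by
    intro a b hab
    exact hcinj (congrArg Subtype.val hab)
  -- elements of `Y` have `2^j`-th power in `Inn`
  have hpow : ∀ y ∈ Y, y ^ (2 ^ j) ∈ Inn := by
    intro y hy
    obtain ⟨g, k, rfl⟩ := hdecomp y hy
    let φ := QuotientGroup.mk' Inn
    have h0 : φ (c g) = 1 := (QuotientGroup.eq_one_iff _).2 ((⟨g, rfl⟩ : c g ∈ c.range))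
    have h1 : φ ((c g * α ^ k) ^ (2 ^ j)) = 1 := by
      rw [map_pow, map_mul, h0, one_mul, map_zpow, ← zpow_natCast, ← zpow_mul, mul_comm, zpow_mul, zpow_natCast]
      have : φ α ^ (2 ^ j) = φ (α ^ (2 ^ j)) := (map_pow _ _ _).symm
      rw [this, ← hj, pow_orderOf_eq_one]
      simp
    exact (QuotientGroup.eq_one_iff _).1 h1
  -- `O(Y) = 1`
  have hcoreY : pPrimeCore 2 Y = ⊥ := by
    set O := pPrimeCore 2 Y with hO
    have hOn : O.Normal := inferInstance
    have hOc : (Nat.card O).Coprime 2 := (Cfsg.Agent.Lib.PCore.card_pPrimeCore_coprime (G := Y) 2)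
    have hOinn : ∀ y ∈ O, (y : MulAut G) ∈ Inn := by
      intro y hy
      have hord : orderOf y ∣ Nat.card O := by
        have := orderOf_dvd_natCard (⟨y, hy⟩ : O)
        rwa [Subgroup.orderOf_mk] at this
      have hcop : Nat.Coprime (2 ^ j) (orderOf y) :=
        Nat.Coprime.pow_left _ ((Nat.Coprime.coprime_dvd_left hord hOc).symm)
      obtain ⟨m, hm⟩ := exists_pow_eq_self_of_coprime hcop
      have h1 := hpow y y.2
      have h2 : ((y : MulAut G) ^ (2 ^ j)) ^ m = y := by
        have := congrArg Subtype.val hm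
        simpa using this
      rw [← h2]
      exact Subgroup.pow_mem _ h1 _
    have hO' : O.comap cY = ⊥ := by
      have hle : O.comap cY ≤ pPrimeCore 2 G := by
        apply Cfsg.Agent.Lib.PCore.le_pPrimeCore
        · exact hOn.comap cY
        · have h1 : Nat.card (O.comap cY) ∣ Nat.card O :=
            Subgroup.card_dvd_of_injective (cY.subgroupComap O) (by
              intro a b hab
              exact Subtype.ext (hcYinj (congrArg Subtype.val hab)))
          exact Nat.Coprime.coprime_dvd_left h1 hOc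
      rw [hcore] at hle
      exact le_bot_iff.1 hle
    rw [eq_bot_iff]
    intro y hy
    obtain ⟨g, hg⟩ := hOinn y hy
    have hy2 : y = cY g := Subtype.ext hg.symm
    have : g ∈ O.comap cY := by
      rw [Subgroup.mem_comap, ← hy2]; exact hy
    rw [hO', Subgroup.mem_bot] at this
    rw [hy2, this, map_one]
    exact Subgroup.one_mem _
  -- `Z(Y) = 1`
  have hcenterY : Subgroup.center Y = ⊥ := by
    rw [eq_bot_iff]
    intro y hy
    rw [Subgroup.mem_bot]
    apply Subtype.ext
    ext x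
    have h1 := (Subgroup.mem_center_iff.1 hy) (cY x)
    have h2 : c x * (y : MulAut G) = y * c x := congrArg Subtype.val h1
    rw [hcrel] at h2
    have h3 : c x = c ((y : MulAut G) x) := mul_right_cancel h2
    exact (hcinj h3).symm
  -- the Sylow subgroup
  have hαP : ∀ p ∈ (P : Subgroup G), Commute α (c p) := by
    intro p hp
    show α * c p = c p * α
    rw [hcrel, hfix p hp]
  let αY : Y := ⟨α, hαY⟩
  let R₀ : Subgroup Y := (P : Subgroup G).map cY
  have hR₀ : IsPGroup 2 R₀ := (P.isPGroup').map cY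
  have hα2 : IsPGroup 2 (Subgroup.zpowers αY) := by
    apply IsPGroup.of_card (n := j)
    rw [Nat.card_zpowers, ← hj]
    exact Subgroup.orderOf_mk α hαY
  have hnorm : Subgroup.zpowers αY ≤ Subgroup.normalizer (R₀ : Set Y) := by
    rw [Subgroup.zpowers_le]
    apply Cfsg.Agent.Lib.AbSylowFix.mem_normalizer_of_conj_mem
    rintro _ ⟨p, hp, rfl⟩
    have : αY * cY p * αY⁻¹ = cY p := by
      apply Subtype.ext
      show α * c p * α⁻¹ = c p
      rw [(hαP p hp).eq]
      simp
    rw [this]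
    exact ⟨p, hp, rfl⟩
  have hQ₀ : IsPGroup 2 (R₀ ⊔ Subgroup.zpowers αY : Subgroup Y) :=
    IsPGroup.to_sup_of_normal_left' hR₀ hα2 hnorm
  obtain ⟨R, hR⟩ := hQ₀.exists_le_sylow
  have hαR : αY ∈ (R : Subgroup Y) := hR (Subgroup.mem_sup_right (Subgroup.mem_zpowers αY))
  have hR₀R : R₀ ≤ (R : Subgroup Y) := le_sup_left.trans hR
  -- every element of `R` has the form `c p * α ^ k`
  have hRform : ∀ r ∈ (R : Subgroup Y), ∃ p ∈ (P : Subgroup G), ∃ k : ℤ, (r : MulAut G) = c p * α ^ k := by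
    intro r hr
    obtain ⟨g, k, hgk⟩ := hdecomp r r.2
    refine ⟨g, ?_, k, hgk⟩
    have h1 : cY g = r * (αY ^ k)⁻¹ := by
      apply Subtype.ext
      simp only [Subgroup.coe_mul, Subgroup.coe_inv, Subgroup.coe_zpow]
      rw [hgk]
      simp [αY, cY]
    have h2 : cY g ∈ (R : Subgroup Y) := by
      rw [h1]
      exact Subgroup.mul_mem _ hr (Subgroup.inv_mem _ (Subgroup.zpow_mem _ hαR _))
    have hP' : IsPGroup 2 ((R : Subgroup Y).comap cY) := (R.isPGroup').comap_of_injective cY hcYinj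
    have hle : (P : Subgroup G) ≤ (R : Subgroup Y).comap cY := by
      intro p hp
      exact hR₀R ⟨p, hp, rfl⟩
    have := P.is_maximal' hP' hle
    rw [← SetLike.mem_coe, ← this]
    exact h2
  have hab' : IsMulCommutative (R : Subgroup Y) := by
    refine ⟨⟨?_⟩⟩
    rintro ⟨a, ha⟩ ⟨b, hb⟩
    obtain ⟨p, hp, k, hpk⟩ := hRform a ha
    obtain ⟨q, hq, l, hql⟩ := hRform b hb
    apply Subtype.ext
    apply Subtype.ext
    show (a : MulAut G) * (b : MulAut G) = (b : MulAut G) * (a : MulAut G)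
    rw [hpk, hql]
    have h1 : Commute (c p) (c q) := by
      show c p * c q = c q * c p
      rw [← map_mul, ← map_mul]
      congr 1
      exact congrArg Subtype.val (hab.is_comm.comm (⟨p, hp⟩ : (P : Subgroup G)) ⟨q, hq⟩)
    have h2 : Commute (c p) (α ^ l) := ((hαP p hp).symm).zpow_right l
    have h3 : Commute (α ^ k) (c q) := ((hαP q hq)).zpow_left k
    have h4 : Commute (α ^ k) (α ^ l) := (Commute.refl α).zpow_zpow k l
    exact (Commute.mul_right h1 h2).mul_left (Commute.mul_right h3 h4)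
  obtain ⟨z, hzR, hzinv, m, hm, hzm⟩ := Cfsg.Agent.Lib.AbSylowFix.exists_norm R hab' hαR (Inn.subgroupOf Y) (by
    intro n _
    rw [Subgroup.mem_subgroupOf]
    obtain ⟨g, k, hgk⟩ := hdecomp n n.2
    have h1 : Commute (α ^ k) α := (Commute.refl α).zpow_left k
    have h2 : ((n * αY * n⁻¹ * αY⁻¹ : Y) : MulAut G) = c g * c (α g⁻¹) := by
      simp only [Subgroup.coe_mul, Subgroup.coe_inv]
      rw [hgk]
      show c g * α ^ k * α * (c g * α ^ k)⁻¹ * α⁻¹ = c g * c (α g⁻¹)
      have h3 : α * c g⁻¹ = c (α g⁻¹) * α := hcrel α g⁻¹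
      have h4 : c g * α ^ k * α * (c g * α ^ k)⁻¹ * α⁻¹ = c g * (α ^ k * α) * (α ^ k)⁻¹ * (c g)⁻¹ * α⁻¹ := by
        group
      rw [h4, h1.eq]
      have h5 : c g * (α * α ^ k) * (α ^ k)⁻¹ * (c g)⁻¹ * α⁻¹ = c g * (α * c g⁻¹) * α⁻¹ := by
        rw [map_inv]
        group
      rw [h5, h3]
      group
    rw [h2]
    exact ⟨g * α g⁻¹, map_mul _ _ _⟩)
  have hz1 := Cfsg.Agent.Lib.AbSylowFix.invariant_eq_one hcoreY hcenterY R hab' hzR hzinv
  rw [hz1, one_mul, Subgroup.mem_subgroupOf] at hzm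
  have h3 : α ^ m ∈ Inn := by
    have := Subgroup.inv_mem _ hzm
    simpa [αY] using this
  have hcop : Nat.Coprime m (orderOf α) := by
    rw [hj]
    exact Nat.Coprime.pow_right _ (Nat.Coprime.symm ((Nat.Prime.coprime_iff_not_dvd Nat.prime_two).2
      (by have := Nat.odd_iff.1 hm; omega)))
  obtain ⟨k, hk⟩ := exists_pow_eq_self_of_coprime hcop
  have h4 : α ∈ Inn := by
    rw [← hk]
    exact Subgroup.pow_mem _ h3 _
  obtain ⟨g, hg⟩ := h4
  refine ⟨g, fun x => ?_⟩
  rw [← hg, hcapp]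

end Cfsg.Agent.S4593
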