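import Cfsg.Statements.S3211
import Mathlib
import Cfsg.Agent.Lib.FWSwapCore
import Cfsg.Agent.Lib.ZStar

set_option autoImplicit false
open Cfsg

namespace Cfsg.Agent.S3211


variable {G : Type*} [Group G]

open Cfsg.Agent.Lib.FWSwap Cfsg.Agent.Lib.SL2Inv Cfsg.Agent.Lib.SL2Pair

theorem mem_sup_core_of_comm {O : Subgroup G} [O.Normal] (hO : Odd (Nat.card O)) {j g : G} (hj : j * j = 1)
    (ho : g * j * g⁻¹ * j⁻¹ ∈ O) : g ∈ Subgroup.centralizer ({j} : Set G) ⊔ O := by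
  set o := g * j * g⁻¹ * j⁻¹ with hodef
  have hjinv : j⁻¹ = j := by rw [inv_eq_iff_mul_eq_one]; exact hj
  have e1 : g * j * g⁻¹ = o * j := by rw [hodef]; group
  have e2 : (o * j) * (o * j) = 1 := by
    rw [← e1]
    calc g * j * g⁻¹ * (g * j * g⁻¹) = g * (j * j) * g⁻¹ := by group
      _ = 1 := by rw [hj]; group
  have e3 : j * o * j⁻¹ = o⁻¹ := by
    rw [hjinv]
    have : o * (j * o * j) = 1 := by
      calc o * (j * o * j) = (o * j) * (o * j) := by group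
        _ = 1 := e2
    exact eq_inv_of_mul_eq_one_right this
  have hodd : Odd (orderOf o) := Odd.of_dvd_nat hO (Subgroup.orderOf_dvd_natCard O ho)
  obtain ⟨m, hm⟩ := hodd
  set r := o ^ (m + 1) with hr
  have hrr : r * r = o := by
    have h1 : o ^ (2 * m + 1) = 1 := by rw [← hm]; exact pow_orderOf_eq_one o
    calc r * r = o ^ (2 * m + 1) * o := by
          rw [hr, ← pow_add, ← pow_succ]; congr 1; ring
      _ = o := by rw [h1, one_mul]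
  have hrO : r ∈ O := O.pow_mem ho _
  have hjr : j * r * j⁻¹ = r⁻¹ := by
    rw [hr]
    have : j * o ^ (m + 1) * j⁻¹ = (j * o * j⁻¹) ^ (m + 1) := by
      simp [conj_pow]
    rw [this, e3, inv_pow]
  have h5 : r * j * r⁻¹ = g * j * g⁻¹ := by
    rw [e1, ← hrr]
    have h6 : j * r⁻¹ = r * j := by
      have h7 : j * r⁻¹ * j⁻¹ = r := by
        have : (j * r * j⁻¹)⁻¹ = j * r⁻¹ * j⁻¹ := by group
        rw [← this, hjr, inv_inv]
      calc j * r⁻¹ = (j * r⁻¹ * j⁻¹) * j := by group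
        _ = r * j := by rw [h7]
    calc r * j * r⁻¹ = r * (j * r⁻¹) := by group
      _ = r * (r * j) := by rw [h6]
      _ = r * r * j := by group
  have h6 : r⁻¹ * g ∈ Subgroup.centralizer ({j} : Set G) := by
    rw [Subgroup.mem_centralizer_singleton_iff]
    calc r⁻¹ * g * j = r⁻¹ * (g * j * g⁻¹) * g := by group
      _ = r⁻¹ * (r * j * r⁻¹) * g := by rw [h5]
      _ = j * (r⁻¹ * g) := by group
  rw [show g = r * (r⁻¹ * g) by group]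
  exact Subgroup.mul_mem _ (Subgroup.mem_sup_right hrO) (Subgroup.mem_sup_left h6)

theorem nconj {L₁ L₂ : Subgroup G} {j n : G} (S : Setup L₁ L₂ j n) {y : G} (hy : y * j = j * y) :
    n⁻¹ * y * n = n * y * n⁻¹ := by
  have h1 : n⁻¹ * y * n = n⁻¹ * (j * y * j⁻¹) * n := by
    rw [← hy]; group
  rw [h1, ← S.nn]
  group

/-- Conjugating `n` by an element of `L₂`. -/
theorem Setup_conj {L₁ L₂ : Subgroup G} {j n : G} (S : Setup L₁ L₂ j n) {l : G} (hl : l ∈ L₂) :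
    Setup L₁ L₂ j (l * n * l⁻¹) := by
  have hcl : ∀ x ∈ L₁, l⁻¹ * x * l = x := by
    intro x hx
    rw [mul_assoc, S.P.comm x hx l hl]
    group
  have hM : l ∈ L₁ ⊔ L₂ := Subgroup.mem_sup_right hl
  refine ⟨S.P, S.D₁, S.D₂, S.E₁, S.E₂, ?_, ?_, ?_, ?_, ?_⟩
  · calc l * n * l⁻¹ * (l * n * l⁻¹) = l * (n * n) * l⁻¹ := by group
      _ = j := by rw [S.nn, S.j₂c hl]; group
  · intro x hx
    have h1 : l * n * l⁻¹ * x * (l * n * l⁻¹)⁻¹ = l * (n * (l⁻¹ * x * l) * n⁻¹) * l⁻¹ := by group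
    rw [h1, hcl x hx]
    exact L₂.mul_mem (L₂.mul_mem hl (S.n₁ x hx)) (L₂.inv_mem hl)
  · intro x hx
    have h2 : n * (l⁻¹ * x * l) * n⁻¹ ∈ L₁ := S.n₂ _ (L₂.mul_mem (L₂.mul_mem (L₂.inv_mem hl) hx) hl)
    have h1 : l * n * l⁻¹ * x * (l * n * l⁻¹)⁻¹ = l * (n * (l⁻¹ * x * l) * n⁻¹) * l⁻¹ := by group
    rw [h1, (S.P.comm _ h2 l hl).symm]
    simpa using h2
  · intro h
    apply S.nM
    have : n = l⁻¹ * (l * n * l⁻¹) * l := by group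
    rw [this]
    exact Subgroup.mul_mem _ (Subgroup.mul_mem _ (Subgroup.inv_mem _ hM) h) hM
  · intro x hx
    rcases S.cover x hx with h | h
    · exact Or.inl h
    · right
      have h1 : (l * n * l⁻¹)⁻¹ * x = l * (n⁻¹ * l⁻¹ * n) * (n⁻¹ * x) := by group
      rw [h1]
      refine Subgroup.mul_mem _ (Subgroup.mul_mem _ hM ?_) h
      rw [nconj S (S.j₂c (L₂.inv_mem hl))]
      exact Subgroup.mem_sup_left (S.n₂ _ (L₂.inv_mem hl))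

/-- Shape of the involutions of the centralizer. -/
theorem inv_form {L₁ L₂ : Subgroup G} {j n : G} (S : Setup L₁ L₂ j n) {x : G} (hx : x * j = j * x)
    (hxx : x * x = 1) (h1 : x ≠ 1) (hj : x ≠ j) :
    ∃ t₁ ∈ L₁, ∃ t₂ ∈ L₂, t₁ * t₁ = j ∧ t₂ * t₂ = j ∧ x = t₁ * t₂ := by
  rcases S.cover x hx with h | h
  · obtain ⟨a, ha, b, hb, rfl⟩ := S.P.mem_sup h
    rcases S.P.square_one_cases ha hb hxx with ⟨h2, h3⟩ | ⟨h2, h3⟩
    · exfalso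
      rcases S.D₁.sq_one a ha h2 with h4 | h4 <;> rcases S.D₂.sq_one b hb h3 with h5 | h5
      · apply h1; rw [h4, h5, one_mul]
      · apply hj; rw [h4, h5, one_mul]
      · apply hj; rw [h4, h5, mul_one]
      · apply h1; rw [h4, h5]; exact S.P.jj
    · exact ⟨a, ha, b, hb, h2, h3, rfl⟩
  · exfalso
    obtain ⟨a, ha, b, hb, hab⟩ := S.P.mem_sup h
    apply S.no_inv ha hb
    rw [← hab, mul_inv_cancel_left]
    exact hxx

theorem isolated {L₁ L₂ : Subgroup G} {j n : G} (S : Setup L₁ L₂ j n) (hj : orderOf j = 2) :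
    IsIsolatedInvolution j := by
  refine ⟨hj, ?_⟩
  intro g hcomm
  by_contra hne
  have hjj := S.P.jj
  have hj1 := S.P.j1
  have hc1 : (g * j * g⁻¹) * j = j * (g * j * g⁻¹) := hcomm.eq.symm
  have hc2 : (g⁻¹ * j * g) * j = j * (g⁻¹ * j * g) := by
    calc (g⁻¹ * j * g) * j = g⁻¹ * (j * (g * j * g⁻¹)) * g := by group
      _ = g⁻¹ * ((g * j * g⁻¹) * j) * g := by rw [hc1]
      _ = j * (g⁻¹ * j * g) := by group
  have hu1 : g * j * g⁻¹ ≠ 1 := by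
    intro h
    apply hj1
    have : j = g⁻¹ * (g * j * g⁻¹) * g := by group
    rw [this, h]; group
  have hv1 : g⁻¹ * j * g ≠ 1 := by
    intro h
    apply hj1
    have : j = g * (g⁻¹ * j * g) * g⁻¹ := by group
    rw [this, h]; group
  have hvj : g⁻¹ * j * g ≠ j := by
    intro h
    apply hne
    have : g * j * g⁻¹ = g * (g⁻¹ * j * g) * g⁻¹ := by rw [h]
    rw [this]; group
  have huu : (g * j * g⁻¹) * (g * j * g⁻¹) = 1 := by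
    calc (g * j * g⁻¹) * (g * j * g⁻¹) = g * (j * j) * g⁻¹ := by group
      _ = 1 := by rw [hjj]; group
  have hvv : (g⁻¹ * j * g) * (g⁻¹ * j * g) = 1 := by
    calc (g⁻¹ * j * g) * (g⁻¹ * j * g) = g⁻¹ * (j * j) * g := by group
      _ = 1 := by rw [hjj]; group
  obtain ⟨t₁, ht₁, t₂, ht₂, h1, h2, hu⟩ := inv_form S hc1 huu hu1 hne
  obtain ⟨s₁, hs₁, s₂, hs₂, h3, h4, hv⟩ := inv_form S hc2 hvv hv1 hvj
  obtain ⟨l₁, hl₁, hl₁c⟩ := S.D₁.conj t₁ ht₁ s₁ hs₁ h1 h3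
  obtain ⟨l₂, hl₂, hl₂c⟩ := S.D₂.conj t₂ ht₂ s₂ hs₂ h2 h4
  -- the element `c`
  have hcu : (l₁ * l₂) * (t₁ * t₂) * (l₁ * l₂)⁻¹ = g⁻¹ * j * g := by
    rw [hv, ← hl₁c, ← hl₂c]
    have e1 : t₁ * l₂ = l₂ * t₁ := S.P.comm t₁ ht₁ l₂ hl₂
    have e5 : l₁ * (l₂ * t₂ * l₂⁻¹) = (l₂ * t₂ * l₂⁻¹) * l₁ :=
      S.P.comm l₁ hl₁ _ (L₂.mul_mem (L₂.mul_mem hl₂ ht₂) (L₂.inv_mem hl₂))
    calc (l₁ * l₂) * (t₁ * t₂) * (l₁ * l₂)⁻¹ = l₁ * (l₂ * t₁) * t₂ * l₂⁻¹ * l₁⁻¹ := by group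
      _ = l₁ * (t₁ * l₂) * t₂ * l₂⁻¹ * l₁⁻¹ := by rw [e1]
      _ = (l₁ * t₁ * l₁⁻¹) * (l₁ * (l₂ * t₂ * l₂⁻¹)) * l₁⁻¹ := by group
      _ = (l₁ * t₁ * l₁⁻¹) * ((l₂ * t₂ * l₂⁻¹) * l₁) * l₁⁻¹ := by rw [e5]
      _ = (l₁ * t₁ * l₁⁻¹) * (l₂ * t₂ * l₂⁻¹) := by group
  have hcj : (l₁ * l₂) * j * (l₁ * l₂)⁻¹ = j := by
    calc (l₁ * l₂) * j * (l₁ * l₂)⁻¹ = l₁ * (l₂ * j) * l₂⁻¹ * l₁⁻¹ := by group
      _ = l₁ * (j * l₂) * l₂⁻¹ * l₁⁻¹ := by rw [S.j₂c hl₂]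
      _ = (l₁ * j) * l₁⁻¹ := by group
      _ = (j * l₁) * l₁⁻¹ := by rw [S.j₁c hl₁]
      _ = j := by group
  set c := l₁ * l₂ with hc
  have hg1 : (g * c) * j * (g * c)⁻¹ = t₁ * t₂ := by
    rw [← hu]
    calc (g * c) * j * (g * c)⁻¹ = g * (c * j * c⁻¹) * g⁻¹ := by group
      _ = g * j * g⁻¹ := by rw [hcj]
  have hg2 : (g * c) * (t₁ * t₂) * (g * c)⁻¹ = j := by
    calc (g * c) * (t₁ * t₂) * (g * c)⁻¹ = g * (c * (t₁ * t₂) * c⁻¹) * g⁻¹ := by group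
      _ = g * (g⁻¹ * j * g) * g⁻¹ := by rw [hcu]
      _ = j := by group
  -- normalize `n`
  have hq : n * t₁ * n⁻¹ ∈ L₂ := S.n₁ t₁ ht₁
  have hqq : (n * t₁ * n⁻¹) * (n * t₁ * n⁻¹) = j := by
    calc (n * t₁ * n⁻¹) * (n * t₁ * n⁻¹) = n * (t₁ * t₁) * n⁻¹ := by group
      _ = j := by rw [h1]; exact S.ninvj
  obtain ⟨l, hl, hlc⟩ := S.D₂.conj _ hq t₂ ht₂ hqq h2
  have S' := Setup_conj S hl
  have hnt : (l * n * l⁻¹) * t₁ * (l * n * l⁻¹)⁻¹ = t₂ := by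
    have h5 : l⁻¹ * t₁ * l = t₁ := by
      rw [mul_assoc, S.P.comm t₁ ht₁ l hl]; group
    have h6 : (l * n * l⁻¹) * t₁ * (l * n * l⁻¹)⁻¹ = l * (n * (l⁻¹ * t₁ * l) * n⁻¹) * l⁻¹ := by group
    rw [h6, h5, hlc]
  -- the element `w₁`
  have htinv : t₁⁻¹ * t₁⁻¹ = j := by
    have h5 : t₁⁻¹ * t₁⁻¹ = (t₁ * t₁)⁻¹ := by group
    rw [h5, h1, S.jinv]
  obtain ⟨w₁, hw₁, hwt⟩ := S.D₁.conj t₁ ht₁ t₁⁻¹ (L₁.inv_mem ht₁) h1 htinv
  have T : Std L₁ L₂ j (l * n * l⁻¹) t₁ t₂ w₁ := ⟨S', ht₁, ht₂, h1, h2, hnt, hw₁, hwt⟩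
  exact T.no_swap hg1 hg2


/-- Let G be a finite group with subgroups L₁ ≅ SL₂(q₁) and L₂ ≅ SL₂(q₂), q₁ and q₂ odd prime powers, which commute elementwise and meet in ⟨j⟩ for an involution j, and suppose L₁L₂ has index 2 in C_G(j). If some n ∈ C_G(j) with n² = j interchanges L₁ and L₂ under conjugation (so that C_G(j) = L₁L₂⟨n⟩), then G = C_G(j)O(G). -/
theorem result {G : Type*} [Group G] [Finite G]
    {F₁ : Type*} [Field F₁] [Fintype F₁] {F₂ : Type*} [Field F₂] [Fintype F₂]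
    (hF₁ : Odd (Fintype.card F₁)) (hF₂ : Odd (Fintype.card F₂)) (L₁ L₂ : Subgroup G)
    (e₁ : ↥L₁ ≃* Matrix.SpecialLinearGroup (Fin 2) F₁) (e₂ : ↥L₂ ≃* Matrix.SpecialLinearGroup (Fin 2) F₂)
    (hc : ∀ x ∈ L₁, ∀ y ∈ L₂, x * y = y * x) (j : G) (hj : orderOf j = 2) (hm : L₁ ⊓ L₂ = Subgroup.zpowers j)
    (hle : L₁ ⊔ L₂ ≤ Subgroup.centralizer ({j} : Set G)) (hi : (L₁ ⊔ L₂).relIndex (Subgroup.centralizer ({j} : Set G)) = 2) (n : G) (hn : n ∈ Subgroup.centralizer ({j} : Set G))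
    (hn2 : n ^ 2 = j) (hswap : L₁.map (MulAut.conj n).toMonoidHom = L₂) :
    Subgroup.centralizer ({j} : Set G) ⊔ Cfsg.oddCore G = ⊤ := by
  have hjm : j ∈ L₁ ⊓ L₂ := by rw [hm]; exact Subgroup.mem_zpowers j
  have P : Pair L₁ L₂ j := pair_of L₁ L₂ j hc hj hm
  have D₁ : Data L₁ j := data hF₁ L₁ e₁ j hj hjm.1
  have D₂ : Data L₂ j := data hF₂ L₂ e₂ j hj hjm.2
  have E₁ : Cent L₁ j := cent_of hF₁ L₁ e₁ j hj hjm.1
  have E₂ : Cent L₂ j := cent_of hF₂ L₂ e₂ j hj hjm.2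
  have hnn : n * n = j := by rw [← hn2, pow_two]
  have hnj : n * j = j * n := by
    have := Subgroup.mem_centralizer_singleton_iff.mp hn
    exact this
  have hββ : ∀ x, x * j = j * x → n * (n * x * n⁻¹) * n⁻¹ = x := by
    intro x hx
    have h1 : n * (n * x * n⁻¹) * n⁻¹ = (n * n) * x * (n * n)⁻¹ := by group
    rw [h1, hnn, ← hx]
    group
  have hn₁ : ∀ x ∈ L₁, n * x * n⁻¹ ∈ L₂ := by
    intro x hx
    rw [← hswap]
    exact ⟨x, hx, by simp [MulAut.conj_apply]⟩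
  have hn₂ : ∀ x ∈ L₂, n * x * n⁻¹ ∈ L₁ := by
    intro x hx
    rw [← hswap] at hx
    obtain ⟨y, hy, rfl⟩ := hx
    have h1 : (MulAut.conj n).toMonoidHom y = n * y * n⁻¹ := by simp [MulAut.conj_apply]
    rw [h1, hββ y (P.comm y hy j P.j₂)]
    exact hy
  obtain ⟨a₀, ha₀, ha₀2⟩ := D₁.exists_sq
  have hnM : n ∉ L₁ ⊔ L₂ := by
    intro h
    obtain ⟨a, ha, b, hb, rfl⟩ := P.mem_sup h
    have h1 : (a * b) * a₀ * (a * b)⁻¹ = a * a₀ * a⁻¹ := by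
      have h2 : b * a₀ = a₀ * b := (P.comm a₀ ha₀ b hb).symm
      calc (a * b) * a₀ * (a * b)⁻¹ = a * (b * a₀) * b⁻¹ * a⁻¹ := by group
        _ = a * (a₀ * b) * b⁻¹ * a⁻¹ := by rw [h2]
        _ = a * a₀ * a⁻¹ := by group
    have h2 : a * a₀ * a⁻¹ ∈ L₂ := by rw [← h1]; exact hn₁ a₀ ha₀
    have h3 : a * a₀ * a⁻¹ ∈ L₁ := L₁.mul_mem (L₁.mul_mem ha ha₀) (L₁.inv_mem ha)
    have hsq : (a * a₀ * a⁻¹) * (a * a₀ * a⁻¹) = j := by
      calc (a * a₀ * a⁻¹) * (a * a₀ * a⁻¹) = a * (a₀ * a₀) * a⁻¹ := by group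
        _ = a * j * a⁻¹ := by rw [ha₀2]
        _ = j := by rw [P.comm a ha j P.j₂]; group
    apply P.j1
    rw [← hsq]
    rcases P.inf _ h3 h2 with h4 | h4
    · rw [h4, one_mul]
    · rw [h4]; exact P.jj
  have hcov : ∀ x, x * j = j * x → x ∈ L₁ ⊔ L₂ ∨ n⁻¹ * x ∈ L₁ ⊔ L₂ := by
    intro x hx
    by_cases h : x ∈ L₁ ⊔ L₂
    · exact Or.inl h
    · right
      have hxC : x ∈ Subgroup.centralizer ({j} : Set G) :=
        Subgroup.mem_centralizer_singleton_iff.mpr hx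
      have hnC' : n⁻¹ ∈ Subgroup.centralizer ({j} : Set G) := Subgroup.inv_mem _ hn
      have hi2 : ((L₁ ⊔ L₂).subgroupOf (Subgroup.centralizer ({j} : Set G))).index = 2 := hi
      have h3 := Subgroup.mul_mem_iff_of_index_two hi2 (a := ⟨n⁻¹, hnC'⟩) (b := ⟨x, hxC⟩)
      simp only [Subgroup.mem_subgroupOf] at h3
      refine h3.mpr ?_
      constructor
      · intro h4
        exact absurd (by simpa using Subgroup.inv_mem _ h4) hnM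
      · intro h4
        exact absurd h4 h
  have S : Setup L₁ L₂ j n := ⟨P, D₁, D₂, E₁, E₂, hnn, hn₁, hn₂, hnM, hcov⟩
  have hI := isolated S hj
  have hZ := Cfsg.Agent.Lib.ZStar.zstar hI
  have hjj : j * j = 1 := P.jj
  have hodd : Odd (Nat.card (oddCore G)) := by
    have h1 : Nat.Coprime (Nat.card (pPrimeCore 2 G)) 2 := Cfsg.Agent.Lib.PCore.card_pPrimeCore_coprime 2
    exact Nat.Coprime.odd_of_right h1
  rw [eq_top_iff]
  intro g _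
  exact mem_sup_core_of_comm hodd hjj (hZ g)

end Cfsg.Agent.S3211
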