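import Mathlib
import Cfsg.Statements.S3222
import Cfsg.Agent.Lib.C2S4Main
import Cfsg.Agent.Lib.PSL2Solv

set_option autoImplicit false
set_option linter.all false
open Cfsg

namespace Cfsg.Agent.S3222

open Subgroup Equiv Cfsg.Agent.Lib.C2S4Par
open scoped commutatorElement

/-- The nontrivial element of the group of order two. -/
def g0 : Multiplicative (ZMod 2) := Multiplicative.ofAdd 1

theorem two_cases : ∀ ε : Multiplicative (ZMod 2), ε = 1 ∨ ε = g0 := by decide

theorem g0_ne : g0 ≠ 1 := by decide

theorem central_P4 : ∀ π : P4, (∀ ρ : P4, π * ρ = ρ * π) → π = 1 := by decide +kernel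

theorem comm_two : ∀ ε ε' : Multiplicative (ZMod 2), ε * ε' = ε' * ε := by decide

theorem card_D : Fintype.card {w : Multiplicative (ZMod 2) × P4 // w * (1, z0) = (1, z0) * w} = 16 := by
  decide +kernel

/-- The parametrization from the data of the statement. -/
theorem exists_par {G : Type*} [Group G] [Finite G]
    (t : G) (ht : orderOf t = 2) (T : Sylow 2 G) (htc : ∀ s ∈ (T : Subgroup G), s * t = t * s)
    (e : ↥(Subgroup.centralizer ({t} : Set G)) ≃* (Multiplicative (ZMod 2) × Equiv.Perm (Fin 4)))
    (h2 : ∀ S : Sylow 2 G, Subgroup.centralizer ((⁅(S : Subgroup G), (S : Subgroup G)⁆ : Subgroup G) : Set G) = (S : Subgroup G)) :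
    ∃ L : P4 →* G, Par t L := by
  have hf : Fact (Nat.Prime 2) := ⟨Nat.prime_two⟩
  have htC : t ∈ (centralizer ({t} : Set G)) := by rw [mem_centralizer_singleton_iff]
  have tt : t * t = 1 := by
    have := pow_orderOf_eq_one t
    rwa [ht, pow_two] at this
  have ht1 : t ≠ 1 := by
    rintro rfl
    simp at ht
  let ι : (Multiplicative (ZMod 2) × P4) →* G := (centralizer ({t} : Set G)).subtype.comp e.symm.toMonoidHom
  have hι : Function.Injective ι := by
    intro x y hxy
    exact e.symm.injective (Subtype.val_injective hxy)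
  have hιe : ∀ x : (centralizer ({t} : Set G)), ι (e x) = x := by
    intro x
    show ((e.symm (e x) : (centralizer ({t} : Set G))) : G) = x
    rw [e.symm_apply_apply]
  have hιmem : ∀ w, ι w ∈ (centralizer ({t} : Set G)) := fun w => (e.symm w).2
  -- the image of `t`
  have hιt : ι (g0, 1) = t := by
    set w := e ⟨t, htC⟩ with hw
    have hcentral : ∀ y, w * y = y * w := by
      intro y
      have h1 : (⟨t, htC⟩ : (centralizer ({t} : Set G))) * e.symm y = e.symm y * ⟨t, htC⟩ := by
        apply Subtype.ext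
        have := (e.symm y).2
        rw [mem_centralizer_singleton_iff] at this
        exact this.symm
      have h3 := congrArg e h1
      simpa [hw] using h3
    have h1 : w.2 = 1 := by
      apply central_P4
      intro ρ
      have := hcentral (1, ρ)
      exact congrArg Prod.snd this
    have h3 : w.1 ≠ 1 := by
      intro h4
      have h5 : w = 1 := Prod.ext h4 h1
      have h6 : (⟨t, htC⟩ : (centralizer ({t} : Set G))) = 1 := by
        apply e.injective
        rw [← hw, h5, map_one]
      exact ht1 (congrArg Subtype.val h6)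
    have h4 : w.1 = g0 := (two_cases w.1).resolve_left h3
    have h5 : w = (g0, 1) := Prod.ext h4 h1
    rw [← h5, hw]
    exact hιe ⟨t, htC⟩
  let L : P4 →* G := ι.comp (MonoidHom.inr _ _)
  have hLe : ∀ π, L π = ι (1, π) := fun π => rfl
  have hprod : ∀ π, ι (g0, π) = t * L π := by
    intro π
    rw [← hιt, hLe, ← map_mul]
    simp
  have hinj : Function.Injective L := by
    intro π ρ hπ
    have := hι hπ
    exact congrArg Prod.snd this
  have hcomm : ∀ π, L π * t = t * L π := by
    intro π
    have := hιmem (1, π)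
    rw [mem_centralizer_singleton_iff] at this
    exact this
  have hne : ∀ π, L π ≠ t := by
    intro π h1
    rw [hLe, ← hιt] at h1
    have := hι h1
    exact g0_ne (congrArg Prod.fst this).symm
  have hcover : ∀ x, x * t = t * x → ∃ π, x = L π ∨ x = t * L π := by
    intro x hx
    have hxC : x ∈ (centralizer ({t} : Set G)) := by rw [mem_centralizer_singleton_iff]; exact hx
    have h1 : ι (e ⟨x, hxC⟩) = x := hιe ⟨x, hxC⟩
    set w := e ⟨x, hxC⟩ with hw
    refine ⟨w.2, ?_⟩
    rcases two_cases w.1 with h3 | h3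
    · left
      calc x = ι w := h1.symm
        _ = ι (1, w.2) := by congr 1; exact Prod.ext h3 rfl
    · right
      calc x = ι w := h1.symm
        _ = ι (g0, w.2) := by congr 1; exact Prod.ext h3 rfl
        _ = t * L w.2 := hprod _
  -- the subgroup
  set z := L z0 with hz
  let S₀ : Subgroup G := (centralizer ({((1 : Multiplicative (ZMod 2)), z0)} : Set (Multiplicative (ZMod 2) × P4))).map ι
  have hS₀ : ∀ x, x ∈ S₀ ↔ ∃ π, π * z0 = z0 * π ∧ (x = L π ∨ x = t * L π) := by
    intro x
    constructor
    · rintro ⟨w, hw, rfl⟩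
      rw [SetLike.mem_coe, mem_centralizer_singleton_iff] at hw
      refine ⟨w.2, congrArg Prod.snd hw, ?_⟩
      rcases two_cases w.1 with h3 | h3
      · left
        rw [hLe]
        congr 1
        exact Prod.ext h3 rfl
      · right
        rw [← hprod]
        congr 1
        exact Prod.ext h3 rfl
    · rintro ⟨π, h0, h1⟩
      rcases h1 with rfl | rfl
      · refine ⟨(1, π), ?_, rfl⟩
        rw [SetLike.mem_coe, mem_centralizer_singleton_iff]
        exact Prod.ext (by simp) h0
      · refine ⟨(g0, π), ?_, hprod π⟩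
        rw [SetLike.mem_coe, mem_centralizer_singleton_iff]
        exact Prod.ext (by simp) h0
  have hcardS₀ : Nat.card S₀ = 16 := by
    have h1 : Nat.card S₀ = Nat.card (centralizer ({((1 : Multiplicative (ZMod 2)), z0)} : Set (Multiplicative (ZMod 2) × P4))) :=
      Subgroup.card_map_of_injective hι
    rw [h1, ← card_D, ← Nat.card_eq_fintype_card]
    exact Nat.card_congr (Equiv.subtypeEquivRight (fun _ => mem_centralizer_singleton_iff))
  have hpS₀ : IsPGroup 2 S₀ := IsPGroup.of_card (n := 4) (by rw [hcardS₀]; norm_num)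
  obtain ⟨S, hS⟩ := hpS₀.exists_le_sylow
  have hcardC : Nat.card (centralizer ({t} : Set G)) = 48 := by
    rw [Nat.card_congr e.toEquiv, Nat.card_prod, Nat.card_eq_fintype_card, Nat.card_eq_fintype_card,
      Fintype.card_perm, Fintype.card_fin]
    rfl
  have hTC : (T : Subgroup G) ≤ (centralizer ({t} : Set G)) := by
    intro s hs
    rw [mem_centralizer_singleton_iff]
    exact htc s hs
  have hTcard : Nat.card (T : Subgroup G) = 16 := by
    obtain ⟨k, hk⟩ := IsPGroup.iff_card.mp T.isPGroup'
    have h1 : 2 ^ k ∣ 48 := by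
      rw [← hk, ← hcardC]
      exact Subgroup.card_dvd_of_le hTC
    have h3 : 2 ^ k ∣ 2 ^ 4 := by
      have h4 : Nat.Coprime (2 ^ k) 3 := Nat.Coprime.pow_left k (by norm_num)
      exact h4.dvd_of_dvd_mul_right (by simpa using h1)
    have h4 : Nat.card (S : Subgroup G) = Nat.card (T : Subgroup G) := by
      rw [Sylow.card_eq_multiplicity, Sylow.card_eq_multiplicity]
    have h5 : 16 ≤ Nat.card (S : Subgroup G) := by
      rw [← hcardS₀]
      exact Nat.card_le_card_of_injective _ (Subgroup.inclusion_injective hS)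
    rw [h4, hk] at h5
    rw [hk]
    have h6 : 2 ^ k ≤ 2 ^ 4 := Nat.le_of_dvd (by norm_num) h3
    have h7 : (2 : ℕ) ^ 4 = 16 := by norm_num
    omega
  have hSS₀ : (S : Subgroup G) = S₀ := by
    symm
    apply Subgroup.eq_of_le_of_card_ge hS
    rw [hcardS₀, Sylow.card_eq_multiplicity, ← Sylow.card_eq_multiplicity T, hTcard]
  have h2S := h2 S
  rw [hSS₀] at h2S
  have hzz : z ∈ ⁅S₀, S₀⁆ := by
    have h1 : z = ⁅L u0, L d1⁆ := by
      rw [commutatorElement_def, hz, ← u0_d1_comm]
      simp
    rw [h1]
    apply Subgroup.commutator_mem_commutator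
    · exact (hS₀ _).2 ⟨u0, u0_z0, Or.inl rfl⟩
    · exact (hS₀ _).2 ⟨d1, d1_z0', Or.inl rfl⟩
  have hle : ⁅S₀, S₀⁆ ≤ zpowers z := by
    rw [Subgroup.commutator_le]
    intro x hx y hy
    obtain ⟨w, hw, rfl⟩ := hx
    obtain ⟨w', hw', rfl⟩ := hy
    rw [SetLike.mem_coe, mem_centralizer_singleton_iff] at hw hw'
    have h1 : ⁅ι w, ι w'⁆ = ι ⁅w, w'⁆ := by
      simp [commutatorElement_def]
    rw [h1]
    have h3 : ⁅w, w'⁆ = (1, w.2 * w'.2 * w.2⁻¹ * w'.2⁻¹) := by
      rw [commutatorElement_def]
      refine Prod.ext ?_ rfl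
      show w.1 * w'.1 * w.1⁻¹ * w'.1⁻¹ = 1
      rw [comm_two w.1 w'.1]
      group
    rw [h3]
    rcases D_comm w.2 w'.2 (congrArg Prod.snd hw) (congrArg Prod.snd hw') with h4 | h4
    · rw [h4]
      have : ι (1, 1) = 1 := map_one ι
      rw [show ((1 : Multiplicative (ZMod 2)), (1 : P4)) = 1 from rfl, map_one]
      exact Subgroup.one_mem _
    · rw [h4]
      exact Subgroup.mem_zpowers z
  have hzmem : ∀ x, x * z = z * x ↔ x ∈ S₀ := by
    intro x
    rw [← h2S, mem_centralizer_iff]
    constructor
    · intro h1 y hy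
      have h3 := hle hy
      obtain ⟨n, rfl⟩ := h3
      exact ((Commute.zpow_right (show Commute x z from h1) n).symm).eq
    · intro h1
      exact (h1 z hzz).symm
  have hzcent : centralizer ({z} : Set G) = S₀ := by
    ext x
    rw [mem_centralizer_singleton_iff]
    exact hzmem x
  refine ⟨L, tt, ht1, hinj, hcomm, hne, hcover, ?_, ⟨S, ?_⟩, ?_, hcardC⟩
  · intro x
    rw [hzmem, hS₀]
  · rw [hSS₀, hzcent]
  · refine ⟨(T : Subgroup G).index, ?_, ?_⟩
    · rw [← Nat.not_even_iff_odd, even_iff_two_dvd]
      exact T.not_dvd_index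
    · rw [← hTcard]
      exact (Subgroup.card_mul_index _).symm

theorem solvable_prod : Group.IsSolvable (Multiplicative (ZMod 2) × P4) := by
  have h1 : Group.IsSolvable P4 := Cfsg.Agent.Lib.PSL2Solv.isSolvable_perm4
  have h2 : Group.IsSolvable (Multiplicative (ZMod 2)) :=
    Group.isSolvable_of_comm comm_two
  refine Group.isSolvable_of_ker_le_range (MonoidHom.inl (Multiplicative (ZMod 2)) P4) (MonoidHom.snd _ _) ?_
  rintro ⟨a, b⟩ hab
  have hb : b = 1 := hab
  exact ⟨a, by simp [hb]⟩

/-- **S3222.** -/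
theorem result {G : Type*} [Group G] [Finite G] (hev : Even (Nat.card G))
    (t : G) (ht : orderOf t = 2) (T : Sylow 2 G) (htT : t ∈ (T : Subgroup G)) (htc : ∀ s ∈ (T : Subgroup G), s * t = t * s)
    (e : ↥(Subgroup.centralizer ({t} : Set G)) ≃* (Multiplicative (ZMod 2) × Equiv.Perm (Fin 4)))
    (h2 : ∀ S : Sylow 2 G, Subgroup.centralizer ((⁅(S : Subgroup G), (S : Subgroup G)⁆ : Subgroup G) : Set G) = (S : Subgroup G)) :
    (Group.IsSolvable G → Subgroup.centralizer ({t} : Set G) = ⊤) ∧
      (¬ Group.IsSolvable G → Nonempty (G ≃* Equiv.Perm (Fin 6))) := by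
  obtain ⟨L, hL⟩ := exists_par t ht T htc e h2
  rcases Cfsg.Agent.Lib.C2S4Main.main hL with hC | hi
  · refine ⟨fun _ => hC, fun hns => absurd ?_ hns⟩
    have h1 := solvable_prod
    -- `G` embeds into `Z₂ × S₄`
    let f : G →* (Multiplicative (ZMod 2) × P4) :=
      e.toMonoidHom.comp (MonoidHom.codRestrict (MonoidHom.id G) (centralizer ({t} : Set G)) (by
        intro x
        rw [hC]
        trivial))
    have hf : Function.Injective f := by
      intro x y hxy
      have h3 := e.injective hxy
      exact congrArg Subtype.val h3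
    exact Group.isSolvable_of_isSolvable_injective hf
  · obtain ⟨i⟩ := hi
    refine ⟨fun hs => ?_, fun _ => ⟨i⟩⟩
    exfalso
    have h1 : Group.IsSolvable (Equiv.Perm (Fin 6)) :=
      Group.isSolvable_of_isSolvable_injective (f := i.symm.toMonoidHom) i.symm.injective
    exact Equiv.Perm.not_isSolvable (Fin 6) (by
      simp only [Cardinal.mk_fintype, Fintype.card_fin]
      norm_num) h1

end Cfsg.Agent.S3222
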