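import Cfsg.Statements.S3279
import Cfsg.Agent.Lib.ZStar
import Cfsg.Agent.Lib.EmbInvol

set_option autoImplicit false
open Cfsg
open Cfsg.Agent.Lib.EmbInvol
open scoped Pointwise

namespace Cfsg.Agent.S3279

section config

variable {G : Type*} [Group G]

/-- The configuration when `x` is not `2`-central. -/
structure Cfg (x y : G) : Prop where
  hx : orderOf x = 2
  hy : orderOf y = 2
  hcomm : Commute x y
  hyx : y ≠ x
  hz : IsConj x (x * y)
  hnc : ¬ IsConj x y
  hall : ∀ u : G, orderOf u = 2 → Commute x u → u = x ∨ u = y ∨ u = x * y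

/-- `m` is the "axis" of `a`. -/
def R (x a m : G) : Prop := orderOf m = 2 ∧ Commute a m ∧ ¬ IsConj x m

lemma orderOf_conj' (g a : G) : orderOf (g * a * g⁻¹) = orderOf a := by
  have := MulEquiv.orderOf_eq (MulAut.conj g) a
  simpa using this

lemma isConj_conj' (g a : G) : IsConj a (g * a * g⁻¹) := isConj_iff.2 ⟨g, rfl⟩

lemma R_conj {x a m : G} (g : G) (h : R x a m) : R x (g * a * g⁻¹) (g * m * g⁻¹) := by
  obtain ⟨h1, h2, h3⟩ := h
  refine ⟨by rw [orderOf_conj']; exact h1, ?_, ?_⟩
  · have := h2.eq
    show g * a * g⁻¹ * (g * m * g⁻¹) = g * m * g⁻¹ * (g * a * g⁻¹)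
    calc g * a * g⁻¹ * (g * m * g⁻¹) = g * (a * m) * g⁻¹ := by group
      _ = g * (m * a) * g⁻¹ := by rw [this]
      _ = g * m * g⁻¹ * (g * a * g⁻¹) := by group
  · intro h4
    exact h3 (h4.trans (isConj_conj' g m).symm)

variable {x y : G}

lemma base_unique (c : Cfg x y) {m : G} (h : R x x m) : m = y := by
  obtain ⟨h1, h2, h3⟩ := h
  rcases c.hall m h1 h2 with rfl | rfl | rfl
  · exact absurd (IsConj.refl _) h3
  · rfl
  · exact absurd c.hz h3

lemma R_of_conj {a m g : G} (hg : g * x * g⁻¹ = a) (h : R x a m) : R x x (g⁻¹ * m * g) := by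
  have := R_conj g⁻¹ h
  have e : g⁻¹ * a * g⁻¹⁻¹ = x := by rw [← hg]; group
  rw [e] at this
  simpa using this

lemma R_eq (c : Cfg x y) {a m g : G} (hg : g * x * g⁻¹ = a) (h : R x a m) : m = g * y * g⁻¹ := by
  have h1 := base_unique c (R_of_conj hg h)
  rw [← h1]; group

lemma R_unique (c : Cfg x y) {a m m' : G} (ha : IsConj x a) (h : R x a m) (h' : R x a m') : m = m' := by
  obtain ⟨g, hg⟩ := isConj_iff.1 ha
  rw [R_eq c hg h, R_eq c hg h']

lemma R_exists (c : Cfg x y) {a : G} (ha : IsConj x a) : ∃ m, R x a m := by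
  obtain ⟨g, hg⟩ := isConj_iff.1 ha
  refine ⟨g * y * g⁻¹, ?_⟩
  have := R_conj g (show R x x y from ⟨c.hy, c.hcomm, c.hnc⟩)
  rwa [hg] at this

lemma inv_in (c : Cfg x y) {a m u : G} (ha : IsConj x a) (h : R x a m) (hu : orderOf u = 2)
    (hc : Commute a u) : u = a ∨ u = a * m ∨ u = m := by
  obtain ⟨g, hg⟩ := isConj_iff.1 ha
  have hm := R_eq c hg h
  have h1 : orderOf (g⁻¹ * u * g) = 2 := by
    have := orderOf_conj' g⁻¹ u
    rw [inv_inv] at this
    rw [this, hu]
  have h2 : Commute x (g⁻¹ * u * g) := by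
    have h3 := hc.eq
    rw [← hg] at h3
    show x * (g⁻¹ * u * g) = g⁻¹ * u * g * x
    calc x * (g⁻¹ * u * g) = g⁻¹ * ((g * x * g⁻¹) * u) * g := by group
      _ = g⁻¹ * (u * (g * x * g⁻¹)) * g := by rw [h3]
      _ = g⁻¹ * u * g * x := by group
  have back : ∀ w : G, g⁻¹ * u * g = w → u = g * w * g⁻¹ := by
    intro w hw
    rw [← hw]; group
  rcases c.hall _ h1 h2 with h3 | h3 | h3
  · left; rw [back _ h3, hg]
  · right; right; rw [back _ h3, hm]
  · right; left; rw [back _ h3, ← hg, hm]; group

lemma partner_D {a m : G} (c : Cfg x y) (ha : IsConj x a) (h : R x a m) : IsConj x (a * m) := by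
  obtain ⟨g, hg⟩ := isConj_iff.1 ha
  have hm := R_eq c hg h
  have e : a * m = g * (x * y) * g⁻¹ := by rw [← hg, hm]; group
  rw [e]
  exact c.hz.trans (isConj_conj' g _)

lemma partner_R {a m : G} (h : R x a m) : R x (a * m) m :=
  ⟨h.1, h.2.1.mul_left (Commute.refl m), h.2.2⟩

lemma order_D (c : Cfg x y) {a : G} (ha : IsConj x a) : orderOf a = 2 := by
  obtain ⟨g, rfl⟩ := isConj_iff.1 ha
  rw [orderOf_conj']; exact c.hx

lemma even_eq [Finite G] (c : Cfg x y) {a b m n : G} (ha : IsConj x a) (hb : IsConj x b)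
    (hm : R x a m) (hn : R x b n) (heven : Even (orderOf (a * b))) : m = n := by
  have hoa : orderOf a = 2 := order_D c ha
  have hob : orderOf b = 2 := order_D c hb
  obtain ⟨e, he2, hea, heb⟩ := exists_central_of_even (mul_self_of_order hoa) (mul_self_of_order hob) heven
  have h1 := inv_in c ha hm he2 (Commute.eq hea).symm
  have h2 := inv_in c hb hn he2 (Commute.eq heb).symm
  -- conjugacy class of `e`
  have key : ∀ w : G, IsConj x w → R x w m → R x w n → m = n := fun w hw h3 h4 => R_unique c hw h3 h4
  rcases h1 with h1 | h1 | h1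
  · rcases h2 with h2 | h2 | h2
    · have : a = b := by rw [← h1, ← h2]
      subst this; exact R_unique c ha hm hn
    · have : a = b * n := by rw [← h1, ← h2]
      exact R_unique c (partner_D c hb hn) (this ▸ hm) (partner_R hn)
    · exact absurd (h2 ▸ h1 ▸ ha) hn.2.2
  · rcases h2 with h2 | h2 | h2
    · have : a * m = b := by rw [← h1, ← h2]
      exact R_unique c hb (this ▸ partner_R hm) hn
    · have : a * m = b * n := by rw [← h1, ← h2]
      exact R_unique c (partner_D c hb hn) (this ▸ partner_R hm) (partner_R hn)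
    · exact absurd (h2 ▸ h1 ▸ partner_D c ha hm) hn.2.2
  · rcases h2 with h2 | h2 | h2
    · exact absurd (h1 ▸ h2 ▸ hb) hm.2.2
    · exact absurd (h1 ▸ h2 ▸ partner_D c hb hn) hm.2.2
    · rw [← h1, ← h2]

/-- The midpoint of `a, b` is conjugate to `b`. -/
lemma isConj_midpoint' {a b : G} [Finite G] (ha : a * a = 1) (hb : b * b = 1) (hodd : Odd (orderOf (a * b))) :
    IsConj b (Cfsg.Agent.Lib.EmbInvol.midpoint a b) := by
  obtain ⟨k, hk⟩ := hodd
  set o := orderOf (a * b) with ho
  have hK : (o + 1) / 2 = k + 1 := by omega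
  set d := a * b with hd
  have hdo : d ^ o = 1 := pow_orderOf_eq_one d
  set e := d ^ (k + 1) with he
  set f := e ^ (k + 1) with hf
  have hee : e ^ o = 1 := by rw [he, ← pow_mul, mul_comm, pow_mul, hdo, one_pow]
  have hff : f * f = e := by
    rw [hf, ← pow_add]
    have : k + 1 + (k + 1) = o + 1 := by omega
    rw [this, pow_succ, hee, one_mul]
  have hm : Cfsg.Agent.Lib.EmbInvol.midpoint a b = e * b := by
    unfold Cfsg.Agent.Lib.EmbInvol.midpoint
    rw [← hd, ← ho, hK]
  have hfd : f = d ^ ((k + 1) * (k + 1)) := by rw [hf, he, ← pow_mul]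
  have h1 : b * f * b = f⁻¹ := by
    rw [hfd]; exact conj_pow_mul' ha hb _
  have hbi : b⁻¹ = b := inv_eq_of_mul_eq_one_left hb
  rw [hm]
  refine isConj_iff.2 ⟨f, ?_⟩
  have h2 : b * f⁻¹ = f * b := by
    have h3 : f⁻¹ = b * f * b := h1.symm
    rw [h3]
    calc b * (b * f * b) = (b * b) * f * b := by group
      _ = f * b := by rw [hb, one_mul]
  calc f * b * f⁻¹ = f * (b * f⁻¹) := by group
    _ = f * (f * b) := by rw [h2]
    _ = (f * f) * b := by group
    _ = e * b := by rw [hff]

/-- All axes commute. -/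
lemma commute_axes [Finite G] (c : Cfg x y) {a b₀ μ β : G} (ha : IsConj x a) (hb₀ : IsConj x b₀)
    (hμ : R x a μ) (hβ : R x b₀ β) (hne : μ ≠ β) : Commute μ β := by
  have hoa : orderOf a = 2 := order_D c ha
  have hob : orderOf b₀ = 2 := order_D c hb₀
  have haa : a * a = 1 := mul_self_of_order hoa
  have hbb : b₀ * b₀ = 1 := mul_self_of_order hob
  have hββ : β * β = 1 := mul_self_of_order hβ.1
  have hμμ : μ * μ = 1 := mul_self_of_order hμ.1
  have hai : a⁻¹ = a := inv_eq_of_mul_eq_one_left haa
  set α := a * β * a⁻¹ with hα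
  have hαe : α = a * β * a := by rw [hα, hai]
  have hαα : α * α = 1 := by
    rw [hαe]
    calc a * β * a * (a * β * a) = a * β * (a * a) * β * a := by group
      _ = a * (β * β) * a := by rw [haa]; group
      _ = 1 := by rw [hββ]; simpa using haa
  have hαβ : α ≠ β := by
    intro h
    have hcom : Commute a β := by
      show a * β = β * a
      calc a * β = (a * β * a⁻¹) * a := by group
        _ = β * a := by rw [← hα, h]
    exact hne (R_unique c ha hμ ⟨hβ.1, hcom, hβ.2.2⟩)
  have hα1 : α ≠ 1 := by
    intro h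
    have : β = 1 := by
      have h2 : a * β * a⁻¹ = 1 := h
      have h3 : a * β = a := by
        calc a * β = (a * β * a⁻¹) * a := by group
          _ = a := by rw [h2, one_mul]
      simpa using h3
    exact (ne_one_of_order hβ.1) this
  set c₀ := a * b₀ * a⁻¹ with hc₀
  have hc₀D : IsConj x c₀ := hb₀.trans (isConj_conj' a b₀)
  have hRc₀ : R x c₀ α := R_conj a hβ
  set c₁ := c₀ * α with hc₁
  have hc₁D : IsConj x c₁ := partner_D c hc₀D hRc₀
  have hRc₁ : R x c₁ α := partner_R hRc₀
  have hoc₁ : orderOf c₁ = 2 := order_D c hc₁D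
  have hc₁c₁ : c₁ * c₁ = 1 := mul_self_of_order hoc₁
  -- odd product
  have hodd : Odd (orderOf (c₁ * b₀)) := by
    rw [← Nat.not_even_iff_odd]
    intro hev
    exact hαβ (even_eq c hc₁D hb₀ hRc₁ hβ hev)
  set m₂ := Cfsg.Agent.Lib.EmbInvol.midpoint c₁ b₀ with hm₂
  have hm₂m₂ : m₂ * m₂ = 1 := midpoint_mul_self hc₁c₁ hbb
  have hm₂c : m₂ * c₁ * m₂ = b₀ := midpoint_conj hc₁c₁ hbb hodd
  have hm₂D : IsConj x m₂ := hb₀.trans (isConj_midpoint' hc₁c₁ hbb hodd)
  have hm₂i : m₂⁻¹ = m₂ := inv_eq_of_mul_eq_one_left hm₂m₂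
  have hm₂b : m₂ * b₀ * m₂ = c₁ := by
    rw [← hm₂c]
    calc m₂ * (m₂ * c₁ * m₂) * m₂ = (m₂ * m₂) * c₁ * (m₂ * m₂) := by group
      _ = c₁ := by rw [hm₂m₂]; group
  -- `m₂` conjugates `α` to `β`
  have hm₂α : m₂ * α * m₂ = β := by
    have h1 := R_conj m₂ hRc₁
    rw [hm₂i, hm₂c] at h1
    exact R_unique c hb₀ h1 hβ
  have hm₂β : m₂ * β * m₂ = α := by
    rw [← hm₂α]
    calc m₂ * (m₂ * α * m₂) * m₂ = (m₂ * m₂) * α * (m₂ * m₂) := by group
      _ = α := by rw [hm₂m₂]; group
  have haβ : a * β * a = α := hαe.symm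
  have haα : a * α * a = β := by
    rw [hαe]
    calc a * (a * β * a) * a = (a * a) * β * (a * a) := by group
      _ = β := by rw [haa]; group
  have hac₀ : a * c₀ * a = b₀ := by
    rw [hc₀, hai]
    calc a * (a * b₀ * a) * a = (a * a) * b₀ * (a * a) := by group
      _ = b₀ := by rw [haa]; group
  set r := m₂ * a with hr
  have hri : r⁻¹ = a * m₂ := by
    rw [hr, mul_inv_rev, hm₂i, hai]
  have hr1 : r * c₀ * r⁻¹ = c₁ := by
    rw [hri, hr]
    calc m₂ * a * c₀ * (a * m₂) = m₂ * (a * c₀ * a) * m₂ := by group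
      _ = c₁ := by rw [hac₀, hm₂b]
  have hrα : r * α * r⁻¹ = α := by
    rw [hri, hr]
    calc m₂ * a * α * (a * m₂) = m₂ * (a * α * a) * m₂ := by group
      _ = α := by rw [haα, hm₂β]
  have hrβ : r * β * r⁻¹ = β := by
    rw [hri, hr]
    calc m₂ * a * β * (a * m₂) = m₂ * (a * β * a) * m₂ := by group
      _ = β := by rw [haβ, hm₂α]
  have hr2 : r * c₁ * r⁻¹ = c₀ := by
    have : r * c₁ * r⁻¹ = (r * c₀ * r⁻¹) * (r * α * r⁻¹) := by
      rw [hc₁]; group
    rw [this, hr1, hrα, hc₁, mul_assoc, hαα, mul_one]
  -- `r` has even order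
  have hrsq : (r ^ 2) * c₀ = c₀ * (r ^ 2) := by
    have h1 : r * (r * c₀ * r⁻¹) * r⁻¹ = c₀ := by rw [hr1, hr2]
    calc (r ^ 2) * c₀ = (r * (r * c₀ * r⁻¹) * r⁻¹) * (r ^ 2) := by simp [pow_two, mul_assoc]
      _ = c₀ * (r ^ 2) := by rw [h1]
  have hreven : Even (orderOf r) := by
    rw [← Nat.not_odd_iff_even]
    rintro ⟨j, hj⟩
    have h1 : r ^ (2 * j) * r = 1 := by
      rw [← pow_succ, ← hj, pow_orderOf_eq_one]
    have h2 : Commute (r ^ (2 * j)) c₀ := by
      rw [pow_mul]
      exact (show Commute (r ^ 2) c₀ from hrsq).pow_left j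
    have h3 : r = (r ^ (2 * j))⁻¹ := eq_inv_of_mul_eq_one_right h1
    have h4 : Commute r c₀ := by
      rw [h3]; exact h2.inv_left
    have h5 : r * c₀ * r⁻¹ = c₀ := by
      rw [h4.eq]; group
    rw [hr1, hc₁] at h5
    exact hα1 (by simpa using h5)
  -- the central involution of `⟨m₂, a⟩`
  obtain ⟨l, hl⟩ := hreven
  have hrpos : 0 < orderOf r := orderOf_pos r
  have hlpos : 0 < l := by omega
  set e := r ^ l with he
  have hee : e * e = 1 := by
    rw [he, ← pow_add, ← hl, pow_orderOf_eq_one]
  have he1 : e ≠ 1 := by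
    intro h
    have := orderOf_dvd_of_pow_eq_one h
    have := Nat.le_of_dvd hlpos this
    omega
  have heo : orderOf e = 2 := order_of_mul_self hee he1
  have hei : e⁻¹ = e := inv_eq_of_mul_eq_one_left hee
  have hoa2 : orderOf m₂ = 2 := order_D c hm₂D
  have hm₂a : Commute m₂ e := by
    have h1 := conj_pow_mul hm₂m₂ haa l
    rw [← hr, ← he, hei] at h1
    show m₂ * e = e * m₂
    calc m₂ * e = (m₂ * e * m₂) * m₂ := by rw [mul_assoc, mul_assoc, hm₂m₂, mul_one]
      _ = e * m₂ := by rw [h1]
  have hae : Commute a e := by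
    have h1 := conj_pow_mul' hm₂m₂ haa l
    rw [← hr, ← he, hei] at h1
    show a * e = e * a
    calc a * e = (a * e * a) * a := by rw [mul_assoc, mul_assoc, haa, mul_one]
      _ = e * a := by rw [h1]
  -- `m₂` has the same axis
  obtain ⟨n₂, hn₂⟩ := R_exists c hm₂D
  have hn₂μ : n₂ = μ := even_eq c hm₂D ha hn₂ hμ ⟨l, by rw [← hr]; exact hl⟩
  rw [hn₂μ] at hn₂
  have hm₂1 : m₂ ≠ 1 := ne_one_of_order hoa2
  have ha1 : a ≠ 1 := ne_one_of_order hoa
  -- if `r` is an involution
  have hrinv : r * r = 1 → e = r := by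
    intro hrr
    have h1 : r ≠ 1 := by
      intro h
      rw [h] at hl
      simp at hl
      omega
    have h2 : orderOf r = 2 := order_of_mul_self hrr h1
    have : l = 1 := by omega
    rw [he, this, pow_one]
  have heμ : e = μ := by
    rcases inv_in c ha hμ heo hae with h1 | h1 | h1
    · -- `e = a`
      exfalso
      have h2 : Commute a r := by
        rw [← h1, he]
        exact (Commute.refl r).pow_left l
      have h3 : r * r = 1 := by
        have h4 : a * r * a = r⁻¹ := by
          have := conj_pow_mul' hm₂m₂ haa 1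
          simpa [hr] using this
        have h5 : r⁻¹ = r := by
          rw [← h4, h2.eq, mul_assoc, haa, mul_one]
        exact (inv_eq_iff_mul_eq_one.mp h5)
      have h6 := hrinv h3
      rw [h1] at h6
      apply hm₂1
      have h7 : a = m₂ * a := h6
      simpa using h7.symm
    · -- `e = a * μ`
      exfalso
      have hc2 : Commute m₂ e := hm₂a
      rcases inv_in c hm₂D hn₂ heo hc2 with h2 | h2 | h2
      · -- `a * μ = m₂`
        have h3 : r = μ := by
          have h4 : m₂ = a * μ := by rw [← h2, h1]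
          rw [hr, h4, hμ.2.1.eq, mul_assoc, haa, mul_one]
        have h5 : e = r := hrinv (by rw [h3]; exact hμμ)
        rw [h5, h3] at h1
        apply ha1
        have : μ = a * μ := h1
        simpa using this.symm
      · -- `a * μ = m₂ * μ`
        have h3 : a = m₂ := by
          have h4 : a * μ = m₂ * μ := by rw [← h1, h2]
          exact mul_right_cancel h4
        have h4 : r = 1 := by rw [hr, ← h3, haa]
        apply he1
        rw [he, h4, one_pow]
      · -- `a * μ = μ`
        apply ha1
        have : a * μ = μ := by rw [← h1, h2]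
        simpa using this
    · exact h1
  -- conclusion
  have hrβ' : Commute r β := by
    show r * β = β * r
    calc r * β = (r * β * r⁻¹) * r := by group
      _ = β * r := by rw [hrβ]
  rw [← heμ, he]
  exact hrβ'.pow_left l

end config

section main

variable {G : Type*} [Group G] [Finite G]

/-- The count hypothesis gives: at most the three obvious involutions commute with `x`. -/
lemma three_inv {x : G} (hx : orderOf x = 2)
    (h3 : Nat.card {u : ↥(Subgroup.centralizer ({x} : Set G)) // orderOf u = 2} ≤ 3)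
    {y u : G} (hy : orderOf y = 2) (hxy : Commute x y) (hne : y ≠ x) (hu : orderOf u = 2)
    (hxu : Commute x u) : u = x ∨ u = y ∨ u = x * y := by
  classical
  by_contra hcon
  push_neg at hcon
  obtain ⟨h1, h2, h3'⟩ := hcon
  have hxx : x * x = 1 := mul_self_of_order hx
  have hyy : y * y = 1 := mul_self_of_order hy
  have hx1 : x ≠ 1 := ne_one_of_order hx
  have hy1 : y ≠ 1 := ne_one_of_order hy
  have hzz : (x * y) * (x * y) = 1 := by
    calc x * y * (x * y) = x * (y * x) * y := by group
      _ = x * (x * y) * y := by rw [hxy.eq]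
      _ = (x * x) * (y * y) := by group
      _ = 1 := by rw [hxx, hyy, one_mul]
  have hz1 : x * y ≠ 1 := by
    intro h
    apply hne
    have := mul_eq_one_iff_eq_inv.mp h
    rw [inv_eq_of_mul_eq_one_left hyy] at this
    exact this.symm
  have hzo : orderOf (x * y) = 2 := order_of_mul_self hzz hz1
  have mem : ∀ w : G, Commute x w → w ∈ Subgroup.centralizer ({x} : Set G) := by
    intro w hw
    rw [Subgroup.mem_centralizer_singleton_iff]
    exact hw.eq.symm
  let mk : ∀ w : G, orderOf w = 2 → Commute x w →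
      {u : ↥(Subgroup.centralizer ({x} : Set G)) // orderOf u = 2} :=
    fun w h1 h2 => ⟨⟨w, mem w h2⟩, by rw [Subgroup.orderOf_mk]; exact h1⟩
  let f : Fin 4 → {u : ↥(Subgroup.centralizer ({x} : Set G)) // orderOf u = 2} :=
    ![mk x hx (Commute.refl x), mk y hy hxy, mk (x * y) hzo ((Commute.refl x).mul_right hxy), mk u hu hxu]
  have hxne : x ≠ x * y := by
    intro h
    apply hy1
    simpa using h.symm
  have hyne : y ≠ x * y := by
    intro h
    apply hx1
    simpa using h.symm
  let g : Fin 4 → G := ![x, y, x * y, u]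
  have hg : ∀ i, (((f i).1 : ↥(Subgroup.centralizer ({x} : Set G))) : G) = g i := by
    intro i; fin_cases i <;> rfl
  have hf : Function.Injective f := by
    intro i j hij
    have h0 : g i = g j := by rw [← hg, ← hg, hij]
    clear hij
    fin_cases i <;> fin_cases j <;> first
      | rfl
      | (exfalso
         have h00 := h0
         simp only [g, Fin.zero_eta, Fin.mk_one, Fin.reduceFinMk, Matrix.cons_val] at h00
         first
           | exact hne h00.symm
           | exact hne h00
           | exact hxne h00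
           | exact hxne h00.symm
           | exact hyne h00
           | exact hyne h00.symm
           | exact h1 h00
           | exact h1 h00.symm
           | exact h2 h00
           | exact h2 h00.symm
           | exact h3' h00
           | exact h3' h00.symm)
  have := Nat.card_le_card_of_injective f hf
  simp only [Nat.card_eq_fintype_card, Fintype.card_fin] at this
  omega

/-- Every `2`-element of `K` can be conjugated under `K` into a Sylow subgroup of `G` in `K`. -/
lemma conj_into {K : Subgroup G} (T : Sylow 2 G) (hT : (T : Subgroup G) ≤ K) {u : G} (huK : u ∈ K)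
    (hu : orderOf u = 2) : ∃ k ∈ K, k * u * k⁻¹ ∈ (T : Subgroup G) := by
  have : Fact (Nat.Prime 2) := ⟨Nat.prime_two⟩
  have hQ : IsPGroup 2 (Subgroup.zpowers u) :=
    IsPGroup.of_card (n := 1) (by rw [Nat.card_zpowers, hu]; norm_num)
  have hQ' : IsPGroup 2 ((Subgroup.zpowers u).subgroupOf K) := hQ.comap_subtype
  obtain ⟨R, hR⟩ := hQ'.exists_le_sylow
  obtain ⟨k, hk⟩ := MulAction.exists_smul_eq (↥K) R (T.subtype hT)
  refine ⟨k, k.2, ?_⟩
  have h1 : (⟨u, huK⟩ : K) ∈ (R : Subgroup K) :=
    hR (by simp [Subgroup.mem_subgroupOf])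
  have h2 : MulAut.conj k • (⟨u, huK⟩ : K) ∈ MulAut.conj k • (R : Subgroup K) :=
    Subgroup.smul_mem_pointwise_smul _ _ _ h1
  rw [← Sylow.coe_subgroup_smul, hk, Sylow.coe_subtype] at h2
  simpa [Subgroup.mem_subgroupOf] using h2

/-- In a Sylow subgroup `T` containing the non-central involution `x`, a `T`-conjugate of `x` commutes with `x`. -/
lemma exists_conj_commute (T : Sylow 2 G) {x : G} (hxT : x ∈ (T : Subgroup G))
    (hn : ¬ (T : Subgroup G) ≤ Subgroup.centralizer ({x} : Set G)) :
    ∃ t ∈ (T : Subgroup G), t * x * t⁻¹ ≠ x ∧ Commute x (t * x * t⁻¹) := by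
  have : Fact (Nat.Prime 2) := ⟨Nat.prime_two⟩
  have hnil : Group.IsNilpotent ↥(T : Subgroup G) := T.isPGroup'.isNilpotent
  set A : Subgroup ↥(T : Subgroup G) := (Subgroup.centralizer ({x} : Set G)).subgroupOf (T : Subgroup G) with hA
  have hAtop : A ≠ ⊤ := by
    intro h
    apply hn
    intro s hs
    have : (⟨s, hs⟩ : ↥(T : Subgroup G)) ∈ A := by rw [h]; trivial
    exact this
  have hlt : A < (⊤ : Subgroup ↥(T : Subgroup G)) := lt_top_iff_ne_top.2 hAtop
  have h1 := normalizerCondition_of_isNilpotent (G := ↥(T : Subgroup G)) A hlt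
  obtain ⟨t, ht, htA⟩ := SetLike.exists_of_lt h1
  refine ⟨t, t.2, ?_, ?_⟩
  · intro h
    apply htA
    show (t : G) ∈ Subgroup.centralizer ({x} : Set G)
    rw [Subgroup.mem_centralizer_singleton_iff]
    calc (t : G) * x = ((t : G) * x * (t : G)⁻¹) * t := by group
      _ = x * t := by rw [h]
  · have hxA : (⟨x, hxT⟩ : ↥(T : Subgroup G)) ∈ A := by
      show x ∈ Subgroup.centralizer ({x} : Set G)
      rw [Subgroup.mem_centralizer_singleton_iff]
    have h2 := (Subgroup.mem_normalizer_iff.1 ht _).1 hxA
    have h3 : (t : G) * x * (t : G)⁻¹ ∈ Subgroup.centralizer ({x} : Set G) := h2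
    rw [Subgroup.mem_centralizer_singleton_iff] at h3
    exact h3.symm

/-- Part (1): `x` is `2`-central. -/
theorem exists_sylow_le [IsSimpleGroup G] {x : G} (hx : orderOf x = 2)
    (h3 : Nat.card {u : ↥(Subgroup.centralizer ({x} : Set G)) // orderOf u = 2} ≤ 3) :
    ∃ S : Sylow 2 G, (S : Subgroup G) ≤ Subgroup.centralizer ({x} : Set G) := by
  classical
  have : Fact (Nat.Prime 2) := ⟨Nat.prime_two⟩
  by_contra hno
  push_neg at hno
  have hzpx : IsPGroup 2 (Subgroup.zpowers x) :=
    IsPGroup.of_card (n := 1) (by rw [Nat.card_zpowers, hx]; norm_num)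
  obtain ⟨T, hT⟩ := hzpx.exists_le_sylow
  have hxT : x ∈ (T : Subgroup G) := hT (Subgroup.mem_zpowers x)
  obtain ⟨t, htT, hne, hcomm⟩ := exists_conj_commute T hxT (hno T)
  set z := t * x * t⁻¹ with hz
  have hzo : orderOf z = 2 := by rw [hz, orderOf_conj']; exact hx
  have hxx : x * x = 1 := mul_self_of_order hx
  have hzz : z * z = 1 := mul_self_of_order hzo
  have hx1 : x ≠ 1 := ne_one_of_order hx
  have hz1 : z ≠ 1 := ne_one_of_order hzo
  have hxi : x⁻¹ = x := inv_eq_of_mul_eq_one_left hxx
  set y := x * z with hy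
  have hyy : y * y = 1 := by
    calc x * z * (x * z) = x * (z * x) * z := by group
      _ = x * (x * z) * z := by rw [hcomm.eq]
      _ = (x * x) * (z * z) := by group
      _ = 1 := by rw [hxx, hzz, one_mul]
  have hy1 : y ≠ 1 := by
    intro h
    apply hne
    have := mul_eq_one_iff_eq_inv.mp h
    have h2 : z = x⁻¹ := mul_eq_one_iff_eq_inv'.mp h
    rw [h2, hxi]
  have hyo : orderOf y = 2 := order_of_mul_self hyy hy1
  have hyx : y ≠ x := by
    intro h
    apply hz1
    have : x * z = x * 1 := by rw [mul_one]; exact h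
    exact mul_left_cancel this
  have hxy : Commute x y := (Commute.refl x).mul_right hcomm
  have hxyz : x * y = z := by
    rw [hy, ← mul_assoc, hxx, one_mul]
  have hall : ∀ u : G, orderOf u = 2 → Commute x u → u = x ∨ u = y ∨ u = x * y := by
    intro u hu huc
    rcases three_inv hx h3 hzo hcomm hne hu huc with h | h | h
    · exact Or.inl h
    · right; right; rw [hxyz]; exact h
    · right; left; exact h
  -- the central involution of `T`
  have hnt : Nontrivial ↥(T : Subgroup G) := by
    refine ⟨⟨⟨x, hxT⟩, 1, ?_⟩⟩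
    intro h
    exact hx1 (congrArg Subtype.val h)
  have hct : Nontrivial ↥(Subgroup.center ↥(T : Subgroup G)) := T.isPGroup'.center_nontrivial
  have hcp : IsPGroup 2 ↥(Subgroup.center ↥(T : Subgroup G)) := T.isPGroup'.to_subgroup _
  obtain ⟨n, hn0, hn⟩ := (hcp.nontrivial_iff_card).1 hct
  have hdvd : 2 ∣ Nat.card ↥(Subgroup.center ↥(T : Subgroup G)) := by
    rw [hn]; exact dvd_pow_self 2 hn0.ne'
  obtain ⟨w₀, hw₀⟩ := exists_prime_orderOf_dvd_card' 2 hdvd
  set w : G := ((w₀ : ↥(T : Subgroup G)) : G) with hw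
  have hwo : orderOf w = 2 := by
    rw [hw, Subgroup.orderOf_coe, Subgroup.orderOf_coe]; exact hw₀
  have hwT : w ∈ (T : Subgroup G) := (w₀ : ↥(T : Subgroup G)).2
  have hwc : ∀ s ∈ (T : Subgroup G), s * w = w * s := by
    intro s hs
    have h2 := (Subgroup.mem_center_iff.1 w₀.2) ⟨s, hs⟩
    exact congrArg Subtype.val h2
  have hyc : ∀ s ∈ (T : Subgroup G), s * y = y * s := by
    rcases hall w hwo (hwc x hxT) with h | h | h
    · exfalso
      apply hno T
      intro s hs
      rw [Subgroup.mem_centralizer_singleton_iff]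
      rw [← h]; exact hwc s hs
    · rw [← h]; exact hwc
    · exfalso
      apply hne
      have h2 : w = z := by rw [h, hxyz]
      have h3 := hwc t htT
      rw [h2] at h3
      have h4 : t * z = z * t := h3
      have h5 : z = x := by
        have e1 : t * x * t⁻¹ * t = t * x := by group
        have h6 : t * z = t * x := by
          rw [h4]; exact e1
        exact mul_left_cancel h6
      exact h5
  have hnc : ¬ IsConj x y := by
    intro hc
    obtain ⟨g, hg⟩ := isConj_iff.1 hc
    apply hno (g⁻¹ • T)
    intro s hs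
    rw [Sylow.coe_subgroup_smul, Subgroup.mem_pointwise_smul_iff_inv_smul_mem] at hs
    simp only [MulAut.smul_def, map_inv, inv_inv, MulAut.conj_apply, inv_inv] at hs
    rw [Subgroup.mem_centralizer_singleton_iff]
    have h2 := hyc _ hs
    rw [← hg] at h2
    have h3 : g * (s * x) * g⁻¹ = g * (x * s) * g⁻¹ := by
      calc g * (s * x) * g⁻¹ = g * s * g⁻¹ * (g * x * g⁻¹) := by group
        _ = g * x * g⁻¹ * (g * s * g⁻¹) := h2
        _ = g * (x * s) * g⁻¹ := by group
    have h4 : g * (s * x) = g * (x * s) := mul_right_cancel h3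
    exact mul_left_cancel h4
  have c : Cfg x y := ⟨hx, hyo, hxy, hyx, by rw [hxyz]; exact isConj_iff.2 ⟨t, rfl⟩, hnc, hall⟩
  -- all conjugates of `y` commute
  have hax : ∀ g h : G, Commute (g * y * g⁻¹) (h * y * h⁻¹) := by
    intro g h
    by_cases he : g * y * g⁻¹ = h * y * h⁻¹
    · rw [he]
    · have hR : R x x y := ⟨hyo, hxy, hnc⟩
      exact commute_axes c (isConj_conj' g x) (isConj_conj' h x) (R_conj g hR) (R_conj h hR) he
  -- `y` is central
  have hN : Subgroup.normalClosure ({y} : Set G) = ⊤ := by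
    rcases (inferInstance : IsSimpleGroup G).eq_bot_or_eq_top_of_normal _
      (Subgroup.normalClosure_normal (s := ({y} : Set G))) with h | h
    · exfalso
      apply hy1
      have : y ∈ Subgroup.normalClosure ({y} : Set G) := Subgroup.subset_normalClosure rfl
      rw [h] at this
      exact this
    · exact h
  have hconj : ∀ a ∈ Group.conjugatesOfSet ({y} : Set G), ∃ g : G, a = g * y * g⁻¹ := by
    intro a ha
    rw [Group.mem_conjugatesOfSet_iff] at ha
    obtain ⟨b, hb, hab⟩ := ha
    rw [Set.mem_singleton_iff] at hb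
    subst hb
    obtain ⟨g, hg⟩ := isConj_iff.1 hab
    exact ⟨g, hg.symm⟩
  have hycen : ∀ g : G, g * y = y * g := by
    intro g
    have hle : Subgroup.normalClosure ({y} : Set G) ≤ Subgroup.centralizer ({y} : Set G) := by
      unfold Subgroup.normalClosure
      rw [Subgroup.closure_le]
      intro a ha
      obtain ⟨g, rfl⟩ := hconj a ha
      rw [SetLike.mem_coe, Subgroup.mem_centralizer_singleton_iff]
      have := (hax g 1).eq
      simpa using this
    have hg : g ∈ Subgroup.normalClosure ({y} : Set G) := by rw [hN]; trivial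
    have := hle hg
    rw [Subgroup.mem_centralizer_singleton_iff] at this
    exact this
  have hcenter : Subgroup.center G = ⊤ := by
    rw [eq_top_iff, ← hN]
    apply Subgroup.normalClosure_le_normal
    intro a ha
    rw [Set.mem_singleton_iff] at ha
    subst ha
    rw [SetLike.mem_coe, Subgroup.mem_center_iff]
    exact hycen
  apply hno T
  intro s _
  rw [Subgroup.mem_centralizer_singleton_iff]
  have hsc : x ∈ Subgroup.center G := by rw [hcenter]; trivial
  exact ((Subgroup.mem_center_iff.1 hsc) s)

/-- In a simple group with two involutions there is no isolated involution. -/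
lemma no_isolated [IsSimpleGroup G] {w x y : G} (hI : IsIsolatedInvolution w) (hx : orderOf x = 2)
    (hy : orderOf y = 2) (hne : x ≠ y) : False := by
  classical
  have hZ := Cfsg.Agent.Lib.ZStar.zstar hI
  have hw1 : w ≠ 1 := ne_one_of_order hI.1
  have hww : w * w = 1 := mul_self_of_order hI.1
  have hn : (pPrimeCore 2 G).Normal := Cfsg.Agent.Lib.PCore.pPrimeCore_normal 2
  rcases (inferInstance : IsSimpleGroup G).eq_bot_or_eq_top_of_normal _ hn with h | h
  · -- `w` is central
    have hcen : ∀ g : G, g * w = w * g := by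
      intro g
      have h1 := hZ g
      rw [h, Subgroup.mem_bot] at h1
      have h2 : g * w * g⁻¹ = w := by
        rw [mul_inv_eq_one] at h1; exact h1
      calc g * w = (g * w * g⁻¹) * g := by group
        _ = w * g := by rw [h2]
    have hn2 : (Subgroup.zpowers w).Normal := by
      refine ⟨fun n hn g => ?_⟩
      obtain ⟨k, rfl⟩ := Subgroup.mem_zpowers_iff.1 hn
      have h1 : Commute g (w ^ k) := (show Commute g w from hcen g).zpow_right k
      rw [h1.eq, mul_assoc, mul_inv_cancel, mul_one]
      exact Subgroup.zpow_mem_zpowers w k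
    rcases (inferInstance : IsSimpleGroup G).eq_bot_or_eq_top_of_normal _ hn2 with h3 | h3
    · exfalso
      apply hw1
      rw [Subgroup.zpowers_eq_bot] at h3
      exact h3
    · have key : ∀ u : G, orderOf u = 2 → u = w := by
        intro u hu
        have hu1 : u ≠ 1 := ne_one_of_order hu
        have h4 : u ∈ Subgroup.zpowers w := by rw [h3]; trivial
        obtain ⟨k, rfl⟩ := Subgroup.mem_zpowers_iff.1 h4
        rcases Int.even_or_odd' k with ⟨m, hm | hm⟩
        · exfalso
          apply hu1
          rw [hm, zpow_mul, zpow_two, hww, one_zpow]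
        · rw [hm, zpow_add, zpow_mul, zpow_two, hww, one_zpow, one_mul, zpow_one]
      exact hne ((key x hx).trans (key y hy).symm)
  · -- `G` has odd order
    have h1 := Cfsg.Agent.Lib.PCore.card_pPrimeCore_coprime (G := G) 2
    rw [h] at h1
    have h2 : 2 ∣ Nat.card G := by
      rw [← hx]; exact orderOf_dvd_natCard x
    have h3 : Nat.card (⊤ : Subgroup G) = Nat.card G := Subgroup.card_top
    rw [h3] at h1
    have := Nat.Coprime.eq_one_of_dvd h1.symm h2
    omega

/-- The third involution is conjugate as well. -/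
lemma third_conj [IsSimpleGroup G] {x y : G} (hx : orderOf x = 2)
    (h3 : Nat.card {u : ↥(Subgroup.centralizer ({x} : Set G)) // orderOf u = 2} ≤ 3)
    (T : Sylow 2 G) (hT : (T : Subgroup G) ≤ Subgroup.centralizer ({x} : Set G))
    (hy : orderOf y = 2) (hxy : Commute x y) (hne : y ≠ x) (hcy : IsConj x y) : IsConj x (x * y) := by
  classical
  by_contra hnz
  have hxx : x * x = 1 := mul_self_of_order hx
  have hyy : y * y = 1 := mul_self_of_order hy
  have hy1 : y ≠ 1 := ne_one_of_order hy
  set z := x * y with hz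
  have hzz : z * z = 1 := by
    calc x * y * (x * y) = x * (y * x) * y := by group
      _ = x * (x * y) * y := by rw [hxy.eq]
      _ = (x * x) * (y * y) := by group
      _ = 1 := by rw [hxx, hyy, one_mul]
  have hzx : z ≠ x := by
    intro h
    apply hy1
    have : x * y = x * 1 := by rw [mul_one]; exact h
    exact mul_left_cancel this
  have hz1 : z ≠ 1 := by
    intro h
    apply hne
    have h2 : y = x⁻¹ := mul_eq_one_iff_eq_inv'.mp h
    rw [h2, inv_eq_of_mul_eq_one_left hxx]
  have hzo : orderOf z = 2 := order_of_mul_self hzz hz1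
  have hxz : Commute x z := (Commute.refl x).mul_right hxy
  have hcT : ∀ s ∈ (T : Subgroup G), s * x = x * s := by
    intro s hs
    have := hT hs
    rwa [Subgroup.mem_centralizer_singleton_iff] at this
  have hTz : (T : Subgroup G) ≤ Subgroup.centralizer ({z} : Set G) := by
    intro s hs
    rw [Subgroup.mem_centralizer_singleton_iff]
    have hsx := hcT s hs
    have h1 : orderOf (s * z * s⁻¹) = 2 := by rw [orderOf_conj']; exact hzo
    have h2 : Commute x (s * z * s⁻¹) := by
      show x * (s * z * s⁻¹) = s * z * s⁻¹ * x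
      have hxs : x * s = s * x := hsx.symm
      have hz' := hxz.eq
      calc x * (s * z * s⁻¹) = (x * s) * z * s⁻¹ := by group
        _ = s * (x * z) * s⁻¹ := by rw [hxs]; group
        _ = s * (z * x) * s⁻¹ := by rw [hz']
        _ = s * z * (x * s⁻¹) := by group
        _ = s * z * (s⁻¹ * x) := by
            have : x * s⁻¹ = s⁻¹ * x := by
              calc x * s⁻¹ = s⁻¹ * (s * x) * s⁻¹ := by group
                _ = s⁻¹ * (x * s) * s⁻¹ := by rw [hsx]
                _ = s⁻¹ * x := by group
            rw [this]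
        _ = s * z * s⁻¹ * x := by group
    have hcj : IsConj z (s * z * s⁻¹) := isConj_conj' s z
    rcases three_inv hx h3 hy hxy hne h1 h2 with h4 | h4 | h4
    · exfalso
      apply hzx
      have : z = s⁻¹ * x * s := by rw [← h4]; group
      rw [this, mul_assoc, ← hsx]
      group
    · exfalso
      apply hnz
      rw [h4] at hcj
      exact hcy.trans hcj.symm
    · calc s * z = (s * z * s⁻¹) * s := by group
        _ = z * s := by rw [h4]
  have hI : IsIsolatedInvolution z := by
    refine ⟨hzo, fun g hcomm => ?_⟩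
    have huo : orderOf (g * z * g⁻¹) = 2 := by rw [orderOf_conj']; exact hzo
    have huC : g * z * g⁻¹ ∈ Subgroup.centralizer ({z} : Set G) := by
      rw [Subgroup.mem_centralizer_singleton_iff]
      exact hcomm.eq.symm
    obtain ⟨k, hk, hkT⟩ := conj_into T hTz huC huo
    have hk' := hk
    rw [Subgroup.mem_centralizer_singleton_iff] at hk'
    set v := k * (g * z * g⁻¹) * k⁻¹ with hv
    have hvo : orderOf v = 2 := by rw [hv, orderOf_conj']; exact huo
    have hvc : Commute x v := by
      have := hcT v hkT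
      exact this.symm
    have hvcj : IsConj z v := (isConj_conj' g z).trans (isConj_conj' k _)
    rcases three_inv hx h3 hy hxy hne hvo hvc with h4 | h4 | h4
    · exact absurd (by rw [h4] at hvcj; exact hvcj.symm) hnz
    · exact absurd (by rw [h4] at hvcj; exact hcy.trans hvcj.symm) hnz
    · have h5 : g * z * g⁻¹ = k⁻¹ * z * k := by
        have : g * z * g⁻¹ = k⁻¹ * v * k := by rw [hv]; group
        rw [this, h4]
      rw [h5]
      have h6 : z * k = k * z := hk'.symm
      rw [mul_assoc, h6]
      group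
  exact no_isolated hI hx hy hne.symm

end main

/-- Let G be a finite simple group and x an involution of G whose centralizer contains at most three involutions. Then C_G(x) contains a Sylow 2-subgroup of G, and all involutions of G are conjugate. -/
theorem result {G : Type*} [Group G] [Finite G] [IsSimpleGroup G] (x : G) (hx : orderOf x = 2)
    (h3 : Nat.card {u : ↥(Subgroup.centralizer ({x} : Set G)) // orderOf u = 2} ≤ 3) :
    (∃ S : Sylow 2 G, (S : Subgroup G) ≤ Subgroup.centralizer ({x} : Set G)) ∧
      ∀ u v : G, orderOf u = 2 → orderOf v = 2 → IsConj u v := by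
  obtain ⟨T, hT⟩ := exists_sylow_le hx h3
  refine ⟨⟨T, hT⟩, ?_⟩
  have hxx : x * x = 1 := mul_self_of_order hx
  have key : ∀ u : G, orderOf u = 2 → IsConj x u := by
    intro u hu
    obtain ⟨k, -, hk⟩ := conj_into (K := ⊤) T le_top (Subgroup.mem_top u) hu
    set v := k * u * k⁻¹ with hv
    have hvo : orderOf v = 2 := by rw [hv, orderOf_conj']; exact hu
    have hvc : Commute x v := by
      have := hT hk
      rw [Subgroup.mem_centralizer_singleton_iff] at this
      exact this.symm
    have huv : IsConj v u := (isConj_conj' k u).symm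
    suffices IsConj x v from this.trans huv
    by_cases huniq : ∀ w : G, orderOf w = 2 → Commute x w → w = x
    · rw [huniq v hvo hvc]
    · push_neg at huniq
      obtain ⟨y, hy, hxy, hne⟩ := huniq
      have hyy : y * y = 1 := mul_self_of_order hy
      have hy1 : y ≠ 1 := ne_one_of_order hy
      have hzz : (x * y) * (x * y) = 1 := by
        calc x * y * (x * y) = x * (y * x) * y := by group
          _ = x * (x * y) * y := by rw [hxy.eq]
          _ = (x * x) * (y * y) := by group
          _ = 1 := by rw [hxx, hyy, one_mul]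
      have hz1 : x * y ≠ 1 := by
        intro h
        apply hne
        have h2 : y = x⁻¹ := mul_eq_one_iff_eq_inv'.mp h
        rw [h2, inv_eq_of_mul_eq_one_left hxx]
      have hzo : orderOf (x * y) = 2 := order_of_mul_self hzz hz1
      have hxz : Commute x (x * y) := (Commute.refl x).mul_right hxy
      have hzx : x * y ≠ x := by
        intro h
        apply hy1
        have : x * y = x * 1 := by rw [mul_one]; exact h
        exact mul_left_cancel this
      have hxxy : x * (x * y) = y := by rw [← mul_assoc, hxx, one_mul]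
      have hboth : IsConj x y ∧ IsConj x (x * y) := by
        by_cases h1 : IsConj x y
        · exact ⟨h1, third_conj hx h3 T hT hy hxy hne h1⟩
        · by_cases h2 : IsConj x (x * y)
          · have := third_conj hx h3 T hT hzo hxz hzx h2
            rw [hxxy] at this
            exact ⟨this, h2⟩
          · exfalso
            have hI : IsIsolatedInvolution x := by
              refine ⟨hx, fun g hg => ?_⟩
              have h5 : orderOf (g * x * g⁻¹) = 2 := by rw [orderOf_conj']; exact hx
              rcases three_inv hx h3 hy hxy hne h5 hg with h4 | h4 | h4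
              · exact h4
              · exact absurd (h4 ▸ isConj_conj' g x) h1
              · exact absurd (h4 ▸ isConj_conj' g x) h2
            exact no_isolated hI hx hy hne.symm
      rcases three_inv hx h3 hy hxy hne hvo hvc with h4 | h4 | h4
      · rw [h4]
      · rw [h4]; exact hboth.1
      · rw [h4]; exact hboth.2
  intro u v hu hv
  exact (key u hu).symm.trans (key v hv)

end Cfsg.Agent.S3279
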