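import Cfsg.Statements.S3269
import Cfsg.Agent.Lib.ZStar
import Cfsg.Agent.S3279

set_option autoImplicit false
set_option linter.unusedSectionVars false
open Cfsg

namespace Cfsg.Agent.S3269

section

variable {G : Type*} [Group G] [Finite G]

/-- The abstract configuration. -/
structure Cfg (S : Sylow 2 G) (Q R : Subgroup G) (z : G) : Prop where
  hQS : Q ≤ (S : Subgroup G)
  hRS : R ≤ (S : Subgroup G)
  comm : ∀ a ∈ Q, ∀ b ∈ R, a * b = b * a
  inf : Q ⊓ R = ⊥
  sup : Q ⊔ R = (S : Subgroup G)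
  hzQ : z ∈ Q
  hz1 : z ≠ 1
  hzz : z * z = 1
  huniq : ∀ q ∈ Q, q * q = 1 → q = 1 ∨ q = z
  hcard : Nat.card {q : G // q ∈ Q ∧ q * q = 1} < Nat.card {q : G // q ∈ Q ∧ q * q = z}
  hR : ∀ r ∈ R, orderOf r = 2 → ∀ s ∈ R, r * s = s * r

/-- The number of square roots in `S`. -/
noncomputable def f (S : Subgroup G) (u : G) : ℕ := Nat.card {s : G // s ∈ S ∧ s * s = u}

variable {S : Sylow 2 G} {Q R : Subgroup G} {z : G}

lemma decomp (c : Cfg S Q R z) {s : G} (hs : s ∈ (S : Subgroup G)) :
    ∃ q ∈ Q, ∃ r ∈ R, s = q * r := by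
  rw [← c.sup, Subgroup.sup_eq_closure] at hs
  induction hs using Subgroup.closure_induction with
  | mem x hx =>
    rcases hx with hx | hx
    · exact ⟨x, hx, 1, R.one_mem, by simp⟩
    · exact ⟨1, Q.one_mem, x, hx, by simp⟩
  | one => exact ⟨1, Q.one_mem, 1, R.one_mem, by simp⟩
  | mul x y _ _ hx hy =>
    obtain ⟨q, hq, r, hr, rfl⟩ := hx
    obtain ⟨q', hq', r', hr', rfl⟩ := hy
    refine ⟨q * q', Q.mul_mem hq hq', r * r', R.mul_mem hr hr', ?_⟩
    calc q * r * (q' * r') = q * (r * q') * r' := by group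
      _ = q * (q' * r) * r' := by rw [c.comm q' hq' r hr]
      _ = q * q' * (r * r') := by group
  | inv x _ hx =>
    obtain ⟨q, hq, r, hr, rfl⟩ := hx
    refine ⟨q⁻¹, Q.inv_mem hq, r⁻¹, R.inv_mem hr, ?_⟩
    rw [mul_inv_rev]
    exact (c.comm q⁻¹ (Q.inv_mem hq) r⁻¹ (R.inv_mem hr)).symm

lemma uniq (c : Cfg S Q R z) {q q' r r' : G} (hq : q ∈ Q) (hq' : q' ∈ Q) (hr : r ∈ R) (hr' : r' ∈ R)
    (h : q * r = q' * r') : q = q' ∧ r = r' := by
  have h1 : q'⁻¹ * q = r' * r⁻¹ := by
    calc q'⁻¹ * q = q'⁻¹ * (q * r) * r⁻¹ := by group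
      _ = q'⁻¹ * (q' * r') * r⁻¹ := by rw [h]
      _ = r' * r⁻¹ := by group
  have h2 : q'⁻¹ * q ∈ Q ⊓ R :=
    ⟨Q.mul_mem (Q.inv_mem hq') hq, by rw [h1]; exact R.mul_mem hr' (R.inv_mem hr)⟩
  rw [c.inf, Subgroup.mem_bot] at h2
  have h3 : q = q' := by
    rw [inv_mul_eq_one] at h2; exact h2.symm
  refine ⟨h3, ?_⟩
  rw [h3] at h
  exact mul_left_cancel h

lemma sq_mul (c : Cfg S Q R z) {q r : G} (hq : q ∈ Q) (hr : r ∈ R) :
    (q * r) * (q * r) = (q * q) * (r * r) := by
  calc (q * r) * (q * r) = q * (r * q) * r := by group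
    _ = q * (q * r) * r := by rw [c.comm q hq r hr]
    _ = (q * q) * (r * r) := by group

lemma card_roots (c : Cfg S Q R z) {q₀ c₀ : G} (hq₀ : q₀ ∈ Q) (hc₀ : c₀ ∈ R) :
    f (S : Subgroup G) (q₀ * c₀) =
      Nat.card {q : G // q ∈ Q ∧ q * q = q₀} * Nat.card {r : G // r ∈ R ∧ r * r = c₀} := by
  rw [← Nat.card_prod]
  symm
  apply Nat.card_congr
  refine Equiv.ofBijective (fun p => ⟨p.1.1 * p.2.1, ?_, ?_⟩) ⟨?_, ?_⟩
  · exact (S : Subgroup G).mul_mem (c.hQS p.1.2.1) (c.hRS p.2.2.1)
  · rw [sq_mul c p.1.2.1 p.2.2.1, p.1.2.2, p.2.2.2]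
  · rintro ⟨⟨q, hq⟩, ⟨r, hr⟩⟩ ⟨⟨q', hq'⟩, ⟨r', hr'⟩⟩ h
    have h1 := congrArg Subtype.val h
    obtain ⟨h2, h3⟩ := uniq c hq.1 hq'.1 hr.1 hr'.1 h1
    subst h2; subst h3; rfl
  · rintro ⟨s, hs, hss⟩
    obtain ⟨q, hq, r, hr, rfl⟩ := decomp c hs
    rw [sq_mul c hq hr] at hss
    obtain ⟨h2, h3⟩ := uniq c (Q.mul_mem hq hq) hq₀ (R.mul_mem hr hr) hc₀ hss
    exact ⟨(⟨q, hq, h2⟩, ⟨r, hr, h3⟩), rfl⟩

lemma z_central (c : Cfg S Q R z) {q : G} (hq : q ∈ Q) : q * z = z * q := by
  have h1 : q * z * q⁻¹ ∈ Q := Q.mul_mem (Q.mul_mem hq c.hzQ) (Q.inv_mem hq)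
  have h2 : (q * z * q⁻¹) * (q * z * q⁻¹) = 1 := by
    calc (q * z * q⁻¹) * (q * z * q⁻¹) = q * (z * z) * q⁻¹ := by group
      _ = 1 := by rw [c.hzz]; group
  rcases c.huniq _ h1 h2 with h3 | h3
  · exfalso
    apply c.hz1
    have : z = q⁻¹ * (q * z * q⁻¹) * q := by group
    rw [this, h3]; group
  · calc q * z = (q * z * q⁻¹) * q := by group
      _ = z * q := by rw [h3]

/-- Structure of elements with square `1`. -/
lemma sq_one (c : Cfg S Q R z) {u : G} (hu : u ∈ (S : Subgroup G)) (huu : u * u = 1) :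
    ∃ d ∈ R, d * d = 1 ∧ (u = d ∨ u = z * d) := by
  obtain ⟨q, hq, r, hr, rfl⟩ := decomp c hu
  rw [sq_mul c hq hr] at huu
  have h1 : (q * q) * (r * r) = 1 * 1 := by rw [huu, one_mul]
  obtain ⟨h2, h3⟩ := uniq c (Q.mul_mem hq hq) Q.one_mem (R.mul_mem hr hr) R.one_mem h1
  refine ⟨r, hr, h3, ?_⟩
  rcases c.huniq q hq h2 with rfl | rfl
  · left; simp
  · right; rfl

lemma d_central (c : Cfg S Q R z) {d : G} (hd : d ∈ R) (hdd : d * d = 1) {s : G} (hs : s ∈ R) :
    d * s = s * d := by
  by_cases h1 : d = 1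
  · rw [h1]; simp
  · have h2 : orderOf d = 2 := by
      apply orderOf_eq_prime
      · rw [sq]; exact hdd
      · exact h1
    exact c.hR d hd h2 s hs

/-- The central subgroup of `S`. -/
def Zc (S : Subgroup G) : Subgroup G := S ⊓ Subgroup.centralizer (S : Set G)

lemma mem_Zc {S : Subgroup G} {x : G} : x ∈ Zc S ↔ x ∈ S ∧ ∀ s ∈ S, s * x = x * s := by
  rw [Zc, Subgroup.mem_inf, Subgroup.mem_centralizer_iff]
  rfl

lemma sq_one_central (c : Cfg S Q R z) {u : G} (hu : u ∈ (S : Subgroup G)) (huu : u * u = 1) :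
    u ∈ Zc (S : Subgroup G) := by
  rw [mem_Zc]
  refine ⟨hu, fun s hs => ?_⟩
  obtain ⟨d, hd, hdd, h⟩ := sq_one c hu huu
  obtain ⟨q, hq, r, hr, rfl⟩ := decomp c hs
  have e1 : (q * r) * d = d * (q * r) := by
    calc (q * r) * d = q * (r * d) := by group
      _ = q * (d * r) := by rw [d_central c hd hdd hr]
      _ = (q * d) * r := by group
      _ = (d * q) * r := by rw [c.comm q hq d hd]
      _ = d * (q * r) := by group
  have e2 : (q * r) * z = z * (q * r) := by
    calc (q * r) * z = q * (r * z) := by group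
      _ = q * (z * r) := by rw [c.comm z c.hzQ r hr]
      _ = (q * z) * r := by group
      _ = (z * q) * r := by rw [z_central c hq]
      _ = z * (q * r) := by group
  rcases h with rfl | rfl
  · exact e1
  · calc (q * r) * (z * d) = ((q * r) * z) * d := by group
      _ = (z * (q * r)) * d := by rw [e2]
      _ = z * ((q * r) * d) := by group
      _ = z * (d * (q * r)) := by rw [e1]
      _ = z * d * (q * r) := by group

lemma f_conj {S : Subgroup G} {n : G} (hn : n ∈ Subgroup.normalizer (S : Set G)) (u : G) :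
    f S (n * u * n⁻¹) = f S u := by
  have hm := Subgroup.mem_normalizer_iff.1 hn
  apply Nat.card_congr
  refine ⟨fun p => ⟨n⁻¹ * p.1 * n, ?_, ?_⟩, fun p => ⟨n * p.1 * n⁻¹, ?_, ?_⟩, ?_, ?_⟩
  · apply (hm _).2
    have : n * (n⁻¹ * p.1 * n) * n⁻¹ = p.1 := by group
    rw [this]
    exact p.2.1
  · have := p.2.2
    calc n⁻¹ * p.1 * n * (n⁻¹ * p.1 * n) = n⁻¹ * (p.1 * p.1) * n := by group
      _ = u := by rw [this]; group
  · exact (hm p.1).1 p.2.1
  · have := p.2.2
    calc n * p.1 * n⁻¹ * (n * p.1 * n⁻¹) = n * (p.1 * p.1) * n⁻¹ := by group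
      _ = n * u * n⁻¹ := by rw [this]
  · rintro ⟨p, hp⟩; ext; simp [mul_assoc]
  · rintro ⟨p, hp⟩; ext; simp [mul_assoc]

/-- The maximal elements. -/
lemma exists_max (c : Cfg S Q R z) :
    ∃ w : G, w ∈ (S : Subgroup G) ∧ w * w = 1 ∧
      ∀ u : G, u ∈ (S : Subgroup G) → u * u = 1 → f (S : Subgroup G) u ≤ f (S : Subgroup G) w := by
  classical
  have hfin : (Set.Finite {u : G | u ∈ (S : Subgroup G) ∧ u * u = 1}) := Set.toFinite _
  have hne : ({u : G | u ∈ (S : Subgroup G) ∧ u * u = 1}).Nonempty :=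
    ⟨1, (S : Subgroup G).one_mem, by simp⟩
  obtain ⟨w, hw, hmax⟩ := Set.exists_max_image _ (f (S : Subgroup G)) hfin hne
  exact ⟨w, hw.1, hw.2, fun u hu huu => hmax u ⟨hu, huu⟩⟩

/-- Elements with maximal root count are of the form `z * d`. -/
lemma max_form (c : Cfg S Q R z) {w : G} (hw : w ∈ (S : Subgroup G)) (hww : w * w = 1)
    (hmax : ∀ u : G, u ∈ (S : Subgroup G) → u * u = 1 → f (S : Subgroup G) u ≤ f (S : Subgroup G) w) :
    ∃ d ∈ R, w = z * d := by
  obtain ⟨d, hd, hdd, h⟩ := sq_one c hw hww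
  rcases h with rfl | h
  · exfalso
    -- compare with `z * d`
    have hone : 0 < f (S : Subgroup G) w := by
      have h1 := hmax 1 (S : Subgroup G).one_mem (by simp)
      have h2 : 0 < f (S : Subgroup G) 1 := by
        unfold f
        haveI : Nonempty {s : G // s ∈ (S : Subgroup G) ∧ s * s = 1} :=
          ⟨⟨1, (S : Subgroup G).one_mem, by simp⟩⟩
        exact Nat.card_pos
      omega
    have e1 : f (S : Subgroup G) w =
        Nat.card {q : G // q ∈ Q ∧ q * q = 1} * Nat.card {r : G // r ∈ R ∧ r * r = w} := by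
      have := card_roots c Q.one_mem hd
      rwa [one_mul] at this
    have e2 := card_roots c c.hzQ hd
    have hzw : z * w ∈ (S : Subgroup G) := (S : Subgroup G).mul_mem (c.hQS c.hzQ) hw
    have hzww : (z * w) * (z * w) = 1 := by
      rw [sq_mul c c.hzQ hd, c.hzz, hdd, one_mul]
    have h3 := hmax _ hzw hzww
    rw [e2, e1] at h3
    have h4 : 0 < Nat.card {r : G // r ∈ R ∧ r * r = w} := by
      rw [e1] at hone
      exact Nat.pos_of_mul_pos_left hone
    have h5 := Nat.le_of_mul_le_mul_right h3 h4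
    exact absurd h5 (not_le.2 c.hcard)
  · exact ⟨d, hd, h⟩

lemma Zc_conj {S : Subgroup G} {n : G} (hn : n ∈ Subgroup.normalizer (S : Set G)) {x : G}
    (hx : x ∈ Zc S) : n * x * n⁻¹ ∈ Zc S := by
  have hm := Subgroup.mem_normalizer_iff.1 hn
  rw [mem_Zc] at hx ⊢
  refine ⟨(hm x).1 hx.1, fun s hs => ?_⟩
  have h1 : n⁻¹ * s * n ∈ S := by
    apply (hm _).2
    have : n * (n⁻¹ * s * n) * n⁻¹ = s := by group
    rw [this]; exact hs
  have h2 := hx.2 _ h1
  calc s * (n * x * n⁻¹) = n * ((n⁻¹ * s * n) * x) * n⁻¹ := by group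
    _ = n * (x * (n⁻¹ * s * n)) * n⁻¹ := by rw [h2]
    _ = n * x * n⁻¹ * s := by group

lemma Zc_comm {S : Subgroup G} {x y : G} (hx : x ∈ Zc S) (hy : y ∈ Zc S) : x * y = y * x :=
  ((mem_Zc.1 hy).2 x (mem_Zc.1 hx).1)

/-- The averaging step. -/
lemma exists_fixed (c : Cfg S Q R z) {w : G} (hw : w ∈ Zc (S : Subgroup G)) (hww : w * w = 1)
    (hform : ∀ n ∈ Subgroup.normalizer ((S : Subgroup G) : Set G), ∃ d ∈ R, n * w * n⁻¹ = z * d) :
    ∃ t : G, t ∈ (S : Subgroup G) ∧ t * t = 1 ∧ (∃ d ∈ R, t = z * d) ∧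
      ∀ n ∈ Subgroup.normalizer ((S : Subgroup G) : Set G), n * t * n⁻¹ = t := by
  classical
  set N : Subgroup G := Subgroup.normalizer ((S : Subgroup G) : Set G) with hN
  set Z : Subgroup G := Zc (S : Subgroup G) with hZ
  letI iC : CommGroup Z :=
    { (inferInstance : Group Z) with
      mul_comm := fun a b => Subtype.ext (Zc_comm a.2 b.2) }
  let K : Subgroup N := (S : Subgroup G).subgroupOf N
  letI : Fintype (N ⧸ K) := Fintype.ofFinite _
  let φ : N → (Z →* Z) := fun n => MonoidHom.mk'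
    (fun x => ⟨n.1 * x.1 * n.1⁻¹, Zc_conj n.2 x.2⟩)
    (fun x y => by
      apply Subtype.ext
      show n.1 * (x.1 * y.1) * n.1⁻¹ = (n.1 * x.1 * n.1⁻¹) * (n.1 * y.1 * n.1⁻¹)
      group)
  let F : N ⧸ K → Z := fun ρ => φ (Quotient.out ρ) ⟨w, hw⟩
  have hFcoe : ∀ ρ, (F ρ : G) = (Quotient.out ρ : N).1 * w * (Quotient.out ρ : N).1⁻¹ := fun ρ => rfl
  -- odd index
  have hodd : Odd (Fintype.card (N ⧸ K)) := by
    have h1 : (S : Subgroup G) ≤ N := Subgroup.le_normalizer
    have h2 := Subgroup.relIndex_mul_index h1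
    have h3 : ¬ 2 ∣ (S : Subgroup G).index := S.not_dvd_index
    rw [← h2] at h3
    have h4 : Fintype.card (N ⧸ K) = (S : Subgroup G).relIndex N := by
      rw [Subgroup.relIndex, Subgroup.index, Nat.card_eq_fintype_card]
    rw [h4, Nat.odd_iff]
    by_contra h5
    apply h3
    apply Dvd.dvd.mul_right
    omega
  -- the shape of products
  have hshape : ∀ s : Finset (N ⧸ K), ∃ d ∈ R, ((∏ ρ ∈ s, F ρ : Z) : G) = z ^ s.card * d := by
    intro s
    induction s using Finset.induction_on with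
    | empty =>
      refine ⟨1, R.one_mem, ?_⟩
      simp
    | insert a s ha IH =>
      obtain ⟨d, hd, h1⟩ := IH
      obtain ⟨e, he, h2⟩ := hform _ (Quotient.out a : N).2
      refine ⟨e * d, R.mul_mem he hd, ?_⟩
      rw [Finset.prod_insert ha, Finset.card_insert_of_notMem ha]
      have h3 : ((F a * ∏ ρ ∈ s, F ρ : Z) : G) = (F a : G) * ((∏ ρ ∈ s, F ρ : Z) : G) := rfl
      rw [h3, h1, hFcoe, h2]
      have h4 : Commute e (z ^ s.card) :=
        (Commute.pow_right (show Commute e z from (c.comm z c.hzQ e he).symm) _)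
      calc z * e * (z ^ s.card * d) = z * (e * z ^ s.card) * d := by group
        _ = z * (z ^ s.card * e) * d := by rw [h4.eq]
        _ = z ^ (s.card + 1) * (e * d) := by rw [pow_succ']; group
  let t : Z := ∏ ρ, F ρ
  refine ⟨(t : G), (mem_Zc.1 t.2).1, ?_, ?_, ?_⟩
  · have h1 : t * t = 1 := by
      show (∏ ρ, F ρ) * (∏ ρ, F ρ) = 1
      rw [← Finset.prod_mul_distrib]
      apply Finset.prod_eq_one
      intro ρ _
      apply Subtype.ext
      show (Quotient.out ρ : N).1 * w * (Quotient.out ρ : N).1⁻¹ *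
        ((Quotient.out ρ : N).1 * w * (Quotient.out ρ : N).1⁻¹) = 1
      calc (Quotient.out ρ : N).1 * w * (Quotient.out ρ : N).1⁻¹ *
            ((Quotient.out ρ : N).1 * w * (Quotient.out ρ : N).1⁻¹)
          = (Quotient.out ρ : N).1 * (w * w) * (Quotient.out ρ : N).1⁻¹ := by group
        _ = 1 := by rw [hww]; group
    exact congrArg Subtype.val h1
  · obtain ⟨d, hd, h1⟩ := hshape Finset.univ
    refine ⟨d, hd, ?_⟩
    have h2 : (t : G) = z ^ (Finset.univ : Finset (N ⧸ K)).card * d := h1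
    rw [h2, Finset.card_univ]
    obtain ⟨k, hk⟩ := hodd
    rw [hk, pow_succ, pow_mul, sq, c.hzz, one_pow, one_mul]
  · intro n hn
    have h1 : φ ⟨n, hn⟩ t = t := by
      show φ ⟨n, hn⟩ (∏ ρ, F ρ) = ∏ ρ, F ρ
      rw [map_prod]
      refine Fintype.prod_equiv (MulAction.toPerm (⟨n, hn⟩ : N)) _ _ ?_
      intro ρ
      apply Subtype.ext
      show n * ((Quotient.out ρ : N).1 * w * (Quotient.out ρ : N).1⁻¹) * n⁻¹ =
        (Quotient.out ((⟨n, hn⟩ : N) • ρ) : N).1 * w * (Quotient.out ((⟨n, hn⟩ : N) • ρ) : N).1⁻¹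
      -- the coset comparison
      have h2 : (((Quotient.out ((⟨n, hn⟩ : N) • ρ) : N) : N ⧸ K)) =
          (((⟨n, hn⟩ : N) * (Quotient.out ρ : N) : N) : N ⧸ K) := by
        rw [QuotientGroup.out_eq']
        conv_lhs => rw [← QuotientGroup.out_eq' ρ]
        rfl
      rw [QuotientGroup.eq] at h2
      have h3 : ((Quotient.out ((⟨n, hn⟩ : N) • ρ) : N)⁻¹ * ((⟨n, hn⟩ : N) * (Quotient.out ρ : N)) : N).1
          ∈ (S : Subgroup G) := h2
      set A : G := (Quotient.out ρ : N).1
      set B : G := (Quotient.out ((⟨n, hn⟩ : N) • ρ) : N).1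
      have h4 : B⁻¹ * (n * A) ∈ (S : Subgroup G) := h3
      have h5 := (mem_Zc.1 hw).2 _ h4
      calc n * (A * w * A⁻¹) * n⁻¹ = B * (B⁻¹ * (n * A) * w) * (n * A)⁻¹ := by group
        _ = B * (w * (B⁻¹ * (n * A))) * (n * A)⁻¹ := by rw [h5]
        _ = B * w * B⁻¹ := by group
    exact congrArg Subtype.val h1

/-- The element `t` is isolated. -/
lemma isolated (c : Cfg S Q R z) {t : G} (ht : t ∈ (S : Subgroup G)) (htt : t * t = 1)
    (ht1 : t ≠ 1)
    (hinv : ∀ n ∈ Subgroup.normalizer ((S : Subgroup G) : Set G), n * t * n⁻¹ = t) :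
    IsIsolatedInvolution t := by
  have hto : orderOf t = 2 := by
    apply orderOf_eq_prime
    · rw [sq]; exact htt
    · exact ht1
  refine ⟨hto, fun g hg => ?_⟩
  have htZ := sq_one_central c ht htt
  set u := g * t * g⁻¹ with hu
  have huo : orderOf u = 2 := by rw [hu, Cfsg.Agent.S3279.orderOf_conj']; exact hto
  have hTC : (S : Subgroup G) ≤ Subgroup.centralizer ({t} : Set G) := by
    intro s hs
    rw [Subgroup.mem_centralizer_singleton_iff]
    exact (mem_Zc.1 htZ).2 s hs
  have huC : u ∈ Subgroup.centralizer ({t} : Set G) := by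
    rw [Subgroup.mem_centralizer_singleton_iff]
    exact hg.eq.symm
  obtain ⟨k, hk, hkS⟩ := Cfsg.Agent.S3279.conj_into S hTC huC huo
  have hkc : k * t = t * k := by
    rwa [Subgroup.mem_centralizer_singleton_iff] at hk
  have hy : (k * u * k⁻¹) * (k * u * k⁻¹) = 1 := by
    have : u * u = 1 := by
      rw [← sq, ← huo]; exact pow_orderOf_eq_one u
    calc (k * u * k⁻¹) * (k * u * k⁻¹) = k * (u * u) * k⁻¹ := by group
      _ = 1 := by rw [this]; group
  have hyZ := sq_one_central c hkS hy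
  have hcen : ∀ {x : G}, x ∈ Zc (S : Subgroup G) → x ∈ Subgroup.centralizer ((S : Subgroup G) : Set G) :=
    fun {x} hx => by
      rw [Subgroup.mem_centralizer_iff]
      exact (mem_Zc.1 hx).2
  have e : (k * g)⁻¹⁻¹ * t * (k * g)⁻¹ = k * u * k⁻¹ := by rw [hu]; group
  obtain ⟨n, hn, hn2⟩ := Sylow.conj_eq_normalizer_conj_of_mem_centralizer S t (k * g)⁻¹ (hcen htZ)
    (by rw [e]; exact hcen hyZ)
  rw [e] at hn2
  have hn3 : n⁻¹ * t * n = t := by
    have := hinv n⁻¹ (Subgroup.inv_mem _ hn)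
    simpa using this
  rw [hn3] at hn2
  calc u = k⁻¹ * (k * u * k⁻¹) * k := by group
    _ = k⁻¹ * t * k := by rw [hn2]
    _ = k⁻¹ * (t * k) := by group
    _ = k⁻¹ * (k * t) := by rw [hkc]
    _ = t := by group

/-- A simple group with an isolated involution has all squares trivial. -/
lemma sq_trivial [IsSimpleGroup G] {w : G} (hI : IsIsolatedInvolution w) (x : G) : x * x = 1 := by
  classical
  have hZ := Cfsg.Agent.Lib.ZStar.zstar hI
  have hw1 : w ≠ 1 := Cfsg.Agent.Lib.EmbInvol.ne_one_of_order hI.1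
  have hww : w * w = 1 := Cfsg.Agent.Lib.EmbInvol.mul_self_of_order hI.1
  have hn : (pPrimeCore 2 G).Normal := Cfsg.Agent.Lib.PCore.pPrimeCore_normal 2
  rcases (inferInstance : IsSimpleGroup G).eq_bot_or_eq_top_of_normal _ hn with h | h
  · have hcen : ∀ g : G, g * w = w * g := by
      intro g
      have h1 := hZ g
      rw [h, Subgroup.mem_bot] at h1
      have h2 : g * w * g⁻¹ = w := by
        rw [mul_inv_eq_one] at h1; exact h1
      calc g * w = (g * w * g⁻¹) * g := by group
        _ = w * g := by rw [h2]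
    have hn2 : (Subgroup.zpowers w).Normal := by
      refine ⟨fun n hn g => ?_⟩
      obtain ⟨k, rfl⟩ := Subgroup.mem_zpowers_iff.1 hn
      have h1 : Commute g (w ^ k) := (show Commute g w from hcen g).zpow_right k
      rw [h1.eq, mul_assoc, mul_inv_cancel, mul_one]
      exact Subgroup.zpow_mem_zpowers w k
    rcases (inferInstance : IsSimpleGroup G).eq_bot_or_eq_top_of_normal _ hn2 with h3 | h3
    · exfalso
      apply hw1
      rw [Subgroup.zpowers_eq_bot] at h3
      exact h3
    · have h4 : x ∈ Subgroup.zpowers w := by rw [h3]; trivial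
      obtain ⟨k, rfl⟩ := Subgroup.mem_zpowers_iff.1 h4
      rw [← zpow_add, ← two_mul, zpow_mul, zpow_two, hww, one_zpow]
  · exfalso
    have h1 := Cfsg.Agent.Lib.PCore.card_pPrimeCore_coprime (G := G) 2
    rw [h] at h1
    have h2 : 2 ∣ Nat.card G := by
      rw [← hI.1]; exact orderOf_dvd_natCard w
    have h3 : Nat.card (⊤ : Subgroup G) = Nat.card G := Subgroup.card_top
    rw [h3] at h1
    have := Nat.Coprime.eq_one_of_dvd h1.symm h2
    omega

theorem main (c : Cfg S Q R z) {x : G} (hxx : x * x = z) : ¬ IsSimpleGroup G := by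
  intro hG
  obtain ⟨w, hw, hww, hmax⟩ := exists_max c
  have hwZ := sq_one_central c hw hww
  have hform : ∀ n ∈ Subgroup.normalizer ((S : Subgroup G) : Set G), ∃ d ∈ R, n * w * n⁻¹ = z * d := by
    intro n hn
    have hm := Subgroup.mem_normalizer_iff.1 hn
    apply max_form c ((hm w).1 hw)
    · calc n * w * n⁻¹ * (n * w * n⁻¹) = n * (w * w) * n⁻¹ := by group
        _ = 1 := by rw [hww]; group
    · intro u hu huu
      rw [f_conj hn]
      exact hmax u hu huu
  obtain ⟨t, ht, htt, ⟨d, hd, htd⟩, hinv⟩ := exists_fixed c hwZ hww hform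
  have ht1 : t ≠ 1 := by
    intro h1
    rw [h1] at htd
    have h2 : z ∈ Q ⊓ R := by
      refine ⟨c.hzQ, ?_⟩
      have : z = d⁻¹ := by
        rw [eq_inv_iff_mul_eq_one]; exact htd.symm
      rw [this]; exact R.inv_mem hd
    rw [c.inf, Subgroup.mem_bot] at h2
    exact c.hz1 h2
  have hI := isolated c ht htt ht1 hinv
  have := sq_trivial hI x
  rw [hxx] at this
  exact c.hz1 this

end

/-- Let G be a finite group whose Sylow 2-subgroup S is an internal direct product Q × R with Q generalized quaternion (of order at least 8) and R a subgroup all of whose involutions are central in R. Then G is not simple. In particular no finite simple group has a Sylow 2-subgroup that is a direct product of one or more generalized quaternion groups. -/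
theorem result {G : Type*} [Group G] [Finite G]
    (S : Sylow 2 G) (Q R : Subgroup G) (hQR : Cfsg.IsInternalDirectProduct Q R (S : Subgroup G))
    (n : ℕ) (hn : 1 ≤ n) (eQ : ↥Q ≃* QuaternionGroup (2 ^ n))
    (hR : ∀ r ∈ R, orderOf r = 2 → ∀ s ∈ R, r * s = s * r) :
    ¬ IsSimpleGroup G := by
  classical
  obtain ⟨h1, h2, h3, h4, h5⟩ := hQR
  have hpos : NeZero (2 ^ n) := ⟨by positivity⟩
  set m : ℕ := 2 ^ n with hm
  have hm2 : 2 ≤ m := by
    rw [hm]; calc 2 = 2 ^ 1 := rfl
      _ ≤ 2 ^ n := Nat.pow_le_pow_right (by norm_num) hn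
  let zq : QuaternionGroup m := QuaternionGroup.a (m : ZMod (2 * m))
  let z : G := (eQ.symm zq : Q)
  haveI hne2 : NeZero (2 * m) := ⟨by omega⟩
  have hm0 : (m : ZMod (2 * m)) ≠ 0 := by
    intro h
    rw [ZMod.natCast_eq_zero_iff] at h
    have := Nat.le_of_dvd (by omega) h
    omega
  have hmm : (m : ZMod (2 * m)) + (m : ZMod (2 * m)) = 0 := by
    have : ((2 * m : ℕ) : ZMod (2 * m)) = 0 := ZMod.natCast_self _
    rw [Nat.cast_mul] at this
    rw [← two_mul]
    simpa using this
  have htriv : ∀ q : QuaternionGroup m, q * q = 1 → q = 1 ∨ q = zq := by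
    intro q hq
    rcases q with i | i
    · rw [QuaternionGroup.a_mul_a, QuaternionGroup.one_def] at hq
      have h6 : i + i = 0 := QuaternionGroup.a.inj hq
      have h7 : 2 * i.val = 0 ∨ 2 * i.val = 2 * m := by
        have h8 : (((2 * i.val : ℕ)) : ZMod (2 * m)) = 0 := by
          push_cast
          rw [ZMod.natCast_zmod_val i, (two_mul i : (2 : ZMod (2 * m)) * i = i + i), h6]
        rw [ZMod.natCast_eq_zero_iff] at h8
        obtain ⟨k, hk⟩ := h8
        have h9 : i.val < 2 * m := ZMod.val_lt i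
        have h10 : k < 2 := by
          by_contra h11
          have : 2 * m * 2 ≤ 2 * m * k := Nat.mul_le_mul_left _ (by omega)
          omega
        interval_cases k
        · left; omega
        · right; omega
      rcases h7 with h7 | h7
      · left
        have h8 : i.val = 0 := by omega
        rw [QuaternionGroup.one_def]
        congr 1
        have := ZMod.natCast_zmod_val i
        rw [← this, h8]; simp
      · right
        have h8 : i.val = m := by omega
        show QuaternionGroup.a i = QuaternionGroup.a (m : ZMod (2 * m))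
        congr 1
        have := ZMod.natCast_zmod_val i
        rw [← this, h8]
    · exfalso
      rw [QuaternionGroup.xa_mul_xa, QuaternionGroup.one_def] at hq
      have h6 : (m : ZMod (2 * m)) + i - i = 0 := QuaternionGroup.a.inj hq
      apply hm0
      simpa using h6
  have hzq1 : zq ≠ 1 := by
    intro h
    rw [QuaternionGroup.one_def] at h
    exact hm0 (QuaternionGroup.a.inj h)
  have hz1 : z ≠ 1 := by
    intro h
    apply hzq1
    have : eQ.symm zq = 1 := Subtype.ext h
    simpa using this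
  have hzz : z * z = 1 := by
    have : zq * zq = 1 := by
      show QuaternionGroup.a _ * QuaternionGroup.a _ = 1
      rw [QuaternionGroup.a_mul_a, hmm, QuaternionGroup.one_def]
    have h6 := congrArg (fun y => ((eQ.symm y : Q) : G)) this
    simpa [z] using h6
  have hcard : Nat.card {q : G // q ∈ Q ∧ q * q = 1} < Nat.card {q : G // q ∈ Q ∧ q * q = z} := by
    have e1 : Nat.card {q : G // q ∈ Q ∧ q * q = 1} ≤ 2 := by
      let g : {q : G // q ∈ Q ∧ q * q = 1} → Bool := fun q => decide (q.1 = 1)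
      have hg : Function.Injective g := by
        rintro ⟨q, hq, hqq⟩ ⟨q', hq', hqq'⟩ h
        have key : ∀ y : G, y ∈ Q → y * y = 1 → y = 1 ∨ y = z := by
          intro y hy hyy
          have h6 : (eQ ⟨y, hy⟩) * (eQ ⟨y, hy⟩) = 1 := by
            rw [← map_mul, ← map_one eQ]
            congr 1
            exact Subtype.ext hyy
          rcases htriv _ h6 with h7 | h7
          · left
            have : (⟨y, hy⟩ : Q) = 1 := by simpa using h7
            exact congrArg Subtype.val this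
          · right
            have : (⟨y, hy⟩ : Q) = eQ.symm zq := by
              rw [← h7]; simp
            exact congrArg Subtype.val this
        apply Subtype.ext
        show q = q'
        rcases key q hq hqq with h6 | h6 <;> rcases key q' hq' hqq' with h7 | h7
        · rw [h6, h7]
        · exfalso
          simp [g, h6, h7, hz1] at h
        · exfalso
          simp [g, h6, h7, hz1] at h
        · rw [h6, h7]
      have := Nat.card_le_card_of_injective g hg
      simpa using this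
    have e2 : 2 * m ≤ Nat.card {q : G // q ∈ Q ∧ q * q = z} := by
      let g : ZMod (2 * m) → {q : G // q ∈ Q ∧ q * q = z} := fun i =>
        ⟨(eQ.symm (QuaternionGroup.xa i) : Q), (eQ.symm _).2, by
          have h6 : (QuaternionGroup.xa i : QuaternionGroup m) * QuaternionGroup.xa i = zq := by
            rw [QuaternionGroup.xa_mul_xa]
            show QuaternionGroup.a _ = QuaternionGroup.a _
            congr 1
            ring
          have h7 : eQ.symm (QuaternionGroup.xa i) * eQ.symm (QuaternionGroup.xa i) = eQ.symm zq := by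
            rw [← map_mul, h6]
          exact congrArg Subtype.val h7⟩
      have hg : Function.Injective g := by
        intro i j h
        have h6 := congrArg Subtype.val h
        have h7 : eQ.symm (QuaternionGroup.xa i) = eQ.symm (QuaternionGroup.xa j) := Subtype.ext h6
        have h8 := eQ.symm.injective h7
        simpa using h8
      have := Nat.card_le_card_of_injective g hg
      rwa [Nat.card_zmod] at this
    omega
  have hzQ : z ∈ Q := (eQ.symm zq).2
  have huniq : ∀ q ∈ Q, q * q = 1 → q = 1 ∨ q = z := by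
    intro y hy hyy
    have h6 : (eQ ⟨y, hy⟩) * (eQ ⟨y, hy⟩) = 1 := by
      rw [← map_mul, ← map_one eQ]
      congr 1
      exact Subtype.ext hyy
    rcases htriv _ h6 with h7 | h7
    · left
      have : (⟨y, hy⟩ : Q) = 1 := by simpa using h7
      exact congrArg Subtype.val this
    · right
      have : (⟨y, hy⟩ : Q) = eQ.symm zq := by
        rw [← h7]; simp
      exact congrArg Subtype.val this
  have c : Cfg S Q R z :=
    { hQS := h1, hRS := h2, comm := h3, inf := h4, sup := h5, hzQ := hzQ, hz1 := hz1, hzz := hzz,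
      huniq := huniq, hcard := hcard, hR := hR }
  have hxx : ((eQ.symm (QuaternionGroup.xa 0) : Q) : G) * ((eQ.symm (QuaternionGroup.xa 0) : Q) : G) = z := by
    have h6 : (QuaternionGroup.xa 0 : QuaternionGroup m) * QuaternionGroup.xa 0 = zq := by
      rw [QuaternionGroup.xa_mul_xa]
      show QuaternionGroup.a _ = QuaternionGroup.a _
      congr 1
      ring
    have h7 : eQ.symm (QuaternionGroup.xa 0) * eQ.symm (QuaternionGroup.xa 0) = eQ.symm zq := by
      rw [← map_mul, h6]
    exact congrArg Subtype.val h7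
  exact main c hxx

end Cfsg.Agent.S3269
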