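import Mathlib
import Cfsg.Statements.S3280
import Cfsg.Agent.Lib.WongFinal
import Cfsg.Agent.Lib.WongChar
import Cfsg.Agent.S0984

set_option autoImplicit false
set_option linter.all false

open Cfsg

namespace Cfsg.Agent.S3280

open Subgroup Cfsg.Agent.Lib Cfsg.Agent.Lib.WongBase Cfsg.Agent.Lib.WongStrong Cfsg.Agent.Lib.WongFinal

/-- A non-cyclic finite simple group containing an element whose centralizer has order at most 4 is isomorphic to the alternating group of degree 5, 6 or 7, or to PSL(2, 7). -/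
theorem result {G : Type*} [Group G] [Finite G] [IsSimpleGroup G] (hG : ¬ IsCyclic G)
    (w : G) (hw : Nat.card ↥(Subgroup.centralizer ({w} : Set G)) ≤ 4) :
    Nonempty (G ≃* ↥(alternatingGroup (Fin 5))) ∨ Nonempty (G ≃* ↥(alternatingGroup (Fin 6))) ∨
      Nonempty (G ≃* ↥(alternatingGroup (Fin 7))) ∨
      (∃ (F : Type) (_ : Field F) (_ : Fintype F), Fintype.card F = 7 ∧ Nonempty (G ≃* Matrix.ProjectiveSpecialLinearGroup (Fin 2) F)) := by
  rcases Wong80Top.wong_reduction hG w hw with h | h | ⟨S, σ, τ, hσS, hτS, hσo, hτo, hc, hrel, hS⟩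
  · exact Or.inl h
  · exact Or.inr (Or.inr (Or.inr h))
  have F : Frame σ τ := frame_of_data hG S hσS hτS hσo hτo hc hrel hS
  have Ft := F.t_frame
  have hnontriv : ∀ {v r : G}, 1 < Nat.card (Wn v r) → ∃ u ∈ Wn v r, u ≠ 1 := by
    intro v r h
    by_contra hcon
    push Not at hcon
    have h1 : Wn v r = ⊥ := (Subgroup.eq_bot_iff_forall _).2 hcon
    rw [h1, Subgroup.card_bot] at h
    omega
  have hpos1 : 0 < Nat.card (Wn (σ * σ) τ) := Nat.card_pos
  have hpos2 : 0 < Nat.card (Wn (σ * σ) (σ * τ)) := Nat.card_pos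
  have h7 : ∀ (Fb : Nat.card G = 2520), Nonempty (G ≃* ↥(alternatingGroup (Fin 5))) ∨ Nonempty (G ≃* ↥(alternatingGroup (Fin 6))) ∨
      Nonempty (G ≃* ↥(alternatingGroup (Fin 7))) ∨
      (∃ (F : Type) (_ : Field F) (_ : Fintype F), Fintype.card F = 7 ∧ Nonempty (G ≃* Matrix.ProjectiveSpecialLinearGroup (Fin 2) F)) :=
    fun Fb => Or.inr (Or.inr (Or.inl (Cfsg.Agent.S0984.result Fb)))
  by_cases ha : Nat.card (Wn (σ * σ) τ) = 1 <;> by_cases hb : Nat.card (Wn (σ * σ) (σ * τ)) = 1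
  · rcases a1b1 F hG ha hb with h | h
    · exact Or.inr (Or.inl h)
    · exact Or.inr (Or.inr (Or.inr h))
  · -- swap the roles
    have hb' : Nat.card (Wn (σ * σ) (σ * (σ * τ))) = 1 := by rw [Wn_partner F]; exact ha
    rcases WongChar.wong_char Ft hG hb' (by omega) with ⟨-, h⟩ | ⟨h1, h2⟩
    · exact h7 h
    · exact (a5_false Ft hb' h1 h2).elim
  · rcases WongChar.wong_char F hG hb (by omega) with ⟨-, h⟩ | ⟨h1, h2⟩
    · exact h7 h
    · exact (a5_false F hb h1 h2).elim
  · exfalso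
    obtain ⟨u, hu, hu1⟩ := hnontriv (v := σ * σ) (r := τ) (by omega)
    obtain ⟨j, hj, hj1⟩ := hnontriv (v := σ * σ) (r := σ * τ) (by omega)
    exact strong_case F hu hu1 hj hj1

end Cfsg.Agent.S3280
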