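import Cfsg.Statements.S3285
import Cfsg.Agent.Lib.JZA
import Cfsg.Agent.Lib.JZAlt
import Cfsg.Agent.Lib.JZG
import Cfsg.Agent.Lib.JZM4
import Cfsg.Agent.Lib.JZM5

set_option autoImplicit false
open Cfsg

namespace Cfsg.Agent.S3285

/-- Small alternating groups have no involutions. -/
theorem no_inv_small {m : ℕ} (hm : m ≤ 3) (x : alternatingGroup (Fin m)) (hx : x ^ 2 = 1) : x = 1 := by
  interval_cases m <;> revert x <;> decide

/-- Let G be a finite non-solvable group with no normal subgroup of index 2, and J an involution lying in the centre of a Sylow 2-subgroup of G whose centralizer is the internal direct product of ⟨J⟩ with a subgroup isomorphic to the alternating group of degree m. Then either m = 4 and G is isomorphic to the automorphism group PΓL(2, 8) of PSL(2, 8), or m = 5 and G is isomorphic to the first Janko group. -/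
theorem result {G : Type*} [Group G] [Finite G] (hns : ¬ Group.IsSolvable G) (h2 : ∀ N : Subgroup G, N.Normal → N.index ≠ 2)
    (J : G) (hJ : Cfsg.IsTwoCentralInvolution J) (m : ℕ) (T : Subgroup G)
    (hT : Nonempty (↥T ≃* ↥(alternatingGroup (Fin m))))
    (hd : Cfsg.IsInternalDirectProduct (Subgroup.zpowers J) T (Subgroup.centralizer ({J} : Set G))) :
    (m = 4 ∧ ∃ (F : Type) (_ : Field F) (_ : Fintype F), Fintype.card F = 8 ∧
        Nonempty (G ≃* MulAut (Matrix.ProjectiveSpecialLinearGroup (Fin 2) F))) ∨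
      (m = 5 ∧ Cfsg.Spor.IsoJ1 G) := by
  obtain ⟨e⟩ := id hT
  by_cases hm3 : m ≤ 3
  · exfalso
    refine Cfsg.Agent.Lib.JZA.no_inv_case h2 hJ hd ?_
    intro x hx hx2
    have h1 : e ⟨x, hx⟩ ^ 2 = 1 := by
      rw [← map_pow]
      have : (⟨x, hx⟩ : T) ^ 2 = 1 := Subtype.ext hx2
      rw [this, map_one]
    have h3 := no_inv_small hm3 _ h1
    have h4 : (⟨x, hx⟩ : T) = 1 := by
      apply e.injective
      rw [h3, map_one]
    exact congrArg Subtype.val h4
  by_cases hm4 : m = 4
  · subst hm4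
    exact Or.inl ⟨rfl, Cfsg.Agent.Lib.JZG.final (Cfsg.Agent.Lib.JZM4.m4_str hns h2 hJ hT hd)⟩
  by_cases hm5 : m = 5
  · subst hm5
    exact Or.inr ⟨rfl, Cfsg.Agent.Lib.JZM5.m5_iso h2 hJ hT hd⟩
  · exfalso
    have hm6 : 6 ≤ m := by omega
    exact Cfsg.Agent.Lib.JZA.big_case h2 hJ hd e (fun x hx Q hQ => Cfsg.Agent.Lib.JZAlt.sq_closed hm6 x hx Q hQ)

end Cfsg.Agent.S3285
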