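import Cfsg.Statements.S3341
import Cfsg.Agent.Lib.S3341Main9
import Cfsg.Agent.Lib.InvolutionFusion2

set_option autoImplicit false
open Cfsg

namespace Cfsg.Agent.S3341

/-- Let G be a finite simple group whose Sylow 3-subgroup S is elementary abelian of order 9, such that G has more than one conjugacy class of elements of order 3 and C_G(s) = S for every non-identity s in S. Then G is isomorphic to the alternating group of degree 6. -/
theorem result {G : Type*} [Group G] [Finite G] [IsSimpleGroup G]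
    (P : Sylow 3 G) (S : Subgroup G) (hSP : S = P) (hcomm : IsMulCommutative S) (hexp : ∀ a ∈ S, a ^ 3 = 1)
    (hcard : Nat.card S = 9)
    (hclasses : ∃ a b : G, orderOf a = 3 ∧ orderOf b = 3 ∧ ∀ g : G, g * a * g⁻¹ ≠ b)
    (hcent : ∀ s ∈ S, s ≠ 1 → Subgroup.centralizer ({s} : Set G) = S) :
    Nonempty (G ≃* alternatingGroup (Fin 6)) := by
  classical
  letI : Fintype G := Fintype.ofFinite G
  have : Fact (Nat.Prime 3) := ⟨Nat.prime_three⟩
  have H : Cfsg.Agent.Lib.S3341Main9.Hyp S := ⟨fun a ha b hb => by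
      have h := hcomm.is_comm.comm ⟨a, ha⟩ ⟨b, hb⟩
      exact congrArg Subtype.val h, hexp, hcard, hcent⟩
  have into : ∀ y : G, orderOf y = 3 → ∃ s ∈ S, IsConj y s ∧ s ≠ 1 := by
    intro y hy
    have hy3 : y ^ 3 = 1 := by rw [← hy]; exact pow_orderOf_eq_one y
    have hp : IsPGroup 3 (Subgroup.zpowers y) := by
      rw [IsPGroup.iff_card, Nat.card_zpowers, hy]
      exact ⟨1, by norm_num⟩
    obtain ⟨Q, hQ⟩ := hp.exists_le_sylow
    obtain ⟨g, hg⟩ := MulAction.exists_smul_eq G Q P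
    have hyQ : y ∈ (Q : Subgroup G) := hQ (Subgroup.mem_zpowers y)
    have hy1 : y ≠ 1 := by
      rintro rfl
      simp at hy
    refine ⟨g * y * g⁻¹, ?_, isConj_iff.mpr ⟨g, rfl⟩, ?_⟩
    · have h2 : g * y * g⁻¹ ∈ g • Q := by
        rw [Cfsg.Agent.Lib.InvolutionFusion2.mem_smul_sylow_iff]
        have h3 : g⁻¹ * (g * y * g⁻¹) * g = y := by group
        rw [h3]
        exact hyQ
      rw [hSP, ← hg]
      exact h2
    · exact Cfsg.Agent.Lib.S3341Main9.ne_one_of_conj (isConj_iff.mpr ⟨g, rfl⟩) hy1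
  obtain ⟨a, b, ha, hb, hab⟩ := hclasses
  obtain ⟨x, hx, hax, h1⟩ := into a ha
  obtain ⟨x', hx', hbx', h1'⟩ := into b hb
  refine Cfsg.Agent.Lib.S3341Main9.main H P hSP hx h1 hx' h1' ?_
  intro hc
  obtain ⟨g, hg⟩ := isConj_iff.mp (hax.trans (hc.trans hbx'.symm))
  exact hab g hg

end Cfsg.Agent.S3341
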