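import Mathlib
import Cfsg.Statements.S3374
import Cfsg.Agent.S3378

set_option autoImplicit false
set_option linter.style.haveILetI false
open Cfsg

namespace Cfsg.Agent.S3374

open Matrix Cfsg.Agent.Lib.SmallTC

instance fact11 : Fact (Nat.Prime 11) := ⟨by norm_num⟩

/-- first image -/
def Am : SpecialLinearGroup (Fin 2) (ZMod 11) := ⟨!![0, 1; 10, 10], by decide +kernel⟩
/-- second image -/
def Bm : SpecialLinearGroup (Fin 2) (ZMod 11) := ⟨!![0, 2; 5, 3], by decide +kernel⟩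
/-- third image -/
def Zm : SpecialLinearGroup (Fin 2) (ZMod 11) := ⟨!![10, 0; 0, 10], by decide +kernel⟩

/-- representation of the presented group -/
def ρP : S3378.P →* SpecialLinearGroup (Fin 2) (ZMod 11) :=
  PresentedGroup.toGroup (f := ![Am, Bm, Zm]) (by
    intro r hr
    simp only [S3378.rels, Set.mem_insert_iff, Set.mem_singleton_iff] at hr
    rcases hr with rfl | rfl | rfl | rfl | rfl | rfl
    · have : Am ^ 3 = 1 := by decide +kernel
      simpa using this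
    · have : Bm ^ 5 = 1 := by decide +kernel
      simpa using this
    · have : Zm ^ 2 = 1 := by decide +kernel
      simpa using this
    · have : Zm⁻¹ * Am * Zm * Am⁻¹ = 1 := by decide +kernel
      simpa using this
    · have : Zm⁻¹ * Bm * Zm * Bm⁻¹ = 1 := by decide +kernel
      simpa using this
    · have : (Am * Bm) ^ 2 * Zm⁻¹ = 1 := by decide +kernel
      simpa using this)

theorem ρP0 : ρP (S3378.gg 0) = Am := by simp [ρP, S3378.gg]
theorem ρP1 : ρP (S3378.gg 1) = Bm := by simp [ρP, S3378.gg]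

/-- the two generators on vectors -/
def stepv : ℕ → ZMod 11 × ZMod 11 → ZMod 11 × ZMod 11
  | 0, v => (v.2, 10 * v.1 + 10 * v.2)
  | _, v => (2 * v.2, 5 * v.1 + 3 * v.2)

/-- action of a word on a vector -/
def appw : List ℕ → ZMod 11 × ZMod 11 → ZMod 11 × ZMod 11
  | [], v => v
  | i :: w, v => stepv i (appw w v)

/-- words for vectors -/
def WW : List (List ℕ) := [[],[0,0,1,0,1],[0,0,1,0,0],[1,1,0,1,1],[0,0,1,1,1,0,1],[1],[0,1,0,1,1],[0,0,1,1,0,0],[1,0,0,1],[0,0,1,1,0,1],[0],[],[0,1,1,0,0,1,1,0,0],[0,1,0,0,1,1,1,0,1],[1,1,0,1,1,1,0],[0,1,1,1,0],[1,0,0,1,1,1,0],[0,1,1,0,0,1,1,0,0,1],[0,1,0,1,1,1],[0,0,1,1,0,0,1,1],[1,0,0,1,1,1,0,1,1],[1,0,1],[0,1,1,0,1],[0,1,1,0,0,1,1],[0,0,1,1,0,1,1,1],[0,0,1,1,1,1],[0,1,1,0,0,1],[0,0,1,0,0,1,1,1],[0,0,1,1,1,0,1,1,1,0],[1,1,0,1,1,1],[0,0,1,0,0,1,1,1,0,1],[1,0,0],[0,1,0,0,1,1,0,0,1],[0,0,1,0,0,1],[1,0,1,1,1],[0,1,1,1,0,1,1,1,0],[0,1,1,0],[0,1,0,1,1,1,1],[0,0,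1,1,0],[1,1,1,1],[0,1,1,0,1,1,1,0],[0,1,1,0,1,1],[1,1,1,0,1,1,1],[1,0,0,1,1,0,0],[0,1,1,0,0],[1,1,0,0,1,1,0,0,1],[0,1,0,0,1,1,1],[1,0,1,1,1,1],[0,0,1,0,1,1,1,1],[0,0,1,1,0,0,1],[0,0,1,1,1,0],[1,1,1,0,1],[0,1,1],[0,1,0,0,1,1],[0,0,1,0,0,1,1,0],[1,0,1,1],[0,0,1,0,0,1,1,1,0],[1,1,0,0,1],[1,1,0],[1,0,0,1,1,1],[0,1,0,0,1,1,1,0],[0,1],[1,0,0,1,1,0,0,1,1],[1,1,0,0,1,1,0],[0,0,1,0],[0,1,0,0,1,1,0,1],[0,0,1],[1,1,1,0],[0,1,1,1,1],[1,1,1,0,1,1,1,0],[1,0,0,1,1,1,0,1,1,1],[0,0,1,0,1,1],[0,1,1,0,0,1,1,0,1],[1,1,0,1,1,1,1],[0,1,0,1,1,1,0],[1,1,1,0,1,1],[0,0,1,1,0,0,1,1,0,1],[0,1,1,1,0,1],[0,0,1,1,0,1,1,1,0],[0,1,1,0,1,1,1],[0,0,1,0,1,1,1],[1,1,0,0],[1,0,0,1,1,0,1],[0,0,1,1,1,0,1,1],[0,1,1,1],[0,0,1,1,1],[0,1,1,0,1,1,1,1],[0,1,0,0,1,1,0,0,1,1],[0,0,1,1,0,1,1],[1,0,0,1,1,1,0,1],[1,1,0,0,1,1],[0,1,0,0,1],[0,1,0,0,1,1,0],[0,1,0],[1,0,1,1,1,0],[1,1,1],[0,0,1,0,1,1,1,0],[0,1,1,0,0,1,1,0],[0,0,1,1],[0,1,0,0],[1,1,0,0,1,1,0,0],[1,1,0,1],[0,0,1,0,0,1,1,0,0],[1,0,0,1,1],[0,0,1,1,0,0,1,1,0],[0,0,1,1,0,1,1,1,1],[0,1,1,1,0,1,1],[1,0],[0,0,1,0,0,1,1],[0,1,1,1,0,1,1,1],[0,1,0,1],[0,0],[1,0,0,1,1,0,0,1],[0,0,1,1,1,0,1,1,1],[1,1],[1,0,0,1,1,0,0,1,1,0],[1,1,0,0,1,1,0,1],[0,0,1,0,0,1,1,0,1],[1,0,0,1,1,0],[0,1,0,0,1,1,0,0],[0,0,1,0,0,1,1,0,0,1]]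

theorem ww_ok : ∀ a b : ZMod 11, ¬ (a = 0 ∧ b = 0) →
    appw (nth [] WW (a.val * 11 + b.val)) (1, 0) = (a, b) ∧
      (∀ i ∈ nth [] WW (a.val * 11 + b.val), i < 2) := by
  decide +kernel

theorem mulVec_pair (i : ℕ) (hi : i < 2) (v : ZMod 11 × ZMod 11) :
    ((ρP (S3378.gg i)).1 *ᵥ ![v.1, v.2]) = ![(stepv i v).1, (stepv i v).2] := by
  interval_cases i
  · rw [ρP0]
    ext j
    fin_cases j <;> simp [Am, stepv, Matrix.mulVec, dotProduct, Fin.sum_univ_two]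
  · rw [ρP1]
    ext j
    fin_cases j <;> simp [Bm, stepv, Matrix.mulVec, dotProduct, Fin.sum_univ_two]

theorem ev_act (w : List ℕ) (hw : ∀ i ∈ w, i < 2) (v : ZMod 11 × ZMod 11) :
    ((ρP (ev S3378.gg w)).1 *ᵥ ![v.1, v.2]) = ![(appw w v).1, (appw w v).2] := by
  induction w with
  | nil =>
    simp [appw]
  | cons i w ih =>
    have h1 := ih (fun x hx => hw x (by simp [hx]))
    have h2 : (ρP (ev S3378.gg (i :: w))).1 = (ρP (S3378.gg i)).1 * (ρP (ev S3378.gg w)).1 := by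
      rw [ev_cons, map_mul]; rfl
    rw [h2, ← Matrix.mulVec_mulVec, h1]
    exact mulVec_pair i (hw i (by simp)) _

/-- the chosen isomorphism -/
noncomputable def isoP : S3378.P ≃* SpecialLinearGroup (Fin 2) (ZMod 5) :=
  Classical.choice S3378.part2

/-- the representation of `SL(2,5)` -/
noncomputable def ρ : SpecialLinearGroup (Fin 2) (ZMod 5) →* SpecialLinearGroup (Fin 2) (ZMod 11) :=
  ρP.comp isoP.symm.toMonoidHom

/-- vectors -/
abbrev V := Fin 2 → ZMod 11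

/-- the base vector -/
def e₁ : V := ![1, 0]

theorem e₁_ne : e₁ ≠ 0 := by decide +kernel

theorem mulVec_ne {M : SpecialLinearGroup (Fin 2) (ZMod 11)} {v : V} (hv : v ≠ 0) :
    M.1 *ᵥ v ≠ 0 := by
  intro h
  apply hv
  have h1 : (M⁻¹ * M).1 *ᵥ v = 0 := by
    have : (M⁻¹ * M).1 = (M⁻¹).1 * M.1 := rfl
    rw [this, ← Matrix.mulVec_mulVec, h, Matrix.mulVec_zero]
  simpa using h1

theorem exists_vec (v : V) (hv : v ≠ 0) :
    ∃ s : SpecialLinearGroup (Fin 2) (ZMod 5), (ρ s).1 *ᵥ e₁ = v := by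
  have hne : ¬ (v 0 = 0 ∧ v 1 = 0) := by
    rintro ⟨h0, h1⟩
    apply hv
    ext j
    fin_cases j
    · exact h0
    · exact h1
  obtain ⟨h1, h2⟩ := ww_ok (v 0) (v 1) hne
  refine ⟨isoP (ev S3378.gg (nth [] WW ((v 0).val * 11 + (v 1).val))), ?_⟩
  have h3 := ev_act _ h2 (1, 0)
  rw [h1] at h3
  have h4 : ρ (isoP (ev S3378.gg (nth [] WW ((v 0).val * 11 + (v 1).val)))) =
      ρP (ev S3378.gg (nth [] WW ((v 0).val * 11 + (v 1).val))) := by
    simp [ρ]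
  rw [h4]
  have h5 : e₁ = ![((1 : ZMod 11), (0 : ZMod 11)).1, ((1 : ZMod 11), (0 : ZMod 11)).2] := rfl
  rw [h5, h3]
  ext j
  fin_cases j <;> rfl

/-- nonzero vectors -/
noncomputable def Fmap (s : SpecialLinearGroup (Fin 2) (ZMod 5)) : {v : V // v ≠ 0} :=
  ⟨(ρ s).1 *ᵥ e₁, mulVec_ne e₁_ne⟩

theorem Fmap_inj : Function.Injective Fmap := by
  have hs : Function.Surjective Fmap := by
    rintro ⟨v, hv⟩
    obtain ⟨s, hs⟩ := exists_vec v hv
    exact ⟨s, Subtype.ext hs⟩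
  have hc : Nat.card (SpecialLinearGroup (Fin 2) (ZMod 5)) = Nat.card {v : V // v ≠ 0} := by
    rw [S3378.SL5_card]
    have h1 : Nat.card V = Nat.card {v : V // v ≠ 0} + 1 := by
      rw [← Nat.card_congr (Equiv.optionSubtypeNe (0 : V)), Finite.card_option]
    have h2 : Nat.card V = 121 := by
      rw [Nat.card_eq_fintype_card, Fintype.card_fun, ZMod.card, Fintype.card_fin]
      norm_num
    omega
  exact ((Nat.bijective_iff_surjective_and_card _).mpr ⟨hs, hc⟩).1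

theorem fpf (s : SpecialLinearGroup (Fin 2) (ZMod 5)) (v : V) (hv : v ≠ 0)
    (h : (ρ s).1 *ᵥ v = v) : s = 1 := by
  obtain ⟨g, hg⟩ := exists_vec v hv
  have h1 : Fmap (s * g) = Fmap g := by
    apply Subtype.ext
    show (ρ (s * g)).1 *ᵥ e₁ = (ρ g).1 *ᵥ e₁
    have : (ρ (s * g)).1 = (ρ s).1 * (ρ g).1 := by rw [map_mul]; rfl
    rw [this, ← Matrix.mulVec_mulVec, hg, h]
  have h2 := Fmap_inj h1
  exact mul_eq_right.mp h2

/-- the normal subgroup -/
abbrev NN := Multiplicative V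

/-- the action -/
noncomputable def act : SpecialLinearGroup (Fin 2) (ZMod 5) →* MulAut NN where
  toFun s :=
    { toFun := fun n => Multiplicative.ofAdd ((ρ s).1 *ᵥ n.toAdd)
      invFun := fun n => Multiplicative.ofAdd ((ρ s⁻¹).1 *ᵥ n.toAdd)
      left_inv := by
        intro n
        apply Multiplicative.toAdd.injective
        simp only [toAdd_ofAdd, Matrix.mulVec_mulVec]
        have : (ρ s⁻¹).1 * (ρ s).1 = 1 := by
          have : (ρ s⁻¹ * ρ s).1 = (ρ s⁻¹).1 * (ρ s).1 := rfl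
          rw [← this, ← map_mul]; simp
        rw [this, Matrix.one_mulVec]
      right_inv := by
        intro n
        apply Multiplicative.toAdd.injective
        simp only [toAdd_ofAdd, Matrix.mulVec_mulVec]
        have : (ρ s).1 * (ρ s⁻¹).1 = 1 := by
          have : (ρ s * ρ s⁻¹).1 = (ρ s).1 * (ρ s⁻¹).1 := rfl
          rw [← this, ← map_mul]; simp
        rw [this, Matrix.one_mulVec]
      map_mul' := by
        intro a b
        apply Multiplicative.toAdd.injective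
        simp [Matrix.mulVec_add] }
  map_one' := by
    ext n
    simp
  map_mul' := by
    intro a b
    apply MulEquiv.ext
    intro n
    apply Multiplicative.toAdd.injective
    have : (ρ (a * b)).1 = (ρ a).1 * (ρ b).1 := by rw [map_mul]; rfl
    show (ρ (a * b)).1 *ᵥ n.toAdd = (ρ a).1 *ᵥ ((ρ b).1 *ᵥ n.toAdd)
    rw [this, Matrix.mulVec_mulVec]

theorem act_apply (s : SpecialLinearGroup (Fin 2) (ZMod 5)) (n : NN) :
    act s n = Multiplicative.ofAdd ((ρ s).1 *ᵥ n.toAdd) := rfl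

/-- the group -/
abbrev LL := NN ⋊[act] SpecialLinearGroup (Fin 2) (ZMod 5)

instance : Finite LL := Finite.of_equiv _ (SemidirectProduct.equivProd (φ := act)).symm

/-- the complement -/
noncomputable def HH : Subgroup LL := (SemidirectProduct.inr : _ →* LL).range

theorem mem_HH (x : LL) : x ∈ HH ↔ x.left = 1 := by
  constructor
  · rintro ⟨s, rfl⟩
    rfl
  · intro h
    refine ⟨x.right, ?_⟩
    ext
    · simp [h]
    · simp

theorem frob : IsFrobeniusComplement HH := by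
  refine ⟨?_, ?_, ?_⟩
  · intro h
    have h1 : (SemidirectProduct.inr (S3378.X) : LL) ∈ HH := ⟨_, rfl⟩
    rw [h, Subgroup.mem_bot] at h1
    have h2 := congrArg SemidirectProduct.right h1
    simp at h2
    exact absurd h2 (by decide +kernel)
  · intro h
    have h1 : (SemidirectProduct.inl (Multiplicative.ofAdd e₁) : LL) ∈ HH := by rw [h]; trivial
    rw [mem_HH] at h1
    simp at h1
    exact e₁_ne h1
  · intro g hg
    rw [eq_bot_iff]
    intro h hh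
    obtain ⟨h1, h2⟩ := Subgroup.mem_inf.mp hh
    rw [Subgroup.mem_bot]
    rw [Subgroup.mem_pointwise_smul_iff_inv_smul_mem] at h2
    set u : LL := (MulAut.conj g)⁻¹ • h with hu
    have hh : h = g * u * g⁻¹ := by
      rw [hu]; simp [MulAut.smul_def]; group
    have hleft := mem_HH h |>.mp h1
    have hu1 := mem_HH u |>.mp h2
    have heq : h * g = g * u := by rw [hh]; group
    -- compare the left components
    have h3 := congrArg SemidirectProduct.left heq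
    simp only [SemidirectProduct.mul_left, hleft, hu1, one_mul, map_one, mul_one] at h3
    have hg1 : g.left ≠ 1 := fun h' => hg ((mem_HH g).mpr h')
    have h4 : (ρ h.right).1 *ᵥ g.left.toAdd = g.left.toAdd := by
      have := congrArg Multiplicative.toAdd h3
      simpa [act_apply] using this
    have h5 : h.right = 1 := fpf _ _ (fun h' => hg1 (by
      apply Multiplicative.toAdd.injective
      simpa using h')) h4
    ext
    · simp [hleft]
    · simp [h5]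

theorem result :
    ∃ (L : Type) (_ : Group L) (_ : Finite L) (H : Subgroup L),
      Cfsg.IsFrobeniusComplement H ∧ Nonempty (H ≃* Matrix.SpecialLinearGroup (Fin 2) (ZMod 5)) := by
  refine ⟨LL, inferInstance, inferInstance, HH, frob, ?_⟩
  exact ⟨(MonoidHom.ofInjective (SemidirectProduct.inr_injective (φ := act))).symm⟩

end Cfsg.Agent.S3374
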