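import Mathlib
import Cfsg.Statements.S3390
import Cfsg.Agent.S3224
import Cfsg.Agent.Lib.TransferEval
import Cfsg.Agent.Lib.ThompsonTransfer
import Cfsg.Agent.Lib.OddInvert
import Cfsg.Agent.Lib.FrobeniusThm

set_option autoImplicit false
set_option linter.unusedSectionVars false
set_option linter.style.haveILetI false

open MulAction Subgroup
open scoped Pointwise

namespace Cfsg.Agent.S3390

open Cfsg

/-- Fixity at most two, in elementary form. -/
def Fix3 (P Ω : Type*) [Group P] [MulAction P Ω] : Prop :=
  ∀ (g : P) (a b c : Ω), g • a = a → g • b = b → g • c = c → a ≠ b → a ≠ c → b ≠ c → g = 1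

theorem fix3_of {G Ω : Type*} [Group G] [MulAction G Ω] [Finite Ω]
    (hfix : ∀ g : G, g ≠ 1 → Nat.card (fixedBy Ω g) ≤ 2) : Fix3 G Ω := by
  intro g a b c ha hb hc hab hac hbc
  by_contra hg
  have h := hfix g hg
  have hsub : ({a, b, c} : Set Ω) ⊆ fixedBy Ω g := by
    intro z hz
    simp only [Set.mem_insert_iff, Set.mem_singleton_iff] at hz
    rcases hz with rfl | rfl | rfl <;> simpa [mem_fixedBy]
  have h2 := Set.ncard_le_ncard hsub (Set.toFinite _)
  have h3 : ({a, b, c} : Set Ω).ncard = 3 := Set.ncard_eq_three.2 ⟨a, b, c, hab, hac, hbc, rfl⟩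
  rw [Nat.card_coe_set_eq] at h
  omega

/-- The conclusion about the isomorphism type of the Sylow subgroup. -/
def Conc (P : Type*) [Group P] : Prop :=
  (∃ n : ℕ, Nonempty (P ≃* DihedralGroup n)) ∨ Cfsg.IsQuasiDihedral P

section TwoGroup

variable {P Ω : Type*} [Group P] [Finite P] [MulAction P Ω]

theorem conc_of_centralizer (hP : IsPGroup 2 P) (x : P) (hx : orderOf x = 2)
    (hC : Nat.card (centralizer ({x} : Set P)) = 4) (h4 : Nat.card P ≠ 4) : Conc P := by
  rcases Cfsg.Agent.S3224.result hP x hx hC with h | h | h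
  · exact Or.inl h
  · exact Or.inr h
  · exact absurd h h4

instance kleinD2 : IsKleinFour (DihedralGroup 2) where
  card_four := by simp [DihedralGroup.nat_card]
  exponent_two := by
    simp [DihedralGroup.exponent]

theorem conc_of_klein (h4 : Nat.card P = 4) (h2 : ∀ p : P, p ^ 2 = 1) : Conc P := by
  have hexp : Monoid.exponent P = 2 := by
    have h1 : Monoid.exponent P ∣ 2 := Monoid.exponent_dvd_of_forall_pow_eq_one h2
    have hne : Monoid.exponent P ≠ 1 := by
      intro h
      have := Monoid.exp_eq_one_iff.1 h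
      have h5 : Nat.card P = 1 := Nat.card_unique
      omega
    rcases (Nat.dvd_prime Nat.prime_two).1 h1 with h | h
    · exact absurd h hne
    · exact h
  haveI : IsKleinFour P := ⟨h4, hexp⟩
  exact Or.inl ⟨2, IsKleinFour.nonempty_mulEquiv⟩

theorem card_four_of_eq {C : Subgroup P} {x t : P} (hx1 : x ≠ 1) (ht1 : t ≠ 1) (hxt : x ≠ t)
    (htx : t * x ≠ 1) (h : ∀ c, c ∈ C ↔ c = 1 ∨ c = x ∨ c = t ∨ c = t * x) : Nat.card C = 4 := by
  classical
  have hset : (C : Set P) = (({1, x, t, t * x} : Finset P) : Set P) := by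
    ext c
    simp [h c]
  have : Nat.card (C : Set P) = 4 := by
    rw [Nat.card_coe_set_eq, hset, Set.ncard_coe_finset]
    rw [Finset.card_insert_of_notMem, Finset.card_insert_of_notMem, Finset.card_insert_of_notMem,
      Finset.card_singleton]
    · simp only [Finset.mem_singleton]
      intro h'
      exact hx1 (by simpa using h')
    · simp only [Finset.mem_insert, Finset.mem_singleton, not_or]
      refine ⟨hxt, ?_⟩
      intro h'
      exact ht1 (by simpa using h'.symm)
    · simp only [Finset.mem_insert, Finset.mem_singleton, not_or]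
      exact ⟨hx1.symm, ht1.symm, htx.symm⟩
  exact this

theorem exists_central_of_normal (hP : IsPGroup 2 P) {R : Subgroup P} (hN : R.Normal)
    (hR : R ≠ ⊥) : ∃ z ∈ R, z ≠ 1 ∧ ∀ p : P, p * z = z * p := by
  classical
  haveI : Fact (Nat.Prime 2) := ⟨Nat.prime_two⟩
  haveI := hN
  by_contra hcon
  push Not at hcon
  have hP' : IsPGroup 2 (ConjAct P) := hP
  have h1 := hP'.card_modEq_card_fixedPoints (↥R)
  have hfp : fixedPoints (ConjAct P) ↥R = {1} := by
    ext z
    simp only [mem_fixedPoints, Set.mem_singleton_iff]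
    constructor
    · intro hz
      by_contra hz1
      obtain ⟨p, hp⟩ := hcon z z.2 (fun h => hz1 (Subtype.ext h))
      apply hp
      have := hz (ConjAct.toConjAct p)
      have h2 := congrArg Subtype.val this
      rw [ConjAct.Subgroup.val_conj_smul, ConjAct.smul_def, ConjAct.ofConjAct_toConjAct] at h2
      calc p * (z : P) = (p * z * p⁻¹) * p := by group
        _ = z * p := by rw [h2]
    · rintro rfl g
      simp
  have h2 : Nat.card (fixedPoints (ConjAct P) ↥R) = 1 := by
    rw [hfp]
    simp
  rw [h2] at h1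
  have h3 : IsPGroup 2 ↥R := hP.to_subgroup R
  haveI : Nontrivial ↥R := (Subgroup.nontrivial_iff_ne_bot R).2 hR
  have h4 : 2 ∣ Nat.card ↥R := by
    rcases h3.card_eq_or_dvd with h | h
    · have := Finite.one_lt_card (α := ↥R)
      omega
    · exact h
  have h5 : Nat.card ↥R % 2 = 1 % 2 := h1
  omega

theorem dichotomy (hP : IsPGroup 2 P) (h3 : Fix3 P Ω) (α : Ω) (hne : stabilizer P α ≠ ⊥)
    (hnt : stabilizer P α ≠ ⊤) :
    (Conc P ∧ (Nat.card (stabilizer P α) = 2 ∨ (stabilizer P α).index = 2)) ∨
    ((stabilizer P α).index = 2 ∧ ∃ β : Ω, β ≠ α ∧ (∃ t : P, t • α = β) ∧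
      (∀ p : P, (p • α = α ∧ p • β = β) ∨ (p • α = β ∧ p • β = α)) ∧
      ∀ ω, ω ≠ α → ω ≠ β → stabilizer P ω = ⊥) := by
  classical
  haveI : Group.IsNilpotent P := hP.isNilpotent
  have hN : NormalizerCondition P := Group.normalizerCondition_of_isNilpotent
  set R := stabilizer P α with hR
  have memR : ∀ p : P, p ∈ R ↔ p • α = α := fun p => mem_stabilizer_iff
  have hlt : R < ⊤ := lt_top_iff_ne_top.2 hnt
  obtain ⟨t, htN, htR⟩ := SetLike.exists_of_lt (hN R hlt)
  set β := t • α with hβdef
  have hβ : β ≠ α := fun h => htR ((memR t).2 h)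
  have hRβ : ∀ p : P, p • β = β ↔ p • α = α := by
    intro p
    have h1 := mem_normalizer_iff.1 htN (t⁻¹ * p * t)
    have e : t * (t⁻¹ * p * t) * t⁻¹ = p := by group
    rw [e] at h1
    rw [← memR p, ← h1, memR, mul_smul, mul_smul, inv_smul_eq_iff]
  obtain ⟨⟨r₀, hr₀R⟩, hr₀⟩ := (Subgroup.ne_bot_iff_exists_ne_one).1 hne
  have hr₀1 : r₀ ≠ 1 := fun h => hr₀ (Subtype.ext h)
  have fixR : ∀ ω : Ω, (∀ r ∈ R, r • ω = ω) → ω = α ∨ ω = β := by
    intro ω hω
    by_contra hcon
    push Not at hcon
    exact hr₀1 (h3 r₀ α β ω ((memR r₀).1 hr₀R) ((hRβ r₀).2 ((memR r₀).1 hr₀R)) (hω r₀ hr₀R)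
      hβ.symm hcon.1.symm hcon.2.symm)
  have hE : ∀ e ∈ normalizer (R : Set P), e • α = α ∨ e • α = β := by
    intro e he
    apply fixR
    intro r hr
    have h1 := (mem_normalizer_iff''.1 he r).1 hr
    have h2 := (memR _).1 h1
    rw [mul_smul, mul_smul, inv_smul_eq_iff] at h2
    exact h2
  have hRE : R ≤ normalizer (R : Set P) := Subgroup.le_normalizer
  -- membership in `E` from the value at `α`
  have memE : ∀ p : P, (p • α = α ∨ p • α = β) → p ∈ normalizer (R : Set P) := by
    intro p hp
    rcases hp with hp | hp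
    · exact hRE ((memR p).2 hp)
    · have h1 : t⁻¹ * p ∈ R := by
        rw [memR, mul_smul, hp, hβdef, inv_smul_smul]
      have h2 := hRE h1
      have e : p = t * (t⁻¹ * p) := by group
      rw [e]
      exact mul_mem htN h2
  by_cases hEtop : normalizer (R : Set P) = ⊤
  · -- `R` has index two
    have hall : ∀ p : P, p • α = α ∨ p • α = β := fun p => hE p (by rw [hEtop]; trivial)
    have hidx : R.index = 2 := by
      have h1 : R.index = (orbit P α).ncard := index_stabilizer P α
      have h2 : orbit P α = {α, β} := by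
        ext ω
        simp only [Set.mem_insert_iff, Set.mem_singleton_iff, mem_orbit_iff]
        constructor
        · rintro ⟨p, rfl⟩
          exact hall p
        · rintro (rfl | rfl)
          · exact ⟨1, one_smul _ _⟩
          · exact ⟨t, rfl⟩
      rw [h1, h2, Set.ncard_pair hβ.symm]
    have hsw : ∀ p : P, (p • α = α ∧ p • β = β) ∨ (p • α = β ∧ p • β = α) := by
      intro p
      rcases hall p with h | h
      · exact Or.inl ⟨h, (hRβ p).2 h⟩
      · refine Or.inr ⟨h, ?_⟩
        have h1 : p • β = (p * t) • α := by rw [mul_smul]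
        rcases hall (p * t) with h2 | h2
        · rw [h1, h2]
        · exfalso
          rw [← h1] at h2
          have h5 := (hRβ p).1 h2
          exact hβ (h.symm.trans h5)
    by_cases hreg : ∀ ω, ω ≠ α → ω ≠ β → stabilizer P ω = ⊥
    · exact Or.inr ⟨hidx, β, hβ, ⟨t, rfl⟩, hsw, hreg⟩
    · push Not at hreg
      obtain ⟨ω, hωα, hωβ, hst⟩ := hreg
      obtain ⟨⟨u, huω⟩, hu⟩ := (Subgroup.ne_bot_iff_exists_ne_one).1 hst
      have hu1 : u ≠ 1 := fun h => hu (Subtype.ext h)
      have huω' : u • ω = ω := mem_stabilizer_iff.1 huω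
      have huR : ¬ u • α = α := fun h =>
        hu1 (h3 u α β ω h ((hRβ u).2 h) huω' hβ.symm hωα.symm hωβ.symm)
      have hus : u • α = β ∧ u • β = α := by
        rcases hsw u with h | h
        · exact absurd h.1 huR
        · exact h
      have hu2 : u * u = 1 := by
        apply h3 (u * u) α β ω
        · rw [mul_smul, hus.1, hus.2]
        · rw [mul_smul, hus.2, hus.1]
        · rw [mul_smul, huω', huω']
        · exact hβ.symm
        · exact hωα.symm
        · exact hωβ.symm
      have hRn : R.Normal := Subgroup.normal_of_index_eq_two hidx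
      obtain ⟨z, hzR, hz1, hzc⟩ := exists_central_of_normal hP hRn hne
      have hzα : z • α = α := (memR z).1 hzR
      have hzβ : z • β = β := (hRβ z).2 hzα
      have hzω : z • ω ≠ ω := fun h =>
        hz1 (h3 z α β ω hzα hzβ h hβ.symm hωα.symm hωβ.symm)
      have huzω : u • z • ω = z • ω := by
        rw [← mul_smul, hzc u, mul_smul, huω']
      -- elements of `R` commuting with `u`
      have hCR : ∀ c ∈ R, u * c = c * u → c = 1 ∨ c = z := by
        intro c hc hcu
        have hcα : c • α = α := (memR c).1 hc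
        have hcβ : c • β = β := (hRβ c).2 hcα
        have hucω : u • c • ω = c • ω := by
          rw [← mul_smul, hcu, mul_smul, huω']
        have hcωα : c • ω ≠ α := by
          intro h
          exact hωα (smul_left_cancel c (h.trans hcα.symm))
        by_cases h1 : c • ω = ω
        · left
          exact h3 c α β ω hcα hcβ h1 hβ.symm hωα.symm hωβ.symm
        · by_cases h2 : c • ω = z • ω
          · right
            have h4 : z⁻¹ * c = 1 := by
              apply h3 (z⁻¹ * c) α β ω
              · rw [mul_smul, hcα, inv_smul_eq_iff, hzα]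
              · rw [mul_smul, hcβ, inv_smul_eq_iff, hzβ]
              · rw [mul_smul, h2, inv_smul_smul]
              · exact hβ.symm
              · exact hωα.symm
              · exact hωβ.symm
            exact (inv_mul_eq_one.1 h4).symm
          · exfalso
            exact hu1 (h3 u ω (z • ω) (c • ω) huω' huzω hucω (Ne.symm hzω) (Ne.symm h1) (Ne.symm h2))
      have hz2 : z * z = 1 := by
        rcases hCR (z * z) (mul_mem hzR hzR) (by rw [← mul_assoc, hzc u, mul_assoc, hzc u, mul_assoc]) with h | h
        · exact h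
        · exfalso
          apply hz1
          have : z * z = z * 1 := by rw [h, mul_one]
          exact mul_left_cancel this
      have huz : u ≠ z := fun h => huR (by rw [h]; exact hzα)
      have hzu : z * u ≠ 1 := by
        intro h
        have h1 : z = u⁻¹ := eq_inv_of_mul_eq_one_left h
        have h2 : u⁻¹ = u := inv_eq_of_mul_eq_one_left hu2
        exact huz (by rw [h1, h2])
      have hcard : Nat.card (centralizer ({u} : Set P)) = 4 := by
        apply card_four_of_eq (x := u) (t := z) hu1 hz1 huz hzu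
        intro c
        rw [Subgroup.mem_centralizer_singleton_iff]
        constructor
        · intro hc
          rcases hsw c with h | h
          · rcases hCR c ((memR c).2 h.1) hc.symm with h' | h'
            · exact Or.inl h'
            · exact Or.inr (Or.inr (Or.inl h'))
          · have h1 : c * u ∈ R := by
              rw [memR, mul_smul, hus.1, h.2]
            have h2 : u * (c * u) = c * u * u := by rw [← mul_assoc, ← hc]
            rcases hCR (c * u) h1 h2 with h' | h'
            · right; left
              have h4 : c = u⁻¹ := eq_inv_of_mul_eq_one_left h'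
              rw [h4]
              exact inv_eq_of_mul_eq_one_left hu2
            · right; right; right
              have h4 : c = z * u⁻¹ := eq_mul_inv_of_mul_eq h'
              rw [h4, inv_eq_of_mul_eq_one_left hu2]
        · rintro (rfl | rfl | rfl | rfl)
          · simp
          · rfl
          · exact (hzc u).symm
          · rw [← mul_assoc u z u, hzc u]
      have horder : orderOf u = 2 :=
        orderOf_eq_prime (by rw [pow_two]; exact hu2) hu1
      refine Or.inl ⟨?_, Or.inr hidx⟩
      by_cases h4 : Nat.card P = 4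
      · apply conc_of_klein h4
        have htop : centralizer ({u} : Set P) = ⊤ := by
          apply Subgroup.eq_top_of_card_eq
          rw [hcard, h4]
        intro p
        have hp : p ∈ centralizer ({u} : Set P) := by rw [htop]; trivial
        rw [Subgroup.mem_centralizer_singleton_iff] at hp
        rw [pow_two]
        rcases hsw p with h | h
        · rcases hCR p ((memR p).2 h.1) hp.symm with h' | h'
          · rw [h', mul_one]
          · rw [h', hz2]
        · have h1 : p * u ∈ R := by
            rw [memR, mul_smul, hus.1, h.2]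
          have h2 : u * (p * u) = p * u * u := by rw [← mul_assoc, ← hp]
          rcases hCR (p * u) h1 h2 with h' | h'
          · have h5 : p = u⁻¹ := eq_inv_of_mul_eq_one_left h'
            rw [h5, inv_eq_of_mul_eq_one_left hu2, hu2]
          · have h5 : p = z * u⁻¹ := eq_mul_inv_of_mul_eq h'
            rw [h5, inv_eq_of_mul_eq_one_left hu2]
            calc z * u * (z * u) = z * (u * z) * u := by group
              _ = z * (z * u) * u := by rw [← hzc u]
              _ = (z * z) * (u * u) := by group
              _ = 1 := by rw [hz2, hu2, one_mul]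
      · exact conc_of_centralizer hP u horder hcard h4
  · -- `R` has order two
    left
    obtain ⟨g, hgN, hgE⟩ := SetLike.exists_of_lt (hN _ (lt_top_iff_ne_top.2 hEtop))
    have hgα : g • α ≠ α := fun h => hgE (memE g (Or.inl h))
    have hgβ : g • α ≠ β := fun h => hgE (memE g (Or.inr h))
    have hTI : ∀ z ∈ R, g⁻¹ * z * g ∈ R → z = 1 := by
      intro z hz hz'
      have h1 := (memR _).1 hz'
      rw [mul_smul, mul_smul, inv_smul_eq_iff] at h1
      exact h3 z α β (g • α) ((memR z).1 hz) ((hRβ z).2 ((memR z).1 hz)) h1 hβ.symm hgα.symm hgβ.symm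
    have hconj : ∀ a ∈ R, (g * a * g⁻¹) • α = α ∨ (g * a * g⁻¹) • α = β := by
      intro a ha
      apply hE
      exact (mem_normalizer_iff.1 hgN a).1 (hRE ha)
    have hcardle : Nat.card R ≤ 2 := by
      let f : ↥R → Bool := fun a => decide ((g * (a : P) * g⁻¹) • α = α)
      have hf : Function.Injective f := by
        intro a b hab
        have hc : ((g * (a : P) * g⁻¹)⁻¹ * (g * (b : P) * g⁻¹)) • α = α := by
          have hab' : ((g * (a : P) * g⁻¹) • α = α) ↔ ((g * (b : P) * g⁻¹) • α = α) := by
            simpa [f] using hab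
          rw [mul_smul, inv_smul_eq_iff]
          rcases hconj a a.2 with h | h
          · rw [h]
            exact hab'.1 h
          · have hb : ¬ ((g * (b : P) * g⁻¹) • α = α) := by
              intro hb
              have := hab'.2 hb
              rw [h] at this
              exact hβ this
            rcases hconj b b.2 with h' | h'
            · exact absurd h' hb
            · rw [h, h']
        have hz := hTI _ ((memR _).2 hc) (by
          have e : g⁻¹ * ((g * (a : P) * g⁻¹)⁻¹ * (g * (b : P) * g⁻¹)) * g = (a : P)⁻¹ * b := by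
            group
          rw [e]
          exact mul_mem (inv_mem a.2) b.2)
        have h5 : g * (a : P) * g⁻¹ = g * (b : P) * g⁻¹ := (inv_mul_eq_one.1 hz)
        apply Subtype.ext
        have h6 := mul_right_cancel h5
        exact mul_left_cancel h6
      calc Nat.card R ≤ Nat.card Bool := Nat.card_le_card_of_injective f hf
        _ = 2 := by simp
    have hcardge : 1 < Nat.card R := (Subgroup.one_lt_card_iff_ne_bot R).2 hne
    have hcard2 : Nat.card R = 2 := by omega
    -- `R = {1, x}`
    obtain ⟨x, hxR, hx1⟩ : ∃ x ∈ R, x ≠ 1 := ⟨r₀, hr₀R, hr₀1⟩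
    have hRtwo : ∀ r ∈ R, r = 1 ∨ r = x := by
      intro r hr
      by_contra hcon
      push Not at hcon
      have hsub : (({1, x, r} : Finset P) : Set P) ⊆ (R : Set P) := by
        intro w hw
        simp only [Finset.coe_insert, Finset.coe_singleton, Set.mem_insert_iff,
          Set.mem_singleton_iff] at hw
        rcases hw with rfl | rfl | rfl
        · exact one_mem R
        · exact hxR
        · exact hr
      have h5 := Set.ncard_le_ncard hsub (Set.toFinite _)
      rw [Set.ncard_coe_finset, ← Nat.card_coe_set_eq (R : Set P)] at h5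
      have h6 : ({1, x, r} : Finset P).card = 3 := by
        rw [Finset.card_eq_three]
        exact ⟨1, x, r, hx1.symm, hcon.1.symm, hcon.2.symm, rfl⟩
      have h7 : Nat.card ↥(R : Set P) = Nat.card R := rfl
      omega
    have hxsq : x * x = 1 := by
      rcases hRtwo (x * x) (mul_mem hxR hxR) with h | h
      · exact h
      · exfalso
        apply hx1
        have : x * x = x * 1 := by rw [h, mul_one]
        exact mul_left_cancel this
    have horder : orderOf x = 2 := orderOf_eq_prime (by rw [pow_two]; exact hxsq) hx1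
    have hxα : x • α = α := (memR x).1 hxR
    have hxβ : x • β = β := (hRβ x).2 hxα
    have htx : t * x = x * t := by
      have h1 := (mem_normalizer_iff.1 htN x).1 hxR
      rcases hRtwo _ h1 with h | h
      · exfalso
        apply hx1
        have : t * x * t⁻¹ = 1 := h
        have h2 : t * x = t := by
          calc t * x = (t * x * t⁻¹) * t := by group
            _ = t := by rw [this, one_mul]
        exact mul_eq_left.1 h2
      · calc t * x = (t * x * t⁻¹) * t := by group
          _ = x * t := by rw [h]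
    have ht1 : t ≠ 1 := fun h => hβ (by rw [hβdef, h, one_smul])
    have hxt : x ≠ t := fun h => hβ (by rw [hβdef, ← h]; exact hxα)
    have htx1 : t * x ≠ 1 := by
      intro h
      apply hβ
      have h1 : (t * x) • α = α := by rw [h, one_smul]
      rw [mul_smul, hxα] at h1
      exact h1
    have hcentr : ∀ c, c ∈ centralizer ({x} : Set P) ↔ c = 1 ∨ c = x ∨ c = t ∨ c = t * x := by
      intro c
      rw [Subgroup.mem_centralizer_singleton_iff]
      constructor
      · intro hc
        have hxc : x • c • α = c • α := by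
          rw [← mul_smul, ← hc, mul_smul, hxα]
        have hcα : c • α = α ∨ c • α = β := by
          by_contra hcon
          push Not at hcon
          exact hx1 (h3 x α β (c • α) hxα hxβ hxc hβ.symm (Ne.symm hcon.1) (Ne.symm hcon.2))
        rcases hcα with h | h
        · rcases hRtwo c ((memR c).2 h) with h' | h'
          · exact Or.inl h'
          · exact Or.inr (Or.inl h')
        · have h1 : t⁻¹ * c ∈ R := by
            rw [memR, mul_smul, h, hβdef, inv_smul_smul]
          rcases hRtwo _ h1 with h' | h'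
          · right; right; left
            exact (inv_mul_eq_one.1 h').symm
          · right; right; right
            rw [← h']
            group
      · rintro (rfl | rfl | rfl | rfl)
        · simp
        · rfl
        · exact htx
        · calc t * x * x = x * t * x := by rw [htx]
            _ = x * (t * x) := mul_assoc _ _ _
    have hCcard : Nat.card (centralizer ({x} : Set P)) = 4 :=
      card_four_of_eq hx1 ht1 hxt htx1 hcentr
    have h4 : Nat.card P ≠ 4 := by
      intro h4
      have htop : centralizer ({x} : Set P) = ⊤ := by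
        apply Subgroup.eq_top_of_card_eq
        rw [hCcard, h4]
      have hg : g ∈ centralizer ({x} : Set P) := by rw [htop]; trivial
      rcases (hcentr g).1 hg with h | h | h | h
      · exact hgE (by rw [h]; exact one_mem _)
      · exact hgE (by rw [h]; exact hRE hxR)
      · exact hgE (by rw [h]; exact htN)
      · exact hgE (by rw [h]; exact mul_mem htN (hRE hxR))
    exact ⟨conc_of_centralizer hP x horder hCcard h4, Or.inl hcard2⟩

end TwoGroup

section Core

variable {G Ω : Type*} [Group G] [Finite G] [MulAction G Ω]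

theorem mem_conj_smul {A : Type*} [Group A] {H : Subgroup A} {a z : A} :
    z ∈ MulAut.conj a • H ↔ a⁻¹ * z * a ∈ H := by
  rw [Subgroup.mem_pointwise_smul_iff_inv_smul_mem, MulAut.smul_def, MulAut.conj_inv_apply]

/-- A fixed-point-free involution in a Frobenius complement inverts every element lying in no
conjugate of the complement. -/
theorem inverts_of_frobenius {A : Type*} [Group A] [Finite A] {H : Subgroup A}
    (hH : IsFrobeniusComplement H) {x y : A} (hxH : x ∈ H) (hx1 : x ≠ 1) (hx2 : x ^ 2 = 1)
    (hy : ∀ g : A, y ∉ MulAut.conj g • H) : x * y * x⁻¹ = y⁻¹ := by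
  obtain ⟨K, hK, hKn, -⟩ := Cfsg.Agent.Lib.FrobeniusThm.exists_kernel_subgroup hH
  have hmem : ∀ v, v ∈ K ↔ v = 1 ∨ ∀ g : A, v ∉ MulAut.conj g • H := by
    intro v
    have : v ∈ (K : Set A) ↔ v ∈ frobeniusKernel H := by rw [hK]
    exact this
  have hyK : y ∈ K := (hmem y).2 (Or.inr hy)
  refine Cfsg.Agent.Lib.OddInvert.invert_of_fpf hx2 (fun v hv => hKn.conj_mem v hv x) ?_ y hyK
  intro v hv hvc
  rcases (hmem v).1 hv with h | h
  · exact h
  · exfalso
    have hvH : v ∉ H := by
      intro h'
      apply h 1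
      simpa using h'
    have hti := hH.2.2 v hvH
    have hmem2 : x ∈ H ⊓ (MulAut.conj v • H) := by
      refine ⟨hxH, ?_⟩
      refine mem_conj_smul.2 ?_
      have e2 : v⁻¹ * x * v = x := by
        rw [mul_assoc, hvc, inv_mul_cancel_left]
      rwa [e2]
    rw [hti] at hmem2
    exact hx1 hmem2

/-- The core trivial-intersection statement. -/
theorem core (h3 : Fix3 G Ω) {A : Type*} [CommGroup A] (V : G →* A) {α : Ω}
    (hA : ∀ a : G, a • α = α → V a = 1) {t x g y : G} (hVt : V t ≠ 1) (hx1 : x ≠ 1) (hx2 : x ^ 2 = 1)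
    (hxα : x • α = α) (hxβ : x • t • α = t • α) (hVg : V g = 1) (hgα : g • α ≠ α)
    (hyα : y • α = α) (hyg : y • g • α = g • α) : y = 1 := by
  classical
  by_contra hy1
  set β := t • α with hβdef
  set ω := g • α with hωdef
  have hβα : β ≠ α := fun h => hVt (hA t h)
  have hsame : ∀ a b : G, V a = 1 → V b ≠ 1 → a • α ≠ b • α := by
    intro a b ha hb h
    apply hb
    have h1 : (a⁻¹ * b) • α = α := by
      rw [mul_smul, ← h, inv_smul_smul]
    have h2 := hA _ h1
    rw [map_mul, map_inv, ha, inv_one, one_mul] at h2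
    exact h2
  have hωβ : ω ≠ β := hsame g t hVg hVt
  -- work in the stabilizer of `α`
  let B : Subgroup G := stabilizer G α
  let x' : B := ⟨x, hxα⟩
  let y' : B := ⟨y, hyα⟩
  let H : Subgroup B := stabilizer B β
  have hx'1 : x' ≠ 1 := fun h => hx1 (congrArg Subtype.val h)
  have hx'2 : x' ^ 2 = 1 := Subtype.ext (by simpa [x'] using hx2)
  have hx'H : x' ∈ H := mem_stabilizer_iff.2 hxβ
  have hb3 : ∀ (z : G) (c : Ω), z • α = α → z • β = β → z • c = c → c ≠ α → c ≠ β → z = 1 :=
    fun z c h1 h2 h5 h6 h7 => h3 z α β c h1 h2 h5 hβα.symm h6.symm h7.symm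
  have hF : IsFrobeniusComplement H := by
    refine ⟨?_, ?_, ?_⟩
    · intro hbot
      rw [hbot] at hx'H
      exact hx'1 hx'H
    · intro htop
      have hy' : y' ∈ H := by rw [htop]; trivial
      exact hy1 (hb3 y ω hyα (mem_stabilizer_iff.1 hy') hyg hgα hωβ)
    · intro a ha
      rw [eq_bot_iff]
      rintro z ⟨hz1, hz2⟩
      replace hz2 : z ∈ MulAut.conj a • H := hz2
      rw [mem_conj_smul] at hz2
      have hz3 : ((a⁻¹ * z * a : B) : G) • β = β := mem_stabilizer_iff.1 hz2
      have hz4 : (z : G) • ((a : G) • β) = (a : G) • β := by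
        have e2 : ((a⁻¹ * z * a : B) : G) = (a : G)⁻¹ * (z : G) * (a : G) := by simp
        rw [e2, mul_smul, mul_smul, inv_smul_eq_iff] at hz3
        exact hz3
      have haβ : (a : G) • β ≠ β := fun h => ha (mem_stabilizer_iff.2 h)
      have haα : (a : G) • β ≠ α := by
        intro h
        apply hβα
        have h5 : (a : G) • α = α := a.2
        exact smul_left_cancel (a : G) (h.trans h5.symm)
      have hz5 := hb3 (z : G) _ z.2 (mem_stabilizer_iff.1 hz1) hz4 haα haβ
      exact Subgroup.mem_bot.2 (Subtype.ext hz5)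
  have hyconj : ∀ a : B, y' ∉ MulAut.conj a • H := by
    intro a ha
    rw [mem_conj_smul] at ha
    have hz3 : ((a⁻¹ * y' * a : B) : G) • β = β := mem_stabilizer_iff.1 ha
    have hz4 : y • ((a : G) • β) = (a : G) • β := by
      have e2 : ((a⁻¹ * y' * a : B) : G) = (a : G)⁻¹ * y * (a : G) := by simp [y']
      rw [e2, mul_smul, mul_smul, inv_smul_eq_iff] at hz3
      exact hz3
    have haα : (a : G) • β ≠ α := by
      intro h
      apply hβα
      have h5 : (a : G) • α = α := a.2
      exact smul_left_cancel (a : G) (h.trans h5.symm)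
    have haω : (a : G) • β ≠ ω := by
      intro h
      have h5 : ((a : G) * t) • α = g • α := by rw [mul_smul]; exact h
      refine hsame g ((a : G) * t) hVg ?_ h5.symm
      rw [map_mul, hA _ a.2, one_mul]
      exact hVt
    exact hy1 (h3 y α ω ((a : G) • β) hyα hyg hz4 hgα.symm haα.symm haω.symm)
  have hinv := inverts_of_frobenius hF hx'H hx'1 hx'2 hyconj
  have hinvG : x * y * x⁻¹ = y⁻¹ := by
    have := congrArg (Subtype.val) hinv
    simpa [x', y'] using this
  -- so `x` fixes `ω`
  have hxy : y • x • ω = x • ω := by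
    have h1 : (x * y * x⁻¹) • x • ω = x • ω := by
      rw [mul_smul, mul_smul, inv_smul_smul, hyg]
    rw [hinvG, inv_smul_eq_iff] at h1
    exact h1.symm
  have hxωα : x • ω ≠ α := by
    intro h
    exact hgα (smul_left_cancel x (h.trans hxα.symm))
  have hxω : x • ω = ω := by
    by_contra hne
    exact hy1 (h3 y α ω (x • ω) hyα hyg hxy hgα.symm (Ne.symm hxωα) (Ne.symm hne))
  exact hx1 (hb3 x ω hxα hxβ hxω hgα hωβ)

end Core

section Transfer

variable {G Ω : Type*} [Group G] [Finite G] [MulAction G Ω]

/-- Units of `ℤ` and odd powers. -/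
theorem units_pow_odd (u : ℤˣ) {m : ℕ} (hm : Odd m) : u ^ m = u := by
  rcases Int.units_eq_one_or u with h | h
  · rw [h, one_pow]
  · rw [h, hm.neg_one_pow]

theorem exists_frobenius_normal (h3 : Fix3 G Ω) (htr : IsPretransitive G Ω) (hfa : FaithfulSMul G Ω)
    (α β : Ω) (S : Sylow 2 G) (hβ : β ≠ α) (hidx : (stabilizer (S : Subgroup G) α).index = 2)
    (hne : stabilizer (S : Subgroup G) α ≠ ⊥) (ht : ∃ t : (S : Subgroup G), t • α = β)
    (hsw : ∀ p : (S : Subgroup G), (p • α = α ∧ p • β = β) ∨ (p • α = β ∧ p • β = α))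
    (hreg : ∀ ω, ω ≠ α → ω ≠ β → stabilizer (S : Subgroup G) ω = ⊥) :
    ∃ N : Subgroup G, N.Normal ∧ N.index = 2 ∧ ∃ H : Subgroup ↥N, IsFrobeniusComplement H := by
  classical
  haveI : Fact (Nat.Prime 2) := ⟨Nat.prime_two⟩
  set R := stabilizer (S : Subgroup G) α with hRdef
  have memR : ∀ p : (S : Subgroup G), p ∈ R ↔ (p : G) • α = α := fun p => mem_stabilizer_iff
  -- elements of `S` with a fixed point lie in `R`
  have hfp : ∀ (p : (S : Subgroup G)) (ω : Ω), (p : G) • ω = ω → p ∈ R := by
    intro p ω hω
    by_cases h1 : ω = α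
    · subst h1
      exact (memR p).2 hω
    · by_cases h2 : ω = β
      · subst h2
        rcases hsw p with h | h
        · exact (memR p).2 h.1
        · exfalso
          have h5 : p • ω = ω := hω
          exact h1 (h5.symm.trans h.2)
      · have h5 : p ∈ stabilizer (S : Subgroup G) ω := mem_stabilizer_iff.2 hω
        rw [hreg ω h1 h2] at h5
        rw [Subgroup.mem_bot.1 h5]
        exact one_mem _
  let ϕ : (S : Subgroup G) →* ℤˣ := Cfsg.Agent.Lib.ThompsonTransfer.signHom R hidx
  have hϕ : ∀ (x : (S : Subgroup G)) (g : G) (hg : g⁻¹ * (x : G) * g ∈ (S : Subgroup G)),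
      ϕ ⟨g⁻¹ * (x : G) * g, hg⟩ = ϕ x := by
    intro x g hg
    by_cases hx : x ∈ R
    · have h1 : (⟨g⁻¹ * (x : G) * g, hg⟩ : (S : Subgroup G)) ∈ R := by
        apply hfp _ (g⁻¹ • α)
        have h5 : (x : G) • α = α := (memR x).1 hx
        show (g⁻¹ * (x : G) * g) • g⁻¹ • α = g⁻¹ • α
        rw [mul_smul, mul_smul, smul_inv_smul, h5]
      rw [Cfsg.Agent.Lib.ThompsonTransfer.signHom_of_mem R hidx h1,
        Cfsg.Agent.Lib.ThompsonTransfer.signHom_of_mem R hidx hx]
    · have h1 : (⟨g⁻¹ * (x : G) * g, hg⟩ : (S : Subgroup G)) ∉ R := by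
        intro h
        apply hx
        apply hfp x (g • α)
        have h5 : (g⁻¹ * (x : G) * g) • α = α := (memR _).1 h
        rw [mul_smul, mul_smul, inv_smul_eq_iff] at h5
        exact h5
      rw [Cfsg.Agent.Lib.ThompsonTransfer.signHom_of_not_mem R hidx h1,
        Cfsg.Agent.Lib.ThompsonTransfer.signHom_of_not_mem R hidx hx]
  let V : G →* ℤˣ := ϕ.transfer
  have hodd : Odd (S : Subgroup G).index := by
    rw [← Nat.not_even_iff_odd, even_iff_two_dvd]
    exact S.not_dvd_index
  have hVS : ∀ p : (S : Subgroup G), V (p : G) = ϕ p := by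
    intro p
    have h1 := Cfsg.Agent.Lib.TransferEval.transfer_eq_pow_of_fusion ϕ hϕ p
    rw [units_pow_odd _ hodd] at h1
    exact h1
  -- `V` is trivial on stabilizers
  have hA : ∀ a : G, a • α = α → V a = 1 := by
    intro a ha
    have hord : orderOf a ≠ 0 := (orderOf_pos a).ne'
    obtain ⟨k, m, hm, hkm⟩ := Nat.exists_eq_two_pow_mul_odd hord
    set b := a ^ m with hb
    have hbk : b ^ (2 ^ k) = 1 := by
      rw [hb, ← pow_mul, mul_comm, ← hkm, pow_orderOf_eq_one]
    have hbα : b • α = α := by
      have : ∀ n : ℕ, a ^ n • α = α := by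
        intro n
        induction n with
        | zero => simp
        | succ n ih => rw [pow_succ, mul_smul, ha, ih]
      exact this m
    have hpg : IsPGroup 2 (zpowers b) := by
      rintro ⟨y, n, rfl⟩
      refine ⟨k, Subtype.ext ?_⟩
      simp only [Subgroup.coe_pow, Subgroup.coe_one]
      show (b ^ n) ^ 2 ^ k = 1
      rw [← zpow_natCast, ← zpow_mul, mul_comm, zpow_mul, zpow_natCast, hbk, one_zpow]
    obtain ⟨Q, hQ⟩ := hpg.exists_le_sylow
    obtain ⟨c, hc⟩ := MulAction.exists_smul_eq G Q S
    have hbQ : b ∈ (Q : Subgroup G) := hQ (mem_zpowers b)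
    have hcb : c * b * c⁻¹ ∈ (S : Subgroup G) := by
      rw [← hc]
      rw [Sylow.coe_subgroup_smul]
      refine mem_conj_smul.2 ?_
      have e : c⁻¹ * (c * b * c⁻¹) * c = b := by group
      rw [e]
      exact hbQ
    have h5 : (⟨c * b * c⁻¹, hcb⟩ : (S : Subgroup G)) ∈ R := by
      apply hfp _ (c • α)
      show (c * b * c⁻¹) • c • α = c • α
      rw [mul_smul, mul_smul, inv_smul_smul, hbα]
    have h6 := hVS ⟨c * b * c⁻¹, hcb⟩
    rw [Cfsg.Agent.Lib.ThompsonTransfer.signHom_of_mem R hidx h5] at h6
    have h7 : V (c * b * c⁻¹) = V b := by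
      rw [map_mul, map_mul, map_inv, mul_comm (V c), mul_inv_cancel_right]
    have h8 : V b = 1 := by rw [← h7]; exact h6
    rw [hb, map_pow, units_pow_odd _ hm] at h8
    exact h8
  obtain ⟨t, htβ⟩ := ht
  have htR : t ∉ R := by
    intro h
    exact hβ (htβ.symm.trans ((memR t).1 h))
  have hVt : V (t : G) = -1 := by
    rw [hVS t]
    exact Cfsg.Agent.Lib.ThompsonTransfer.signHom_of_not_mem R hidx htR
  have hVt1 : V (t : G) ≠ 1 := by rw [hVt]; decide
  -- the involution in `R`
  have hRp : IsPGroup 2 ↥R := (IsPGroup.to_subgroup S.isPGroup' R)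
  haveI hRnt : Nontrivial ↥R := (Subgroup.nontrivial_iff_ne_bot R).2 hne
  have h2R : 2 ∣ Nat.card ↥R := by
    rcases hRp.card_eq_or_dvd with h | h
    · have := Finite.one_lt_card (α := ↥R)
      omega
    · exact h
  obtain ⟨x₀, hx₀⟩ := exists_prime_orderOf_dvd_card' 2 h2R
  let x : G := ((x₀ : (S : Subgroup G)) : G)
  have hxR : (x₀ : (S : Subgroup G)) ∈ R := x₀.2
  have hxo : orderOf x = 2 := by
    have h1 : orderOf (x₀ : (S : Subgroup G)) = 2 := by rw [Subgroup.orderOf_coe]; exact hx₀
    show orderOf (((x₀ : (S : Subgroup G))) : G) = 2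
    rw [Subgroup.orderOf_coe]; exact h1
  have hx1 : x ≠ 1 := by
    intro h
    rw [h, orderOf_one] at hxo
    omega
  have hx2 : x ^ 2 = 1 := by
    rw [← hxo]; exact pow_orderOf_eq_one x
  have hxα : x • α = α := (memR _).1 hxR
  have hxβ : x • (t : G) • α = (t : G) • α := by
    have h1 : (t : G) • α = β := htβ
    rw [h1]
    rcases hsw (x₀ : (S : Subgroup G)) with h | h
    · exact h.2
    · exfalso
      have h5 : (x₀ : (S : Subgroup G)) • α = α := hxα
      exact hβ (h.1.symm.trans h5)
  let N : Subgroup G := V.ker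
  have hN : N.Normal := MonoidHom.normal_ker V
  have hStabN : stabilizer G α ≤ N := fun a ha => (MonoidHom.mem_ker).2 (hA a ha)
  refine ⟨N, hN, ?_, (stabilizer G α).subgroupOf N, ?_, ?_, ?_⟩
  · -- index two
    rw [Subgroup.index_ker]
    have hsurj : Function.Surjective V := by
      intro u
      rcases Int.units_eq_one_or u with h | h
      · exact ⟨1, by rw [h, map_one]⟩
      · exact ⟨(t : G), by rw [h, hVt]⟩
    rw [MonoidHom.range_eq_top.2 hsurj, Subgroup.card_top]
    simp [Nat.card_eq_fintype_card]
  · -- nontrivial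
    intro hbot
    have h1 : (⟨x, hStabN hxα⟩ : N) ∈ (stabilizer G α).subgroupOf N := by
      rw [Subgroup.mem_subgroupOf]
      exact hxα
    rw [hbot] at h1
    exact hx1 (congrArg Subtype.val (Subgroup.mem_bot.1 h1))
  · -- proper
    intro htop
    have hall : ∀ n ∈ N, n • α = α := by
      intro n hn
      have h1 : (⟨n, hn⟩ : N) ∈ (stabilizer G α).subgroupOf N := by rw [htop]; trivial
      rw [Subgroup.mem_subgroupOf] at h1
      exact h1
    have hxall : ∀ ω : Ω, x • ω = ω := by
      intro ω
      obtain ⟨g, rfl⟩ := htr.exists_smul_eq α ω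
      have h1 : g⁻¹ * x * g ∈ N := by
        have := hN.conj_mem x (hStabN hxα) g⁻¹
        simpa using this
      have h2 := hall _ h1
      rw [mul_smul, mul_smul, inv_smul_eq_iff] at h2
      exact h2
    exact hx1 (hfa.eq_of_smul_eq_smul (fun ω => by rw [hxall, one_smul]))
  · -- trivial intersection
    intro g hg
    rw [eq_bot_iff]
    rintro y ⟨hy1, hy2⟩
    replace hy2 : y ∈ MulAut.conj g • ((stabilizer G α).subgroupOf N) := hy2
    rw [mem_conj_smul, Subgroup.mem_subgroupOf] at hy2
    replace hy1 : y ∈ (stabilizer G α).subgroupOf N := hy1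
    rw [Subgroup.mem_subgroupOf] at hy1
    have hyα : (y : G) • α = α := hy1
    have hg' : (g : G) • α ≠ α := fun h => hg (by rw [Subgroup.mem_subgroupOf]; exact h)
    have hyg : (y : G) • (g : G) • α = (g : G) • α := by
      have h1 : ((g⁻¹ * y * g : N) : G) • α = α := hy2
      have e : ((g⁻¹ * y * g : N) : G) = (g : G)⁻¹ * (y : G) * (g : G) := by simp
      rw [e, mul_smul, mul_smul, inv_smul_eq_iff] at h1
      exact h1
    have := core h3 V hA hVt1 hx1 hx2 hxα hxβ (MonoidHom.mem_ker.1 g.2) hg' hyα hyg
    exact Subgroup.mem_bot.2 (Subtype.ext this)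

end Transfer

/-- The statement. -/
theorem result {G : Type*} [Group G] [Finite G] {Ω : Type*} [Fintype Ω] [MulAction G Ω]
    [FaithfulSMul G Ω] (htr : MulAction.IsPretransitive G Ω)
    (hfix : ∀ g : G, g ≠ 1 → Nat.card (MulAction.fixedBy Ω g) ≤ 2)
    (hex : ∃ g : G, g ≠ 1 ∧ Nat.card (MulAction.fixedBy Ω g) = 2) (α : Ω) (S : Sylow 2 G) :
    (S : Subgroup G) ⊓ MulAction.stabilizer G α = ⊥ ∨
    (((∃ n : ℕ, Nonempty (↥(S : Subgroup G) ≃* DihedralGroup n)) ∨ Cfsg.IsQuasiDihedral ↥(S : Subgroup G)) ∧
       (Nat.card ↥((S : Subgroup G) ⊓ MulAction.stabilizer G α) = 2 ∨ ((S : Subgroup G) ⊓ MulAction.stabilizer G α).relIndex (S : Subgroup G) = 2)) ∨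
    (4 ≤ Nat.card (S : Subgroup G) ∧
       (∃ ω : Ω, Nat.card (MulAction.orbit ↥(S : Subgroup G) ω) = 2 ∧
          ∀ ω' : Ω, ω' ∉ MulAction.orbit ↥(S : Subgroup G) ω → Nat.card (MulAction.orbit ↥(S : Subgroup G) ω') = Nat.card (S : Subgroup G)) ∧
       ∃ N : Subgroup G, N.Normal ∧ (N.index = 2 ∨ N.index = Nat.card (S : Subgroup G)) ∧ (∃ H : Subgroup ↥N, Cfsg.IsFrobeniusComplement H)) ∨
    (S : Subgroup G) ≤ MulAction.stabilizer G α := by
  classical
  have h3G : Fix3 G Ω := fix3_of hfix
  have h3S : Fix3 (S : Subgroup G) Ω := by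
    intro g a b c ha hb hc hab hac hbc
    exact Subtype.ext (h3G (g : G) a b c ha hb hc hab hac hbc)
  by_cases h1 : (S : Subgroup G) ⊓ MulAction.stabilizer G α = ⊥
  · exact Or.inl h1
  by_cases h4 : (S : Subgroup G) ≤ MulAction.stabilizer G α
  · exact Or.inr (Or.inr (Or.inr h4))
  have hst : stabilizer (S : Subgroup G) α = ((S : Subgroup G) ⊓ stabilizer G α).subgroupOf (S : Subgroup G) := by
    ext p
    simp only [mem_stabilizer_iff, Subgroup.mem_subgroupOf, Subgroup.mem_inf]
    constructor
    · intro h
      exact ⟨p.2, h⟩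
    · intro h
      exact h.2
  have hcardR : Nat.card (stabilizer (S : Subgroup G) α) = Nat.card ↥((S : Subgroup G) ⊓ stabilizer G α) := by
    rw [hst]
    exact Nat.card_congr (Subgroup.subgroupOfEquivOfLe inf_le_left).toEquiv
  have hne : stabilizer (S : Subgroup G) α ≠ ⊥ := by
    intro h
    apply h1
    rw [eq_bot_iff]
    rintro y ⟨hy1, hy2⟩
    have : (⟨y, hy1⟩ : (S : Subgroup G)) ∈ stabilizer (S : Subgroup G) α := hy2
    rw [h] at this
    exact congrArg Subtype.val (Subgroup.mem_bot.1 this)
  have hnt : stabilizer (S : Subgroup G) α ≠ ⊤ := by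
    intro h
    apply h4
    intro y hy
    have : (⟨y, hy⟩ : (S : Subgroup G)) ∈ stabilizer (S : Subgroup G) α := by rw [h]; trivial
    exact this
  rcases dichotomy S.isPGroup' h3S α hne hnt with ⟨hc, hr⟩ | ⟨hidx, β, hβ, ht, hsw, hreg⟩
  · right; left
    refine ⟨hc, ?_⟩
    rcases hr with hr | hr
    · left
      rw [← hcardR, hr]
    · right
      rw [Subgroup.relIndex, ← hst]
      exact hr
  · right; right; left
    have hcard : Nat.card (stabilizer (S : Subgroup G) α) * 2 = Nat.card (S : Subgroup G) := by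
      have h5 := Subgroup.card_mul_index (stabilizer (S : Subgroup G) α)
      rw [hidx] at h5
      exact h5
    have hgt : 1 < Nat.card (stabilizer (S : Subgroup G) α) :=
      (Subgroup.one_lt_card_iff_ne_bot _).2 hne
    refine ⟨by omega, ⟨α, ?_, ?_⟩, ?_⟩
    · rw [Nat.card_coe_set_eq, ← index_stabilizer]
      exact hidx
    · intro ω' hω'
      obtain ⟨t, htβ⟩ := ht
      have hne1 : ω' ≠ α := by
        rintro rfl
        exact hω' (mem_orbit_self _)
      have hne2 : ω' ≠ β := by
        rintro rfl
        exact hω' ⟨t, htβ⟩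
      have h5 := hreg ω' hne1 hne2
      rw [Nat.card_coe_set_eq, ← index_stabilizer, h5, Subgroup.index_bot]
    · obtain ⟨N, hN, hNi, hH⟩ := exists_frobenius_normal h3G htr inferInstance α β S hβ hidx hne ht hsw hreg
      exact ⟨N, hN, Or.inl hNi, hH⟩


end Cfsg.Agent.S3390
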