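import Mathlib
import Cfsg.Statements.S3514

set_option autoImplicit false
open Cfsg

namespace Cfsg.Agent.S3514

section gen

variable {Γ : Type*} [Group Γ]

lemma relIndex_mul_card_inf (A B : Subgroup Γ) : A.relIndex B * Nat.card ↥(A ⊓ B) = Nat.card B := by
  have h := Subgroup.index_mul_card (A.subgroupOf B)
  have h2 : Nat.card (A.subgroupOf B) = Nat.card ↥(A ⊓ B) := by
    have h3 : (A.subgroupOf B).map B.subtype = A ⊓ B := Subgroup.subgroupOf_map_subtype A B
    rw [← h3]
    exact Eq.symm (Subgroup.card_subtype B (A.subgroupOf B))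
  rw [← h2]
  exact h

/-- `K` normal in `K ⊔ C`: the index of `K` in `K ⊔ C`. -/
lemma relIndex_sup_of_le_normalizer (K C : Subgroup Γ) (hC : C ≤ Subgroup.normalizer (K : Set Γ)) :
    K.relIndex (K ⊔ C) = K.relIndex C := by
  have hKL : K ≤ K ⊔ C := le_sup_left
  have hCL : C ≤ K ⊔ C := le_sup_right
  haveI : (K.subgroupOf (K ⊔ C)).Normal := by
    rw [Subgroup.normal_subgroupOf_iff_le_normalizer hKL]
    exact sup_le Subgroup.le_normalizer hC
  have h := Subgroup.relIndex_sup_right (C.subgroupOf (K ⊔ C)) (K.subgroupOf (K ⊔ C))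
  have htop : C.subgroupOf (K ⊔ C) ⊔ K.subgroupOf (K ⊔ C) = ⊤ := by
    rw [← Subgroup.subgroupOf_sup hCL hKL, sup_comm]
    exact Subgroup.subgroupOf_self _
  rw [htop, Subgroup.relIndex_top_right, Subgroup.relIndex_subgroupOf hCL] at h
  exact h

variable [Finite Γ]

/-- second isomorphism theorem, index form, with `C` not assumed normal. -/
lemma relIndex_sup_left_of_le_normalizer (K C : Subgroup Γ)
    (hC : C ≤ Subgroup.normalizer (K : Set Γ)) :
    C.relIndex (K ⊔ C) = C.relIndex K := by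
  have hL : 0 < Nat.card ↥(K ⊔ C) := Nat.card_pos
  have ha := relIndex_mul_card_inf C (K ⊔ C)
  rw [inf_of_le_left le_sup_right] at ha
  have hb := relIndex_mul_card_inf K (K ⊔ C)
  rw [inf_of_le_left le_sup_left, relIndex_sup_of_le_normalizer K C hC] at hb
  have hd := relIndex_mul_card_inf K C
  have he := relIndex_mul_card_inf C K
  rw [inf_comm] at he
  have hCpos : 0 < Nat.card C := Nat.card_pos
  have hpos : 0 < K.relIndex C * Nat.card ↥(K ⊓ C) := by rw [hd]; exact hCpos
  have : K.relIndex C * Nat.card ↥(K ⊓ C) * C.relIndex (K ⊔ C) =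
      K.relIndex C * Nat.card ↥(K ⊓ C) * C.relIndex K := by
    calc K.relIndex C * Nat.card ↥(K ⊓ C) * C.relIndex (K ⊔ C)
        = C.relIndex (K ⊔ C) * Nat.card C := by rw [hd]; ring
      _ = K.relIndex C * Nat.card K := by rw [ha, hb]
      _ = K.relIndex C * Nat.card ↥(K ⊓ C) * C.relIndex K := by rw [← he]; ring
  exact Nat.eq_of_mul_eq_mul_left hpos this

lemma relIndex_dvd_of_normal (C K H : Subgroup Γ) (hKH : K ≤ H)
    (hH : H ≤ Subgroup.normalizer (K : Set Γ)) : C.relIndex K ∣ C.relIndex H := by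
  set C1 := C ⊓ H with hC1
  have h1 : C1 ≤ Subgroup.normalizer (K : Set Γ) := inf_le_right.trans hH
  have h2 := relIndex_sup_left_of_le_normalizer K C1 h1
  have h3 : C1.relIndex K = C.relIndex K := by
    rw [← Subgroup.inf_relIndex_right C1 K, ← Subgroup.inf_relIndex_right C K]
    congr 1
    rw [hC1, inf_assoc, inf_of_le_right hKH]
  have h4 : C1.relIndex H = C.relIndex H := Subgroup.inf_relIndex_right C H
  have hle1 : C1 ≤ K ⊔ C1 := le_sup_right
  have hle2 : K ⊔ C1 ≤ H := sup_le hKH inf_le_right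
  have h5 := Subgroup.relIndex_mul_relIndex C1 (K ⊔ C1) H hle1 hle2
  rw [← h3, ← h4, ← h2, ← h5]
  exact Dvd.intro _ rfl

lemma not_dvd_relIndex_sup (p : ℕ) (hp : p.Prime) (C N H : Subgroup Γ)
    (hH : H ≤ Subgroup.normalizer (N : Set Γ)) (hN : ¬ p ∣ Nat.card N)
    (hC : ¬ p ∣ C.relIndex H) : ¬ p ∣ C.relIndex (N ⊔ H) := by
  set L := N ⊔ H with hL
  have h1 : H.relIndex L = H.relIndex N := relIndex_sup_left_of_le_normalizer N H hH
  have h2 : ¬ p ∣ H.relIndex L := by
    rw [h1]
    exact fun h => hN (h.trans (Subgroup.relIndex_dvd_card H N))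
  have hHL : H ≤ L := le_sup_right
  have h3 : (C ⊓ H).relIndex H = C.relIndex H := Subgroup.inf_relIndex_right C H
  have h4 : (C ⊓ H).relIndex L = C.relIndex H * H.relIndex L := by
    rw [← h3]
    exact (Subgroup.relIndex_mul_relIndex _ _ _ inf_le_right hHL).symm
  have h5 : ¬ p ∣ (C ⊓ H).relIndex L := by
    rw [h4]
    intro h
    rcases (Nat.Prime.dvd_mul hp).1 h with h | h
    · exact hC h
    · exact h2 h
  have h6 : (C ⊓ L).relIndex L = C.relIndex L := Subgroup.inf_relIndex_right C L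
  have hle : C ⊓ H ≤ C ⊓ L := inf_le_inf_left _ hHL
  have h7 := Subgroup.relIndex_mul_relIndex _ _ L hle inf_le_right
  rw [h6] at h7
  intro hdvd
  apply h5
  rw [← h7]
  exact Dvd.dvd.mul_left hdvd _

end gen

section act

variable {Γ : Type*} [Group Γ] {X : Type*} [MulAction Γ X]

lemma card_orbit_set (H : Subgroup Γ) (v : X) :
    Nat.card {u : X | ∃ h ∈ H, h • v = u} = (MulAction.stabilizer Γ v).relIndex H := by
  have h1 : {u : X | ∃ h ∈ H, h • v = u} = MulAction.orbit H v := by
    ext u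
    constructor
    · rintro ⟨h, hh, rfl⟩
      exact ⟨⟨h, hh⟩, rfl⟩
    · rintro ⟨⟨h, hh⟩, rfl⟩
      exact ⟨h, hh, rfl⟩
  rw [h1, Nat.card_coe_set_eq, ← MulAction.index_stabilizer]
  have h2 : MulAction.stabilizer H v = (MulAction.stabilizer Γ v).subgroupOf H := by
    ext ⟨h, hh⟩
    rw [Subgroup.mem_subgroupOf, MulAction.mem_stabilizer_iff, MulAction.mem_stabilizer_iff]
    rfl
  rw [h2]
  rfl

end act

/-- Let p be a prime, V a finite vector space over the field with p elements, and H a group of linear transformations of V all of whose orbits on V have size coprime to p. (i) Every normal subgroup K of H has all its orbits on V of size coprime to p. (ii) If N is a group of linear transformations of V of order coprime to p that is normalized by H, then the group generated by N and H has all its orbits on V of size coprime to p. -/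
theorem result (p : ℕ) [Fact p.Prime] {V : Type*} [AddCommGroup V] [Module (ZMod p) V] [Finite V]
    (H : Subgroup (V ≃ₗ[ZMod p] V)) (hH : ∀ v : V, ¬ p ∣ Nat.card {u : V | ∃ h ∈ H, h v = u}) :
    (∀ K : Subgroup (V ≃ₗ[ZMod p] V), K ≤ H → H ≤ Subgroup.normalizer (K : Set (V ≃ₗ[ZMod p] V)) →
        ∀ v : V, ¬ p ∣ Nat.card {u : V | ∃ k ∈ K, k v = u}) ∧
    (∀ N : Subgroup (V ≃ₗ[ZMod p] V), ¬ p ∣ Nat.card N → H ≤ Subgroup.normalizer (N : Set (V ≃ₗ[ZMod p] V)) →
        ∀ v : V, ¬ p ∣ Nat.card {u : V | ∃ x ∈ N ⊔ H, x v = u}) := by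
  haveI : Finite (V ≃ₗ[ZMod p] V) :=
    Finite.of_injective (fun f : V ≃ₗ[ZMod p] V => (f : V → V)) (fun f g h => LinearEquiv.ext (congrFun h))
  have hp : p.Prime := Fact.out
  have key : ∀ (A : Subgroup (V ≃ₗ[ZMod p] V)) (v : V),
      Nat.card {u : V | ∃ h ∈ A, h v = u} = (MulAction.stabilizer (V ≃ₗ[ZMod p] V) v).relIndex A :=
    fun A v => card_orbit_set A v
  constructor
  · intro K hKH hHK v
    rw [key]
    intro hdvd
    apply hH v
    rw [key]
    exact hdvd.trans (relIndex_dvd_of_normal _ K H hKH hHK)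
  · intro N hN hHN v
    rw [key]
    apply not_dvd_relIndex_sup p hp _ N H hHN hN
    rw [← key]
    exact hH v

end Cfsg.Agent.S3514
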