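import Mathlib
import Cfsg.Statements.S3498
import Cfsg.Agent.S3514

set_option autoImplicit false
open Cfsg

namespace Cfsg.Agent.S3498

open Cfsg.Agent.S3514
open scoped Pointwise

/-- A `p`-group acting by automorphisms on a finite group of order prime to `p` fixes a Sylow
`r`-subgroup. -/
lemma exists_invariant_sylow {A T : Type*} [Group A] [Group T] [Finite T] [MulDistribMulAction A T]
    (p r : ℕ) [Fact p.Prime] [Fact r.Prime] (hA : IsPGroup p A) (hT : ¬ p ∣ Nat.card T) :
    ∃ R : Sylow r T, ∀ a : A, a • R = R := by
  have hne : ¬ p ∣ Nat.card (Sylow r T) := by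
    intro h
    obtain ⟨P⟩ := (inferInstance : Nonempty (Sylow r T))
    exact hT (h.trans ((Sylow.card_dvd_index P).trans (Subgroup.index_dvd_card _)))
  obtain ⟨R, hR⟩ := hA.nonempty_fixed_point_of_prime_not_dvd_card (Sylow r T) hne
  exact ⟨R, fun a => hR a⟩

lemma sub_prime {G : Type*} [Group G] [Finite G] (H K : Subgroup G) (hp : (Nat.card H).Prime) (hKH : K ≤ H) :
    K = ⊥ ∨ K = H := by
  haveI : Fact (Nat.card H).Prime := ⟨hp⟩
  rcases (K.subgroupOf H).eq_bot_or_eq_top_of_prime_card with h | h
  · left
    rw [Subgroup.subgroupOf_eq_bot] at h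
    rw [eq_bot_iff]
    intro x hx
    exact h.le_bot ⟨hx, hKH hx⟩
  · right
    rw [Subgroup.subgroupOf_eq_top] at h
    exact le_antisymm hKH h

lemma comm_of_prime {G : Type*} [Group G] [Finite G] (H : Subgroup G) (hp : (Nat.card H).Prime) :
    ∀ a b : H, a * b = b * a := by
  haveI : Fact (Nat.card H).Prime := ⟨hp⟩
  haveI := isCyclic_of_prime_card (α := H) (p := Nat.card H) rfl
  intro a b
  exact IsCyclic.commGroup.mul_comm a b

/-- Case of a simple group. -/
lemma case_simple {G : Type*} [Group G] [Finite G]
    (hs : ∀ N : Subgroup G, N.Normal → N = ⊥ ∨ N = ⊤)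
    (hnc : ¬ ∀ a b : G, a * b = b * a) (H : Subgroup G) (hmax : IsCoatom H)
    (hp : (Nat.card H).Prime) : False := by
  have hH0 : H ≠ ⊥ := by
    rintro rfl
    simp at hp
    exact hp.ne_one rfl
  -- H is not normal
  have hHn : ¬ H.Normal := by
    intro h
    rcases hs H h with h | h
    · exact hH0 h
    · exact hmax.1 h
  have hN : Subgroup.normalizer (H : Set G) = H := by
    by_contra hne
    have hlt : H < Subgroup.normalizer (H : Set G) := lt_of_le_of_ne Subgroup.le_normalizer (Ne.symm hne)
    have htop := hmax.2 _ hlt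
    exact hHn (Subgroup.normalizer_eq_top_iff.1 htop)
  haveI : Fact (Nat.card H).Prime := ⟨hp⟩
  have hPG : IsPGroup (Nat.card H) H := IsPGroup.of_card (n := 1) (by simp)
  obtain ⟨P, hP⟩ := hPG.exists_le_sylow
  -- P = H
  have hPH : (P : Subgroup G) = H := by
    by_contra hne
    have hlt : H < P := lt_of_le_of_ne hP (Ne.symm hne)
    have htop : (P : Subgroup G) = ⊤ := hmax.2 _ hlt
    have hG : IsPGroup (Nat.card H) G := by
      intro g
      have := P.2 ⟨g, by rw [htop]; trivial⟩
      obtain ⟨k, hk⟩ := this
      exact ⟨k, by simpa using congrArg Subtype.val hk⟩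
    haveI : Nontrivial G := by
      by_contra hnt
      rw [not_nontrivial_iff_subsingleton] at hnt
      exact hnc (fun a b => Subsingleton.elim _ _)
    have hc := hG.center_nontrivial
    rcases hs (Subgroup.center G) inferInstance with h | h
    · exact (Subgroup.nontrivial_iff_ne_bot _).1 hc h
    · apply hnc
      intro a b
      have : a ∈ Subgroup.center G := by rw [h]; trivial
      exact (Subgroup.mem_center_iff.1 this b).symm
  have hPs : (P : Set G) = (H : Set G) := congrArg (fun K : Subgroup G => (K : Set G)) hPH
  have hc : Subgroup.normalizer (P : Set G) ≤ Subgroup.centralizer (P : Set G) := by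
    rw [hPs, hN]
    intro x hx
    rw [Subgroup.mem_centralizer_iff]
    intro y hy
    exact congrArg Subtype.val (comm_of_prime H hp ⟨y, hy⟩ ⟨x, hx⟩)
  have hcompl := MonoidHom.ker_transferSylow_isComplement' P hc
  rcases hs _ (MonoidHom.transferSylow P hc).normal_ker with h | h
  · rw [h, Subgroup.isComplement'_bot_left, hPH] at hcompl
    exact hmax.1 hcompl
  · rw [h, Subgroup.isComplement'_top_left, hPH] at hcompl
    exact hH0 hcompl

/-- A maximal subgroup of a finite almost simple group does not have prime order. Here G is almost simple in the sense that it has a non-abelian simple normal subgroup T with trivial centralizer. -/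
theorem result {G : Type*} [Group G] [Finite G] (T : Subgroup G) [T.Normal] (hT : IsSimpleGroup T) (hTc : ¬ IsMulCommutative T)
    (hC : Subgroup.centralizer (T : Set G) = ⊥) (H : Subgroup G) (hmax : IsCoatom H) : ¬ (Nat.card H).Prime := by
  classical
  intro hp
  have hTc' : ¬ ∀ a b : T, a * b = b * a := fun h => hTc ⟨⟨h⟩⟩
  by_cases hHT : H ≤ T
  · -- case `H ≤ T`: then `T = ⊤`
    have htop : T = ⊤ := by
      rcases eq_or_lt_of_le hHT with h | h
      · exfalso
        subst h
        exact hTc' (comm_of_prime _ hp)
      · exact hmax.2 T h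
    apply case_simple (G := G) ?_ ?_ H hmax hp
    · intro N hN
      haveI := hN
      have hNT : (N.subgroupOf T).Normal := Subgroup.normal_subgroupOf
      rcases hT.eq_bot_or_eq_top_of_normal _ hNT with h | h
      · left
        rw [Subgroup.subgroupOf_eq_bot] at h
        rw [eq_bot_iff]
        intro x hx
        exact h.le_bot ⟨hx, by rw [htop]; trivial⟩
      · right
        rw [Subgroup.subgroupOf_eq_top, htop] at h
        exact top_le_iff.1 h
    · intro hcomm
      exact hTc' (fun a b => Subtype.ext (hcomm _ _))
  · -- the main case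
    have hdisj : H ⊓ T = ⊥ := by
      rcases sub_prime H (H ⊓ T) hp inf_le_left with h | h
      · exact h
      · exact absurd (inf_eq_left.1 h) hHT
    have hH0 : H ≠ ⊥ := by
      rintro rfl
      simp at hp
      exact hp.ne_one rfl
    have hsup : T ⊔ H = ⊤ := by
      apply hmax.2
      apply lt_of_le_of_ne le_sup_right
      intro h
      have hTH : T ≤ H := by rw [h]; exact le_sup_left
      have : T = ⊥ := by
        rw [eq_bot_iff, ← hdisj]
        exact le_inf hTH le_rfl
      subst this
      haveI := hT.toNontrivial
      exact false_of_nontrivial_of_subsingleton (↥(⊥ : Subgroup G))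
    have hNH : Subgroup.normalizer (H : Set G) = H := by
      by_contra hne
      have hlt : H < Subgroup.normalizer (H : Set G) :=
        lt_of_le_of_ne Subgroup.le_normalizer (Ne.symm hne)
      have htop := hmax.2 _ hlt
      have hHn : H.Normal := Subgroup.normalizer_eq_top_iff.1 htop
      have hle : H ≤ Subgroup.centralizer (T : Set G) := by
        intro h hh
        rw [Subgroup.mem_centralizer_iff]
        intro t ht
        have h1 : h * t * h⁻¹ * t⁻¹ ∈ H := by
          have : t * h⁻¹ * t⁻¹ ∈ H := hHn.conj_mem _ (H.inv_mem hh) t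
          have h2 := H.mul_mem hh this
          simpa [mul_assoc] using h2
        have h2 : h * t * h⁻¹ * t⁻¹ ∈ T := by
          have : h * t * h⁻¹ ∈ T := ‹T.Normal›.conj_mem _ ht h
          exact T.mul_mem this (T.inv_mem ht)
        have h3 : h * t * h⁻¹ * t⁻¹ ∈ H ⊓ T := ⟨h1, h2⟩
        rw [hdisj, Subgroup.mem_bot] at h3
        have h4 : h * t * h⁻¹ = t := by
          have := mul_inv_eq_one.1 h3
          exact this
        rw [mul_inv_eq_iff_eq_mul] at h4
        exact h4.symm
      rw [hC] at hle
      exact hH0 (le_bot_iff.1 hle)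
    haveI : Fact (Nat.card H).Prime := ⟨hp⟩
    letI instA : MulDistribMulAction H T :=
      MulDistribMulAction.compHom T ((MulAut.conjNormal : G →* MulAut T).comp H.subtype)
    have hsmul : ∀ (h : H) (t : T), ((h • t : T) : G) = (h : G) * t * (h : G)⁻¹ := fun h t => rfl
    have hPG : IsPGroup (Nat.card H) H := IsPGroup.of_card (n := 1) (by simp)
    have hnd : ¬ (Nat.card H) ∣ Nat.card T := by
      intro hd
      have hmod := hPG.card_modEq_card_fixedPoints T
      have hfix : Nat.card (MulAction.fixedPoints H T) = 1 := by
        rw [Nat.card_eq_one_iff_unique]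
        refine ⟨⟨?_⟩, ⟨⟨1, ?_⟩⟩⟩
        · rintro ⟨a, ha⟩ ⟨b, hb⟩
          have key : ∀ t : T, t ∈ MulAction.fixedPoints H T → t = 1 := by
            intro t ht
            have h1 : (t : G) ∈ Subgroup.centralizer (H : Set G) := by
              rw [Subgroup.mem_centralizer_iff]
              intro x hx
              have h3 : ((⟨x, hx⟩ : H) • t : T) = t := ht ⟨x, hx⟩
              have h4 := congrArg Subtype.val h3
              rw [hsmul] at h4
              simp only at h4
              rw [mul_inv_eq_iff_eq_mul] at h4
              exact h4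
            have h1' : (t : G) ∈ H := by
              have := Subgroup.centralizer_le_normalizer (H : Set G) h1
              rwa [hNH] at this
            have h2 : (t : G) ∈ H ⊓ T := ⟨h1', t.2⟩
            rw [hdisj, Subgroup.mem_bot] at h2
            exact Subtype.ext h2
          exact Subtype.ext ((key a ha).trans (key b hb).symm)
        · intro h
          exact smul_one h
      rw [hfix] at hmod
      have h1 := (Nat.ModEq.dvd_iff hmod (dvd_refl _)).1 hd
      exact hp.one_lt.ne' (Nat.dvd_one.1 h1)
    haveI hTn := hT.toNontrivial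
    obtain ⟨r, hr, hrT⟩ := Nat.exists_prime_and_dvd (Finite.one_lt_card (α := T)).ne'
    haveI : Fact r.Prime := ⟨hr⟩
    obtain ⟨R, hR⟩ := exists_invariant_sylow (A := H) (T := T) (Nat.card H) r hPG hnd
    set R' : Subgroup G := (R : Subgroup T).map T.subtype with hR'
    have hRn : H ≤ Subgroup.normalizer (R' : Set G) := by
      rw [Subgroup.le_normalizer_iff]
      rintro h hh _ ⟨t, ht, rfl⟩
      have h1 : (⟨h, hh⟩ : H) • t ∈ (R : Subgroup T) := by
        have h2 : (⟨h, hh⟩ : H) • t ∈ (⟨h, hh⟩ : H) • (R : Subgroup T) :=
          Subgroup.smul_mem_pointwise_smul _ _ _ ht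
        have h3 : (⟨h, hh⟩ : H) • (R : Subgroup T) = (R : Subgroup T) := by
          rw [← Sylow.pointwise_smul_def, hR]
        rwa [h3] at h2
      exact ⟨_, h1, rfl⟩
    have hR0 : R' ≠ ⊥ := by
      have h1 := R.ne_bot_of_dvd_card hrT
      intro h2
      apply h1
      rw [hR'] at h2
      exact (Subgroup.map_eq_bot_iff_of_injective _ T.subtype_injective).1 h2
    have hR'T : R' ≤ T := by
      rintro _ ⟨t, -, rfl⟩
      exact t.2
    have hR'H : ¬ R' ≤ H := by
      intro h
      apply hR0
      rw [eq_bot_iff, ← hdisj]
      exact le_inf h hR'T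
    have hU : R' ⊔ H = ⊤ := by
      apply hmax.2
      apply lt_of_le_of_ne le_sup_right
      intro h
      apply hR'H
      rw [h]
      exact le_sup_left
    have h1 := relIndex_sup_left_of_le_normalizer R' H hRn
    have h2 := relIndex_sup_left_of_le_normalizer T H (by rw [Subgroup.normalizer_eq_top]; exact le_top)
    rw [hU] at h1
    rw [hsup] at h2
    have h3 : H.relIndex T = Nat.card T := by
      have := relIndex_mul_card_inf H T
      rw [hdisj, Subgroup.card_bot, mul_one] at this
      exact this
    have h4 : Nat.card T ∣ Nat.card R' := by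
      rw [← h3, ← h2, h1]
      exact Subgroup.relIndex_dvd_card H R'
    have hR'p : IsPGroup r R' := R.2.map T.subtype
    obtain ⟨k, hk⟩ := (IsPGroup.iff_card).1 hR'p
    have hTp : IsPGroup r T := IsPGroup.of_card_dvd_pow (n := k) (by rw [← hk]; exact h4)
    have hc := hTp.center_nontrivial
    rcases hT.eq_bot_or_eq_top_of_normal (Subgroup.center T) inferInstance with h | h
    · exact (Subgroup.nontrivial_iff_ne_bot _).1 hc h
    · apply hTc'
      intro a b
      have : a ∈ Subgroup.center T := by rw [h]; trivial
      exact (Subgroup.mem_center_iff.1 this b).symm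

end Cfsg.Agent.S3498
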