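import Mathlib
import Cfsg.Statements.S3420
import Cfsg.Agent.S3498
import Cfsg.Agent.Lib.PCore
import Cfsg.Prelude.Def_Local

set_option autoImplicit false
open Cfsg

namespace Cfsg.Agent.S3420

open Nat in
/-- A bound for the central binomial coefficient when there is at most one large prime. -/
theorem central_le (n : ℕ) (n_large : 2 < n)
    (huniq : ∀ p q : ℕ, p.Prime → q.Prime → n < p → p ≤ 2 * n → n < q → q ≤ 2 * n → p = q) :
    centralBinom n ≤ (2 * n) * ((2 * n) ^ sqrt (2 * n) * 4 ^ (2 * n / 3)) := by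
  have n_pos : 0 < n := (Nat.zero_le _).trans_lt n_large
  have n2_pos : 1 ≤ 2 * n := mul_pos (zero_lt_two' ℕ) n_pos
  let S := {p ∈ Finset.range (2 * n / 3 + 1) | Nat.Prime p}
  let f x := x ^ n.centralBinom.factorization x
  have hle : 2 * n / 3 + 1 ≤ 2 * n + 1 := by omega
  have hsplit : n.centralBinom = (∏ x ∈ Finset.range (2 * n / 3 + 1), f x) *
      ∏ x ∈ Finset.Ico (2 * n / 3 + 1) (2 * n + 1), f x := by
    rw [Finset.prod_range_mul_prod_Ico f hle]
    exact n.prod_pow_factorization_centralBinom.symm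
  have hone : ∀ x, x ∈ Finset.Ico (2 * n / 3 + 1) (2 * n + 1) → (x ≤ n ∨ ¬ x.Prime) → f x = 1 := by
    intro x hx h
    rw [Finset.mem_Ico] at hx
    have h2x : 2 * n < 3 * x := by omega
    rcases h with h | h
    · simp only [f]
      rw [factorization_centralBinom_of_two_mul_self_lt_three_mul n_large h h2x, Nat.pow_zero]
    · simp only [f]
      rw [factorization_eq_zero_of_not_prime n.centralBinom h, Nat.pow_zero]
  have hsecond : ∏ x ∈ Finset.Ico (2 * n / 3 + 1) (2 * n + 1), f x ≤ 2 * n := by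
    by_cases hex : ∃ p : ℕ, p.Prime ∧ n < p ∧ p ≤ 2 * n
    · obtain ⟨p, hp, hp1, hp2⟩ := hex
      have hmem : p ∈ Finset.Ico (2 * n / 3 + 1) (2 * n + 1) := by
        rw [Finset.mem_Ico]
        omega
      rw [Finset.prod_eq_single_of_mem p hmem]
      · exact pow_factorization_choose_le (mul_pos two_pos n_pos)
      · intro x hx hxp
        apply hone x hx
        by_contra hcon
        push Not at hcon
        rw [Finset.mem_Ico] at hx
        exact hxp (huniq x p hcon.2 hp hcon.1 (by omega) hp1 hp2)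
    · push Not at hex
      rw [Finset.prod_eq_one]
      · exact n2_pos
      · intro x hx
        apply hone x hx
        by_contra hcon
        push Not at hcon
        rw [Finset.mem_Ico] at hx
        have := hex x hcon.2 hcon.1
        omega
  have : ∏ x ∈ S, f x = ∏ x ∈ Finset.range (2 * n / 3 + 1), f x := by
    refine Finset.prod_filter_of_ne fun p _ h => ?_
    contrapose h; dsimp only [f]
    rw [factorization_eq_zero_of_not_prime n.centralBinom h, _root_.pow_zero]
  have hfirst : ∏ x ∈ Finset.range (2 * n / 3 + 1), f x ≤ (2 * n) ^ sqrt (2 * n) * 4 ^ (2 * n / 3) := by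
    rw [← this, ← Finset.prod_filter_mul_prod_filter_not S (· ≤ sqrt (2 * n))]
    apply mul_le_mul'
    · refine (Finset.prod_le_prod' fun p _ => (?_ : f p ≤ 2 * n)).trans ?_
      · exact pow_factorization_choose_le (mul_pos two_pos n_pos)
      have : (Finset.Icc 1 (sqrt (2 * n))).card = sqrt (2 * n) := by rw [card_Icc, Nat.add_sub_cancel]
      rw [Finset.prod_const]
      refine pow_right_mono₀ n2_pos ((Finset.card_le_card fun x hx => ?_).trans this.le)
      obtain ⟨h1, h2⟩ := Finset.mem_filter.1 hx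
      exact Finset.mem_Icc.mpr ⟨(Finset.mem_filter.1 h1).2.one_lt.le, h2⟩
    · refine le_trans ?_ (primorial_le_four_pow (2 * n / 3))
      refine (Finset.prod_le_prod' fun p hp => (?_ : f p ≤ p)).trans ?_
      · obtain ⟨h1, h2⟩ := Finset.mem_filter.1 hp
        refine (pow_right_mono₀ (Finset.mem_filter.1 h1).2.one_lt.le ?_).trans (pow_one p).le
        exact Nat.factorization_choose_le_one (sqrt_lt'.mp <| not_le.1 h2)
      refine Finset.prod_le_prod_of_subset_of_one_le' (Finset.filter_subset _ _) ?_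
      exact fun p hp _ => (Finset.mem_filter.1 hp).2.one_lt.le
  rw [hsplit, mul_comm]
  exact Nat.mul_le_mul hsecond hfirst

lemma six_pow (s : ℕ) (hs : 33 ≤ s) : (s + 1) ^ 6 ≤ 2 ^ (s - 2) := by
  induction s, hs using Nat.le_induction with
  | base => norm_num
  | succ k hk ih =>
    have h1 : (k + 1 + 1) ^ 6 ≤ 2 * (k + 1) ^ 6 := by
      obtain ⟨r, rfl⟩ : ∃ r, k = r + 33 := ⟨k - 33, by omega⟩
      ring_nf
      nlinarith [pow_pos (show 0 < r + 1 by omega) 2, pow_pos (show 0 < r + 1 by omega) 3,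
        pow_pos (show 0 < r + 1 by omega) 4, pow_pos (show 0 < r + 1 by omega) 5,
        pow_pos (show 0 < r + 1 by omega) 6]
    have h2 : k + 1 - 2 = (k - 2) + 1 := by omega
    rw [h2, pow_succ 2 (k - 2)]
    omega

open Nat in
/-- The numeric inequality. -/
lemma main_ineq (m : ℕ) (hm : 545 ≤ m) :
    (2 * m) ^ (sqrt (2 * m) + 2) * 4 ^ (2 * m / 3) ≤ 4 ^ m := by
  set s := sqrt (2 * m) with hs
  have h1 : s * s ≤ 2 * m := Nat.sqrt_le (2 * m)
  have h2 : 2 * m < (s + 1) * (s + 1) := Nat.lt_succ_sqrt (2 * m)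
  have hs33 : 33 ≤ s := by
    rw [hs, Nat.le_sqrt]
    omega
  set b := 2 * m / 3 with hb
  obtain ⟨a, ha⟩ : ∃ a, m = a + b := ⟨m - b, by omega⟩
  have h3a : m ≤ 3 * a := by omega
  have hX : ((2 * m) ^ (s + 2)) ^ 3 ≤ (4 ^ a) ^ 3 := by
    calc ((2 * m) ^ (s + 2)) ^ 3 ≤ (((s + 1) ^ 2) ^ (s + 2)) ^ 3 := by
          apply Nat.pow_le_pow_left
          apply Nat.pow_le_pow_left
          rw [pow_two]
          exact h2.le
      _ = ((s + 1) ^ 6) ^ (s + 2) := by
          rw [← pow_mul, ← pow_mul, ← pow_mul]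
          congr 1
          ring
      _ ≤ (2 ^ (s - 2)) ^ (s + 2) := Nat.pow_le_pow_left (six_pow s hs33) _
      _ = 2 ^ ((s - 2) * (s + 2)) := by rw [pow_mul]
      _ ≤ 2 ^ (2 * m) := by
          apply Nat.pow_le_pow_right (by norm_num)
          obtain ⟨r, hr⟩ : ∃ r, s = r + 2 := ⟨s - 2, by omega⟩
          rw [hr] at h1 ⊢
          simp only [Nat.add_sub_cancel]
          nlinarith
      _ = 4 ^ m := by rw [pow_mul]; norm_num
      _ ≤ 4 ^ (3 * a) := Nat.pow_le_pow_right (by norm_num) h3a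
      _ = (4 ^ a) ^ 3 := by rw [mul_comm, pow_mul]
  have hX2 := (Nat.pow_le_pow_iff_left (by norm_num)).mp hX
  calc (2 * m) ^ (s + 2) * 4 ^ b ≤ 4 ^ a * 4 ^ b := Nat.mul_le_mul_right _ hX2
    _ = 4 ^ m := by rw [ha, pow_add]

open Nat in
/-- Two primes between `m` and `2m` for large `m`. -/
theorem two_primes (m : ℕ) (hm : 545 ≤ m) :
    ∃ p q : ℕ, p.Prime ∧ q.Prime ∧ p ≠ q ∧ m < p ∧ p ≤ 2 * m ∧ m < q ∧ q ≤ 2 * m := by
  by_contra hcon
  have huniq : ∀ p q : ℕ, p.Prime → q.Prime → m < p → p ≤ 2 * m → m < q → q ≤ 2 * m → p = q := by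
    intro p q hp hq h1 h2 h3 h4
    by_contra hne
    exact hcon ⟨p, q, hp, hq, hne, h1, h2, h3, h4⟩
  have h1 := central_le m (by omega) huniq
  have h2 : 4 ^ m < m * m.centralBinom := Nat.four_pow_lt_mul_centralBinom m (by omega)
  have h3 := main_ineq m hm
  have h4 : m * m.centralBinom ≤ (2 * m) ^ (sqrt (2 * m) + 2) * 4 ^ (2 * m / 3) := by
    calc m * m.centralBinom ≤ (2 * m) * ((2 * m) * ((2 * m) ^ sqrt (2 * m) * 4 ^ (2 * m / 3))) :=
          Nat.mul_le_mul (by omega) h1
      _ = _ := by ring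
  omega

/-- A chain of primes. -/
def chain : List ℕ := [7, 11, 13, 19, 23, 37, 43, 73, 83, 139, 163, 277, 317, 547, 631, 1093]

lemma chain_prime : ∀ x ∈ chain, x.Prime := by
  simp only [chain, List.mem_cons, List.not_mem_nil, or_false, forall_eq_or_imp, forall_eq]
  norm_num

set_option maxRecDepth 100000 in
lemma chain_cover : ∀ n < 1100, 11 ≤ n → ∃ p ∈ chain, ∃ q ∈ chain, p ≠ q ∧ n < 2 * p ∧ p ≤ n ∧
    n < 2 * q ∧ q ≤ n := by decide +kernel

/-- Two primes between `n/2` and `n`. -/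
theorem exists_two (n : ℕ) (hn : 11 ≤ n) :
    ∃ p q : ℕ, p.Prime ∧ q.Prime ∧ p ≠ q ∧ n < 2 * p ∧ p ≤ n ∧ n < 2 * q ∧ q ≤ n := by
  by_cases h : n < 1100
  · obtain ⟨p, hp, q, hq, h1, h2, h3, h4, h5⟩ := chain_cover n h hn
    exact ⟨p, q, chain_prime p hp, chain_prime q hq, h1, h2, h3, h4, h5⟩
  · obtain ⟨p, q, hp, hq, h1, h2, h3, h4, h5⟩ := two_primes (n / 2) (by omega)
    exact ⟨p, q, hp, hq, h1, by omega, by omega, by omega, by omega⟩

/-! ### Permutations -/

lemma exists_mem_dvd (s : Multiset ℕ) (p : ℕ) (hp : p.Prime) (h : p ∣ s.lcm) : ∃ c ∈ s, p ∣ c := by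
  induction s using Multiset.induction_on with
  | empty =>
    rw [Multiset.lcm_zero] at h
    exact absurd (Nat.dvd_one.mp h) hp.one_lt.ne'
  | cons a s ih =>
    rw [Multiset.lcm_cons, lcm_eq_nat_lcm] at h
    rcases (Nat.Prime.dvd_mul hp).mp (h.trans (Nat.lcm_dvd_mul a _)) with h1 | h1
    · exact ⟨a, Multiset.mem_cons_self a s, h1⟩
    · obtain ⟨c, hc, hpc⟩ := ih h1
      exact ⟨c, Multiset.mem_cons_of_mem hc, hpc⟩

lemma no_pq (n p q : ℕ) (hp : p.Prime) (hq : q.Prime) (hne : p ≠ q) (h1 : n < 2 * p) (h2 : n < 2 * q)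
    (σ : Equiv.Perm (Fin n)) (h : orderOf σ = p * q) : False := by
  have hlcm := Equiv.Perm.lcm_cycleType σ
  rw [h] at hlcm
  have hsum : σ.cycleType.sum ≤ n := by
    rw [Equiv.Perm.sum_cycleType]
    simpa using Finset.card_le_univ σ.support
  obtain ⟨c, hc, hpc⟩ := exists_mem_dvd σ.cycleType p hp (by rw [hlcm]; exact Nat.dvd_mul_right _ _)
  obtain ⟨d, hd, hqd⟩ := exists_mem_dvd σ.cycleType q hq (by rw [hlcm]; exact Nat.dvd_mul_left _ _)
  have hc2 := Equiv.Perm.two_le_of_mem_cycleType hc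
  have hd2 := Equiv.Perm.two_le_of_mem_cycleType hd
  have hcp := Nat.le_of_dvd (by omega) hpc
  have hdq := Nat.le_of_dvd (by omega) hqd
  by_cases hcd : c = d
  · subst hcd
    have hco : p.Coprime q := (Nat.coprime_primes hp hq).mpr hne
    have h3 : p * q ∣ c := hco.mul_dvd_of_dvd_of_dvd hpc hqd
    have h4 := Nat.le_of_dvd (by omega) h3
    have h5 : c ≤ n := (Multiset.le_sum_of_mem hc).trans hsum
    have h6 : p * 2 ≤ p * q := Nat.mul_le_mul_left p hq.two_le
    omega
  · obtain ⟨t, ht⟩ := Multiset.exists_cons_of_mem hc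
    have hd' : d ∈ t := by
      rw [ht] at hd
      rcases Multiset.mem_cons.mp hd with h3 | h3
      · exact absurd h3.symm hcd
      · exact h3
    obtain ⟨t', ht'⟩ := Multiset.exists_cons_of_mem hd'
    rw [ht, ht', Multiset.sum_cons, Multiset.sum_cons] at hsum
    omega

/-- The orders available in the alternating group. -/
lemma card_facts (n p : ℕ) (hn : 11 ≤ n) (hp : p.Prime) (h1 : n < 2 * p) (h2 : p ≤ n) :
    p ∣ Nat.card (alternatingGroup (Fin n)) ∧ ¬ p ^ 2 ∣ Nat.card (alternatingGroup (Fin n)) := by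
  have h3 : 2 * Nat.card (alternatingGroup (Fin n)) = n.factorial := by
    haveI : Nontrivial (Fin n) := Fin.nontrivial_iff_two_le.mpr (by omega)
    rw [two_mul_nat_card_alternatingGroup, Nat.card_perm, Nat.card_fin]
  have hodd : p ≠ 2 := by omega
  constructor
  · have h4 : p ∣ n.factorial := (Nat.Prime.dvd_factorial hp).mpr h2
    rw [← h3] at h4
    rcases (Nat.Prime.dvd_mul hp).mp h4 with h5 | h5
    · exact absurd ((Nat.prime_dvd_prime_iff_eq hp Nat.prime_two).mp h5) hodd
    · exact h5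
  · intro h4
    have h5 : p ^ 2 ∣ n.factorial := by
      rw [← h3]
      exact h4.trans (Nat.dvd_mul_left _ _)
    have hlog : Nat.log p n < 3 := by
      apply Nat.log_lt_of_lt_pow (by omega)
      have h6 : 7 ≤ p := by
        have : 6 ≤ p := by omega
        rcases eq_or_lt_of_le this with h7 | h7
        · subst h7
          exact absurd hp (by norm_num)
        · exact h7
      have h7 : 2 * p ≤ p ^ 3 := by
        rw [pow_succ, pow_two]
        nlinarith [Nat.mul_le_mul h6 h6]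
      omega
    have h6 := (Nat.Prime.pow_dvd_factorial_iff hp hlog).mp h5
    have h7 : Finset.Ico 1 3 = {1, 2} := by decide
    rw [h7, Finset.sum_pair (by norm_num), pow_one] at h6
    have h8 : n / p = 1 := by
      apply Nat.div_eq_of_lt_le <;> omega
    have h9 : n / p ^ 2 = 0 := by
      apply Nat.div_eq_of_lt
      have h6 : 2 ≤ p := hp.two_le
      nlinarith
    omega

/-! ### The group theory -/

section Group

open scoped Pointwise

variable {G : Type*} [Group G] [Finite G]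

/-- A fixed point of an element of prime order normalising a subgroup. -/
lemma fix_comm (R : Subgroup G) (y : G) (q : ℕ) [hq : Fact q.Prime] (hy : orderOf y = q)
    (hnorm : ∀ r ∈ R, y * r * y⁻¹ ∈ R) (hmod : ¬ q ∣ Nat.card R - 1) :
    ∃ x ∈ R, x ≠ 1 ∧ Commute x y := by
  classical
  by_contra hcon
  push Not at hcon
  haveI := Fintype.ofFinite R
  let f : Function.End R := fun r => ⟨y * r * y⁻¹, hnorm r r.2⟩
  have hfk : ∀ (k : ℕ) (r : R), (((f ^ k) r : R) : G) = y ^ k * r * (y ^ k)⁻¹ := by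
    intro k
    induction k with
    | zero => intro r; simp; rfl
    | succ k ih =>
      intro r
      rw [pow_succ]
      change (((f ^ k) (f r) : R) : G) = _
      rw [ih]
      simp only [f]
      group
  have hf : f ^ q ^ 1 = 1 := by
    funext r
    apply Subtype.ext
    rw [pow_one, hfk, ← hy, pow_orderOf_eq_one]
    simp
    rfl
  have hmodeq := Equiv.Perm.card_fixedPoints_modEq hf
  have hfix : Fintype.card (Function.fixedPoints f) = 1 := by
    rw [Fintype.card_eq_one_iff]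
    refine ⟨⟨1, ?_⟩, ?_⟩
    · apply Subtype.ext
      simp [f]
    · rintro ⟨r, hr⟩
      apply Subtype.ext
      apply Subtype.ext
      by_contra hne
      apply hcon r.1 r.2 hne
      have h1 := congrArg Subtype.val hr
      simp only [f] at h1
      have h2 : y * r.1 * y⁻¹ = r.1 := h1
      rw [mul_inv_eq_iff_eq_mul] at h2
      exact h2.symm
  rw [hfix, ← Nat.card_eq_fintype_card] at hmodeq
  have h1 : 1 ≤ Nat.card R := Nat.card_pos
  exact hmod ((Nat.modEq_iff_dvd' h1).mp hmodeq.symm)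

/-- The transfer of primes. -/
lemma transfer (K : Subgroup G) [hK : K.Normal] {p q : ℕ} [hp : Fact p.Prime] [hq : Fact q.Prime]
    (hpq : ∀ g : G, orderOf g ≠ p * q) (hne : p ≠ q) (hqG : q ∣ Nat.card G)
    (hsq : ¬ p ^ 2 ∣ Nat.card G) (hmod : ¬ q ∣ p - 1) (hpK : p ∣ Nat.card K) : q ∣ Nat.card K := by
  by_contra hqK
  obtain ⟨y, hy⟩ := exists_prime_orderOf_dvd_card' q hqG
  let H : Subgroup G := Subgroup.zpowers y
  letI instA : MulDistribMulAction H K :=
    MulDistribMulAction.compHom K ((MulAut.conjNormal : G →* MulAut K).comp H.subtype)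
  have hsmul : ∀ (h : H) (t : K), ((h • t : K) : G) = (h : G) * t * (h : G)⁻¹ := fun h t => rfl
  have hcardH : Nat.card H = q := by
    rw [Nat.card_zpowers, hy]
  have hPG : IsPGroup q H := IsPGroup.of_card (n := 1) (by rw [hcardH, pow_one])
  obtain ⟨R, hR⟩ := Cfsg.Agent.S3498.exists_invariant_sylow (A := H) (T := K) q p hPG hqK
  set R' : Subgroup G := (R : Subgroup K).map K.subtype with hR'
  have hcardR : Nat.card R' = p := by
    have h1 : Nat.card R' = Nat.card R :=
      Nat.card_congr ((R : Subgroup K).equivMapOfInjective K.subtype K.subtype_injective).toEquiv.symm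
    rw [h1, Sylow.card_eq_multiplicity]
    have hv1 : 1 ≤ (Nat.card K).factorization p :=
      (hp.out.dvd_iff_one_le_factorization Nat.card_pos.ne').mp hpK
    have hv2 : (Nat.card K).factorization p ≤ 1 := by
      by_contra hge
      apply hsq
      have h2 : p ^ 2 ∣ p ^ (Nat.card K).factorization p := pow_dvd_pow p (by omega)
      exact h2.trans ((Nat.ordProj_dvd _ _).trans (Subgroup.card_subgroup_dvd_card K))
    have hv : (Nat.card K).factorization p = 1 := by omega
    rw [hv, pow_one]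
  have hnorm : ∀ r ∈ R', y * r * y⁻¹ ∈ R' := by
    rintro _ ⟨t, ht, rfl⟩
    have hyH : y ∈ H := Subgroup.mem_zpowers y
    have h1 : (⟨y, hyH⟩ : H) • t ∈ (R : Subgroup K) := by
      have h2 : (⟨y, hyH⟩ : H) • t ∈ (⟨y, hyH⟩ : H) • (R : Subgroup K) :=
        Subgroup.smul_mem_pointwise_smul _ _ _ ht
      have h3 : (⟨y, hyH⟩ : H) • (R : Subgroup K) = (R : Subgroup K) := by
        rw [← Sylow.pointwise_smul_def, hR]
      rwa [h3] at h2
    exact ⟨_, h1, rfl⟩
  obtain ⟨x, hxR, hx1, hcomm⟩ := fix_comm R' y q hy hnorm (by rwa [hcardR])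
  have hxord : orderOf x = p := by
    have h1 : orderOf x ∣ Nat.card R' := Subgroup.orderOf_dvd_natCard R' hxR
    rw [hcardR] at h1
    rcases (Nat.dvd_prime hp.out).mp h1 with h2 | h2
    · exact absurd (orderOf_eq_one_iff.mp h2) hx1
    · exact h2
  apply hpq (x * y)
  rw [hcomm.orderOf_mul_eq_mul_orderOf_of_coprime (by
    rw [hxord, hy]
    exact (Nat.coprime_primes hp.out hq.out).mpr hne), hxord, hy]

/-- Two elements of prime order in a group where that prime divides the order once are conjugate up to powers. -/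
lemma sylow_conj (H : Subgroup G) (p : ℕ) [hp : Fact p.Prime] (hsq : ¬ p ^ 2 ∣ Nat.card H)
    (x x' : G) (hxH : x ∈ H) (hx'H : x' ∈ H) (hx : orderOf x = p) (hx' : orderOf x' = p)
    (T : Subgroup G) (hTn : ∀ h ∈ H, ∀ t ∈ T, h * t * h⁻¹ ∈ T) (hxT : x ∈ T) : x' ∈ T := by
  let a : H := ⟨x, hxH⟩
  let a' : H := ⟨x', hx'H⟩
  have hoa : orderOf a = p := by rw [← hx]; exact Subgroup.orderOf_mk x hxH
  have hoa' : orderOf a' = p := by rw [← hx']; exact Subgroup.orderOf_mk x' hx'H
  have hdvd : p ∣ Nat.card H := by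
    rw [← hoa]
    exact orderOf_dvd_natCard a
  have hv1 : 1 ≤ (Nat.card H).factorization p :=
    (hp.out.dvd_iff_one_le_factorization Nat.card_pos.ne').mp hdvd
  have hv2 : (Nat.card H).factorization p ≤ 1 := by
    by_contra hge
    apply hsq
    have h2 : p ^ 2 ∣ p ^ (Nat.card H).factorization p := pow_dvd_pow p (by omega)
    exact h2.trans (Nat.ordProj_dvd _ _)
  have hv : (Nat.card H).factorization p = 1 := by omega
  let S : Sylow p H := Sylow.ofCard (Subgroup.zpowers a) (by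
    rw [Nat.card_zpowers, hoa, hv, pow_one])
  let S' : Sylow p H := Sylow.ofCard (Subgroup.zpowers a') (by
    rw [Nat.card_zpowers, hoa', hv, pow_one])
  obtain ⟨h, hh⟩ := MulAction.exists_smul_eq H S S'
  have h1 : a' ∈ (S' : Subgroup H) := Subgroup.mem_zpowers a'
  rw [← hh, Sylow.coe_subgroup_smul, Subgroup.mem_smul_pointwise_iff_exists] at h1
  obtain ⟨s, hs, hs'⟩ := h1
  have hs2 : s ∈ Subgroup.zpowers a := hs
  obtain ⟨k, rfl⟩ := Subgroup.mem_zpowers_iff.mp hs2
  rw [MulAut.smul_def, MulAut.conj_apply] at hs'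
  have h2 := congrArg Subtype.val hs'
  simp only [Subgroup.coe_mul, Subgroup.coe_inv, Subgroup.coe_zpow] at h2
  have h3 : x' = (h : G) * x ^ k * (h : G)⁻¹ := h2.symm
  rw [h3]
  exact hTn _ h.2 _ (T.zpow_mem hxT k)

omit [Finite G] in
/-- A characteristic subgroup of a normal subgroup, seen in the big group, is normal. -/
lemma map_char_normal (H : Subgroup G) [hH : H.Normal] (C : Subgroup H) [hC : C.Characteristic] :
    (C.map H.subtype).Normal := by
  refine ⟨?_⟩
  rintro _ ⟨c, hc, rfl⟩ g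
  refine ⟨MulAut.conjNormal g c, ?_, rfl⟩
  have h1 := Subgroup.characteristic_iff_comap_eq.mp hC (MulAut.conjNormal g)
  rw [← h1] at hc
  exact hc

/-- The subgroups normalised by `H` between `N` and `H`. -/
theorem sub_simple (H N : Subgroup G) [hH : H.Normal] [hN : N.Normal] (p : ℕ) [hp : Fact p.Prime]
    (hsq : ¬ p ^ 2 ∣ Nat.card H) (hpH : p ∣ Nat.card H) (hNH : N < H)
    (hmin : ∀ K : Subgroup G, K.Normal → p ∣ Nat.card K → K ≤ H → H ≤ K)
    (hmax : ∀ K : Subgroup G, K.Normal → K < H → N ≤ K → K ≤ N)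
    (hpN : ¬ p ∣ Nat.card N)
    (L : Subgroup G) (hNL : N ≤ L) (hLH : L ≤ H) (hLn : ∀ h ∈ H, ∀ x ∈ L, h * x * h⁻¹ ∈ L) :
    L = N ∨ L = H := by
  by_cases hpL : p ∣ Nat.card L
  · right
    -- a minimal `H`-invariant subgroup of order divisible by `p` below `L`
    let 𝓕 : Set (Subgroup G) :=
      {T | T ≤ L ∧ (∀ h ∈ H, ∀ x ∈ T, h * x * h⁻¹ ∈ T) ∧ p ∣ Nat.card T}
    have hne : 𝓕.Nonempty := ⟨L, le_rfl, hLn, hpL⟩
    obtain ⟨T, hT, hTmin⟩ := (Set.toFinite 𝓕).exists_minimal hne
    obtain ⟨hTL, hTn, hpT⟩ := hT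
    have hTH : T ≤ H := hTL.trans hLH
    obtain ⟨x0, hx0⟩ : ∃ x0 : T, orderOf x0 = p := exists_prime_orderOf_dvd_card' p hpT
    have hx0' : orderOf (x0 : G) = p := by rw [← hx0]; exact Subgroup.orderOf_coe x0
    have hnorm : T.Normal := by
      have key : ∀ g : G, T ≤ T.map (MulAut.conj g).toMonoidHom := by
        intro g
        set T' := T.map (MulAut.conj g).toMonoidHom with hT'
        have hTn' : ∀ h ∈ H, ∀ x ∈ T', h * x * h⁻¹ ∈ T' := by
          rintro h hh _ ⟨t, ht, rfl⟩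
          have h1 : g⁻¹ * h * g ∈ H := by
            have := hH.conj_mem h hh g⁻¹
            simpa using this
          refine ⟨(g⁻¹ * h * g) * t * (g⁻¹ * h * g)⁻¹, hTn _ h1 _ ht, ?_⟩
          simp only [MulEquiv.coe_toMonoidHom, MulAut.conj_apply]
          group
        have hmem : g * (x0 : G) * g⁻¹ ∈ T' := ⟨x0, x0.2, by simp⟩
        have hxH : g * (x0 : G) * g⁻¹ ∈ H := hH.conj_mem _ (hTH x0.2) g
        have hox : orderOf (g * (x0 : G) * g⁻¹) = p := by
          rw [← hx0', ← MulEquiv.orderOf_eq (MulAut.conj g) (x0 : G), MulAut.conj_apply]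
        have hmem2 : g * (x0 : G) * g⁻¹ ∈ T :=
          sylow_conj H p hsq x0 _ (hTH x0.2) hxH hx0' hox T hTn x0.2
        have hcand : T ⊓ T' ∈ 𝓕 := by
          refine ⟨inf_le_left.trans hTL, ?_, ?_⟩
          · intro h hh x hx
            exact ⟨hTn h hh x hx.1, hTn' h hh x hx.2⟩
          · rw [← hox]
            exact Subgroup.orderOf_dvd_natCard _ ⟨hmem2, hmem⟩
        have h2 := hTmin hcand inf_le_left
        exact h2.trans inf_le_right
      refine ⟨fun t ht g => ?_⟩
      have h1 := key g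
      have h2 : T = T.map (MulAut.conj g).toMonoidHom := by
        apply Subgroup.eq_of_le_of_card_ge h1
        have : Nat.card (T.map (MulAut.conj g).toMonoidHom) = Nat.card T :=
          Nat.card_congr (T.equivMapOfInjective _ (MulAut.conj g).injective).toEquiv.symm
        omega
      rw [h2]
      exact ⟨t, ht, rfl⟩
    have hHT := hmin T hnorm hpT hTH
    exact le_antisymm hLH (hHT.trans hTL)
  · left
    have hcop : ∀ K : Subgroup G, ¬ p ∣ Nat.card K → (Nat.card K).Coprime p := by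
      intro K hK
      exact ((Nat.Prime.coprime_iff_not_dvd hp.out).mpr hK).symm
    have hcardsub : ∀ K : Subgroup G, K ≤ H → Nat.card (K.subgroupOf H) = Nat.card K := by
      intro K hK
      exact Nat.card_congr (Subgroup.subgroupOfEquivOfLe hK).toEquiv
    set O : Subgroup H := pPrimeCore p H with hO
    have hOcop : (Nat.card O).Coprime p := Cfsg.Agent.Lib.PCore.card_pPrimeCore_coprime p
    have hLO : L.subgroupOf H ≤ O := by
      apply Cfsg.Agent.Lib.PCore.le_pPrimeCore
      · refine ⟨fun x hx h => ?_⟩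
        rw [Subgroup.mem_subgroupOf] at hx ⊢
        exact hLn _ h.2 _ hx
      · rw [hcardsub L hLH]
        exact hcop L hpL
    have hNO : N.subgroupOf H ≤ O := by
      apply Cfsg.Agent.Lib.PCore.le_pPrimeCore
      · infer_instance
      · rw [hcardsub N hNH.le]
        exact hcop N hpN
    set M : Subgroup G := O.map H.subtype with hM
    have hMn : M.Normal := map_char_normal H O
    have hcardM : Nat.card M = Nat.card O :=
      Nat.card_congr (O.equivMapOfInjective H.subtype H.subtype_injective).toEquiv.symm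
    have hMH : M ≤ H := by
      rintro _ ⟨c, -, rfl⟩
      exact c.2
    have hMlt : M < H := by
      refine lt_of_le_of_ne hMH ?_
      intro h
      have h1 : Nat.card M = Nat.card H := by rw [h]
      rw [hcardM] at h1
      rw [h1] at hOcop
      have := Nat.Coprime.eq_one_of_dvd hOcop.symm hpH
      exact hp.out.one_lt.ne' this
    have hNM : N ≤ M := by
      intro x hx
      exact ⟨⟨x, hNH.le hx⟩, hNO hx, rfl⟩
    have hMN := hmax M hMn hMlt hNM
    apply le_antisymm _ hNL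
    intro x hx
    exact hMN ⟨⟨x, hLH hx⟩, hLO hx, rfl⟩

/-- The general chief factor theorem. -/
theorem chief (P : Set ℕ) (hprime : ∀ p ∈ P, p.Prime) (hdiv : ∀ p ∈ P, p ∣ Nat.card G)
    (hsq : ∀ p ∈ P, ¬ p ^ 2 ∣ Nat.card G)
    (horder : ∀ p ∈ P, ∀ q ∈ P, p ≠ q → ∀ g : G, orderOf g ≠ p * q)
    (hmod : ∀ p ∈ P, ∀ q ∈ P, p ≠ q → ¬ q ∣ p - 1) (p0 q0 : ℕ) (hp0 : p0 ∈ P) (hq0 : q0 ∈ P)
    (hne : p0 ≠ q0) :
    ∃ (N H : Subgroup G) (_ : N.Normal), H.Normal ∧ N < H ∧
      IsSimpleGroup (↥H ⧸ N.subgroupOf H) ∧ ¬ IsMulCommutative (↥H ⧸ N.subgroupOf H) ∧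
      ∀ p ∈ P, p ∣ Nat.card (↥H ⧸ N.subgroupOf H) := by
  haveI : Fact p0.Prime := ⟨hprime p0 hp0⟩
  let 𝒩 : Set (Subgroup G) := {K | K.Normal ∧ p0 ∣ Nat.card K}
  have h𝒩 : 𝒩.Nonempty := ⟨⊤, inferInstance, by
    rw [Subgroup.card_top]
    exact hdiv p0 hp0⟩
  obtain ⟨H, ⟨hHn, hpH⟩, hHmin⟩ := (Set.toFinite 𝒩).exists_minimal h𝒩
  haveI := hHn
  have hHbot : ⊥ < H := by
    rw [bot_lt_iff_ne_bot]
    rintro rfl
    rw [Subgroup.card_bot] at hpH
    exact (hprime p0 hp0).one_lt.ne' (Nat.dvd_one.mp hpH)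
  let 𝒩' : Set (Subgroup G) := {K | K.Normal ∧ K < H}
  have h𝒩' : 𝒩'.Nonempty := ⟨⊥, inferInstance, hHbot⟩
  obtain ⟨N, ⟨hNn, hNH⟩, hNmax⟩ := (Set.toFinite 𝒩').exists_maximal h𝒩'
  haveI := hNn
  have hsqH : ¬ p0 ^ 2 ∣ Nat.card H := fun h =>
    hsq p0 hp0 (h.trans (Subgroup.card_subgroup_dvd_card H))
  have hpN : ¬ p0 ∣ Nat.card N := by
    intro h
    have := hHmin (y := N) ⟨hNn, h⟩ hNH.le
    exact absurd (lt_of_lt_of_le hNH this) (lt_irrefl _)
  have hallH : ∀ q ∈ P, q ∣ Nat.card H := by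
    intro q hq
    by_cases hq0' : q = p0
    · rw [hq0']; exact hpH
    · haveI : Fact q.Prime := ⟨hprime q hq⟩
      exact transfer H (horder p0 hp0 q hq (Ne.symm hq0')) (Ne.symm hq0') (hdiv q hq) (hsq p0 hp0)
        (hmod p0 hp0 q hq (Ne.symm hq0')) hpH
  have hallN : ∀ q ∈ P, ¬ q ∣ Nat.card N := by
    intro q hq h
    by_cases hq0' : q = p0
    · rw [hq0'] at h; exact hpN h
    · haveI : Fact q.Prime := ⟨hprime q hq⟩
      exact hpN (transfer N (horder q hq p0 hp0 hq0') hq0' (hdiv p0 hp0) (hsq q hq)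
        (hmod q hq p0 hp0 hq0') h)
  have hcardsub : Nat.card (N.subgroupOf H) = Nat.card N :=
    Nat.card_congr (Subgroup.subgroupOfEquivOfLe hNH.le).toEquiv
  have hcardQ : Nat.card H = Nat.card (↥H ⧸ N.subgroupOf H) * Nat.card N := by
    rw [← hcardsub]
    exact Subgroup.card_eq_card_quotient_mul_card_subgroup _
  have hallQ : ∀ p ∈ P, p ∣ Nat.card (↥H ⧸ N.subgroupOf H) := by
    intro p hp
    have h1 := hallH p hp
    rw [hcardQ] at h1
    rcases (Nat.Prime.dvd_mul (hprime p hp)).mp h1 with h2 | h2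
    · exact h2
    · exact absurd h2 (hallN p hp)
  have hsimple := sub_simple H N p0 hsqH hpH hNH (fun K h1 h2 h3 => hHmin ⟨h1, h2⟩ h3)
    (fun K h1 h2 h3 => hNmax ⟨h1, h2⟩ h3) hpN
  have hcard1 : 1 < Nat.card (↥H ⧸ N.subgroupOf H) := by
    have h1 := hallQ p0 hp0
    have h2 := Nat.le_of_dvd (Nat.pos_of_ne_zero (by
      intro h0
      rw [h0, zero_mul] at hcardQ
      exact Nat.card_pos.ne' hcardQ)) h1
    have := (hprime p0 hp0).one_lt
    omega
  have hsimpleQ : IsSimpleGroup (↥H ⧸ N.subgroupOf H) := by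
    haveI : Nontrivial (↥H ⧸ N.subgroupOf H) := (Finite.one_lt_card_iff_nontrivial).mp hcard1
    refine ⟨fun K hK => ?_⟩
    set L : Subgroup G := (K.comap (QuotientGroup.mk' (N.subgroupOf H))).map H.subtype with hL
    have hLH : L ≤ H := by
      rintro _ ⟨c, -, rfl⟩
      exact c.2
    have hNL : N ≤ L := by
      intro x hx
      refine ⟨⟨x, hNH.le hx⟩, ?_, rfl⟩
      change QuotientGroup.mk' (N.subgroupOf H) ⟨x, hNH.le hx⟩ ∈ K
      have : QuotientGroup.mk' (N.subgroupOf H) ⟨x, hNH.le hx⟩ = 1 :=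
        (QuotientGroup.eq_one_iff _).mpr hx
      rw [this]
      exact K.one_mem
    have hLn : ∀ h ∈ H, ∀ x ∈ L, h * x * h⁻¹ ∈ L := by
      rintro h hh _ ⟨c, hc, rfl⟩
      refine ⟨⟨h, hh⟩ * c * ⟨h, hh⟩⁻¹, ?_, rfl⟩
      change QuotientGroup.mk' (N.subgroupOf H) (⟨h, hh⟩ * c * ⟨h, hh⟩⁻¹) ∈ K
      rw [map_mul, map_mul, map_inv]
      exact hK.conj_mem _ hc _
    rcases hsimple L hNL hLH hLn with h | h
    · left
      rw [eq_bot_iff]
      intro y hy
      obtain ⟨c, rfl⟩ := QuotientGroup.mk_surjective y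
      have h1 : (c : H) ∈ K.comap (QuotientGroup.mk' (N.subgroupOf H)) := hy
      have h2 : (c : G) ∈ L := ⟨c, h1, rfl⟩
      rw [h] at h2
      exact (QuotientGroup.eq_one_iff _).mpr h2
    · right
      rw [eq_top_iff]
      intro y _
      obtain ⟨c, rfl⟩ := QuotientGroup.mk_surjective y
      have h2 : (c : G) ∈ L := by rw [h]; exact c.2
      obtain ⟨c', hc', hc''⟩ := h2
      have : c' = c := Subtype.ext hc''
      rw [← this]
      exact hc'
  refine ⟨N, H, hNn, hHn, hNH, hsimpleQ, ?_, hallQ⟩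
  intro hcomm
  have hcomm' : ∀ a b : ↥H ⧸ N.subgroupOf H, a * b = b * a := fun a b => mul_comm' a b
  obtain ⟨x, hx⟩ := exists_prime_orderOf_dvd_card' p0 (hallQ p0 hp0)
  have hnormal : (Subgroup.zpowers x).Normal := by
    refine ⟨fun y hy g => ?_⟩
    rw [hcomm' g y, mul_assoc, mul_inv_cancel, mul_one]
    exact hy
  rcases hsimpleQ.eq_bot_or_eq_top_of_normal _ hnormal with h | h
  · rw [Subgroup.zpowers_eq_bot] at h
    rw [h, orderOf_one] at hx
    exact (hprime p0 hp0).one_lt.ne hx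
  · have h1 : Nat.card (↥H ⧸ N.subgroupOf H) = p0 := by
      rw [← hx, ← Nat.card_zpowers, h, Subgroup.card_top]
    have h2 := hallQ q0 hq0
    rw [h1] at h2
    exact hne ((Nat.prime_dvd_prime_iff_eq (hprime q0 hq0) (hprime p0 hp0)).mp h2).symm

end Group

/-- Let n ≥ 11 and let G be a finite group with the same order and the same set of element orders as the alternating group of degree n. Then G has normal subgroups N < H such that H/N is a non-abelian simple group whose order is divisible by every prime p with n/2 < p ≤ n. -/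
theorem result {G : Type*} [Group G] [Finite G] (n : ℕ) (hn : 11 ≤ n)
    (hcard : Nat.card G = Nat.card ↥(alternatingGroup (Fin n)))
    (hspec : Set.range (orderOf : G → ℕ) = Set.range (orderOf : ↥(alternatingGroup (Fin n)) → ℕ)) :
    ∃ (N H : Subgroup G) (_ : N.Normal), H.Normal ∧ N < H ∧
      IsSimpleGroup (↥H ⧸ N.subgroupOf H) ∧ ¬ IsMulCommutative (↥H ⧸ N.subgroupOf H) ∧
      ∀ p : ℕ, p.Prime → n < 2 * p → p ≤ n → p ∣ Nat.card (↥H ⧸ N.subgroupOf H) := by
  let P : Set ℕ := {p | p.Prime ∧ n < 2 * p ∧ p ≤ n}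
  obtain ⟨p0, q0, hp0, hq0, hne, h1, h2, h3, h4⟩ := exists_two n hn
  obtain ⟨N, H, hN, hH, hNH, h5, h6, h7⟩ := chief (G := G) P (fun p hp => hp.1)
    (fun p hp => by
      rw [hcard]
      exact (card_facts n p hn hp.1 hp.2.1 hp.2.2).1)
    (fun p hp => by
      rw [hcard]
      exact (card_facts n p hn hp.1 hp.2.1 hp.2.2).2)
    (fun p hp q hq hpq g hg => by
      have hmem : p * q ∈ Set.range (orderOf : ↥(alternatingGroup (Fin n)) → ℕ) := by
        rw [← hspec]
        exact ⟨g, hg⟩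
      obtain ⟨σ, hσ⟩ := hmem
      refine no_pq n p q hp.1 hq.1 hpq hp.2.1 hq.2.1 σ ?_
      rw [← hσ]
      exact Subgroup.orderOf_coe σ)
    (fun p hp q hq hpq hd => by
      have hp1 := hp.1.two_le
      have hp6 : 6 ≤ p := by have := hp.2.1; omega
      have hq6 : 6 ≤ q := by have := hq.2.1; omega
      have hle := Nat.le_of_dvd (by omega) hd
      obtain ⟨k, hk⟩ := hd
      have hk1 : k = 1 := by
        have h8 : 2 * q > p - 1 := by have := hp.2.2; have := hq.2.1; omega
        rcases k with _ | _ | k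
        · simp at hk; omega
        · rfl
        · exfalso
          have : q * (k + 1 + 1) = q * k + 2 * q := by ring
          nlinarith
      subst hk1
      rw [mul_one] at hk
      have hpodd : p % 2 = 1 := by
        rcases hp.1.eq_two_or_odd with h | h
        · omega
        · exact h
      have hqodd : q % 2 = 1 := by
        rcases hq.1.eq_two_or_odd with h | h
        · omega
        · exact h
      omega)
    p0 q0 ⟨hp0, h1, h2⟩ ⟨hq0, h3, h4⟩ hne
  exact ⟨N, H, hN, hH, hNH, h5, h6, fun p hp h8 h9 => h7 p ⟨hp, h8, h9⟩⟩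

end Cfsg.Agent.S3420
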