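import Mathlib
import Cfsg.Statements.S3437
import Cfsg.Agent.Lib.FastMat
import Cfsg.Agent.Lib.Mat3Orders
import Cfsg.Agent.Lib.SLTransfer

set_option autoImplicit false
open Cfsg

namespace Cfsg.Agent.S3437

open Cfsg.Agent.Lib.FrobMat Cfsg.Agent.Lib.FastMat Cfsg.Agent.Lib.Mat3Orders

/-- The binary octahedral group in `GL₄(13)`, with the inverses of `m - 1`. -/
def LD13 : List (List ℕ × List ℕ) := [
  ([1, 0, 0, 0, 0, 1, 0, 0, 0, 0, 1, 0, 0, 0, 0, 1], [1, 0, 0, 0, 0, 1, 0, 0, 0, 0, 1, 0, 0, 0, 0, 1]),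
  ([12, 0, 0, 0, 0, 12, 0, 0, 0, 0, 12, 0, 0, 0, 0, 12], [6, 0, 0, 0, 0, 6, 0, 0, 0, 0, 6, 0, 0, 0, 0, 6]),
  ([10, 0, 10, 0, 0, 10, 0, 10, 11, 0, 2, 0, 0, 11, 0, 2], [9, 0, 1, 0, 0, 9, 0, 1, 5, 0, 3, 0, 0, 5, 0, 3]),
  ([10, 0, 11, 0, 0, 10, 0, 11, 10, 0, 2, 0, 0, 10, 0, 2], [9, 0, 5, 0, 0, 9, 0, 5, 1, 0, 3, 0, 0, 1, 0, 3]),
  ([10, 0, 2, 0, 0, 10, 0, 2, 3, 0, 2, 0, 0, 3, 0, 2], [9, 0, 8, 0, 0, 9, 0, 8, 12, 0, 3, 0, 0, 12, 0, 3]),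
  ([10, 0, 3, 0, 0, 10, 0, 3, 2, 0, 2, 0, 0, 2, 0, 2], [9, 0, 12, 0, 0, 9, 0, 12, 8, 0, 3, 0, 0, 8, 0, 3]),
  ([2, 0, 10, 0, 0, 2, 0, 10, 11, 0, 10, 0, 0, 11, 0, 10], [3, 0, 1, 0, 0, 3, 0, 1, 5, 0, 9, 0, 0, 5, 0, 9]),
  ([2, 0, 11, 0, 0, 2, 0, 11, 10, 0, 10, 0, 0, 10, 0, 10], [3, 0, 5, 0, 0, 3, 0, 5, 1, 0, 9, 0, 0, 1, 0, 9]),
  ([2, 0, 2, 0, 0, 2, 0, 2, 3, 0, 10, 0, 0, 3, 0, 10], [3, 0, 8, 0, 0, 3, 0, 8, 12, 0, 9, 0, 0, 12, 0, 9]),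
  ([2, 0, 3, 0, 0, 2, 0, 3, 2, 0, 10, 0, 0, 2, 0, 10], [3, 0, 12, 0, 0, 3, 0, 12, 8, 0, 9, 0, 0, 8, 0, 9]),
  ([0, 0, 0, 7, 0, 0, 10, 0, 0, 9, 0, 0, 11, 0, 0, 0], [6, 0, 0, 3, 0, 6, 8, 0, 0, 2, 6, 0, 1, 0, 0, 6]),
  ([0, 0, 0, 9, 0, 0, 11, 0, 0, 7, 0, 0, 10, 0, 0, 0], [6, 0, 0, 2, 0, 6, 1, 0, 0, 3, 6, 0, 8, 0, 0, 6]),
  ([0, 0, 0, 4, 0, 0, 2, 0, 0, 6, 0, 0, 3, 0, 0, 0], [6, 0, 0, 11, 0, 6, 12, 0, 0, 10, 6, 0, 5, 0, 0, 6]),
  ([0, 0, 0, 6, 0, 0, 3, 0, 0, 4, 0, 0, 2, 0, 0, 0], [6, 0, 0, 10, 0, 6, 5, 0, 0, 11, 6, 0, 12, 0, 0, 6]),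
  ([0, 0, 1, 0, 0, 0, 0, 1, 12, 0, 0, 0, 0, 12, 0, 0], [6, 0, 6, 0, 0, 6, 0, 6, 7, 0, 6, 0, 0, 7, 0, 6]),
  ([0, 0, 12, 0, 0, 0, 0, 12, 1, 0, 0, 0, 0, 1, 0, 0], [6, 0, 7, 0, 0, 6, 0, 7, 6, 0, 6, 0, 0, 6, 0, 6]),
  ([0, 0, 5, 0, 0, 0, 0, 5, 5, 0, 0, 0, 0, 5, 0, 0], [6, 0, 4, 0, 0, 6, 0, 4, 4, 0, 6, 0, 0, 4, 0, 6]),
  ([0, 0, 8, 0, 0, 0, 0, 8, 8, 0, 0, 0, 0, 8, 0, 0], [6, 0, 9, 0, 0, 6, 0, 9, 9, 0, 6, 0, 0, 9, 0, 6]),
  ([0, 8, 0, 8, 4, 0, 4, 0, 0, 8, 0, 5, 4, 0, 9, 0], [6, 9, 0, 9, 11, 6, 11, 0, 0, 9, 6, 4, 11, 0, 2, 6]),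
  ([0, 8, 0, 12, 4, 0, 6, 0, 0, 1, 0, 5, 7, 0, 9, 0], [6, 9, 0, 7, 11, 6, 10, 0, 0, 6, 6, 4, 3, 0, 2, 6]),
  ([0, 8, 0, 1, 4, 0, 7, 0, 0, 12, 0, 5, 6, 0, 9, 0], [6, 9, 0, 6, 11, 6, 3, 0, 0, 7, 6, 4, 10, 0, 2, 6]),
  ([0, 8, 0, 5, 4, 0, 9, 0, 0, 5, 0, 5, 9, 0, 9, 0], [6, 9, 0, 4, 11, 6, 2, 0, 0, 4, 6, 4, 2, 0, 2, 6]),
  ([0, 5, 0, 8, 9, 0, 4, 0, 0, 8, 0, 8, 4, 0, 4, 0], [6, 4, 0, 9, 2, 6, 11, 0, 0, 9, 6, 9, 11, 0, 11, 6]),
  ([0, 5, 0, 12, 9, 0, 6, 0, 0, 1, 0, 8, 7, 0, 4, 0], [6, 4, 0, 7, 2, 6, 10, 0, 0, 6, 6, 9, 3, 0, 11, 6]),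
  ([0, 5, 0, 1, 9, 0, 7, 0, 0, 12, 0, 8, 6, 0, 4, 0], [6, 4, 0, 6, 2, 6, 3, 0, 0, 7, 6, 9, 10, 0, 11, 6]),
  ([0, 5, 0, 5, 9, 0, 9, 0, 0, 5, 0, 8, 9, 0, 4, 0], [6, 4, 0, 4, 2, 6, 2, 0, 0, 4, 6, 9, 2, 0, 11, 6]),
  ([5, 0, 0, 0, 0, 5, 0, 0, 0, 0, 8, 0, 0, 0, 0, 8], [10, 0, 0, 0, 0, 10, 0, 0, 0, 0, 2, 0, 0, 0, 0, 2]),
  ([8, 0, 0, 0, 0, 8, 0, 0, 0, 0, 5, 0, 0, 0, 0, 5], [2, 0, 0, 0, 0, 2, 0, 0, 0, 0, 10, 0, 0, 0, 0, 10]),
  ([11, 0, 10, 0, 0, 11, 0, 10, 11, 0, 3, 0, 0, 11, 0, 3], [2, 0, 3, 0, 0, 2, 0, 3, 2, 0, 10, 0, 0, 2, 0, 10]),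
  ([11, 0, 11, 0, 0, 11, 0, 11, 10, 0, 3, 0, 0, 10, 0, 3], [2, 0, 2, 0, 0, 2, 0, 2, 3, 0, 10, 0, 0, 3, 0, 10]),
  ([11, 0, 2, 0, 0, 11, 0, 2, 3, 0, 3, 0, 0, 3, 0, 3], [2, 0, 11, 0, 0, 2, 0, 11, 10, 0, 10, 0, 0, 10, 0, 10]),
  ([11, 0, 3, 0, 0, 11, 0, 3, 2, 0, 3, 0, 0, 2, 0, 3], [2, 0, 10, 0, 0, 2, 0, 10, 11, 0, 10, 0, 0, 11, 0, 10]),
  ([3, 0, 10, 0, 0, 3, 0, 10, 11, 0, 11, 0, 0, 11, 0, 11], [10, 0, 3, 0, 0, 10, 0, 3, 2, 0, 2, 0, 0, 2, 0, 2]),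
  ([3, 0, 11, 0, 0, 3, 0, 11, 10, 0, 11, 0, 0, 10, 0, 11], [10, 0, 2, 0, 0, 10, 0, 2, 3, 0, 2, 0, 0, 3, 0, 2]),
  ([3, 0, 2, 0, 0, 3, 0, 2, 3, 0, 11, 0, 0, 3, 0, 11], [10, 0, 11, 0, 0, 10, 0, 11, 10, 0, 2, 0, 0, 10, 0, 2]),
  ([3, 0, 3, 0, 0, 3, 0, 3, 2, 0, 11, 0, 0, 2, 0, 11], [10, 0, 10, 0, 0, 10, 0, 10, 11, 0, 2, 0, 0, 11, 0, 2]),
  ([0, 7, 0, 0, 10, 0, 0, 0, 0, 0, 0, 4, 0, 0, 2, 0], [10, 5, 0, 0, 9, 10, 0, 0, 0, 0, 2, 8, 0, 0, 4, 2]),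
  ([0, 9, 0, 0, 11, 0, 0, 0, 0, 0, 0, 6, 0, 0, 3, 0], [2, 5, 0, 0, 9, 2, 0, 0, 0, 0, 10, 8, 0, 0, 4, 10]),
  ([0, 4, 0, 0, 2, 0, 0, 0, 0, 0, 0, 7, 0, 0, 10, 0], [2, 8, 0, 0, 4, 2, 0, 0, 0, 0, 10, 5, 0, 0, 9, 10]),
  ([0, 6, 0, 0, 3, 0, 0, 0, 0, 0, 0, 9, 0, 0, 11, 0], [10, 8, 0, 0, 4, 10, 0, 0, 0, 0, 2, 5, 0, 0, 9, 2]),
  ([0, 12, 0, 8, 6, 0, 4, 0, 0, 8, 0, 12, 4, 0, 6, 0], [6, 0, 4, 5, 0, 6, 9, 4, 4, 5, 6, 0, 9, 4, 0, 6]),
  ([0, 12, 0, 12, 6, 0, 6, 0, 0, 1, 0, 12, 7, 0, 6, 0], [6, 0, 6, 1, 0, 6, 7, 6, 7, 12, 6, 0, 6, 7, 0, 6]),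
  ([0, 12, 0, 1, 6, 0, 7, 0, 0, 12, 0, 12, 6, 0, 6, 0], [6, 0, 7, 12, 0, 6, 6, 7, 6, 1, 6, 0, 7, 6, 0, 6]),
  ([0, 12, 0, 5, 6, 0, 9, 0, 0, 5, 0, 12, 9, 0, 6, 0], [6, 0, 9, 8, 0, 6, 4, 9, 9, 8, 6, 0, 4, 9, 0, 6]),
  ([0, 1, 0, 8, 7, 0, 4, 0, 0, 8, 0, 1, 4, 0, 7, 0], [6, 0, 9, 5, 0, 6, 9, 9, 9, 5, 6, 0, 9, 9, 0, 6]),
  ([0, 1, 0, 12, 7, 0, 6, 0, 0, 1, 0, 1, 7, 0, 7, 0], [6, 0, 7, 1, 0, 6, 7, 7, 6, 12, 6, 0, 6, 6, 0, 6]),
  ([0, 1, 0, 1, 7, 0, 7, 0, 0, 12, 0, 1, 6, 0, 7, 0], [6, 0, 6, 12, 0, 6, 6, 6, 7, 1, 6, 0, 7, 7, 0, 6]),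
  ([0, 1, 0, 5, 7, 0, 9, 0, 0, 5, 0, 1, 9, 0, 7, 0], [6, 0, 4, 8, 0, 6, 4, 4, 4, 8, 6, 0, 4, 4, 0, 6])]

/-- The elements of the complement. -/
def L13 : List (List ℕ) := LD13.map Prod.fst

set_option maxRecDepth 100000 in
lemma L13_good : Good 13 L13 := by
  constructor <;> decide +kernel

set_option maxRecDepth 100000 in
lemma LD13_fix : ∀ p ∈ LD13, p.1 = one4 ∨ mulL 13 p.2 (subOne 13 p.1) = one4 := by decide +kernel

set_option maxRecDepth 100000 in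
lemma L13_pow : ∀ m ∈ L13, powL 13 m 6 = one4 ∨ powL 13 m 8 = one4 := by decide +kernel

set_option maxRecDepth 100000 in
lemma L13_pow24 : ∀ m ∈ L13, powL 13 m 24 = one4 := by decide +kernel

/-- The element orders of the complement. -/
lemma spec_L13 : {k | ∃ m ∈ L13, orderOf (toMat 13 m) = k} = {n | n ∣ 6 ∨ n ∣ 8} := by
  ext n
  constructor
  · rintro ⟨m, hm, rfl⟩
    rcases L13_pow m hm with h | h
    · exact Or.inl (order_dvd_of_coded _ _ _ h)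
    · exact Or.inr (order_dvd_of_coded _ _ _ h)
  · have o1 : ∃ m ∈ L13, orderOf (toMat 13 m) = 1 :=
      ⟨one4, by decide +kernel, order_of_coded _ _ _ (by norm_num) (by decide +kernel) (by
        rw [Nat.primeFactors_one]; simp)⟩
    have o2 : ∃ m ∈ L13, orderOf (toMat 13 m) = 2 := by
      refine ⟨[12, 0, 0, 0, 0, 12, 0, 0, 0, 0, 12, 0, 0, 0, 0, 12], by decide +kernel,
          order_of_coded _ _ _ (by norm_num) (by decide +kernel) ?_⟩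
      rw [Nat.prime_two.primeFactors]
      intro p hp
      rw [Finset.mem_singleton] at hp
      subst hp
      decide +kernel
    have o3 : ∃ m ∈ L13, orderOf (toMat 13 m) = 3 := by
      refine ⟨[10, 0, 10, 0, 0, 10, 0, 10, 11, 0, 2, 0, 0, 11, 0, 2], by decide +kernel,
          order_of_coded _ _ _ (by norm_num) (by decide +kernel) ?_⟩
      rw [Nat.prime_three.primeFactors]
      intro p hp
      rw [Finset.mem_singleton] at hp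
      subst hp
      decide +kernel
    have o4 : ∃ m ∈ L13, orderOf (toMat 13 m) = 4 := by
      refine ⟨[0, 0, 0, 7, 0, 0, 10, 0, 0, 9, 0, 0, 11, 0, 0, 0], by decide +kernel,
          order_of_coded _ _ _ (by norm_num) (by decide +kernel) ?_⟩
      have : Nat.primeFactors 4 = {2} := by decide +kernel
      rw [this]
      intro p hp
      rw [Finset.mem_singleton] at hp
      subst hp
      decide +kernel
    have o6 : ∃ m ∈ L13, orderOf (toMat 13 m) = 6 := by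
      refine ⟨[11, 0, 10, 0, 0, 11, 0, 10, 11, 0, 3, 0, 0, 11, 0, 3], by decide +kernel,
          order_of_coded _ _ _ (by norm_num) (by decide +kernel) ?_⟩
      have : Nat.primeFactors 6 = {2, 3} := by decide +kernel
      rw [this]
      intro p hp
      rw [Finset.mem_insert, Finset.mem_singleton] at hp
      rcases hp with rfl | rfl <;> decide +kernel
    have o8 : ∃ m ∈ L13, orderOf (toMat 13 m) = 8 := by
      refine ⟨[0, 7, 0, 0, 10, 0, 0, 0, 0, 0, 0, 4, 0, 0, 2, 0], by decide +kernel,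
          order_of_coded _ _ _ (by norm_num) (by decide +kernel) ?_⟩
      have : Nat.primeFactors 8 = {2} := by decide +kernel
      rw [this]
      intro p hp
      rw [Finset.mem_singleton] at hp
      subst hp
      decide +kernel
    rintro (h | h)
    · have hmem : n ∈ Nat.divisors 6 := Nat.mem_divisors.mpr ⟨h, by norm_num⟩
      have h3 : Nat.divisors 6 = {1, 2, 3, 6} := by decide +kernel
      rw [h3] at hmem
      simp only [Finset.mem_insert, Finset.mem_singleton] at hmem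
      rcases hmem with rfl | rfl | rfl | rfl <;> assumption
    · have hmem : n ∈ Nat.divisors 8 := Nat.mem_divisors.mpr ⟨h, by norm_num⟩
      have h3 : Nat.divisors 8 = {1, 2, 4, 8} := by decide +kernel
      rw [h3] at hmem
      simp only [Finset.mem_insert, Finset.mem_singleton] at hmem
      rcases hmem with rfl | rfl | rfl | rfl <;> assumption

/-- The solvable group. -/
theorem exists_H :
    ∃ (H : Type) (_ : Group H) (_ : Fintype H), Group.IsSolvable H ∧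
      Set.range (orderOf : H → ℕ) = {n | n = 13 ∨ n ∣ 6 ∨ n ∣ 8} := by
  obtain ⟨H, i1, i2, h1, h2⟩ := solvable_of_good 13 (by norm_num) L13 L13_good LD13
    (fun m hm => by
      obtain ⟨p, hp, rfl⟩ := List.mem_map.mp hm
      exact ⟨p, hp, rfl⟩) LD13_fix 2 3 Nat.prime_two Nat.prime_three 24 ⟨3, 1, by norm_num⟩ L13_pow24
  refine ⟨H, i1, i2, h1, ?_⟩
  rw [h2, spec_L13]
  ext n
  simp only [Set.mem_union, Set.mem_insert_iff, Set.mem_singleton_iff, Set.mem_ofPred_eq]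
  constructor
  · rintro ((rfl | rfl) | h)
    · exact Or.inr (Or.inl (one_dvd _))
    · exact Or.inl rfl
    · exact Or.inr h
  · rintro (rfl | h)
    · exact Or.inl (Or.inr rfl)
    · exact Or.inr h

abbrev Z3 := ZMod 3

/-- The center of `SL₃(3)` is trivial. -/
lemma center_trivial : Subgroup.center (Matrix.SpecialLinearGroup (Fin 3) Z3) = ⊥ := by
  rw [eq_bot_iff]
  intro g hg
  rw [Matrix.SpecialLinearGroup.mem_center_iff] at hg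
  obtain ⟨r, h1, h2⟩ := hg
  have hr : ∀ r : Z3, r ^ Fintype.card (Fin 3) = 1 → r = 1 := by decide
  have := hr r h1
  rw [Subgroup.mem_bot]
  apply Subtype.ext
  rw [← h2, this]
  simp

lemma mk_injective : Function.Injective
    (QuotientGroup.mk' (Subgroup.center (Matrix.SpecialLinearGroup (Fin 3) Z3))) := by
  rw [← MonoidHom.ker_eq_bot_iff, QuotientGroup.ker_mk', center_trivial]

lemma step_cases : ∀ t s : Z3, (step t s 1)^[6] (0, 0, 1) = (0, 0, 1) ∨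
    (step t s 1)^[8] (0, 0, 1) = (0, 0, 1) ∨ (step t s 1)^[13] (0, 0, 1) = (0, 0, 1) := by
  decide +kernel

/-- An order computation for matrices. -/
lemma order_of_mat (g : Matrix.SpecialLinearGroup (Fin 3) Z3) (k : ℕ) (hk : 0 < k)
    (h1 : g.val ^ k = 1) (h2 : ∀ p ∈ k.primeFactors, g.val ^ (k / p) ≠ 1) :
    orderOf (QuotientGroup.mk' (Subgroup.center (Matrix.SpecialLinearGroup (Fin 3) Z3)) g) = k := by
  rw [orderOf_injective _ mk_injective]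
  apply orderOf_eq_of_pow_and_pow_div_prime hk
  · apply Subtype.ext
    rw [Matrix.SpecialLinearGroup.coe_pow, h1]
    rfl
  · intro p hp hpk h
    apply h2 p (Nat.mem_primeFactors.mpr ⟨hp, hpk, hk.ne'⟩)
    have := congrArg Subtype.val h
    rwa [Matrix.SpecialLinearGroup.coe_pow] at this

/-- Elements of `SL₃(3)`. -/
def g2 : Matrix.SpecialLinearGroup (Fin 3) Z3 := ⟨!![0, 0, 1; 0, 2, 0; 1, 0, 0], by decide +kernel⟩
def g3 : Matrix.SpecialLinearGroup (Fin 3) Z3 := ⟨!![0, 0, 1; 0, 1, 0; 2, 0, 2], by decide +kernel⟩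
def g4 : Matrix.SpecialLinearGroup (Fin 3) Z3 := ⟨!![0, 0, 1; 0, 1, 0; 2, 0, 0], by decide +kernel⟩
def g6 : Matrix.SpecialLinearGroup (Fin 3) Z3 := ⟨!![0, 0, 1; 0, 1, 0; 2, 0, 1], by decide +kernel⟩
def g8 : Matrix.SpecialLinearGroup (Fin 3) Z3 := ⟨!![0, 0, 1; 0, 1, 1; 2, 1, 0], by decide +kernel⟩
def g13 : Matrix.SpecialLinearGroup (Fin 3) Z3 := ⟨!![0, 0, 1; 0, 1, 1; 2, 1, 1], by decide +kernel⟩

/-- The element orders of `PSL₃(3)`. -/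
theorem spec_PSL3 : Set.range (orderOf : Matrix.ProjectiveSpecialLinearGroup (Fin 3) Z3 → ℕ) =
    {n | n = 13 ∨ n ∣ 6 ∨ n ∣ 8} := by
  apply Set.Subset.antisymm
  · rintro _ ⟨x, rfl⟩
    obtain ⟨g, rfl⟩ := QuotientGroup.mk_surjective x
    have hpow : ∀ k, g.val ^ k = 1 → orderOf (g : Matrix.ProjectiveSpecialLinearGroup (Fin 3) Z3) ∣ k := by
      intro k hk
      apply orderOf_dvd_of_pow_eq_one
      rw [← QuotientGroup.mk_pow]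
      have : g ^ k = 1 := by
        apply Subtype.ext
        rw [Matrix.SpecialLinearGroup.coe_pow, hk]
        rfl
      rw [this]
      rfl
    have hdet : g.val.det = 1 := g.2
    rcases step_cases g.val.trace (s3 g.val) with h | h | h
    · exact Or.inr (Or.inl (hpow _ (pow_eq_one_of_step _ hdet _ h)))
    · exact Or.inr (Or.inr (hpow _ (pow_eq_one_of_step _ hdet _ h)))
    · have := hpow _ (pow_eq_one_of_step _ hdet _ h)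
      rcases (Nat.dvd_prime (by norm_num)).mp this with h2 | h2
      · right; left; rw [h2]; exact one_dvd _
      · left; exact h2
  · have o1 : (1 : ℕ) ∈ Set.range (orderOf : Matrix.ProjectiveSpecialLinearGroup (Fin 3) Z3 → ℕ) :=
      ⟨1, orderOf_one⟩
    have o2 : (2 : ℕ) ∈ Set.range (orderOf : Matrix.ProjectiveSpecialLinearGroup (Fin 3) Z3 → ℕ) := by
      refine ⟨_, order_of_mat g2 2 (by norm_num) (by decide +kernel) ?_⟩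
      rw [Nat.prime_two.primeFactors]
      intro p hp
      rw [Finset.mem_singleton] at hp
      subst hp
      decide +kernel
    have o3 : (3 : ℕ) ∈ Set.range (orderOf : Matrix.ProjectiveSpecialLinearGroup (Fin 3) Z3 → ℕ) := by
      refine ⟨_, order_of_mat g3 3 (by norm_num) (by decide +kernel) ?_⟩
      rw [Nat.prime_three.primeFactors]
      intro p hp
      rw [Finset.mem_singleton] at hp
      subst hp
      decide +kernel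
    have o4 : (4 : ℕ) ∈ Set.range (orderOf : Matrix.ProjectiveSpecialLinearGroup (Fin 3) Z3 → ℕ) := by
      refine ⟨_, order_of_mat g4 4 (by norm_num) (by decide +kernel) ?_⟩
      have : Nat.primeFactors 4 = {2} := by decide +kernel
      rw [this]
      intro p hp
      rw [Finset.mem_singleton] at hp
      subst hp
      decide +kernel
    have o6 : (6 : ℕ) ∈ Set.range (orderOf : Matrix.ProjectiveSpecialLinearGroup (Fin 3) Z3 → ℕ) := by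
      refine ⟨_, order_of_mat g6 6 (by norm_num) (by decide +kernel) ?_⟩
      have : Nat.primeFactors 6 = {2, 3} := by decide +kernel
      rw [this]
      intro p hp
      rw [Finset.mem_insert, Finset.mem_singleton] at hp
      rcases hp with rfl | rfl <;> decide +kernel
    have o8 : (8 : ℕ) ∈ Set.range (orderOf : Matrix.ProjectiveSpecialLinearGroup (Fin 3) Z3 → ℕ) := by
      refine ⟨_, order_of_mat g8 8 (by norm_num) (by decide +kernel) ?_⟩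
      have : Nat.primeFactors 8 = {2} := by decide +kernel
      rw [this]
      intro p hp
      rw [Finset.mem_singleton] at hp
      subst hp
      decide +kernel
    have o13 : (13 : ℕ) ∈ Set.range (orderOf : Matrix.ProjectiveSpecialLinearGroup (Fin 3) Z3 → ℕ) := by
      refine ⟨_, order_of_mat g13 13 (by norm_num) (by decide +kernel) ?_⟩
      have : Nat.primeFactors 13 = {13} := by decide +kernel
      rw [this]
      intro p hp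
      rw [Finset.mem_singleton] at hp
      subst hp
      decide +kernel
    rintro n (rfl | h | h)
    · exact o13
    · have hmem : n ∈ Nat.divisors 6 := Nat.mem_divisors.mpr ⟨h, by norm_num⟩
      have h3 : Nat.divisors 6 = {1, 2, 3, 6} := by decide +kernel
      rw [h3] at hmem
      simp only [Finset.mem_insert, Finset.mem_singleton] at hmem
      rcases hmem with rfl | rfl | rfl | rfl <;> assumption
    · have hmem : n ∈ Nat.divisors 8 := Nat.mem_divisors.mpr ⟨h, by norm_num⟩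
      have h3 : Nat.divisors 8 = {1, 2, 4, 8} := by decide +kernel
      rw [h3] at hmem
      simp only [Finset.mem_insert, Finset.mem_singleton] at hmem
      rcases hmem with rfl | rfl | rfl | rfl <;> assumption

/-- There is a finite solvable group with exactly the same set of element orders as the simple group PSL(3,3). -/
theorem result {F : Type*} [Field F] [Fintype F] (hF : Fintype.card F = 3) :
    ∃ (H : Type) (_ : Group H) (_ : Fintype H), Group.IsSolvable H ∧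
      Set.range (orderOf : H → ℕ) = Set.range (orderOf : Matrix.ProjectiveSpecialLinearGroup (Fin 3) F → ℕ) := by
  have e : F ≃+* ZMod 3 := FiniteField.ringEquivOfCardEq (by rw [hF, ZMod.card])
  rw [Cfsg.Agent.Lib.IsoSpec.spec_of_mulEquiv (Cfsg.Agent.Lib.SLTransfer.pslEquiv e)]
  show ∃ (H : Type) (_ : Group H) (_ : Fintype H), Group.IsSolvable H ∧
      Set.range (orderOf : H → ℕ) = Set.range (orderOf : Matrix.ProjectiveSpecialLinearGroup (Fin 3) Z3 → ℕ)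
  rw [spec_PSL3]
  exact exists_H

end Cfsg.Agent.S3437
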