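import Mathlib
import Cfsg.Statements.S3438
import Cfsg.Agent.Lib.FastMat
import Cfsg.Agent.Lib.Mat3Orders
import Cfsg.Agent.Lib.SUTransfer
import Cfsg.Agent.Lib.UnitarySU
import Cfsg.Agent.Lib.GUField
import Cfsg.Agent.Lib.IsoSpec

set_option autoImplicit false
open Cfsg

namespace Cfsg.Agent.S3438

open Cfsg.Agent.Lib.FrobMat Cfsg.Agent.Lib.FastMat Cfsg.Agent.Lib.Mat3Orders

/-- The group `3 : 8` in `GL₄(7)`, with the inverses of `m - 1`. -/
def LD7 : List (List ℕ × List ℕ) := [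
  ([1, 0, 0, 0, 0, 1, 0, 0, 0, 0, 1, 0, 0, 0, 0, 1], [1, 0, 0, 0, 0, 1, 0, 0, 0, 0, 1, 0, 0, 0, 0, 1]),
  ([6, 0, 0, 0, 0, 6, 0, 0, 0, 0, 6, 0, 0, 0, 0, 6], [3, 0, 0, 0, 0, 3, 0, 0, 0, 0, 3, 0, 0, 0, 0, 3]),
  ([2, 0, 0, 0, 0, 2, 0, 0, 0, 0, 4, 0, 0, 0, 0, 4], [1, 0, 0, 0, 0, 1, 0, 0, 0, 0, 5, 0, 0, 0, 0, 5]),
  ([4, 0, 0, 0, 0, 4, 0, 0, 0, 0, 2, 0, 0, 0, 0, 2], [5, 0, 0, 0, 0, 5, 0, 0, 0, 0, 1, 0, 0, 0, 0, 1]),
  ([0, 6, 0, 0, 1, 0, 0, 0, 0, 0, 0, 6, 0, 0, 1, 0], [3, 4, 0, 0, 3, 3, 0, 0, 0, 0, 3, 4, 0, 0, 3, 3]),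
  ([0, 1, 0, 0, 6, 0, 0, 0, 0, 0, 0, 1, 0, 0, 6, 0], [3, 3, 0, 0, 4, 3, 0, 0, 0, 0, 3, 3, 0, 0, 4, 3]),
  ([3, 0, 0, 0, 0, 3, 0, 0, 0, 0, 5, 0, 0, 0, 0, 5], [4, 0, 0, 0, 0, 4, 0, 0, 0, 0, 2, 0, 0, 0, 0, 2]),
  ([5, 0, 0, 0, 0, 5, 0, 0, 0, 0, 3, 0, 0, 0, 0, 3], [2, 0, 0, 0, 0, 2, 0, 0, 0, 0, 4, 0, 0, 0, 0, 4]),
  ([0, 0, 0, 6, 0, 0, 1, 0, 6, 0, 0, 0, 0, 6, 0, 0], [3, 3, 3, 4, 4, 3, 3, 3, 4, 4, 3, 3, 3, 4, 4, 3]),
  ([0, 0, 0, 5, 0, 0, 2, 0, 3, 0, 0, 0, 0, 3, 0, 0], [3, 3, 6, 1, 4, 3, 6, 6, 2, 2, 3, 3, 5, 2, 4, 3]),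
  ([0, 0, 0, 4, 0, 0, 3, 0, 2, 0, 0, 0, 0, 2, 0, 0], [3, 3, 2, 5, 4, 3, 2, 2, 6, 6, 3, 3, 1, 6, 4, 3]),
  ([0, 0, 0, 3, 0, 0, 4, 0, 5, 0, 0, 0, 0, 5, 0, 0], [3, 3, 5, 2, 4, 3, 5, 5, 1, 1, 3, 3, 6, 1, 4, 3]),
  ([0, 0, 0, 2, 0, 0, 5, 0, 4, 0, 0, 0, 0, 4, 0, 0], [3, 3, 1, 6, 4, 3, 1, 1, 5, 5, 3, 3, 2, 5, 4, 3]),
  ([0, 0, 0, 1, 0, 0, 6, 0, 1, 0, 0, 0, 0, 1, 0, 0], [3, 3, 4, 3, 4, 3, 4, 4, 3, 3, 3, 3, 4, 3, 4, 3]),
  ([0, 0, 1, 0, 0, 0, 0, 1, 0, 6, 0, 0, 1, 0, 0, 0], [3, 4, 3, 4, 3, 3, 3, 3, 4, 4, 3, 4, 3, 4, 3, 3]),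
  ([0, 0, 2, 0, 0, 0, 0, 2, 0, 3, 0, 0, 4, 0, 0, 0], [3, 4, 6, 1, 3, 3, 6, 6, 2, 2, 3, 4, 5, 2, 3, 3]),
  ([0, 0, 3, 0, 0, 0, 0, 3, 0, 2, 0, 0, 5, 0, 0, 0], [3, 4, 2, 5, 3, 3, 2, 2, 6, 6, 3, 4, 1, 6, 3, 3]),
  ([0, 0, 4, 0, 0, 0, 0, 4, 0, 5, 0, 0, 2, 0, 0, 0], [3, 4, 5, 2, 3, 3, 5, 5, 1, 1, 3, 4, 6, 1, 3, 3]),
  ([0, 0, 5, 0, 0, 0, 0, 5, 0, 4, 0, 0, 3, 0, 0, 0], [3, 4, 1, 6, 3, 3, 1, 1, 5, 5, 3, 4, 2, 5, 3, 3]),
  ([0, 0, 6, 0, 0, 0, 0, 6, 0, 1, 0, 0, 6, 0, 0, 0], [3, 4, 4, 3, 3, 3, 4, 4, 3, 3, 3, 4, 4, 3, 3, 3]),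
  ([0, 5, 0, 0, 2, 0, 0, 0, 0, 0, 0, 3, 0, 0, 4, 0], [4, 6, 0, 0, 1, 4, 0, 0, 0, 0, 2, 6, 0, 0, 1, 2]),
  ([0, 4, 0, 0, 3, 0, 0, 0, 0, 0, 0, 2, 0, 0, 5, 0], [2, 1, 0, 0, 6, 2, 0, 0, 0, 0, 4, 1, 0, 0, 6, 4]),
  ([0, 3, 0, 0, 4, 0, 0, 0, 0, 0, 0, 5, 0, 0, 2, 0], [2, 6, 0, 0, 1, 2, 0, 0, 0, 0, 4, 6, 0, 0, 1, 4]),
  ([0, 2, 0, 0, 5, 0, 0, 0, 0, 0, 0, 4, 0, 0, 3, 0], [4, 1, 0, 0, 6, 4, 0, 0, 0, 0, 2, 1, 0, 0, 6, 2])]

/-- The elements of the complement. -/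
def L7 : List (List ℕ) := LD7.map Prod.fst

set_option maxRecDepth 100000 in
lemma L7_good : Good 7 L7 := by
  constructor <;> decide +kernel

set_option maxRecDepth 100000 in
lemma LD7_fix : ∀ p ∈ LD7, p.1 = one4 ∨ mulL 7 p.2 (subOne 7 p.1) = one4 := by decide +kernel

set_option maxRecDepth 100000 in
lemma L7_pow : ∀ m ∈ L7, powL 7 m 8 = one4 ∨ powL 7 m 12 = one4 := by decide +kernel

set_option maxRecDepth 100000 in
lemma L7_pow24 : ∀ m ∈ L7, powL 7 m 24 = one4 := by decide +kernel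

/-- The element orders of the complement. -/
lemma spec_L7 : {k | ∃ m ∈ L7, orderOf (toMat 7 m) = k} = {n | n ∣ 8 ∨ n ∣ 12} := by
  ext n
  constructor
  · rintro ⟨m, hm, rfl⟩
    rcases L7_pow m hm with h | h
    · exact Or.inl (order_dvd_of_coded _ _ _ h)
    · exact Or.inr (order_dvd_of_coded _ _ _ h)
  · have o1 : ∃ m ∈ L7, orderOf (toMat 7 m) = 1 :=
      ⟨one4, by decide +kernel, order_of_coded _ _ _ (by norm_num) (by decide +kernel) (by
        rw [Nat.primeFactors_one]; simp)⟩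
    have o2 : ∃ m ∈ L7, orderOf (toMat 7 m) = 2 := by
      refine ⟨[6, 0, 0, 0, 0, 6, 0, 0, 0, 0, 6, 0, 0, 0, 0, 6], by decide +kernel,
          order_of_coded _ _ _ (by norm_num) (by decide +kernel) ?_⟩
      rw [Nat.prime_two.primeFactors]
      intro p hp
      rw [Finset.mem_singleton] at hp
      subst hp
      decide +kernel
    have o3 : ∃ m ∈ L7, orderOf (toMat 7 m) = 3 := by
      refine ⟨[2, 0, 0, 0, 0, 2, 0, 0, 0, 0, 4, 0, 0, 0, 0, 4], by decide +kernel,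
          order_of_coded _ _ _ (by norm_num) (by decide +kernel) ?_⟩
      rw [Nat.prime_three.primeFactors]
      intro p hp
      rw [Finset.mem_singleton] at hp
      subst hp
      decide +kernel
    have o4 : ∃ m ∈ L7, orderOf (toMat 7 m) = 4 := by
      refine ⟨[0, 6, 0, 0, 1, 0, 0, 0, 0, 0, 0, 6, 0, 0, 1, 0], by decide +kernel,
          order_of_coded _ _ _ (by norm_num) (by decide +kernel) ?_⟩
      have : Nat.primeFactors 4 = {2} := by decide +kernel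
      rw [this]
      intro p hp
      rw [Finset.mem_singleton] at hp
      subst hp
      decide +kernel
    have o6 : ∃ m ∈ L7, orderOf (toMat 7 m) = 6 := by
      refine ⟨[3, 0, 0, 0, 0, 3, 0, 0, 0, 0, 5, 0, 0, 0, 0, 5], by decide +kernel,
          order_of_coded _ _ _ (by norm_num) (by decide +kernel) ?_⟩
      have : Nat.primeFactors 6 = {2, 3} := by decide +kernel
      rw [this]
      intro p hp
      rw [Finset.mem_insert, Finset.mem_singleton] at hp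
      rcases hp with rfl | rfl <;> decide +kernel
    have o8 : ∃ m ∈ L7, orderOf (toMat 7 m) = 8 := by
      refine ⟨[0, 0, 0, 6, 0, 0, 1, 0, 6, 0, 0, 0, 0, 6, 0, 0], by decide +kernel,
          order_of_coded _ _ _ (by norm_num) (by decide +kernel) ?_⟩
      have : Nat.primeFactors 8 = {2} := by decide +kernel
      rw [this]
      intro p hp
      rw [Finset.mem_singleton] at hp
      subst hp
      decide +kernel
    have o12 : ∃ m ∈ L7, orderOf (toMat 7 m) = 12 := by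
      refine ⟨[0, 5, 0, 0, 2, 0, 0, 0, 0, 0, 0, 3, 0, 0, 4, 0], by decide +kernel,
          order_of_coded _ _ _ (by norm_num) (by decide +kernel) ?_⟩
      have : Nat.primeFactors 12 = {2, 3} := by decide +kernel
      rw [this]
      intro p hp
      rw [Finset.mem_insert, Finset.mem_singleton] at hp
      rcases hp with rfl | rfl <;> decide +kernel
    rintro (h | h)
    · have hmem : n ∈ Nat.divisors 8 := Nat.mem_divisors.mpr ⟨h, by norm_num⟩
      have h3 : Nat.divisors 8 = {1, 2, 4, 8} := by decide +kernel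
      rw [h3] at hmem
      simp only [Finset.mem_insert, Finset.mem_singleton] at hmem
      rcases hmem with rfl | rfl | rfl | rfl <;> assumption
    · have hmem : n ∈ Nat.divisors 12 := Nat.mem_divisors.mpr ⟨h, by norm_num⟩
      have h3 : Nat.divisors 12 = {1, 2, 3, 4, 6, 12} := by decide +kernel
      rw [h3] at hmem
      simp only [Finset.mem_insert, Finset.mem_singleton] at hmem
      rcases hmem with rfl | rfl | rfl | rfl | rfl | rfl <;> assumption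

/-- The solvable group. -/
theorem exists_H :
    ∃ (H : Type) (_ : Group H) (_ : Fintype H), Group.IsSolvable H ∧
      Set.range (orderOf : H → ℕ) = {n | n = 7 ∨ n ∣ 8 ∨ n ∣ 12} := by
  obtain ⟨H, i1, i2, h1, h2⟩ := solvable_of_good 7 (by norm_num) L7 L7_good LD7
    (fun m hm => by
      obtain ⟨p, hp, rfl⟩ := List.mem_map.mp hm
      exact ⟨p, hp, rfl⟩) LD7_fix 2 3 Nat.prime_two Nat.prime_three 24 ⟨3, 1, by norm_num⟩ L7_pow24
  refine ⟨H, i1, i2, h1, ?_⟩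
  rw [h2, spec_L7]
  ext n
  simp only [Set.mem_union, Set.mem_insert_iff, Set.mem_singleton_iff, Set.mem_ofPred_eq]
  constructor
  · rintro ((rfl | rfl) | h)
    · exact Or.inr (Or.inl (one_dvd _))
    · exact Or.inl rfl
    · exact Or.inr h
  · rintro (rfl | h)
    · exact Or.inl (Or.inr rfl)
    · exact Or.inr h

/-- The coefficient of `M` in Cayley–Hamilton is the conjugate of the trace. -/
lemma s3_eq {K' : Type*} [Field K'] [Fintype K'] (hK : Fintype.card K' = 3 ^ 2) (g : SU 3 K' 3) :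
    s3 g.1.1 = (g.1.1).trace ^ 3 := by
  set M : Matrix (Fin 3) (Fin 3) K' := g.1.1 with hM
  have hdet : M.det = 1 := g.1.2
  have hA : ∀ u v, hermForm 3 K' 3 (Matrix.mulVec M u) (Matrix.mulVec M v) = hermForm 3 K' 3 u v := g.2
  have h1 := Cfsg.Agent.Lib.UnitarySU.transpose_mul_map_sigma hK hA
  set S := M.map (Cfsg.Agent.Lib.UnitaryBasic.sigma hK) with hS
  have h2 : S.transpose * M = 1 := by
    have := congrArg Matrix.transpose h1
    simpa [Matrix.transpose_mul] using this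
  have h3 : M * S.transpose = 1 := mul_eq_one_comm.mp h2
  have h4 : M.adjugate = S.transpose := by
    calc M.adjugate = M.adjugate * (M * S.transpose) := by rw [h3, mul_one]
      _ = S.transpose := by
        rw [← mul_assoc, Matrix.adjugate_mul, hdet, one_smul, one_mul]
  have h5 : s3 M = M.adjugate.trace := by
    rw [Matrix.adjugate_fin_three, Matrix.trace_fin_three]
    simp [s3]
    ring
  rw [h5, h4, Matrix.trace_transpose, Matrix.trace_fin_three, Matrix.trace_fin_three]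
  simp only [hS, Matrix.map_apply]
  have h6 : ∀ x : K', Cfsg.Agent.Lib.UnitaryBasic.sigma hK x = x ^ 3 := fun x => rfl
  rw [← map_add, ← map_add, h6]

/-- Orders in `SU₃` over a field with nine elements. -/
lemma center_trivial {K' : Type*} [Field K'] [Fintype K'] (hK : Fintype.card K' = 3 ^ 2) :
    Subgroup.center (SU 3 K' 3) = ⊥ := by
  apply Subgroup.eq_bot_of_card_eq
  rw [Cfsg.Agent.Lib.UnitarySU.card_center_SU' hK 3 le_rfl]
  norm_num

/-! ### The field with nine elements -/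

instance factK : Fact (∀ r : ZMod 3, r ^ 2 ≠ 2 + 0 * r) := ⟨by decide⟩

/-- A concrete field with nine elements. -/
abbrev K := QuadraticAlgebra (ZMod 3) 2 0

instance : Fintype K := Fintype.ofEquiv _ (QuadraticAlgebra.equivProd 2 0).symm

lemma card_K : Fintype.card K = 3 ^ 2 := by
  rw [Fintype.card_congr (QuadraticAlgebra.equivProd 2 0), Fintype.card_prod, ZMod.card]
  norm_num

lemma step_cases : ∀ t : K, (step t (t ^ 3) 1)^[7] (0, 0, 1) = (0, 0, 1) ∨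
    (step t (t ^ 3) 1)^[8] (0, 0, 1) = (0, 0, 1) ∨ (step t (t ^ 3) 1)^[12] (0, 0, 1) = (0, 0, 1) := by
  decide +kernel

/-! ### Elements of `SU₃(3)` -/

/-- Build an element from entries. -/
def mkK (a b : ZMod 3) : K := ⟨a, b⟩

def A8 : Matrix (Fin 3) (Fin 3) K := !![0, 0, 1; 0, mkK 0 1, 0; mkK 0 1, 0, 0]
def A7 : Matrix (Fin 3) (Fin 3) K :=
  !![0, mkK 1 1, mkK 1 1; 0, mkK 1 1, mkK 2 2; mkK 0 1, 0, 0]
def A12 : Matrix (Fin 3) (Fin 3) K :=
  !![0, mkK 1 1, mkK 1 2; 0, mkK 2 1, mkK 2 2; mkK 0 1, 0, 0]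

lemma A8_det : A8.det = 1 := by decide +kernel
lemma A7_det : A7.det = 1 := by decide +kernel
lemma A12_det : A12.det = 1 := by decide +kernel

lemma A8_rel : ∀ j k, ∑ i, A8 i j * (A8 i k) ^ 3 = if j = k then 1 else 0 := by decide +kernel
lemma A7_rel : ∀ j k, ∑ i, A7 i j * (A7 i k) ^ 3 = if j = k then 1 else 0 := by decide +kernel
lemma A12_rel : ∀ j k, ∑ i, A12 i j * (A12 i k) ^ 3 = if j = k then 1 else 0 := by decide +kernel

open Cfsg.Agent.Lib.UnitarySU Cfsg.Agent.Lib.GUField in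
def g8 : SU 3 K 3 :=
  SUofMatrix A8 A8_det (preserve_of_relation card_K (relation_of_entry card_K A8_rel))
open Cfsg.Agent.Lib.UnitarySU Cfsg.Agent.Lib.GUField in
def g7 : SU 3 K 3 :=
  SUofMatrix A7 A7_det (preserve_of_relation card_K (relation_of_entry card_K A7_rel))
open Cfsg.Agent.Lib.UnitarySU Cfsg.Agent.Lib.GUField in
def g12 : SU 3 K 3 :=
  SUofMatrix A12 A12_det (preserve_of_relation card_K (relation_of_entry card_K A12_rel))

lemma A8_pow8 : A8 ^ 8 = 1 := by decide +kernel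
lemma A8_pow4 : A8 ^ 4 ≠ 1 := by decide +kernel
lemma A7_pow7 : A7 ^ 7 = 1 := by decide +kernel
lemma A7_pow1 : A7 ^ 1 ≠ 1 := by decide +kernel
lemma A12_pow12 : A12 ^ 12 = 1 := by decide +kernel
lemma A12_pow6 : A12 ^ 6 ≠ 1 := by decide +kernel
lemma A12_pow4 : A12 ^ 4 ≠ 1 := by decide +kernel

/-- The quotient map from `SU₃(3)` is injective. -/
lemma mk_injective : Function.Injective
    (QuotientGroup.mk' (Subgroup.center (SU 3 K 3))) := by
  rw [← MonoidHom.ker_eq_bot_iff, QuotientGroup.ker_mk', center_trivial card_K]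

lemma val_pow (g : SU 3 K 3) (k : ℕ) : (g ^ k).1.1 = g.1.1 ^ k := by
  rw [Subgroup.coe_pow, Matrix.SpecialLinearGroup.coe_pow]

lemma eq_one_of_val (g : SU 3 K 3) (h : g.1.1 = 1) : g = 1 :=
  Subtype.ext (Subtype.ext h)

lemma val_of_eq_one (g : SU 3 K 3) (h : g = 1) : g.1.1 = 1 := by
  rw [h]; rfl

/-- An order computation for matrices. -/
lemma order_of_mat (g : SU 3 K 3) (k : ℕ) (hk : 0 < k)
    (h1 : g.1.1 ^ k = 1) (h2 : ∀ p ∈ k.primeFactors, g.1.1 ^ (k / p) ≠ 1) :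
    orderOf (QuotientGroup.mk' (Subgroup.center (SU 3 K 3)) g) = k := by
  rw [orderOf_injective _ mk_injective]
  apply orderOf_eq_of_pow_and_pow_div_prime hk
  · apply eq_one_of_val
    rw [val_pow, h1]
  · intro p hp hpk h
    apply h2 p (Nat.mem_primeFactors.mpr ⟨hp, hpk, hk.ne'⟩)
    rw [← val_pow]
    exact val_of_eq_one _ h

/-- The element orders of `PSU₃(3)`. -/
theorem spec_PSU3 : Set.range (orderOf : PSU 3 K 3 → ℕ) = {n | n = 7 ∨ n ∣ 8 ∨ n ∣ 12} := by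
  apply Set.Subset.antisymm
  · rintro _ ⟨x, rfl⟩
    obtain ⟨g, rfl⟩ := QuotientGroup.mk_surjective x
    have hpow : ∀ k, g.1.1 ^ k = 1 → orderOf (g : PSU 3 K 3) ∣ k := by
      intro k hk
      apply orderOf_dvd_of_pow_eq_one
      rw [← QuotientGroup.mk_pow]
      have : g ^ k = 1 := eq_one_of_val _ (by rw [val_pow, hk])
      rw [this]
      rfl
    have hdet : (g.1.1).det = 1 := g.1.2
    have hs := s3_eq card_K g
    have hst := step_cases (g.1.1).trace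
    rw [← hs] at hst
    rcases hst with h | h | h
    · have := hpow _ (pow_eq_one_of_step _ hdet _ h)
      rcases (Nat.dvd_prime (by norm_num)).mp this with h2 | h2
      · right; left; rw [h2]; exact one_dvd _
      · left; exact h2
    · exact Or.inr (Or.inl (hpow _ (pow_eq_one_of_step _ hdet _ h)))
    · exact Or.inr (Or.inr (hpow _ (pow_eq_one_of_step _ hdet _ h)))
  · have o7 : (7 : ℕ) ∈ Set.range (orderOf : PSU 3 K 3 → ℕ) := by
      refine ⟨_, order_of_mat g7 7 (by norm_num) A7_pow7 ?_⟩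
      have : Nat.primeFactors 7 = {7} := by decide +kernel
      rw [this]
      intro p hp
      rw [Finset.mem_singleton] at hp
      subst hp
      exact A7_pow1
    have o8 : (8 : ℕ) ∈ Set.range (orderOf : PSU 3 K 3 → ℕ) := by
      refine ⟨_, order_of_mat g8 8 (by norm_num) A8_pow8 ?_⟩
      have : Nat.primeFactors 8 = {2} := by decide +kernel
      rw [this]
      intro p hp
      rw [Finset.mem_singleton] at hp
      subst hp
      exact A8_pow4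
    have o12 : (12 : ℕ) ∈ Set.range (orderOf : PSU 3 K 3 → ℕ) := by
      refine ⟨_, order_of_mat g12 12 (by norm_num) A12_pow12 ?_⟩
      have : Nat.primeFactors 12 = {2, 3} := by decide +kernel
      rw [this]
      intro p hp
      rw [Finset.mem_insert, Finset.mem_singleton] at hp
      rcases hp with rfl | rfl
      · exact A12_pow6
      · exact A12_pow4
    have hdiv : ∀ m n : ℕ, m ∈ Set.range (orderOf : PSU 3 K 3 → ℕ) → n ∣ m → 
        n ∈ Set.range (orderOf : PSU 3 K 3 → ℕ) := by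
      rintro m n ⟨x, rfl⟩ hn
      exact ⟨x ^ (orderOf x / n), orderOf_pow_orderOf_div (orderOf_pos x).ne' hn⟩
    rintro n (rfl | h | h)
    · exact o7
    · exact hdiv _ _ o8 h
    · exact hdiv _ _ o12 h

/-- There is a finite solvable group with exactly the same set of element orders as the simple group PSU(3,3) (realised over the field with 9 elements). -/
theorem result {F : Type*} [Field F] [Fintype F] (hF : Fintype.card F = 9) :
    ∃ (H : Type) (_ : Group H) (_ : Fintype H), Group.IsSolvable H ∧ Set.range (orderOf : H → ℕ) = Set.range (orderOf : Cfsg.PSU 3 F 3 → ℕ) := by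
  have e : F ≃+* K := FiniteField.ringEquivOfCardEq (by rw [hF, card_K]; norm_num)
  rw [Cfsg.Agent.Lib.IsoSpec.spec_of_mulEquiv
    (Cfsg.Agent.Lib.SLTransfer.quotCenterEquiv (Cfsg.Agent.Lib.SUTransfer.suEquiv e))]
  show ∃ (H : Type) (_ : Group H) (_ : Fintype H), Group.IsSolvable H ∧
      Set.range (orderOf : H → ℕ) = Set.range (orderOf : PSU 3 K 3 → ℕ)
  rw [spec_PSU3]
  exact exists_H

end Cfsg.Agent.S3438
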