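import Mathlib
import Cfsg.Statements.S3501
import Cfsg.Agent.Lib.MinNormalPrim
import Cfsg.Agent.Lib.Derangement

set_option autoImplicit false
open Cfsg

namespace Cfsg.Agent.S3501

open MulAction Cfsg.Agent.Lib.MinNormalPrim

section Lemmas

variable {G : Type*} [Group G]

/-- A conjugate of a minimal subgroup is minimal. -/
lemma minIn_cj [Finite G] {T N : Subgroup G} (hN : N.Normal) (hT : MinIn T N) (g : G) :
    MinIn (cj g T) N := by
  have hcjle : cj g T ≤ N := by
    intro y hy
    have h1 := hT.le (mem_cj.mp hy)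
    have h2 := hN.conj_mem _ h1 g
    simpa [mul_assoc] using h2
  have hcjnz : ∀ n ∈ N, ∀ y ∈ cj g T, n * y * n⁻¹ ∈ cj g T := by
    intro n hn y hy
    rw [mem_cj]
    have h1 : g⁻¹ * n * g ∈ N := by
      have := hN.conj_mem n hn g⁻¹
      simpa using this
    have h2 := hT.nz _ h1 _ (mem_cj.mp hy)
    have h3 : g⁻¹ * n * g * (g⁻¹ * y * g) * (g⁻¹ * n * g)⁻¹ = g⁻¹ * (n * y * n⁻¹) * g := by group
    rwa [h3] at h2
  refine ⟨hcjle, ?_, hcjnz, ?_⟩
  · intro h
    apply hT.ne_bot
    rw [eq_bot_iff]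
    intro t ht
    have h1 : g * t * g⁻¹ ∈ cj g T := by
      rw [mem_cj]
      simpa [mul_assoc] using ht
    rw [h, Subgroup.mem_bot] at h1
    rw [Subgroup.mem_bot]
    have h2 := congrArg (fun z => g⁻¹ * z * g) h1
    simpa [mul_assoc] using h2
  · intro U hU hUb hUn
    -- pull back
    have hmin := hT.min (cj g⁻¹ U) ?_ ?_ ?_
    · apply le_antisymm hU
      intro y hy
      have h1 : g⁻¹ * y * g ∈ cj g⁻¹ U := by
        rw [hmin]
        exact mem_cj.mp hy
      have h2 := mem_cj.mp h1
      simpa [mul_assoc] using h2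
    · intro y hy
      have h1 := mem_cj.mp (hU (mem_cj.mp hy))
      simpa [mul_assoc] using h1
    · intro h
      apply hUb
      rw [eq_bot_iff]
      intro u hu
      have h1 : g⁻¹ * u * g ∈ cj g⁻¹ U := by
        rw [mem_cj]
        simpa [mul_assoc] using hu
      rw [h, Subgroup.mem_bot] at h1
      rw [Subgroup.mem_bot]
      have h2 := congrArg (fun z => g * z * g⁻¹) h1
      simpa [mul_assoc] using h2
    · intro n hn y hy
      rw [mem_cj]
      have h1 : g * n * g⁻¹ ∈ N := hN.conj_mem n hn g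
      have h2 := hUn _ h1 _ (mem_cj.mp hy)
      have h3 : g * n * g⁻¹ * (g⁻¹⁻¹ * y * g⁻¹) * (g * n * g⁻¹)⁻¹ = g⁻¹⁻¹ * (n * y * n⁻¹) * g⁻¹ := by group
      rwa [h3] at h2

/-- The centre of a non-commutative simple subgroup is trivial. -/
lemma center_trivial {T : Subgroup G} (hs : IsSimpleGroup T) (hna : ¬ IsMulCommutative T)
    (z : G) (hz : z ∈ T) (hc : ∀ t ∈ T, t * z = z * t) : z = 1 := by
  have hZ : (⟨z, hz⟩ : T) ∈ Subgroup.center T := by
    rw [Subgroup.mem_center_iff]
    intro t
    exact Subtype.ext (hc t t.2)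
  rcases hs.eq_bot_or_eq_top_of_normal (Subgroup.center T) inferInstance with h | h
  · rw [h, Subgroup.mem_bot] at hZ
    exact congrArg Subtype.val hZ
  · exfalso
    apply hna
    refine ⟨⟨fun a b => ?_⟩⟩
    have : a ∈ Subgroup.center T := by rw [h]; trivial
    exact (Subgroup.mem_center_iff.mp this b).symm

/-- Jordan's lemma for subgroups. -/
lemma jordan [Finite G] (B C : Subgroup G) (hCB : C ≤ B)
    (hcov : ∀ y ∈ B, ∃ v ∈ B, v⁻¹ * y * v ∈ C) : C = B := by
  by_contra hne
  obtain ⟨b, hb, hbC⟩ : ∃ b ∈ B, b ∉ C := by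
    by_contra hcon
    push Not at hcon
    exact hne (le_antisymm hCB hcon)
  let C' : Subgroup B := C.subgroupOf B
  haveI : Nontrivial (B ⧸ C') := by
    refine ⟨⟨((⟨b, hb⟩ : B) : B ⧸ C'), ((1 : B) : B ⧸ C'), ?_⟩⟩
    intro h
    rw [QuotientGroup.eq] at h
    apply hbC
    have h2 : (⟨b, hb⟩ : B)⁻¹ * 1 ∈ C' := h
    rw [mul_one, Subgroup.inv_mem_iff] at h2
    exact h2
  obtain ⟨h, hh⟩ := Cfsg.Agent.Lib.MinNormalPrim.exists_derangement (H := B) (X := B ⧸ C') inferInstance
  obtain ⟨v, hv, hvC⟩ := hcov h h.2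
  apply hh ((⟨v, hv⟩ : B) : B ⧸ C')
  rw [MulAction.Quotient.smul_coe]
  rw [smul_eq_mul, QuotientGroup.eq]
  change (((h * ⟨v, hv⟩)⁻¹ * ⟨v, hv⟩ : B) : G) ∈ C
  have h1 : (((h * ⟨v, hv⟩)⁻¹ * ⟨v, hv⟩ : B) : G) = (v⁻¹ * h * v)⁻¹ := by
    push_cast
    group
  rw [h1]
  exact C.inv_mem hvC

end Lemmas

section Main

variable {G : Type*} [Group G] [Finite G] {Ω : Type*} [Finite Ω] [MulAction G Ω] [FaithfulSMul G Ω]

/-- The non-abelian case with a non-simple minimal normal subgroup is impossible. -/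
theorem nonabelian_case [Nonempty Ω] {N T : Subgroup G} (hN : IsMinNormal N) (ht : IsPretransitive N Ω)
    (hnc : ¬ ∀ x ∈ N, ∀ y ∈ N, x * y = y * x)
    (hconj : ∀ d d' : G, (∀ ω : Ω, d • ω ≠ ω) → (∀ ω : Ω, d' • ω ≠ ω) → IsConj d d')
    (hT : MinIn T N) (hTN : T ≠ N) : False := by
  classical
  have hs : IsSimpleGroup T := hT.isSimple hN
  have hTnc : ¬ IsMulCommutative T := by
    intro hc
    apply hnc
    apply hT.comm_of_comm hN
    intro x hx y hy
    have := mul_comm' (⟨x, hx⟩ : T) ⟨y, hy⟩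
    exact congrArg Subtype.val this
  obtain ⟨g0, hg0⟩ : ∃ g0, cj g0 T ≠ T := by
    by_contra hcon
    push Not at hcon
    have hTn : T.Normal := by
      refine ⟨fun t ht g => ?_⟩
      rw [← hcon g, mem_cj]
      simpa [mul_assoc] using ht
    rcases hN.2.2 T hTn hT.le with h | h
    · exact hT.ne_bot h
    · exact hTN h
  set B := cj g0 T with hBdef
  have hB : MinIn B N := minIn_cj hN.1 hT g0
  have hcomm : ∀ x ∈ T, ∀ y ∈ B, x * y = y * x := by
    rcases hT.cj_dichotomy hN.1 g0 with h | h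
    · exact absurd h hg0
    · exact h
  have hsB : IsSimpleGroup B := hB.isSimple hN
  have hBnc : ¬ IsMulCommutative B := by
    intro hc
    apply hnc
    apply hB.comm_of_comm hN
    intro x hx y hy
    have := mul_comm' (⟨x, hx⟩ : B) ⟨y, hy⟩
    exact congrArg Subtype.val this
  have hinf : ∀ z, z ∈ T → z ∈ B → z = 1 := by
    intro z hz hzB
    exact center_trivial hs hTnc z hz (fun t ht => hcomm t ht z hzB)
  obtain ⟨x, hxT, hxd⟩ := hT.exists_derangement hN ht
  have hx1 : x ≠ 1 := by
    rintro rfl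
    obtain ⟨ω⟩ := ‹Nonempty Ω›
    exact hxd ω (one_smul _ _)
  have hfix : ∀ y ∈ B, y ≠ 1 → ∃ η : Ω, (x * y) • η = η := by
    intro y hy hy1
    by_contra hcon
    push Not at hcon
    obtain ⟨c, hc⟩ := isConj_iff.mp (hconj x (x * y) hxd hcon)
    have hmem : x * y ∈ cj c T := by
      rw [mem_cj, ← hc]
      simpa [mul_assoc] using hxT
    rcases hT.cj_dichotomy hN.1 c with h | h
    · rw [h] at hmem
      have : y ∈ T := by
        have h1 := T.mul_mem (T.inv_mem hxT) hmem
        simpa using h1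
      exact hy1 (hinf y this hy)
    · apply hx1
      apply center_trivial hs hTnc x hxT
      intro t ht
      have h1 := h t ht _ hmem
      have h2 := hcomm t ht y hy
      have h3 : t * x * y = x * t * y := by
        calc t * x * y = t * (x * y) := by group
          _ = x * y * t := h1
          _ = x * (y * t) := by group
          _ = x * (t * y) := by rw [h2]
          _ = x * t * y := by group
      exact mul_right_cancel h3
  -- the projection of the stabilizer
  have hC : ∀ ω : Ω, ∀ y ∈ B, ∃ u ∈ T, (u * y) • ω = ω := by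
    intro ω
    let C : Subgroup G :=
      { carrier := {y | y ∈ B ∧ ∃ u ∈ T, (u * y) • ω = ω}
        one_mem' := ⟨B.one_mem, 1, T.one_mem, by simp⟩
        mul_mem' := by
          rintro a b ⟨ha, u, hu, hua⟩ ⟨hb, v, hv, hvb⟩
          refine ⟨B.mul_mem ha hb, u * v, T.mul_mem hu hv, ?_⟩
          have h1 : u * v * (a * b) = (u * a) * (v * b) := by
            calc u * v * (a * b) = u * (v * a) * b := by group
              _ = u * (a * v) * b := by rw [hcomm v hv a ha]
              _ = (u * a) * (v * b) := by group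
          rw [h1, mul_smul, hvb, hua]
        inv_mem' := by
          rintro a ⟨ha, u, hu, hua⟩
          refine ⟨B.inv_mem ha, u⁻¹, T.inv_mem hu, ?_⟩
          have h1 : u⁻¹ * a⁻¹ = (u * a)⁻¹ := by
            rw [mul_inv_rev]
            exact (hcomm u⁻¹ (T.inv_mem hu) a⁻¹ (B.inv_mem ha))
          rw [h1, inv_smul_eq_iff, hua] }
    have hCB : C ≤ B := fun y hy => hy.1
    have hcov : ∀ y ∈ B, ∃ v ∈ B, v⁻¹ * y * v ∈ C := by
      intro y hy
      by_cases hy1 : y = 1
      · refine ⟨1, B.one_mem, ?_⟩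
        rw [hy1]
        simpa using C.one_mem
      · obtain ⟨η, hη⟩ := hfix y hy hy1
        obtain ⟨n, rfl⟩ := ht.exists_smul_eq ω η
        obtain ⟨v, hv, hvy⟩ := hB.conj_inner hN n n.2
        refine ⟨v, hv, ?_⟩
        have hy' : v⁻¹ * y * v = (n : G)⁻¹ * y * (n : G) := (hvy y hy).symm
        refine ⟨?_, ?_⟩
        · exact B.mul_mem (B.mul_mem (B.inv_mem hv) hy) hv
        · refine ⟨(n : G)⁻¹ * x * (n : G), ?_, ?_⟩
          · have := hT.nz _ (N.inv_mem n.2) x hxT
            simpa using this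
          · rw [hy']
            have h1 : (n : G)⁻¹ * x * (n : G) * ((n : G)⁻¹ * y * (n : G)) = (n : G)⁻¹ * (x * y) * (n : G) := by
              group
            rw [h1, mul_smul, mul_smul]
            have h2 : (x * y) • ((n : G) • ω) = (n : G) • ω := hη
            rw [h2]
            simp
    have hCeq := jordan B C hCB hcov
    intro y hy
    rw [← hCeq] at hy
    exact hy.2
  -- no element of `B` fixes a point
  have hV : ∀ ω : Ω, ∀ b ∈ B, b • ω = ω → b = 1 := by
    intro ω
    let V : Subgroup G := B ⊓ stabilizer G ω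
    have hVn : ∀ n ∈ N, ∀ z ∈ V, n * z * n⁻¹ ∈ V := by
      intro n hn z hz
      refine ⟨hB.nz n hn z hz.1, ?_⟩
      obtain ⟨u, hu, huy⟩ := hB.conj_inner hN n⁻¹ (N.inv_mem hn)
      have h1 : n * z * n⁻¹ = u⁻¹ * z * u := by
        have := huy z hz.1
        simpa using this
      rw [h1]
      obtain ⟨t, ht', htu⟩ := hC ω u⁻¹ (B.inv_mem hu)
      have hzfix : z • ω = ω := hz.2
      have h2 : u⁻¹ * z * u ∈ B := B.mul_mem (B.mul_mem (B.inv_mem hu) hz.1) hu
      have h3 : u⁻¹ * z * u = (t * u⁻¹) * z * (t * u⁻¹)⁻¹ := by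
        have h4 := hcomm t ht' _ h2
        have h6 : (t * u⁻¹) * z * (t * u⁻¹)⁻¹ = t * (u⁻¹ * z * u) * t⁻¹ := by group
        rw [h6, h4, mul_inv_cancel_right]
      rw [h3]
      change ((t * u⁻¹) * z * (t * u⁻¹)⁻¹) • ω = ω
      have h7 : (t * u⁻¹)⁻¹ • ω = ω := by
        rw [inv_smul_eq_iff, htu]
      rw [mul_smul, mul_smul, h7, hzfix, htu]
    intro b hb hbω
    by_cases hVb : V = ⊥
    · have : b ∈ V := ⟨hb, hbω⟩
      rw [hVb, Subgroup.mem_bot] at this
      exact this
    · exfalso
      have hVB := hB.min V inf_le_left hVb hVn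
      apply hB.ne_bot
      rw [eq_bot_iff]
      intro c hc
      rw [Subgroup.mem_bot]
      apply FaithfulSMul.eq_of_smul_eq_smul (α := Ω)
      intro η
      rw [one_smul]
      obtain ⟨n, rfl⟩ := ht.exists_smul_eq ω η
      have h1 : (n : G)⁻¹ * c * (n : G) ∈ B := by
        have := hB.nz _ (N.inv_mem n.2) c hc
        simpa using this
      have h2 : (n : G)⁻¹ * c * (n : G) ∈ V := by rw [hVB]; exact h1
      have h3 : ((n : G)⁻¹ * c * (n : G)) • ω = ω := h2.2
      have h4 : c • ((n : G) • ω) = (n : G) • ω := by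
        have h5 := congrArg (fun w => (n : G) • w) h3
        simp only [mul_smul, smul_inv_smul] at h5
        exact h5
      exact h4
  have hder : ∀ b ∈ B, b ≠ 1 → ∀ ω : Ω, b • ω ≠ ω := fun b hb hb1 ω hf => hb1 (hV ω b hb hf)
  -- two different prime orders
  haveI : Nontrivial B := (Subgroup.nontrivial_iff_ne_bot _).mpr hB.ne_bot
  obtain ⟨p, hp, hpB⟩ := Nat.exists_prime_and_dvd (Finite.one_lt_card (α := B)).ne'
  haveI : Fact p.Prime := ⟨hp⟩
  obtain ⟨b, hb⟩ := exists_prime_orderOf_dvd_card' p hpB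
  obtain ⟨y, hy, hyp⟩ := exists_prime_order_ne hsB hBnc p hp
  have hb1 : (b : G) ≠ 1 := by
    intro h
    have : b = 1 := Subtype.ext h
    rw [this, orderOf_one] at hb
    exact hp.one_lt.ne hb
  have hy1 : (y : G) ≠ 1 := by
    intro h
    have : y = 1 := Subtype.ext h
    rw [this, orderOf_one] at hy
    exact Nat.not_prime_one hy
  obtain ⟨c, hc⟩ := isConj_iff.mp (hconj b y (hder b b.2 hb1) (hder y y.2 hy1))
  have h5 : orderOf ((b : G)) = orderOf (y : G) := by
    rw [← hc, ← MulAut.conj_apply, MulEquiv.orderOf_eq]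
  rw [Subgroup.orderOf_coe, Subgroup.orderOf_coe, hb] at h5
  exact hyp h5.symm

/-- The abelian case. -/
theorem abelian_case [Nonempty Ω] {N : Subgroup G} (hNn : N.Normal) (ht : IsPretransitive N Ω)
    (hc : ∀ x ∈ N, ∀ y ∈ N, x * y = y * x)
    (hconj : ∀ d d' : G, (∀ ω : Ω, d • ω ≠ ω) → (∀ ω : Ω, d' • ω ≠ ω) → IsConj d d')
    (hD : ∀ d : G, (∀ ω : Ω, d • ω ≠ ω) → d ∈ N) :
    IsMultiplyPretransitive G Ω 2 ∧ ∀ g : G, g ≠ 1 → ∀ a b : Ω, a ≠ b → g • a = a → g • b ≠ b := by
  have hreg : ∀ m ∈ N, ∀ ω : Ω, m • ω = ω → m = 1 := fun m hm ω h =>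
    eq_one_of_commute_of_fixes N ht (fun t ht' => hc m hm t ht') h
  have hreg2 : ∀ m ∈ N, ∀ m' ∈ N, ∀ ω : Ω, m • ω = m' • ω → m = m' := by
    intro m hm m' hm' ω h
    have h1 : (m'⁻¹ * m) • ω = ω := by
      rw [mul_smul, h, inv_smul_smul]
    have h2 := hreg _ (N.mul_mem (N.inv_mem hm') hm) ω h1
    rw [inv_mul_eq_one] at h2
    exact h2.symm
  have hder : ∀ m ∈ N, m ≠ 1 → ∀ ω : Ω, m • ω ≠ ω := fun m hm hm1 ω h => hm1 (hreg m hm ω h)
  have hex : ∀ a b : Ω, ∃ m ∈ N, m • a = b := by
    intro a b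
    obtain ⟨m, hm⟩ := ht.exists_smul_eq a b
    exact ⟨m, m.2, hm⟩
  constructor
  · rw [is_two_pretransitive_iff]
    intro a b c e hab hce
    obtain ⟨m1, hm1, hm1a⟩ := hex a c
    have hb' : m1 • b ≠ c := by
      rw [← hm1a]
      intro h
      exact hab (smul_left_cancel m1 h).symm
    obtain ⟨m2, hm2, hm2c⟩ := hex c (m1 • b)
    obtain ⟨m3, hm3, hm3c⟩ := hex c e
    have hm21 : m2 ≠ 1 := by
      rintro rfl
      rw [one_smul] at hm2c
      exact hb' hm2c.symm
    have hm31 : m3 ≠ 1 := by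
      rintro rfl
      rw [one_smul] at hm3c
      exact hce hm3c
    obtain ⟨g, hg⟩ := isConj_iff.mp (hconj m2 m3 (hder m2 hm2 hm21) (hder m3 hm3 hm31))
    obtain ⟨m, hm, hmc⟩ := hex c (g • c)
    set h := m⁻¹ * g with hh
    have hhc : h • c = c := by
      rw [hh, mul_smul, ← hmc, inv_smul_smul]
    have hconj2 : h * m2 * h⁻¹ = m3 := by
      have h1 : h * m2 * h⁻¹ = m⁻¹ * (g * m2 * g⁻¹) * m := by
        rw [hh]; group
      rw [h1, hg, hc m⁻¹ (N.inv_mem hm) m3 hm3]
      group
    refine ⟨h * m1, ?_, ?_⟩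
    · rw [mul_smul, hm1a, hhc]
    · have hinv : h⁻¹ • c = c := by rw [inv_smul_eq_iff, hhc]
      have hfinal : (h * m1) • b = (h * m2 * h⁻¹) • c := by
        calc (h * m1) • b = h • (m1 • b) := mul_smul _ _ _
          _ = h • (m2 • c) := by rw [hm2c]
          _ = (h * m2 * h⁻¹) • c := by
            have h7 : (h * m2 * h⁻¹) • c = (h * m2) • (h⁻¹ • c) := mul_smul _ _ _
            rw [h7, hinv]
            exact (mul_smul h m2 c).symm
      rw [hfinal, hconj2, hm3c]
  · intro g hg a b hab hga hgb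
    have hgN : g ∉ N := fun h => hg (hreg g h a hga)
    let f : N → N := fun m' => ⟨m' * (g * m' * g⁻¹)⁻¹,
      N.mul_mem m'.2 (N.inv_mem (hNn.conj_mem _ m'.2 g))⟩
    have hsurj : Function.Surjective f := by
      rintro ⟨m, hm⟩
      have hmg : m * g ∉ N := by
        intro h
        apply hgN
        have := N.mul_mem (N.inv_mem hm) h
        simpa using this
      have hnd : ¬ ∀ ω : Ω, (m * g) • ω ≠ ω := fun h => hmg (hD _ h)
      push Not at hnd
      obtain ⟨η, hη⟩ := hnd
      obtain ⟨m', hm', rfl⟩ := hex a η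
      refine ⟨⟨m', hm'⟩, Subtype.ext ?_⟩
      have h1 : (m * (g * m' * g⁻¹)) • a = m' • a := by
        have h2 : (m * g) • (m' • a) = (m * (g * m' * g⁻¹)) • (g • a) := by
          rw [← mul_smul, ← mul_smul]
          congr 1
          group
        rw [← hη, h2, hga]
      have h3 := hreg2 _ (N.mul_mem hm (hNn.conj_mem _ hm' g)) _ hm' a h1
      change m' * (g * m' * g⁻¹)⁻¹ = m
      rw [mul_inv_eq_iff_eq_mul]
      exact h3.symm
    have hinj : Function.Injective f := (Finite.injective_iff_surjective).mpr hsurj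
    obtain ⟨m0, hm0, rfl⟩ := hex a b
    have h1 : (g * m0 * g⁻¹) • a = m0 • a := by
      have h2 : g⁻¹ • a = a := by rw [inv_smul_eq_iff, hga]
      rw [mul_smul, mul_smul, h2, hgb]
    have h2 := hreg2 _ (hNn.conj_mem _ hm0 g) _ hm0 a h1
    have h3 : f ⟨m0, hm0⟩ = f 1 := by
      apply Subtype.ext
      change m0 * (g * m0 * g⁻¹)⁻¹ = (1 : G) * (g * 1 * g⁻¹)⁻¹
      rw [h2]
      simp
    have h4 := hinj h3
    have h5 : m0 = 1 := congrArg Subtype.val h4
    apply hab
    rw [h5, one_smul]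

end Main

section Sharp

variable {G : Type*} [Group G] [Finite G] {Ω : Type*} [Fintype Ω] [MulAction G Ω]

/-- In a sharply 2-transitive group all derangements are conjugate. -/
theorem sharp_conj (hΩ : 2 ≤ Fintype.card Ω) [IsPretransitive G Ω]
    (h2 : IsMultiplyPretransitive G Ω 2)
    (hs : ∀ g : G, g ≠ 1 → ∀ a b : Ω, a ≠ b → g • a = a → g • b ≠ b)
    (d d' : G) (hd : ∀ ω : Ω, d • ω ≠ ω) (hd' : ∀ ω : Ω, d' • ω ≠ ω) : IsConj d d' := by
  classical
  haveI := Fintype.ofFinite G
  haveI : Nontrivial Ω := Fintype.one_lt_card_iff_nontrivial.mp (by omega)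
  obtain ⟨α⟩ : Nonempty Ω := inferInstance
  set n := Fintype.card Ω with hn
  let der : G → Prop := fun g => ∀ ω : Ω, g • ω ≠ ω
  let D : Finset G := Finset.univ.filter der
  let E : Finset G := Finset.univ.filter (fun g => g ≠ 1 ∧ ¬ der g)
  have h1der : ¬ der 1 := fun h => h α (one_smul _ _)
  have hcount : E.card + D.card + 1 = Fintype.card G := by
    have h1 := Finset.card_filter_add_card_filter_not (s := (Finset.univ : Finset G)) der
    have h3 : Finset.univ.filter (fun g => ¬ der g) = insert (1 : G) E := by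
      ext g
      simp only [Finset.mem_filter, Finset.mem_univ, true_and, Finset.mem_insert, E]
      constructor
      · intro h
        by_cases hg : g = 1
        · exact Or.inl hg
        · exact Or.inr ⟨hg, h⟩
      · rintro (rfl | h)
        · exact h1der
        · exact h.2
    rw [h3, Finset.card_insert_of_notMem (by simp [E]), Finset.card_univ] at h1
    simp only [D]
    omega
  have hburn := Cfsg.Agent.Lib.Derangement.burnside G Ω
  rw [Cfsg.Agent.Lib.Derangement.card_quotient_of_pretransitive G Ω, one_mul,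
    Nat.card_eq_fintype_card] at hburn
  have hbound : ∀ g : G, Nat.card (fixedBy Ω g) ≤ (if g = 1 then n else 0) + (if g ≠ 1 ∧ ¬ der g then 1 else 0) := by
    intro g
    by_cases hg : g = 1
    · subst hg
      simp only [if_true]
      rw [Nat.card_eq_fintype_card]
      have := Fintype.card_subtype_le (fun x : Ω => x ∈ fixedBy Ω (1 : G))
      simp
      omega
    · simp only [hg, if_false, zero_add]
      by_cases hgd : der g
      · simp only [hgd, not_true_eq_false, and_false, if_false, ne_eq, hg, not_false_eq_true, and_true]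
        have : IsEmpty (fixedBy Ω g) := ⟨fun x => hgd x.1 x.2⟩
        rw [Nat.card_of_isEmpty]
      · simp only [hgd, not_false_eq_true, and_true, if_true, ne_eq, hg]
        apply Finite.card_le_one_iff_subsingleton.mpr
        refine ⟨fun x y => Subtype.ext ?_⟩
        by_contra hne
        exact hs g hg x y hne x.2 y.2
  have hle : Fintype.card G ≤ n + E.card := by
    calc Fintype.card G = ∑ g : G, Nat.card (fixedBy Ω g) := hburn.symm
      _ ≤ ∑ g : G, ((if g = 1 then n else 0) + (if g ≠ 1 ∧ ¬ der g then 1 else 0)) :=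
          Finset.sum_le_sum (fun g _ => hbound g)
      _ = n + E.card := by
          rw [Finset.sum_add_distrib, Finset.sum_ite_eq' Finset.univ (1 : G)]
          simp only [Finset.mem_univ, if_true, E, Finset.card_filter]
  have hD : D.card ≤ n - 1 := by omega
  have hGlow : n * (n - 1) ≤ Fintype.card G := by
    obtain ⟨a, b, hab⟩ := exists_pair_ne Ω
    have h3 : (Finset.univ : Finset Ω).offDiag ⊆
        (Finset.univ : Finset G).image (fun g => (g • a, g • b)) := by
      rintro ⟨c, e⟩ hce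
      rw [Finset.mem_offDiag] at hce
      obtain ⟨g, hg1, hg2⟩ := (is_two_pretransitive_iff.mp h2) hab hce.2.2
      exact Finset.mem_image.mpr ⟨g, Finset.mem_univ g, by rw [hg1, hg2]⟩
    have h4 := (Finset.card_le_card h3).trans Finset.card_image_le
    rw [Finset.offDiag_card, Finset.card_univ, Finset.card_univ] at h4
    have h5 : n * (n - 1) = n * n - n := by
      obtain ⟨r, hr⟩ : ∃ r, n = r + 1 := ⟨n - 1, by omega⟩
      rw [hr]
      simp only [Nat.add_sub_cancel]
      ring_nf
      omega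
    rw [h5]
    exact h4
  -- the conjugates of `d`
  let I : Finset G := (Finset.univ : Finset G).image (fun c => c * d * c⁻¹)
  have hfib : ∀ a ∈ I, (Finset.univ.filter (fun x : G => x * d * x⁻¹ = a)).card ≤ n := by
    intro a _
    rw [hn, ← Finset.card_univ]
    apply Finset.card_le_card_of_injOn (fun x => x • α) (fun _ _ => Finset.mem_coe.mpr (Finset.mem_univ _))
    intro x hx x' hx' hxx
    simp only [Finset.coe_filter, Finset.mem_univ, true_and, Set.mem_ofPred_eq] at hx hx'
    by_contra hne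
    have hc1 : x⁻¹ * x' ≠ 1 := by
      intro h
      rw [inv_mul_eq_one] at h
      exact hne h
    have hfixα : (x⁻¹ * x') • α = α := by
      rw [mul_smul, inv_smul_eq_iff]
      exact hxx.symm
    have hcomm : (x⁻¹ * x') * d = d * (x⁻¹ * x') := by
      have h5 : x * d * x⁻¹ = x' * d * x'⁻¹ := hx.trans hx'.symm
      have h6 : x⁻¹ * (x * d * x⁻¹) * x' = x⁻¹ * (x' * d * x'⁻¹) * x' := by rw [h5]
      have h7 : x⁻¹ * (x * d * x⁻¹) * x' = d * (x⁻¹ * x') := by group
      have h8 : x⁻¹ * (x' * d * x'⁻¹) * x' = (x⁻¹ * x') * d := by group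
      rw [h7, h8] at h6
      exact h6.symm
    apply hs _ hc1 α (d • α) (hd α).symm hfixα
    rw [← mul_smul, hcomm, mul_smul, hfixα]
  have hI : n * (n - 1) ≤ n * I.card :=
    hGlow.trans (by
      rw [← Finset.card_univ]
      exact Finset.card_le_mul_card_image _ _ hfib)
  have hnpos : 0 < n := by omega
  have hIcard : n - 1 ≤ I.card := Nat.le_of_mul_le_mul_left hI hnpos
  have hID : I ⊆ D := by
    intro y hy
    obtain ⟨c, -, rfl⟩ := Finset.mem_image.mp hy
    simp only [D, Finset.mem_filter, Finset.mem_univ, true_and]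
    intro ω h
    apply hd (c⁻¹ • ω)
    have h3 : c • (d • (c⁻¹ • ω)) = ω := by
      rw [← mul_smul, ← mul_smul]
      exact h
    rw [eq_inv_smul_iff]
    exact h3
  have hIeq : I = D := Finset.eq_of_subset_of_card_le hID (by omega)
  have hmem : d' ∈ I := by
    rw [hIeq]
    simp only [D, Finset.mem_filter, Finset.mem_univ, true_and]
    exact hd'
  obtain ⟨c, -, hc⟩ := Finset.mem_image.mp hmem
  exact isConj_iff.mpr ⟨c, hc⟩

end Sharp

/-- Let a finite group G act faithfully and primitively on a finite set Ω with at least two points, and suppose G is not almost simple (it has no non-abelian simple normal subgroup with trivial centralizer). Then the derangements of G form a single conjugacy class if and only if G is sharply 2-transitive (2-transitive, and no non-identity element fixes two points). -/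
theorem result {G : Type*} [Group G] [Finite G] {Ω : Type*} [Fintype Ω] [MulAction G Ω] [FaithfulSMul G Ω] (hΩ : 2 ≤ Fintype.card Ω) (hprim : MulAction.IsPreprimitive G Ω) (hnas : ¬ ∃ T : Subgroup G, T.Normal ∧ IsSimpleGroup T ∧ ¬ IsMulCommutative T ∧ Subgroup.centralizer (T : Set G) = ⊥) :
    Nat.card {c : ConjClasses G // ∃ g : G, ConjClasses.mk g = c ∧ ∀ ω : Ω, g • ω ≠ ω} = 1 ↔ (MulAction.IsMultiplyPretransitive G Ω 2 ∧ ∀ g : G, g ≠ 1 → ∀ a b : Ω, a ≠ b → g • a = a → g • b ≠ b) := by
  classical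
  haveI : Nontrivial Ω := Fintype.one_lt_card_iff_nontrivial.mp (by omega)
  haveI : IsPretransitive G Ω := hprim.toIsPretransitive
  constructor
  · intro hcard
    obtain ⟨hsub, -⟩ := Nat.card_eq_one_iff_unique.mp hcard
    have hconj : ∀ d d' : G, (∀ ω : Ω, d • ω ≠ ω) → (∀ ω : Ω, d' • ω ≠ ω) → IsConj d d' := by
      intro d d' hd hd'
      have h1 : (⟨ConjClasses.mk d, d, rfl, hd⟩ : {c : ConjClasses G // ∃ g : G, ConjClasses.mk g = c ∧ ∀ ω : Ω, g • ω ≠ ω}) =
          ⟨ConjClasses.mk d', d', rfl, hd'⟩ := hsub.elim _ _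
      exact ConjClasses.mk_eq_mk_iff_isConj.mp (congrArg Subtype.val h1)
    haveI : Nontrivial G := by
      obtain ⟨a, b, hab⟩ := exists_pair_ne Ω
      obtain ⟨g, hg⟩ := exists_smul_eq G a b
      refine ⟨⟨g, 1, ?_⟩⟩
      rintro rfl
      rw [one_smul] at hg
      exact hab hg
    obtain ⟨N, hN⟩ := exists_minNormal (G := G)
    have htrans : ∀ K : Subgroup G, K.Normal → K ≠ ⊥ → IsPretransitive K Ω :=
      fun K hK hb => isPretransitive_of_normal hprim K hK hb
    have ht := htrans N hN.1 hN.2.1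
    obtain ⟨d0, hd0⟩ := Cfsg.Agent.Lib.MinNormalPrim.exists_derangement (H := N) (X := Ω) ht
    have hD : ∀ d : G, (∀ ω : Ω, d • ω ≠ ω) → d ∈ N := by
      intro d hd
      obtain ⟨c, hc⟩ := isConj_iff.mp (hconj (d0 : G) d (fun ω => hd0 ω) hd)
      rw [← hc]
      exact hN.1.conj_mem _ d0.2 c
    by_cases hc : ∀ x ∈ N, ∀ y ∈ N, x * y = y * x
    · exact abelian_case hN.1 ht hc hconj hD
    · exfalso
      obtain ⟨T, hT⟩ := exists_minIn N hN.2.1
      by_cases hTN : T = N
      · subst hTN
        apply hnas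
        refine ⟨T, hN.1, hT.isSimple hN, ?_, ?_⟩
        · intro hcm
          apply hc
          intro x hx y hy
          have := mul_comm' (⟨x, hx⟩ : T) ⟨y, hy⟩
          exact congrArg Subtype.val this
        · by_contra hC
          haveI := hN.1
          have hCn : (Subgroup.centralizer (T : Set G)).Normal := inferInstance
          have ht2 := htrans _ hCn hC
          obtain ⟨d1, hd1⟩ := Cfsg.Agent.Lib.MinNormalPrim.exists_derangement (H := Subgroup.centralizer (T : Set G)) (X := Ω) ht2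
          have hd1N := hD (d1 : G) (fun ω => hd1 ω)
          have hU : T ⊓ Subgroup.centralizer (T : Set G) ≠ ⊥ := by
            intro h
            have h1 : (d1 : G) ∈ T ⊓ Subgroup.centralizer (T : Set G) := ⟨hd1N, d1.2⟩
            rw [h, Subgroup.mem_bot] at h1
            obtain ⟨ω⟩ : Nonempty Ω := inferInstance
            apply hd1 ω
            change (d1 : G) • ω = ω
            rw [h1, one_smul]
          rcases hN.2.2 (T ⊓ Subgroup.centralizer (T : Set G)) inferInstance inf_le_left with h | h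
          · exact hU h
          · apply hc
            intro x hx y hy
            have h1 : x ∈ T ⊓ Subgroup.centralizer (T : Set G) := by rw [h]; exact hx
            exact (Subgroup.mem_centralizer_iff.mp h1.2 y hy).symm
      · exact nonabelian_case hN ht hc hconj hT hTN
  · rintro ⟨h2, hs⟩
    rw [Nat.card_eq_one_iff_unique]
    constructor
    · refine ⟨?_⟩
      rintro ⟨c, g, rfl, hg⟩ ⟨c', g', rfl, hg'⟩
      apply Subtype.ext
      exact ConjClasses.mk_eq_mk_iff_isConj.mpr (sharp_conj hΩ h2 hs g g' hg hg')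
    · obtain ⟨d, hd⟩ := Cfsg.Agent.Lib.MinNormalPrim.exists_derangement (H := G) (X := Ω) inferInstance
      exact ⟨⟨ConjClasses.mk d, d, rfl, hd⟩⟩

end Cfsg.Agent.S3501
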