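import Mathlib
import Cfsg.Statements.S3493
import Cfsg.Agent.Lib.ExtremeP
import Cfsg.Agent.Lib.MinNormalPrim
import Cfsg.Agent.Lib.ExtPrim
import Cfsg.Agent.S3501

set_option autoImplicit false
open Cfsg

namespace Cfsg.Agent.S3493

open MulAction Cfsg.Agent.Lib.MinNormalPrim Cfsg.Agent.Lib.ExtPrim Cfsg.Agent.Lib.ExtremeP
open Cfsg.Agent.S3501 (minIn_cj center_trivial)

section Basic

variable {G : Type*} [Group G]

lemma cent_normal (N : Subgroup G) (hN : N.Normal) : (Subgroup.centralizer (N : Set G)).Normal := by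
  constructor
  intro x hx g
  rw [Subgroup.mem_centralizer_iff] at hx ⊢
  intro y hy
  have h1 := hx (g⁻¹ * y * g) (by
    have := hN.conj_mem y hy g⁻¹
    rwa [inv_inv] at this)
  calc y * (g * x * g⁻¹) = g * ((g⁻¹ * y * g) * x) * g⁻¹ := by group
    _ = g * (x * (g⁻¹ * y * g)) * g⁻¹ := by rw [h1]
    _ = g * x * g⁻¹ * y := by group

lemma cj_mul (a b : G) (T : Subgroup G) : cj (a * b) T = cj a (cj b T) := by
  ext x
  rw [mem_cj, mem_cj, mem_cj]
  have : (a * b)⁻¹ * x * (a * b) = b⁻¹ * (a⁻¹ * x * a) * b := by group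
  rw [this]

lemma cj_one (T : Subgroup G) : cj 1 T = T := by
  ext x
  rw [mem_cj]
  simp

lemma cj_inv_cj (a : G) (T : Subgroup G) : cj a⁻¹ (cj a T) = T := by
  rw [← cj_mul, inv_mul_cancel, cj_one]

lemma cj_cj_inv (a : G) (T : Subgroup G) : cj a (cj a⁻¹ T) = T := by
  rw [← cj_mul, mul_inv_cancel, cj_one]

lemma conj_mem_cj {a t : G} {T : Subgroup G} (ht : t ∈ T) : a * t * a⁻¹ ∈ cj a T := by
  rw [mem_cj]
  simpa [mul_assoc] using ht

lemma cj_eq_of_mem [Finite G] {T N : Subgroup G} (hT : MinIn T N) {n : G} (hn : n ∈ N) : cj n T = T := by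
  apply Subgroup.eq_of_le_of_card_ge
  · intro x hx
    have h1 := hT.nz n hn _ (mem_cj.mp hx)
    have h2 : n * (n⁻¹ * x * n) * n⁻¹ = x := by group
    rwa [h2] at h1
  · rw [card_cj]

/-- If `u` commutes with `x * x'` where `x, x'` commute of distinct prime orders, then `u`
commutes with `x'`. -/
lemma comm_of_prod {x x' u : G} (hc : x * x' = x' * x) {p q : ℕ} (hx : orderOf x = p) (hx' : orderOf x' = q)
    (hp : p.Prime) (hq : q.Prime) (hne : p ≠ q) (hu : u * (x * x') = (x * x') * u) : u * x' = x' * u := by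
  have h0 : Commute u (x * x') := hu
  have hcc : Commute x x' := hc
  have h1 : (x * x') ^ p = x' ^ p := by
    rw [hcc.mul_pow, ← hx, pow_orderOf_eq_one, one_mul]
  have h2 : Commute u (x' ^ p) := by
    rw [← h1]
    exact h0.pow_right p
  have hco : Nat.Coprime p q := (Nat.coprime_primes hp hq).mpr hne
  obtain ⟨m, hm⟩ := Nat.exists_mul_mod_eq_one_of_coprime hco hq.one_lt
  have h3 : (x' ^ p) ^ m = x' := by
    rw [← pow_mul, ← pow_mod_orderOf, hx', hm.2, pow_one]
  have h4 := h2.pow_right m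
  rw [h3] at h4
  exact h4

variable [Finite G]

/-- Lemma B: a non-commutative minimal normal subgroup has no non-trivial abelian normal subgroup. -/
lemma no_abelian_normal {N : Subgroup G} (hN : IsMinNormal N) (hna : ¬ ∀ x ∈ N, ∀ y ∈ N, x * y = y * x)
    (A : Subgroup N) (hA : A.Normal) (hAc : IsMulCommutative A) : A = ⊥ := by
  classical
  haveI := hN.1
  obtain ⟨T, hT⟩ := exists_minIn N hN.2.1
  have hZ : ∀ z ∈ N, (∀ n ∈ N, z * n = n * z) → z = 1 := by
    intro z hz hc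
    have hZn : (N ⊓ Subgroup.centralizer (N : Set G)).Normal := by
      haveI := cent_normal N hN.1
      exact Subgroup.normal_inf_normal _ _
    rcases hN.2.2 _ hZn inf_le_left with h | h
    · have : z ∈ N ⊓ Subgroup.centralizer (N : Set G) :=
        ⟨hz, Subgroup.mem_centralizer_iff.mpr (fun n hn => (hc n hn).symm)⟩
      rw [h] at this
      exact this
    · exfalso
      apply hna
      intro x hx y hy
      have h1 : y ∈ N ⊓ Subgroup.centralizer (N : Set G) := by rw [h]; exact hy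
      exact Subgroup.mem_centralizer_iff.mp h1.2 x hx
  rw [eq_bot_iff]
  rintro ⟨a, ha⟩ haA
  rw [Subgroup.mem_bot]
  apply Subtype.ext
  apply hZ a ha
  refine hT.induction hN (Q := fun n => a * n = n * a) ?_ (by simp) ?_ ?_
  · intro g x hx
    have hT' := minIn_cj hN.1 hT g
    let Am : Subgroup G := A.map N.subtype
    have hAm : ∀ n ∈ N, ∀ y ∈ Am, n * y * n⁻¹ ∈ Am := by
      rintro n hn _ ⟨y, hy, rfl⟩
      exact ⟨⟨n, hn⟩ * y * ⟨n, hn⟩⁻¹, hA.conj_mem y hy _, rfl⟩
    have haAm : a ∈ Am := ⟨⟨a, ha⟩, haA, rfl⟩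
    by_cases hU : cj g T ⊓ Am = ⊥
    · have hxN : x ∈ N := hT'.le hx
      have hcomm : a * x * a⁻¹ * x⁻¹ ∈ cj g T ⊓ Am := by
        refine ⟨(cj g T).mul_mem (hT'.nz a ha x hx) ((cj g T).inv_mem hx), ?_⟩
        have h1 := hAm x hxN _ (Am.inv_mem haAm)
        have h2 := Am.mul_mem haAm h1
        have h3 : a * (x * a⁻¹ * x⁻¹) = a * x * a⁻¹ * x⁻¹ := by group
        rwa [h3] at h2
      rw [hU, Subgroup.mem_bot] at hcomm
      calc a * x = (a * x * a⁻¹ * x⁻¹) * (x * a) := by group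
        _ = x * a := by rw [hcomm, one_mul]
    · exfalso
      have hm := hT'.min (cj g T ⊓ Am) inf_le_left hU (by
        intro n hn u hu
        exact ⟨hT'.nz n hn u hu.1, hAm n hn u hu.2⟩)
      have hle : cj g T ≤ Am := by
        rw [← hm]
        exact inf_le_right
      apply hna
      apply hT'.comm_of_comm hN
      intro x hx y hy
      obtain ⟨x', hx', rfl⟩ := hle hx
      obtain ⟨y', hy', rfl⟩ := hle hy
      have := hAc.is_comm.comm ⟨x', hx'⟩ ⟨y', hy'⟩
      have h2 := congrArg (fun z : A => ((z : N) : G)) this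
      exact h2
  · intro x y hx hy
    show a * (x * y) = x * y * a
    rw [← mul_assoc, hx, mul_assoc, hy, mul_assoc]
  · intro x hx
    show a * x⁻¹ = x⁻¹ * a
    have hx' : a * x = x * a := hx
    calc a * x⁻¹ = x⁻¹ * (x * a) * x⁻¹ := by group
      _ = x⁻¹ * (a * x) * x⁻¹ := by rw [hx']
      _ = x⁻¹ * a := by group

end Basic

section Action

variable {G : Type*} [Group G] [Finite G] {Ω : Type*} [MulAction G Ω]

/-- Maximality of the stabilizer of `ω` in `H = G_α`, at the level of `G`. -/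
lemma stab_max {α : Ω} (hep : ∀ ω : Ω, IsPreprimitive (stabilizer G α) (orbit (stabilizer G α) ω)) (ω : Ω)
    (L : Subgroup G) (hL : ∀ u ∈ L, u • α = α) (hle : ∀ u : G, u • α = α → u • ω = ω → u ∈ L) :
    (∀ u ∈ L, u • ω = ω) ∨ (∀ u : G, u • α = α → u ∈ L) := by
  rcases stab_coatom ω (hep ω) with h | h
  · right
    intro u hu
    have h1 : (⟨u, hu⟩ : stabilizer G α) ∈ stabilizer (stabilizer G α) ω := by rw [h]; trivial
    exact hle u hu h1
  · let L' : Subgroup (stabilizer G α) := L.subgroupOf (stabilizer G α)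
    have hle' : stabilizer (stabilizer G α) ω ≤ L' := by
      intro u hu
      exact hle u u.2 hu
    by_cases heq : L' = stabilizer (stabilizer G α) ω
    · left
      intro u hu
      have h1 : (⟨u, hL u hu⟩ : stabilizer G α) ∈ L' := hu
      rw [heq] at h1
      exact h1
    · right
      intro u hu
      have h2 := h.2 L' (lt_of_le_of_ne hle' (Ne.symm heq))
      have h1 : (⟨u, hu⟩ : stabilizer G α) ∈ L' := by rw [h2]; trivial
      exact h1

/-- A non-trivial normal subgroup of `G_α` is transitive on each orbit other than `{α}`. -/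
lemma trans_of_normal {α : Ω} (hep : ∀ ω : Ω, IsPreprimitive (stabilizer G α) (orbit (stabilizer G α) ω))
    (hman : ∀ ω, ω ≠ α → ∀ k : G, k • α = α → (∀ g : G, g • α = α → k • (g • ω) = g • ω) → k = 1)
    (B : Subgroup G) (hBH : ∀ b ∈ B, b • α = α) (hBn : ∀ h : G, h • α = α → ∀ b ∈ B, h * b * h⁻¹ ∈ B)
    (hB0 : B ≠ ⊥) {ω : Ω} (hω : ω ≠ α) {h : G} (hh : h • α = α) : ∃ b ∈ B, b • ω = h • ω := by
  let B' : Subgroup (stabilizer G α) := B.subgroupOf (stabilizer G α)
  haveI hB'n : B'.Normal := by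
    constructor
    intro b hb g
    exact hBn g g.2 b hb
  rcases orbit_dichotomy ω (hep ω) B' with h1 | h1
  · exfalso
    apply hB0
    rw [eq_bot_iff]
    intro b hb
    rw [Subgroup.mem_bot]
    apply hman ω hω b (hBH b hb)
    intro g hg
    have h2 : g⁻¹ * b * g ∈ B := by
      have := hBn g⁻¹ (by rw [inv_smul_eq_iff, hg]) b hb
      simpa using this
    have h3 := h1 ⟨g⁻¹ * b * g, by
      show (g⁻¹ * b * g) • α = α
      exact hBH _ h2⟩ h2
    have h4 : (g⁻¹ * b * g) • ω = ω := h3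
    rw [mul_smul, mul_smul, inv_smul_eq_iff] at h4
    exact h4
  · obtain ⟨m, hm, hm2⟩ := h1 (h • ω) ⟨⟨h, hh⟩, rfl⟩
    exact ⟨m, hm, hm2⟩

end Action

section Main

variable {G : Type*} [Group G] [Finite G] {Ω : Type*} [Finite Ω] [MulAction G Ω] [FaithfulSMul G Ω]

/-- Lemma C: a non-commutative minimal normal subgroup with non-trivial centralizer cannot occur. -/
lemma case_centralizer (hprim : IsPreprimitive G Ω) {α : Ω}
    (hep : ∀ ω : Ω, IsPreprimitive (stabilizer G α) (orbit (stabilizer G α) ω))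
    {N : Subgroup G} (hN : IsMinNormal N) (hna : ¬ ∀ x ∈ N, ∀ y ∈ N, x * y = y * x)
    (hC : Subgroup.centralizer (N : Set G) ≠ ⊥) : False := by
  haveI := hN.1
  have hNt := isPretransitive_of_normal hprim N hN.1 hN.2.1
  have hCn := cent_normal N hN.1
  have hCt := isPretransitive_of_normal hprim _ hCn hC
  have hreg : Function.Bijective (fun u : N => (u : G) • α) := by
    constructor
    · intro u v huv
      have h1 : ((v : G)⁻¹ * u) • α = α := by
        rw [mul_smul, inv_smul_eq_iff]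
        exact huv
      have h2 := eq_one_of_commute_of_fixes (Ω := Ω) (Subgroup.centralizer (N : Set G)) hCt
        (x := (v : G)⁻¹ * u) (fun t ht => (Subgroup.mem_centralizer_iff.mp ht _ (N.mul_mem (N.inv_mem v.2) u.2))) h1
      rw [inv_mul_eq_one] at h2
      exact Subtype.ext h2.symm
    · intro ω
      obtain ⟨n, hn⟩ := hNt.exists_smul_eq α ω
      exact ⟨n, hn⟩
  have hsub := no_regular N α hep hreg ?_ ?_ (no_abelian_normal hN hna)
  · apply hN.2.1
    rw [eq_bot_iff]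
    intro x hx
    have := Subsingleton.elim (⟨x, hx⟩ : N) 1
    exact congrArg Subtype.val this
  · rintro ⟨h, hh⟩
    have hh' : h • α = α := hh
    refine ⟨fun u => ⟨h * u * h⁻¹, hN.1.conj_mem u u.2 h⟩, ?_, Or.inl ?_⟩
    · intro u
      show (h * u * h⁻¹) • α = h • (u : G) • α
      rw [mul_smul, mul_smul]
      congr 2
      rw [inv_smul_eq_iff, hh']
    · intro u v
      apply Subtype.ext
      show h * ((u : G) * v) * h⁻¹ = (h * u * h⁻¹) * (h * v * h⁻¹)
      group
  · rintro ⟨r, hr⟩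
    obtain ⟨⟨c, hc⟩, hc2⟩ := hCt.exists_smul_eq α ((r : G)⁻¹ • α)
    have hc2' : c • α = r⁻¹ • α := hc2
    have hb : (r * c) • α = α := by
      rw [mul_smul, hc2', smul_inv_smul]
    refine ⟨⟨r * c, hb⟩, ?_⟩
    intro u
    show (r * c) • (u : G) • α = (r * u * r⁻¹) • α
    have h1 : c * u = u * c := (Subgroup.mem_centralizer_iff.mp hc u u.2).symm
    have h2 : r * u * r⁻¹ * (r * c) = (r * c) * u := by
      calc r * u * r⁻¹ * (r * c) = r * (u * c) := by group
        _ = r * (c * u) := by rw [h1]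
        _ = r * c * u := by group
    rw [← mul_smul, ← h2, mul_smul, hb]

lemma conj_mem_of_finite {K : Subgroup G} {g : G} (h : ∀ k ∈ K, g * k * g⁻¹ ∈ K) : ∀ k ∈ K, g⁻¹ * k * g ∈ K := by
  intro k hk
  have hle : cj g K ≤ K := by
    intro x hx
    have h1 := h _ (mem_cj.mp hx)
    have h2 : g * (g⁻¹ * x * g) * g⁻¹ = x := by group
    rwa [h2] at h1
  have heq : cj g K = K := Subgroup.eq_of_le_of_card_ge hle (by rw [card_cj])
  rw [← heq] at hk
  exact mem_cj.mp hk

/-- There is an element of `G_α` moving `T`, unless `T = N`. -/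
lemma exists_moving (hprim : IsPreprimitive G Ω) (α : Ω) {N T : Subgroup G} (hN : IsMinNormal N)
    (hT : MinIn T N) (hTN : T ≠ N) : ∃ h : G, h • α = α ∧ cj h T ≠ T := by
  by_contra hcon
  push Not at hcon
  have hNt := isPretransitive_of_normal hprim N hN.1 hN.2.1
  have hTn : T.Normal := by
    constructor
    intro t ht g
    obtain ⟨⟨n, hn⟩, hn2⟩ := hNt.exists_smul_eq α (g • α)
    have hn2' : n • α = g • α := hn2
    have h1 : (n⁻¹ * g) • α = α := by
      rw [mul_smul, inv_smul_eq_iff, hn2']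
    have h2 := hcon _ h1
    have h3 : cj g T = T := by
      have : g = n * (n⁻¹ * g) := by group
      rw [this, cj_mul, h2, cj_eq_of_mem hT hn]
    have h4 : g * t * g⁻¹ ∈ cj g T := conj_mem_cj ht
    rwa [h3] at h4
  rcases hN.2.2 T hTn hT.le with h | h
  · exact hT.ne_bot h
  · exact hTN h

/-- Every conjugate of `T` is a conjugate by an element of `G_α`. -/
lemma conj_decomp (hprim : IsPreprimitive G Ω) (α : Ω) {N T : Subgroup G} (hN : IsMinNormal N)
    (hT : MinIn T N) (g : G) : ∃ h : G, h • α = α ∧ cj g T = cj h T := by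
  have hNt := isPretransitive_of_normal hprim N hN.1 hN.2.1
  obtain ⟨⟨n, hn⟩, hn2⟩ := hNt.exists_smul_eq α (g • α)
  have hn2' : n • α = g • α := hn2
  have h1 : (n⁻¹ * g) • α = α := by
    rw [mul_smul, inv_smul_eq_iff, hn2']
  refine ⟨_, h1, ?_⟩
  have h2 : cj g T = cj n (cj (n⁻¹ * g) T) := by
    rw [← cj_mul]
    congr 1
    group
  rw [h2]
  exact cj_eq_of_mem (minIn_cj hN.1 hT _) hn

/-- A non-commutative simple `T` has a non-identity element, and elements of its centre are trivial. -/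
lemma simple_center {N T : Subgroup G} (hN : IsMinNormal N) (hna : ¬ ∀ x ∈ N, ∀ y ∈ N, x * y = y * x)
    (hT : MinIn T N) {z : G} (hz : z ∈ T) (hc : ∀ t ∈ T, t * z = z * t) : z = 1 := by
  apply center_trivial (hT.isSimple hN) ?_ z hz hc
  intro hcomm
  apply hna
  apply hT.comm_of_comm hN
  intro x hx y hy
  have := hcomm.is_comm.comm ⟨x, hx⟩ ⟨y, hy⟩
  exact congrArg Subtype.val this

/-- The key lemma of the case `N ⊓ G_α ≠ ⊥`. -/
lemma E_main (hprim : IsPreprimitive G Ω) {α : Ω}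
    (hep : ∀ ω : Ω, IsPreprimitive (stabilizer G α) (orbit (stabilizer G α) ω))
    (hman : ∀ ω, ω ≠ α → ∀ k : G, k • α = α → (∀ g : G, g • α = α → k • (g • ω) = g • ω) → k = 1)
    {N T₁ : Subgroup G} (hN : IsMinNormal N) (hT₁ : MinIn T₁ N)
    (hB : N ⊓ stabilizer G α ≠ ⊥) {h : G} (hh : h • α = α) (hmove : cj h T₁ ≠ T₁) :
    (∀ t ∈ T₁, t • α = α → t = 1) ∧ (∀ t ∈ T₁, ∃ v ∈ cj h T₁, v • α = t • α) := by
  classical
  have hNt := isPretransitive_of_normal hprim N hN.1 hN.2.1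
  have hcom := (hT₁.cj_dichotomy hN.1 h).resolve_left hmove
  have hT₁' := minIn_cj hN.1 hT₁ h
  have hE1 : ∀ t ∈ T₁, t • α ≠ α → ∃ b ∈ N, b • α = α ∧ (b * t * b⁻¹) • α = (h * t * h⁻¹) • α := by
    intro t _ hne
    obtain ⟨b, hb, hb2⟩ := trans_of_normal hep hman (N ⊓ stabilizer G α) (fun b hb => hb.2)
      (fun g hg b hb => ⟨hN.1.conj_mem b hb.1 g, by
        have hb' : b • α = α := hb.2
        show (g * b * g⁻¹) • α = α
        rw [mul_smul, mul_smul, inv_smul_eq_iff.mpr hg.symm, hb', hg]⟩) hB hne hh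
    have hb' : b • α = α := hb.2
    refine ⟨b, hb.1, hb', ?_⟩
    rw [mul_smul, mul_smul, mul_smul (h * t), mul_smul h,
      inv_smul_eq_iff.mpr hb'.symm, inv_smul_eq_iff.mpr hh.symm, hb2]
  have hE2 : ∀ t ∈ T₁, ∀ k ∈ T₁, k • α = α → (t * k * t⁻¹) • α = α := by
    intro t ht k hk hkα
    by_cases htα : t • α = α
    · rw [mul_smul, mul_smul, inv_smul_eq_iff.mpr htα.symm, hkα, htα]
    obtain ⟨b, hb, hbα, hcd⟩ := hE1 t ht htα
    set c := b * t * b⁻¹ with hc
    set d := h * t * h⁻¹ with hd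
    have hcT : c ∈ T₁ := hT₁.nz b hb t ht
    have hdT : d ∈ cj h T₁ := conj_mem_cj ht
    let K : Subgroup G := T₁ ⊓ stabilizer G α
    have hstep : ∀ k ∈ K, c⁻¹ * k * c⁻¹⁻¹ ∈ K := by
      rintro k ⟨hk1, hk2⟩
      have hk2' : k • α = α := hk2
      rw [inv_inv]
      refine ⟨?_, ?_⟩
      · have := hT₁.nz c⁻¹ (N.inv_mem (hT₁.le hcT)) k hk1
        simpa using this
      · have hy : (c⁻¹ * d) • α = α := by
          rw [mul_smul, inv_smul_eq_iff, hcd]
        have hy2 : (c⁻¹ * d) * k * (c⁻¹ * d)⁻¹ = c⁻¹ * k * c := by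
          have h1 : k * d = d * k := hcom k hk1 d hdT
          calc (c⁻¹ * d) * k * (c⁻¹ * d)⁻¹ = c⁻¹ * (d * k) * d⁻¹ * c := by group
            _ = c⁻¹ * (k * d) * d⁻¹ * c := by rw [h1]
            _ = c⁻¹ * k * c := by group
        show (c⁻¹ * k * c) • α = α
        rw [← hy2, mul_smul, mul_smul, inv_smul_eq_iff.mpr hy.symm, hk2', hy]
    have hstep2 : ∀ k ∈ K, c * k * c⁻¹ ∈ K := by
      intro k hk
      have := conj_mem_of_finite hstep k hk
      simpa using this
    have hbK : ∀ k ∈ K, b * k * b⁻¹ ∈ K := by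
      rintro k ⟨hk1, hk2⟩
      have hk2' : k • α = α := hk2
      refine ⟨hT₁.nz b hb k hk1, ?_⟩
      show (b * k * b⁻¹) • α = α
      rw [mul_smul, mul_smul, inv_smul_eq_iff.mpr hbα.symm, hk2', hbα]
    have hbK2 := conj_mem_of_finite hbK
    have h1 : t * k * t⁻¹ = b⁻¹ * (c * (b * k * b⁻¹) * c⁻¹) * b := by
      rw [hc]; group
    have h2 : t * k * t⁻¹ ∈ K := by
      rw [h1]
      exact hbK2 _ (hstep2 _ (hbK k ⟨hk, hkα⟩))
    exact h2.2
  have hs := hT₁.isSimple hN
  have hK'n : ((stabilizer G α).subgroupOf T₁).Normal := by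
    constructor
    rintro ⟨k, hk⟩ hk2 ⟨t, ht⟩
    exact hE2 t ht k hk hk2
  have hfirst : ∀ t ∈ T₁, t • α = α → t = 1 := by
    rcases hs.eq_bot_or_eq_top_of_normal _ hK'n with h1 | h1
    · intro t ht htα
      have h2 : (⟨t, ht⟩ : T₁) ∈ (stabilizer G α).subgroupOf T₁ := htα
      rw [h1, Subgroup.mem_bot] at h2
      exact congrArg Subtype.val h2
    · exfalso
      apply hT₁.ne_bot
      rw [eq_bot_iff]
      intro t ht
      rw [Subgroup.mem_bot]
      apply FaithfulSMul.eq_of_smul_eq_smul (α := Ω)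
      intro ω
      obtain ⟨⟨n, hn⟩, hn2⟩ := hNt.exists_smul_eq α ω
      have hn2' : n • α = ω := hn2
      rw [one_smul, ← hn2']
      have h3 : n⁻¹ * t * n ∈ T₁ := by
        have := hT₁.nz n⁻¹ (N.inv_mem hn) t ht
        simpa using this
      have h4 : (⟨n⁻¹ * t * n, h3⟩ : T₁) ∈ (stabilizer G α).subgroupOf T₁ := by rw [h1]; trivial
      have h5 : (n⁻¹ * t * n) • α = α := h4
      rw [mul_smul, mul_smul, inv_smul_eq_iff] at h5
      exact h5
  refine ⟨hfirst, ?_⟩
  intro t ht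
  by_cases ht1 : t = 1
  · exact ⟨1, Subgroup.one_mem _, by rw [ht1]⟩
  have htα : t • α ≠ α := fun h0 => ht1 (hfirst t ht h0)
  obtain ⟨b, hb, hbα, hcd⟩ := hE1 t ht htα
  refine ⟨b⁻¹ * (h * t * h⁻¹) * b, ?_, ?_⟩
  · have := hT₁'.nz b⁻¹ (N.inv_mem hb) _ (conj_mem_cj ht (a := h))
    simpa using this
  · rw [mul_smul, mul_smul, hbα, ← hcd]
    have h1 : b⁻¹ • (b * t * b⁻¹) • α = t • b⁻¹ • α := by
      rw [← mul_smul, ← mul_smul]
      congr 1
      group
    rw [h1, inv_smul_eq_iff.mpr hbα.symm]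

/-- Lemma E: the case `N ⊓ G_α ≠ ⊥`. -/
lemma case_nonregular (hprim : IsPreprimitive G Ω)
    (hepa : ∀ (α ω : Ω), IsPreprimitive (stabilizer G α) (orbit (stabilizer G α) ω)) {α : Ω}
    {N T : Subgroup G} (hN : IsMinNormal N) (hna : ¬ ∀ x ∈ N, ∀ y ∈ N, x * y = y * x)
    (hT : MinIn T N) (hTN : T ≠ N) (hB : N ⊓ stabilizer G α ≠ ⊥) : False := by
  classical
  have hep := hepa α
  have hman : ∀ ω, ω ≠ α → ∀ k : G, k • α = α → (∀ g : G, g • α = α → k • (g • ω) = g • ω) → k = 1 :=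
    fun ω hω k hk hfix => manning hprim hepa hω hk hfix
  have hNt := isPretransitive_of_normal hprim N hN.1 hN.2.1
  obtain ⟨h₀, hh₀, hmove⟩ := exists_moving hprim α hN hT hTN
  have hT' := minIn_cj hN.1 hT h₀
  have hinv₀ : h₀⁻¹ • α = α := inv_smul_eq_iff.mpr hh₀.symm
  have hmove' : cj h₀⁻¹ (cj h₀ T) ≠ cj h₀ T := by
    rw [cj_inv_cj]
    exact hmove.symm
  obtain ⟨h1, h2⟩ := E_main hprim hep hman hN hT hB hh₀ hmove
  obtain ⟨-, h3⟩ := E_main hprim hep hman hN hT' hB hinv₀ hmove'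
  rw [cj_inv_cj] at h3
  have hcom := (hT.cj_dichotomy hN.1 h₀).resolve_left hmove
  have hnc : ¬ ∀ x ∈ T, ∀ y ∈ T, x * y = y * x := fun hc => hna (hT.comm_of_comm hN hc)
  have htwo : ∀ h : G, h • α = α → cj h T = T ∨ cj h T = cj h₀ T := by
    intro h hh
    by_contra hcon
    push Not at hcon
    obtain ⟨hc1, hc2⟩ := hcon
    obtain ⟨-, h4⟩ := E_main hprim hep hman hN hT hB hh hc1
    apply hnc
    intro a ha b hb
    obtain ⟨a₁, ha₁, ha₂⟩ := h2 a⁻¹ (T.inv_mem ha)
    obtain ⟨b₂, hb₂, hb₃⟩ := h4 b⁻¹ (T.inv_mem hb)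
    have e1 : (a * a₁) • α = α := by rw [mul_smul, ha₂, smul_inv_smul]
    have e2 : (b * b₂) • α = α := by rw [mul_smul, hb₃, smul_inv_smul]
    have hc12 : ∀ x ∈ cj h₀ T, ∀ y ∈ cj h T, x * y = y * x := by
      have hd := (hT'.cj_dichotomy hN.1 (h * h₀⁻¹)).resolve_left (by
        rw [cj_mul, cj_inv_cj]
        exact hc2)
      rw [cj_mul, cj_inv_cj] at hd
      exact hd
    have hcom2 := (hT.cj_dichotomy hN.1 h).resolve_left hc1
    have c1 : Commute a₁ (b * b₂) :=
      Commute.mul_right (hcom b hb a₁ ha₁).symm (hc12 a₁ ha₁ b₂ hb₂)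
    have c2 : Commute a b₂ := hcom2 a ha b₂ hb₂
    have hcomm : (a * a₁) * (b * b₂) * (a * a₁)⁻¹ * (b * b₂)⁻¹ = a * b * a⁻¹ * b⁻¹ := by
      have f1 : a₁ * (b * b₂) * a₁⁻¹ = b * b₂ := by
        rw [c1.eq, mul_inv_cancel_right]
      have f2 : b₂ * a⁻¹ * b₂⁻¹ = a⁻¹ := by
        rw [(c2.inv_left).symm.eq, mul_inv_cancel_right]
      calc (a * a₁) * (b * b₂) * (a * a₁)⁻¹ * (b * b₂)⁻¹
          = a * (a₁ * (b * b₂) * a₁⁻¹) * a⁻¹ * (b * b₂)⁻¹ := by group
        _ = a * b * (b₂ * a⁻¹ * b₂⁻¹) * b⁻¹ := by rw [f1]; group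
        _ = a * b * a⁻¹ * b⁻¹ := by rw [f2]
    have hfix : (a * b * a⁻¹ * b⁻¹) • α = α := by
      rw [← hcomm, mul_smul, mul_smul, mul_smul, inv_smul_eq_iff.mpr e2.symm,
        inv_smul_eq_iff.mpr e1.symm, e2, e1]
    have hone := h1 _ (T.mul_mem (T.mul_mem (T.mul_mem ha hb) (T.inv_mem ha)) (T.inv_mem hb)) hfix
    calc a * b = (a * b * a⁻¹ * b⁻¹) * (b * a) := by group
      _ = b * a := by rw [hone, one_mul]
  have hall : ∀ g : G, cj g T = T ∨ cj g T = cj h₀ T := by
    intro g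
    obtain ⟨h, hh, he⟩ := conj_decomp hprim α hN hT g
    rw [he]
    exact htwo h hh
  -- `T` is transitive
  have hTt : ∀ ω : Ω, ∃ u ∈ T, u • α = ω := by
    let A : Ω → Prop := fun ω => ∃ u ∈ T, u • α = ω
    have hQ : ∀ n ∈ N, ∀ ω, A ω ↔ A (n • ω) := by
      refine hT.induction hN (Q := fun n => ∀ ω, A ω ↔ A (n • ω)) ?_ ?_ ?_ ?_
      · intro g x hx ω
        have hTstep : ∀ y ∈ T, ∀ ω, A ω → A (y • ω) := by
          rintro y hy _ ⟨u, hu, rfl⟩
          exact ⟨y * u, T.mul_mem hy hu, mul_smul _ _ _⟩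
        have hT'step : ∀ y ∈ cj h₀ T, ∀ ω, A ω → A (y • ω) := by
          rintro y hy _ ⟨u, hu, rfl⟩
          obtain ⟨t, ht, ht2⟩ := h3 y hy
          refine ⟨u * t, T.mul_mem hu ht, ?_⟩
          rw [mul_smul, ht2, ← mul_smul, ← mul_smul, hcom u hu y hy]
        rcases hall g with hg | hg
        · rw [hg] at hx
          refine ⟨hTstep x hx ω, fun h5 => ?_⟩
          have := hTstep x⁻¹ (T.inv_mem hx) _ h5
          rwa [inv_smul_smul] at this
        · rw [hg] at hx
          refine ⟨hT'step x hx ω, fun h5 => ?_⟩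
          have := hT'step x⁻¹ ((cj h₀ T).inv_mem hx) _ h5
          rwa [inv_smul_smul] at this
      · intro ω
        rw [one_smul]
      · intro x y hx hy ω
        rw [mul_smul, ← hx, ← hy]
      · intro x hx ω
        have := hx (x⁻¹ • ω)
        rw [smul_inv_smul] at this
        exact this.symm
    intro ω
    obtain ⟨⟨n, hn⟩, hn2⟩ := hNt.exists_smul_eq α ω
    have hn2' : n • α = ω := hn2
    rw [← hn2']
    exact (hQ n hn α).mp ⟨1, T.one_mem, one_smul _ _⟩
  have hreg : Function.Bijective (fun u : T => (u : G) • α) := by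
    constructor
    · intro u v huv
      have h5 : ((v : G)⁻¹ * u) • α = α := by
        rw [mul_smul, inv_smul_eq_iff]
        exact huv
      have h6 := h1 _ (T.mul_mem (T.inv_mem v.2) u.2) h5
      rw [inv_mul_eq_one] at h6
      exact Subtype.ext h6.symm
    · intro ω
      obtain ⟨u, hu, hu2⟩ := hTt ω
      exact ⟨⟨u, hu⟩, hu2⟩
  have hsub := no_regular T α hep hreg ?_ ?_ ?_
  · apply hT.ne_bot
    rw [eq_bot_iff]
    intro x hx
    have := Subsingleton.elim (⟨x, hx⟩ : T) 1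
    exact congrArg Subtype.val this
  · rintro ⟨h, hh⟩
    have hh' : h • α = α := hh
    have hhi : h⁻¹ • α = α := inv_smul_eq_iff.mpr hh'.symm
    rcases htwo h hh' with hc | hc
    · have hmem : ∀ u : T, h * u * h⁻¹ ∈ T := by
        intro u
        have : h * u * h⁻¹ ∈ cj h T := conj_mem_cj u.2
        rwa [hc] at this
      refine ⟨fun u => ⟨h * u * h⁻¹, hmem u⟩, ?_, Or.inl ?_⟩
      · intro u
        show (h * u * h⁻¹) • α = h • (u : G) • α
        rw [mul_smul, mul_smul, hhi]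
      · intro u v
        apply Subtype.ext
        show h * ((u : G) * v) * h⁻¹ = (h * u * h⁻¹) * (h * v * h⁻¹)
        group
    · have hmem : ∀ u : T, h * u * h⁻¹ ∈ cj h₀ T := by
        intro u
        have : h * u * h⁻¹ ∈ cj h T := conj_mem_cj u.2
        rwa [hc] at this
      have hex : ∀ u : T, ∃ t : T, (t : G) • α = (h * u * h⁻¹) • α := by
        intro u
        obtain ⟨t, ht, ht2⟩ := h3 _ (hmem u)
        exact ⟨⟨t, ht⟩, ht2⟩
      choose φ hφ using hex
      refine ⟨φ, ?_, Or.inr ?_⟩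
      · intro u
        rw [hφ, mul_smul, mul_smul, hhi]
      · intro u v
        apply hreg.1
        show (φ (u * v) : G) • α = ((φ v : G) * (φ u : G)) • α
        rw [hφ]
        have hy1 : ((φ u : G)⁻¹ * (h * u * h⁻¹)) • α = α := by
          rw [mul_smul, ← hφ, inv_smul_smul]
        have hy2 : ((φ v : G)⁻¹ * (h * v * h⁻¹)) • α = α := by
          rw [mul_smul, ← hφ, inv_smul_smul]
        have hcm : (h * u * h⁻¹) * (φ v : G)⁻¹ = (φ v : G)⁻¹ * (h * u * h⁻¹) :=
          (hcom _ (T.inv_mem (φ v).2) _ (hmem u)).symm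
        have hprod : ((φ u : G)⁻¹ * (h * u * h⁻¹)) * ((φ v : G)⁻¹ * (h * v * h⁻¹)) =
            ((φ v : G) * (φ u : G))⁻¹ * (h * ((u * v : T) : G) * h⁻¹) := by
          have h6 : (h * ((u * v : T) : G) * h⁻¹) = (h * u * h⁻¹) * (h * v * h⁻¹) := by
            rw [Subgroup.coe_mul]; group
          rw [h6, mul_inv_rev]
          calc ((φ u : G)⁻¹ * (h * u * h⁻¹)) * ((φ v : G)⁻¹ * (h * v * h⁻¹))
              = (φ u : G)⁻¹ * ((h * u * h⁻¹) * (φ v : G)⁻¹) * (h * v * h⁻¹) := by group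
            _ = (φ u : G)⁻¹ * ((φ v : G)⁻¹ * (h * u * h⁻¹)) * (h * v * h⁻¹) := by rw [hcm]
            _ = _ := by group
        have hfix : (((φ v : G) * (φ u : G))⁻¹ * (h * ((u * v : T) : G) * h⁻¹)) • α = α := by
          rw [← hprod, mul_smul, hy2, hy1]
        rw [mul_smul, inv_smul_eq_iff] at hfix
        rw [hfix]
  · rintro ⟨r, hr⟩
    obtain ⟨v, hv, hv2⟩ := h2 r⁻¹ (T.inv_mem hr)
    have hb : (r * v) • α = α := by rw [mul_smul, hv2, smul_inv_smul]
    refine ⟨⟨r * v, hb⟩, fun u => ?_⟩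
    show (r * v) • (u : G) • α = (r * u * r⁻¹) • α
    have h5 : (u : G) * v = v * u := hcom u u.2 v hv
    rw [← mul_smul, mul_assoc, ← h5, ← mul_assoc, mul_smul, hv2]
    rw [← mul_smul]
  · intro A hA hAc
    rcases (hT.isSimple hN).eq_bot_or_eq_top_of_normal A hA with h5 | h5
    · exact h5
    · exfalso
      apply hnc
      intro x hx y hy
      have hxA : (⟨x, hx⟩ : T) ∈ A := by rw [h5]; trivial
      have hyA : (⟨y, hy⟩ : T) ∈ A := by rw [h5]; trivial
      have := hAc.is_comm.comm ⟨_, hxA⟩ ⟨_, hyA⟩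
      exact congrArg (fun z : A => ((z : T) : G)) this

/-- Lemma D: the case where `N` is regular and not simple, with trivial centralizer. -/
lemma case_regular (hprim : IsPreprimitive G Ω)
    (hepa : ∀ (α ω : Ω), IsPreprimitive (stabilizer G α) (orbit (stabilizer G α) ω)) {α : Ω}
    {N T : Subgroup G} (hN : IsMinNormal N) (hna : ¬ ∀ x ∈ N, ∀ y ∈ N, x * y = y * x)
    (hC : Subgroup.centralizer (N : Set G) = ⊥)
    (hT : MinIn T N) (hTN : T ≠ N) (hreg : ∀ n ∈ N, n • α = α → n = 1) : False := by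
  classical
  have hep := hepa α
  have hman : ∀ ω, ω ≠ α → ∀ k : G, k • α = α → (∀ g : G, g • α = α → k • (g • ω) = g • ω) → k = 1 :=
    fun ω hω k hk hfix => manning hprim hepa hω hk hfix
  obtain ⟨h₀, hh₀, hmove⟩ := exists_moving hprim α hN hT hTN
  have hminT : ∀ g, MinIn (cj g T) N := minIn_cj hN.1 hT
  -- `u ∈ H` fixes `x • α` iff it commutes with `x`
  have hfixiff : ∀ u : G, u • α = α → ∀ x ∈ N, u • x • α = x • α → u * x = x * u := by
    intro u hu x hx h1
    have h2 : (x⁻¹ * (u * x * u⁻¹)) • α = α := by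
      rw [mul_smul, inv_smul_eq_iff, mul_smul, mul_smul, inv_smul_eq_iff.mpr hu.symm, h1]
    have h3 := hreg _ (N.mul_mem (N.inv_mem hx) (hN.1.conj_mem x hx u)) h2
    rw [inv_mul_eq_one] at h3
    calc u * x = (u * x * u⁻¹) * u := by group
      _ = x * u := by rw [← h3]
  have hfixiff2 : ∀ u : G, u • α = α → ∀ x : G, u * x = x * u → u • x • α = x • α := by
    intro u hu x h1
    rw [← mul_smul, h1, mul_smul, hu]
  -- fact1
  have fact1 : ∀ (T' : Subgroup G), MinIn T' N → ∀ x ∈ T', x ≠ 1 → ∀ u : G, u * x = x * u → cj u T' = T' := by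
    intro T' hT' x hx hx1 u hu
    by_contra hne
    have hd := (hT'.cj_dichotomy hN.1 u).resolve_left hne
    have h1 : x ∈ cj u T' := by
      have := conj_mem_cj (a := u) hx
      rwa [hu, mul_inv_cancel_right] at this
    exact hx1 (simple_center hN hna hT' hx (fun t ht => hd t ht x h1))
  -- the stabilizer of a component in `H`
  let Lof : Subgroup G → Subgroup G := fun T' =>
    { carrier := {u | u • α = α ∧ cj u T' = T'}
      one_mem' := ⟨one_smul _ _, cj_one _⟩
      mul_mem' := by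
        rintro a b ⟨ha1, ha2⟩ ⟨hb1, hb2⟩
        refine ⟨by rw [mul_smul, hb1, ha1], ?_⟩
        rw [cj_mul, hb2, ha2]
      inv_mem' := by
        rintro a ⟨ha1, ha2⟩
        refine ⟨inv_smul_eq_iff.mpr ha1.symm, ?_⟩
        conv_lhs => rw [← ha2]
        exact cj_inv_cj a _ }
  have hLmem : ∀ T' u, u ∈ Lof T' ↔ (u • α = α ∧ cj u T' = T') := fun _ _ => Iff.rfl
  -- D1
  have D1 : ∀ T' : Subgroup G, MinIn T' N → (∃ h : G, h • α = α ∧ cj h T' ≠ T') →
      ∀ u ∈ Lof T', ∀ x ∈ T', u * x = x * u := by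
    intro T' hT' hex u hu x hx
    by_cases hx1 : x = 1
    · simp [hx1]
    have hxN : x ∈ N := hT'.le hx
    rcases stab_max hep (x • α) (Lof T') (fun v hv => hv.1) (fun v hv hvx =>
      ⟨hv, fact1 T' hT' x hx hx1 v (hfixiff v hv x hxN hvx)⟩) with h1 | h1
    · exact hfixiff u hu.1 x hxN (h1 u hu)
    · obtain ⟨h, hh, hne⟩ := hex
      exact absurd (h1 h hh).2 hne
  -- two elements of distinct prime orders
  have hprimes : ∀ (g : G), cj g T ≠ T → ∃ x ∈ T, ∃ x' ∈ cj g T, (orderOf x).Prime ∧ (orderOf x').Prime ∧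
      orderOf x ≠ orderOf x' := by
    intro g _
    have hs1 := hT.isSimple hN
    have hs2 := (hminT g).isSimple hN
    have hc1 : ¬ IsMulCommutative T := by
      intro hcomm
      apply hna
      apply hT.comm_of_comm hN
      intro x hx y hy
      exact congrArg Subtype.val (hcomm.is_comm.comm ⟨x, hx⟩ ⟨y, hy⟩)
    have hc2 : ¬ IsMulCommutative (cj g T) := by
      intro hcomm
      apply hna
      apply (hminT g).comm_of_comm hN
      intro x hx y hy
      exact congrArg Subtype.val (hcomm.is_comm.comm ⟨x, hx⟩ ⟨y, hy⟩)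
    obtain ⟨y1, hy1, -⟩ := exists_prime_order_ne hs1 hc1 2 Nat.prime_two
    obtain ⟨y2, hy2, hy3⟩ := exists_prime_order_ne hs2 hc2 _ hy1
    refine ⟨y1, y1.2, y2, y2.2, ?_, ?_, ?_⟩
    · rwa [Subgroup.orderOf_coe]
    · rwa [Subgroup.orderOf_coe]
    · rw [Subgroup.orderOf_coe, Subgroup.orderOf_coe]
      exact hy3.symm
  have hprod : ∀ {x x' : G}, x ∈ N → x' ∈ N → (orderOf x).Prime → (orderOf x').Prime → orderOf x ≠ orderOf x' → x * x' = x' * x →
      x * x' ∈ N ∧ x * x' ≠ 1 := by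
    intro x x' hx hx' hp hq hne hc
    refine ⟨N.mul_mem hx hx', ?_⟩
    intro h1
    have h2 : x' = x⁻¹ := eq_inv_of_mul_eq_one_right h1
    rw [h2, orderOf_inv] at hne
    exact hne rfl
  -- D2 : `L(T)` fixes each component
  have D2 : ∀ h : G, h • α = α → cj h T ≠ T → ∀ u ∈ Lof T, cj u (cj h T) = cj h T := by
    intro h hh hne u hu
    obtain ⟨x, hx, x', hx', hp, hq, hpq⟩ := hprimes h hne
    have hc : x * x' = x' * x := ((hT.cj_dichotomy hN.1 h).resolve_left hne) x hx x' hx'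
    obtain ⟨hyN, hy1⟩ := hprod (hT.le hx) ((hminT h).le hx') hp hq hpq hc
    have hx1 : x ≠ 1 := by
      rintro rfl
      rw [orderOf_one] at hp
      exact Nat.not_prime_one hp
    have hx'1 : x' ≠ 1 := by
      rintro rfl
      rw [orderOf_one] at hq
      exact Nat.not_prime_one hq
    rcases stab_max hep ((x * x') • α) (Lof T) (fun v hv => hv.1) (fun v hv hvx => by
      have h1 := hfixiff v hv _ hyN hvx
      have h2 : v * x = x * v := by
        apply comm_of_prod hc.symm rfl rfl hq hp hpq.symm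
        rw [← hc]
        exact h1
      exact ⟨hv, fact1 T hT x hx hx1 v h2⟩) with h1 | h1
    · have h2 := hfixiff u hu.1 _ hyN (h1 u hu)
      have h3 : u * x' = x' * u := comm_of_prod hc rfl rfl hp hq hpq h2
      exact fact1 _ (hminT h) x' hx' hx'1 u h3
    · exact absurd (h1 h hh).2 hne
  -- so `L(T)` centralizes `N`
  have hLbot : ∀ u ∈ Lof T, u = 1 := by
    intro u hu
    have hcomp : ∀ g : G, ∀ x ∈ cj g T, u * x = x * u := by
      intro g x hx
      obtain ⟨h, hh, he⟩ := conj_decomp hprim α hN hT g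
      rw [he] at hx
      have hmin := hminT h
      have hex : ∃ h' : G, h' • α = α ∧ cj h' (cj h T) ≠ cj h T := by
        refine ⟨h * h₀ * h⁻¹, ?_, ?_⟩
        · rw [mul_smul, mul_smul, inv_smul_eq_iff.mpr hh.symm, hh₀, hh]
        · rw [← cj_mul]
          have h1 : h * h₀ * h⁻¹ * h = h * h₀ := by group
          rw [h1, cj_mul]
          intro h2
          apply hmove
          have h3 := congrArg (cj h⁻¹) h2
          rwa [cj_inv_cj, cj_inv_cj] at h3
      have hu2 : u ∈ Lof (cj h T) := by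
        refine ⟨hu.1, ?_⟩
        by_cases hne : cj h T = T
        · rw [hne]
          exact hu.2
        · exact D2 h hh hne u hu
      exact D1 _ hmin hex u hu2 x hx
    have hu3 : u ∈ Subgroup.centralizer (N : Set G) := by
      rw [Subgroup.mem_centralizer_iff]
      intro n hn
      refine (hT.induction hN (Q := fun n => n * u = u * n) (fun g x hx => (hcomp g x hx).symm) (by simp) ?_ ?_ n hn)
      · intro x y hx hy
        show x * y * u = u * (x * y)
        rw [mul_assoc, hy, ← mul_assoc, hx, mul_assoc]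
      · intro x hx
        show x⁻¹ * u = u * x⁻¹
        have hx' : x * u = u * x := hx
        calc x⁻¹ * u = x⁻¹ * (u * x) * x⁻¹ := by group
          _ = x⁻¹ * (x * u) * x⁻¹ := by rw [hx']
          _ = u * x⁻¹ := by group
    rw [hC] at hu3
    exact hu3
  have hh₀1 : h₀ ≠ 1 := by
    rintro rfl
    exact hmove (cj_one T)
  -- `H` is cyclic
  obtain ⟨⟨x, hxT⟩, hx1⟩ := (Subgroup.ne_bot_iff_exists_ne_one.mp hT.ne_bot)
  have hx1' : x ≠ 1 := fun h => hx1 (Subtype.ext h)
  have hxN : x ∈ N := hT.le hxT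
  have hzp : ∀ v ∈ Subgroup.zpowers h₀, v • α = α := by
    rintro _ ⟨k, rfl⟩
    exact (stabilizer G α).zpow_mem (show h₀ ∈ stabilizer G α from hh₀) k
  rcases stab_max hep (x • α) (Subgroup.zpowers h₀) hzp (fun v hv hvx => by
      have h1 := hfixiff v hv x hxN hvx
      have h2 := hLbot v ⟨hv, fact1 T hT x hxT hx1' v h1⟩
      rw [h2]
      exact Subgroup.one_mem _) with h1 | hcyc
  · exfalso
    have h2 := hfixiff h₀ hh₀ x hxN (h1 h₀ (Subgroup.mem_zpowers _))
    exact hh₀1 (hLbot h₀ ⟨hh₀, fact1 T hT x hxT hx1' h₀ h2⟩)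
  have hmv : ∀ i : ℕ, 0 < i → i < orderOf h₀ → cj (h₀ ^ i) T ≠ T := by
    intro i hi hi2 he
    have h1 : (h₀ ^ i) • α = α := hzp _ (Subgroup.npow_mem_zpowers h₀ i)
    exact pow_ne_one_of_lt_orderOf hi.ne' hi2 (hLbot _ ⟨h1, he⟩)
  have hw : ∀ k : ℕ, 1 ≤ k → k ≤ orderOf h₀ → ∃ z : G, (∀ t ∈ T, t * z = z * t) ∧
      (x * h₀) ^ k * (h₀ ^ k)⁻¹ = x * z ∧ x * z ∈ N := by
    intro k hk
    induction k, hk using Nat.le_induction with
    | base =>
      intro _
      exact ⟨1, by simp, by simp, by simpa using hxN⟩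
    | succ k hk ih =>
      intro hk2
      obtain ⟨z, hz1, hz2, hz3⟩ := ih (by omega)
      have hmem : h₀ ^ k * x * (h₀ ^ k)⁻¹ ∈ cj (h₀ ^ k) T := conj_mem_cj hxT
      have hd := (hT.cj_dichotomy hN.1 (h₀ ^ k)).resolve_left (hmv k (by omega) (by omega))
      refine ⟨z * (h₀ ^ k * x * (h₀ ^ k)⁻¹), ?_, ?_, ?_⟩
      · intro t ht
        have h1 := hd t ht _ hmem
        rw [← mul_assoc, hz1 t ht, mul_assoc, h1, ← mul_assoc]
      · have h2 : (x * h₀) ^ (k + 1) * (h₀ ^ (k + 1))⁻¹ =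
            ((x * h₀) ^ k * (h₀ ^ k)⁻¹) * (h₀ ^ k * x * (h₀ ^ k)⁻¹) := by
          rw [pow_succ, pow_succ]
          group
        rw [h2, hz2, mul_assoc]
      · have h2 : x * (z * (h₀ ^ k * x * (h₀ ^ k)⁻¹)) = (x * z) * (h₀ ^ k * x * (h₀ ^ k)⁻¹) := by group
        rw [h2]
        exact N.mul_mem hz3 (hN.1.conj_mem x hxN _)
  obtain ⟨z, hz1, hz2, hz3⟩ := hw (orderOf h₀) (by
      have h1 : orderOf h₀ ≠ 0 := (orderOf_pos h₀).ne'
      omega) le_rfl
  rw [pow_orderOf_eq_one, inv_one, mul_one] at hz2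
  set y := (x * h₀) ^ orderOf h₀ with hy
  have hyx : y * x = x * y := by
    rw [hz2, mul_assoc, ← hz1 x hxT]
  have hyc : y * (x * h₀) = (x * h₀) * y := by
    rw [hy, ← pow_succ, ← pow_succ']
  have hyh : y * h₀ = h₀ * y := by
    have h1 : x * (y * h₀) = x * (h₀ * y) := by
      rw [← mul_assoc, ← hyx, mul_assoc, hyc, mul_assoc]
    exact mul_left_cancel h1
  have hy1 : y ≠ 1 := by
    intro h1
    rw [hz2] at h1
    have h2 : z = x⁻¹ := eq_inv_of_mul_eq_one_right h1
    apply hx1'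
    apply simple_center hN hna hT hxT
    intro t ht
    have h3 := hz1 t ht
    rw [h2] at h3
    calc t * x = x * (x⁻¹ * t) * x := by group
      _ = x * (t * x⁻¹) * x := by rw [h3]
      _ = x * t := by group
  have hyN : y ∈ N := by rw [hz2]; exact hz3
  have hω : y • α ≠ α := fun h1 => hy1 (hreg y hyN h1)
  have hcomy : ∀ g : G, g • α = α → g • y • α = y • α := by
    intro g hg
    obtain ⟨k, rfl⟩ := hcyc g hg
    apply hfixiff2 _ hg
    exact ((show Commute y h₀ from hyh).zpow_right k).symm.eq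
  apply hh₀1
  apply hman _ hω h₀ hh₀
  intro g hg
  rw [hcomy g hg, hcomy h₀ hh₀]

/-- An extremely primitive group: the main statement. -/
theorem main_thm [Nontrivial Ω] (hprim : IsPreprimitive G Ω)
    (hep : ∀ (α ω : Ω), IsPreprimitive (stabilizer G α) (orbit (stabilizer G α) ω)) :
    (∃ N : Subgroup G, N.Normal ∧ N ≠ ⊥ ∧ IsMulCommutative N ∧ ∀ ω : Ω, stabilizer N ω = ⊥) ∨
    (∃ T : Subgroup G, T.Normal ∧ IsSimpleGroup T ∧ ¬ IsMulCommutative T ∧ Subgroup.centralizer (T : Set G) = ⊥) := by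
  classical
  obtain ⟨α, β, hαβ⟩ := exists_pair_ne Ω
  haveI : Nontrivial G := by
    obtain ⟨g, hg⟩ := hprim.exists_smul_eq α β
    refine ⟨⟨g, 1, ?_⟩⟩
    rintro rfl
    rw [one_smul] at hg
    exact hαβ hg
  obtain ⟨N, hN⟩ := exists_minNormal (G := G)
  have hNt := isPretransitive_of_normal hprim N hN.1 hN.2.1
  by_cases hc : ∀ x ∈ N, ∀ y ∈ N, x * y = y * x
  · left
    refine ⟨N, hN.1, hN.2.1, ⟨⟨?_⟩⟩, fun ω => stabilizer_eq_bot_of_comm N hc hNt ω⟩
    rintro ⟨a, ha⟩ ⟨b, hb⟩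
    exact Subtype.ext (hc a ha b hb)
  by_cases hC : Subgroup.centralizer (N : Set G) = ⊥
  · obtain ⟨T, hT⟩ := exists_minIn N hN.2.1
    by_cases hTN : T = N
    · right
      refine ⟨T, hTN ▸ hN.1, hT.isSimple hN, ?_, hTN ▸ hC⟩
      intro hcomm
      apply hc
      rw [← hTN]
      intro x hx y hy
      exact congrArg Subtype.val (hcomm.is_comm.comm ⟨x, hx⟩ ⟨y, hy⟩)
    · exfalso
      by_cases hB : N ⊓ stabilizer G α = ⊥
      · apply case_regular hprim hep hN hc hC hT hTN (α := α)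
        intro n hn hnα
        have : n ∈ N ⊓ stabilizer G α := ⟨hn, hnα⟩
        rw [hB] at this
        exact this
      · exact case_nonregular hprim hep hN hc hT hTN hB
  · exact (case_centralizer hprim (hep α) hN hc hC).elim

end Main

/-- An extremely primitive permutation group is of affine type or almost simple. Let a finite group G act faithfully and primitively on a finite set Ω with at least two points, in such a way that every point stabilizer acts primitively on each of its own orbits in Ω (an orbit of size one counts as primitive). Then either G has a non-trivial abelian normal subgroup whose elements other than the identity fix no point (affine type), or G has a non-abelian simple normal subgroup with trivial centralizer (almost simple). -/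
theorem result {G : Type*} [Group G] [Finite G] {Ω : Type*} [Fintype Ω] [MulAction G Ω] [FaithfulSMul G Ω] (hΩ : 2 ≤ Fintype.card Ω) (hprim : MulAction.IsPreprimitive G Ω) (hep : ∀ (α : Ω) (ω : Ω), MulAction.IsPreprimitive (MulAction.stabilizer G α) (MulAction.orbit (MulAction.stabilizer G α) ω)) :
    (∃ N : Subgroup G, N.Normal ∧ N ≠ ⊥ ∧ IsMulCommutative N ∧ ∀ ω : Ω, MulAction.stabilizer N ω = ⊥) ∨ (∃ T : Subgroup G, T.Normal ∧ IsSimpleGroup T ∧ ¬ IsMulCommutative T ∧ Subgroup.centralizer (T : Set G) = ⊥) := by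
  haveI : Nontrivial Ω := Fintype.one_lt_card_iff_nontrivial.mp hΩ
  exact main_thm hprim hep

end Cfsg.Agent.S3493
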