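import Mathlib
import Cfsg.Statements.S3520
import Cfsg.Agent.Lib.MinNormalPrim

set_option autoImplicit false
set_option linter.all false
open Cfsg

namespace Cfsg.Agent.S3520

open Cfsg.Agent.Lib.MinNormalPrim Cfsg.Agent.Lib.Derangement MulAction

universe u v

section General

variable {G : Type u} {Ω : Type v} [Group G] [MulAction G Ω]

theorem orderOf_eq_of_isConj {a b : G} (h : IsConj a b) : orderOf a = orderOf b := by
  obtain ⟨c, hc⟩ := isConj_iff.mp h
  rw [← hc]
  exact ((MulAut.conj c).orderOf_eq a).symm

/-- The number of derangement classes bounds non conjugate derangements. -/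
theorem no_three [Finite G]
    (hκ : Nat.card {c : ConjClasses G // ∃ g : G, ConjClasses.mk g = c ∧ ∀ ω : Ω, g • ω ≠ ω} = 2)
    {x y z : G} (hx : ∀ ω : Ω, x • ω ≠ ω) (hy : ∀ ω : Ω, y • ω ≠ ω) (hz : ∀ ω : Ω, z • ω ≠ ω)
    (hxy : ¬ IsConj x y) (hxz : ¬ IsConj x z) (hyz : ¬ IsConj y z) : False := by
  classical
  haveI : Finite (ConjClasses G) := Quotient.finite _
  let f : Fin 3 → {c : ConjClasses G // ∃ g : G, ConjClasses.mk g = c ∧ ∀ ω : Ω, g • ω ≠ ω} :=
    ![⟨ConjClasses.mk x, x, rfl, hx⟩, ⟨ConjClasses.mk y, y, rfl, hy⟩, ⟨ConjClasses.mk z, z, rfl, hz⟩]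
  have hf : Function.Injective f := by
    intro i j hij
    have hne : ∀ a b : G, ¬ IsConj a b → ConjClasses.mk a ≠ ConjClasses.mk b :=
      fun a b h h' => h (ConjClasses.mk_eq_mk_iff_isConj.mp h')
    have hxy' := hne _ _ hxy
    have hxz' := hne _ _ hxz
    have hyz' := hne _ _ hyz
    have hval := congrArg Subtype.val hij
    fin_cases i <;> fin_cases j <;> first
      | rfl
      | (exfalso; first
          | exact hxy' hval
          | exact hxz' hval
          | exact hyz' hval
          | exact hxy' hval.symm
          | exact hxz' hval.symm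
          | exact hyz' hval.symm)
  have := Nat.card_le_card_of_injective f hf
  rw [hκ] at this
  simp at this

/-- Three derangements of pairwise distinct orders contradict `κ = 2`. -/
theorem no_three_orders [Finite G]
    (hκ : Nat.card {c : ConjClasses G // ∃ g : G, ConjClasses.mk g = c ∧ ∀ ω : Ω, g • ω ≠ ω} = 2)
    {x y z : G} (hx : ∀ ω : Ω, x • ω ≠ ω) (hy : ∀ ω : Ω, y • ω ≠ ω) (hz : ∀ ω : Ω, z • ω ≠ ω)
    (hxy : orderOf x ≠ orderOf y) (hxz : orderOf x ≠ orderOf z) (hyz : orderOf y ≠ orderOf z) :
    False :=
  no_three hκ hx hy hz (fun h => hxy (orderOf_eq_of_isConj h)) (fun h => hxz (orderOf_eq_of_isConj h))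
    (fun h => hyz (orderOf_eq_of_isConj h))

/-- Counting derangements when all nonidentity elements have at most one fixed point. -/
theorem card_derangements [Fintype G] [DecidableEq G] [Finite Ω] [Nonempty Ω] [IsPretransitive G Ω]
    [DecidablePred (fun g : G => ∀ ω : Ω, g • ω ≠ ω)]
    (h1 : ∀ g : G, g ≠ 1 → Nat.card (fixedBy Ω g) ≤ 1) :
    (Finset.univ.filter (fun g : G => ∀ ω : Ω, g • ω ≠ ω)).card + 1 = Nat.card Ω := by
  classical
  have hb := burnside G Ω
  rw [card_quotient_of_pretransitive G Ω, one_mul] at hb
  set A := Finset.univ.filter (fun g : G => ∀ ω : Ω, g • ω ≠ ω) with hA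
  have h1A : (1 : G) ∉ A := by
    intro h
    simp only [hA, Finset.mem_filter, Finset.mem_univ, true_and] at h
    obtain ⟨ω⟩ := ‹Nonempty Ω›
    exact h ω (one_smul _ _)
  have hsum : ∑ g : G, Nat.card (fixedBy Ω g)
      = Nat.card Ω + (Fintype.card G - 1 - A.card) := by
    have h2 : ∑ g : G, Nat.card (fixedBy Ω g) = ∑ g : G, (if g = 1 then Nat.card Ω else
        (if g ∈ A then 0 else 1)) := by
      apply Finset.sum_congr rfl
      intro g _
      by_cases hg : g = 1
      · subst hg
        simp only [if_true]
        have : fixedBy Ω (1 : G) = Set.univ := by ext; simp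
        rw [this]; simp
      · simp only [hg, if_false]
        by_cases hgA : g ∈ A
        · simp only [hgA, if_true]
          simp only [hA, Finset.mem_filter, Finset.mem_univ, true_and] at hgA
          have : fixedBy Ω g = ∅ := by
            ext ω; simp [mem_fixedBy, hgA ω]
          rw [this]; simp
        · simp only [hgA, if_false]
          have h3 := h1 g hg
          have h4 : 1 ≤ Nat.card (fixedBy Ω g) := by
            apply one_le_fixCard_of_not_derangement
            intro h
            exact hgA (by simp [hA, h])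
          omega
    rw [h2]
    have h3 : ∑ g : G, (if g = 1 then Nat.card Ω else (if g ∈ A then 0 else 1))
        = ∑ g ∈ Finset.univ.filter (· = (1 : G)), Nat.card Ω
          + ∑ g ∈ Finset.univ.filter (· ≠ (1 : G)), (if g ∈ A then 0 else 1) := by
      rw [← Finset.sum_filter_add_sum_filter_not Finset.univ (· = (1 : G))]
      congr 1
      · apply Finset.sum_congr rfl
        intro g hg
        simp only [Finset.mem_filter, Finset.mem_univ, true_and] at hg
        simp [hg]
      · apply Finset.sum_congr rfl
        intro g hg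
        simp only [Finset.mem_filter, Finset.mem_univ, true_and] at hg
        simp [hg]
    rw [h3]
    have h4 : Finset.univ.filter (· = (1 : G)) = {1} := by
      ext g; simp
    rw [h4, Finset.sum_singleton]
    congr 1
    have h5 : ∑ g ∈ Finset.univ.filter (· ≠ (1 : G)), (if g ∈ A then 0 else 1)
        = ((Finset.univ.filter (· ≠ (1 : G))).filter (· ∉ A)).card := by
      rw [Finset.card_filter]
      apply Finset.sum_congr rfl
      intro g _
      by_cases hg : g ∈ A <;> simp [hg]
    rw [h5]
    have h6 : (Finset.univ.filter (· ≠ (1 : G))).filter (· ∉ A)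
        = (Finset.univ.filter (· ≠ (1 : G))) \ A := by
      ext g; simp
    rw [h6, Finset.card_sdiff_of_subset]
    · congr 1
      have : Finset.univ.filter (· ≠ (1 : G)) = Finset.univ.erase 1 := by
        ext g; simp
      rw [this, Finset.card_erase_of_mem (Finset.mem_univ _), Finset.card_univ]
    · intro g hg
      simp only [Finset.mem_filter, Finset.mem_univ, true_and]
      rintro rfl
      exact h1A hg
  rw [hsum, Nat.card_eq_fintype_card (α := G)] at hb
  have hle : A.card + 1 ≤ Fintype.card G := by
    have : (insert 1 A).card ≤ Fintype.card G := Finset.card_le_univ _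
    rwa [Finset.card_insert_of_notMem h1A] at this
  omega

end General

section NonAbelian

variable {G : Type u} {Ω : Type v} [Group G] [MulAction G Ω] [Finite G] [Finite Ω] [FaithfulSMul G Ω]

theorem three_of_semiregular
    (hκ : Nat.card {c : ConjClasses G // ∃ g : G, ConjClasses.mk g = c ∧ ∀ ω : Ω, g • ω ≠ ω} = 2)
    (T : Subgroup G) (hs : IsSimpleGroup T) (hna : ¬ IsMulCommutative T)
    (hder : ∀ t ∈ T, t ≠ 1 → ∀ ω : Ω, t • ω ≠ ω)
    (hy : ∀ p : ℕ, p.Prime → ∃ y : G, (orderOf y).Prime ∧ orderOf y ≠ p ∧ ∀ t ∈ T, y * t = t * y) :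
    False := by
  obtain ⟨y0, hy0, -⟩ := exists_prime_order_ne hs hna 2 Nat.prime_two
  obtain ⟨y1, hy1, hy1p⟩ := exists_prime_order_ne hs hna (orderOf y0) hy0
  obtain ⟨y, hyp, hyne, hyc⟩ := hy (orderOf y0) hy0
  have hne0 : (y0 : G) ≠ 1 := by
    intro h
    have : y0 = 1 := Subtype.ext h
    rw [this, orderOf_one] at hy0
    exact Nat.not_prime_one hy0
  have hne1 : (y1 : G) ≠ 1 := by
    intro h
    have : y1 = 1 := Subtype.ext h
    rw [this, orderOf_one] at hy1
    exact Nat.not_prime_one hy1
  have hd0 := hder y0 y0.2 hne0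
  have hd1 := hder y1 y1.2 hne1
  have hc : Commute (y0 : G) y := (hyc y0 y0.2).symm
  have hcop : (orderOf (y0 : G)).Coprime (orderOf y) := by
    rw [Subgroup.orderOf_coe]
    exact (Nat.coprime_primes hy0 hyp).mpr (Ne.symm hyne)
  have hd2 := derangement_mul_of_coprime (Ω := Ω) hd0 hc hcop
  have hord : orderOf ((y0 : G) * y) = orderOf y0 * orderOf y := by
    rw [hc.orderOf_mul_eq_mul_orderOf_of_coprime hcop, Subgroup.orderOf_coe]
  refine no_three_orders hκ hd0 hd1 hd2 ?_ ?_ ?_
  · rw [Subgroup.orderOf_coe, Subgroup.orderOf_coe]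
    exact fun h => hy1p h.symm
  · rw [hord, Subgroup.orderOf_coe]
    intro h
    have : 1 * orderOf y0 = orderOf y * orderOf y0 := by rw [one_mul, mul_comm]; exact h
    have h2 := Nat.eq_of_mul_eq_mul_right hy0.pos this
    exact hyp.one_lt.ne h2
  · rw [hord, Subgroup.orderOf_coe]
    intro h
    rw [h] at hy1
    exact Nat.not_prime_mul hy0.one_lt.ne' hyp.one_lt.ne' hy1

theorem nonabelian_false [Nonempty Ω] (hprim : IsPreprimitive G Ω)
    (hnas : ¬ ∃ T : Subgroup G, T.Normal ∧ IsSimpleGroup T ∧ ¬ IsMulCommutative T ∧
      Subgroup.centralizer (T : Set G) = ⊥)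
    (hκ : Nat.card {c : ConjClasses G // ∃ g : G, ConjClasses.mk g = c ∧ ∀ ω : Ω, g • ω ≠ ω} = 2)
    (N : Subgroup G) (hN : IsMinNormal N) (hab : ¬ ∀ x ∈ N, ∀ y ∈ N, x * y = y * x) : False := by
  classical
  obtain ⟨T, hT⟩ := exists_minIn N hN.2.1
  have ht : IsPretransitive N Ω := isPretransitive_of_normal hprim N hN.1 hN.2.1
  have hsimple := hT.isSimple hN
  have hTna : ¬ IsMulCommutative T := by
    intro hc
    apply hab
    apply hT.comm_of_comm hN
    intro x hx y hy
    exact congrArg Subtype.val (hc.is_comm.comm ⟨x, hx⟩ ⟨y, hy⟩)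
  by_cases hTN : T = N
  · subst hTN
    by_cases hC : Subgroup.centralizer (T : Set G) = ⊥
    · exact hnas ⟨T, hN.1, hsimple, hTna, hC⟩
    · haveI := hN.1
      have hCn : (Subgroup.centralizer (T : Set G)).Normal := inferInstance
      obtain ⟨M, hMC, hM⟩ := exists_minNormal_le _ hCn hC
      have htM : IsPretransitive M Ω := isPretransitive_of_normal hprim M hM.1 hM.2.1
      have hcm : ∀ m ∈ M, ∀ t ∈ T, m * t = t * m := by
        intro m hm t ht'
        exact (Subgroup.mem_centralizer_iff.mp (hMC hm) t ht').symm
      have hMab : ¬ ∀ x ∈ M, ∀ y ∈ M, x * y = y * x := by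
        intro hMc
        apply hTna
        refine ⟨⟨fun a b => Subtype.ext ?_⟩⟩
        have hTM : T ≤ M := by
          intro t ht'
          obtain ⟨a⟩ := ‹Nonempty Ω›
          obtain ⟨m, hm⟩ := htM.exists_smul_eq a (t • a)
          have hfix : ((m : G)⁻¹ * t) • a = a := by
            rw [mul_smul, ← hm]
            change (m : G)⁻¹ • ((m : G) • a) = a
            simp
          have hcomm' : ∀ s ∈ M, ((m : G)⁻¹ * t) * s = s * ((m : G)⁻¹ * t) := by
            intro s hs
            have h1 : t * s = s * t := (hcm s hs t ht').symm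
            have h2 : (m : G) * s = s * (m : G) := hMc m m.2 s hs
            have h3 : (m : G)⁻¹ * s = s * (m : G)⁻¹ := by
              calc (m : G)⁻¹ * s = (m : G)⁻¹ * (s * (m : G)) * (m : G)⁻¹ := by group
                _ = (m : G)⁻¹ * ((m : G) * s) * (m : G)⁻¹ := by rw [h2]
                _ = s * (m : G)⁻¹ := by group
            calc ((m : G)⁻¹ * t) * s = (m : G)⁻¹ * (t * s) := by group
              _ = (m : G)⁻¹ * (s * t) := by rw [h1]
              _ = ((m : G)⁻¹ * s) * t := by group
              _ = (s * (m : G)⁻¹) * t := by rw [h3]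
              _ = s * ((m : G)⁻¹ * t) := by group
          have h1 := eq_one_of_commute_of_fixes M htM hcomm' hfix
          have h2 : t = m := by
            have := inv_mul_eq_one.mp h1
            exact this.symm
          rw [h2]; exact m.2
        exact hMc _ (hTM a.2) _ (hTM b.2)
      obtain ⟨T'', hT''⟩ := exists_minIn M hM.2.1
      have hs'' := hT''.isSimple hM
      have hna'' : ¬ IsMulCommutative T'' := by
        intro hc
        apply hMab
        apply hT''.comm_of_comm hM
        intro x hx y hy
        exact congrArg Subtype.val (hc.is_comm.comm ⟨x, hx⟩ ⟨y, hy⟩)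
      refine three_of_semiregular (Ω := Ω) hκ T hsimple hTna ?_ ?_
      · intro t ht' ht1 ω hω
        apply ht1
        exact eq_one_of_commute_of_fixes M htM (fun m hm => (hcm m hm t ht').symm) hω
      · intro p hp
        obtain ⟨y, hy, hyp⟩ := exists_prime_order_ne hs'' hna'' p hp
        refine ⟨y, by rwa [Subgroup.orderOf_coe], by rwa [Subgroup.orderOf_coe], ?_⟩
        exact hcm y (hT''.le y.2)
  · -- T is a proper factor of N
    have hex : ∃ g : G, cj g T ≠ T := by
      by_contra hcon
      push Not at hcon
      apply hTN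
      apply le_antisymm hT.le
      intro n hn
      apply hT.induction hN (Q := fun x => x ∈ T) _ T.one_mem (fun a b => T.mul_mem)
        (fun a => T.inv_mem) n hn
      intro g z hz
      rwa [hcon g] at hz
    obtain ⟨g, hg⟩ := hex
    have hcomm : ∀ x ∈ T, ∀ y ∈ cj g T, x * y = y * x := by
      rcases hT.cj_dichotomy hN.1 g with h | h
      · exact absurd h hg
      · exact h
    set T1 := cj g T with hT1
    -- primes in the conjugate
    have hprimeT1 : ∀ p : ℕ, p.Prime → ∃ y ∈ T1, (orderOf y).Prime ∧ orderOf y ≠ p := by
      intro p hp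
      obtain ⟨y, hy, hyp⟩ := exists_prime_order_ne hsimple hTna p hp
      have hord : orderOf (g * (y : G) * g⁻¹) = orderOf y := by
        have := (MulAut.conj g).orderOf_eq (y : G)
        rw [Subgroup.orderOf_coe] at this
        rw [← this]
        rfl
      refine ⟨g * (y : G) * g⁻¹, ?_, by rwa [hord], by rwa [hord]⟩
      rw [hT1, mem_cj]
      have : g⁻¹ * (g * (y : G) * g⁻¹) * g = (y : G) := by group
      rw [this]; exact y.2
    -- center-free
    have hcf : ∀ z ∈ T, (∀ s ∈ T, z * s = s * z) → z = 1 := by
      intro z hz hzc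
      have hcen : Subgroup.center T = ⊥ := by
        rcases hsimple.eq_bot_or_eq_top_of_normal (Subgroup.center T) inferInstance with h | h
        · exact h
        · exfalso
          apply hTna
          refine ⟨⟨fun a b => ?_⟩⟩
          have : a ∈ Subgroup.center T := by rw [h]; trivial
          exact (Subgroup.mem_center_iff.mp this b).symm
      have : (⟨z, hz⟩ : T) ∈ Subgroup.center T := by
        rw [Subgroup.mem_center_iff]
        intro s
        exact Subtype.ext (hzc s s.2).symm
      rw [hcen, Subgroup.mem_bot] at this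
      exact congrArg Subtype.val this
    have hcf1 : ∀ z ∈ T1, (∀ s ∈ T1, z * s = s * z) → z = 1 := by
      intro z hz hzc
      have h1 : g⁻¹ * z * g = 1 := by
        apply hcf _ (mem_cj.mp hz)
        intro s hs
        have hs' : g * s * g⁻¹ ∈ T1 := by
          rw [hT1, mem_cj]
          have : g⁻¹ * (g * s * g⁻¹) * g = s := by group
          rw [this]; exact hs
        have := hzc _ hs'
        calc g⁻¹ * z * g * s = g⁻¹ * (z * (g * s * g⁻¹)) * g := by group
          _ = g⁻¹ * ((g * s * g⁻¹) * z) * g := by rw [this]
          _ = s * (g⁻¹ * z * g) := by group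
      have h2 : z = g * (g⁻¹ * z * g) * g⁻¹ := by group
      rw [h2, h1]; group
    have hinter : ∀ z, z ∈ T → z ∈ T1 → z = 1 := by
      intro z hz hz1
      apply hcf z hz
      intro s hs
      exact (hcomm s hs z hz1).symm
    obtain ⟨a⟩ := id (inferInstance : Nonempty Ω)
    have hinner := hT.conj_inner hN
    -- the projection of the point stabilizer
    let P : Subgroup T :=
      { carrier := {t | ∃ c : G, (∀ s ∈ T, c * s = s * c) ∧ ((t : G) * c) • a = a}
        one_mem' := ⟨1, by simp, by simp⟩
        mul_mem' := by
          rintro t t' ⟨c, hc, hca⟩ ⟨c', hc', hca'⟩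
          refine ⟨c * c', ?_, ?_⟩
          · intro s hs
            calc c * c' * s = c * (c' * s) := by group
              _ = c * (s * c') := by rw [hc' s hs]
              _ = (c * s) * c' := by group
              _ = (s * c) * c' := by rw [hc s hs]
              _ = s * (c * c') := by group
          · have : ((t * t' : T) : G) * (c * c') = ((t : G) * c) * ((t' : G) * c') := by
              have h1 : c * (t' : G) = (t' : G) * c := hc t' t'.2
              calc ((t * t' : T) : G) * (c * c') = (t : G) * ((t' : G) * c) * c' := by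
                    push_cast; group
                _ = (t : G) * (c * (t' : G)) * c' := by rw [h1]
                _ = ((t : G) * c) * ((t' : G) * c') := by group
            rw [this, mul_smul, hca', hca]
        inv_mem' := by
          rintro t ⟨c, hc, hca⟩
          refine ⟨c⁻¹, ?_, ?_⟩
          · intro s hs
            have h1 := hc s hs
            calc c⁻¹ * s = c⁻¹ * (s * c) * c⁻¹ := by group
              _ = c⁻¹ * (c * s) * c⁻¹ := by rw [h1]
              _ = s * c⁻¹ := by group
          · have h1 : c * (t : G) = (t : G) * c := hc t t.2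
            have : ((t⁻¹ : T) : G) * c⁻¹ = ((t : G) * c)⁻¹ := by
              rw [← h1]; push_cast; group
            rw [this]
            have h2 : ((t : G) * c)⁻¹ • (((t : G) * c) • a) = ((t : G) * c)⁻¹ • a := by rw [hca]
            rw [inv_smul_smul] at h2
            exact h2.symm }
    by_cases hP : P = ⊤
    · -- T is semiregular
      have hQnormal : (stabilizer T a).Normal := by
        refine ⟨fun s hs t => ?_⟩
        have ht' : t ∈ P := by rw [hP]; trivial
        obtain ⟨c, hc, hca⟩ := ht'
        have hs' : (s : G) • a = a := hs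
        rw [mem_stabilizer_iff]
        change ((t : G) * (s : G) * (t : G)⁻¹) • a = a
        have h1 : (t : G) * (s : G) * (t : G)⁻¹ = ((t : G) * c) * (s : G) * ((t : G) * c)⁻¹ := by
          have h2 : c * (s : G) = (s : G) * c := hc s s.2
          calc (t : G) * (s : G) * (t : G)⁻¹
              = (t : G) * ((s : G) * c) * c⁻¹ * (t : G)⁻¹ := by group
            _ = (t : G) * (c * (s : G)) * c⁻¹ * (t : G)⁻¹ := by rw [h2]
            _ = _ := by group
        rw [h1, mul_smul, mul_smul]
        have h3 : ((t : G) * c)⁻¹ • a = a := by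
          have h2 : ((t : G) * c)⁻¹ • (((t : G) * c) • a) = ((t : G) * c)⁻¹ • a := by rw [hca]
          rw [inv_smul_smul] at h2
          exact h2.symm
        rw [h3, hs', hca]
      obtain ⟨x0, hx0T, hx0⟩ := hT.exists_derangement hN ht
      have hQbot : stabilizer T a = ⊥ := by
        rcases hsimple.eq_bot_or_eq_top_of_normal _ hQnormal with h | h
        · exact h
        · exfalso
          have : (⟨x0, hx0T⟩ : T) ∈ stabilizer T a := by rw [h]; trivial
          exact hx0 a this
      refine three_of_semiregular (Ω := Ω) hκ T hsimple hTna ?_ ?_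
      · intro t ht' ht1 ω hω
        obtain ⟨n, rfl⟩ := ht.exists_smul_eq a ω
        obtain ⟨u, hu, huy⟩ := hinner n n.2
        have h1 : ((n : G)⁻¹ * t * (n : G)) • a = a := by
          have h2 : t • ((n : G) • a) = (n : G) • a := hω
          rw [mul_smul, mul_smul, h2]
          simp
        rw [huy t ht'] at h1
        have hmem : u⁻¹ * t * u ∈ T := T.mul_mem (T.mul_mem (T.inv_mem hu) ht') hu
        have h2 : (⟨u⁻¹ * t * u, hmem⟩ : T) ∈ stabilizer T a := h1
        rw [hQbot, Subgroup.mem_bot] at h2
        have h3 : u⁻¹ * t * u = 1 := congrArg Subtype.val h2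
        apply ht1
        have h4 : t = u * (u⁻¹ * t * u) * u⁻¹ := by group
        rw [h4, h3]; group
      · intro p hp
        obtain ⟨y, hy, hy1, hy2⟩ := hprimeT1 p hp
        exact ⟨y, hy1, hy2, fun t ht' => (hcomm t ht' y hy).symm⟩
    · -- x outside all conjugates of P
      have hPnt : Nontrivial (T ⧸ P) := QuotientGroup.nontrivial_iff.mpr hP
      obtain ⟨x, hx⟩ := exists_derangement (H := T) (X := T ⧸ P) inferInstance
      have hxP : ∀ u : T, u⁻¹ * x * u ∉ P := by
        intro u hu
        apply hx (QuotientGroup.mk u)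
        change QuotientGroup.mk (x * u) = QuotientGroup.mk u
        rw [QuotientGroup.eq]
        have : (x * u)⁻¹ * u = (u⁻¹ * x * u)⁻¹ := by group
        rw [this]
        exact P.inv_mem hu
      have hxne : (x : G) ≠ 1 := by
        intro h
        have hx1 : x = 1 := Subtype.ext h
        apply hxP 1
        rw [hx1]
        simp [P.one_mem]
      -- x y is a derangement
      have hder : ∀ y ∈ T1, ∀ ω : Ω, ((x : G) * y) • ω ≠ ω := by
        intro y hy ω hω
        obtain ⟨n, rfl⟩ := ht.exists_smul_eq a ω
        obtain ⟨u, hu, huy⟩ := hinner n n.2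
        have h1 : ((n : G)⁻¹ * ((x : G) * y) * (n : G)) • a = a := by
          have h2 : ((x : G) * y) • ((n : G) • a) = (n : G) • a := hω
          rw [mul_smul, mul_smul, h2]
          simp
        apply hxP ⟨u, hu⟩
        refine ⟨(n : G)⁻¹ * y * (n : G), ?_, ?_⟩
        · intro s hs
          have hs' : (n : G) * s * (n : G)⁻¹ ∈ T := hT.nz n n.2 s hs
          have h2 := hcomm _ hs' y hy
          calc (n : G)⁻¹ * y * (n : G) * s = (n : G)⁻¹ * (y * ((n : G) * s * (n : G)⁻¹)) * (n : G) := by
                group
            _ = (n : G)⁻¹ * (((n : G) * s * (n : G)⁻¹) * y) * (n : G) := by rw [h2]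
            _ = s * ((n : G)⁻¹ * y * (n : G)) := by group
        · have h3 := huy (x : G) x.2
          have h4 : (((⟨u, hu⟩ : T)⁻¹ * x * ⟨u, hu⟩ : T) : G) * ((n : G)⁻¹ * y * (n : G))
              = (n : G)⁻¹ * ((x : G) * y) * (n : G) := by
            push_cast
            rw [← h3]
            group
          rw [h4]
          exact h1
      have hd0 : ∀ ω : Ω, (x : G) • ω ≠ ω := by
        have := hder 1 T1.one_mem
        simpa using this
      obtain ⟨y1, hy1, hy1p, -⟩ := hprimeT1 2 Nat.prime_two
      obtain ⟨y2, hy2, hy2p, hy12⟩ := hprimeT1 (orderOf y1) hy1p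
      have hy1ne : y1 ≠ 1 := by
        rintro rfl
        rw [orderOf_one] at hy1p
        exact Nat.not_prime_one hy1p
      have hy2ne : y2 ≠ 1 := by
        rintro rfl
        rw [orderOf_one] at hy2p
        exact Nat.not_prime_one hy2p
      have hnc1 : ∀ y ∈ T1, y ≠ 1 → ¬ IsConj (x : G) ((x : G) * y) := by
        intro y hy hy1' hconj
        obtain ⟨h, hh⟩ := isConj_iff.mp hconj
        have hmem : (x : G) * y ∈ cj h T := by
          rw [mem_cj, ← hh]
          have : h⁻¹ * (h * (x : G) * h⁻¹) * h = (x : G) := by group
          rw [this]; exact x.2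
        rcases hT.cj_dichotomy hN.1 h with hU | hU
        · rw [hU] at hmem
          have hyT : y ∈ T := by
            have := T.mul_mem (T.inv_mem x.2) hmem
            simpa using this
          exact hy1' (hinter y hyT hy)
        · apply hxne
          apply hcf _ x.2
          intro s hs
          have h1 := hU s hs _ hmem
          have h2 := hcomm s hs y hy
          have h3 : s * (x : G) * y = (x : G) * s * y := by
            calc s * (x : G) * y = s * ((x : G) * y) := by group
              _ = (x : G) * y * s := h1
              _ = (x : G) * (y * s) := by group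
              _ = (x : G) * (s * y) := by rw [h2]
              _ = (x : G) * s * y := by group
          exact (mul_right_cancel h3).symm
      have hnc2 : ¬ IsConj ((x : G) * y1) ((x : G) * y2) := by
        intro hconj
        obtain ⟨h, hh⟩ := isConj_iff.mp hconj
        set u := h * (x : G) * h⁻¹ with hu
        set v := h * y1 * h⁻¹ with hv
        have huv : u * v = (x : G) * y2 := by
          rw [← hh, hu, hv]; group
        have hordv : orderOf v = orderOf y1 := by
          have := (MulAut.conj h).orderOf_eq y1
          rw [← this]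
          rfl
        have hordu : orderOf u = orderOf (x : G) := by
          have := (MulAut.conj h).orderOf_eq (x : G)
          rw [← this]
          rfl
        have huU : u ∈ cj h T := by
          rw [mem_cj, hu]
          have : h⁻¹ * (h * (x : G) * h⁻¹) * h = (x : G) := by group
          rw [this]; exact x.2
        have hvV : v ∈ cj (h * g) T := by
          rw [mem_cj, hv]
          have : (h * g)⁻¹ * (h * y1 * h⁻¹) * (h * g) = g⁻¹ * y1 * g := by group
          rw [this]
          exact mem_cj.mp hy1
        -- pair dichotomy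
        have hpair : ∀ k l : G, cj k T = cj l T ∨ ∀ a ∈ cj k T, ∀ b ∈ cj l T, a * b = b * a := by
          intro k l
          rcases hT.cj_dichotomy hN.1 (k⁻¹ * l) with hd | hd
          · left
            ext z
            rw [mem_cj, mem_cj]
            constructor
            · intro hz
              have hz' : k⁻¹ * z * k ∈ cj (k⁻¹ * l) T := by rw [hd]; exact hz
              rw [mem_cj] at hz'
              have h2 : (k⁻¹ * l)⁻¹ * (k⁻¹ * z * k) * (k⁻¹ * l) = l⁻¹ * z * l := by group
              rwa [h2] at hz'
            · intro hz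
              have hz' : k⁻¹ * z * k ∈ cj (k⁻¹ * l) T := by
                rw [mem_cj]
                have h2 : (k⁻¹ * l)⁻¹ * (k⁻¹ * z * k) * (k⁻¹ * l) = l⁻¹ * z * l := by group
                rw [h2]; exact hz
              rwa [hd] at hz'
          · right
            intro a' ha' b' hb'
            have h1 := hd _ (mem_cj.mp ha') (k⁻¹ * b' * k) (by
              rw [mem_cj]
              have h2 : (k⁻¹ * l)⁻¹ * (k⁻¹ * b' * k) * (k⁻¹ * l) = l⁻¹ * b' * l := by group
              rw [h2]
              exact mem_cj.mp hb')
            have h3 : k⁻¹ * (a' * b') * k = k⁻¹ * (b' * a') * k := by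
              calc k⁻¹ * (a' * b') * k = (k⁻¹ * a' * k) * (k⁻¹ * b' * k) := by group
                _ = (k⁻¹ * b' * k) * (k⁻¹ * a' * k) := h1
                _ = k⁻¹ * (b' * a') * k := by group
            exact mul_left_cancel (mul_right_cancel h3)
        have hT0 : cj 1 T = T := by
          ext z; rw [mem_cj]; simp
        have hclaimA : cj h T = T ∨ cj (h * g) T = T := by
          by_contra hcon
          push Not at hcon
          obtain ⟨hA1, hA2⟩ := hcon
          have hUc : ∀ s ∈ T, s * u = u * s := by
            intro s hs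
            rcases hT.cj_dichotomy hN.1 h with hd | hd
            · exact absurd hd hA1
            · exact hd s hs u huU
          have hVc : ∀ s ∈ T, s * v = v * s := by
            intro s hs
            rcases hT.cj_dichotomy hN.1 (h * g) with hd | hd
            · exact absurd hd hA2
            · exact hd s hs v hvV
          apply hxne
          apply hcf _ x.2
          intro s hs
          have h1 : s * ((x : G) * y2) = ((x : G) * y2) * s := by
            rw [← huv]
            calc s * (u * v) = (s * u) * v := by group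
              _ = (u * s) * v := by rw [hUc s hs]
              _ = u * (s * v) := by group
              _ = u * (v * s) := by rw [hVc s hs]
              _ = u * v * s := by group
          have h2 := hcomm s hs y2 hy2
          have h3 : s * (x : G) * y2 = (x : G) * s * y2 := by
            calc s * (x : G) * y2 = s * ((x : G) * y2) := by group
              _ = (x : G) * y2 * s := h1
              _ = (x : G) * (y2 * s) := by group
              _ = (x : G) * (s * y2) := by rw [h2]
              _ = (x : G) * s * y2 := by group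
          exact (mul_right_cancel h3).symm
        have hclaimB : cj h T = T1 ∨ cj (h * g) T = T1 := by
          by_contra hcon
          push Not at hcon
          obtain ⟨hB1, hB2⟩ := hcon
          have hUc : ∀ s ∈ T1, u * s = s * u := by
            intro s hs
            rcases hpair h g with hd | hd
            · exact absurd hd hB1
            · exact hd u huU s hs
          have hVc : ∀ s ∈ T1, v * s = s * v := by
            intro s hs
            rcases hpair (h * g) g with hd | hd
            · exact absurd hd hB2
            · exact hd v hvV s hs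
          apply hy2ne
          apply hcf1 y2 hy2
          intro s hs
          have h1 : s * ((x : G) * y2) = ((x : G) * y2) * s := by
            rw [← huv]
            calc s * (u * v) = (s * u) * v := by group
              _ = (u * s) * v := by rw [← hUc s hs]
              _ = u * (s * v) := by group
              _ = u * (v * s) := by rw [hVc s hs]
              _ = u * v * s := by group
          have h2 := hcomm (x : G) x.2 s hs
          have h3 : (x : G) * (y2 * s) = (x : G) * (s * y2) := by
            calc (x : G) * (y2 * s) = ((x : G) * y2) * s := by group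
              _ = s * ((x : G) * y2) := h1.symm
              _ = (s * (x : G)) * y2 := by group
              _ = ((x : G) * s) * y2 := by rw [h2]
              _ = (x : G) * (s * y2) := by group
          exact mul_left_cancel h3
        have hTT1 : T ≠ T1 := fun h' => hg h'.symm
        rcases hclaimA with hA | hA <;> rcases hclaimB with hB | hB
        · exact hTT1 (hA.symm.trans hB)
        · -- U = T, V = T1
          rw [hA] at huU
          rw [hB] at hvV
          have hz : (x : G)⁻¹ * u = y2 * v⁻¹ := by
            calc (x : G)⁻¹ * u = (x : G)⁻¹ * (u * v) * v⁻¹ := by group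
              _ = (x : G)⁻¹ * ((x : G) * y2) * v⁻¹ := by rw [huv]
              _ = y2 * v⁻¹ := by group
          have hz1 : (x : G)⁻¹ * u ∈ T := T.mul_mem (T.inv_mem x.2) huU
          have hz2 : (x : G)⁻¹ * u ∈ T1 := by
            rw [hz]; exact T1.mul_mem hy2 (T1.inv_mem hvV)
          have hz3 := hinter _ hz1 hz2
          have hv2 : y2 = v := by
            rw [hz] at hz3
            exact mul_inv_eq_one.mp hz3
          apply hy12
          rw [hv2, hordv]
        · -- U = T1, V = T
          rw [hB] at huU
          rw [hA] at hvV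
          have hcuv : v * u = u * v := hcomm v hvV u huU
          have hz : (x : G)⁻¹ * v = y2 * u⁻¹ := by
            calc (x : G)⁻¹ * v = (x : G)⁻¹ * (v * u) * u⁻¹ := by group
              _ = (x : G)⁻¹ * (u * v) * u⁻¹ := by rw [hcuv]
              _ = (x : G)⁻¹ * ((x : G) * y2) * u⁻¹ := by rw [huv]
              _ = y2 * u⁻¹ := by group
          have hz1 : (x : G)⁻¹ * v ∈ T := T.mul_mem (T.inv_mem x.2) hvV
          have hz2 : (x : G)⁻¹ * v ∈ T1 := by
            rw [hz]; exact T1.mul_mem hy2 (T1.inv_mem huU)
          have hz3 := hinter _ hz1 hz2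
          have hv1 : (x : G) = v := by
            have := inv_mul_eq_one.mp hz3
            exact this
          have hu2 : y2 = u := by
            rw [hz] at hz3
            exact mul_inv_eq_one.mp hz3
          apply hy12
          rw [hu2, hordu, hv1, hordv]
        · exact hTT1 (hA.symm.trans hB)
      exact no_three hκ hd0 (hder y1 hy1) (hder y2 hy2) (hnc1 y1 hy1 hy1ne) (hnc1 y2 hy2 hy2ne) hnc2

end NonAbelian

/-- Let a finite group G act faithfully and primitively on a finite set Ω with at least two points, suppose G is not almost simple (no non-abelian simple normal subgroup with trivial centralizer), and suppose the derangements of G form exactly two conjugacy classes. Then either Ω has 3 points and G has order 3; or G has a non-trivial abelian normal subgroup N acting regularly, every non-identity element of G fixes at most one point (so, when n > 3, G is a Frobenius group with kernel N), the number n of points is odd and a point stabilizer has order (n − 1)/2; or G is 2-transitive with a non-trivial abelian regular normal subgroup and some non-identity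 element fixes at least two points (a non-Frobenius 2-transitive affine group). -/
theorem result {G : Type*} [Group G] [Finite G] {Ω : Type*} [Fintype Ω] [MulAction G Ω] [FaithfulSMul G Ω] (hΩ : 2 ≤ Fintype.card Ω) (hprim : MulAction.IsPreprimitive G Ω) (hnas : ¬ ∃ T : Subgroup G, T.Normal ∧ IsSimpleGroup T ∧ ¬ IsMulCommutative T ∧ Subgroup.centralizer (T : Set G) = ⊥)
    (hκ : Nat.card {c : ConjClasses G // ∃ g : G, ConjClasses.mk g = c ∧ ∀ ω : Ω, g • ω ≠ ω} = 2) (α : Ω) :
    (Fintype.card Ω = 3 ∧ Nat.card G = 3) ∨
    ((∃ N : Subgroup G, N.Normal ∧ N ≠ ⊥ ∧ IsMulCommutative N ∧ ∀ ω : Ω, MulAction.stabilizer N ω = ⊥) ∧ (∀ g : G, g ≠ 1 → Nat.card (MulAction.fixedBy Ω g) ≤ 1) ∧ ¬ 2 ∣ Fintype.card Ω ∧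
        2 * Nat.card (MulAction.stabilizer G α) = Fintype.card Ω - 1) ∨
    ((∃ N : Subgroup G, N.Normal ∧ N ≠ ⊥ ∧ IsMulCommutative N ∧ ∀ ω : Ω, MulAction.stabilizer N ω = ⊥) ∧ MulAction.IsMultiplyPretransitive G Ω 2 ∧ ∃ g : G, g ≠ 1 ∧ 2 ≤ Nat.card (MulAction.fixedBy Ω g)) := by
  classical
  haveI hpt : IsPretransitive G Ω := hprim.toIsPretransitive
  haveI : Nonempty Ω := ⟨α⟩
  have hΩ' : 2 ≤ Nat.card Ω := by rwa [Nat.card_eq_fintype_card]
  haveI : Nontrivial Ω := Finite.one_lt_card_iff_nontrivial.mp hΩ'
  haveI : Nontrivial G := by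
    obtain ⟨a, b, hab⟩ := exists_pair_ne Ω
    obtain ⟨g, hg⟩ := hprim.exists_smul_eq a b
    refine ⟨⟨g, 1, ?_⟩⟩
    rintro rfl
    rw [one_smul] at hg
    exact hab hg
  haveI := Fintype.ofFinite G
  obtain ⟨N, hN⟩ := exists_minNormal (G := G)
  by_cases hab : ∀ x ∈ N, ∀ y ∈ N, x * y = y * x
  swap
  · exact (nonabelian_false hprim hnas hκ N hN hab).elim
  right
  have ht : IsPretransitive N Ω := isPretransitive_of_normal hprim N hN.1 hN.2.1
  have hreg : ∀ ω : Ω, stabilizer N ω = ⊥ := stabilizer_eq_bot_of_comm N hab ht
  have hNgood : ∃ N : Subgroup G, N.Normal ∧ N ≠ ⊥ ∧ IsMulCommutative N ∧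
      ∀ ω : Ω, MulAction.stabilizer N ω = ⊥ :=
    ⟨N, hN.1, hN.2.1, ⟨⟨fun a b => Subtype.ext (hab a a.2 b b.2)⟩⟩, hreg⟩
  have hNder : ∀ x ∈ N, x ≠ 1 → ∀ ω : Ω, x • ω ≠ ω := by
    intro x hx hx1 ω hω
    have : (⟨x, hx⟩ : N) ∈ stabilizer N ω := hω
    rw [hreg, Subgroup.mem_bot] at this
    exact hx1 (congrArg Subtype.val this)
  have hNex : ∀ b : Ω, b ≠ α → ∃ x ∈ N, x ≠ 1 ∧ x • α = b := by
    intro b hb
    obtain ⟨x, hx⟩ := ht.exists_smul_eq α b
    refine ⟨x, x.2, ?_, hx⟩
    intro h1
    apply hb
    rw [← hx]
    change (x : G) • α = α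
    rw [h1, one_smul]
  have hinj : ∀ x ∈ N, ∀ y ∈ N, x • α = y • α → x = y := by
    intro x hx y hy hxy
    by_contra hne
    have h1 : y⁻¹ * x ≠ 1 := fun h => hne (inv_mul_eq_one.mp h).symm
    apply hNder _ (N.mul_mem (N.inv_mem hy) hx) h1 α
    rw [mul_smul, hxy, inv_smul_smul]
  have hcardN : Nat.card N = Nat.card Ω := by
    have h1 := orbit_stab (H := N) α
    rw [hreg, Subgroup.card_bot, mul_one, MulAction.orbit_eq_univ] at h1
    rw [← h1]
    simp
  have hconjH : ∀ u ∈ N, ∀ v ∈ N, IsConj u v → ∃ h : G, h • α = α ∧ h * u * h⁻¹ = v := by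
    intro u hu v hv huv
    obtain ⟨c, hc⟩ := isConj_iff.mp huv
    obtain ⟨n, hn⟩ := ht.exists_smul_eq α (c • α)
    have hn' : (n : G) • α = c • α := hn
    refine ⟨(n : G)⁻¹ * c, ?_, ?_⟩
    · rw [mul_smul, ← hn', inv_smul_smul]
    · have h1 : (n : G)⁻¹ * c * u * ((n : G)⁻¹ * c)⁻¹ = (n : G)⁻¹ * (c * u * c⁻¹) * (n : G) := by group
      rw [h1, hc]
      have h2 := hab n n.2 v hv
      calc (n : G)⁻¹ * v * (n : G) = (n : G)⁻¹ * (v * (n : G)) := by group
        _ = (n : G)⁻¹ * ((n : G) * v) := by rw [h2]
        _ = v := by group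
  obtain ⟨u, huN, hu1⟩ : ∃ u ∈ N, u ≠ 1 := by
    rcases Subgroup.bot_or_exists_ne_one N with h | h
    · exact absurd h hN.2.1
    · obtain ⟨x, hx⟩ := h
      exact ⟨x, hx.1, hx.2⟩
  by_cases hall : ∀ v ∈ N, v ≠ 1 → IsConj u v
  · -- the 2-transitive case
    right
    refine ⟨hNgood, ?_, ?_⟩
    · rw [is_two_pretransitive_iff]
      intro a b c d hab' hcd
      obtain ⟨n1, hn1⟩ := ht.exists_smul_eq a α
      obtain ⟨n2, hn2⟩ := ht.exists_smul_eq c α
      have hn1' : (n1 : G) • a = α := hn1
      have hn2' : (n2 : G) • c = α := hn2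
      have hb1 : (n1 : G) • b ≠ α := by
        intro h
        apply hab'
        exact MulAction.injective (n1 : G) (hn1'.trans h.symm)
      have hd1 : (n2 : G) • d ≠ α := by
        intro h
        apply hcd
        exact MulAction.injective (n2 : G) (hn2'.trans h.symm)
      obtain ⟨x1, hx1, hx1ne, hx1a⟩ := hNex _ hb1
      obtain ⟨x2, hx2, hx2ne, hx2a⟩ := hNex _ hd1
      have hconj : IsConj x1 x2 := ((hall x1 hx1 hx1ne).symm).trans (hall x2 hx2 hx2ne)
      obtain ⟨h, hhα, hh⟩ := hconjH x1 hx1 x2 hx2 hconj
      have hhb : h • ((n1 : G) • b) = (n2 : G) • d := by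
        rw [← hx1a, ← hx2a, ← hh, mul_smul, mul_smul, ]
        have : h⁻¹ • α = α := by
          have h2 : h⁻¹ • (h • α) = h⁻¹ • α := by rw [hhα]
          rw [inv_smul_smul] at h2
          exact h2.symm
        rw [this]
      refine ⟨(n2 : G)⁻¹ * h * (n1 : G), ?_, ?_⟩
      · rw [mul_smul, mul_smul, hn1', hhα, ← hn2', inv_smul_smul]
      · rw [mul_smul, mul_smul, hhb, inv_smul_smul]
    · by_contra hnot
      push Not at hnot
      have hle : ∀ g : G, g ≠ 1 → Nat.card (fixedBy Ω g) ≤ 1 := by
        intro g hg
        have := hnot g hg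
        omega
      -- a second class of derangements
      obtain ⟨w, hw, hwu⟩ : ∃ w : G, (∀ ω : Ω, w • ω ≠ ω) ∧ ¬ IsConj u w := by
        by_contra hcon
        push Not at hcon
        have hsub : Subsingleton
            {c : ConjClasses G // ∃ g : G, ConjClasses.mk g = c ∧ ∀ ω : Ω, g • ω ≠ ω} := by
          refine ⟨?_⟩
          rintro ⟨c1, g1, rfl, hg1⟩ ⟨c2, g2, rfl, hg2⟩
          apply Subtype.ext
          apply ConjClasses.mk_eq_mk_iff_isConj.mpr
          exact ((hcon g1 hg1).symm).trans (hcon g2 hg2)
        have := Finite.card_le_one_iff_subsingleton.mpr hsub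
        omega
      have hcd := card_derangements (G := G) (Ω := Ω) hle
      set A := Finset.univ.filter (fun g : G => ∀ ω : Ω, g • ω ≠ ω) with hA
      set B := (Finset.univ.filter (· ∈ N)).erase (1 : G) with hB
      have hBcard : B.card + 1 = Nat.card N := by
        rw [hB, Finset.card_erase_of_mem (by simp [N.one_mem])]
        have h1 : (Finset.univ.filter (· ∈ N)).card = Nat.card N := by
          rw [Nat.card_eq_fintype_card, Fintype.card_subtype]
        have h2 : 0 < (Finset.univ.filter (· ∈ N)).card := by
          rw [h1]; exact Nat.card_pos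
        omega
      have hwB : w ∉ B := by
        intro h
        rw [hB, Finset.mem_erase] at h
        obtain ⟨h1, h2⟩ := h
        simp only [Finset.mem_filter, Finset.mem_univ, true_and] at h2
        exact hwu (hall w h2 h1)
      have hsub : insert w B ⊆ A := by
        intro g hg
        rw [Finset.mem_insert] at hg
        rw [hA, Finset.mem_filter]
        refine ⟨Finset.mem_univ _, ?_⟩
        rcases hg with rfl | hg
        · exact hw
        · rw [hB, Finset.mem_erase] at hg
          obtain ⟨h1, h2⟩ := hg
          simp only [Finset.mem_filter, Finset.mem_univ, true_and] at h2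
          exact hNder g h2 h1
      have := Finset.card_le_card hsub
      rw [Finset.card_insert_of_notMem hwB] at this
      omega
  · -- the Frobenius case
    left
    push Not at hall
    obtain ⟨v, hvN, hv1, huv⟩ := hall
    have hderN : ∀ w : G, (∀ ω : Ω, w • ω ≠ ω) → w ∈ N := by
      intro w hw
      by_cases h1 : IsConj u w
      · obtain ⟨c, hc⟩ := isConj_iff.mp h1
        rw [← hc]
        exact hN.1.conj_mem u huN c
      · by_cases h2 : IsConj v w
        · obtain ⟨c, hc⟩ := isConj_iff.mp h2
          rw [← hc]
          exact hN.1.conj_mem v hvN c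
        · exact (no_three hκ (hNder u huN hu1) (hNder v hvN hv1) hw huv h1 h2).elim
    obtain ⟨-, hone⟩ := main_count (G := G) (Ω := Ω) N hderN
    have hle : ∀ g : G, g ≠ 1 → Nat.card (fixedBy Ω g) ≤ 1 := by
      intro g hg
      by_cases hgN : g ∈ N
      · have : fixedBy Ω g = ∅ := by
          ext ω
          simp [mem_fixedBy, hNder g hgN hg ω]
        rw [this]
        simp
      · rw [hone g hgN]
    refine ⟨hNgood, hle, ?_⟩
    -- the two orbits
    set H := stabilizer G α with hH
    have hstab : ∀ b : Ω, b ≠ α → stabilizer H b = ⊥ := by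
      intro b hb
      rw [eq_bot_iff]
      intro h hh
      rw [Subgroup.mem_bot]
      by_contra hne
      have h1 : (h : G) ≠ 1 := fun h' => hne (Subtype.ext h')
      have h2 := hle _ h1
      have h3 : ({α, b} : Set Ω) ⊆ fixedBy Ω (h : G) := by
        intro x hx
        rcases hx with rfl | hx
        · exact h.2
        · rw [Set.mem_singleton_iff.mp hx]; exact hh
      have hc : Set.ncard ({α, b} : Set Ω) = 2 := Set.ncard_pair (Ne.symm hb)
      have h4 := Set.ncard_le_ncard h3 (Set.toFinite _)
      rw [hc] at h4
      rw [Nat.card_coe_set_eq] at h2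
      omega
    have horb : ∀ b : Ω, b ≠ α → Nat.card (orbit H b) = Nat.card H := by
      intro b hb
      have h1 := orbit_stab (H := H) b
      rw [hstab b hb, Subgroup.card_bot, mul_one] at h1
      exact h1
    have huα : u • α ≠ α := hNder u huN hu1 α
    have hvα : v • α ≠ α := hNder v hvN hv1 α
    set S1 : Set Ω := orbit H (u • α) with hS1
    set S2 : Set Ω := orbit H (v • α) with hS2
    have hdisj : Disjoint S1 S2 := by
      rw [Set.disjoint_left]
      rintro b ⟨h1, rfl⟩ ⟨h2, hb⟩
      change (h2 : G) • (v • α) = (h1 : G) • (u • α) at hb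
      have hh1 : (h1 : G) • α = α := h1.2
      have hh2 : (h2 : G) • α = α := h2.2
      -- conjugates
      have hc : (h2 : G) * v * (h2 : G)⁻¹ = (h1 : G) * u * (h1 : G)⁻¹ := by
        apply hinj _ (hN.1.conj_mem v hvN h2) _ (hN.1.conj_mem u huN h1)
        have e1 : (h1 : G)⁻¹ • α = α := by
          have h3 : (h1 : G)⁻¹ • ((h1 : G) • α) = (h1 : G)⁻¹ • α := by rw [hh1]
          rw [inv_smul_smul] at h3
          exact h3.symm
        have e2 : (h2 : G)⁻¹ • α = α := by
          have h3 : (h2 : G)⁻¹ • ((h2 : G) • α) = (h2 : G)⁻¹ • α := by rw [hh2]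
          rw [inv_smul_smul] at h3
          exact h3.symm
        have e3 : ((h2 : G) * v * (h2 : G)⁻¹) • α = (h2 : G) • (v • α) := by
          rw [mul_smul, mul_smul, e2]
        have e4 : ((h1 : G) * u * (h1 : G)⁻¹) • α = (h1 : G) • (u • α) := by
          rw [mul_smul, mul_smul, e1]
        rw [e3, e4, hb]
      apply huv
      rw [isConj_iff]
      refine ⟨(h2 : G)⁻¹ * (h1 : G), ?_⟩
      have : (h2 : G)⁻¹ * (h1 : G) * u * ((h2 : G)⁻¹ * (h1 : G))⁻¹
          = (h2 : G)⁻¹ * ((h1 : G) * u * (h1 : G)⁻¹) * (h2 : G) := by group
      rw [this, ← hc]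
      group
    have hcover : ({α} : Set Ω)ᶜ = S1 ∪ S2 := by
      ext b
      simp only [Set.mem_compl_iff, Set.mem_singleton_iff, Set.mem_union]
      constructor
      · intro hb
        obtain ⟨x, hx, hx1, hxb⟩ := hNex b hb
        have hder := hNder x hx hx1
        have hc : IsConj u x ∨ IsConj v x := by
          by_contra hcon
          push Not at hcon
          exact no_three hκ (hNder u huN hu1) (hNder v hvN hv1) hder huv hcon.1 hcon.2
        rcases hc with hc | hc
        · left
          obtain ⟨h, hhα, hh⟩ := hconjH u huN x hx hc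
          refine ⟨⟨h, hhα⟩, ?_⟩
          change h • (u • α) = b
          rw [← hxb, ← hh, mul_smul, mul_smul]
          have e : h⁻¹ • α = α := by
            have h3 : h⁻¹ • (h • α) = h⁻¹ • α := by rw [hhα]
            rw [inv_smul_smul] at h3
            exact h3.symm
          rw [e]
        · right
          obtain ⟨h, hhα, hh⟩ := hconjH v hvN x hx hc
          refine ⟨⟨h, hhα⟩, ?_⟩
          change h • (v • α) = b
          rw [← hxb, ← hh, mul_smul, mul_smul]
          have e : h⁻¹ • α = α := by
            have h3 : h⁻¹ • (h • α) = h⁻¹ • α := by rw [hhα]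
            rw [inv_smul_smul] at h3
            exact h3.symm
          rw [e]
      · rintro (⟨h, rfl⟩ | ⟨h, rfl⟩) hb
        · apply huα
          have h1 : (h : G) • (u • α) = α := hb
          have h2 : (h : G) • α = α := h.2
          exact MulAction.injective (h : G) (h1.trans h2.symm)
        · apply hvα
          have h1 : (h : G) • (v • α) = α := hb
          have h2 : (h : G) • α = α := h.2
          exact MulAction.injective (h : G) (h1.trans h2.symm)
    have hcard : S1.ncard + S2.ncard + 1 = Nat.card Ω := by
      have h1 := Set.ncard_add_ncard_compl ({α} : Set Ω)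
      rw [hcover, Set.ncard_union_eq hdisj, Set.ncard_singleton] at h1
      omega
    have hS1c : S1.ncard = Nat.card H := by
      rw [← horb _ huα, ← Nat.card_coe_set_eq]
    have hS2c : S2.ncard = Nat.card H := by
      rw [← horb _ hvα, ← Nat.card_coe_set_eq]
    rw [Nat.card_eq_fintype_card] at hcard
    rw [hS1c, hS2c] at hcard
    constructor
    · omega
    · omega

end Cfsg.Agent.S3520
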