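import Mathlib
import Cfsg.Statements.S3532
import Cfsg.Agent.S2475

set_option autoImplicit false
set_option linter.all false
open Cfsg

namespace Cfsg.Agent.S3532

section Fr

variable (K : Type) [Field K] (C : Subgroup Kˣ)

/-- Multiplication action of a group of units on the additive group. -/
def act : C →* MulAut (Multiplicative K) where
  toFun c :=
    { toFun := fun v => Multiplicative.ofAdd (((c : Kˣ) : K) * v.toAdd)
      invFun := fun v => Multiplicative.ofAdd ((((c : Kˣ)⁻¹ : Kˣ) : K) * v.toAdd)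
      left_inv := fun v => by simp
      right_inv := fun v => by simp
      map_mul' := fun v w => by
        apply Multiplicative.toAdd.injective
        simp [mul_add] }
  map_one' := by
    ext v
    simp
  map_mul' := fun c d => by
    ext v
    simp [mul_assoc]

/-- The Frobenius-type group. -/
abbrev Fr : Type := SemidirectProduct (Multiplicative K) C (act K C)

theorem act_apply (c : C) (v : Multiplicative K) :
    act K C c v = Multiplicative.ofAdd (((c : Kˣ) : K) * v.toAdd) := rfl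

theorem fr_solvable : Group.IsSolvable (Fr K C) := by
  have h : (SemidirectProduct.rightHom (φ := act K C)).ker ≤
      (SemidirectProduct.inl (φ := act K C)).range := by
    rw [SemidirectProduct.range_inl_eq_ker_rightHom]
  exact solvable_of_ker_le_range _ _ h

theorem orderOf_of_right_ne (x : Fr K C) (hx : x.right ≠ 1) :
    orderOf x = orderOf x.right := by
  have hc : (1 : K) - ((x.right : Kˣ) : K) ≠ 0 := by
    intro h
    apply hx
    apply Subtype.ext
    apply Units.ext
    simpa using (sub_eq_zero.mp h).symm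
  obtain ⟨w, hw⟩ : ∃ w : K, w * (1 - ((x.right : Kˣ) : K)) = x.left.toAdd :=
    ⟨_, div_mul_cancel₀ _ hc⟩
  let g : Fr K C := SemidirectProduct.inl (Multiplicative.ofAdd w)
  have h1 : x * g = g * SemidirectProduct.inr x.right := by
    apply SemidirectProduct.ext
    · simp only [SemidirectProduct.mul_left, g, SemidirectProduct.left_inl, SemidirectProduct.right_inl,
        SemidirectProduct.left_inr, map_one, MulAut.one_apply, mul_one, act_apply]
      apply Multiplicative.toAdd.injective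
      simp only [toAdd_mul, toAdd_ofAdd]
      linear_combination -hw
    · simp [g]
  have h2 : x = g * SemidirectProduct.inr x.right * g⁻¹ := by
    rw [← h1]
    group
  have h3 : ∀ y : Fr K C, orderOf (g * y * g⁻¹) = orderOf y := fun y =>
    orderOf_injective (MulAut.conj g).toMonoidHom (MulAut.conj g).injective y
  calc orderOf x = orderOf (g * SemidirectProduct.inr x.right * g⁻¹) := congrArg orderOf h2
    _ = orderOf (SemidirectProduct.inr x.right : Fr K C) := h3 _
    _ = orderOf x.right := orderOf_injective _ SemidirectProduct.inr_injective _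

theorem orderOf_of_right_eq (p : ℕ) [Fact p.Prime] [CharP K p] (x : Fr K C) (hx : x.right = 1)
    (hne : x ≠ 1) : orderOf x = p := by
  have h1 : x = SemidirectProduct.inl x.left := by
    apply SemidirectProduct.ext
    · simp
    · simp [hx]
  have h2 : x.left ≠ 1 := by
    intro h
    apply hne
    rw [h1, h, map_one]
  rw [h1]
  have h3 : orderOf (SemidirectProduct.inl x.left : Fr K C) = orderOf x.left :=
    orderOf_injective _ SemidirectProduct.inl_injective _
  rw [h3]
  apply orderOf_eq_prime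
  · apply Multiplicative.toAdd.injective
    simp [CharP.cast_eq_zero K p]
  · exact h2

theorem spec_Fr [Finite K] (p m : ℕ) [Fact p.Prime] [CharP K p] [IsCyclic C] (hC : Nat.card C = m) :
    Set.range (orderOf : Fr K C → ℕ) = {n | n = p ∨ n ∣ m} := by
  apply Set.eq_of_subset_of_subset
  · rintro _ ⟨x, rfl⟩
    by_cases hx : x.right = 1
    · by_cases hne : x = 1
      · right
        rw [hne, orderOf_one]
        exact one_dvd _
      · left
        exact orderOf_of_right_eq K C p x hx hne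
    · right
      rw [orderOf_of_right_ne K C x hx, ← hC]
      exact orderOf_dvd_natCard _
  · rintro n (rfl | hn)
    · refine ⟨SemidirectProduct.inl (Multiplicative.ofAdd (1 : K)), ?_⟩
      have h3 : orderOf (SemidirectProduct.inl (Multiplicative.ofAdd (1 : K)) : Fr K C) =
          orderOf (Multiplicative.ofAdd (1 : K)) :=
        orderOf_injective _ SemidirectProduct.inl_injective _
      rw [h3]
      apply orderOf_eq_prime
      · apply Multiplicative.toAdd.injective
        simp [CharP.cast_eq_zero K n]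
      · intro h
        exact one_ne_zero (Multiplicative.ofAdd.injective h)
    · obtain ⟨g, hg⟩ := IsCyclic.exists_ofOrder_eq_natCard (α := C)
      have hpos : orderOf g ≠ 0 := by
        rw [hg]
        exact Nat.card_pos.ne'
      have h1 : orderOf (g ^ (orderOf g / n)) = n :=
        orderOf_pow_orderOf_div hpos (by rw [hg, hC]; exact hn)
      refine ⟨SemidirectProduct.inr (g ^ (orderOf g / n)), ?_⟩
      have h3 : orderOf (SemidirectProduct.inr (g ^ (orderOf g / n)) : Fr K C) =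
          orderOf (g ^ (orderOf g / n)) :=
        orderOf_injective _ SemidirectProduct.inr_injective _
      rw [h3, h1]

end Fr

/-- Existence of a Frobenius-type group with spectrum `{p} ∪ div m`. -/
theorem exists_Fr (p k m : ℕ) [hp : Fact p.Prime] (hk : k ≠ 0) (hm : m ∣ p ^ k - 1) :
    ∃ (H : Type) (_ : Group H) (_ : Finite H), Group.IsSolvable H ∧
      Set.range (orderOf : H → ℕ) = {n | n = p ∨ n ∣ m} := by
  classical
  let K : Type := GaloisField p k
  haveI : Finite K := inferInstanceAs (Finite (GaloisField p k))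
  haveI : CharP K p := inferInstanceAs (CharP (GaloisField p k) p)
  have hcard : Nat.card K = p ^ k := GaloisField.card p k hk
  have hcardU : Nat.card Kˣ = p ^ k - 1 := by
    haveI := Fintype.ofFinite K
    rw [Nat.card_eq_fintype_card, Fintype.card_units, ← Nat.card_eq_fintype_card, hcard]
  obtain ⟨g, hg⟩ := IsCyclic.exists_ofOrder_eq_natCard (α := Kˣ)
  have hpos : orderOf g ≠ 0 := by
    rw [hg]
    exact Nat.card_pos.ne'
  have h1 : orderOf (g ^ (orderOf g / m)) = m :=
    orderOf_pow_orderOf_div hpos (by rw [hg, hcardU]; exact hm)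
  let C : Subgroup Kˣ := Subgroup.zpowers (g ^ (orderOf g / m))
  have hC : Nat.card C = m := by
    rw [Nat.card_zpowers, h1]
  refine ⟨Fr K C, inferInstance, ?_, fr_solvable K C, spec_Fr K C p m hC⟩
  have : Finite (Multiplicative K × C) := inferInstance
  exact Finite.of_equiv _ (SemidirectProduct.equivProd (φ := act K C)).symm

theorem result {F : Type*} [Field F] [Fintype F] (hF : 4 ≤ Fintype.card F) :
    ∃ (H : Type) (_ : Group H) (_ : Finite H), Group.IsSolvable H ∧
      Set.range (orderOf : H → ℕ) = Set.range (orderOf : Matrix.ProjectiveSpecialLinearGroup (Fin 2) F × Matrix.ProjectiveSpecialLinearGroup (Fin 2) F → ℕ) := by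
  classical
  obtain ⟨p, hp⟩ := CharP.exists F
  obtain ⟨k, hpp, hq⟩ := FiniteField.card F p
  haveI : Fact p.Prime := ⟨hpp⟩
  set q := Fintype.card F with hqdef
  set d := Nat.gcd 2 (q - 1) with hd
  set a := (q - 1) / d with ha
  set b := (q + 1) / d with hb
  have hdvd1 : d ∣ q - 1 := Nat.gcd_dvd_right _ _
  have hdvd2 : d ∣ q + 1 := by
    have : d ∣ 2 := Nat.gcd_dvd_left _ _
    have h3 : q + 1 = (q - 1) + 2 := by omega
    rw [h3]
    exact dvd_add hdvd1 this
  have hqa : a ∣ p ^ (k : ℕ) - 1 := by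
    rw [← hq]
    exact Nat.div_dvd_of_dvd hdvd1
  have hqb : b ∣ p ^ (2 * (k : ℕ)) - 1 := by
    have h1 : p ^ (2 * (k : ℕ)) - 1 = (q + 1) * (q - 1) := by
      rw [pow_mul', ← hq]
      have h1q : 1 ≤ q := by omega
      obtain ⟨r, hr⟩ : ∃ r, q = r + 1 := ⟨q - 1, by omega⟩
      rw [hr]
      simp only [Nat.add_sub_cancel]
      have : (r + 1) ^ 2 = (r + 1 + 1) * r + 1 := by ring
      rw [this, Nat.add_sub_cancel]
    rw [h1]
    exact dvd_trans (Nat.div_dvd_of_dvd hdvd2) (dvd_mul_right _ _)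
  have hcop : Nat.Coprime a b := by
    have hd2 : d = 1 ∨ d = 2 := (Nat.dvd_prime Nat.prime_two).mp (Nat.gcd_dvd_left _ _)
    apply Nat.Coprime.symm
    have hq1 : q - 1 = d * a := (Nat.mul_div_cancel' hdvd1).symm
    have hq2 : q + 1 = d * b := (Nat.mul_div_cancel' hdvd2).symm
    rcases hd2 with hd1 | hd2
    · -- `q` even
      have h3 : Nat.gcd b a ∣ 2 := by
        have h4 : Nat.gcd b a ∣ d * b := dvd_mul_of_dvd_right (Nat.gcd_dvd_left _ _) _
        have h5 : Nat.gcd b a ∣ d * a := dvd_mul_of_dvd_right (Nat.gcd_dvd_right _ _) _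
        rw [← hq2] at h4
        rw [← hq1] at h5
        have := (Nat.dvd_sub h4 h5)
        have h6 : q + 1 - (q - 1) = 2 := by omega
        rwa [h6] at this
      rcases (Nat.dvd_prime Nat.prime_two).mp h3 with h | h
      · exact h
      · exfalso
        have h7 : 2 ∣ a := by rw [← h]; exact Nat.gcd_dvd_right _ _
        have h8 : 2 ∣ q - 1 := by rw [hq1]; exact dvd_mul_of_dvd_right h7 _
        have h9 : d = 2 := Nat.gcd_eq_left h8
        omega
    · have h4 : q - 1 = 2 * a := by rw [hq1, hd2]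
      have h5 : q + 1 = 2 * b := by rw [hq2, hd2]
      have h6 : b = a + 1 := by omega
      rw [h6]
      simp
  have hpq : ∀ x, x ∣ q - 1 → Nat.Coprime p x := by
    intro x hx
    apply (Nat.Prime.coprime_iff_not_dvd hpp).mpr
    intro hdvd
    have h1 : p ∣ q - 1 := dvd_trans hdvd hx
    have h2 : p ∣ q := by
      rw [hq]
      exact dvd_pow_self _ k.ne_zero
    have h3 : p ∣ 1 := by
      have := Nat.dvd_sub h2 h1
      have h6 : q - (q - 1) = 1 := by omega
      rwa [h6] at this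
    exact hpp.one_lt.ne' (Nat.dvd_one.mp h3)
  have hpq' : ∀ x, x ∣ q + 1 → Nat.Coprime p x := by
    intro x hx
    apply (Nat.Prime.coprime_iff_not_dvd hpp).mpr
    intro hdvd
    have h1 : p ∣ q + 1 := dvd_trans hdvd hx
    have h2 : p ∣ q := by
      rw [hq]
      exact dvd_pow_self _ k.ne_zero
    have h3 : p ∣ 1 := (Nat.dvd_add_right h2).mp h1
    exact hpp.one_lt.ne' (Nat.dvd_one.mp h3)
  have hpa : Nat.Coprime p a := hpq a (Nat.div_dvd_of_dvd hdvd1)
  have hpb : Nat.Coprime p b := hpq' b (Nat.div_dvd_of_dvd hdvd2)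
  obtain ⟨A, iA, fA, sA, hA⟩ := exists_Fr p k a k.ne_zero hqa
  obtain ⟨B, iB, fB, sB, hB⟩ := exists_Fr p (2 * k) b (by positivity) hqb
  have hL := Cfsg.Agent.S2475.result (F := F) p hF
  refine ⟨A × B, inferInstance, inferInstance, inferInstance, ?_⟩
  -- description of both spectra
  have hspec1 : ∀ x y : ℕ, (x = p ∨ x ∣ a) → (y = p ∨ y ∣ b) → ∃ z : A × B, orderOf z = Nat.lcm x y := by
    intro x y hx hy
    have h1 : x ∈ Set.range (orderOf : A → ℕ) := by rw [hA]; exact hx
    have h2 : y ∈ Set.range (orderOf : B → ℕ) := by rw [hB]; exact hy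
    obtain ⟨u, hu⟩ := h1
    obtain ⟨v, hv⟩ := h2
    exact ⟨(u, v), by rw [Prod.orderOf, hu, hv]⟩
  have hspec2 : ∀ x y : ℕ, (x ∣ p ∨ x ∣ a ∨ x ∣ b) → (y ∣ p ∨ y ∣ a ∨ y ∣ b) →
      ∃ z : Matrix.ProjectiveSpecialLinearGroup (Fin 2) F × Matrix.ProjectiveSpecialLinearGroup (Fin 2) F,
        orderOf z = Nat.lcm x y := by
    intro x y hx hy
    have h1 : x ∈ Set.range (orderOf : Matrix.ProjectiveSpecialLinearGroup (Fin 2) F → ℕ) := by
      rw [hL]; exact hx
    have h2 : y ∈ Set.range (orderOf : Matrix.ProjectiveSpecialLinearGroup (Fin 2) F → ℕ) := by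
      rw [hL]; exact hy
    obtain ⟨u, hu⟩ := h1
    obtain ⟨v, hv⟩ := h2
    exact ⟨(u, v), by rw [Prod.orderOf, hu, hv]⟩
  -- the target set
  have hdecomp1 : ∀ n c, Nat.Coprime p c → n ∣ p * c → n ∣ c ∨ ∃ n', n' ∣ c ∧ n = Nat.lcm p n' := by
    intro n c hc hn
    by_cases hpn : p ∣ n
    · right
      obtain ⟨n', rfl⟩ := hpn
      have h1 : n' ∣ c := Nat.dvd_of_mul_dvd_mul_left hpp.pos hn
      refine ⟨n', h1, ?_⟩
      rw [(Nat.Coprime.coprime_dvd_right h1 hc).lcm_eq_mul]
    · left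
      exact ((Nat.Prime.coprime_iff_not_dvd hpp).mpr hpn).symm.dvd_of_dvd_mul_left hn
  have hdecomp2 : ∀ n, n ∣ a * b → n = Nat.lcm (Nat.gcd n a) (Nat.gcd n b) := by
    intro n hn
    have hc : Nat.Coprime (Nat.gcd n a) (Nat.gcd n b) :=
      Nat.Coprime.coprime_dvd_left (Nat.gcd_dvd_right _ _)
        (Nat.Coprime.coprime_dvd_right (Nat.gcd_dvd_right _ _) hcop)
    rw [hc.lcm_eq_mul, ← Nat.Coprime.gcd_mul _ hcop]
    exact (Nat.gcd_eq_left hn).symm
  have htarget1 : ∀ x y : ℕ, (x ∣ p ∨ x ∣ a ∨ x ∣ b) → (y ∣ p ∨ y ∣ a ∨ y ∣ b) →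
      Nat.lcm x y ∣ p * a ∨ Nat.lcm x y ∣ p * b ∨ Nat.lcm x y ∣ a * b := by
    rintro x y (hx | hx | hx) (hy | hy | hy)
    · left; exact Nat.lcm_dvd (dvd_mul_of_dvd_left hx _) (dvd_mul_of_dvd_left hy _)
    · left; exact Nat.lcm_dvd (dvd_mul_of_dvd_left hx _) (dvd_mul_of_dvd_right hy _)
    · right; left; exact Nat.lcm_dvd (dvd_mul_of_dvd_left hx _) (dvd_mul_of_dvd_right hy _)
    · left; exact Nat.lcm_dvd (dvd_mul_of_dvd_right hx _) (dvd_mul_of_dvd_left hy _)
    · left; exact Nat.lcm_dvd (dvd_mul_of_dvd_right hx _) (dvd_mul_of_dvd_right hy _)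
    · right; right; exact Nat.lcm_dvd (dvd_mul_of_dvd_left hx _) (dvd_mul_of_dvd_right hy _)
    · right; left; exact Nat.lcm_dvd (dvd_mul_of_dvd_right hx _) (dvd_mul_of_dvd_left hy _)
    · right; right; exact Nat.lcm_dvd (dvd_mul_of_dvd_right hx _) (dvd_mul_of_dvd_left hy _)
    · right; left; exact Nat.lcm_dvd (dvd_mul_of_dvd_right hx _) (dvd_mul_of_dvd_right hy _)
  have hspecA : ∀ z : A × B, orderOf z ∣ p * a ∨ orderOf z ∣ p * b ∨ orderOf z ∣ a * b := by
    intro z
    have h1 : orderOf z.1 ∈ Set.range (orderOf : A → ℕ) := ⟨_, rfl⟩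
    have h2 : orderOf z.2 ∈ Set.range (orderOf : B → ℕ) := ⟨_, rfl⟩
    rw [hA] at h1
    rw [hB] at h2
    rw [Prod.orderOf]
    apply htarget1
    · rcases h1 with h | h
      · left; rw [h]
      · right; left; exact h
    · rcases h2 with h | h
      · left; rw [h]
      · right; right; exact h
  have hspecL : ∀ z : Matrix.ProjectiveSpecialLinearGroup (Fin 2) F × Matrix.ProjectiveSpecialLinearGroup (Fin 2) F,
      orderOf z ∣ p * a ∨ orderOf z ∣ p * b ∨ orderOf z ∣ a * b := by
    intro z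
    have h1 : orderOf z.1 ∈ Set.range (orderOf : Matrix.ProjectiveSpecialLinearGroup (Fin 2) F → ℕ) := ⟨_, rfl⟩
    have h2 : orderOf z.2 ∈ Set.range (orderOf : Matrix.ProjectiveSpecialLinearGroup (Fin 2) F → ℕ) := ⟨_, rfl⟩
    rw [hL] at h1 h2
    rw [Prod.orderOf]
    exact htarget1 _ _ h1 h2
  have hrepA : ∀ n, (n ∣ p * a ∨ n ∣ p * b ∨ n ∣ a * b) → ∃ z : A × B, orderOf z = n := by
    rintro n (hn | hn | hn)
    · rcases hdecomp1 n a hpa hn with h | ⟨n', h1, h2⟩
      · obtain ⟨z, hz⟩ := hspec1 n 1 (Or.inr h) (Or.inr (one_dvd _))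
        exact ⟨z, by rw [hz, Nat.lcm_one_right]⟩
      · obtain ⟨z, hz⟩ := hspec1 n' p (Or.inr h1) (Or.inl rfl)
        exact ⟨z, by rw [hz, h2, Nat.lcm_comm]⟩
    · rcases hdecomp1 n b hpb hn with h | ⟨n', h1, h2⟩
      · obtain ⟨z, hz⟩ := hspec1 1 n (Or.inr (one_dvd _)) (Or.inr h)
        exact ⟨z, by rw [hz, Nat.lcm_one_left]⟩
      · obtain ⟨z, hz⟩ := hspec1 p n' (Or.inl rfl) (Or.inr h1)
        exact ⟨z, by rw [hz, h2]⟩
    · obtain ⟨z, hz⟩ := hspec1 _ _ (Or.inr (Nat.gcd_dvd_right n a)) (Or.inr (Nat.gcd_dvd_right n b))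
      exact ⟨z, by rw [hz]; exact (hdecomp2 n hn).symm⟩
  have hrepL : ∀ n, (n ∣ p * a ∨ n ∣ p * b ∨ n ∣ a * b) →
      ∃ z : Matrix.ProjectiveSpecialLinearGroup (Fin 2) F × Matrix.ProjectiveSpecialLinearGroup (Fin 2) F, orderOf z = n := by
    rintro n (hn | hn | hn)
    · rcases hdecomp1 n a hpa hn with h | ⟨n', h1, h2⟩
      · obtain ⟨z, hz⟩ := hspec2 n 1 (Or.inr (Or.inl h)) (Or.inl (one_dvd _))
        exact ⟨z, by rw [hz, Nat.lcm_one_right]⟩
      · obtain ⟨z, hz⟩ := hspec2 p n' (Or.inl dvd_rfl) (Or.inr (Or.inl h1))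
        exact ⟨z, by rw [hz, h2]⟩
    · rcases hdecomp1 n b hpb hn with h | ⟨n', h1, h2⟩
      · obtain ⟨z, hz⟩ := hspec2 n 1 (Or.inr (Or.inr h)) (Or.inl (one_dvd _))
        exact ⟨z, by rw [hz, Nat.lcm_one_right]⟩
      · obtain ⟨z, hz⟩ := hspec2 p n' (Or.inl dvd_rfl) (Or.inr (Or.inr h1))
        exact ⟨z, by rw [hz, h2]⟩
    · obtain ⟨z, hz⟩ := hspec2 _ _ (Or.inr (Or.inl (Nat.gcd_dvd_right n a))) (Or.inr (Or.inr (Nat.gcd_dvd_right n b)))
      exact ⟨z, by rw [hz]; exact (hdecomp2 n hn).symm⟩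
  apply Set.eq_of_subset_of_subset
  · rintro _ ⟨z, rfl⟩
    obtain ⟨w, hw⟩ := hrepL _ (hspecA z)
    exact ⟨w, hw⟩
  · rintro _ ⟨z, rfl⟩
    obtain ⟨w, hw⟩ := hrepA _ (hspecL z)
    exact ⟨w, hw⟩

end Cfsg.Agent.S3532
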