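import Mathlib
import Cfsg.Statements.S3554

set_option autoImplicit false
open Cfsg

namespace Cfsg.Agent.S3554

/-- Let G act faithfully and transitively on a finite set and suppose G has a non-trivial cyclic normal subgroup. Then some element of G of prime order fixes no point. -/
theorem result {G Ω : Type*} [Group G] [Finite G] [MulAction G Ω] [FaithfulSMul G Ω] [Finite Ω]
    (htrans : MulAction.IsPretransitive G Ω) (C : Subgroup G) (hC : C.Normal) (hC1 : C ≠ ⊥) (hcyc : IsCyclic ↥C) :
    ∃ g : G, (orderOf g).Prime ∧ ∀ ω : Ω, g • ω ≠ ω := by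
  classical
  have hCnt : Nontrivial C := (Subgroup.nontrivial_iff_ne_bot _).mpr hC1
  obtain ⟨c, hc⟩ := IsCyclic.exists_generator (α := C)
  have hcord : orderOf c = Nat.card C := orderOf_eq_card_of_forall_mem_zpowers hc
  have hcard : Nat.card C ≠ 1 := by
    intro h
    exact not_subsingleton C (Nat.card_eq_one_iff_unique.mp h).1
  obtain ⟨p, hp, m, hm⟩ := Nat.exists_prime_and_dvd hcard
  have hposC : 0 < Nat.card C := Nat.card_pos
  have hmpos : 0 < m := by
    rcases Nat.eq_zero_or_pos m with h | h
    · subst h; simp at hm; omega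
    · exact h
  set x : G := ((c : G)) ^ m with hx
  have hxord : orderOf x = p := by
    have h1 : orderOf (c : G) = p * m := by
      rw [Subgroup.orderOf_coe, hcord, hm]
    rw [hx, orderOf_pow_of_dvd (by omega) (by rw [h1]; exact Dvd.intro_left p rfl), h1]
    exact Nat.mul_div_cancel _ hmpos
  refine ⟨x, by rw [hxord]; exact hp, ?_⟩
  intro ω hω
  have hxne : x ≠ 1 := by
    intro h
    rw [h, orderOf_one] at hxord
    exact hp.one_lt.ne hxord
  apply hxne
  apply FaithfulSMul.eq_of_smul_eq_smul (α := Ω)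
  intro η
  rw [one_smul]
  obtain ⟨g, rfl⟩ := htrans.exists_smul_eq ω η
  -- g⁻¹ c g is a power of c
  have hmem : g⁻¹ * (c : G) * g ∈ C := by
    have := hC.conj_mem (c : G) c.2 g⁻¹
    simpa using this
  obtain ⟨k, hk⟩ := hc (⟨g⁻¹ * (c : G) * g, hmem⟩ : C)
  have hk' : (c : G) ^ k = g⁻¹ * (c : G) * g := by
    have := congrArg (Subtype.val) hk
    simpa using this
  have hconj : g⁻¹ * x * g = x ^ k := by
    have h1 : g⁻¹ * x * g = (g⁻¹ * (c : G) * g) ^ m := by
      rw [hx]
      have := conj_pow (i := m) (a := g⁻¹) (b := (c : G))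
      simpa using this.symm
    rw [h1, ← hk', hx, ← zpow_natCast, ← zpow_natCast, ← zpow_mul, ← zpow_mul, mul_comm]
  have hfix : x ^ k • ω = ω := by
    have : x ∈ MulAction.stabilizer G ω := hω
    exact (MulAction.stabilizer G ω).zpow_mem this k
  rw [← hconj] at hfix
  have : g • ((g⁻¹ * x * g) • ω) = g • ω := by rw [hfix]
  simpa [mul_smul] using this

end Cfsg.Agent.S3554
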