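import Mathlib
import Cfsg.Statements.S3555
import Cfsg.Agent.Lib.Derangement

set_option autoImplicit false
set_option linter.all false
open Cfsg

namespace Cfsg.Agent.S3555

open Cfsg.Agent.Lib.Derangement MulAction Finset
open scoped Pointwise

universe u v

section Count

variable {G : Type u} {Ω : Type v} [Group G] [MulAction G Ω]
  [Fintype G] [Fintype Ω] [DecidableEq G] [DecidableEq Ω]

/-- number of fixed points -/
def fx (g : G) : ℕ := (univ.filter (fun x : Ω => g • x = x)).card

/-- order of a two point stabilizer -/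
def st (x y : Ω) : ℕ := (univ.filter (fun g : G => g • x = x ∧ g • y = y)).card

omit [DecidableEq G] in
theorem fx_mul_fx (g : G) : (fx (Ω := Ω) g) * (fx (Ω := Ω) g)
    = ∑ x : Ω, ∑ y : Ω, (if g • x = x ∧ g • y = y then 1 else 0) := by
  unfold fx
  rw [Finset.card_filter, Finset.sum_mul_sum]
  apply Finset.sum_congr rfl
  intro x _
  apply Finset.sum_congr rfl
  intro y _
  by_cases h1 : g • x = x <;> by_cases h2 : g • y = y <;> simp [h1, h2]

theorem sum_sq : ∑ g : G, (fx (Ω := Ω) g) * (fx (Ω := Ω) g)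
    = ∑ x : Ω, ∑ y : Ω, st (G := G) x y := by
  simp_rw [fx_mul_fx]
  rw [Finset.sum_comm]
  apply Finset.sum_congr rfl
  intro x _
  rw [Finset.sum_comm]
  apply Finset.sum_congr rfl
  intro y _
  unfold st
  rw [Finset.card_filter]

theorem st_smul (c : G) (x y : Ω) : st (G := G) (c • x) (c • y) = st (G := G) x y := by
  unfold st
  apply Finset.card_nbij' (fun g => c⁻¹ * g * c) (fun g => c * g * c⁻¹)
  · intro g hg
    simp only [coe_filter, mem_univ, true_and, Set.mem_setOf_eq] at hg ⊢
    constructor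
    · rw [mul_smul, mul_smul, hg.1, inv_smul_smul]
    · rw [mul_smul, mul_smul, hg.2, inv_smul_smul]
  · intro g hg
    simp only [coe_filter, mem_univ, true_and, Set.mem_setOf_eq] at hg ⊢
    constructor
    · rw [mul_smul, mul_smul, inv_smul_smul, hg.1]
    · rw [mul_smul, mul_smul, inv_smul_smul, hg.2]
  · intro g _; group
  · intro g _; group

theorem sum_st_smul (c : G) (x : Ω) :
    ∑ y : Ω, st (G := G) (c • x) y = ∑ y : Ω, st (G := G) x y := by
  calc ∑ y : Ω, st (G := G) (c • x) y = ∑ y : Ω, st (G := G) (c • x) (c • y) :=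
        (Equiv.sum_comp (MulAction.toPerm c) (fun y => st (G := G) (c • x) y)).symm
    _ = ∑ y : Ω, st (G := G) x y := by
        apply Finset.sum_congr rfl
        intro y _
        exact st_smul c x y

theorem sum_fx : ∑ g : G, fx (Ω := Ω) g = ∑ x : Ω, st (G := G) x x := by
  unfold fx st
  simp_rw [Finset.card_filter, and_self]
  rw [Finset.sum_comm]

variable [IsPretransitive G Ω] [FaithfulSMul G Ω]

theorem card_eq_mul (a : Ω) : Fintype.card G = Fintype.card Ω * st (G := G) a a := by
  have h := orbit_stab (H := G) a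
  rw [MulAction.orbit_eq_univ] at h
  simp only [Nat.card_coe_set_eq, Set.ncard_univ, Nat.card_eq_fintype_card] at h
  rw [← h]
  simp only [Nat.card_eq_fintype_card, Fintype.card_setUniv]
  congr 1
  unfold st
  simp only [and_self]
  rw [Fintype.card_subtype]
  rfl

theorem sum_fx_eq (a : Ω) : ∑ g : G, fx (Ω := Ω) g = Fintype.card G := by
  rw [sum_fx, card_eq_mul a]
  have : ∀ x : Ω, st (G := G) x x = st (G := G) a a := by
    intro x
    obtain ⟨c, rfl⟩ := exists_smul_eq G a x
    exact st_smul c a a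
  simp_rw [this]
  simp

theorem sum_sq_eq (a : Ω) : ∑ g : G, (fx (Ω := Ω) g) * (fx (Ω := Ω) g)
    = Fintype.card G + Fintype.card Ω * ∑ y ∈ univ.erase a, st (G := G) a y := by
  rw [sum_sq]
  have : ∀ x : Ω, ∑ y : Ω, st (G := G) x y = ∑ y : Ω, st (G := G) a y := by
    intro x
    obtain ⟨c, rfl⟩ := exists_smul_eq G a x
    exact sum_st_smul c a
  simp_rw [this]
  rw [Finset.sum_const, Finset.card_univ, smul_eq_mul, ← Finset.add_sum_erase _ _ (mem_univ a),
    mul_add, ← card_eq_mul a]

theorem identity (a : Ω) :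
    ∑ g : G, (((fx (Ω := Ω) g : ℕ) : ℤ) - 1) * ((fx (Ω := Ω) g : ℤ) - Fintype.card Ω)
      = Fintype.card Ω * ∑ y ∈ univ.erase a, (st (G := G) a y : ℤ) := by
  have h1 := sum_sq_eq (G := G) a
  have h2 := sum_fx_eq (G := G) a
  have h1' : ∑ g : G, ((fx (Ω := Ω) g : ℤ)) * ((fx (Ω := Ω) g : ℤ))
      = Fintype.card G + Fintype.card Ω * ∑ y ∈ univ.erase a, (st (G := G) a y : ℤ) := by
    exact_mod_cast h1
  have h2' : ∑ g : G, ((fx (Ω := Ω) g : ℤ)) = Fintype.card G := by
    exact_mod_cast h2
  have h3 : ∀ g : G, (((fx (Ω := Ω) g : ℕ) : ℤ) - 1) * ((fx (Ω := Ω) g : ℤ) - Fintype.card Ω)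
      = (fx (Ω := Ω) g : ℤ) * (fx (Ω := Ω) g : ℤ)
        - ((Fintype.card Ω : ℤ) + 1) * (fx (Ω := Ω) g : ℤ) + (Fintype.card Ω : ℤ) := by
    intro g
    ring
  simp_rw [h3]
  rw [Finset.sum_add_distrib, Finset.sum_sub_distrib, h1', ← Finset.mul_sum, h2',
    Finset.sum_const, Finset.card_univ, nsmul_eq_mul]
  ring

/-- With every derangement an involution, the number of derangements is at most `W`. -/
theorem der_le (hinv : ∀ g : G, (∀ ω : Ω, g • ω ≠ ω) → g * g = 1) (a : Ω) :
    (univ.filter (fun g : G => ∀ ω : Ω, g • ω ≠ ω)).card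
      ≤ ∑ y ∈ univ.erase a, st (G := G) a y := by
  classical
  set der := univ.filter (fun g : G => ∀ ω : Ω, g • ω ≠ ω) with hder
  have h1 : der.card = ∑ b ∈ univ.erase a, (der.filter (fun g => g • a = b)).card := by
    apply Finset.card_eq_sum_card_fiberwise
    intro g hg
    simp only [coe_erase, coe_univ, Set.mem_diff, Set.mem_univ, Set.mem_singleton_iff, true_and]
    have : g ∈ der := hg
    rw [hder, mem_filter] at this
    exact this.2 a
  rw [h1]
  apply Finset.sum_le_sum
  intro b hb
  rcases Finset.eq_empty_or_nonempty (der.filter (fun g => g • a = b)) with he | ⟨t, ht⟩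
  · rw [he]; simp
  · rw [mem_filter] at ht
    obtain ⟨ht1, ht2⟩ := ht
    rw [hder, mem_filter] at ht1
    have htt := hinv t ht1.2
    unfold st
    apply Finset.card_le_card_of_injOn (fun u => t⁻¹ * u)
    · intro u hu
      rw [mem_coe, mem_filter] at hu
      obtain ⟨hu1, hu2⟩ := hu
      rw [hder, mem_filter] at hu1
      have huu := hinv u hu1.2
      simp only [coe_filter, mem_univ, true_and, Set.mem_setOf_eq]
      have hta : t⁻¹ • b = a := by rw [← ht2, inv_smul_smul]
      have hua : u • b = a := by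
        rw [← hu2, ← mul_smul, huu, one_smul]
      constructor
      · rw [mul_smul, hu2, hta]
      · rw [mul_smul, hua]
        have : t⁻¹ = t := inv_eq_of_mul_eq_one_left htt
        rw [this, ht2]
    · intro u _ v _ huv
      exact mul_left_cancel huv

theorem fx_le_card (g : G) : fx (Ω := Ω) g ≤ Fintype.card Ω := by
  unfold fx
  exact Finset.card_filter_le _ _

theorem fx_eq_zero_iff (g : G) : fx (Ω := Ω) g = 0 ↔ ∀ ω : Ω, g • ω ≠ ω := by
  unfold fx
  rw [Finset.card_eq_zero, Finset.filter_eq_empty_iff]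
  simp

theorem eq_one_of_fx_eq (g : G) (h : fx (Ω := Ω) g = Fintype.card Ω) : g = 1 := by
  unfold fx at h
  have h2 : univ.filter (fun x : Ω => g • x = x) = univ := by
    apply Finset.eq_univ_of_card
    rw [h]
  have h3 : ∀ x : Ω, g • x = x := by
    intro x
    have : x ∈ univ.filter (fun x : Ω => g • x = x) := by rw [h2]; exact mem_univ x
    exact (mem_filter.mp this).2
  exact FaithfulSMul.eq_of_smul_eq_smul (fun b => by rw [h3 b, one_smul])

/-- The main consequence of the count. -/
theorem fx_le_one (hinv : ∀ g : G, (∀ ω : Ω, g • ω ≠ ω) → g * g = 1) (a : Ω)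
    (g : G) (hg : g ≠ 1) : fx (Ω := Ω) g ≤ 1 := by
  classical
  by_contra hcon
  push Not at hcon
  have hid := identity (G := G) a
  have hder := der_le (G := G) (Ω := Ω) hinv a
  have hlt : ∑ g : G, (((fx (Ω := Ω) g : ℕ) : ℤ) - 1) * ((fx (Ω := Ω) g : ℤ) - Fintype.card Ω)
      < ∑ g : G, (if ∀ ω : Ω, g • ω ≠ ω then (Fintype.card Ω : ℤ) else 0) := by
    apply Finset.sum_lt_sum
    · intro x _
      by_cases hx : ∀ ω : Ω, x • ω ≠ ω
      · rw [if_pos hx, (fx_eq_zero_iff x).mpr hx]
        simp
      · rw [if_neg hx]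
        have h1 : fx (Ω := Ω) x ≠ 0 := fun h => hx ((fx_eq_zero_iff x).mp h)
        have h2 := fx_le_card (Ω := Ω) x
        have h1' : (1 : ℤ) ≤ fx (Ω := Ω) x := by exact_mod_cast Nat.one_le_iff_ne_zero.mpr h1
        have h2' : (fx (Ω := Ω) x : ℤ) ≤ Fintype.card Ω := by exact_mod_cast h2
        nlinarith
    · refine ⟨g, mem_univ _, ?_⟩
      have h0 : ¬ ∀ ω : Ω, g • ω ≠ ω := by
        intro h
        have := (fx_eq_zero_iff g).mpr h
        omega
      rw [if_neg h0]
      have h2 : fx (Ω := Ω) g < Fintype.card Ω :=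
        lt_of_le_of_ne (fx_le_card g) (fun h => hg (eq_one_of_fx_eq g h))
      have h1' : (2 : ℤ) ≤ fx (Ω := Ω) g := by exact_mod_cast hcon
      have h2' : (fx (Ω := Ω) g : ℤ) < Fintype.card Ω := by exact_mod_cast h2
      nlinarith
  rw [hid] at hlt
  have h3 : ∑ g : G, (if ∀ ω : Ω, g • ω ≠ ω then (Fintype.card Ω : ℤ) else 0)
      = (Fintype.card Ω : ℤ) * ((univ.filter (fun g : G => ∀ ω : Ω, g • ω ≠ ω)).card : ℤ) := by
    rw [Finset.card_filter]
    push_cast
    rw [Finset.mul_sum]
    apply Finset.sum_congr rfl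
    intro x _
    by_cases hx : ∀ ω : Ω, x • ω ≠ ω <;> simp [hx]
  rw [h3] at hlt
  have hpos : (0 : ℤ) ≤ Fintype.card Ω := by positivity
  have h4 : ((univ.filter (fun g : G => ∀ ω : Ω, g • ω ≠ ω)).card : ℤ)
      ≤ ∑ y ∈ univ.erase a, (st (G := G) a y : ℤ) := by
    exact_mod_cast hder
  have := mul_le_mul_of_nonneg_left h4 hpos
  omega

end Count

/-- Let G act faithfully and transitively on a finite set and suppose every element of G fixing no point is an involution. Then either G is an elementary abelian 2-group, or G is a Frobenius group whose Frobenius kernel is an elementary abelian 2-group: G has a Frobenius complement H, and the elements lying in no conjugate of H, together with the identity, pairwise commute and square to the identity. -/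
theorem result {G Ω : Type*} [Group G] [Finite G] [MulAction G Ω] [FaithfulSMul G Ω] [Finite Ω]
    (htrans : MulAction.IsPretransitive G Ω) (hinv : ∀ g : G, (∀ ω : Ω, g • ω ≠ ω) → orderOf g = 2) :
    (IsMulCommutative G ∧ ∀ g : G, g ^ 2 = 1) ∨
    (∃ H : Subgroup G, Cfsg.IsFrobeniusComplement H ∧
      (∀ x ∈ Cfsg.frobeniusKernel H, x ^ 2 = 1) ∧
      ∀ x ∈ Cfsg.frobeniusKernel H, ∀ y ∈ Cfsg.frobeniusKernel H, x * y = y * x) := by
  classical
  haveI := Fintype.ofFinite G
  haveI := Fintype.ofFinite Ω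
  have hsq : ∀ g : G, (∀ ω : Ω, g • ω ≠ ω) → g * g = 1 := by
    intro g hg
    rw [← pow_two, ← orderOf_dvd_iff_pow_eq_one, hinv g hg]
  by_cases hb : ∃ a : Ω, stabilizer G a ≠ ⊥
  swap
  · left
    push Not at hb
    have hall : ∀ g : G, g * g = 1 := by
      intro g
      by_cases hg : g = 1
      · simp [hg]
      · apply hsq
        intro ω hω
        have : g ∈ stabilizer G ω := hω
        rw [hb, Subgroup.mem_bot] at this
        exact hg this
    refine ⟨⟨⟨fun x y => ?_⟩⟩, fun g => by rw [pow_two]; exact hall g⟩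
    have h1 := hall (x * y)
    have h2 := hall x
    have h3 := hall y
    calc x * y = x * y * (y * x * (y * x)) := by rw [hall (y * x), mul_one]
      _ = x * (y * y) * x * (y * x) := by group
      _ = (x * x) * (y * x) := by rw [h3, mul_one]
      _ = y * x := by rw [h2, one_mul]
  right
  obtain ⟨a, ha⟩ := hb
  have hle := fx_le_one (G := G) (Ω := Ω) hsq a
  -- two fixed points force the identity
  have htwo : ∀ g : G, ∀ x y : Ω, x ≠ y → g • x = x → g • y = y → g = 1 := by
    intro g x y hxy hx hy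
    by_contra hg
    have h1 := hle g hg
    have h2 : ({x, y} : Finset Ω) ⊆ univ.filter (fun z : Ω => g • z = z) := by
      intro z hz
      rw [Finset.mem_insert, Finset.mem_singleton] at hz
      rcases hz with rfl | rfl <;> simp [hx, hy]
    have h3 := Finset.card_le_card h2
    rw [Finset.card_pair hxy] at h3
    unfold fx at h1
    omega
  have hkerder : ∀ x ∈ Cfsg.frobeniusKernel (stabilizer G a), x ≠ 1 → ∀ ω : Ω, x • ω ≠ ω := by
    intro x hx hx1 ω hω
    rcases hx with h | h
    · exact hx1 h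
    · obtain ⟨c, rfl⟩ := exists_smul_eq G a ω
      apply h c
      rw [Subgroup.mem_pointwise_smul_iff_inv_smul_mem]
      change (MulAut.conj c)⁻¹ x ∈ _
      rw [MulAut.conj_inv_apply, mem_stabilizer_iff]
      rw [mul_smul, mul_smul, hω, inv_smul_smul]
  refine ⟨stabilizer G a, ⟨ha, ?_, ?_⟩, ?_, ?_⟩
  · intro htop
    apply ha
    have hall : ∀ ω : Ω, ω = a := by
      intro ω
      obtain ⟨c, rfl⟩ := exists_smul_eq G a ω
      have : c ∈ stabilizer G a := by rw [htop]; trivial
      exact this
    rw [eq_bot_iff]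
    intro g _
    rw [Subgroup.mem_bot]
    apply FaithfulSMul.eq_of_smul_eq_smul (α := Ω)
    intro b
    rw [hall b, one_smul]
    rw [hall (g • a)]
  · intro g hg
    rw [eq_bot_iff]
    rintro x ⟨hx1, hx2⟩
    rw [Subgroup.mem_bot]
    have hx1' : x • a = a := hx1
    have hx2 : x ∈ MulAut.conj g • stabilizer G a := hx2
    rw [Subgroup.mem_pointwise_smul_iff_inv_smul_mem] at hx2
    change (MulAut.conj g)⁻¹ x ∈ _ at hx2
    rw [MulAut.conj_inv_apply, mem_stabilizer_iff] at hx2
    have hga : g • a ≠ a := hg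
    apply htwo x a (g • a) (Ne.symm hga) hx1'
    rw [mul_smul, mul_smul] at hx2
    have h3 : g • (g⁻¹ • x • g • a) = g • a := by rw [hx2]
    rwa [smul_inv_smul] at h3
  · intro x hx
    by_cases hx1 : x = 1
    · simp [hx1]
    · rw [pow_two]
      exact hsq x (hkerder x hx hx1)
  · intro x hx y hy
    by_cases hx1 : x = 1
    · simp [hx1]
    by_cases hy1 : y = 1
    · simp [hy1]
    by_cases hxy : x = y
    · rw [hxy]
    have hxd := hkerder x hx hx1
    have hyd := hkerder y hy hy1
    have hxx := hsq x hxd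
    have hyy := hsq y hyd
    have hprod : ∀ ω : Ω, (x * y) • ω ≠ ω := by
      intro c hc
      apply hxy
      have hxinv : x⁻¹ = x := inv_eq_of_mul_eq_one_left hxx
      have h1 : y • c = x • c := by
        have h2 : x⁻¹ • ((x * y) • c) = x⁻¹ • c := by rw [hc]
        rw [mul_smul, inv_smul_smul, hxinv] at h2
        exact h2
      have h2 : x⁻¹ * y = 1 := by
        apply htwo _ c (y • c) (Ne.symm (hyd c))
        · rw [mul_smul, h1, inv_smul_smul]
        · rw [mul_smul, ← mul_smul y y, hyy, one_smul, hxinv, ← h1]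
      exact inv_mul_eq_one.mp h2
    have h1 := hsq _ hprod
    calc x * y = x * y * (y * x * (y * x)) := by
          have : y * x * (y * x) = 1 := by
            have h3 : (y * x) = (x * y)⁻¹ := by
              rw [mul_inv_rev, inv_eq_of_mul_eq_one_left hxx, inv_eq_of_mul_eq_one_left hyy]
            rw [h3, ← mul_inv_rev, h1, inv_one]
          rw [this, mul_one]
      _ = x * (y * y) * x * (y * x) := by group
      _ = (x * x) * (y * x) := by rw [hyy, mul_one]
      _ = y * x := by rw [hxx, one_mul]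

end Cfsg.Agent.S3555
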