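import Mathlib
import Cfsg.Statements.S3556
import Cfsg.Agent.Lib.MinNormalPrim

set_option autoImplicit false
set_option linter.all false
open Cfsg

namespace Cfsg.Agent.S3556

open Cfsg.Agent.Lib.MinNormalPrim MulAction

/-- A derangement `x` cannot commute with an element of prime order `q ≠ p` if all derangements are
`p`-elements. -/
theorem contra {G Ω : Type*} [Group G] [Finite G] [MulAction G Ω] (p : ℕ) (hp : p.Prime)
    (hder : ∀ g : G, (∀ ω : Ω, g • ω ≠ ω) → ∃ k : ℕ, orderOf g = p ^ k)
    {x y : G} (hx : ∀ ω : Ω, x • ω ≠ ω) (hc : Commute x y) (hy : (orderOf y).Prime)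
    (hyp : orderOf y ≠ p) : False := by
  obtain ⟨k, hk⟩ := hder x hx
  have hq := hy
  have hcop : (orderOf x).Coprime (orderOf y) := by
    rw [hk]
    apply Nat.Coprime.pow_left
    exact (Nat.coprime_primes hp hy).mpr (Ne.symm hyp)
  have hd := derangement_mul_of_coprime hx hc hcop
  obtain ⟨j, hj⟩ := hder (x * y) hd
  rw [hc.orderOf_mul_eq_mul_orderOf_of_coprime hcop] at hj
  have h1 : orderOf y ∣ p ^ j := by
    rw [← hj]; exact Dvd.intro_left _ rfl
  have h2 := (Nat.prime_dvd_prime_iff_eq hy hp).mp (hy.dvd_of_dvd_pow h1)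
  exact hyp h2

/-- Let G act faithfully and primitively on a finite set with at least two points, and suppose that for some fixed prime p every element of G fixing no point has order a power of p. Then G is of affine type (it has a regular normal subgroup that is an elementary abelian r-group for some prime r) or almost simple (it has a non-abelian simple normal subgroup with trivial centralizer). -/
theorem result {G Ω : Type*} [Group G] [Finite G] [MulAction G Ω] [FaithfulSMul G Ω] [Finite Ω]
    (hprim : MulAction.IsPreprimitive G Ω) (hΩ : 2 ≤ Nat.card Ω) (p : ℕ) (hp : p.Prime)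
    (hder : ∀ g : G, (∀ ω : Ω, g • ω ≠ ω) → ∃ k : ℕ, orderOf g = p ^ k) :
    (∃ (N : Subgroup G) (r : ℕ), r.Prime ∧ N.Normal ∧ Cfsg.IsElementaryAbelian r N ∧
      MulAction.IsPretransitive N Ω ∧ ∀ a : Ω, MulAction.stabilizer N a = ⊥) ∨
    (∃ T : Subgroup G, T.Normal ∧ IsSimpleGroup ↥T ∧ ¬ IsMulCommutative ↥T ∧
      Subgroup.centralizer (T : Set G) = ⊥) := by
  classical
  haveI : Nontrivial Ω := Finite.one_lt_card_iff_nontrivial.mp hΩ
  haveI : Nonempty Ω := inferInstance
  haveI : Nontrivial G := by
    obtain ⟨a, b, hab⟩ := exists_pair_ne Ω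
    obtain ⟨g, hg⟩ := hprim.exists_smul_eq a b
    refine ⟨⟨g, 1, ?_⟩⟩
    rintro rfl
    rw [one_smul] at hg
    exact hab hg
  obtain ⟨N, hN⟩ := exists_minNormal (G := G)
  have ht : IsPretransitive N Ω := isPretransitive_of_normal hprim N hN.1 hN.2.1
  by_cases hab : ∀ x ∈ N, ∀ y ∈ N, x * y = y * x
  · left
    obtain ⟨r, hr, hrN⟩ := hN.exists_prime_pow_eq_one hab
    refine ⟨N, r, hr, hN.1, ⟨⟨⟨fun a b => Subtype.ext (hab a a.2 b b.2)⟩⟩, hrN⟩, ht, ?_⟩
    exact stabilizer_eq_bot_of_comm N hab ht
  · right
    obtain ⟨T, hT⟩ := exists_minIn N hN.2.1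
    have hsimple := hT.isSimple hN
    have hTna : ¬ IsMulCommutative T := by
      intro hc
      apply hab
      apply hT.comm_of_comm hN
      intro x hx y hy
      exact congrArg Subtype.val (hc.is_comm.comm ⟨x, hx⟩ ⟨y, hy⟩)
    obtain ⟨y, hyprime, hyp⟩ := exists_prime_order_ne hsimple hTna p hp
    obtain ⟨x, hxT, hx⟩ := hT.exists_derangement hN ht
    by_cases hTN : T = N
    · subst hTN
      refine ⟨T, hN.1, hsimple, hTna, ?_⟩
      rw [eq_bot_iff]
      intro z hz
      rw [Subgroup.mem_bot]
      by_contra hz1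
      have hzcomm : ∀ t ∈ T, z * t = t * z := by
        intro t ht'
        exact (Subgroup.mem_centralizer_iff.mp hz t ht').symm
      have hzd : ∀ ω : Ω, z • ω ≠ ω := by
        intro ω hω
        exact hz1 (eq_one_of_commute_of_fixes T ht hzcomm hω)
      refine contra (Ω := Ω) p hp hder hzd (y := (y : G)) (hzcomm y y.2) ?_ ?_
      · rwa [Subgroup.orderOf_coe]
      · rwa [Subgroup.orderOf_coe]
    · exfalso
      -- some conjugate of T is different from T
      have hex : ∃ g : G, cj g T ≠ T := by
        by_contra hcon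
        push Not at hcon
        apply hTN
        apply le_antisymm hT.le
        intro n hn
        apply hT.induction hN (Q := fun x => x ∈ T) _ T.one_mem (fun a b => T.mul_mem)
          (fun a => T.inv_mem) n hn
        intro g z hz
        rwa [hcon g] at hz
      obtain ⟨g, hg⟩ := hex
      rcases hT.cj_dichotomy hN.1 g with h | h
      · exact hg h
      · have hy' : g * (y : G) * g⁻¹ ∈ cj g T := by
          rw [mem_cj]
          have : g⁻¹ * (g * (y : G) * g⁻¹) * g = (y : G) := by group
          rw [this]; exact y.2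
        have hord : orderOf (g * (y : G) * g⁻¹) = orderOf y := by
          have := (MulAut.conj g).orderOf_eq (y : G)
          rw [Subgroup.orderOf_coe] at this
          rw [← this]
          rfl
        refine contra (Ω := Ω) p hp hder hx (y := g * (y : G) * g⁻¹) (h x hxT _ hy') ?_ ?_
        · rwa [hord]
        · rwa [hord]

end Cfsg.Agent.S3556
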