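import Mathlib
import Cfsg.Statements.S3557
import Cfsg.Agent.Lib.PuigBasic

set_option autoImplicit false
set_option linter.all false
open Cfsg

namespace Cfsg.Agent.S3557

open MulAction

section
variable {Q : Type*} [Group Q] [Finite Q]

theorem exists_central_order {p : ℕ} [hp : Fact p.Prime] (hQ : IsPGroup p Q) (N : Subgroup Q)
    [N.Normal] (hne : N ≠ ⊥) : ∃ z ∈ N, z ∈ Subgroup.center Q ∧ z ≠ 1 ∧ z ^ p = 1 := by
  obtain ⟨z, hzN, hz1, hzc⟩ := Cfsg.Agent.Lib.PuigBasic.exists_mem_center_of_normal hQ N hne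
  obtain ⟨k, hk⟩ := (IsPGroup.iff_orderOf.mp hQ) z
  have hk0 : k ≠ 0 := by
    rintro rfl
    exact hz1 (orderOf_eq_one_iff.mp (by simpa using hk))
  obtain ⟨j, rfl⟩ := Nat.exists_eq_succ_of_ne_zero hk0
  refine ⟨z ^ (p ^ j), N.pow_mem hzN _, (Subgroup.center Q).pow_mem hzc _, ?_, ?_⟩
  · intro h
    have h1 := orderOf_dvd_of_pow_eq_one h
    rw [hk] at h1
    have h2 := (Nat.pow_dvd_pow_iff_le_right hp.out.one_lt).mp h1
    omega
  · rw [← pow_mul, ← pow_succ, ← hk, pow_orderOf_eq_one]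

end

section
variable {G Ω : Type*} [Group G] [Finite G] [MulAction G Ω] [FaithfulSMul G Ω] [Finite Ω]

theorem sylow_orbit_dvd {p : ℕ} [hp : Fact p.Prime] (htrans : IsPretransitive G Ω) (P : Sylow p G)
    (m r : ℕ) (hm : Nat.card Ω = p ^ m * r) (ω : Ω) :
    p ^ m ∣ (orbit (P : Subgroup G) ω).ncard := by
  classical
  set S := stabilizer (P : Subgroup G) ω with hS
  have hidx : S.index = (orbit (P : Subgroup G) ω).ncard := index_stabilizer _ _
  rw [← hidx]
  have hPp : IsPGroup p (P : Subgroup G) := P.isPGroup'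
  obtain ⟨k, hk⟩ := IsPGroup.iff_card.mp hPp
  obtain ⟨j, hj⟩ := IsPGroup.iff_card.mp (hPp.to_subgroup S)
  have hG : Nat.card G = p ^ k * (P : Subgroup G).index := by
    rw [← hk]
    exact (Subgroup.card_mul_index (P : Subgroup G)).symm
  have hGω : Nat.card G = Nat.card Ω * Nat.card (stabilizer G ω) := by
    rw [← index_stabilizer_of_transitive G ω, Subgroup.index_mul_card]
  have hdvd : p ^ j ∣ Nat.card (stabilizer G ω) := by
    rw [← hj]
    have hmap : S.map (P : Subgroup G).subtype ≤ stabilizer G ω := by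
      rintro _ ⟨x, hx, rfl⟩
      exact hx
    have h1 := Subgroup.card_dvd_of_le hmap
    rwa [Subgroup.card_map_of_injective (Subgroup.subtype_injective _)] at h1
  have hSidx : p ^ k = p ^ j * S.index := by
    rw [← hk, ← hj]
    exact (Subgroup.card_mul_index S).symm
  have hle : m + j ≤ k := by
    have h1 : p ^ (m + j) ∣ p ^ k * (P : Subgroup G).index := by
      rw [← hG, hGω, hm, pow_add, mul_assoc]
      refine Nat.mul_dvd_mul_left _ ?_
      rw [mul_comm]
      exact Dvd.dvd.mul_right hdvd _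
    have hcop : Nat.Coprime (p ^ (m + j)) (P : Subgroup G).index :=
      Nat.Coprime.pow_left _ ((Nat.Prime.coprime_iff_not_dvd hp.out).mpr P.not_dvd_index)
    have h2 := hcop.dvd_of_dvd_mul_right h1
    exact (Nat.pow_dvd_pow_iff_le_right hp.out.one_lt).mp h2
  obtain ⟨c, rfl⟩ : ∃ c, k = m + j + c := ⟨k - (m + j), by omega⟩
  have h3 : p ^ j * S.index = p ^ j * (p ^ m * p ^ c) := by
    rw [← hSidx]
    ring
  have h4 := Nat.eq_of_mul_eq_mul_left (pow_pos hp.out.pos j) h3
  rw [h4]
  exact Dvd.intro _ rfl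

theorem key {p : ℕ} [hp : Fact p.Prime] (P : Sylow p G) (a₀ b₀ : Ω)
    (hcl : ∀ σ : Equiv.Perm Ω, (∀ a b : Ω, ∃ g : G, σ a = g • a ∧ σ b = g • b) →
      ∃ g : G, ∀ a : Ω, σ a = g • a)
    (hAB : ∀ ω, ω ∈ orbit (P : Subgroup G) a₀ ∨ ω ∈ orbit (P : Subgroup G) b₀)
    (hdisj : b₀ ∉ orbit (P : Subgroup G) a₀)
    (ha : (orbit (P : Subgroup G) a₀).ncard = p ^ 2)
    (hb : (orbit (P : Subgroup G) b₀).ncard = p ^ 2)
    (h2 : fixingSubgroup (P : Subgroup G) (orbit (P : Subgroup G) a₀) = ⊥)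
    (h1 : fixingSubgroup (P : Subgroup G) (orbit (P : Subgroup G) b₀) ≠ ⊥) : False := by
  classical
  set Q : Subgroup G := (P : Subgroup G) with hQ
  have hQp : IsPGroup p Q := P.isPGroup'
  set A : Set Ω := orbit Q a₀ with hA
  set B : Set Ω := orbit Q b₀ with hB
  set Q₁ : Subgroup Q := fixingSubgroup Q B with hQ₁
  have hA_inv : ∀ (y : Q) {ω : Ω}, ω ∈ A → y • ω ∈ A := by
    rintro y _ ⟨c, rfl⟩
    exact ⟨y * c, mul_smul y c a₀⟩
  have hB_inv : ∀ (y : Q) {ω : Ω}, ω ∈ B → y • ω ∈ B := by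
    rintro y _ ⟨c, rfl⟩
    exact ⟨y * c, mul_smul y c b₀⟩
  have hdis : ∀ ω, ω ∈ B → ω ∉ A := by
    rintro _ ⟨c, rfl⟩ hm
    apply hdisj
    have := hA_inv c⁻¹ hm
    simpa using this
  have hmemQ₁ : ∀ x : Q, x ∈ Q₁ ↔ ∀ b ∈ B, x • b = b := by
    intro x
    rw [hQ₁, mem_fixingSubgroup_iff]
  haveI hQ₁n : Q₁.Normal := by
    refine ⟨fun x hx g => ?_⟩
    rw [hmemQ₁] at hx ⊢
    intro b hb
    have h3 := hx (g⁻¹ • b) (hB_inv _ hb)
    rw [mul_smul, mul_smul, h3, smul_inv_smul]
  obtain ⟨h, hhQ, hne⟩ : ∃ h ∈ Q₁, h ≠ 1 := by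
    by_contra hcon
    push Not at hcon
    exact h1 ((Subgroup.eq_bot_iff_forall _).mpr hcon)
  obtain ⟨a₁, ha₁, hha₁⟩ : ∃ a₁ ∈ A, h • a₁ ≠ a₁ := by
    by_contra hcon
    push Not at hcon
    have : h ∈ fixingSubgroup Q A := by
      rw [mem_fixingSubgroup_iff]
      exact hcon
    rw [h2] at this
    exact hne (by simpa using this)
  have horb : orbit Q a₁ = A := orbit_eq_iff.mpr ha₁
  set S : Subgroup Q := stabilizer Q a₁ with hS
  have hSi : S.index = p ^ 2 := by
    rw [hS, index_stabilizer, horb, ha]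
  set T : Subgroup Q := Q₁ ⊔ S with hT
  have hhT : h ∈ T := (le_sup_left : Q₁ ≤ T) hhQ
  have hhS : h ∉ S := fun h3 => hha₁ h3
  have hdvd : T.index ∣ p ^ 2 := by
    rw [← hSi]
    exact Subgroup.index_dvd_of_le le_sup_right
  have hTne : T.index ≠ p ^ 2 := by
    intro h3
    have h4 := Subgroup.relIndex_mul_index (le_sup_right : S ≤ T)
    rw [h3, hSi] at h4
    have h5 : S.relIndex T = 1 := by
      have hpp : 0 < p ^ 2 := pow_pos hp.out.pos 2
      nlinarith [Nat.eq_of_mul_eq_mul_right hpp (by simpa using h4 : S.relIndex T * p ^ 2 = 1 * p ^ 2)]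
    exact hhS (Subgroup.relIndex_eq_one.mp h5 hhT)
  have hTi : T.index = 1 ∨ T.index = p := by
    obtain ⟨i, hi, heq⟩ := (Nat.dvd_prime_pow hp.out).mp hdvd
    interval_cases i
    · left; simpa using heq
    · right; simpa using heq
    · exact absurd heq hTne
  have hcardQ : ∃ k, k ≠ 0 ∧ Nat.card Q = p ^ k := by
    obtain ⟨k, hk⟩ := IsPGroup.iff_card.mp hQp
    refine ⟨k, ?_, hk⟩
    rintro rfl
    have h3 : S.index ∣ Nat.card Q := Subgroup.index_dvd_card S
    rw [hk, hSi] at h3
    have := Nat.le_of_dvd (by simp) h3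
    have hpp : 2 ≤ p := hp.out.two_le
    simp at this
    nlinarith
  haveI hTn : T.Normal := by
    rcases hTi with h3 | h3
    · rw [Subgroup.index_eq_one.mp h3]
      infer_instance
    · apply Subgroup.normal_of_index_eq_minFac_card
      obtain ⟨k, hk0, hk⟩ := hcardQ
      rw [h3, hk, Nat.Prime.pow_minFac hp.out hk0]
  have hTact : ∀ x ∈ T, ∀ a ∈ A, ∃ k ∈ Q₁, x • a = k • a := by
    intro x hx a ha'
    rw [← horb] at ha'
    obtain ⟨y, rfl⟩ := ha'
    have h3 : y⁻¹ * x * y ∈ T := hTn.conj_mem' x hx y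
    rw [hT, ← SetLike.mem_coe, Subgroup.normal_mul] at h3
    obtain ⟨k', hk', s, hs, hks⟩ := Set.mem_mul.mp h3
    refine ⟨y * k' * y⁻¹, hQ₁n.conj_mem k' hk' y, ?_⟩
    have hs' : s • a₁ = a₁ := hs
    have h4 : x = y * (k' * s) * y⁻¹ := by
      rw [hks]
      group
    show x • y • a₁ = (y * k' * y⁻¹) • y • a₁
    rw [h4]
    simp only [mul_smul, inv_smul_smul, hs']
  have hg : ∀ x ∈ T, ∃ g : G, (∀ a ∈ A, g • a = x • a) ∧ ∀ b ∈ B, g • b = b := by
    intro x hx
    let σ : Equiv.Perm Ω :=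
      { toFun := fun ω => if ω ∈ A then x • ω else ω
        invFun := fun ω => if ω ∈ A then x⁻¹ • ω else ω
        left_inv := by
          intro ω
          by_cases hω : ω ∈ A
          · simp [hω, hA_inv x hω]
          · simp [hω]
        right_inv := by
          intro ω
          by_cases hω : ω ∈ A
          · simp [hω, hA_inv x⁻¹ hω]
          · simp [hω] }
    have hσ : ∀ ω, σ ω = if ω ∈ A then x • ω else ω := fun ω => rfl
    obtain ⟨g, hg⟩ := hcl σ (by
      intro u v
      by_cases hu : u ∈ A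
      · by_cases hv : v ∈ A
        · refine ⟨(x : G), ?_, ?_⟩
          · rw [hσ, if_pos hu]; rfl
          · rw [hσ, if_pos hv]; rfl
        · obtain ⟨k, hk, hku⟩ := hTact x hx u hu
          have hvB : v ∈ B := (hAB v).resolve_left hv
          refine ⟨(k : G), ?_, ?_⟩
          · rw [hσ, if_pos hu, hku]; rfl
          · rw [hσ, if_neg hv]
            exact ((hmemQ₁ k).mp hk v hvB).symm
      · by_cases hv : v ∈ A
        · obtain ⟨k, hk, hkv⟩ := hTact x hx v hv
          have huB : u ∈ B := (hAB u).resolve_left hu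
          refine ⟨(k : G), ?_, ?_⟩
          · rw [hσ, if_neg hu]
            exact ((hmemQ₁ k).mp hk u huB).symm
          · rw [hσ, if_pos hv, hkv]; rfl
        · refine ⟨1, ?_, ?_⟩
          · rw [hσ, if_neg hu, one_smul]
          · rw [hσ, if_neg hv, one_smul])
    refine ⟨g, ?_, ?_⟩
    · intro a ha'
      rw [← hg, hσ, if_pos ha']
    · intro b hb'
      rw [← hg, hσ, if_neg (hdis b hb')]
  let L : Subgroup G :=
    { carrier := {g | (∃ x ∈ T, ∀ a ∈ A, g • a = x • a) ∧ ∀ b ∈ B, g • b = b}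
      one_mem' := ⟨⟨1, T.one_mem, by simp⟩, by simp⟩
      mul_mem' := by
        rintro g₁ g₂ ⟨⟨x₁, hx₁, h₁⟩, h₁'⟩ ⟨⟨x₂, hx₂, h₂⟩, h₂'⟩
        refine ⟨⟨x₁ * x₂, T.mul_mem hx₁ hx₂, ?_⟩, ?_⟩
        · intro a ha'
          rw [mul_smul, h₂ a ha', h₁ _ (hA_inv x₂ ha'), mul_smul]
        · intro b hb'
          rw [mul_smul, h₂' b hb', h₁' b hb']
      inv_mem' := by
        rintro g ⟨⟨x, hx, h₁⟩, h₁'⟩
        refine ⟨⟨x⁻¹, T.inv_mem hx, ?_⟩, ?_⟩
        · intro a ha'
          rw [inv_smul_eq_iff, h₁ _ (hA_inv x⁻¹ ha'), smul_inv_smul]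
        · intro b hb'
          rw [inv_smul_eq_iff, h₁' b hb'] }
  have hLmem : ∀ g, g ∈ L ↔ (∃ x ∈ T, ∀ a ∈ A, g • a = x • a) ∧ ∀ b ∈ B, g • b = b := fun g => Iff.rfl
  have hLp : IsPGroup p L := by
    rintro ⟨g, ⟨x, hx, h₁⟩, h₁'⟩
    obtain ⟨k, hk⟩ := hQp x
    refine ⟨k, Subtype.ext ?_⟩
    have hpowA : ∀ n : ℕ, ∀ a ∈ A, g ^ n • a = (x ^ n) • a := by
      intro n
      induction n with
      | zero => intro a _; simp
      | succ n IH =>
        intro a ha'
        rw [pow_succ, mul_smul, h₁ a ha', IH _ (hA_inv x ha'), pow_succ, mul_smul]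
    have hpowB : ∀ n : ℕ, ∀ b ∈ B, g ^ n • b = b := by
      intro n
      induction n with
      | zero => intro b _; simp
      | succ n IH =>
        intro b hb'
        rw [pow_succ, mul_smul, h₁' b hb', IH b hb']
    show g ^ p ^ k = 1
    apply smul_left_injective' (α := Ω)
    funext ω
    simp only [one_smul]
    rcases hAB ω with hω | hω
    · rw [hpowA _ ω hω, hk, one_smul]
    · rw [hpowB _ ω hω]
  have hnorm : Q ≤ Subgroup.normalizer (L : Set G) := by
    have hconj : ∀ y ∈ Q, ∀ g ∈ L, y * g * y⁻¹ ∈ L := by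
      rintro y hy g ⟨⟨x, hx, h₁⟩, h₁'⟩
      let y' : Q := ⟨y, hy⟩
      refine ⟨⟨y' * x * y'⁻¹, hTn.conj_mem x hx y', ?_⟩, ?_⟩
      · intro a ha'
        have h3 := h₁ (y'⁻¹ • a) (hA_inv _ ha')
        have h4 : y⁻¹ • a = y'⁻¹ • a := rfl
        rw [mul_smul, mul_smul, h4, h3, mul_smul, mul_smul]
        rfl
      · intro b hb'
        have h3 := h₁' (y'⁻¹ • b) (hB_inv _ hb')
        have h4 : y⁻¹ • b = y'⁻¹ • b := rfl
        rw [mul_smul, mul_smul, h4, h3]
        exact smul_inv_smul y' b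
    intro y hy
    rw [Subgroup.mem_normalizer_iff]
    intro g
    constructor
    · exact hconj y hy g
    · intro h3
      have h4 := hconj y⁻¹ (Q.inv_mem hy) _ h3
      simpa [mul_assoc] using h4
  have hsup : IsPGroup p (Q ⊔ L : Subgroup G) := hQp.to_sup_of_normal_right' hLp hnorm
  have hLQ : L ≤ Q := by
    have h3 := P.is_maximal' hsup le_sup_left
    rw [← hQ] at h3
    rw [← h3]
    exact le_sup_right
  have hTle : T ≤ Q₁ := by
    intro x hx
    obtain ⟨g, hg₁, hg₂⟩ := hg x hx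
    have hgL : g ∈ L := ⟨⟨x, hx, hg₁⟩, hg₂⟩
    let g' : Q := ⟨g, hLQ hgL⟩
    have hg'1 : g' ∈ Q₁ := by
      rw [hmemQ₁]
      exact hg₂
    have hfix : x⁻¹ * g' ∈ fixingSubgroup Q A := by
      rw [mem_fixingSubgroup_iff]
      intro a ha'
      rw [mul_smul, inv_smul_eq_iff]
      exact hg₁ a ha'
    rw [h2] at hfix
    have h3 : x⁻¹ * g' = 1 := by simpa using hfix
    have h4 : x = g' := by
      exact (inv_mul_eq_one.mp h3)
    rw [h4]
    exact hg'1
  have hQ₁b : Q₁ ≤ stabilizer Q b₀ := by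
    intro x hx
    exact (hmemQ₁ x).mp hx b₀ (mem_orbit_self b₀)
  have hSb : (stabilizer Q b₀).index = p ^ 2 := by
    rw [index_stabilizer, hb]
  have h3 : p ^ 2 ∣ T.index := by
    rw [← hSb]
    exact Subgroup.index_dvd_of_le (hTle.trans hQ₁b)
  have hpp : 2 ≤ p := hp.out.two_le
  rcases hTi with h4 | h4
  · rw [h4] at h3
    have := Nat.le_of_dvd (by norm_num) h3
    nlinarith
  · rw [h4] at h3
    have := Nat.le_of_dvd hp.out.pos h3
    nlinarith

end

/-- Let G act faithfully and transitively on a finite set with 2p² points, p a prime, and suppose G is 2-closed: every permutation of the set which, on each ordered pair of points, agrees with some element of G, is itself induced by an element of G. Then some element of G of prime order fixes no point. -/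
theorem result {G Ω : Type*} [Group G] [Finite G] [MulAction G Ω] [FaithfulSMul G Ω] [Finite Ω]
    (htrans : MulAction.IsPretransitive G Ω) (p : ℕ) (hp : p.Prime) (hcard : Nat.card Ω = 2 * p ^ 2)
    (hcl : ∀ σ : Equiv.Perm Ω, (∀ a b : Ω, ∃ g : G, σ a = g • a ∧ σ b = g • b) → ∃ g : G, ∀ a : Ω, σ a = g • a) :
    ∃ g : G, (orderOf g).Prime ∧ ∀ ω : Ω, g • ω ≠ ω := by
  classical
  haveI : Fact p.Prime := ⟨hp⟩
  obtain ⟨P⟩ : Nonempty (Sylow p G) := inferInstance
  set Q : Subgroup G := (P : Subgroup G) with hQ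
  have hQp : IsPGroup p Q := P.isPGroup'
  have hpp : 2 ≤ p := hp.two_le
  have hcardpos : 0 < Nat.card Ω := by
    rw [hcard]
    positivity
  haveI : Nonempty Ω := (Nat.card_pos_iff.mp hcardpos).1
  obtain ⟨a₀⟩ : Nonempty Ω := inferInstance
  have hfaith : ∀ x : Q, (∀ ω : Ω, x • ω = ω) → x = 1 := by
    intro x hx
    apply Subtype.ext
    show (x : G) = 1
    apply smul_left_injective' (α := Ω)
    funext ω
    show (x : G) • ω = (1 : G) • ω
    rw [one_smul]
    exact hx ω
  have hcfix : ∀ z : Q, z ∈ Subgroup.center Q → ∀ ω : Ω, z • ω = ω →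
      ∀ ω' ∈ orbit Q ω, z • ω' = ω' := by
    rintro z hz ω hω _ ⟨y, rfl⟩
    have h1 : z * y = y * z := (Subgroup.mem_center_iff.mp hz y).symm
    show z • y • ω = y • ω
    rw [← mul_smul, h1, mul_smul, hω]
  by_cases hp2 : p = 2
  · subst hp2
    have h8 := sylow_orbit_dvd htrans P 3 1 (by rw [hcard]; norm_num) a₀
    have hle : (orbit Q a₀).ncard ≤ Nat.card Ω := by
      rw [← Set.ncard_univ]
      exact Set.ncard_le_ncard (Set.subset_univ _)
    have hpos : 0 < (orbit Q a₀).ncard := by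
      rw [Set.ncard_pos]
      exact ⟨a₀, mem_orbit_self a₀⟩
    have heq : (orbit Q a₀).ncard = Nat.card Ω := by
      have := Nat.le_of_dvd hpos h8
      rw [hcard] at hle ⊢
      omega
    have huniv : orbit Q a₀ = Set.univ := by
      apply Set.eq_of_subset_of_ncard_le (Set.subset_univ _)
      rw [Set.ncard_univ, heq]
    have hQne : (⊤ : Subgroup Q) ≠ ⊥ := by
      intro h
      have h1 : Subsingleton Q := Subgroup.subsingleton_iff.mp (by
        exact subsingleton_of_bot_eq_top h.symm)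
      have h2 : (orbit Q a₀).ncard = 1 := by
        have h3 : orbit Q a₀ = {a₀} := by
          ext ω
          constructor
          · rintro ⟨y, rfl⟩
            have : y = 1 := Subsingleton.elim _ _
            simp [this]
          · rintro rfl
            exact mem_orbit_self _
        rw [h3, Set.ncard_singleton]
      rw [heq, hcard] at h2
      omega
    obtain ⟨z, -, hzc, hz1, hz2⟩ := exists_central_order hQp (⊤ : Subgroup Q) hQne
    refine ⟨(z : G), ?_, ?_⟩
    · have h1 : orderOf (z : G) = 2 := by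
        apply orderOf_eq_prime
        · exact_mod_cast congrArg Subtype.val hz2
        · intro h
          exact hz1 (Subtype.ext h)
      rw [h1]
      exact Nat.prime_two
    · intro ω hω
      apply hz1
      apply hfaith
      intro ω'
      have h1 : ω' ∈ orbit Q ω := by
        have h2 : orbit Q ω = orbit Q a₀ := orbit_eq_iff.mpr (by rw [huniv]; trivial)
        rw [h2, huniv]
        trivial
      exact hcfix z hzc ω hω ω' h1
  · have hp3 : 3 ≤ p := by
      rcases Nat.lt_or_ge p 3 with h | h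
      · exact absurd (by omega) hp2
      · exact h
    have horb2 : ∀ ω : Ω, (orbit Q ω).ncard = p ^ 2 := by
      intro ω
      have h1 := sylow_orbit_dvd htrans P 2 2 (by rw [hcard]; ring) ω
      have h2 : (orbit Q ω).ncard ∣ Nat.card Q := by
        rw [← index_stabilizer]
        exact Subgroup.index_dvd_card _
      obtain ⟨k, hk⟩ := IsPGroup.iff_card.mp hQp
      rw [hk] at h2
      obtain ⟨i, -, hi⟩ := (Nat.dvd_prime_pow hp).mp h2
      have hle : (orbit Q ω).ncard ≤ Nat.card Ω := by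
        rw [← Set.ncard_univ]
        exact Set.ncard_le_ncard (Set.subset_univ _)
      rw [hi] at h1 hle ⊢
      have h3 : 2 ≤ i := (Nat.pow_dvd_pow_iff_le_right hp.one_lt).mp h1
      by_contra hne
      have h4 : 3 ≤ i := by
        rcases Nat.lt_or_ge i 3 with h | h
        · exact absurd (by congr 1; omega) hne
        · exact h
      have h5 : p ^ 3 ≤ p ^ i := Nat.pow_le_pow_right hp.pos h4
      rw [hcard] at hle
      nlinarith [pow_pos hp.pos 2]
    set A : Set Ω := orbit Q a₀ with hA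
    have hAcard : A.ncard = p ^ 2 := horb2 a₀
    obtain ⟨b₀, hb₀⟩ : ∃ b₀, b₀ ∉ A := by
      by_contra hcon
      push Not at hcon
      have h1 : A = Set.univ := Set.eq_univ_of_forall hcon
      rw [h1, Set.ncard_univ, hcard] at hAcard
      nlinarith [pow_pos hp.pos 2]
    set B : Set Ω := orbit Q b₀ with hB
    have hBcard : B.ncard = p ^ 2 := horb2 b₀
    have hdis : Disjoint A B := by
      rw [Set.disjoint_left]
      rintro ω hωA ⟨c, rfl⟩
      apply hb₀
      have h1 : c⁻¹ • (c • b₀) ∈ A := by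
        obtain ⟨d, hd⟩ := hωA
        refine ⟨c⁻¹ * d, ?_⟩
        show (c⁻¹ * d) • a₀ = c⁻¹ • c • b₀
        rw [mul_smul]
        exact congrArg (c⁻¹ • ·) hd
      simpa using h1
    have hcov : ∀ ω, ω ∈ A ∨ ω ∈ B := by
      have h1 : A ∪ B = Set.univ := by
        apply Set.eq_of_subset_of_ncard_le (Set.subset_univ _)
        rw [Set.ncard_univ, Set.ncard_union_eq hdis, hAcard, hBcard, hcard]
        omega
      intro ω
      have h2 : ω ∈ A ∪ B := by
        rw [h1]
        trivial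
      exact h2
    have hdisj' : a₀ ∉ B := fun h => Set.disjoint_left.mp hdis (mem_orbit_self a₀) h
    have horbA : ∀ ω ∈ A, orbit Q ω = A := fun ω h => orbit_eq_iff.mpr h
    have horbB : ∀ ω ∈ B, orbit Q ω = B := fun ω h => orbit_eq_iff.mpr h
    have hinvA : ∀ (y : Q) (ω : Ω), ω ∈ A → y • ω ∈ A := by
      rintro y _ ⟨c, rfl⟩
      exact ⟨y * c, mul_smul y c a₀⟩
    have hinvB : ∀ (y : Q) (ω : Ω), ω ∈ B → y • ω ∈ B := by
      rintro y _ ⟨c, rfl⟩
      exact ⟨y * c, mul_smul y c b₀⟩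
    have hnA : (fixingSubgroup Q A).Normal := by
      refine ⟨fun x hx g => ?_⟩
      rw [mem_fixingSubgroup_iff] at hx ⊢
      intro b hb
      have h3 := hx (g⁻¹ • b) (hinvA _ _ hb)
      rw [mul_smul, mul_smul, h3, smul_inv_smul]
    have hnB : (fixingSubgroup Q B).Normal := by
      refine ⟨fun x hx g => ?_⟩
      rw [mem_fixingSubgroup_iff] at hx ⊢
      intro b hb
      have h3 := hx (g⁻¹ • b) (hinvB _ _ hb)
      rw [mul_smul, mul_smul, h3, smul_inv_smul]
    have hcentA : ∀ z : Q, z ∈ Subgroup.center Q → ∀ ω ∈ A, z • ω = ω → z ∈ fixingSubgroup Q A := by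
      intro z hz ω hω h1
      rw [mem_fixingSubgroup_iff]
      intro ω' hω'
      rw [← horbA ω hω] at hω'
      exact hcfix z hz ω h1 ω' hω'
    have hcentB : ∀ z : Q, z ∈ Subgroup.center Q → ∀ ω ∈ B, z • ω = ω → z ∈ fixingSubgroup Q B := by
      intro z hz ω hω h1
      rw [mem_fixingSubgroup_iff]
      intro ω' hω'
      rw [← horbB ω hω] at hω'
      exact hcfix z hz ω h1 ω' hω'
    have htriv : ∀ x : Q, x ∈ fixingSubgroup Q A → x ∈ fixingSubgroup Q B → x = 1 := by
      intro x h1 h2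
      rw [mem_fixingSubgroup_iff] at h1 h2
      apply hfaith
      intro ω
      rcases hcov ω with h | h
      · exact h1 ω h
      · exact h2 ω h
    have hfin : ∀ g : Q, g ≠ 1 → g ^ p = 1 → (∀ ω : Ω, g • ω ≠ ω) →
        ∃ g : G, (orderOf g).Prime ∧ ∀ ω : Ω, g • ω ≠ ω := by
      intro g hg1 hgp hfpf
      refine ⟨(g : G), ?_, hfpf⟩
      have h1 : orderOf (g : G) = p := by
        apply orderOf_eq_prime
        · exact_mod_cast congrArg Subtype.val hgp
        · intro h
          exact hg1 (Subtype.ext h)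
      rw [h1]
      exact hp
    by_cases hB1 : fixingSubgroup Q B = ⊥
    · by_cases hA1 : fixingSubgroup Q A = ⊥
      · have hQne : (⊤ : Subgroup Q) ≠ ⊥ := by
          intro h
          have hsub : Subsingleton Q := Subgroup.subsingleton_iff.mp (subsingleton_of_bot_eq_top h.symm)
          have h3 : orbit Q a₀ = {a₀} := by
            ext ω
            constructor
            · rintro ⟨y, rfl⟩
              have : y = 1 := Subsingleton.elim _ _
              simp [this]
            · rintro rfl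
              exact mem_orbit_self _
          have h4 : A.ncard = 1 := by
            rw [hA, h3, Set.ncard_singleton]
          rw [hAcard] at h4
          nlinarith
        obtain ⟨z, -, hzc, hz1, hzp⟩ := exists_central_order hQp (⊤ : Subgroup Q) hQne
        refine hfin z hz1 hzp ?_
        intro ω hω
        rcases hcov ω with h | h
        · have := hcentA z hzc ω h hω
          rw [hA1] at this
          exact hz1 (by simpa using this)
        · have := hcentB z hzc ω h hω
          rw [hB1] at this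
          exact hz1 (by simpa using this)
      · exact (key P b₀ a₀ hcl (fun ω => (hcov ω).symm) hdisj' hBcard hAcard hB1 hA1).elim
    · by_cases hA1 : fixingSubgroup Q A = ⊥
      · exact (key P a₀ b₀ hcl hcov hb₀ hAcard hBcard hA1 hB1).elim
      · obtain ⟨z₁, hz₁B, hz₁c, hz₁1, hz₁p⟩ := exists_central_order hQp (fixingSubgroup Q B) hB1
        obtain ⟨z₂, hz₂A, hz₂c, hz₂1, hz₂p⟩ := exists_central_order hQp (fixingSubgroup Q A) hA1
        have hcomm : Commute z₁ z₂ := Subgroup.mem_center_iff.mp hz₁c z₂ |>.symm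
        refine hfin (z₁ * z₂) ?_ ?_ ?_
        · intro h
          have h1 : z₁ = z₂⁻¹ := eq_inv_of_mul_eq_one_left h
          have h2 : z₁ ∈ fixingSubgroup Q A := by
            rw [h1]
            exact Subgroup.inv_mem _ hz₂A
          exact hz₁1 (htriv z₁ h2 hz₁B)
        · rw [hcomm.mul_pow, hz₁p, hz₂p, one_mul]
        · intro ω hω
          rcases hcov ω with h | h
          · have h1 : z₂ • ω = ω := (mem_fixingSubgroup_iff _).mp hz₂A ω h
            rw [mul_smul, h1] at hω
            exact hz₁1 (htriv z₁ (hcentA z₁ hz₁c ω h hω) hz₁B)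
          · have h1 : z₁ • ω = ω := (mem_fixingSubgroup_iff _).mp hz₁B ω h
            rw [hcomm.eq, mul_smul, h1] at hω
            exact hz₂1 (htriv z₂ hz₂A (hcentB z₂ hz₂c ω h hω))

end Cfsg.Agent.S3557
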