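import Mathlib
import Cfsg.Statements.S3626
import Cfsg.Agent.S1159
import Cfsg.Agent.Lib.ReeCubeF

set_option autoImplicit false
open Cfsg

namespace Cfsg.Agent.S3626

open Cfsg.Agent.Lib.ReeCube

theorem lcm_swap1 (x y z : ℕ) : x.lcm (z.lcm y) = x.lcm (y.lcm z) := by
  rw [Nat.lcm_comm z y]

theorem lcm_swap2 (x y z : ℕ) : y.lcm (z.lcm x) = x.lcm (y.lcm z) := by
  rw [Nat.lcm_comm z x, ← Nat.lcm_assoc, Nat.lcm_comm y x, Nat.lcm_assoc]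

theorem combine {Q : ℕ → Prop} {c d : ℕ} (h1 : Q 1) {x y z : ℕ} (hx : Q x ∨ x ∣ c ∨ x ∣ d)
    (hy : Q y ∨ y ∣ c ∨ y ∣ d) (hz : Q z ∨ z ∣ c ∨ z ∣ d) :
    ∃ x' y' z', (Q x' ∨ x' ∣ c ∨ x' ∣ d) ∧ (Q y' ∨ y' ∣ c ∨ y' ∣ d) ∧ Q z' ∧
      x'.lcm (y'.lcm z') = x.lcm (y.lcm z) := by
  by_cases hQz : Q z
  · exact ⟨x, y, z, hx, hy, hQz, rfl⟩
  by_cases hQy : Q y
  · exact ⟨x, z, y, hx, hz, hQy, lcm_swap1 x y z⟩
  by_cases hQx : Q x
  · exact ⟨y, z, x, hy, hz, hQx, lcm_swap2 x y z⟩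
  have hx' := hx.resolve_left hQx
  have hy' := hy.resolve_left hQy
  have hz' := hz.resolve_left hQz
  have e1 : x.lcm (y.lcm z) = (x.lcm y).lcm (z.lcm 1) := by
    rw [Nat.lcm_one_right, Nat.lcm_assoc]
  have e2 : x.lcm (y.lcm z) = (x.lcm z).lcm (y.lcm 1) := by
    rw [Nat.lcm_one_right, Nat.lcm_assoc, Nat.lcm_comm z y]
  have e3 : x.lcm (y.lcm z) = (y.lcm z).lcm (x.lcm 1) := by
    rw [Nat.lcm_one_right, Nat.lcm_comm]
  rcases hx' with hx' | hx' <;> rcases hy' with hy' | hy' <;> rcases hz' with hz' | hz'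
  · exact ⟨x.lcm y, z, 1, Or.inr (Or.inl (Nat.lcm_dvd hx' hy')), hz, h1, e1.symm⟩
  · exact ⟨x.lcm y, z, 1, Or.inr (Or.inl (Nat.lcm_dvd hx' hy')), hz, h1, e1.symm⟩
  · exact ⟨x.lcm z, y, 1, Or.inr (Or.inl (Nat.lcm_dvd hx' hz')), hy, h1, e2.symm⟩
  · exact ⟨y.lcm z, x, 1, Or.inr (Or.inr (Nat.lcm_dvd hy' hz')), hx, h1, e3.symm⟩
  · exact ⟨y.lcm z, x, 1, Or.inr (Or.inl (Nat.lcm_dvd hy' hz')), hx, h1, e3.symm⟩
  · exact ⟨x.lcm z, y, 1, Or.inr (Or.inr (Nat.lcm_dvd hx' hz')), hy, h1, e2.symm⟩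
  · exact ⟨x.lcm y, z, 1, Or.inr (Or.inr (Nat.lcm_dvd hx' hy')), hz, h1, e1.symm⟩
  · exact ⟨x.lcm y, z, 1, Or.inr (Or.inr (Nat.lcm_dvd hx' hy')), hz, h1, e1.symm⟩

theorem order_triple {A B C : Type*} [Group A] [Group B] [Group C] (a : A) (b : B) (c : C) :
    orderOf ((a, b, c) : A × B × C) = (orderOf a).lcm ((orderOf b).lcm (orderOf c)) := by
  rw [Prod.orderOf, Prod.orderOf]

/-- Let R be the small Ree group over the field with q = 3^(2m+1) ≥ 27 elements. Then there are finite groups of arbitrarily large order with exactly the same set of element orders as R × R × R. -/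
theorem result {K : Type*} [Field K] [Fintype K] {m : ℕ} (hm : 1 ≤ m) (hK : Fintype.card K = 3 ^ (2 * m + 1)) (N : ℕ) :
    ∃ (H : Type) (_ : Group H) (_ : Fintype H), N < Fintype.card H ∧
      Set.range (orderOf : H → ℕ) = Set.range (orderOf : ↥(Cfsg.Lie.twistedG2 K (3 ^ m)) × ↥(Cfsg.Lie.twistedG2 K (3 ^ m)) × ↥(Cfsg.Lie.twistedG2 K (3 ^ m)) → ℕ) := by
  classical
  let K₀ : Type := GaloisField 3 (2 * m + 1)
  letI : Fintype K₀ := Fintype.ofFinite K₀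
  have hK₀ : Fintype.card K₀ = 3 ^ (2 * m + 1) := by
    rw [← Nat.card_eq_fintype_card]
    exact GaloisField.card 3 (2 * m + 1) (by omega)
  haveI : CharP K₀ 3 := inferInstanceAs (CharP (GaloisField 3 (2 * m + 1)) 3)
  let q : ℕ := 3 ^ (2 * m + 1)
  let c : ℕ := 3 ^ (2 * m + 1) - 3 ^ (m + 1) + 1
  let d : ℕ := 3 ^ (2 * m + 1) + 3 ^ (m + 1) + 1
  let Q : ℕ → Prop := fun x => x ∣ 6 ∨ x ∣ 9 ∨ x ∣ q - 1 ∨ x ∣ (q + 1) / 2
  have hQ1 : Q 1 := Or.inl (one_dvd _)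
  have hR : ∀ x : ℕ, (∃ g : ↥(Cfsg.Lie.twistedG2 K (3 ^ m)), orderOf g = x) ↔ (Q x ∨ x ∣ c ∨ x ∣ d) := by
    intro x
    rw [Cfsg.Agent.S1159.result hm hK x]
    simp only [Q, or_assoc]
    rfl
  have hR₀ : ∀ x : ℕ, (∃ g : ↥(Cfsg.Lie.twistedG2 K₀ (3 ^ m)), orderOf g = x) ↔ (Q x ∨ x ∣ c ∨ x ∣ d) := by
    intro x
    rw [Cfsg.Agent.S1159.result hm hK₀ x]
    simp only [Q, or_assoc]
    rfl
  let i : Fin (N + 1) := 0
  have hA : ∀ x : ℕ, (∃ f : AffG (SS K₀) (WW K₀ (N + 1)), orderOf f = x) ↔ Q x := by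
    intro x
    rw [spec_aff hK₀ i x, hK₀]
  let H : Type := ↥(Cfsg.Lie.twistedG2 K₀ (3 ^ m)) × ↥(Cfsg.Lie.twistedG2 K₀ (3 ^ m)) × AffG (SS K₀) (WW K₀ (N + 1))
  letI hfin : Fintype H := Fintype.ofFinite H
  refine ⟨H, inferInstance, hfin, ?_, ?_⟩
  · let φ : WW K₀ (N + 1) → H := fun w => (1, 1, ⟨aff (1 : SS K₀) w, aff_mem _ _⟩)
    have hφ : Function.Injective φ := by
      intro w w' h
      have h1 : aff (1 : SS K₀) w = aff (1 : SS K₀) w' := by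
        have := congrArg (fun y : H => (y.2.2 : Equiv.Perm (WW K₀ (N + 1)))) h
        exact this
      have h2 := congrFun (congrArg (fun f : Equiv.Perm (WW K₀ (N + 1)) => (f : WW K₀ (N + 1) → WW K₀ (N + 1))) h1) 0
      simpa using h2
    have h1 := Fintype.card_le_of_injective φ hφ
    have h2 : Fintype.card (WW K₀ (N + 1)) = Fintype.card (M2 K₀) ^ (N + 1) := by
      rw [Fintype.card_fun, Fintype.card_fin]
    have h3 : 1 < Fintype.card (M2 K₀) := Fintype.one_lt_card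
    have h4 : N + 1 < Fintype.card (M2 K₀) ^ (N + 1) := Nat.lt_pow_self h3
    omega
  · ext n
    constructor
    · rintro ⟨⟨a, b, f⟩, rfl⟩
      have ha : Q (orderOf a) ∨ orderOf a ∣ c ∨ orderOf a ∣ d := (hR₀ _).1 ⟨a, rfl⟩
      have hb : Q (orderOf b) ∨ orderOf b ∣ c ∨ orderOf b ∣ d := (hR₀ _).1 ⟨b, rfl⟩
      have hf : Q (orderOf f) := (hA _).1 ⟨f, rfl⟩
      obtain ⟨a', ha'⟩ := (hR _).2 ha
      obtain ⟨b', hb'⟩ := (hR _).2 hb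
      obtain ⟨f', hf'⟩ := (hR _).2 (Or.inl hf)
      refine ⟨(a', b', f'), ?_⟩
      change orderOf ((a', b', f') : _ × _ × _) = orderOf ((a, b, f) : _ × _ × _)
      rw [order_triple, order_triple, ha', hb', hf']
    · rintro ⟨⟨a, b, f⟩, rfl⟩
      have ha := (hR _).1 ⟨a, rfl⟩
      have hb := (hR _).1 ⟨b, rfl⟩
      have hf := (hR _).1 ⟨f, rfl⟩
      obtain ⟨x', y', z', hx', hy', hz', he⟩ := combine hQ1 ha hb hf
      obtain ⟨a', ha'⟩ := (hR₀ _).2 hx'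
      obtain ⟨b', hb'⟩ := (hR₀ _).2 hy'
      obtain ⟨f', hf'⟩ := (hA _).2 hz'
      refine ⟨(a', b', f'), ?_⟩
      change orderOf ((a', b', f') : _ × _ × _) = orderOf ((a, b, f) : _ × _ × _)
      rw [order_triple, order_triple, ha', hb', hf', he]

end Cfsg.Agent.S3626
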