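import Cfsg.Statements.S3634
import Cfsg.Agent.Lib.ThreePrimes

set_option autoImplicit false
open Cfsg

namespace Cfsg.Agent.S3634

open Cfsg.Agent.Lib.ThreePrimes

/-- Let G be a finite group with normal subgroups K ≤ M, and let p, q, r be distinct primes with p dividing the order of K, q dividing the order of M/K and r dividing the order of G/M. Then p, q, r are not pairwise non-adjacent in the prime graph of G: G has an element of order pq, pr or qr. -/
theorem result {G : Type*} [Group G] [Finite G] (K M : Subgroup G) [K.Normal] [M.Normal] (hKM : K ≤ M)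
    (p q r : ℕ) (hp : p.Prime) (hq : q.Prime) (hr : r.Prime) (hpq : p ≠ q) (hpr : p ≠ r) (hqr : q ≠ r)
    (hpK : p ∣ Nat.card ↥K) (hqM : q ∣ Nat.card ↥M / Nat.card ↥K) (hrG : r ∣ Nat.card G / Nat.card ↥M) :
    (∃ x : G, orderOf x = p * q) ∨ (∃ x : G, orderOf x = p * r) ∨ (∃ x : G, orderOf x = q * r) := by
  classical
  have fp : Fact p.Prime := ⟨hp⟩
  have fq : Fact q.Prime := ⟨hq⟩
  have fr : Fact r.Prime := ⟨hr⟩
  -- Frattini for `K`
  let P : Sylow p K := default
  let P' : Subgroup G := (P : Subgroup K).map K.subtype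
  let G₁ : Subgroup G := Subgroup.normalizer (P' : Set G)
  have hfr : G₁ ⊔ K = ⊤ := Sylow.normalizer_sup_eq_top P
  have hP'card : Nat.card P' = Nat.card P :=
    Nat.card_congr (Subgroup.equivMapOfInjective _ _ K.subtype_injective).symm.toEquiv
  have hpP' : p ∣ Nat.card P' := by
    rw [hP'card]
    simpa using Sylow.pow_dvd_card_of_pow_dvd_card P (n := 1) (by simpa using hpK)
  have hP'p : IsPGroup p P' := (P.isPGroup').map K.subtype
  -- the relative indices
  have hq1 : q ∣ Nat.card (M.subgroupOf G₁) := by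
    have h1 : Nat.card M / Nat.card K = K.relIndex M := by
      have h3 := Subgroup.card_mul_index (K.subgroupOf M)
      have h4 : Nat.card (K.subgroupOf M) = Nat.card K :=
        Nat.card_congr (Subgroup.subgroupOfEquivOfLe hKM).toEquiv
      rw [h4] at h3
      exact Nat.div_eq_of_eq_mul_right Nat.card_pos h3.symm
    have h2 : K ⊔ (G₁ ⊓ M) = M := by
      apply le_antisymm (sup_le hKM inf_le_right)
      intro x hx
      have hx' : x ∈ G₁ ⊔ K := by rw [hfr]; trivial
      obtain ⟨g, hg, k, hk, rfl⟩ := Subgroup.mem_sup_of_normal_right.mp hx'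
      have hgM : g ∈ M := by
        have := M.mul_mem hx (M.inv_mem (hKM hk))
        simpa using this
      exact Subgroup.mul_mem _ (Subgroup.mem_sup_right ⟨hg, hgM⟩) (Subgroup.mem_sup_left hk)
    have h3 : K.relIndex M = K.relIndex (G₁ ⊓ M) := by
      conv_lhs => rw [← h2]
      exact Subgroup.relIndex_sup_left _ _
    have h4 : Nat.card (M.subgroupOf G₁) = Nat.card (G₁ ⊓ M : Subgroup G) := by
      rw [← Subgroup.inf_subgroupOf_left]
      exact Nat.card_congr (Subgroup.subgroupOfEquivOfLe inf_le_left).toEquiv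
    rw [h4]
    rw [h1, h3] at hqM
    exact hqM.trans (Subgroup.relIndex_dvd_card _ _)
  have hr1 : r ∣ (M.subgroupOf G₁).index := by
    have h1 : Nat.card G / Nat.card M = M.index :=
      Nat.div_eq_of_eq_mul_right Nat.card_pos (Subgroup.card_mul_index M).symm
    have h2 : G₁ ⊔ M = ⊤ := by
      rw [eq_top_iff, ← hfr]
      exact sup_le_sup_left hKM _
    have h3 : M.relIndex G₁ = M.index := by
      have := Subgroup.relIndex_sup_right G₁ M
      rw [h2, Subgroup.relIndex_top_right] at this
      exact this.symm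
    rw [h1, ← h3] at hrG
    exact hrG
  -- Frattini for `M₁` inside `G₁`
  let M₁ : Subgroup G₁ := M.subgroupOf G₁
  let Q : Sylow q M₁ := default
  let Q₁ : Subgroup G₁ := (Q : Subgroup M₁).map M₁.subtype
  let N : Subgroup G₁ := Subgroup.normalizer (Q₁ : Set G₁)
  have hfr₁ : N ⊔ M₁ = ⊤ := Sylow.normalizer_sup_eq_top Q
  have hrN : r ∣ Nat.card N := by
    have h3 : M₁.relIndex N = M₁.index := by
      have := Subgroup.relIndex_sup_right N M₁
      rw [hfr₁, Subgroup.relIndex_top_right] at this
      exact this.symm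
    rw [← h3] at hr1
    exact hr1.trans (Subgroup.relIndex_dvd_card _ _)
  obtain ⟨y₀, hy₀⟩ := exists_prime_orderOf_dvd_card' r hrN
  let y₁ : G₁ := (y₀ : G₁)
  have hy₁N : y₁ ∈ N := y₀.2
  let y : G := (y₁ : G)
  have hy : orderOf y = r := by
    show orderOf ((y₀ : G₁) : G) = r
    rw [Subgroup.orderOf_coe, Subgroup.orderOf_coe]; exact hy₀
  let Q' : Subgroup G := Q₁.map G₁.subtype
  have hQ'card : Nat.card Q' = Nat.card Q :=
    (Nat.card_congr (Subgroup.equivMapOfInjective _ _ G₁.subtype_injective).symm.toEquiv).trans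
      (Nat.card_congr (Subgroup.equivMapOfInjective _ _ M₁.subtype_injective).symm.toEquiv)
  have hqQ' : q ∣ Nat.card Q' := by
    rw [hQ'card]
    simpa using Sylow.pow_dvd_card_of_pow_dvd_card Q (n := 1) (by simpa using hq1)
  have hQ'q : IsPGroup q Q' := ((Q.isPGroup').map M₁.subtype).map G₁.subtype
  have hyP : y ∈ Subgroup.normalizer (P' : Set G) := y₁.2
  have hyQ : y ∈ Subgroup.normalizer (Q' : Set G) :=
    Subgroup.le_normalizer_map G₁.subtype ⟨y₁, hy₁N, rfl⟩
  have hQ'le : Q' ≤ Subgroup.normalizer (P' : Set G) := by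
    rintro _ ⟨a, -, rfl⟩
    exact a.2
  have hT : Group.IsSolvable (Q' ⊔ P' : Subgroup G) :=
    isSolvable_sup_of_le_normalizer P' Q' hQ'le (isSolvable_of_isPGroup hp hP'p)
      (isSolvable_of_isPGroup hq hQ'q)
  have hyT : Subgroup.zpowers y ≤ Subgroup.normalizer ((Q' ⊔ P' : Subgroup G) : Set G) := by
    rw [Subgroup.zpowers_le]
    exact Subgroup.normalizer_inf_normalizer_le_normalizer_sup Q' P' ⟨hyQ, hyP⟩
  have hW : Group.IsSolvable (Subgroup.zpowers y ⊔ (Q' ⊔ P') : Subgroup G) :=
    isSolvable_sup_of_le_normalizer _ _ hyT hT (isSolvable_zpowers y)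
  refine exists_edge_of_solvable_subgroup hp hq hr hpq hpr hqr _ hW ?_ ?_ ?_
  · exact hpP'.trans (Subgroup.card_dvd_of_le (le_sup_of_le_right le_sup_right))
  · exact hqQ'.trans (Subgroup.card_dvd_of_le (le_sup_of_le_right le_sup_left))
  · have h : r ∣ Nat.card (Subgroup.zpowers y) := by
      rw [Nat.card_zpowers, hy]
    exact h.trans (Subgroup.card_dvd_of_le le_sup_left)

end Cfsg.Agent.S3634
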