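import Mathlib
import Cfsg.Statements.S3664
import Cfsg.Agent.Lib.Sz8Semi
import Cfsg.Agent.Lib.PSp63

set_option autoImplicit false

namespace Cfsg.Agent.S3664

open Cfsg.Agent.Lib.Sz8

theorem arith1 : ∀ p ∈ Finset.range 31, p.Prime → (p ∣ 24 ∨ p ∣ 30 ∨ p ∣ 14 ∨ p ∣ 13) →
    p = 2 ∨ p = 3 ∨ p = 5 ∨ p = 7 ∨ p = 13 := by
  decide +kernel

theorem arith2 : ∀ p ∈ Finset.range 31, ∀ q ∈ Finset.range 31, p.Prime → q.Prime → p ≠ q →
    (p * q ∣ 24 ∨ p * q ∣ 30 ∨ p * q ∣ 14 ∨ p * q ∣ 13) → p * q = 6 ∨ p * q = 10 ∨ p * q = 14 ∨ p * q = 15 := by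
  decide +kernel

theorem dvd_cases {n : ℕ} (h : n ∣ 24 ∨ n ∣ 30 ∨ n ∣ 14 ∨ n ∣ 13) : n < 31 := by
  rcases h with h | h | h | h
  · have := Nat.le_of_dvd (by norm_num) h; omega
  · have := Nat.le_of_dvd (by norm_num) h; omega
  · have := Nat.le_of_dvd (by norm_num) h; omega
  · have := Nat.le_of_dvd (by norm_num) h; omega

theorem order_dvd {n : ℕ} (g : HH n) : orderOf g ∣ 24 ∨ orderOf g ∣ 30 ∨ orderOf g ∣ 14 ∨ orderOf g ∣ 13 := by
  rcases HH_pow g with h | h | h | h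
  · exact Or.inl (orderOf_dvd_of_pow_eq_one h)
  · exact Or.inr (Or.inl (orderOf_dvd_of_pow_eq_one h))
  · exact Or.inr (Or.inr (Or.inl (orderOf_dvd_of_pow_eq_one h)))
  · exact Or.inr (Or.inr (Or.inr (orderOf_dvd_of_pow_eq_one h)))

instance (n : ℕ) : Finite (HH n) := Finite.of_equiv _ SemidirectProduct.equivProd.symm

theorem prime_HH (n : ℕ) {p : ℕ} (hp : p.Prime) :
    p ∣ Nat.card (HH (n + 1)) ↔ p = 2 ∨ p = 3 ∨ p = 5 ∨ p = 7 ∨ p = 13 := by
  constructor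
  · intro h
    haveI : Fact p.Prime := ⟨hp⟩
    obtain ⟨g, hg⟩ := exists_prime_orderOf_dvd_card' p h
    have h1 := order_dvd g
    rw [hg] at h1
    exact arith1 p (Finset.mem_range.mpr (dvd_cases h1)) hp h1
  · obtain ⟨g6, h6⟩ := exists_six (n + 1)
    obtain ⟨g10, h10⟩ := exists_ten n
    obtain ⟨g14, h14⟩ := exists_fourteen n
    obtain ⟨g13, h13⟩ := exists_thirteen (n + 1)
    have d6 : 6 ∣ Nat.card (HH (n + 1)) := h6 ▸ orderOf_dvd_natCard g6
    have d10 : 10 ∣ Nat.card (HH (n + 1)) := h10 ▸ orderOf_dvd_natCard g10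
    have d14 : 14 ∣ Nat.card (HH (n + 1)) := h14 ▸ orderOf_dvd_natCard g14
    have d13 : 13 ∣ Nat.card (HH (n + 1)) := h13 ▸ orderOf_dvd_natCard g13
    rintro (rfl | rfl | rfl | rfl | rfl)
    · exact (by norm_num : 2 ∣ 6).trans d6
    · exact (by norm_num : 3 ∣ 6).trans d6
    · exact (by norm_num : 5 ∣ 10).trans d10
    · exact (by norm_num : 7 ∣ 14).trans d14
    · exact d13

theorem edge_HH (n : ℕ) {p q : ℕ} (hp : p.Prime) (hq : q.Prime) (hne : p ≠ q) :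
    (∃ g : HH (n + 1), orderOf g = p * q) ↔ (p * q = 6 ∨ p * q = 10 ∨ p * q = 14 ∨ p * q = 15) := by
  constructor
  · rintro ⟨g, hg⟩
    have h1 := order_dvd g
    rw [hg] at h1
    have h2 := dvd_cases h1
    have hp1 : p < 31 := by
      have := Nat.le_mul_of_pos_right p hq.pos
      omega
    have hq1 : q < 31 := by
      have := Nat.le_mul_of_pos_left q hp.pos
      omega
    exact arith2 p (Finset.mem_range.mpr hp1) q (Finset.mem_range.mpr hq1) hp hq hne h1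
  · rintro (h | h | h | h) <;> rw [h]
    · exact exists_six _
    · exact exists_ten n
    · exact exists_fourteen n
    · exact exists_fifteen _

theorem edge_PSp {F : Type*} [Field F] [Fintype F] (hF : Fintype.card F = 3) {p q : ℕ} (hp : p.Prime) (hq : q.Prime)
    (hne : p ≠ q) :
    (∃ g : Cfsg.PSp 3 F, orderOf g = p * q) ↔ (p * q = 6 ∨ p * q = 10 ∨ p * q = 14 ∨ p * q = 15) := by
  open Cfsg.Agent.Lib.PSp63 in
  constructor
  · rintro ⟨g, hg⟩
    have h1 : p ∣ Nat.card (Cfsg.PSp 3 F) := ((Nat.dvd_mul_right p q).trans (hg ▸ dvd_rfl)).trans (orderOf_dvd_natCard g)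
    have h2 : q ∣ Nat.card (Cfsg.PSp 3 F) := ((Nat.dvd_mul_left q p).trans (hg ▸ dvd_rfl)).trans (orderOf_dvd_natCard g)
    rw [prime_dvd_iff hF hp] at h1
    rw [prime_dvd_iff hF hq] at h2
    have n21 : orderOf g ≠ 21 := fun h => not21 hF ⟨g, h⟩
    have n26 : orderOf g ≠ 26 := fun h => not26 hF ⟨g, h⟩
    have n35 : orderOf g ≠ 35 := fun h => not35 hF ⟨g, h⟩
    have n39 : orderOf g ≠ 39 := fun h => not39 hF ⟨g, h⟩
    have n65 : orderOf g ≠ 65 := fun h => not65 hF ⟨g, h⟩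
    have n91 : orderOf g ≠ 91 := fun h => not91 hF ⟨g, h⟩
    rcases h1 with rfl | rfl | rfl | rfl | rfl <;> rcases h2 with rfl | rfl | rfl | rfl | rfl <;> omega
  · rintro (h | h | h | h) <;> rw [h]
    · exact mem6 hF
    · exact mem10 hF
    · exact mem14 hF
    · exact mem15 hF

theorem card_large (N : ℕ) : N < Nat.card (HH (N + 1)) := by
  have h1 : Nat.card (Multiplicative (Fin (N + 1) → Mat)) ≤ Nat.card (HH (N + 1)) :=
    Nat.card_le_card_of_injective _ (SemidirectProduct.inl_injective (N := Multiplicative (Fin (N + 1) → Mat)) (G := KK)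
      (φ := psiOf (alphaN (N + 1)) (alphaN_add (N + 1))))
  have h2 : Nat.card (Multiplicative (Fin (N + 1) → Mat)) = Nat.card Mat ^ (N + 1) := by
    rw [Nat.card_congr Multiplicative.toAdd, Nat.card_fun]
    simp
  have h3 : 2 ≤ Nat.card Mat := Finite.one_lt_card
  have h4 : 2 ^ (N + 1) ≤ Nat.card Mat ^ (N + 1) := Nat.pow_le_pow_left h3 _
  have h5 : N + 1 < 2 ^ (N + 1) := Nat.lt_two_pow_self
  omega

/-- The prime graph of `PSp₆(3)` is shared by groups of unbounded order. -/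
theorem result {F : Type*} [Field F] [Fintype F] (hF : Fintype.card F = 3) (N : ℕ) :
    ∃ (H : Type) (_ : Group H) (_ : Finite H), N < Nat.card H ∧
      ((∀ p : ℕ, p.Prime → (p ∣ Nat.card (Cfsg.PSp 3 F) ↔ p ∣ Nat.card H)) ∧
      (∀ p q : ℕ, p.Prime → q.Prime → p ≠ q → ((∃ g : (Cfsg.PSp 3 F), orderOf g = p * q) ↔ (∃ g : H, orderOf g = p * q)))) := by
  refine ⟨HH (N + 1), inferInstance, inferInstance, card_large N, ?_, ?_⟩
  · intro p hp
    rw [Cfsg.Agent.Lib.PSp63.prime_dvd_iff hF hp, prime_HH N hp]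
  · intro p q hp hq hne
    rw [edge_PSp hF hp hq hne, edge_HH N hp hq hne]

end Cfsg.Agent.S3664
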