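import Mathlib
import Cfsg.Statements.S3716
import Cfsg.Agent.Lib.S6RecConv
-- import your own Cfsg.Agent.* helpers here

set_option autoImplicit false
open Cfsg

namespace Cfsg.Agent.S3716

/-- Let G be a finite group with an elementary abelian Sylow 3-subgroup M of order 9 which is self-centralizing (C_G(M) = M), let N = N_G(M), and suppose C_G(g) ≤ N for every nonidentity g ∈ M. If the Sylow 2-subgroups of N are dihedral of order 8, then G is not simple. -/
theorem result {G : Type*} [Group G] [Finite G] (M : Sylow 3 G) (hM9 : Nat.card ↥(M : Subgroup G) = 9)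
    (hMel : ∀ m ∈ (M : Subgroup G), m ^ 3 = 1)
    (hCM : Subgroup.centralizer ((M : Subgroup G) : Set G) = (M : Subgroup G))
    (N : Subgroup G) (hN : N = Subgroup.normalizer ((M : Subgroup G) : Set G))
    (hCg : ∀ g ∈ (M : Subgroup G), g ≠ 1 → Subgroup.centralizer ({g} : Set G) ≤ N)
    (hS : ∀ S : Sylow 2 ↥N, Nonempty (↥(S : Subgroup ↥N) ≃* DihedralGroup 4)) :
    ¬ IsSimpleGroup G := by
  subst hN
  intro hsimple
  haveI : Fact (Nat.Prime 3) := ⟨Nat.prime_three⟩
  obtain ⟨eN⟩ := Cfsg.Agent.Lib.S6RecConv.quotient_equiv M hM9 hCM hS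
  rcases Cfsg.Agent.Lib.S6RecDich.dichotomy M (M : Subgroup G) rfl hM9 hCM eN hCg with hnorm | hmain
  · rcases hsimple.eq_bot_or_eq_top_of_normal _ hnorm with h | h
    · rw [h] at hM9
      simp at hM9
    · have h72 := Cfsg.Agent.Lib.S6RecDich.card_normalizer hM9 eN
      have h1 : Subgroup.normalizer (((M : Subgroup G)) : Set G) = ⊤ := Subgroup.normalizer_eq_top_iff.mpr hnorm
      rw [h1, Subgroup.card_top] at h72
      rw [h, Subgroup.card_top] at hM9
      omega
  · obtain ⟨φ, x, x', R, t₁, t₂, hφ, H₁, H₂, h21, h22, hφR, hφ1, hφ2, h10, h720, hno⟩ := hmain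
    rcases hsimple.eq_bot_or_eq_top_of_normal _ (Cfsg.Agent.Lib.S6RecEnd3.sgn G).normal_ker with h | h
    · have h1 : x ∈ (Cfsg.Agent.Lib.S6RecEnd3.sgn G).ker :=
        Cfsg.Agent.Lib.S6RecEnd3.sgn_of_cube (H₁.exp x H₁.hx)
      rw [h, Subgroup.mem_bot] at h1
      exact H₁.x1 h1
    · have h1 : t₁ ∈ (Cfsg.Agent.Lib.S6RecEnd3.sgn G).ker := by rw [h]; trivial
      have h2 := Cfsg.Agent.Lib.S6RecEnd3.sgn_t H₁ h10
      rw [MonoidHom.mem_ker, h2] at h1
      exact absurd h1 (by decide)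

end Cfsg.Agent.S3716
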