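import Mathlib
import Cfsg.Statements.S3753
import Cfsg.Agent.H28.KInfMono
import Cfsg.Agent.Lib.KInfStable
import Cfsg.Agent.Lib.QdFree
import Cfsg.Agent.Lib.PCore

set_option autoImplicit false
open Cfsg

namespace Cfsg.Agent.S3753

open Subgroup Cfsg.Agent.Lib.KInf Cfsg.Agent.Lib.KInfStable Cfsg.Agent.Lib.PCore Cfsg.Agent.H28.KInfMono

universe u

section qd

variable {p : ℕ} [hp : Fact p.Prime]

/-- The matrix `[[0, 1, 0], [-1, 0, 0], [0, 0, 1]]`. -/
def aM : Matrix.SpecialLinearGroup (Fin 3) (ZMod p) :=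
  ⟨!![0, 1, 0; -1, 0, 0; 0, 0, 1], by simp [Matrix.det_fin_three]⟩

/-- The matrix `[[x, y, 0], [y, -x, 0], [0, 0, 1]]`. -/
def bM (x y : ZMod p) (h : x ^ 2 + y ^ 2 = -1) : Matrix.SpecialLinearGroup (Fin 3) (ZMod p) :=
  ⟨!![x, y, 0; y, -x, 0; 0, 0, 1], by
    simp [Matrix.det_fin_three]
    linear_combination -h⟩

theorem aM_mem : aM (p := p) ∈ Cfsg.qd p := by
  refine Subgroup.subset_closure ⟨?_, ?_, ?_⟩ <;> simp [aM]

theorem bM_mem (x y : ZMod p) (h : x ^ 2 + y ^ 2 = -1) : bM x y h ∈ Cfsg.qd p := by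
  refine Subgroup.subset_closure ⟨?_, ?_, ?_⟩ <;> simp [bM]

theorem aM_coe : ((aM (p := p)) : Matrix (Fin 3) (Fin 3) (ZMod p)) = !![0, 1, 0; -1, 0, 0; 0, 0, 1] := rfl

theorem bM_coe (x y : ZMod p) (h : x ^ 2 + y ^ 2 = -1) :
    ((bM x y h) : Matrix (Fin 3) (Fin 3) (ZMod p)) = !![x, y, 0; y, -x, 0; 0, 0, 1] := rfl

theorem aba (x y : ZMod p) (h : x ^ 2 + y ^ 2 = -1) : aM * bM x y h * aM = bM x y h := by
  apply Subtype.ext
  show ((aM * bM x y h * aM : Matrix.SpecialLinearGroup (Fin 3) (ZMod p)) : Matrix (Fin 3) (Fin 3) (ZMod p)) = _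
  rw [Matrix.SpecialLinearGroup.coe_mul, Matrix.SpecialLinearGroup.coe_mul, aM_coe, bM_coe]
  ext i j
  fin_cases i <;> fin_cases j <;>
    simp [Matrix.mul_apply, Fin.sum_univ_three]

theorem a4 : (aM (p := p)) ^ 4 = 1 := by
  apply Subtype.ext
  show ((aM ^ 4 : Matrix.SpecialLinearGroup (Fin 3) (ZMod p)) : Matrix (Fin 3) (Fin 3) (ZMod p)) = _
  rw [Matrix.SpecialLinearGroup.coe_pow, aM_coe]
  simp only [pow_succ, pow_zero, one_mul]
  ext i j
  fin_cases i <;> fin_cases j <;>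
    simp [Matrix.mul_apply, Fin.sum_univ_three, Matrix.one_apply]

theorem b4 (x y : ZMod p) (h : x ^ 2 + y ^ 2 = -1) : (bM x y h) ^ 4 = 1 := by
  have hb2 : (bM x y h) ^ 2 = aM ^ 2 := by
    apply Subtype.ext
    show ((bM x y h ^ 2 : Matrix.SpecialLinearGroup (Fin 3) (ZMod p)) : Matrix (Fin 3) (Fin 3) (ZMod p)) =
      ((aM ^ 2 : Matrix.SpecialLinearGroup (Fin 3) (ZMod p)) : Matrix (Fin 3) (Fin 3) (ZMod p))
    rw [Matrix.SpecialLinearGroup.coe_pow, Matrix.SpecialLinearGroup.coe_pow, aM_coe, bM_coe]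
    simp only [pow_succ, pow_zero, one_mul]
    ext i j
    fin_cases i <;> fin_cases j <;>
      simp [Matrix.mul_apply, Fin.sum_univ_three]
    · linear_combination h
    · ring
    · ring
    · linear_combination h
  rw [show (4 : ℕ) = 2 * 2 from rfl, pow_mul, hb2, ← pow_mul]
  exact a4

theorem a2_ne (hp2 : p ≠ 2) : (aM (p := p)) ^ 2 ≠ 1 := by
  intro h
  have h1 : ((aM * aM : Matrix.SpecialLinearGroup (Fin 3) (ZMod p)) : Matrix (Fin 3) (Fin 3) (ZMod p)) 0 0 =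
      ((1 : Matrix.SpecialLinearGroup (Fin 3) (ZMod p)) : Matrix (Fin 3) (Fin 3) (ZMod p)) 0 0 := by
    rw [← pow_two, h]
  rw [Matrix.SpecialLinearGroup.coe_mul, Matrix.SpecialLinearGroup.coe_one, aM_coe] at h1
  simp [Matrix.mul_apply, Fin.sum_univ_three] at h1
  have h2 : ((2 : ℕ) : ZMod p) = 0 := by
    push_cast
    linear_combination -h1
  rw [ZMod.natCast_eq_zero_iff] at h2
  exact hp2 ((Nat.prime_dvd_prime_iff_eq hp.out Nat.prime_two).mp h2)

/-- Abelian Sylow `2`-subgroups exclude `Qd(p)`. -/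
theorem exists_nonabelian (hp2 : p ≠ 2) :
    ∃ a b : ↥(Cfsg.qd p), a * b ≠ b * a ∧ IsPGroup 2 ↥(zpowers a ⊔ zpowers b) := by
  obtain ⟨x, y, h⟩ := ZMod.sq_add_sq p (-1 : ZMod p)
  set a : ↥(Cfsg.qd p) := ⟨aM, aM_mem⟩ with ha
  set b : ↥(Cfsg.qd p) := ⟨bM x y h, bM_mem x y h⟩ with hb
  have haba : a * b * a = b := Subtype.ext (aba x y h)
  have ha4 : a ^ 4 = 1 := Subtype.ext (by simpa [ha] using a4)
  have hb4 : b ^ 4 = 1 := Subtype.ext (by simpa [hb] using b4 x y h)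
  have ha2 : a ^ 2 ≠ 1 := fun h2 => a2_ne hp2 (by simpa [ha] using congrArg Subtype.val h2)
  have hconj : b * a * b⁻¹ = a⁻¹ := by
    have h1 : b * a = a⁻¹ * b := by
      calc b * a = a⁻¹ * (a * b * a) * a⁻¹ * a := by group
        _ = a⁻¹ * b := by rw [haba]; group
    rw [h1]
    group
  have hconj' : b⁻¹ * a * b = a⁻¹ := by
    have h1 : a * b = b * a⁻¹ := by
      calc a * b = a * b * a * a⁻¹ := by group
        _ = b * a⁻¹ := by rw [haba]
    rw [mul_assoc, h1]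
    group
  refine ⟨a, b, ?_, ?_⟩
  · intro hc
    apply ha2
    have h1 : a * a * b = b := by
      rw [mul_assoc, hc, ← mul_assoc]
      exact haba
    have h2 : a * a = 1 := by
      exact mul_eq_right.mp h1
    rwa [pow_two]
  · have hP : ∀ c : ↥(Cfsg.qd p), c ^ 4 = 1 → IsPGroup 2 ↥(zpowers c) := by
      rintro c hc ⟨_, k, rfl⟩
      refine ⟨2, Subtype.ext ?_⟩
      show ((c ^ k) ^ 2 ^ 2) = 1
      rw [← zpow_natCast, ← zpow_mul, mul_comm, zpow_mul]
      norm_num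
      rw [hc, one_zpow]
    have hn : zpowers b ≤ normalizer (zpowers a : Set ↥(Cfsg.qd p)) := by
      rw [zpowers_le, Subgroup.mem_normalizer_iff]
      intro h'
      constructor
      · rintro ⟨k, rfl⟩
        refine ⟨-k, ?_⟩
        show a ^ (-k) = b * a ^ k * b⁻¹
        rw [← conj_zpow, hconj, inv_zpow, zpow_neg]
      · rintro ⟨k, hk⟩
        refine ⟨-k, ?_⟩
        have hk' : h' = b⁻¹ * a ^ k * b := by
          have : a ^ k = b * h' * b⁻¹ := hk
          rw [this]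
          group
        show a ^ (-k) = h'
        rw [hk']
        have := conj_zpow (a := b⁻¹) (b := a) (i := k)
        rw [inv_inv] at this
        rw [← this, hconj', inv_zpow, zpow_neg]
    rw [sup_comm]
    exact IsPGroup.to_sup_of_normal_right' (hP b hb4) (hP a ha4) hn

/-- A group with abelian Sylow `2`-subgroups does not involve `Qd(p)`. -/
theorem not_involves_of_abelian (hp2 : p ≠ 2) {X : Type*} [Group X] [Finite X]
    (h : ∀ S : Sylow 2 X, IsMulCommutative (S : Subgroup X)) : ¬ Involves (↥(Cfsg.qd p)) X := by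
  rintro ⟨K, R, hR, ⟨e⟩⟩
  obtain ⟨a, b, hab, hU⟩ := exists_nonabelian (p := p) hp2
  haveI : Fact (Nat.Prime 2) := ⟨Nat.prime_two⟩
  obtain ⟨E, hE⟩ := hU.exists_le_sylow
  let f : ↥K →* ↥(Cfsg.qd p) := e.toMonoidHom.comp (QuotientGroup.mk' (R.subgroupOf K))
  have hf : Function.Surjective f := e.surjective.comp (QuotientGroup.mk'_surjective _)
  obtain ⟨T, hT⟩ := Sylow.mapSurjective_surjective hf 2 E
  -- `T` is abelian
  have hTp : IsPGroup 2 ((T : Subgroup ↥K).map K.subtype) := T.isPGroup'.map _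
  obtain ⟨S, hS⟩ := hTp.exists_le_sylow
  have hcomm := h S
  have hTc : ∀ x y : ↥K, x ∈ (T : Subgroup ↥K) → y ∈ (T : Subgroup ↥K) → x * y = y * x := by
    intro x y hx hy
    have h1 := hcomm.is_comm.comm ⟨x, hS ⟨x, hx, rfl⟩⟩ ⟨y, hS ⟨y, hy, rfl⟩⟩
    have h2 : ((x : X) * (y : X)) = (y : X) * (x : X) := congrArg Subtype.val h1
    exact Subtype.ext h2
  have hEe : (E : Subgroup ↥(Cfsg.qd p)) = (T : Subgroup ↥K).map f := by
    rw [← hT]
    rfl
  have ha : a ∈ (E : Subgroup ↥(Cfsg.qd p)) := hE (Subgroup.mem_sup_left (mem_zpowers a))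
  have hb : b ∈ (E : Subgroup ↥(Cfsg.qd p)) := hE (Subgroup.mem_sup_right (mem_zpowers b))
  rw [hEe] at ha hb
  obtain ⟨x, hx, rfl⟩ := ha
  obtain ⟨y, hy, rfl⟩ := hb
  apply hab
  rw [← map_mul, ← map_mul, hTc x y hx hy]

end qd

section main

variable {G : Type u} [Group G] [Finite G] {p : ℕ} [hp : Fact p.Prime]

/-- A normal subgroup of `M` gives a subgroup of `G` normalized by `M`. -/
theorem le_normalizer_map_of_normal (M : Subgroup G) (K : Subgroup M) [hK : K.Normal] :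
    M ≤ normalizer ((K.map M.subtype : Subgroup G) : Set G) := by
  have h1 := Subgroup.le_normalizer_map (H := K) M.subtype
  rw [Subgroup.normalizer_eq_top_iff.mpr hK, ← MonoidHom.range_eq_map, Subgroup.range_subtype] at h1
  exact h1

/-- The key: the upper `K`-infinity subgroup of a `p`-subgroup containing `O_p(M)` is normalized by `M`. -/
theorem key (M S : Subgroup G) (hSp : IsPGroup p S) (hSM : S ≤ M) (hst : StAll p ↥M)
    (hc : centralizer (pCore p ↥M : Set ↥M) ≤ pCore p ↥M) (hOS : (pCore p ↥M).map M.subtype ≤ S) :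
    M ≤ normalizer (((kInfUpper ↥S).map S.subtype : Subgroup G) : Set G) ∧
      (kInfUpper ↥S).map S.subtype ≤ (pCore p ↥M).map M.subtype := by
  set S' : Subgroup ↥M := S.subgroupOf M with hS'
  let e₂ : ↥S' ≃* ↥S := Subgroup.subgroupOfEquivOfLe hSM
  have hS'p : IsPGroup p S' := IsPGroup.of_injective hSp e₂.toMonoidHom e₂.injective
  obtain ⟨R, hR⟩ := hS'p.exists_le_sylow
  set Rh : Subgroup ↥M := (R : Subgroup ↥M) with hRh
  obtain ⟨hn1, hn2⟩ := normal_kInf hst hc R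
  have hRp : IsPGroup p Rh := R.isPGroup'
  have hmapP : ∀ U : Subgroup ↥Rh, IsPGroup p ↥(U.map Rh.subtype) := fun U =>
    IsPGroup.to_le hRp (Subgroup.map_subtype_le U)
  have hle1 : inducedFunctor kInfLower Rh ≤ pCore p ↥M := le_pCore hn1 (hmapP _)
  have hle2 : inducedFunctor kInfUpper Rh ≤ pCore p ↥M := le_pCore hn2 (hmapP _)
  set Q : Subgroup ↥Rh := S'.subgroupOf Rh with hQ
  have hleQ : ∀ U : Subgroup ↥Rh, U.map Rh.subtype ≤ pCore p ↥M → U ≤ Q := by
    intro U hU x hx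
    have h1 : (x : ↥M) ∈ pCore p ↥M := hU ⟨x, hx, rfl⟩
    have h2 : ((x : ↥M) : G) ∈ S := hOS ⟨_, h1, rfl⟩
    exact h2
  obtain ⟨-, h2⟩ := kInf_of_le Q (hleQ _ hle1) (hleQ _ hle2)
  let e₁ : ↥Q ≃* ↥S' := Subgroup.subgroupOfEquivOfLe hR
  let φ : ↥Q ≃* ↥S := e₁.trans e₂
  have h3 : kInfUpper ↥S = (kInfUpper ↥Q).map φ.toMonoidHom := (kInfUpper_map_equiv φ).symm
  have h4 : (kInfUpper ↥S).map S.subtype = (inducedFunctor kInfUpper Rh).map M.subtype := by
    rw [h3]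
    unfold inducedFunctor
    rw [← h2]
    simp only [Subgroup.map_map]
    rfl
  rw [h4]
  exact ⟨le_normalizer_map_of_normal M _, Subgroup.map_mono hle2⟩

end main

/-- Two distinct subgroups M₁, M₂ of G form a primitive pair when, for {i, j} = {1, 2}, every non-trivial normal subgroup A of M_i contained in M₁ ∩ M₂ satisfies N_{M_j}(A) = M₁ ∩ M₂; the pair has characteristic p when moreover C_{M_i}(O_p(M_i)) ≤ O_p(M_i) for both i and O_p(M₁)O_p(M₂) ≤ M₁ ∩ M₂. If the finite group G has a primitive pair (M₁, M₂) of characteristic p for some prime p, then M₁ or M₂ has non-abelian Sylow 2-subgroups. In particular no group of odd order has a primitive pair of characteristic p. -/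
theorem result {G : Type*} [Group G] [Finite G] {p : ℕ} [Fact p.Prime] (M₁ M₂ : Subgroup G) (hne : M₁ ≠ M₂) (hP : ∀ A : Subgroup G, A ≠ ⊥ → A ≤ M₁ ⊓ M₂ → (M₁ ≤ Subgroup.normalizer (A : Set G) → M₂ ⊓ Subgroup.normalizer (A : Set G) = M₁ ⊓ M₂) ∧ (M₂ ≤ Subgroup.normalizer (A : Set G) → M₁ ⊓ Subgroup.normalizer (A : Set G) = M₁ ⊓ M₂)) (hc₁ : Subgroup.centralizer (Cfsg.pCore p ↥M₁ : Set ↥M₁) ≤ Cfsg.pCore p ↥M₁) (hc₂ : Subgroup.centralizer (Cfsg.pCore p ↥M₂ : Set ↥M₂) ≤ Cfsg.pCore p ↥M₂) (hO : (Cfsg.pCore p ↥M₁).map M₁.subtype ⊔ (Cfsg.pCore p ↥M₂).map M₂.subtype ≤ M₁ ⊓ M₂) : (∃ S : Sylow 2 ↥M₁, ¬ IsMulCommutative (S : Subgroup ↥M₁)) ∨ (∃ S : Sylow 2 ↥M₂, ¬ IsMulCommutative (S : Subgroup ↥M₂)) := by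
  classical
  by_contra hcon
  push Not at hcon
  obtain ⟨h₁, h₂⟩ := hcon
  have hpp : p.Prime := Fact.out
  -- a common normal subgroup gives a contradiction
  have hfin : ∀ W : Subgroup G, W ≠ ⊥ → W ≤ M₁ ⊓ M₂ → M₁ ≤ normalizer (W : Set G) →
      M₂ ≤ normalizer (W : Set G) → False := by
    intro W hW hWD h1 h2
    obtain ⟨h3, h4⟩ := hP W hW hWD
    have e1 := h3 h1
    have e2 := h4 h2
    apply hne
    apply le_antisymm
    · rw [inf_eq_left.mpr h1] at e2
      exact inf_eq_left.mp e2.symm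
    · rw [inf_eq_left.mpr h2] at e1
      exact inf_eq_right.mp e1.symm
  set O₁ := (pCore p ↥M₁).map M₁.subtype with hO₁
  set O₂ := (pCore p ↥M₂).map M₂.subtype with hO₂
  have hO₁D : O₁ ≤ M₁ ⊓ M₂ := le_sup_left.trans hO
  have hO₂D : O₂ ≤ M₁ ⊓ M₂ := le_sup_right.trans hO
  have hP₁ : IsPGroup p O₁ := (isPGroup_pCore p).map _
  have hP₂ : IsPGroup p O₂ := (isPGroup_pCore p).map _
  have hN₁ : M₁ ≤ normalizer (O₁ : Set G) := le_normalizer_map_of_normal M₁ _
  have hN₂ : M₂ ≤ normalizer (O₂ : Set G) := le_normalizer_map_of_normal M₂ _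
  have hne' : ¬ (O₁ = ⊥ ∧ O₂ = ⊥) := by
    have hbot : ∀ M : Subgroup G, centralizer (pCore p ↥M : Set ↥M) ≤ pCore p ↥M →
        (pCore p ↥M).map M.subtype = ⊥ → M = ⊥ := by
      intro M hc h
      rw [Subgroup.map_eq_bot_iff_of_injective _ M.subtype_injective] at h
      rw [h] at hc
      rw [eq_bot_iff]
      intro x hx
      have h3 : (⟨x, hx⟩ : ↥M) ∈ centralizer (((⊥ : Subgroup ↥M) : Set ↥M)) := by
        rw [Subgroup.mem_centralizer_iff]
        intro y hy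
        have hy1 : y = 1 := hy
        rw [hy1]
        simp
      have h4 := hc h3
      have h5 : (⟨x, hx⟩ : ↥M) = 1 := h4
      exact congrArg Subtype.val h5
    rintro ⟨h1, h2⟩
    exact hne ((hbot M₁ hc₁ h1).trans (hbot M₂ hc₂ h2).symm)
  by_cases hp2 : p = 2
  · -- the prime two: the core is a Sylow subgroup
    subst hp2
    have hSyl : ∀ M : Subgroup G, (∀ S : Sylow 2 ↥M, IsMulCommutative (S : Subgroup ↥M)) →
        centralizer (pCore 2 ↥M : Set ↥M) ≤ pCore 2 ↥M → ∀ T : Subgroup G, T ≤ M → IsPGroup 2 T →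
        T ≤ (pCore 2 ↥M).map M.subtype := by
      intro M hab hc T hTM hTp
      have hT' : IsPGroup 2 (T.subgroupOf M) :=
        IsPGroup.of_injective hTp (Subgroup.subgroupOfEquivOfLe hTM).toMonoidHom
          (Subgroup.subgroupOfEquivOfLe hTM).injective
      obtain ⟨S, hS⟩ := hT'.exists_le_sylow
      have hSle : (S : Subgroup ↥M) ≤ pCore 2 ↥M := by
        intro x hx
        apply hc
        rw [Subgroup.mem_centralizer_iff]
        intro y hy
        have hy' : y ∈ (S : Subgroup ↥M) := pCore_le_sylow 2 S hy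
        have := (hab S).is_comm.comm ⟨y, hy'⟩ ⟨x, hx⟩
        exact congrArg Subtype.val this
      intro t ht
      exact ⟨⟨t, hTM ht⟩, hSle (hS ht), rfl⟩
    have h12 : O₂ ≤ O₁ := hSyl M₁ h₁ hc₁ O₂ (hO₂D.trans inf_le_left) hP₂
    have h21 : O₁ ≤ O₂ := hSyl M₂ h₂ hc₂ O₁ (hO₁D.trans inf_le_right) hP₁
    have heq : O₁ = O₂ := le_antisymm h21 h12
    refine hfin O₁ ?_ hO₁D hN₁ (heq ▸ hN₂)
    intro h
    exact hne' ⟨h, heq ▸ h⟩
  · -- odd primes
    have hst : ∀ M : Subgroup G, (∀ S : Sylow 2 ↥M, IsMulCommutative (S : Subgroup ↥M)) → StAll p ↥M := by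
      intro M hab K R _
      exact Cfsg.Agent.Lib.QdFree.stable_of_free hp2
        (Cfsg.Agent.Lib.QdFree.free_section (not_involves_of_abelian hp2 hab) K R)
    set D := M₁ ⊓ M₂ with hD
    obtain ⟨T⟩ : Nonempty (Sylow p ↥D) := inferInstance
    set S : Subgroup G := (T : Subgroup ↥D).map D.subtype with hS
    have hSp : IsPGroup p S := T.isPGroup'.map _
    have hSD : S ≤ D := Subgroup.map_subtype_le _
    have hOS : ∀ O : Subgroup G, O ≤ D → IsPGroup p O → D ≤ normalizer (O : Set G) → O ≤ S := by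
      intro O hOD hOp hDN
      have hn : (O.subgroupOf D).Normal := normal_subgroupOf_of_le_normalizer hDN
      have hp' : IsPGroup p (O.subgroupOf D) :=
        IsPGroup.of_injective hOp (Subgroup.subgroupOfEquivOfLe hOD).toMonoidHom
          (Subgroup.subgroupOfEquivOfLe hOD).injective
      have h1 : O.subgroupOf D ≤ (T : Subgroup ↥D) := (le_pCore hn hp').trans (pCore_le_sylow p T)
      intro x hx
      exact ⟨⟨x, hOD hx⟩, h1 hx, rfl⟩
    have hO₁S : O₁ ≤ S := hOS O₁ hO₁D hP₁ (inf_le_left.trans hN₁)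
    have hO₂S : O₂ ≤ S := hOS O₂ hO₂D hP₂ (inf_le_right.trans hN₂)
    obtain ⟨k₁, k₁'⟩ := key M₁ S hSp (hSD.trans inf_le_left) (hst M₁ h₁) hc₁ hO₁S
    obtain ⟨k₂, -⟩ := key M₂ S hSp (hSD.trans inf_le_right) (hst M₂ h₂) hc₂ hO₂S
    refine hfin _ ?_ (k₁'.trans hO₁D) k₁ k₂
    intro hb
    rw [Subgroup.map_eq_bot_iff_of_injective _ S.subtype_injective] at hb
    have hSne : S ≠ ⊥ := by
      intro h
      apply hne'
      rw [h] at hO₁S hO₂S
      exact ⟨le_bot_iff.mp hO₁S, le_bot_iff.mp hO₂S⟩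
    haveI : Nontrivial ↥S := (Subgroup.nontrivial_iff_ne_bot S).mpr hSne
    have hcen := center_le_kInfUpper hSp
    rw [hb, le_bot_iff] at hcen
    have hnt := hSp.center_nontrivial
    rw [hcen] at hnt
    exact not_subsingleton _ (inferInstance : Subsingleton ↥(⊥ : Subgroup ↥S)) |> fun h => h

end Cfsg.Agent.S3753
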