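import Mathlib
import Cfsg.Statements.S3770
import Cfsg.Agent.Lib.HHFrob
import Cfsg.Agent.Lib.FFBridge
import Cfsg.Agent.Lib.FrobeniusThm
import Cfsg.Agent.Lib.Kegel
-- import your own Cfsg.Agent.* helpers here

set_option autoImplicit false
set_option linter.style.haveILetI false
set_option linter.unusedVariables false
open Cfsg

namespace Cfsg.Agent.S3770

open scoped commutatorElement

/-- Let G and V be subgroups of a finite group with G a Frobenius group with complement R of prime order and kernel K, G normalizing V, and V an elementary abelian ℓ-group for a prime ℓ not dividing the order of G. If C_V(R) has order ℓ, then the derived subgroup of K centralizes V. -/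
theorem result {X : Type*} [Group X] [Finite X] (G : Subgroup X) (V : Subgroup X) {ℓ : ℕ} (hℓ : ℓ.Prime) (hV : Cfsg.IsElementaryAbelian ℓ V) (hℓG : ¬ ℓ ∣ Nat.card G) (hGV : G ≤ Subgroup.normalizer (V : Set X)) (R : Subgroup ↥G) (hR : Cfsg.IsFrobeniusComplement R) (hRp : (Nat.card R).Prime) (hCV : Nat.card ↥(V ⊓ Subgroup.centralizer ((R.map G.subtype : Subgroup X) : Set X)) = ℓ) : ⁅Subgroup.closure (Subtype.val '' Cfsg.frobeniusKernel R), Subgroup.closure (Subtype.val '' Cfsg.frobeniusKernel R)⁆ ≤ Subgroup.centralizer (V : Set X) := by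
  classical
  haveI : Fact ℓ.Prime := ⟨hℓ⟩
  obtain ⟨E, _, _, _, ρ₀, ι, hm⟩ := Cfsg.Agent.Lib.FFBridge.exists_model hV hGV
  obtain ⟨U, _, _, _, ρ, h1, h2, h3⟩ := Cfsg.Agent.Lib.HHFree.exists_closure_rep ρ₀
  -- elements acting trivially centralize `V`
  have hcent : ∀ g : G, ρ g = 1 → (g : X) ∈ Subgroup.centralizer (V : Set X) := by
    intro h hh
    have h3 := h1 h hh
    rw [Subgroup.mem_centralizer_iff]
    intro v hv
    obtain ⟨e, rfl⟩ := hm.exists_of_mem hv
    have h5 := hm.act h e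
    rw [h3] at h5
    have h6 : ι (Multiplicative.ofAdd e) = h * ι (Multiplicative.ofAdd e) * (h : X)⁻¹ := h5
    calc ι (Multiplicative.ofAdd e) * h = (h * ι (Multiplicative.ofAdd e) * (h : X)⁻¹) * h := by rw [← h6]
      _ = h * ι (Multiplicative.ofAdd e) := by group
  -- a generator
  set s : ℕ := Nat.card R with hs
  haveI : Fact s.Prime := ⟨hRp⟩
  haveI : IsCyclic R := isCyclic_of_prime_card rfl
  obtain ⟨⟨x, hxR⟩, hgen⟩ := IsCyclic.exists_generator (α := R)
  have hord : orderOf x = s := by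
    have := orderOf_eq_card_of_forall_mem_zpowers hgen
    rwa [Subgroup.orderOf_mk] at this
  have hRz : R = Subgroup.zpowers x := by
    apply le_antisymm
    · intro g hg
      obtain ⟨k, hk⟩ := hgen ⟨g, hg⟩
      refine ⟨k, ?_⟩
      exact congrArg Subtype.val hk
    · rw [Subgroup.zpowers_le]
      exact hxR
  have hxs : x ^ s = 1 := by rw [← hord]; exact pow_orderOf_eq_one x
  have hx1 : x ≠ 1 := by
    rintro rfl
    rw [orderOf_one] at hord
    exact hRp.one_lt.ne hord
  -- the kernel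
  obtain ⟨N, hNk, hNn, hNc⟩ := Cfsg.Agent.Lib.FrobeniusThm.exists_kernel_subgroup hR
  have hNR : ∀ k ∈ N, k ∈ R → k = 1 := by
    intro k hk hkR
    have := Subgroup.disjoint_def.1 hNc.disjoint hk hkR
    exact this
  have hfix : ∀ k ∈ N, x * k = k * x → k = 1 := by
    intro k hk hc
    apply hNR k hk
    refine Cfsg.Agent.Lib.Frobenius.mem_of_conj_mem hR hxR hx1 (g := k) ?_
    have e : k⁻¹ * x * k = x := by
      rw [mul_assoc, hc]
      group
    rw [e]
    exact hxR
  have hxN : ∀ k ∈ N, x * k * x⁻¹ ∈ N := fun k hk => hNn.conj_mem k hk x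
  have hxN' : ∀ k ∈ N, x⁻¹ * k * x ∈ N := fun k hk => by
    have := hNn.conj_mem k hk x⁻¹
    simpa using this
  -- `N` is nilpotent
  have hNnil : Group.IsNilpotent N := by
    let α : MulAut N := Cfsg.Agent.Lib.HHFree.conjAut N x hxN hxN'
    refine Cfsg.Agent.Lib.Kegel.nilpotent_of_fpf α ?_ hRp ?_
    · intro k hk
      apply Subtype.ext
      apply hfix k k.2
      have h4 : x * k * x⁻¹ = k := congrArg Subtype.val hk
      calc x * (k : G) = (x * k * x⁻¹) * x := by group
        _ = k * x := by rw [h4]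
    · ext k
      have := Cfsg.Agent.Lib.HHFree.conjAut_pow N x hxN hxN' s k
      rw [hxs] at this
      simpa using this
  -- the image group
  let T : Subgroup (Module.End (AlgebraicClosure (ZMod ℓ)) U)ˣ := N.map ρ
  have hmemT : ∀ t, t ∈ T ↔ ∃ k ∈ N, ρ k = t := fun t => Iff.rfl
  let π : N →* T := (ρ.comp N.subtype).codRestrict T (fun k => ⟨k, k.2, rfl⟩)
  have hπ : ∀ k : N, ((π k : T) : (Module.End (AlgebraicClosure (ZMod ℓ)) U)ˣ) = ρ k := fun k => rfl
  have hπs : Function.Surjective π := by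
    rintro ⟨t, k, hk, rfl⟩
    exact ⟨⟨k, hk⟩, rfl⟩
  haveI : Finite T := Finite.of_surjective π hπs
  have hTnil : Group.IsNilpotent T := Group.nilpotent_of_surjective π hπs
  have hK : ∀ {t : ℕ}, t ∣ Nat.card G → (t : AlgebraicClosure (ZMod ℓ)) ≠ 0 := by
    intro t ht h0
    rw [CharP.cast_eq_zero_iff (AlgebraicClosure (ZMod ℓ)) ℓ t] at h0
    exact hℓG (h0.trans ht)
  have hTcard : (Nat.card T : AlgebraicClosure (ZMod ℓ)) ≠ 0 := by
    apply hK
    exact (Subgroup.card_dvd_of_surjective π hπs).trans (Subgroup.card_subgroup_dvd_card N)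
  let y : (Module.End (AlgebraicClosure (ZMod ℓ)) U)ˣ := ρ x
  have hy : ∀ a ∈ T, y * a * y⁻¹ ∈ T := by
    rintro _ ⟨k, hk, rfl⟩
    refine ⟨x * k * x⁻¹, hxN k hk, ?_⟩
    rw [map_mul, map_mul, map_inv]
  have hy' : ∀ a ∈ T, y⁻¹ * a * y ∈ T := by
    rintro _ ⟨k, hk, rfl⟩
    refine ⟨x⁻¹ * k * x, hxN' k hk, ?_⟩
    rw [map_mul, map_mul, map_inv]
  have hys : y ^ s = 1 := by
    show (ρ x) ^ s = 1
    rw [← map_pow, hxs, map_one]
  have hTfpf : ∀ a ∈ T, y * a = a * y → a = 1 := by
    rintro _ ⟨k, hk, rfl⟩ hc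
    have hc' : x * k * x⁻¹ * k⁻¹ ∈ N ⊓ ρ.ker := by
      refine ⟨N.mul_mem (hxN k hk) (N.inv_mem hk), ?_⟩
      show x * k * x⁻¹ * k⁻¹ ∈ ρ.ker
      rw [MonoidHom.mem_ker, map_mul, map_mul, map_mul, map_inv, map_inv]
      show y * ρ k * y⁻¹ * (ρ k)⁻¹ = 1
      rw [hc]
      group
    have h4 := Cfsg.Agent.Lib.HHFrob.fpf_quot N (N ⊓ ρ.ker) inf_le_left x
      (fun n hn => ⟨hxN n hn.1, by
        have h5 : ρ n = 1 := hn.2
        show x * n * x⁻¹ ∈ ρ.ker
        rw [MonoidHom.mem_ker, map_mul, map_mul, map_inv, h5]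
        group⟩) hfix hk hc'
    exact h4.2
  -- the eigenspace of `x`
  have hdimE : Module.finrank (ZMod ℓ) (LinearMap.ker (ρ₀ x - 1)) ≤ 1 := by
    let f : LinearMap.ker (ρ₀ x - 1) → ↥(V ⊓ Subgroup.centralizer ((R.map G.subtype : Subgroup X) : Set X)) :=
      fun v => ⟨ι (Multiplicative.ofAdd (v : E)), hm.mem_V _, by
        have hv : ρ₀ x (v : E) = v := by
          have := v.2
          rw [LinearMap.mem_ker, LinearMap.sub_apply, sub_eq_zero] at this
          simpa using this
        have h3 := hm.act x (v : E)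
        rw [hv] at h3
        show ι (Multiplicative.ofAdd (v : E)) ∈ Subgroup.centralizer ((R.map G.subtype : Subgroup X) : Set X)
        rw [Subgroup.mem_centralizer_iff]
        rintro _ ⟨r, hr, rfl⟩
        rw [hRz] at hr
        obtain ⟨k, rfl⟩ := Subgroup.mem_zpowers_iff.1 hr
        have h5 : Commute (x : X) (ι (Multiplicative.ofAdd (v : E))) := by
          have h6 : ι (Multiplicative.ofAdd (v : E)) = x * ι (Multiplicative.ofAdd (v : E)) * (x : X)⁻¹ := h3
          show (x : X) * ι (Multiplicative.ofAdd (v : E)) = ι (Multiplicative.ofAdd (v : E)) * x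
          calc (x : X) * ι (Multiplicative.ofAdd (v : E)) =
              (x * ι (Multiplicative.ofAdd (v : E)) * (x : X)⁻¹) * x := by group
            _ = ι (Multiplicative.ofAdd (v : E)) * x := by rw [← h6]
        have h7 := h5.zpow_left k
        show ((x ^ k : G) : X) * ι (Multiplicative.ofAdd (v : E)) = ι (Multiplicative.ofAdd (v : E)) * ((x ^ k : G) : X)
        rw [Subgroup.coe_zpow]
        exact h7⟩
    have hf : Function.Injective f := by
      intro a b hab
      have h4 : ι (Multiplicative.ofAdd (a : E)) = ι (Multiplicative.ofAdd (b : E)) := congrArg Subtype.val hab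
      exact Subtype.ext (Multiplicative.ofAdd.injective (hm.inj h4))
    haveI : Finite (LinearMap.ker (ρ₀ x - 1)) := inferInstance
    have hcardle : Nat.card (LinearMap.ker (ρ₀ x - 1)) ≤ ℓ := by
      exact (Nat.card_le_card_of_injective f hf).trans hCV.le
    have hcardeq : Nat.card (LinearMap.ker (ρ₀ x - 1)) = ℓ ^ Module.finrank (ZMod ℓ) (LinearMap.ker (ρ₀ x - 1)) := by
      have := Module.natCard_eq_pow_finrank (K := ZMod ℓ) (V := LinearMap.ker (ρ₀ x - 1))
      rwa [Nat.card_zmod] at this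
    rw [hcardeq] at hcardle
    by_contra hcon
    have h4 : 2 ≤ Module.finrank (ZMod ℓ) (LinearMap.ker (ρ₀ x - 1)) := by omega
    have h5 : ℓ ^ 2 ≤ ℓ ^ Module.finrank (ZMod ℓ) (LinearMap.ker (ρ₀ x - 1)) :=
      Nat.pow_le_pow_right hℓ.pos h4
    have h6 := hℓ.two_le
    nlinarith
  have hdim : Module.finrank (AlgebraicClosure (ZMod ℓ))
      (LinearMap.ker ((y : Module.End (AlgebraicClosure (ZMod ℓ)) U) - 1)) ≤ 1 :=
    (h3 x).trans hdimE
  have hcore := Cfsg.Agent.Lib.HHFrob.frob_core T hTnil hTcard y hy hy' hRp hys hTfpf hdim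
  -- the conclusion
  have hcl : Subgroup.closure (Subtype.val '' Cfsg.frobeniusKernel R) = N.map G.subtype := by
    rw [← hNk]
    have h4 : (Subtype.val '' (N : Set G)) = ((N.map G.subtype : Subgroup X) : Set X) := rfl
    rw [h4, Subgroup.closure_eq]
  rw [hcl, Subgroup.commutator_le]
  rintro _ ⟨a, ha, rfl⟩ _ ⟨b, hb, rfl⟩
  have h4 := hcore (ρ a) ⟨a, ha, rfl⟩ (ρ b) ⟨b, hb, rfl⟩
  have h5 : ρ ⁅a, b⁆ = 1 := by
    rw [commutatorElement_def, map_mul, map_mul, map_mul, map_inv, map_inv, h4]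
    group
  exact hcent _ h5

end Cfsg.Agent.S3770
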