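import Mathlib
import Cfsg.Statements.S3782
import Cfsg.Agent.Lib.AlperinP
import Cfsg.Agent.Lib.PCore
import Cfsg.Agent.Lib.Frat
import Cfsg.Agent.Lib.BurnsideAut

set_option autoImplicit false
set_option linter.unusedSectionVars false
set_option linter.unusedVariables false
set_option linter.style.haveILetI false
open Cfsg

namespace Cfsg.Agent.S3782

open scoped commutatorElement
open Cfsg.Agent.Lib.Kegel Cfsg.Agent.Lib.LCSLie Cfsg.Agent.Lib.KKTensor Cfsg.Agent.Lib.AlperinFix Cfsg.Agent.Lib.AlperinP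

/-- A solvable group of order at most `D` has derived length at most `D`. -/
theorem derived_of_card {H : Type*} [Group H] [Finite H] [hs : Group.IsSolvable H] {D : ℕ} (hD : Nat.card H ≤ D) :
    derivedSeries H D = ⊥ := by
  have hstep : ∀ k, derivedSeries H k ≠ ⊥ → derivedSeries H (k + 1) ≠ derivedSeries H k := by
    intro k hk he
    obtain ⟨n, hn⟩ := (Group.isSolvable_def H).1 hs
    have h1 : ∀ m, derivedSeries H (k + m) = derivedSeries H k := by
      intro m
      induction m with
      | zero => rfl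
      | succ m ih =>
        rw [← add_assoc, derivedSeries_succ, ih, ← derivedSeries_succ, he]
    apply hk
    rw [← h1 n]
    exact le_bot_iff.1 ((derivedSeries_antitone H (Nat.le_add_left n k)).trans hn.le)
  have hle : ∀ k, derivedSeries H (k + 1) ≤ derivedSeries H k := fun k => derivedSeries_antitone H (Nat.le_succ k)
  have key : ∀ k, derivedSeries H k = ⊥ ∨ k + Nat.card (derivedSeries H k) ≤ Nat.card H := by
    intro k
    induction k with
    | zero => right; simp
    | succ k ih =>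
      rcases ih with ih | ih
      · left
        exact le_bot_iff.1 ((hle k).trans ih.le)
      · by_cases hk : derivedSeries H k = ⊥
        · left
          exact le_bot_iff.1 ((hle k).trans hk.le)
        · right
          have h1 : Nat.card (derivedSeries H (k + 1)) < Nat.card (derivedSeries H k) :=
            lt_of_not_ge fun h => hstep k hk (Subgroup.eq_of_le_of_card_ge (hle k) h)
          omega
  rcases key D with h | h
  · exact h
  · have := Nat.card_pos (α := derivedSeries H D)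
    omega

/-- Characteristic subgroups are invariant. -/
theorem char_mem' {X : Type*} [Group X] (H : Subgroup X) [h : H.Characteristic] (τ : MulAut X) {y : X} (hy : y ∈ H) :
    τ y ∈ H := by
  have h1 := h.fixed (MulEquiv.symm τ)
  have h3 : τ y ∈ H.comap (MulEquiv.symm τ).toMonoidHom := by
    show (MulEquiv.symm τ) (τ y) ∈ H
    simpa using hy
  rwa [h1] at h3

section Bound

variable {Q : Type*} [Group Q] [Finite Q] {p : ℕ} [hp : Fact p.Prime]

/-- The order of the quotient by `O_p` is bounded. -/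
theorem card_quotient_pCore [Group.IsSolvable Q] (hQ : pPrimeCore p Q = ⊥) (α : MulAut Q) (hα : α ^ p = 1) (n : ℕ)
    (hfix : Nat.card (Fx α) ≤ p ^ n) :
    Nat.card (Q ⧸ pCore p Q) ≤ (p ^ (1 * (p * n))).factorial := by
  classical
  set R : Subgroup Q := pCore p Q with hR
  have hRP : IsPGroup p R := Cfsg.Agent.Lib.PCore.isPGroup_pCore p
  set W : Subgroup R := frattini R with hW
  have hWinv : ∀ τ : MulAut R, ∀ y ∈ W, τ y ∈ W := fun τ y hy => char_mem' W τ hy
  -- the size of the Frattini quotient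
  have hRinv : ∀ x ∈ R, α x ∈ R := fun x hx => char_mem' R α hx
  set β : MulAut R := restr α R hRinv with hβ
  have hβp : β ^ p = 1 := by
    ext x
    rw [hβ, coe_restr_pow, hα]
    rfl
  set γ : MulAut (R ⧸ W) := quot β W (hWinv β) with hγ
  have hγp : γ ^ p = 1 := by
    ext x
    obtain ⟨y, rfl⟩ := QuotientGroup.mk_surjective x
    rw [hγ, quot_pow_mk, hβp]
    rfl
  have hγfix : Nat.card (Fx γ) ≤ p ^ n :=
    (card_Fx_quot_le hRP β W (hWinv β)).trans ((card_Fx_restr_le α R hRinv).trans hfix)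
  have hcomm : ∀ a b : R ⧸ W, a * b = b * a := by
    intro a b
    obtain ⟨a, rfl⟩ := QuotientGroup.mk_surjective a
    obtain ⟨b, rfl⟩ := QuotientGroup.mk_surjective b
    rw [← QuotientGroup.mk_mul, ← QuotientGroup.mk_mul, QuotientGroup.eq]
    have h1 : ⁅b⁻¹, a⁻¹⁆ ∈ commutator R := Subgroup.commutator_mem_commutator (Subgroup.mem_top _) (Subgroup.mem_top _)
    have h2 := Cfsg.Agent.Lib.Frat.commutator_le_frattini hRP h1
    have e : (a * b)⁻¹ * (b * a) = ⁅b⁻¹, a⁻¹⁆ := by
      simp [commutatorElement_def, mul_assoc]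
    rw [e]
    exact h2
  have hcardV : Nat.card (R ⧸ W) ≤ p ^ (1 * (p * n)) := by
    refine card_le_of_fix hcomm (hRP.to_quotient W) γ hγp n 1 hγfix ?_
    intro a
    obtain ⟨a, rfl⟩ := QuotientGroup.mk_surjective a
    rw [pow_one, ← QuotientGroup.mk_pow, QuotientGroup.eq_one_iff]
    exact Cfsg.Agent.Lib.Frat.pow_mem_frattini hRP a
  -- the action on the Frattini quotient
  let c : Q →* MulAut R := MulAut.conjNormal
  let Ψ : Q →* MulAut (R ⧸ W) := MonoidHom.mk' (fun x => quot (c x) W (hWinv (c x))) (by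
    intro x y
    ext v
    obtain ⟨u, rfl⟩ := QuotientGroup.mk_surjective v
    rw [MulAut.mul_apply, quot_mk, quot_mk, quot_mk, map_mul, MulAut.mul_apply])
  have hKP : IsPGroup p Ψ.ker := by
    refine IsPGroup.iff_card.2 ?_
    refine ⟨_, Nat.eq_prime_pow_of_unique_prime_dvd (Nat.card_pos.ne') ?_⟩
    intro r hr hrd
    by_contra hrp
    haveI : Fact r.Prime := ⟨hr⟩
    obtain ⟨y, hy⟩ := exists_prime_orderOf_dvd_card' r hrd
    have hyo : orderOf (y : Q) = r := by
      rw [← hy]
      exact Subgroup.orderOf_coe y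
    have hΨ : Ψ y = 1 := y.2
    set τ : MulAut R := c y with hτ
    have hτr : τ ^ r = 1 := by
      rw [hτ, ← map_pow, ← hyo, pow_orderOf_eq_one, map_one]
    have hτ1 : τ = 1 := by
      refine Cfsg.Agent.Lib.BurnsideAut.aut_eq_one_of_trivial_on_frattini hRP hr hrp τ hτr ?_
      intro q
      have h1 : Ψ y (q : R ⧸ W) = (q : R ⧸ W) := by rw [hΨ]; rfl
      have h2 : ((τ q : R) : R ⧸ W) = (q : R ⧸ W) := h1
      rw [← QuotientGroup.eq_one_iff, QuotientGroup.mk_mul, h2, QuotientGroup.mk_inv, mul_inv_cancel]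
    have hyc : (y : Q) ∈ Subgroup.centralizer (R : Set Q) := by
      rw [Subgroup.mem_centralizer_iff]
      intro q hq
      have h1 : τ ⟨q, hq⟩ = ⟨q, hq⟩ := by rw [hτ1]; rfl
      have h2 : (y : Q) * q * (y : Q)⁻¹ = q := congrArg Subtype.val h1
      calc q * (y : Q) = ((y : Q) * q * (y : Q)⁻¹) * (y : Q) := by rw [h2]
        _ = (y : Q) * q := by group
    have hyR : (y : Q) ∈ R := Cfsg.Agent.Lib.PCore.centralizer_pCore_le p hQ hyc
    obtain ⟨k, hk⟩ := (IsPGroup.iff_orderOf).1 hRP ⟨y, hyR⟩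
    have h3 : orderOf (y : Q) = p ^ k := by
      rw [← hk]
      exact (Subgroup.orderOf_mk (y : Q) hyR).symm
    rw [hyo] at h3
    exact hrp ((Nat.prime_dvd_prime_iff_eq hr hp.out).1 (hr.dvd_of_dvd_pow (dvd_of_eq h3)))
  have hKR : Ψ.ker ≤ R := Cfsg.Agent.Lib.PCore.le_pCore (MonoidHom.normal_ker Ψ) hKP
  have h1 : R.index ≤ Ψ.ker.index := Nat.le_of_dvd (Nat.pos_of_ne_zero Subgroup.index_ne_zero_of_finite)
    (Subgroup.index_dvd_of_le hKR)
  have h2 : Ψ.ker.index = Nat.card Ψ.range := Subgroup.index_ker Ψ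
  have h3 : Nat.card Ψ.range ≤ Nat.card (MulAut (R ⧸ W)) := Subgroup.card_le_card_group _
  have h4 : Nat.card (MulAut (R ⧸ W)) ≤ Nat.card (Equiv.Perm (R ⧸ W)) :=
    Nat.card_le_card_of_injective (fun a => MulEquiv.toEquiv a) (fun a b hab => MulEquiv.toEquiv_injective hab)
  have h5 : Nat.card (Equiv.Perm (R ⧸ W)) = (Nat.card (R ⧸ W)).factorial := Nat.card_perm
  calc Nat.card (Q ⧸ R) = R.index := rfl
    _ ≤ Ψ.ker.index := h1
    _ = Nat.card Ψ.range := h2
    _ ≤ Nat.card (MulAut (R ⧸ W)) := h3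
    _ ≤ Nat.card (Equiv.Perm (R ⧸ W)) := h4
    _ = (Nat.card (R ⧸ W)).factorial := h5
    _ ≤ _ := Nat.factorial_le hcardV

end Bound

/-- Alperin's Theorem: for each prime p and each n ≥ 0 there is an integer l such that every finite solvable group admitting an automorphism of order p with exactly p^n fixed points has derived length at most l. -/
theorem result (p : ℕ) (hp : p.Prime) (n : ℕ) : ∃ l : ℕ, ∀ (G : Type) [Group G] [Finite G], Group.IsSolvable G → ∀ α : MulAut G, orderOf α = p → Nat.card {g : G // α g = g} = p ^ n → derivedSeries G l = ⊥ := by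
  haveI : Fact p.Prime := ⟨hp⟩
  obtain ⟨d, hd⟩ := alperin_pgroup p n
  set D := (p ^ (1 * (p * n))).factorial with hD
  refine ⟨D + d + hk p, ?_⟩
  intro G _ _ hsol α hα hfix
  have hαp : α ^ p = 1 := by rw [← hα]; exact pow_orderOf_eq_one α
  have hfixG : Nat.card (Fx α) = p ^ n := hfix
  -- the `p'`-core
  set N : Subgroup G := pPrimeCore p G with hN
  have hNinv : ∀ x ∈ N, α x ∈ N := fun x hx => char_mem' N α hx
  set α₁ : MulAut N := restr α N hNinv with hα₁
  have hα₁p : α₁ ^ p = 1 := by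
    ext x
    rw [hα₁, coe_restr_pow, hαp]
    rfl
  have hNcop : (Nat.card N).Coprime p := Cfsg.Agent.Lib.PCore.card_pPrimeCore_coprime p
  have hα₁fpf : ∀ g : N, α₁ g = g → g = 1 := by
    intro g hg
    have h1 : α (g : G) = g := congrArg Subtype.val hg
    have h2 : (g : G) ∈ Fx α := h1
    have h3 : (⟨g, h2⟩ : Fx α) ^ Nat.card (Fx α) = 1 := pow_card_eq_one'
    have h4 : (g : G) ^ p ^ n = 1 := by
      rw [hfixG] at h3
      exact congrArg Subtype.val h3
    have h5 : g ^ p ^ n = 1 := Subtype.ext h4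
    have h6 : g ^ Nat.card N = 1 := pow_card_eq_one'
    have h7 : Nat.Coprime (p ^ n) (Nat.card N) := Nat.Coprime.pow_left n hNcop.symm
    have h8 := orderOf_dvd_of_pow_eq_one h5
    have h9 := orderOf_dvd_of_pow_eq_one h6
    have h10 : orderOf g = 1 := Nat.eq_one_of_dvd_coprimes h7 h8 h9
    exact orderOf_eq_one_iff.1 h10
  haveI hNnil : Group.IsNilpotent N := nilpotent_of_fpf α₁ hα₁fpf hp hα₁p
  have hNlc : Gam N (hk p) = ⊥ := by
    obtain ⟨h1, h2, p', h3⟩ := Cfsg.Agent.S3779.lie_hyps hp α₁ hα₁p hα₁fpf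
    exact Cfsg.Agent.S3779.gam_eq_bot_of_lcs _ (lcs_hkk (mapL (α₁ : N →* N)) (mapL_lie _) h1 h2 p' h3)
  have hNder : derivedSeries N (hk p) = ⊥ := le_bot_iff.1 ((derived_le_gam _).trans hNlc.le)
  -- the quotient
  set Q := G ⧸ N with hQ
  set ā : MulAut Q := quot α N hNinv with hā
  have hāp : ā ^ p = 1 := by
    ext x
    obtain ⟨y, rfl⟩ := QuotientGroup.mk_surjective x
    rw [hā, quot_pow_mk, hαp]
    rfl
  have hāfix : Nat.card (Fx ā) ≤ p ^ n := by
    rw [← hfixG]
    exact card_Fx_quot_coprime α hαp N hNinv hNcop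
  have hQcore : pPrimeCore p Q = ⊥ := Cfsg.Agent.Lib.PCore.pPrimeCore_quotient_pPrimeCore p
  haveI : Group.IsSolvable Q := inferInstance
  set R : Subgroup Q := pCore p Q with hR
  have hRinv : ∀ x ∈ R, ā x ∈ R := fun x hx => char_mem' R ā hx
  have hRP : IsPGroup p R := Cfsg.Agent.Lib.PCore.isPGroup_pCore p
  have hRder : derivedSeries R d = ⊥ := by
    refine hd R hRP (restr ā R hRinv) ?_ ((card_Fx_restr_le ā R hRinv).trans hāfix)
    ext x
    rw [coe_restr_pow, hāp]
    rfl
  have hcardQ := card_quotient_pCore hQcore ā hāp n hāfix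
  have hQR : derivedSeries (Q ⧸ R) D = ⊥ := derived_of_card hcardQ
  have hQD : derivedSeries Q D ≤ R := by
    have h1 := map_derivedSeries_eq (QuotientGroup.mk'_surjective R) D
    rw [hQR] at h1
    have h2 := (Subgroup.map_eq_bot_iff _).1 h1
    rwa [QuotientGroup.ker_mk'] at h2
  have hQD' : derivedSeries Q (D + d) = ⊥ := by
    have h1 := derived_add_le hQD d
    rw [hRder, Subgroup.map_bot] at h1
    exact le_bot_iff.1 h1
  have hGD : derivedSeries G (D + d) ≤ N := by
    have h1 := map_derivedSeries_eq (QuotientGroup.mk'_surjective N) (D + d)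
    rw [hQD'] at h1
    have h2 := (Subgroup.map_eq_bot_iff _).1 h1
    rwa [QuotientGroup.ker_mk'] at h2
  have h1 := derived_add_le hGD (hk p)
  rw [hNder, Subgroup.map_bot] at h1
  exact le_bot_iff.1 h1

end Cfsg.Agent.S3782
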