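import Mathlib
import Cfsg.Statements.S3783
import Cfsg.Agent.Lib.FrattAct
import Cfsg.Agent.Lib.PLengthSeries

set_option autoImplicit false
set_option linter.unusedSectionVars false
set_option linter.unusedVariables false
set_option linter.style.haveILetI false
open Cfsg

namespace Cfsg.Agent.S3783

open Cfsg.Agent.Lib.Kegel Cfsg.Agent.Lib.PCore Cfsg.Agent.Lib.PSolv Cfsg.Agent.Lib.FrattAct
open Cfsg.Agent.Lib.PLengthSeries

universe u

theorem pow_conj_formula {G : Type*} [Group G] (x u : G) (k : ℕ) :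
    (u * x) ^ k = nm (MulAut.conj x) k u * x ^ k := by
  induction k with
  | zero => simp [nm_zero]
  | succ k ih =>
    rw [pow_succ, ih, nm_succ, ← map_pow, MulAut.conj_apply, pow_succ]
    group

theorem coe_nm_conjNormal {G : Type*} [Group G] (R : Subgroup G) [R.Normal] (x : G) (k : ℕ) (u : R) :
    ((nm (MulAut.conjNormal x) k u : R) : G) = nm (MulAut.conj x) k (u : G) := by
  induction k with
  | zero => rfl
  | succ k ih =>
    rw [nm_succ, nm_succ, Subgroup.coe_mul, ih, ← map_pow, ← map_pow, MulAut.conjNormal_apply]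
    rfl

theorem nm_psi_eq_one {G : Type*} [Group G] [Finite G] {p : ℕ} [hp : Fact p.Prime] {n : ℕ}
    (hexp : ∀ (P : Sylow p G), ∀ x ∈ (P : Subgroup G), x ^ p ^ n = 1) (x : G)
    (hx : IsPGroup p (Subgroup.zpowers x)) (v : pCore p G ⧸ frattini (pCore p G)) :
    nm (psi p G x) (p ^ n) v = 1 := by
  obtain ⟨u, rfl⟩ := QuotientGroup.mk_surjective v
  have hsup : IsPGroup p ↥(pCore p G ⊔ Subgroup.zpowers x) :=
    IsPGroup.to_sup_of_normal_left (isPGroup_pCore p) hx
  obtain ⟨P, hP⟩ := hsup.exists_le_sylow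
  have hxP : x ∈ (P : Subgroup G) := hP (Subgroup.mem_sup_right (Subgroup.mem_zpowers x))
  have huP : (u : G) ∈ (P : Subgroup G) := hP (Subgroup.mem_sup_left u.2)
  have h1 := hexp P _ (Subgroup.mul_mem _ huP hxP)
  rw [pow_conj_formula, hexp P x hxP, mul_one] at h1
  have h2 : nm (MulAut.conjNormal x) (p ^ n) u = 1 := by
    apply Subtype.ext
    rw [coe_nm_conjNormal, h1]
    rfl
  have h3 : nm (psi p G x) (p ^ n) (u : pCore p G ⧸ frattini (pCore p G)) =
      ((nm (MulAut.conjNormal x) (p ^ n) u : pCore p G) : pCore p G ⧸ frattini (pCore p G)) :=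
    nm_quot_mk (MulAut.conjNormal x) (frattini (pCore p G)) (fun _ hy => char_mem _ _ hy) _ _
  rw [h3, h2]
  rfl

theorem crux {G : Type u} [Group G] [Finite G] {p : ℕ} [hp : Fact p.Prime] (hsol : IsPSolvable p G)
    (hcore : pPrimeCore p G = ⊥)
    (hab : ∀ (q : ℕ) [Fact q.Prime], q ≠ p → ∀ Q : Sylow q G, IsMulCommutative (Q : Subgroup G)) {n : ℕ}
    (hexp : ∀ (P : Sylow p G), ∀ x ∈ (P : Subgroup G), x ^ p ^ (n + 1) = 1) (P : Sylow p G) (x : G)
    (hx : x ∈ (P : Subgroup G)) : x ^ p ^ n ∈ pCore p G := by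
  have hxP : IsPGroup p (Subgroup.zpowers x) :=
    P.isPGroup'.to_le (Subgroup.zpowers_le.2 hx)
  have hx1 : x ^ p ^ (n + 1) = 1 := hexp P x hx
  set R := pCore p G with hR
  let H := G ⧸ R
  let π : G →* H := QuotientGroup.mk' R
  have hπ : Function.Surjective π := QuotientGroup.mk'_surjective R
  set Q := pPrimeCore p H with hQ
  let xb : H := π x
  let β : MulAut Q := MulAut.conjNormal xb
  have hxb : xb ^ p ^ (n + 1) = 1 := by
    show π x ^ p ^ (n + 1) = 1
    rw [← map_pow, hx1, map_one]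
  have hβ : β ^ p ^ (n + 1) = 1 := by
    show (MulAut.conjNormal xb) ^ p ^ (n + 1) = 1
    rw [← map_pow, hxb, map_one]
  have hβapp : ∀ (i : ℕ) (y : Q), (((β ^ i) y : Q) : H) = xb ^ i * (y : H) * (xb ^ i)⁻¹ := by
    intro i y
    show (((MulAut.conjNormal xb) ^ i) y : Q).1 = _
    rw [← map_pow, MulAut.conjNormal_apply]
  -- the fixed subgroup of `β ^ p ^ n`
  let F : Subgroup Q :=
    { carrier := {y | (β ^ p ^ n) y = y}
      one_mem' := map_one _
      mul_mem' := by
        intro a b ha hb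
        simp only [Set.mem_ofPred_eq] at ha hb ⊢
        rw [map_mul, ha, hb]
      inv_mem' := by
        intro a ha
        simp only [Set.mem_ofPred_eq] at ha ⊢
        rw [map_inv, ha] }
  have hQcop : (Nat.card Q).Coprime p := card_pPrimeCore_coprime p
  have hF : F = ⊤ := by
    refine eq_top_of_forall_sylow_le F ?_
    intro r _
    by_cases hrp : r = p
    · subst hrp
      obtain ⟨S⟩ : Nonempty (Sylow r Q) := inferInstance
      refine ⟨S, ?_⟩
      have h1 : (S : Subgroup Q) = ⊥ := by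
        obtain ⟨e, he⟩ := IsPGroup.iff_card.1 S.isPGroup'
        have h2 : Nat.card S ∣ Nat.card Q := Subgroup.card_subgroup_dvd_card _
        rcases Nat.eq_zero_or_pos e with h0 | h0
        · rw [h0, pow_zero] at he
          exact Subgroup.card_eq_one.mp he
        · exfalso
          have h3 : r ∣ Nat.card S := by
            rw [he]
            exact dvd_pow_self r h0.ne'
          have h4 : r ∣ Nat.gcd (Nat.card Q) r := Nat.dvd_gcd (h3.trans h2) dvd_rfl
          rw [hQcop] at h4
          exact hp.out.one_lt.ne' (Nat.dvd_one.1 h4)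
      rw [h1]
      exact bot_le
    · obtain ⟨S, hS⟩ := exists_fixed_sylow hQcop β hβ r
      refine ⟨S, ?_⟩
      -- `S` is commutative
      have hScomm : ∀ a b : (S : Subgroup Q), a * b = b * a := by
        have h1 : IsPGroup r ((S : Subgroup Q).map Q.subtype) := S.isPGroup'.map Q.subtype
        obtain ⟨T, hT⟩ := h1.exists_le_sylow
        obtain ⟨T', rfl⟩ := Sylow.mapSurjective_surjective hπ r T
        have hc := hab r hrp T'
        intro a b
        have ha : ((a : Q) : H) ∈ (T'.mapSurjective hπ : Subgroup H) :=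
          hT ⟨(a : Q), a.2, rfl⟩
        have hb : ((b : Q) : H) ∈ (T'.mapSurjective hπ : Subgroup H) :=
          hT ⟨(b : Q), b.2, rfl⟩
        rw [Sylow.coe_mapSurjective] at ha hb
        obtain ⟨a', ha', hae⟩ := ha
        obtain ⟨b', hb', hbe⟩ := hb
        have h2 : a' * b' = b' * a' := by
          have h3 := hc.is_comm.comm (⟨a', ha'⟩ : (T' : Subgroup G)) ⟨b', hb'⟩
          exact congrArg Subtype.val h3
        apply Subtype.ext
        apply Subtype.ext
        show ((a : Q) : H) * ((b : Q) : H) = ((b : Q) : H) * ((a : Q) : H)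
        rw [← hae, ← hbe, ← map_mul, ← map_mul, h2]
      have hSmem : ∀ y ∈ (S : Subgroup Q), β y ∈ (S : Subgroup Q) := by
        intro y hy
        have h1 : β y ∈ (S : Subgroup Q).map (β : Q →* Q) := ⟨y, hy, rfl⟩
        rwa [hS] at h1
      let σ : MulAut (S : Subgroup Q) := restr β (S : Subgroup Q) hSmem
      have hσpow : ∀ (i : ℕ) (s : (S : Subgroup Q)), (((σ ^ i) s : (S : Subgroup Q)) : Q) = (β ^ i) (s : Q) :=
        fun i s => coe_restr_pow β (S : Subgroup Q) hSmem i s
      let ρ : (S : Subgroup Q) →* MulAut (pCore p G ⧸ frattini (pCore p G)) :=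
        (psiBar (p := p) (G := G)).comp (Q.subtype.comp (S : Subgroup Q).subtype)
      have hρ : Function.Injective ρ := by
        refine (psiBar_injective hsol hcore).comp ?_
        exact (Subtype.val_injective).comp Subtype.val_injective
      have hScard : Nat.Coprime (Nat.card (S : Subgroup Q)) p :=
        Nat.Coprime.coprime_dvd_left (Subgroup.card_subgroup_dvd_card _) hQcop
      have hσ1 : σ ^ p ^ (n + 1) = 1 := by
        ext s
        rw [hσpow, hβ]
        rfl
      have hT : ∀ s, psi p G x * ρ s = ρ (σ s) * psi p G x := by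
        intro s
        have h1 : ((σ s : (S : Subgroup Q)) : Q) = β (s : Q) := rfl
        have h2 : (((σ s : (S : Subgroup Q)) : Q) : H) = xb * (((s : Q)) : H) * xb⁻¹ := by
          rw [h1]
          rfl
        show psi p G x * psiBar (((s : Q)) : H) = psiBar (((σ s : (S : Subgroup Q)) : Q) : H) * psi p G x
        rw [h2, map_mul, map_mul, map_inv]
        have h3 : psiBar (p := p) (G := G) xb = psi p G x := rfl
        rw [h3]
        group
      have hres := dedekind_mul (V_comm (p := p) (G := G)) (V_exp (p := p) (G := G)) hScomm hScard ρ hρ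
        (psi p G x) σ hT hp.out (Nat.le_add_left 1 n) hσ1 (nm_psi_eq_one hexp x hxP)
      rw [Nat.add_sub_cancel] at hres
      intro y hy
      show (β ^ p ^ n) y = y
      have h1 := hσpow (p ^ n) ⟨y, hy⟩
      rw [hres] at h1
      exact h1.symm
  have hcent : xb ^ p ^ n ∈ Subgroup.centralizer (Q : Set H) := by
    rw [Subgroup.mem_centralizer_iff]
    intro y hy
    have h1 : (⟨y, hy⟩ : Q) ∈ F := by
      rw [hF]
      exact Subgroup.mem_top _
    have h2 : (β ^ p ^ n) ⟨y, hy⟩ = ⟨y, hy⟩ := h1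
    have h3 := hβapp (p ^ n) ⟨y, hy⟩
    rw [h2] at h3
    have h4 : y = xb ^ p ^ n * y * (xb ^ p ^ n)⁻¹ := h3
    calc y * xb ^ p ^ n = (xb ^ p ^ n * y * (xb ^ p ^ n)⁻¹) * xb ^ p ^ n := by rw [← h4]
      _ = xb ^ p ^ n * y := by group
  have hinQ : xb ^ p ^ n ∈ Q :=
    centralizer_pPrimeCore_le (isPSolvable_quotient hsol R) (pCore_quotient_pCore p) hcent
  have hone : xb ^ p ^ n = 1 := by
    have h1 : (xb ^ p ^ n) ^ p ^ (n + 1) = 1 := by
      rw [← pow_mul, mul_comm, pow_mul, hxb, one_pow]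
    have h2 : (⟨_, hinQ⟩ : Q) ^ p ^ (n + 1) = 1 := Subtype.ext h1
    have h3 : orderOf (⟨_, hinQ⟩ : Q) ∣ p ^ (n + 1) := orderOf_dvd_of_pow_eq_one h2
    have h4 : orderOf (⟨_, hinQ⟩ : Q) ∣ Nat.card Q := orderOf_dvd_natCard _
    have h5 : orderOf (⟨_, hinQ⟩ : Q) = 1 :=
      Nat.eq_one_of_dvd_coprimes (hQcop.pow_right (n + 1)) h4 h3
    have h6 := orderOf_eq_one_iff.1 h5
    exact congrArg Subtype.val h6
  have h7 : π (x ^ p ^ n) = 1 := by
    rw [map_pow]
    exact hone
  exact (QuotientGroup.eq_one_iff _).1 h7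

theorem main (p : ℕ) [hp : Fact p.Prime] (n : ℕ) : ∀ (G : Type u) [Group G] [Finite G], IsPSolvable p G →
    (∀ (q : ℕ) [Fact q.Prime], q ≠ p → ∀ Q : Sylow q G, IsMulCommutative (Q : Subgroup G)) →
    (∀ (P : Sylow p G), ∀ x ∈ (P : Subgroup G), x ^ p ^ n = 1) → PLengthLE p n G := by
  induction n with
  | zero =>
    intro G _ _ hsol hab hexp
    refine pLengthLE_zero_of_coprime p ?_
    rw [Nat.coprime_comm, hp.out.coprime_iff_not_dvd]
    intro hd
    obtain ⟨y, hy⟩ := exists_prime_orderOf_dvd_card' p hd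
    have h1 : IsPGroup p (Subgroup.zpowers y) := by
      refine IsPGroup.iff_card.2 ⟨1, ?_⟩
      rw [Nat.card_zpowers, hy, pow_one]
    obtain ⟨P, hP⟩ := h1.exists_le_sylow
    have h2 := hexp P y (hP (Subgroup.mem_zpowers y))
    rw [pow_zero, pow_one] at h2
    rw [h2, orderOf_one] at hy
    exact hp.out.one_lt.ne hy
  | succ n ih =>
    intro G _ _ hsol hab hexp
    -- pass to `G / O_{p'}(G)`
    have hquot : ∀ {X Y : Type u} [Group X] [Group Y] [Finite X] [Finite Y] (f : X →* Y) (hf : Function.Surjective f) (m : ℕ),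
        ((∀ (q : ℕ) [Fact q.Prime], q ≠ p → ∀ Q : Sylow q X, IsMulCommutative (Q : Subgroup X)) →
          (∀ (q : ℕ) [Fact q.Prime], q ≠ p → ∀ Q : Sylow q Y, IsMulCommutative (Q : Subgroup Y))) := by
      intro X Y _ _ _ _ f hf m habX q _ hq Q
      obtain ⟨Q', rfl⟩ := Sylow.mapSurjective_surjective hf q Q
      have hc := habX q hq Q'
      refine ⟨⟨?_⟩⟩
      rintro ⟨a, ha⟩ ⟨b, hb⟩
      rw [Sylow.coe_mapSurjective] at ha hb
      obtain ⟨a', ha', rfl⟩ := ha
      obtain ⟨b', hb', rfl⟩ := hb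
      have h3 := hc.is_comm.comm (⟨a', ha'⟩ : (Q' : Subgroup X)) ⟨b', hb'⟩
      have h4 : a' * b' = b' * a' := congrArg Subtype.val h3
      apply Subtype.ext
      show f a' * f b' = f b' * f a'
      rw [← map_mul, ← map_mul, h4]
    have hexpq : ∀ {X Y : Type u} [Group X] [Group Y] [Finite X] [Finite Y] (f : X →* Y) (hf : Function.Surjective f) (m : ℕ),
        (∀ (P : Sylow p X), ∀ x ∈ (P : Subgroup X), f x ^ m = 1) →
          (∀ (P : Sylow p Y), ∀ x ∈ (P : Subgroup Y), x ^ m = 1) := by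
      intro X Y _ _ _ _ f hf m h P x hx
      obtain ⟨P', rfl⟩ := Sylow.mapSurjective_surjective hf p P
      rw [Sylow.coe_mapSurjective] at hx
      obtain ⟨x', hx', rfl⟩ := hx
      exact h P' x' hx'
    let N := pPrimeCore p G
    let G₁ := G ⧸ N
    let π₁ : G →* G₁ := QuotientGroup.mk' N
    have hπ₁ : Function.Surjective π₁ := QuotientGroup.mk'_surjective N
    have hker : Nat.Coprime (Nat.card π₁.ker) p := by
      have : π₁.ker = N := QuotientGroup.ker_mk' N
      rw [this]
      exact card_pPrimeCore_coprime p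
    refine pLengthLE_of_ker_coprime p π₁ hπ₁ hker ?_
    have hsol₁ : IsPSolvable p G₁ := isPSolvable_quotient hsol N
    have hcore₁ : pPrimeCore p G₁ = ⊥ := pPrimeCore_quotient_pPrimeCore p
    have hab₁ := hquot π₁ hπ₁ 0 hab
    have hexp₁ : ∀ (P : Sylow p G₁), ∀ x ∈ (P : Subgroup G₁), x ^ p ^ (n + 1) = 1 := by
      refine hexpq π₁ hπ₁ _ ?_
      intro P x hx
      rw [← map_pow, hexp P x hx, map_one]
    let R := pCore p G₁
    let Y := G₁ ⧸ R
    let π₂ : G₁ →* Y := QuotientGroup.mk' R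
    have hπ₂ : Function.Surjective π₂ := QuotientGroup.mk'_surjective R
    have hker₂ : PLengthLE p 1 π₂.ker := by
      refine pLengthLE_one_of_isPGroup p ?_
      have : π₂.ker = R := QuotientGroup.ker_mk' R
      rw [this]
      exact isPGroup_pCore p
    have hY : PLengthLE p n Y := by
      refine ih Y (isPSolvable_quotient hsol₁ R) (hquot π₂ hπ₂ 0 hab₁) ?_
      refine hexpq π₂ hπ₂ _ ?_
      intro P x hx
      rw [← map_pow]
      exact (QuotientGroup.eq_one_iff _).2 (crux hsol₁ hcore₁ hab₁ hexp₁ P x hx)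
    have := pLengthLE_of_ker 1 n p G₁ Y π₂ hπ₂ hker₂ hY
    rwa [add_comm] at this

/-- Let G be a finite p-soluble group in which, for every prime q ≠ p, the Sylow q-subgroups are abelian. If the Sylow p-subgroups of G have exponent dividing p^n, then G has p-length at most n. -/
theorem result {G : Type*} [Group G] [Finite G] {p : ℕ} [Fact p.Prime] (hG : Cfsg.IsPSolvable p G) (hab : ∀ (q : ℕ) [Fact q.Prime], q ≠ p → ∀ Q : Sylow q G, IsMulCommutative (Q : Subgroup G)) (n : ℕ) (hexp : ∀ (P : Sylow p G), ∀ x ∈ (P : Subgroup G), x ^ p ^ n = 1) : Cfsg.PLengthLE p n G :=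
  main p n G hG hab hexp

end Cfsg.Agent.S3783
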