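import Mathlib
import Cfsg.Statements.S3786
import Cfsg.Agent.Lib.HHE6
import Cfsg.Agent.Lib.HHWr
import Cfsg.Agent.S3783
import Cfsg.Agent.Lib.PLengthSeries

set_option autoImplicit false
set_option linter.unusedSectionVars false
set_option linter.unusedVariables false
set_option linter.style.haveILetI false
open Cfsg

namespace Cfsg.Agent.S3786

open Cfsg.Agent.Lib.Kegel Cfsg.Agent.Lib.PCore Cfsg.Agent.Lib.PSolv Cfsg.Agent.Lib.FrattAct
open Cfsg.Agent.Lib.PLengthSeries Cfsg.Agent.Lib.HHE6 Cfsg.Agent.S3783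

universe u

theorem top_comm {G : Type*} [Group G] [Finite G] {p N : ℕ} [hp : Fact p.Prime] (hpN : p = 2 ^ N + 1) (hN : 1 ≤ N)
    (hsol : IsPSolvable p G) (hcore : pPrimeCore p G = ⊥) {e : ℕ}
    (hexp : ∀ (P : Sylow p G), ∀ x ∈ (P : Subgroup G), x ^ p ^ (e + 1) = 1)
    (S : Sylow p (G ⧸ pCore p G)) {y₁ y₂ : G ⧸ pCore p G} (hy₁ : y₁ ∈ (S : Subgroup (G ⧸ pCore p G)))
    (hy₂ : y₂ ∈ (S : Subgroup (G ⧸ pCore p G))) : y₁ ^ p ^ e * y₂ ^ p ^ e = y₂ ^ p ^ e * y₁ ^ p ^ e := by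
  let π : G →* G ⧸ pCore p G := QuotientGroup.mk' (pCore p G)
  have hπ : Function.Surjective π := QuotientGroup.mk'_surjective _
  obtain ⟨P, rfl⟩ := Sylow.mapSurjective_surjective hπ p S
  refine comm_top_mul (V_comm (p := p) (G := G)) (V_exp (p := p) (G := G)) hpN hN (isPSolvable_quotient hsol _)
    (pCore_quotient_pCore p) psiBar (psiBar_injective hsol hcore) _ (Sylow.isPGroup' _) ?_ ?_ hy₁ hy₂
  · intro y hy
    rw [Sylow.coe_mapSurjective] at hy
    obtain ⟨x, hx, rfl⟩ := hy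
    rw [← map_pow, hexp P x hx, map_one]
  · intro y hy m
    rw [Sylow.coe_mapSurjective] at hy
    obtain ⟨x, hx, rfl⟩ := hy
    have hxP : IsPGroup p (Subgroup.zpowers x) := P.isPGroup'.to_le (Subgroup.zpowers_le.2 hx)
    exact nm_psi_eq_one hexp x hxP m

theorem second_step {H : Type*} [Group H] [Finite H] {p : ℕ} [hp : Fact p.Prime] {e : ℕ} (hp2 : p ≠ 2)
    (hsol : IsPSolvable p H) (hexp : ∀ (S : Sylow p H), ∀ y ∈ (S : Subgroup H), y ^ p ^ (e + 1) = 1)
    (hcomm : ∀ (S : Sylow p H), ∀ y₁ ∈ (S : Subgroup H), ∀ y₂ ∈ (S : Subgroup H),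
      y₁ ^ p ^ e * y₂ ^ p ^ e = y₂ ^ p ^ e * y₁ ^ p ^ e)
    (S₃ : Sylow p ((H ⧸ pPrimeCore p H) ⧸ pCore p (H ⧸ pPrimeCore p H))) (x : (H ⧸ pPrimeCore p H) ⧸ pCore p (H ⧸ pPrimeCore p H))
    (hx : x ∈ (S₃ : Subgroup _)) : x ^ p ^ e = 1 := by
  classical
  set T := pPrimeCore p H with hT
  let H' := H ⧸ T
  let π₂ : H →* H' := QuotientGroup.mk' T
  have hπ₂ : Function.Surjective π₂ := QuotientGroup.mk'_surjective T
  set U := pCore p H' with hU
  let π₃ : H' →* H' ⧸ U := QuotientGroup.mk' U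
  have hπ₃ : Function.Surjective π₃ := QuotientGroup.mk'_surjective U
  have hsol' : IsPSolvable p H' := isPSolvable_quotient hsol T
  have hcore' : pPrimeCore p H' = ⊥ := pPrimeCore_quotient_pPrimeCore p
  have hsol₃ : IsPSolvable p (H' ⧸ U) := isPSolvable_quotient hsol' U
  have hOp₃ : pCore p (H' ⧸ U) = ⊥ := pCore_quotient_pCore p
  obtain ⟨S', rfl⟩ := Sylow.mapSurjective_surjective hπ₃ p S₃
  obtain ⟨S, rfl⟩ := Sylow.mapSurjective_surjective hπ₂ p S'
  rw [Sylow.coe_mapSurjective] at hx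
  obtain ⟨x', hx', rfl⟩ := hx
  have hx'' := hx'
  rw [Sylow.coe_mapSurjective] at hx''
  obtain ⟨y, hy, rfl⟩ := hx''
  by_contra hxk
  have hxN : (π₃ (π₂ y)) ^ p ^ (e + 1) = 1 := by
    rw [← map_pow, ← map_pow, hexp S y hy, map_one, map_one]
  obtain ⟨-, m, hm⟩ := concl_mul (V_comm (p := p) (G := H')) (V_exp (p := p) (G := H')) hp2 hsol₃ hOp₃ psiBar
    (psiBar_injective hsol' hcore') (π₃ (π₂ y)) e hxN hxk
  obtain ⟨u, rfl⟩ := QuotientGroup.mk_surjective m
  have huS : (u : H') ∈ ((S.mapSurjective hπ₂ : Sylow p H') : Subgroup H') :=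
    pCore_le_sylow p _ u.2
  rw [Sylow.coe_mapSurjective] at huS
  obtain ⟨a, ha, hau⟩ := huS
  set k := p ^ e with hk
  have hay : a * y ∈ (S : Subgroup H) := mul_mem ha hy
  have hc := hcomm S y hy (a * y) hay
  rw [pow_conj_formula] at hc
  set w := nm (MulAut.conj y) k a with hw
  have hc' : y ^ k * w = w * y ^ k := by
    have h1 : y ^ k * w * y ^ k = w * y ^ k * y ^ k := by
      rw [mul_assoc, hc, mul_assoc]
    exact mul_right_cancel h1
  -- to the quotient
  set xt := π₂ y with hxt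
  have hπw : π₂ w = nm (MulAut.conj xt) k (u : H') := by
    rw [hw, Cfsg.Agent.Lib.HHWr.map_nm_conj, hau]
  set v : U := nm (MulAut.conjNormal xt) k u with hv
  have hvcoe : (v : H') = π₂ w := by
    rw [hπw, hv]
    exact coe_nm_conjNormal U xt k u
  have hcomm' : xt ^ k * (v : H') = (v : H') * xt ^ k := by
    rw [hvcoe, hxt, ← map_pow, ← map_mul, hc', map_mul]
  have hm1 : nm (psi p H' xt) k ((u : U) : U ⧸ frattini U) = ((v : U) : U ⧸ frattini U) :=
    nm_quot_mk (MulAut.conjNormal xt) (frattini U) (fun _ hy => char_mem _ _ hy) _ _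
  have hm2 : psiBar ((π₃ xt) ^ k) = psi p H' (xt ^ k) := by
    rw [← map_pow]
    rfl
  have hm3 : psiBar (π₃ xt) = psi p H' xt := rfl
  rw [hm3, hm1, hm2, psi_mk] at hm
  apply hm
  congr 1
  apply Subtype.ext
  rw [MulAut.conjNormal_apply, hcomm']
  group

theorem hexpq {p : ℕ} [hp : Fact p.Prime] {X Y : Type*} [Group X] [Group Y] [Finite X] [Finite Y] (f : X →* Y)
    (hf : Function.Surjective f) (m : ℕ) (h : ∀ (P : Sylow p X), ∀ x ∈ (P : Subgroup X), f x ^ m = 1) :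
    ∀ (P : Sylow p Y), ∀ x ∈ (P : Subgroup Y), x ^ m = 1 := by
  intro P x hx
  obtain ⟨P', rfl⟩ := Sylow.mapSurjective_surjective hf p P
  rw [Sylow.coe_mapSurjective] at hx
  obtain ⟨x', hx', rfl⟩ := hx
  exact h P' x' hx'

theorem hquot2 {X Y : Type*} [Group X] [Group Y] [Finite X] [Finite Y] (f : X →* Y)
    (hf : Function.Surjective f) (h : ∀ S : Sylow 2 X, IsMulCommutative (S : Subgroup X)) :
    ∀ S : Sylow 2 Y, IsMulCommutative (S : Subgroup Y) := by
  intro Q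
  haveI : Fact (Nat.Prime 2) := ⟨Nat.prime_two⟩
  obtain ⟨Q', rfl⟩ := Sylow.mapSurjective_surjective hf 2 Q
  have hc := h Q'
  refine ⟨⟨?_⟩⟩
  rintro ⟨a, ha⟩ ⟨b, hb⟩
  rw [Sylow.coe_mapSurjective] at ha hb
  obtain ⟨a', ha', rfl⟩ := ha
  obtain ⟨b', hb', rfl⟩ := hb
  have h3 := hc.is_comm.comm (⟨a', ha'⟩ : (Q' : Subgroup X)) ⟨b', hb'⟩
  have h4 : a' * b' = b' * a' := congrArg Subtype.val h3
  apply Subtype.ext
  show f a' * f b' = f b' * f a'
  rw [← map_mul, ← map_mul, h4]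

theorem crux_a {G : Type*} [Group G] [Finite G] {p : ℕ} [hp : Fact p.Prime] (hp2 : p ≠ 2)
    (hsol : IsPSolvable p G) (hcore : pPrimeCore p G = ⊥)
    (hcond : (¬ ∃ k : ℕ, p = 2 ^ k + 1) ∨ ∀ S : Sylow 2 G, IsMulCommutative (S : Subgroup G)) {e : ℕ}
    (hexp : ∀ (P : Sylow p G), ∀ x ∈ (P : Subgroup G), x ^ p ^ (e + 1) = 1) (P : Sylow p G) (x : G)
    (hx : x ∈ (P : Subgroup G)) : x ^ p ^ e ∈ pCore p G := by
  have hpp : p.Prime := hp.out
  let π : G →* G ⧸ pCore p G := QuotientGroup.mk' (pCore p G)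
  have hπ : Function.Surjective π := QuotientGroup.mk'_surjective _
  refine (QuotientGroup.eq_one_iff _).mp ?_
  show π (x ^ p ^ e) = 1
  by_contra hxk
  rw [map_pow] at hxk
  have hxN : (π x) ^ p ^ (e + 1) = 1 := by
    rw [← map_pow, hexp P x hx, map_one]
  obtain ⟨h1, -⟩ := concl_mul (V_comm (p := p) (G := G)) (V_exp (p := p) (G := G)) hp2 (isPSolvable_quotient hsol _)
    (pCore_quotient_pCore p) psiBar (psiBar_injective hsol hcore) (π x) e hxN hxk
  rcases h1 with ⟨m, hm⟩ | ⟨n₀, q, j, h1, h2, hq, hj, hpq, R, hR, a, ha, b, hb, hab⟩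
  · have hxP : IsPGroup p (Subgroup.zpowers x) := P.isPGroup'.to_le (Subgroup.zpowers_le.2 hx)
    exact hm (nm_psi_eq_one hexp x hxP m)
  · have hpn₀ : 1 ≤ p ^ n₀ := Nat.pow_pos hpp.pos
    have hodd : Odd p := hpp.odd_of_ne_two hp2
    have hev : Even (p ^ n₀ - 1) := by
      obtain ⟨k, hk⟩ : Odd (p ^ n₀) := hodd.pow
      exact ⟨k, by omega⟩
    rw [hpq] at hev
    have hq2 : q = 2 := by
      have h6 : 2 ∣ q ^ j := hev.two_dvd
      have h7 := Nat.prime_two.dvd_of_dvd_pow h6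
      exact ((Nat.prime_dvd_prime_iff_eq Nat.prime_two hq).mp h7).symm
    subst hq2
    rcases hcond with hF | hab2
    · apply hF
      have h3 : p - 1 ∣ p ^ n₀ - 1 := by
        have := Nat.sub_dvd_pow_sub_pow p 1 n₀
        simpa using this
      rw [hpq] at h3
      obtain ⟨i, -, hi⟩ := (Nat.dvd_prime_pow Nat.prime_two).mp h3
      refine ⟨i, ?_⟩
      have := hpp.two_le
      omega
    · haveI : Fact (Nat.Prime 2) := ⟨Nat.prime_two⟩
      obtain ⟨S, hS⟩ := hR.exists_le_sylow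
      have hc := hquot2 π hπ hab2 S
      apply hab
      have h3 := hc.is_comm.comm (⟨a, hS ha⟩ : (S : Subgroup _)) ⟨b, hS hb⟩
      exact congrArg Subtype.val h3

theorem main_a (p : ℕ) [hp : Fact p.Prime] (hp2 : p ≠ 2) (n : ℕ) : ∀ (G : Type u) [Group G] [Finite G], IsPSolvable p G →
    ((¬ ∃ k : ℕ, p = 2 ^ k + 1) ∨ ∀ S : Sylow 2 G, IsMulCommutative (S : Subgroup G)) →
    (∀ (P : Sylow p G), ∀ x ∈ (P : Subgroup G), x ^ p ^ n = 1) → PLengthLE p n G := by
  induction n with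
  | zero =>
    intro G _ _ hsol hab hexp
    refine pLengthLE_zero_of_coprime p ?_
    rw [Nat.coprime_comm, hp.out.coprime_iff_not_dvd]
    intro hd
    obtain ⟨y, hy⟩ := exists_prime_orderOf_dvd_card' p hd
    have h1 : IsPGroup p (Subgroup.zpowers y) := by
      refine IsPGroup.iff_card.2 ⟨1, ?_⟩
      rw [Nat.card_zpowers, hy, pow_one]
    obtain ⟨P, hP⟩ := h1.exists_le_sylow
    have h2 := hexp P y (hP (Subgroup.mem_zpowers y))
    rw [pow_zero, pow_one] at h2
    rw [h2, orderOf_one] at hy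
    exact hp.out.one_lt.ne hy
  | succ n ih =>
    intro G _ _ hsol hab hexp
    let N := pPrimeCore p G
    let G₁ := G ⧸ N
    let π₁ : G →* G₁ := QuotientGroup.mk' N
    have hπ₁ : Function.Surjective π₁ := QuotientGroup.mk'_surjective N
    have hker : Nat.Coprime (Nat.card π₁.ker) p := by
      have : π₁.ker = N := QuotientGroup.ker_mk' N
      rw [this]
      exact card_pPrimeCore_coprime p
    refine pLengthLE_of_ker_coprime p π₁ hπ₁ hker ?_
    have hsol₁ : IsPSolvable p G₁ := isPSolvable_quotient hsol N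
    have hcore₁ : pPrimeCore p G₁ = ⊥ := pPrimeCore_quotient_pPrimeCore p
    have hab₁ : (¬ ∃ k : ℕ, p = 2 ^ k + 1) ∨ ∀ S : Sylow 2 G₁, IsMulCommutative (S : Subgroup G₁) :=
      hab.imp id (hquot2 π₁ hπ₁)
    have hexp₁ : ∀ (P : Sylow p G₁), ∀ x ∈ (P : Subgroup G₁), x ^ p ^ (n + 1) = 1 := by
      refine hexpq π₁ hπ₁ _ ?_
      intro P x hx
      rw [← map_pow, hexp P x hx, map_one]
    let R := pCore p G₁
    let Y := G₁ ⧸ R
    let π₂ : G₁ →* Y := QuotientGroup.mk' R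
    have hπ₂ : Function.Surjective π₂ := QuotientGroup.mk'_surjective R
    have hker₂ : PLengthLE p 1 π₂.ker := by
      refine pLengthLE_one_of_isPGroup p ?_
      have : π₂.ker = R := QuotientGroup.ker_mk' R
      rw [this]
      exact isPGroup_pCore p
    have hY : PLengthLE p n Y := by
      refine ih Y (isPSolvable_quotient hsol₁ R) (hab₁.imp id (hquot2 π₂ hπ₂)) ?_
      refine hexpq π₂ hπ₂ _ ?_
      intro P x hx
      rw [← map_pow]
      exact (QuotientGroup.eq_one_iff _).2 (crux_a hp2 hsol₁ hcore₁ hab₁ hexp₁ P x hx)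
    have := pLengthLE_of_ker 1 n p G₁ Y π₂ hπ₂ hker₂ hY
    rwa [add_comm] at this

theorem main_b (p N : ℕ) [hp : Fact p.Prime] (hp2 : p ≠ 2) (hpN : p = 2 ^ N + 1) (hN : 1 ≤ N) (n : ℕ) :
    ∀ (G : Type u) [Group G] [Finite G], IsPSolvable p G →
    (∀ (P : Sylow p G), ∀ x ∈ (P : Subgroup G), x ^ p ^ n = 1) → PLengthLE p (2 * n) G := by
  induction n with
  | zero =>
    intro G _ _ hsol hexp
    refine pLengthLE_zero_of_coprime p ?_
    rw [Nat.coprime_comm, hp.out.coprime_iff_not_dvd]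
    intro hd
    obtain ⟨y, hy⟩ := exists_prime_orderOf_dvd_card' p hd
    have h1 : IsPGroup p (Subgroup.zpowers y) := by
      refine IsPGroup.iff_card.2 ⟨1, ?_⟩
      rw [Nat.card_zpowers, hy, pow_one]
    obtain ⟨P, hP⟩ := h1.exists_le_sylow
    have h2 := hexp P y (hP (Subgroup.mem_zpowers y))
    rw [pow_zero, pow_one] at h2
    rw [h2, orderOf_one] at hy
    exact hp.out.one_lt.ne hy
  | succ n ih =>
    intro G _ _ hsol hexp
    let N₁ := pPrimeCore p G
    let G₁ := G ⧸ N₁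
    let π₁ : G →* G₁ := QuotientGroup.mk' N₁
    have hπ₁ : Function.Surjective π₁ := QuotientGroup.mk'_surjective N₁
    have hker : Nat.Coprime (Nat.card π₁.ker) p := by
      have : π₁.ker = N₁ := QuotientGroup.ker_mk' N₁
      rw [this]
      exact card_pPrimeCore_coprime p
    refine pLengthLE_of_ker_coprime p π₁ hπ₁ hker ?_
    have hsol₁ : IsPSolvable p G₁ := isPSolvable_quotient hsol N₁
    have hcore₁ : pPrimeCore p G₁ = ⊥ := pPrimeCore_quotient_pPrimeCore p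
    have hexp₁ : ∀ (P : Sylow p G₁), ∀ x ∈ (P : Subgroup G₁), x ^ p ^ (n + 1) = 1 := by
      refine hexpq π₁ hπ₁ _ ?_
      intro P x hx
      rw [← map_pow, hexp P x hx, map_one]
    let R := pCore p G₁
    let H := G₁ ⧸ R
    let π₂ : G₁ →* H := QuotientGroup.mk' R
    have hπ₂ : Function.Surjective π₂ := QuotientGroup.mk'_surjective R
    have hker₂ : PLengthLE p 1 π₂.ker := by
      refine pLengthLE_one_of_isPGroup p ?_
      have : π₂.ker = R := QuotientGroup.ker_mk' R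
      rw [this]
      exact isPGroup_pCore p
    have hsolH : IsPSolvable p H := isPSolvable_quotient hsol₁ R
    have hexpH : ∀ (P : Sylow p H), ∀ x ∈ (P : Subgroup H), x ^ p ^ (n + 1) = 1 := by
      refine hexpq π₂ hπ₂ _ ?_
      intro P x hx
      rw [← map_pow, hexp₁ P x hx, map_one]
    have hcommH : ∀ (S : Sylow p H), ∀ y₁ ∈ (S : Subgroup H), ∀ y₂ ∈ (S : Subgroup H),
        y₁ ^ p ^ n * y₂ ^ p ^ n = y₂ ^ p ^ n * y₁ ^ p ^ n := fun S y₁ hy₁ y₂ hy₂ =>
      top_comm hpN hN hsol₁ hcore₁ hexp₁ S hy₁ hy₂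
    -- the second layer
    let T := pPrimeCore p H
    let H' := H ⧸ T
    let π₃ : H →* H' := QuotientGroup.mk' T
    have hπ₃ : Function.Surjective π₃ := QuotientGroup.mk'_surjective T
    have hker₃ : Nat.Coprime (Nat.card π₃.ker) p := by
      have : π₃.ker = T := QuotientGroup.ker_mk' T
      rw [this]
      exact card_pPrimeCore_coprime p
    let U := pCore p H'
    let H₃ := H' ⧸ U
    let π₄ : H' →* H₃ := QuotientGroup.mk' U
    have hπ₄ : Function.Surjective π₄ := QuotientGroup.mk'_surjective U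
    have hker₄ : PLengthLE p 1 π₄.ker := by
      refine pLengthLE_one_of_isPGroup p ?_
      have : π₄.ker = U := QuotientGroup.ker_mk' U
      rw [this]
      exact isPGroup_pCore p
    have hH₃ : PLengthLE p (2 * n) H₃ := by
      refine ih H₃ (isPSolvable_quotient (isPSolvable_quotient hsolH T) U) ?_
      intro S₃ x hx
      exact second_step hp2 hsolH hexpH hcommH S₃ x hx
    have h1 : PLengthLE p (1 + 2 * n) H' := pLengthLE_of_ker 1 (2 * n) p H' H₃ π₄ hπ₄ hker₄ hH₃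
    have h2 : PLengthLE p (1 + 2 * n) H := pLengthLE_of_ker_coprime p π₃ hπ₃ hker₃ h1
    have h3 : PLengthLE p (1 + (1 + 2 * n)) G₁ := pLengthLE_of_ker 1 (1 + 2 * n) p G₁ H π₂ hπ₂ hker₂ h2
    have e1 : 2 * (n + 1) = 1 + (1 + 2 * n) := by ring
    rw [e1]
    exact h3

/-- The Hall–Higman bound on p-length. Let p be an odd prime and G a finite p-soluble group whose Sylow p-subgroups have exponent dividing p^e. (a) If p is not of the form 2^k + 1, or if the Sylow 2-subgroups of G are abelian, then G has p-length at most e. (b) In every case G has p-length at most 2e. -/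
theorem result {G : Type*} [Group G] [Finite G] {p : ℕ} [Fact p.Prime] (hp : p ≠ 2) (hG : Cfsg.IsPSolvable p G) (e : ℕ) (hexp : ∀ (P : Sylow p G), ∀ x ∈ (P : Subgroup G), x ^ p ^ e = 1) : (((¬ ∃ k : ℕ, p = 2 ^ k + 1) ∨ ∀ S : Sylow 2 G, IsMulCommutative (S : Subgroup G)) → Cfsg.PLengthLE p e G) ∧ Cfsg.PLengthLE p (2 * e) G := by
  refine ⟨fun h => main_a p hp e G hG h hexp, ?_⟩
  by_cases hF : ∃ k : ℕ, p = 2 ^ k + 1
  · obtain ⟨k, hk⟩ := hF
    have hk1 : 1 ≤ k := by
      by_contra h0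
      have h1 : k = 0 := by omega
      rw [h1] at hk
      exact hp (by simpa using hk)
    exact main_b p k hp hk hk1 e G hG hexp
  · exact pLengthLE_mono p (by omega) (main_a p hp e G hG (Or.inl hF) hexp)

end Cfsg.Agent.S3786
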