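import Mathlib
import Cfsg.Statements.S3787
import Cfsg.Agent.Lib.HHB5
import Cfsg.Agent.Lib.HHWr
import Cfsg.Agent.Lib.FrattAct
import Cfsg.Agent.Lib.PLengthSeries
import Cfsg.Agent.Lib.InvolvesAPI

set_option autoImplicit false
set_option linter.unusedSectionVars false
set_option linter.unusedVariables false
set_option linter.style.haveILetI false
open Cfsg

namespace Cfsg.Agent.S3787

open Cfsg.Agent.Lib.PCore Cfsg.Agent.Lib.PSolv Cfsg.Agent.Lib.FrattAct Cfsg.Agent.Lib.Kegel
open Cfsg.Agent.Lib.PLengthSeries Cfsg.Agent.Lib.HHWr Cfsg.Agent.Lib.HHB5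
open scoped commutatorElement

theorem crux {G : Type*} [Group G] [Finite G] {p : ℕ} [hp : Fact p.Prime] (hp2 : p ≠ 2)
    (hnf : ¬ ∃ k : ℕ, p = 2 ^ k + 1) (hsol : IsPSolvable p G) (hcore : pPrimeCore p G = ⊥)
    (P : Sylow p G)
    (hwr : ∀ T : Subgroup G, T ≤ (P : Subgroup G) → ∀ (W : Type) [Group W] [Finite W] (f : T →* W),
      Function.Surjective f → IsWr p W → False) :
    (Nat.card (G ⧸ pCore p G)).Coprime p := by
  classical
  have hpp : p.Prime := hp.out
  rw [Nat.coprime_comm, hpp.coprime_iff_not_dvd]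
  intro hdvd
  let π : G →* G ⧸ pCore p G := QuotientGroup.mk' (pCore p G)
  have hπ : Function.Surjective π := QuotientGroup.mk'_surjective _
  have hker : ∀ g, π g = 1 ↔ g ∈ pCore p G := fun g => QuotientGroup.eq_one_iff g
  let S : Sylow p (G ⧸ pCore p G) := P.mapSurjective hπ
  have hScard : p ∣ Nat.card (S : Subgroup (G ⧸ pCore p G)) := by
    obtain ⟨e, he⟩ := IsPGroup.iff_card.mp S.isPGroup'
    rcases Nat.eq_zero_or_pos e with h0 | h0
    · exfalso
      rw [h0, pow_zero] at he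
      have hbot : (S : Subgroup (G ⧸ pCore p G)) = ⊥ := Subgroup.card_eq_one.mp he
      apply S.not_dvd_index
      rw [hbot, Subgroup.index_bot]
      exact hdvd
    · rw [he]
      exact dvd_pow_self p h0.ne'
  obtain ⟨xs, hxs⟩ := exists_prime_orderOf_dvd_card' p hScard
  have hxsm : (xs : G ⧸ pCore p G) ∈ (P : Subgroup G).map π := by
    have h3 : (S : Subgroup (G ⧸ pCore p G)) = (P : Subgroup G).map π := Sylow.coe_mapSurjective _ _
    exact h3.le xs.2
  obtain ⟨x, hxP, hxe⟩ := hxsm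
  have hxo : orderOf (π x) = p := by
    rw [hxe, Subgroup.orderOf_coe]
    exact hxs
  have hx1 : π x ≠ 1 := by
    intro h0
    rw [h0, orderOf_one] at hxo
    exact hpp.one_lt.ne hxo
  have hxp : π x ^ p = 1 := by
    have h3 := pow_orderOf_eq_one (π x)
    rwa [hxo] at h3
  obtain ⟨m, hm⟩ := exists_norm_ne_one (V_comm (p := p) (G := G)) hp2 hnf (V_exp (p := p) (G := G))
    (isPSolvable_quotient hsol _) (pCore_quotient_pCore p) psiBar (psiBar_injective hsol hcore) (π x) hx1 hxp
  obtain ⟨u, rfl⟩ := QuotientGroup.mk_surjective m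
  have hnorm : nm (MulAut.conjNormal x) p u ∉ frattini (pCore p G) := by
    intro hin
    apply hm
    have h3 : nm (psi p G x) p (u : pCore p G ⧸ frattini (pCore p G)) =
        ((nm (MulAut.conjNormal x) p u : pCore p G) : pCore p G ⧸ frattini (pCore p G)) :=
      nm_quot_mk (MulAut.conjNormal x) (frattini (pCore p G)) (fun _ hy => char_mem _ _ hy) _ _
    show nm (psi p G x) p (u : pCore p G ⧸ frattini (pCore p G)) = 1
    rw [h3]
    exact (QuotientGroup.eq_one_iff _).mpr hin
  -- the section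
  let Φ : Subgroup G := (frattini (pCore p G)).map (pCore p G).subtype
  have hΦn : Φ.Normal := by
    refine ⟨?_⟩
    rintro _ ⟨y, hy, rfl⟩ g
    exact ⟨MulAut.conjNormal g y, char_mem _ _ hy, rfl⟩
  have hΦU : Φ ≤ pCore p G := by
    rintro _ ⟨y, hy, rfl⟩
    exact y.2
  let T : Subgroup G := pCore p G ⊔ Subgroup.zpowers x
  have hTP : T ≤ (P : Subgroup G) :=
    sup_le (pCore_le_sylow p P) (Subgroup.zpowers_le.mpr hxP)
  have hUT : pCore p G ≤ T := le_sup_left
  have hxT : x ∈ T := (le_sup_right : Subgroup.zpowers x ≤ T) (Subgroup.mem_zpowers x)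
  let tt : T := ⟨x, hxT⟩
  let B : Subgroup T := (pCore p G).subgroupOf T
  let D : Subgroup T := Φ.subgroupOf T
  haveI hBn : B.Normal := inferInstance
  haveI hDn : D.Normal := by
    refine ⟨?_⟩
    intro n hn g
    exact hΦn.conj_mem _ hn _
  obtain ⟨N, hNn, hNw⟩ := wr_quot B D
    (fun y hy => hΦU hy)
    (by
      intro a ha b hb
      have ha' : (a : G) ∈ pCore p G := ha
      have hb' : (b : G) ∈ pCore p G := hb
      have h1 : ⁅(⟨a, ha'⟩ : pCore p G), (⟨b, hb'⟩ : pCore p G)⁆ ∈ commutator (pCore p G) :=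
        Subgroup.commutator_mem_commutator (Subgroup.mem_top _) (Subgroup.mem_top _)
      have h2 := Cfsg.Agent.Lib.Frat.commutator_le_frattini (isPGroup_pCore p (G := G)) h1
      exact ⟨_, h2, rfl⟩)
    (by
      intro b hb
      have hb' : (b : G) ∈ pCore p G := hb
      have h2 := Cfsg.Agent.Lib.Frat.pow_mem_frattini (isPGroup_pCore p (G := G)) (⟨b, hb'⟩ : pCore p G)
      exact ⟨_, h2, rfl⟩)
    tt
    (by
      intro h
      exact hx1 ((hker x).mpr h))
    (by
      apply (hker _).mp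
      show π (x ^ p) = 1
      rw [map_pow, hxp])
    (by
      rintro ⟨g, hg⟩
      obtain ⟨b, hb, z, hz, hgz⟩ := Subgroup.mem_sup_of_normal_left.mp hg
      obtain ⟨i, hi⟩ := (mem_powers_iff_mem_zpowers).mpr hz
      refine ⟨⟨b, hUT hb⟩, hb, i, ?_⟩
      apply Subtype.ext
      show g = b * x ^ i
      rw [← hgz]
      congr 1
      exact hi.symm)
    ⟨u, hUT u.2⟩ u.2
    (by
      intro hin
      have h1 := map_nm_conj T.subtype tt ⟨u, hUT u.2⟩ p
      obtain ⟨y, hy, hye⟩ := hin
      have h2 : ((y : pCore p G) : G) = nm (MulAut.conj x) p (u : G) := hye.trans h1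
      have h3 := coe_nm_conjNormal (pCore p G) x p u
      apply hnorm
      have h4 : nm (MulAut.conjNormal x) p u = y := Subtype.ext (h3.trans h2.symm)
      rw [h4]
      exact hy)
  obtain ⟨W', iG, iF, e, hW'⟩ := exists_small_copy hNw
  refine hwr T hTP W' (e.toMonoidHom.comp (QuotientGroup.mk' N)) ?_ hW'
  exact e.surjective.comp (QuotientGroup.mk'_surjective N)

/-- Let G be a finite p-soluble group, p an odd prime not of the form 2^k + 1, and suppose the wreath product C_p ≀ C_p (of order p^(p+1)) is not involved in a Sylow p-subgroup of G: no section of a Sylow p-subgroup is isomorphic to it. Then G has p-length at most 1. -/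
theorem result {G : Type*} [Group G] [Finite G] {p : ℕ} [Fact p.Prime] (hp2 : p ≠ 2) (hnf : (¬ ∃ k : ℕ, p = 2 ^ k + 1)) (hG : Cfsg.IsPSolvable p G) (P : Sylow p G) (hwr : ∀ (W : Type) [Group W] [Finite W], (∃ (B : Subgroup W) (t : W), B.Normal ∧ IsMulCommutative B ∧ (∀ b ∈ B, b ^ p = 1) ∧ Nat.card B = p ^ p ∧ orderOf t = p ∧ t ∉ B ∧ Nat.card W = p ^ (p + 1) ∧ Nat.card ↥(B ⊓ Subgroup.centralizer ({t} : Set W)) = p) → ¬ Cfsg.Involves W ↥(P : Subgroup G)) : Cfsg.PLengthLE p 1 G := by
  let N := pPrimeCore p G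
  let G₁ := G ⧸ N
  let π₁ : G →* G₁ := QuotientGroup.mk' N
  have hπ₁ : Function.Surjective π₁ := QuotientGroup.mk'_surjective N
  have hker : Nat.Coprime (Nat.card π₁.ker) p := by
    have : π₁.ker = N := QuotientGroup.ker_mk' N
    rw [this]
    exact card_pPrimeCore_coprime p
  refine pLengthLE_of_ker_coprime p π₁ hπ₁ hker ?_
  have hsol₁ : IsPSolvable p G₁ := isPSolvable_quotient hG N
  have hcore₁ : pPrimeCore p G₁ = ⊥ := pPrimeCore_quotient_pPrimeCore p
  let P₁ : Sylow p G₁ := P.mapSurjective hπ₁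
  have hwr₁ : ∀ T : Subgroup G₁, T ≤ (P₁ : Subgroup G₁) → ∀ (W : Type) [Group W] [Finite W] (f : T →* W),
      Function.Surjective f → IsWr p W → False := by
    intro T hT W _ _ f hf hW
    refine hwr W hW ?_
    let ι : ↥(P : Subgroup G) →* G₁ := π₁.comp (P : Subgroup G).subtype
    let K : Subgroup ↥(P : Subgroup G) := T.comap ι
    let g : K →* T := (ι.comp K.subtype).codRestrict T (fun x => x.2)
    refine Cfsg.Agent.Lib.InvolvesAPI.involves_of_surj K (f.comp g) ?_
    intro w
    obtain ⟨⟨y, hy⟩, rfl⟩ := hf w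
    have h3 : y ∈ (P : Subgroup G).map π₁ := by
      have := hT hy
      rwa [Sylow.coe_mapSurjective] at this
    obtain ⟨z, hz, hze⟩ := h3
    have hzK : (⟨z, hz⟩ : ↥(P : Subgroup G)) ∈ K := by
      show π₁ z ∈ T
      rw [hze]
      exact hy
    refine ⟨⟨⟨z, hz⟩, hzK⟩, ?_⟩
    show f (g _) = _
    congr 1
    exact Subtype.ext hze
  let R := pCore p G₁
  let Y := G₁ ⧸ R
  let π₂ : G₁ →* Y := QuotientGroup.mk' R
  have hπ₂ : Function.Surjective π₂ := QuotientGroup.mk'_surjective R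
  have hker₂ : PLengthLE p 1 π₂.ker := by
    refine pLengthLE_one_of_isPGroup p ?_
    have : π₂.ker = R := QuotientGroup.ker_mk' R
    rw [this]
    exact isPGroup_pCore p
  have hY : PLengthLE p 0 Y := pLengthLE_zero_of_coprime p (crux hp2 hnf hsol₁ hcore₁ P₁ hwr₁)
  exact pLengthLE_of_ker 1 0 p G₁ Y π₂ hπ₂ hker₂ hY

end Cfsg.Agent.S3787
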