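import Mathlib
import Cfsg.Statements.S3788
import Cfsg.Agent.Lib.FrattAct
import Cfsg.Agent.Lib.MaxExp
import Cfsg.Agent.Lib.PermFourSection
import Cfsg.Agent.Lib.InvolvesAPI

set_option autoImplicit false
set_option linter.unusedSectionVars false
set_option linter.unusedVariables false
set_option linter.unusedSimpArgs false
set_option linter.style.haveILetI false
open Cfsg

namespace Cfsg.Agent.S3788

open Cfsg.Agent.Lib.Kegel Cfsg.Agent.Lib.PCore Cfsg.Agent.Lib.PSolv Cfsg.Agent.Lib.FrattAct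
open Cfsg.Agent.Lib.DedekindOps
open scoped commutatorElement

universe u

/-- The Frattini module. -/
theorem exists_frat_module {G : Type u} [Group G] [Finite G] {p : ℕ} [hp : Fact p.Prime] (hsol : IsPSolvable p G)
    (hcore : pPrimeCore p G = ⊥) :
    ∃ (M : Type u) (_ : AddCommGroup M) (q : pCore p G → M) (ρ : G →* Module.End ℤ M),
      (∀ r s, q (r * s) = q r + q s) ∧ (∀ v, ∃ r, q r = v) ∧ (∀ v : M, p • v = 0) ∧
      (∀ g r, ρ g (q r) = q (MulAut.conjNormal g r)) ∧ (∀ g, ρ g = 1 → g ∈ pCore p G) ∧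
      (∀ g ∈ pCore p G, ρ g = 1) ∧ (∀ r, q r = 0 ↔ r ∈ frattini (pCore p G)) := by
  set V := pCore p G ⧸ frattini (pCore p G) with hV
  letI iV : CommGroup V :=
    { (inferInstance : Group V) with
      mul_comm := V_comm }
  let toE : MulAut V →* Module.End ℤ (Additive V) :=
    { toFun := fun a => (MonoidHom.toAdditive (a : V →* V)).toIntLinearMap
      map_one' := by
        ext v
        rfl
      map_mul' := by
        intro a b
        ext v
        rfl }
  have htoE : ∀ (a : MulAut V) (v : V), toE a (Additive.ofMul v) = Additive.ofMul (a v) := fun _ _ => rfl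
  have hinj : ∀ a : MulAut V, toE a = 1 → a = 1 := by
    intro a ha
    ext v
    have h1 := congrArg (fun F : Module.End ℤ (Additive V) => F (Additive.ofMul v)) ha
    simp only [htoE] at h1
    exact Additive.ofMul.injective h1
  refine ⟨Additive V, inferInstance, fun r => Additive.ofMul (r : V), toE.comp (psi p G), ?_, ?_, ?_, ?_, ?_, ?_, ?_⟩
  · intro r s
    rfl
  · intro v
    obtain ⟨r, hr⟩ := QuotientGroup.mk_surjective (Additive.toMul v)
    exact ⟨r, congrArg Additive.ofMul hr⟩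
  · intro v
    have h1 : p • v = Additive.ofMul ((Additive.toMul v) ^ p) := rfl
    rw [h1, V_exp]
    rfl
  · intro g r
    rfl
  · intro g hg
    have h1 : psi p G g = 1 := hinj _ hg
    exact ker_psi_le hsol hcore h1
  · intro g hg
    have h1 : psi p G g = 1 := le_ker_psi hg
    show toE (psi p G g) = 1
    rw [h1, map_one]
  · intro r
    constructor
    · intro h
      have h1 : (r : V) = 1 := Additive.ofMul.injective h
      exact (QuotientGroup.eq_one_iff r).1 h1
    · intro h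
      have h1 : (r : V) = 1 := (QuotientGroup.eq_one_iff r).2 h
      exact congrArg Additive.ofMul h1

/-- The Weyl element. -/
theorem weyl {R : Type*} [Ring R] (X Y : R) (hXX : X * X = 0) (hYY : Y * Y = 0) (hXYX : X * Y * X = -X)
    (hYXY : Y * X * Y = -Y) :
    ((1 + X) * (1 + Y) * (1 + X)) * ((1 + X) * (1 + Y) * (1 + X)) * X = -X ∧
      X * (((1 + X) * (1 + Y) * (1 + X)) * ((1 + X) * (1 + Y) * (1 + X))) = -X := by
  set M := (1 + X) * (1 + Y) * (1 + X) with hMdef
  have hM : M = 1 + X + Y + X * Y + Y * X := by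
    have h1 : M = 1 + X + Y + X * Y + X + Y * X + X * X + X * Y * X := by
      rw [hMdef]
      noncomm_ring
    rw [h1, hXX, hXYX]
    abel
  have hMX : M * X = Y * X := by
    have h1 : M * X = X + X * X + Y * X + X * Y * X + Y * (X * X) := by
      rw [hM]
      noncomm_ring
    rw [h1, hXX, hXYX, mul_zero]
    abel
  have hMY : M * Y = X * Y := by
    have h1 : M * Y = Y + X * Y + Y * Y + X * (Y * Y) + Y * X * Y := by
      rw [hM]
      noncomm_ring
    rw [h1, hYY, hYXY, mul_zero]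
    abel
  have hXM : X * M = X * Y := by
    have h1 : X * M = X + X * X + X * Y + X * X * Y + X * Y * X := by
      rw [hM]
      noncomm_ring
    rw [h1, hXX, hXYX, zero_mul]
    abel
  have hYM : Y * M = Y * X := by
    have h1 : Y * M = Y + Y * X + Y * Y + Y * X * Y + Y * Y * X := by
      rw [hM]
      noncomm_ring
    rw [h1, hYY, hYXY, zero_mul]
    abel
  constructor
  · rw [mul_assoc, hMX, ← mul_assoc, hMY, hXYX]
  · rw [← mul_assoc, hXM, mul_assoc, hYM, ← mul_assoc, hXYX]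

theorem unip3 {R : Type*} [Ring R] (a b : R) (haa : a * a = 0) (hbb : b * b = 0) (h : a * b = 0 ∨ b * a = 0) :
    ((1 - a) * (1 + b) - 1) ^ 3 = 0 := by
  have h1 : (1 - a) * (1 + b) - 1 = b - a - a * b := by noncomm_ring
  rw [h1]
  have haa' : ∀ z : R, a * (a * z) = 0 := fun z => by rw [← mul_assoc, haa, zero_mul]
  have hbb' : ∀ z : R, b * (b * z) = 0 := fun z => by rw [← mul_assoc, hbb, zero_mul]
  rcases h with h | h
  · have hab' : ∀ z : R, a * (b * z) = 0 := fun z => by rw [← mul_assoc, h, zero_mul]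
    rw [h, sub_zero]
    have h2 : (b - a) ^ 3 = b * (b * b) - b * (b * a) - b * (a * b) + b * (a * a) - a * (b * b) + a * (b * a) + a * (a * b) - a * (a * a) := by
      noncomm_ring
    rw [h2]
    simp only [hbb', haa', hab', h, hbb, haa, mul_zero, sub_zero, zero_add, add_zero, zero_sub, sub_self, neg_zero]
  · have hba' : ∀ z : R, b * (a * z) = 0 := fun z => by rw [← mul_assoc, h, zero_mul]
    have h2 : (b - a - a * b) ^ 3 = (b - a - a * b) * (b - a - a * b) * (b - a - a * b) := by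
      rw [pow_succ, pow_two]
    have h3 : (b - a - a * b) * (b - a - a * b) = - (a * b) := by
      have h4 : (b - a - a * b) * (b - a - a * b) = b * b - b * a - b * (a * b) - a * b + a * a + a * (a * b) - a * (b * b) + a * (b * a) + a * (b * (a * b)) := by
        noncomm_ring
      rw [h4]
      simp only [hbb, haa, h, hba', hbb', haa', mul_zero, sub_zero, zero_add, add_zero, zero_sub, sub_self]
    rw [h2, h3]
    have h5 : - (a * b) * (b - a - a * b) = - (a * (b * b)) + a * (b * a) + a * (b * (a * b)) := by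
      noncomm_ring
    rw [h5]
    simp only [hbb, h, hba', mul_zero, neg_zero, zero_add, add_zero]

section Data

variable {G : Type u} [Group G] {p : ℕ} {M : Type*} [AddCommGroup M] {R : Subgroup G} [hRn : R.Normal]
  {q : R → M} {ρ : G →* Module.End ℤ M}

theorem q_one (hq : ∀ r s, q (r * s) = q r + q s) : q 1 = 0 := by
  have h := hq 1 1
  rw [mul_one] at h
  exact left_eq_add.1 h

theorem q_inv (hq : ∀ r s, q (r * s) = q r + q s) (r : R) : q r⁻¹ = - q r := by
  have h := hq r⁻¹ r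
  rw [inv_mul_cancel, q_one hq] at h
  exact eq_neg_of_add_eq_zero_left h.symm

theorem q_pow (hq : ∀ r s, q (r * s) = q r + q s) (r : R) (n : ℕ) : q (r ^ n) = n • q r := by
  induction n with
  | zero => simp [q_one hq]
  | succ n ih => rw [pow_succ, hq, ih, add_smul, one_smul]

theorem q_zpow (hq : ∀ r s, q (r * s) = q r + q s) (r : R) (z : ℤ) : q (r ^ z) = z • q r := by
  cases z with
  | ofNat n => simpa using q_pow hq r n
  | negSucc n =>
    rw [zpow_negSucc, q_inv hq, q_pow hq, negSucc_zsmul]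

theorem q_sum_nm (hq : ∀ r s, q (r * s) = q r + q s) (hρ : ∀ g r, ρ g (q r) = q (MulAut.conjNormal g r)) (x : G) (r : R) (n : ℕ) :
    q (nm (MulAut.conjNormal x) n r) = (∑ i ∈ Finset.range n, ρ x ^ i) (q r) := by
  have hpow : ∀ (i : ℕ) (s : R), (ρ x ^ i) (q s) = q ((MulAut.conjNormal x ^ i) s) := by
    intro i s
    induction i generalizing s with
    | zero => simp
    | succ i ih =>
      rw [pow_succ, Module.End.mul_apply, hρ, ih, pow_succ, MulAut.mul_apply]
  induction n with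
  | zero => simp [nm_zero, q_one hq]
  | succ n ih =>
    rw [nm_succ, hq, ih, Finset.sum_range_succ, LinearMap.add_apply, hpow]

end Data

section Transv

variable {G : Type u} [Group G] {p : ℕ} [hp : Fact p.Prime] {M : Type*} [AddCommGroup M] {R : Subgroup G} [hRn : R.Normal]
  {q : R → M} {ρ : G →* Module.End ℤ M}

theorem rho_pow_of_sq {T : Module.End ℤ M} (hT : T * T = 0) (n : ℕ) : (1 + T) ^ n = 1 + n • T := by
  induction n with
  | zero => simp
  | succ n ih =>
    rw [pow_succ, ih, add_mul, mul_add, mul_add, one_mul, one_mul, mul_one, smul_mul_assoc, hT, smul_zero, add_zero,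
      add_smul, one_smul]
    abel

theorem transv (hq : ∀ r s, q (r * s) = q r + q s) (hs : ∀ v, ∃ r, q r = v) (hpM : ∀ v : M, p • v = 0)
    (hρ : ∀ g r, ρ g (q r) = q (MulAut.conjNormal g r)) (hker : ∀ g, ρ g = 1 → g ∈ R)
    (x : G) (hnorm : ∀ r ∈ R, r * x * r⁻¹ ∈ Subgroup.zpowers x) (hxR : x ∉ R) :
    (ρ x - 1) * (ρ x - 1) = 0 ∧ ∃ hb : x ^ p ∈ R, (∀ v, ∃ w : ℤ, (ρ x - 1) v = w • q ⟨x ^ p, hb⟩) ∧
      (ρ x - 1) (q ⟨x ^ p, hb⟩) = 0 ∧ q ⟨x ^ p, hb⟩ ≠ 0 := by
  have hpp := hp.out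
  set T := ρ x - 1 with hT
  have hρx : ρ x = 1 + T := by rw [hT]; abel
  have hcm : ∀ r : R, ⁅x, (r : G)⁆ ∈ R := by
    intro r
    have e : ⁅x, (r : G)⁆ = (x * r * x⁻¹) * (r : G)⁻¹ := rfl
    rw [e]
    exact mul_mem (hRn.conj_mem _ r.2 x) (inv_mem r.2)
  have hcz : ∀ r : R, ⁅x, (r : G)⁆ ∈ Subgroup.zpowers x := by
    intro r
    have e : ⁅x, (r : G)⁆ = x * ((r : G) * x * (r : G)⁻¹)⁻¹ := by
      simp [commutatorElement_def, mul_assoc]
    rw [e]
    exact mul_mem (Subgroup.mem_zpowers x) (inv_mem (hnorm r r.2))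
  have hTq : ∀ r : R, T (q r) = q ⟨⁅x, (r : G)⁆, hcm r⟩ := by
    intro r
    rw [hT, LinearMap.sub_apply, hρ, Module.End.one_apply, sub_eq_iff_eq_add, ← hq]
    congr 1
    apply Subtype.ext
    show x * (r : G) * x⁻¹ = ⁅x, (r : G)⁆ * r
    simp [commutatorElement_def, mul_assoc]
  have hq1 : ∀ c (hc : c ∈ R), c = 1 → q ⟨c, hc⟩ = 0 := by
    intro c hc h
    subst h
    exact q_one hq
  have hTcomm : ∀ c (hc : c ∈ R), c ∈ Subgroup.zpowers x → T (q ⟨c, hc⟩) = 0 := by
    intro c hc hcx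
    rw [hTq]
    apply hq1
    obtain ⟨z, rfl⟩ := Subgroup.mem_zpowers_iff.1 hcx
    exact commutatorElement_eq_one_iff_mul_comm.2 ((Commute.refl x).zpow_right z)
  have hTT : T * T = 0 := by
    ext v
    obtain ⟨r, rfl⟩ := hs v
    rw [Module.End.mul_apply, hTq, LinearMap.zero_apply]
    exact hTcomm _ _ (hcz r)
  refine ⟨hTT, ?_⟩
  have hb : x ^ p ∈ R := by
    apply hker
    rw [map_pow, hρx, rho_pow_of_sq hTT]
    have : p • T = 0 := by
      ext v
      rw [LinearMap.smul_apply, LinearMap.zero_apply]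
      exact hpM _
    rw [this, add_zero]
  refine ⟨hb, ?_, hTcomm _ _ (Subgroup.npow_mem_zpowers x p), ?_⟩
  · have hall : ∀ v, ∃ w : ℤ, T v = w • q ⟨x ^ p, hb⟩ := by
      intro v
      obtain ⟨r, rfl⟩ := hs v
      obtain ⟨m, hm⟩ := Subgroup.mem_zpowers_iff.1 (hcz r)
      have hdvd : (p : ℤ) ∣ m := by
        by_contra hnd
        have hcop : IsCoprime m (p : ℤ) := by
          rw [isCoprime_comm]
          exact (Nat.prime_iff_prime_int.1 hpp).coprime_iff_not_dvd.2 hnd
        obtain ⟨u, v, huv⟩ := hcop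
        apply hxR
        have e : x = (x ^ m) ^ u * (x ^ p) ^ v := by
          have h1 : x ^ (u * m + v * p) = x := by rw [huv, zpow_one]
          rw [← zpow_natCast, ← zpow_mul, ← zpow_mul, ← zpow_add]
          rw [mul_comm m u, mul_comm (p : ℤ) v]
          exact h1.symm
        rw [e]
        have h2 : x ^ m ∈ R := by
          rw [hm]
          exact hcm r
        exact mul_mem (zpow_mem h2 u) (zpow_mem hb v)
      obtain ⟨w, rfl⟩ := hdvd
      refine ⟨w, ?_⟩
      rw [hTq, ← q_zpow hq]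
      congr 1
      apply Subtype.ext
      show ⁅x, (r : G)⁆ = (x ^ p) ^ w
      rw [← hm, zpow_mul, zpow_natCast]
    exact hall
  · intro h0
    apply hxR
    apply hker
    rw [hρx]
    have : T = 0 := by
      ext v
      obtain ⟨r, rfl⟩ := hs v
      obtain ⟨m, hm⟩ := Subgroup.mem_zpowers_iff.1 (hcz r)
      have hdvd : (p : ℤ) ∣ m := by
        by_contra hnd
        have hcop : IsCoprime m (p : ℤ) := by
          rw [isCoprime_comm]
          exact (Nat.prime_iff_prime_int.1 hpp).coprime_iff_not_dvd.2 hnd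
        obtain ⟨u, v, huv⟩ := hcop
        apply hxR
        have e : x = (x ^ m) ^ u * (x ^ p) ^ v := by
          have h1 : x ^ (u * m + v * p) = x := by rw [huv, zpow_one]
          rw [← zpow_natCast, ← zpow_mul, ← zpow_mul, ← zpow_add]
          rw [mul_comm m u, mul_comm (p : ℤ) v]
          exact h1.symm
        rw [e]
        have h2 : x ^ m ∈ R := by
          rw [hm]
          exact hcm r
        exact mul_mem (zpow_mem h2 u) (zpow_mem hb v)
      obtain ⟨w, rfl⟩ := hdvd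
      rw [hTq, LinearMap.zero_apply]
      have e2 : (⟨⁅x, (r : G)⁆, hcm r⟩ : R) = (⟨x ^ p, hb⟩ : R) ^ w := by
        apply Subtype.ext
        show ⁅x, (r : G)⁆ = (x ^ p) ^ w
        rw [← hm, zpow_mul, zpow_natCast]
      rw [e2, q_zpow hq, h0, smul_zero]
    rw [this, add_zero]

end Transv

/-- A unipotent operator of order prime to the exponent is trivial. -/
theorem unip_of_cube {M : Type*} [AddCommGroup M] {z : Module.End ℤ M} (hz : z ^ 3 = 0) {N q : ℕ} (hN : (1 + z) ^ N = 1)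
    (hcop : Nat.Coprime N q) (hM : ∀ v : M, q • v = 0) : z = 0 := by
  have hz3 : z * z * z = 0 := by
    rw [← hz, pow_succ, pow_two]
  have hexp : ∀ n : ℕ, (1 + z) ^ n = 1 + n • z + (n.choose 2) • (z * z) := by
    intro n
    induction n with
    | zero => simp
    | succ n ih =>
      rw [pow_succ, ih]
      have h1 : (n + 1).choose 2 = n.choose 2 + n := by
        rw [Nat.choose_succ_succ' n 1, Nat.choose_one_right, add_comm]
      rw [h1, add_smul, add_smul, one_smul]
      simp only [add_mul, mul_add, one_mul, mul_one, smul_mul_assoc, hz3, smul_zero, add_zero]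
      abel
  have hbez : ∀ T : Module.End ℤ M, N • T = 0 → T = 0 := by
    intro T hT
    have hb := Nat.gcd_eq_gcd_ab N q
    rw [hcop.gcd_eq_one] at hb
    ext v
    rw [LinearMap.zero_apply]
    have h1 : N • T v = 0 := by
      have := congrArg (fun F : Module.End ℤ M => F v) hT
      simpa using this
    have h2 : q • T v = 0 := hM _
    have e : T v = ((1 : ℕ) : ℤ) • T v := by simp
    rw [e, hb, add_smul, mul_smul, mul_smul, smul_comm (N : ℤ), smul_comm (q : ℤ), natCast_zsmul, natCast_zsmul, h1, h2,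
      smul_zero, smul_zero, add_zero]
  have h1 := hexp N
  rw [hN] at h1
  have h2 : N • z + (N.choose 2) • (z * z) = 0 := by
    have h3 : (1 : Module.End ℤ M) + (N • z + (N.choose 2) • (z * z)) = 1 := by
      rw [← add_assoc]
      exact h1.symm
    exact left_eq_add.1 h3.symm |> fun h => h
  have h4 : N • (z * z) = 0 := by
    have h5 := congrArg (fun F => F * z) h2
    simp only [add_mul, smul_mul_assoc, hz3, smul_zero, add_zero, zero_mul] at h5
    exact h5
  have h6 := hbez _ h4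
  rw [h6, smul_zero, add_zero] at h2
  exact hbez _ h2

theorem coe_nm_conjNormal' {G : Type*} [Group G] (R : Subgroup G) [R.Normal] (x : G) (k : ℕ) (u : R) :
    ((nm (MulAut.conjNormal x) k u : R) : G) = nm (MulAut.conj x) k (u : G) := by
  induction k with
  | zero => rfl
  | succ k ih =>
    rw [nm_succ, nm_succ, Subgroup.coe_mul, ih, ← map_pow, ← map_pow, MulAut.conjNormal_apply]
    rfl

theorem exists_inv_mod {p : ℕ} [hp : Fact p.Prime] (γ e : ℤ) (hγ : ¬ (p : ℤ) ∣ γ) : ∃ n : ℕ, (p : ℤ) ∣ (n : ℤ) * γ - e := by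
  have h0 : (γ : ZMod p) ≠ 0 := by
    rw [Ne, ZMod.intCast_zmod_eq_zero_iff_dvd]
    exact hγ
  refine ⟨(((γ : ZMod p))⁻¹ * (e : ZMod p)).val, ?_⟩
  rw [← ZMod.intCast_zmod_eq_zero_iff_dvd]
  push_cast
  rw [ZMod.natCast_val, ZMod.cast_id', id]
  field_simp
  ring

/-- The main argument. -/
theorem main_core {G : Type u} [Group G] [Finite G] {p : ℕ} [hp : Fact p.Prime] (hsol : IsPSolvable p G)
    (hcore : pPrimeCore p G = ⊥) (x : G) (hxp : IsPGroup p (Subgroup.zpowers x))
    (hnorm : ∀ r ∈ pCore p G, r * x * r⁻¹ ∈ Subgroup.zpowers x)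
    (h : p ≠ 2 ∨ ¬ Involves (Equiv.Perm (Fin 4)) G) : x ∈ pCore p G := by
  have hpp := hp.out
  by_contra hxR
  obtain ⟨M, _, q, ρ, hq, hs, hpM, hρ, hker, hker', hfr⟩ := exists_frat_module hsol hcore
  -- `p`-divisible scalars
  have hzs : ∀ (m : ℤ) (v : M), (p : ℤ) ∣ m → m • v = 0 := by
    rintro m v ⟨k, rfl⟩
    rw [mul_smul, smul_comm, natCast_zsmul, hpM, smul_zero]
  have hcong : ∀ (m m' : ℤ) (v : M), (p : ℤ) ∣ m - m' → m • v = m' • v := by
    intro m m' v hd
    have h1 := hzs _ v hd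
    rw [sub_smul, sub_eq_zero] at h1
    exact h1
  have hzE : ∀ (m : ℤ) (T : Module.End ℤ M), (p : ℤ) ∣ m → m • T = 0 := by
    intro m T hd
    ext v
    rw [LinearMap.smul_apply, LinearMap.zero_apply]
    exact hzs m _ hd
  have hcongE : ∀ (m m' : ℤ) (T : Module.End ℤ M), (p : ℤ) ∣ m - m' → m • T = m' • T := by
    intro m m' T hd
    have h1 := hzE _ T hd
    rw [sub_smul, sub_eq_zero] at h1
    exact h1
  -- the element `y`
  let H := G ⧸ pCore p G
  let π : G →* H := QuotientGroup.mk' (pCore p G)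
  have hπ : Function.Surjective π := QuotientGroup.mk'_surjective (pCore p G)
  have hπ1 : ∀ g, π g = 1 ↔ g ∈ pCore p G := fun g => QuotientGroup.eq_one_iff g
  have hQcop : (Nat.card (pPrimeCore p H)).Coprime p := card_pPrimeCore_coprime p
  have hcent := centralizer_pPrimeCore_le (isPSolvable_quotient hsol (pCore p G)) (pCore_quotient_pCore p)
  have hxb1 : π x ∉ Subgroup.centralizer (pPrimeCore p H : Set H) := by
    intro hc
    have h1 : π x ∈ pPrimeCore p H := hcent hc
    obtain ⟨n, hn⟩ := (IsPGroup.iff_orderOf).1 hxp ⟨x, Subgroup.mem_zpowers x⟩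
    have h2 : x ^ p ^ n = 1 := by
      have h3 : orderOf x = p ^ n := by
        rw [← hn]
        exact (Subgroup.orderOf_mk x _).symm
      rw [← h3, pow_orderOf_eq_one]
    have h3 : (⟨π x, h1⟩ : pPrimeCore p H) ^ p ^ n = 1 := by
      apply Subtype.ext
      show π x ^ p ^ n = 1
      rw [← map_pow, h2, map_one]
    have h4 := Nat.eq_one_of_dvd_coprimes (hQcop.pow_right n) (orderOf_dvd_natCard _) (orderOf_dvd_of_pow_eq_one h3)
    have h5 := orderOf_eq_one_iff.1 h4
    exact hxR ((hπ1 x).1 (congrArg Subtype.val h5))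
  obtain ⟨yb, hyb, hne⟩ : ∃ yb ∈ pPrimeCore p H, yb * π x ≠ π x * yb := by
    by_contra hcon
    push Not at hcon
    apply hxb1
    rw [Subgroup.mem_centralizer_iff]
    exact fun h hh => hcon h hh
  obtain ⟨y, rfl⟩ := hπ yb
  set x₂ := y * x * y⁻¹ with hx₂
  have hnorm₂ : ∀ r ∈ pCore p G, r * x₂ * r⁻¹ ∈ Subgroup.zpowers x₂ := by
    intro r hr
    have hr' : y⁻¹ * r * y⁻¹⁻¹ ∈ pCore p G := (inferInstance : (pCore p G).Normal).conj_mem _ hr y⁻¹
    obtain ⟨z, hz⟩ := Subgroup.mem_zpowers_iff.1 (hnorm _ hr')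
    refine Subgroup.mem_zpowers_iff.2 ⟨z, ?_⟩
    rw [hx₂, conj_zpow, hz]
    group
  have hx₂R : x₂ ∉ pCore p G := by
    intro hc
    apply hxR
    have h1 := (inferInstance : (pCore p G).Normal).conj_mem _ hc y⁻¹
    have e : y⁻¹ * x₂ * y⁻¹⁻¹ = x := by rw [hx₂]; group
    rwa [e] at h1
  obtain ⟨hT1, hb1, hv1, hTb1, hbne1⟩ := transv hq hs hpM hρ hker x hnorm hxR
  obtain ⟨hT2, hb2, hv2, hTb2, hbne2⟩ := transv hq hs hpM hρ hker x₂ hnorm₂ hx₂R
  set T₁ := ρ x - 1 with hT₁
  set T₂ := ρ x₂ - 1 with hT₂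
  set b₁ := q ⟨x ^ p, hb1⟩ with hb₁
  set b₂ := q ⟨x₂ ^ p, hb2⟩ with hb₂
  have hρ1 : ρ x = 1 + T₁ := by rw [hT₁]; abel
  have hρ2 : ρ x₂ = 1 + T₂ := by rw [hT₂]; abel
  -- the element `c`
  set c := x⁻¹ * x₂ with hc
  have hρinv : ρ x⁻¹ = 1 - T₁ := by
    have h1 : ρ x * (1 - T₁) = 1 := by
      rw [hρ1, add_mul, one_mul, mul_sub, mul_one, hT1]
      abel
    have h2 : ρ x⁻¹ * ρ x = 1 := by
      rw [← map_mul, inv_mul_cancel, map_one]
    calc ρ x⁻¹ = ρ x⁻¹ * (ρ x * (1 - T₁)) := by rw [h1, mul_one]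
      _ = 1 - T₁ := by rw [← mul_assoc, h2, one_mul]
  have hρc : ρ c = 1 + ((1 - T₁) * (1 + T₂) - 1) := by
    rw [hc, map_mul, hρinv, hρ2]
    abel
  have hcQ : π c ∈ pPrimeCore p H := by
    have e : π c = (π x)⁻¹ * π y * π x * (π y)⁻¹ := by
      rw [hc, hx₂]
      simp only [map_mul, map_inv]
      group
    have h1 := (inferInstance : (pPrimeCore p H).Normal).conj_mem _ hyb (π x)⁻¹
    have e2 : π c = ((π x)⁻¹ * π y * (π x)⁻¹⁻¹) * (π y)⁻¹ := by
      rw [e]
      group
    rw [e2]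
    exact mul_mem h1 (inv_mem hyb)
  have hc1 : π c ≠ 1 := by
    intro h0
    apply hne
    have e : π c = (π x)⁻¹ * π y * π x * (π y)⁻¹ := by
      rw [hc, hx₂]
      simp only [map_mul, map_inv]
      group
    rw [e] at h0
    have h1 : (π x)⁻¹ * (π y * π x) * (π y)⁻¹ = 1 := by
      rw [← h0]
      group
    have h2 : π y * π x = π x * π y := by
      calc π y * π x = π x * ((π x)⁻¹ * (π y * π x) * (π y)⁻¹) * π y := by group
        _ = π x * 1 * π y := by rw [h1]
        _ = π x * π y := by group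
    exact h2
  have hnz : ¬ (T₁ * T₂ = 0 ∨ T₂ * T₁ = 0) := by
    intro hor
    have h3 := unip3 T₁ T₂ hT1 hT2 hor
    set z := (1 - T₁) * (1 + T₂) - 1 with hz
    set N := orderOf (⟨π c, hcQ⟩ : pPrimeCore p H) with hN
    have hNcop : Nat.Coprime N p := Nat.Coprime.coprime_dvd_left (orderOf_dvd_natCard _) hQcop
    have hcN : c ^ N ∈ pCore p G := by
      rw [← hπ1, map_pow]
      have h4 : (⟨π c, hcQ⟩ : pPrimeCore p H) ^ N = 1 := pow_orderOf_eq_one _
      exact congrArg Subtype.val h4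
    have h5 : (1 + z) ^ N = 1 := by
      rw [← hρc, ← map_pow]
      exact hker' _ hcN
    have hz0 := unip_of_cube h3 h5 hNcop hpM
    apply hc1
    rw [hπ1]
    apply hker
    rw [hρc, hz0, add_zero]
  have hT1b2 : T₁ b₂ ≠ 0 := by
    intro h0
    apply hnz
    left
    ext v
    obtain ⟨w, hw⟩ := hv2 v
    rw [Module.End.mul_apply, hw, map_smul, h0, smul_zero, LinearMap.zero_apply]
  have hT2b1 : T₂ b₁ ≠ 0 := by
    intro h0
    apply hnz
    right
    ext v
    obtain ⟨w, hw⟩ := hv1 v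
    rw [Module.End.mul_apply, hw, map_smul, h0, smul_zero, LinearMap.zero_apply]
  obtain ⟨α, hα⟩ := hv1 b₂
  obtain ⟨β, hβ⟩ := hv2 b₁
  have hαp : ¬ (p : ℤ) ∣ α := fun hd => hT1b2 (by rw [hα, hzs α _ hd])
  have hβp : ¬ (p : ℤ) ∣ β := fun hd => hT2b1 (by rw [hβ, hzs β _ hd])
  by_cases hp2 : p = 2
  · -- the prime two
    have hnI : ¬ Involves (Equiv.Perm (Fin 4)) G := h.resolve_left (not_not.2 hp2)
    apply hnI
    let Φ' : Subgroup G := (frattini (pCore p G)).map (pCore p G).subtype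
    haveI hΦn : Φ'.Normal := by
      constructor
      rintro _ ⟨r, hr, rfl⟩ g
      refine ⟨MulAut.conjNormal g r, char_mem _ _ hr, ?_⟩
      rfl
    let X := G ⧸ Φ'
    let πX : G →* X := QuotientGroup.mk' Φ'
    have hπX : Function.Surjective πX := QuotientGroup.mk'_surjective Φ'
    have hmk : ∀ r s : pCore p G, q r = q s → πX (r : G) = πX (s : G) := by
      intro r s hrs
      have h1 : r⁻¹ * s ∈ frattini (pCore p G) := by
        rw [← hfr, hq, q_inv hq, hrs, neg_add_cancel]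
      have h2 : (r : G)⁻¹ * s ∈ Φ' := ⟨r⁻¹ * s, h1, rfl⟩
      exact (QuotientGroup.eq).2 h2
    have hmk0 : ∀ r : pCore p G, q r = 0 → πX (r : G) = 1 := by
      intro r hr
      have h1 := hmk r 1 (by rw [hr, q_one hq])
      rw [h1]
      exact map_one _
    have hne0 : ∀ r : pCore p G, q r ≠ 0 → πX (r : G) ≠ 1 := by
      intro r hr h0
      apply hr
      rw [hfr]
      have h1 : (r : G) ∈ Φ' := (QuotientGroup.eq_one_iff _).1 h0
      obtain ⟨s, hs', hs''⟩ := h1
      have : s = r := Subtype.ext hs''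
      rwa [← this]
    have hodd : ∀ (γ : ℤ) (v : M), ¬ (p : ℤ) ∣ γ → γ • v = v := by
      intro γ v hγ
      have h1 := hcong γ 1 v (by
        rw [hp2]
        rw [hp2] at hγ
        push_cast at hγ ⊢
        omega)
      rwa [one_smul] at h1
    have hpM2 : ∀ v : M, v + v = 0 := by
      intro v
      have h1 := hpM v
      rw [hp2, two_smul] at h1
      exact h1
    set P₁ : pCore p G := ⟨x ^ p, hb1⟩ with hP₁
    set P₂ : pCore p G := ⟨x₂ ^ p, hb2⟩ with hP₂
    have hw : πX (P₁ : G) * πX (P₁ : G) = 1 := by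
      rw [← map_mul]
      exact hmk0 (P₁ * P₁) (by rw [hq]; exact hpM2 _)
    have hw' : πX (P₂ : G) * πX (P₂ : G) = 1 := by
      rw [← map_mul]
      exact hmk0 (P₂ * P₂) (by rw [hq]; exact hpM2 _)
    have hcw : πX (P₁ : G) * πX (P₂ : G) = πX (P₂ : G) * πX (P₁ : G) := by
      rw [← map_mul, ← map_mul]
      exact hmk (P₁ * P₂) (P₂ * P₁) (by rw [hq, hq, add_comm])
    have hne12 : πX (P₁ : G) ≠ πX (P₂ : G) := by
      intro h0
      have h1 : πX ((P₁⁻¹ * P₂ : pCore p G) : G) = 1 := by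
        rw [Subgroup.coe_mul, Subgroup.coe_inv, map_mul, map_inv, ← h0, inv_mul_cancel]
      by_cases h2 : q (P₁⁻¹ * P₂) = 0
      · -- then `b₁ = b₂`
        have h3 : b₂ = b₁ := by
          rw [hq, q_inv hq] at h2
          have h4 : b₂ = - (- b₂) := (neg_neg _).symm
          exact (neg_add_eq_zero.1 h2).symm
        rw [h3] at hT1b2
        exact hT1b2 hTb1
      · exact hne0 _ h2 h1
    have hconj1 : πX x * πX (P₂ : G) * (πX x)⁻¹ = πX (P₁ : G) * πX (P₂ : G) := by
      rw [← map_inv, ← map_mul, ← map_mul, ← map_mul]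
      have e : x * (P₂ : G) * x⁻¹ = ((MulAut.conjNormal x P₂ : pCore p G) : G) := rfl
      rw [e, ← Subgroup.coe_mul]
      refine hmk _ _ ?_
      rw [← hρ, hρ1, LinearMap.add_apply, Module.End.one_apply, hq]
      change b₂ + T₁ b₂ = b₁ + b₂
      rw [hα, hodd α _ hαp, add_comm]
    have hconj2 : πX x₂ * πX (P₁ : G) * (πX x₂)⁻¹ = πX (P₁ : G) * πX (P₂ : G) := by
      rw [← map_inv, ← map_mul, ← map_mul, ← map_mul]
      have e : x₂ * (P₁ : G) * x₂⁻¹ = ((MulAut.conjNormal x₂ P₁ : pCore p G) : G) := rfl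
      rw [e, ← Subgroup.coe_mul]
      refine hmk _ _ ?_
      rw [← hρ, hρ2, LinearMap.add_apply, Module.End.one_apply, hq]
      change b₁ + T₂ b₁ = b₁ + b₂
      rw [hβ, hodd β _ hβp]
    have hfix1 : πX x * πX (P₁ : G) * (πX x)⁻¹ = πX (P₁ : G) := by
      rw [← map_inv, ← map_mul, ← map_mul]
      congr 1
      show x * x ^ p * x⁻¹ = x ^ p
      rw [← pow_succ', pow_succ]
      group
    have hfix2 : πX x₂ * πX (P₂ : G) * (πX x₂)⁻¹ = πX (P₂ : G) := by
      rw [← map_inv, ← map_mul, ← map_mul]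
      congr 1
      show x₂ * x₂ ^ p * x₂⁻¹ = x₂ ^ p
      rw [← pow_succ', pow_succ]
      group
    have hInv := Cfsg.Agent.Lib.PermFourSection.of_elements hw hw' hcw (hne0 _ hbne1) (hne0 _ hbne2) hne12
      hfix1 hconj1 hfix2 hconj2
    exact Cfsg.Agent.Lib.InvolvesAPI.Involves.trans hInv (Cfsg.Agent.Lib.InvolvesAPI.involves_of_surj_top πX hπX)
  · -- `p` odd
    have hpodd : Odd p := hpp.odd_of_ne_two hp2
    have hp3 : 3 ≤ p := by
      have := hpp.two_le
      omega
    obtain ⟨a, ha⟩ := exists_inv_mod (p := p) α 1 hαp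
    obtain ⟨e, he⟩ := exists_inv_mod (p := p) β (-1) hβp
    obtain ⟨k₁, hk₁⟩ := ha
    obtain ⟨k₂, hk₂⟩ := he
    have hk₂' : (e : ℤ) * β + 1 = p * k₂ := by
      rw [← hk₂]
      ring
    set X' := (a : ℤ) • T₁ with hX'
    set Y' := (e : ℤ) • T₂ with hY'
    have hρa : ρ (x ^ a) = 1 + X' := by
      rw [map_pow, hρ1, rho_pow_of_sq hT1, hX', natCast_zsmul]
    have hρe : ρ (x₂ ^ e) = 1 + Y' := by
      rw [map_pow, hρ2, rho_pow_of_sq hT2, hY', natCast_zsmul]
    have hXX : X' * X' = 0 := by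
      rw [hX', smul_mul_assoc, mul_smul_comm, hT1, smul_zero, smul_zero]
    have hYY : Y' * Y' = 0 := by
      rw [hY', smul_mul_assoc, mul_smul_comm, hT2, smul_zero, smul_zero]
    have h121 : T₁ * T₂ * T₁ = (α * β) • T₁ := by
      ext v
      obtain ⟨w, hw⟩ := hv1 v
      rw [Module.End.mul_apply, Module.End.mul_apply, LinearMap.smul_apply, hw, map_smul, map_smul, hβ, map_smul, hα,
        smul_smul, smul_smul, smul_smul]
      congr 1
      ring
    have h212 : T₂ * T₁ * T₂ = (α * β) • T₂ := by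
      ext v
      obtain ⟨w, hw⟩ := hv2 v
      rw [Module.End.mul_apply, Module.End.mul_apply, LinearMap.smul_apply, hw, map_smul, map_smul, hα, map_smul, hβ,
        smul_smul, smul_smul, smul_smul]
      congr 1
      ring
    have hXYX : X' * Y' * X' = -X' := by
      have e1 : X' * Y' * X' = ((a : ℤ) * e * a * (α * β)) • T₁ := by
        rw [hX', hY']
        simp only [smul_mul_assoc, mul_smul_comm, h121, smul_smul]
        congr 1
        ring
      rw [e1, hX', ← neg_smul]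
      refine hcongE _ _ _ ⟨a * (k₁ * (e * β) + k₂), ?_⟩
      linear_combination ((a : ℤ) * (e * β)) * hk₁ + (a : ℤ) * hk₂'
    have hYXY : Y' * X' * Y' = -Y' := by
      have e1 : Y' * X' * Y' = ((e : ℤ) * a * e * (α * β)) • T₂ := by
        rw [hX', hY']
        simp only [smul_mul_assoc, mul_smul_comm, h212, smul_smul]
        congr 1
        ring
      rw [e1, hY', ← neg_smul]
      refine hcongE _ _ _ ⟨e * (k₁ * (e * β) + k₂), ?_⟩
      linear_combination ((e : ℤ) * (e * β)) * hk₁ + (e : ℤ) * hk₂'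
    obtain ⟨hz1, hz2⟩ := weyl X' Y' hXX hYY hXYX hYXY
    set g := x ^ a * x₂ ^ e * x ^ a with hg
    have hρg : ρ g = (1 + X') * (1 + Y') * (1 + X') := by
      rw [hg, map_mul, map_mul, hρa, hρe]
    set zz := g * g with hzz
    have hρz : ρ zz = ((1 + X') * (1 + Y') * (1 + X')) * ((1 + X') * (1 + Y') * (1 + X')) := by
      rw [hzz, map_mul, hρg]
    rw [← hρz] at hz1 hz2
    have hT₁X : (α • X') = T₁ := by
      rw [hX', smul_smul]
      have h1 := hcongE (α * a) 1 T₁ ⟨k₁, by rw [← hk₁]; ring⟩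
      rwa [one_smul] at h1
    have hzT1 : ρ zz * T₁ = -T₁ := by
      rw [← hT₁X, mul_smul_comm, hz1, smul_neg]
    have hT1z : T₁ * ρ zz = -T₁ := by
      rw [← hT₁X, smul_mul_assoc, hz2, smul_neg]
    have hcomm : ρ (zz * x) = ρ (x * zz) := by
      rw [map_mul ρ zz x, map_mul ρ x zz, hρ1, mul_add, add_mul, mul_one, one_mul, hzT1, hT1z]
    have hu : ⁅zz, x⁆ ∈ pCore p G := by
      apply hker
      have e1 : ⁅zz, x⁆ = (zz * x) * (x * zz)⁻¹ := by
        simp [commutatorElement_def, mul_assoc]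
      rw [e1, map_mul, hcomm, ← map_mul, mul_inv_cancel, map_one]
    -- the power computation
    have hpow1 : (zz * x * zz⁻¹) ^ p = zz * x ^ p * zz⁻¹ := conj_pow
    have e2 : zz * x * zz⁻¹ = ⁅zz, x⁆ * x := by
      simp [commutatorElement_def, mul_assoc]
    rw [e2, Cfsg.Agent.Lib.MaxExp.mul_pow_conj] at hpow1
    have hel : (MulAut.conjNormal zz ⟨x ^ p, hb1⟩ : pCore p G)
        = nm (MulAut.conjNormal x) p ⟨⁅zz, x⁆, hu⟩ * ⟨x ^ p, hb1⟩ := by
      apply Subtype.ext
      rw [Subgroup.coe_mul, coe_nm_conjNormal']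
      exact hpow1.symm
    have h3 := congrArg q hel
    rw [← hρ, hq, q_sum_nm hq hρ] at h3
    -- the sum vanishes
    have hsum : (∑ i ∈ Finset.range p, ρ x ^ i) (q ⟨⁅zz, x⁆, hu⟩) = 0 := by
      rw [hρ1]
      rw [Cfsg.Agent.Lib.MaxExp.sig_apply hpp T₁ _ (fun l _ _ => hpM _) ?_, hpM]
      obtain ⟨m, hm⟩ : ∃ m, p - 1 = m + 2 := ⟨p - 3, by omega⟩
      rw [hm, pow_succ, pow_succ, mul_assoc, hT1, mul_zero, LinearMap.zero_apply]
    rw [hsum, zero_add] at h3
    -- `z` acts as `-1` on `b₁`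
    have hXb : X' b₂ = b₁ := by
      rw [hX', LinearMap.smul_apply, hα, smul_smul]
      have h1 := hcong ((a : ℤ) * α) 1 b₁ ⟨k₁, hk₁⟩
      rwa [one_smul] at h1
    have hzb : ρ zz b₁ = - b₁ := by
      have h4 := congrArg (fun F : Module.End ℤ M => F b₂) hz1
      simp only [Module.End.mul_apply, LinearMap.neg_apply] at h4
      rwa [hXb] at h4
    rw [hzb] at h3
    -- contradiction
    obtain ⟨m, hm⟩ := hpodd
    apply hbne1
    have h5 := hpM b₁
    rw [hm, add_smul, one_smul, mul_comm, mul_smul, two_smul] at h5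
    have h6 : b₁ + b₁ = 0 := by
      have h7 : - b₁ = b₁ := h3
      have h8 : b₁ + b₁ = (- b₁) + b₁ := by rw [h7]
      rw [h8, neg_add_cancel]
    rw [h6, smul_zero, zero_add] at h5
    exact h5

/-- Let G be a finite p-soluble group, P a Sylow p-subgroup of G and A a cyclic normal subgroup of P. If p is odd, or if no section of G is isomorphic to the symmetric group of degree 4, then A ≤ O_{p',p}(G). -/
theorem result {G : Type*} [Group G] [Finite G] {p : ℕ} [Fact p.Prime] (hG : Cfsg.IsPSolvable p G) (P : Sylow p G) (A : Subgroup G) (hAP : A ≤ (P : Subgroup G)) (hAn : (P : Subgroup G) ≤ Subgroup.normalizer (A : Set G)) (hA : IsCyclic A) (h : p ≠ 2 ∨ ¬ Cfsg.Involves (Equiv.Perm (Fin 4)) G) : A ≤ Cfsg.pPrimePCore p G := by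
  obtain ⟨⟨x, hx⟩, hgen⟩ := hA.exists_generator
  have hAz : ∀ a ∈ A, ∃ z : ℤ, a = x ^ z := by
    intro a ha
    obtain ⟨z, hz⟩ := Subgroup.mem_zpowers_iff.1 (hgen ⟨a, ha⟩)
    refine ⟨z, ?_⟩
    have := congrArg Subtype.val hz
    simpa using this.symm
  let N := pPrimeCore p G
  let π : G →* G ⧸ N := QuotientGroup.mk' N
  have hπ : Function.Surjective π := QuotientGroup.mk'_surjective N
  have hmain : π x ∈ pCore p (G ⧸ N) := by
    refine main_core (isPSolvable_quotient hG N) (pPrimeCore_quotient_pPrimeCore p) (π x) ?_ ?_ ?_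
    · have h1 : π x ∈ ((P.mapSurjective hπ : Sylow p (G ⧸ N)) : Subgroup (G ⧸ N)) := by
        rw [Sylow.coe_mapSurjective]
        exact ⟨x, hAP hx, rfl⟩
      exact (P.mapSurjective hπ).isPGroup'.to_le (Subgroup.zpowers_le.2 h1)
    · intro r hr
      have h1 := pCore_le_sylow p (P.mapSurjective hπ) hr
      rw [Sylow.coe_mapSurjective] at h1
      obtain ⟨g, hg, rfl⟩ := h1
      have h2 : g * x * g⁻¹ ∈ A := (Subgroup.mem_normalizer_iff.1 (hAn hg) x).1 hx
      obtain ⟨z, hz⟩ := hAz _ h2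
      refine Subgroup.mem_zpowers_iff.2 ⟨z, ?_⟩
      rw [← map_zpow, ← hz, map_mul, map_mul, map_inv]
    · rcases h with h | h
      · exact Or.inl h
      · right
        intro hI
        exact h (Cfsg.Agent.Lib.InvolvesAPI.Involves.trans hI (Cfsg.Agent.Lib.InvolvesAPI.involves_of_surj_top π hπ))
  intro a ha
  obtain ⟨z, rfl⟩ := hAz a ha
  show π (x ^ z) ∈ pCore p (G ⧸ N)
  rw [map_zpow]
  exact zpow_mem hmain z

end Cfsg.Agent.S3788
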