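-- Shult--Gross: Fitting height of a group with a fixed-point-free automorphism of odd prime-power order.
import Cfsg.Statements.S3793
import Cfsg.Agent.Lib.HHMain

set_option autoImplicit false
open Cfsg

namespace Cfsg.Agent.S3793

open Cfsg.Agent.Lib.HHMain Cfsg.Agent.Lib.HHChar Cfsg.Agent.Lib.PCore Cfsg.Agent.Lib.HHFermat

universe u

theorem chain {p : ℕ} (hp : p.Prime) (hp2 : p ≠ 2) : ∀ (n : ℕ) (G : Type u) [Group G] [Finite G],
    Group.IsSolvable G → ∀ σ : MulAut G, σ ^ (p ^ n) = 1 → (∀ g, σ g = g → g = 1) →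
    ∃ F : Fin (n + 1) → Subgroup G, F 0 = ⊥ ∧ F (Fin.last n) = ⊤ ∧ Monotone F ∧ (∀ i, (F i).Normal) ∧
      ∀ i : Fin n, ∃ k : ℕ, (F i.succ).lowerCentralSeries k ≤ F i.castSucc := by
  intro n
  induction n with
  | zero =>
    intro G _ _ hsolv σ hσ hfpf
    have hσ1 : σ = 1 := by simpa using hσ
    have htriv : ∀ g : G, g = 1 := fun g => hfpf g (by rw [hσ1]; rfl)
    have hbt : (⊥ : Subgroup G) = ⊤ := by
      rw [eq_top_iff]
      intro g _
      rw [htriv g]
      exact Subgroup.one_mem _
    exact ⟨fun _ => ⊥, rfl, hbt, monotone_const, fun _ => inferInstance, fun i => i.elim0⟩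
  | succ n ih =>
    intro G _ _ hsolv σ hσ hfpf
    have := hsolv
    have hpnpos : 0 < p ^ (n + 1) := pow_pos hp.pos _
    have hA : ∀ g, (σ ^ (p ^ n)) g * g⁻¹ ∈ fittingSubgroup G :=
      theorem_A hp hp2 (Nat.succ_pos n) _ G rfl hsolv σ hσ hfpf
    have hinv : ∀ s, s ∈ fittingSubgroup G ↔ σ s ∈ fittingSubgroup G := by
      refine inv_iff_of_pow_eq_one σ _ ?_ hpnpos hσ
      intro s hs
      exact (Subgroup.characteristic_iff_le_comap.mp (instFittingCharacteristic (G := G))) σ hs
    let σ₁ : MulAut (G ⧸ fittingSubgroup G) := autQuot σ (fittingSubgroup G) hinv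
    have hσ₁ : σ₁ ^ (p ^ n) = 1 := by
      ext x
      induction x using QuotientGroup.induction_on with
      | H y =>
        rw [autQuot_pow_mk]
        have h := hA y
        rw [← div_eq_mul_inv, ← QuotientGroup.eq_iff_div_mem] at h
        exact h
    have hfpf₁ : ∀ x : G ⧸ fittingSubgroup G, σ₁ x = x → x = 1 := by
      intro x
      induction x using QuotientGroup.induction_on with
      | H y =>
        intro h
        have h7 : ((σ y : G) : G ⧸ fittingSubgroup G) = (y : G ⧸ fittingSubgroup G) := h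
        rw [QuotientGroup.eq_iff_div_mem, div_eq_mul_inv] at h7
        exact (QuotientGroup.eq_one_iff y).mpr
          (fpf_quot_generic σ hfpf _ (fun m hm => (hinv m).mp hm) h7)
    obtain ⟨F₁, h0, hl, hm, hN, hk⟩ := ih (G ⧸ fittingSubgroup G) inferInstance σ₁ hσ₁ hfpf₁
    let π := QuotientGroup.mk' (fittingSubgroup G)
    let F : Fin (n + 2) → Subgroup G := Fin.cons ⊥ (fun i => (F₁ i).comap π)
    have hF0 : F 0 = ⊥ := rfl
    have hFs : ∀ i, F i.succ = (F₁ i).comap π := fun i => rfl
    refine ⟨F, hF0, ?_, ?_, ?_, ?_⟩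
    · rw [← Fin.succ_last, hFs, hl]
      rfl
    · rw [Fin.monotone_iff_le_succ]
      intro i
      induction i using Fin.cases with
      | zero =>
        rw [Fin.castSucc_zero, hF0]
        exact bot_le
      | succ j =>
        rw [← Fin.succ_castSucc, hFs, hFs]
        exact Subgroup.comap_mono (hm (Fin.castSucc_le_succ j))
    · intro i
      induction i using Fin.cases with
      | zero => rw [hF0]; infer_instance
      | succ j =>
        rw [hFs]
        exact (hN j).comap _
    · intro i
      induction i using Fin.cases with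
      | zero =>
        have h1 : F (Fin.succ 0) = fittingSubgroup G := by
          rw [hFs, h0]
          ext x
          simp [π, QuotientGroup.eq_one_iff]
        rw [Fin.castSucc_zero, hF0, h1]
        haveI : Group.IsNilpotent (fittingSubgroup G) := isNilpotent_fittingSubgroup
        obtain ⟨k, hk'⟩ := (Subgroup.isNilpotent_iff_lowerCentralSeries _).mp this
        exact ⟨k, hk'.le⟩
      | succ j =>
        obtain ⟨k, hk'⟩ := hk j
        refine ⟨k, ?_⟩
        rw [← Fin.succ_castSucc, hFs, hFs, ← Subgroup.map_le_iff_le_comap,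
          Subgroup.map_lowerCentralSeries,
          Subgroup.map_comap_eq_self_of_surjective (QuotientGroup.mk'_surjective _)]
        exact hk'

/-- The Shult–Gross Theorem: let p be an odd prime and G a finite solvable group with an automorphism σ of order p^n fixing only the identity. Then G has Fitting height at most n: G has Fitting height at most m when there is a chain of normal subgroups 1 = F₀ ≤ F₁ ≤ ⋯ ≤ F_m = G with each F_{i+1}/F_i nilpotent. -/
theorem result {G : Type*} [Group G] [Finite G] (hG : Group.IsSolvable G) {p : ℕ} (hp : p.Prime) (hp2 : p ≠ 2) (σ : MulAut G) (n : ℕ) (hσ : orderOf σ = p ^ n) (hfpf : ∀ g : G, σ g = g → g = 1) : ∃ F : Fin (n + 1) → Subgroup G, F 0 = ⊥ ∧ F (Fin.last n) = ⊤ ∧ Monotone F ∧ (∀ i, (F i).Normal) ∧ ∀ i : Fin n, ∃ k : ℕ, (F i.succ).lowerCentralSeries k ≤ F i.castSucc := by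
  exact chain hp hp2 n G hG σ (hσ ▸ pow_orderOf_eq_one σ) hfpf

end Cfsg.Agent.S3793
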