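-- Ward's theorem: Fitting height at most two for a fixed-point-free elementary abelian group of order p².
import Cfsg.Statements.S3796
import Cfsg.Agent.Lib.WardKey

set_option autoImplicit false
open Cfsg

namespace Cfsg.Agent.S3796

open Cfsg.Agent.Lib.WardKey Cfsg.Agent.Lib.PCore

/-- Ward's Theorem: let G be a finite solvable group and A an elementary abelian group of automorphisms of G of order p² (p a prime) with no non-identity common fixed point. Then G has Fitting height at most 2: G has Fitting height at most m when there is a chain of normal subgroups 1 = F₀ ≤ F₁ ≤ ⋯ ≤ F_m = G with each F_{i+1}/F_i nilpotent. -/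
theorem result {G : Type*} [Group G] [Finite G] (hG : Group.IsSolvable G) {p : ℕ} (hp : p.Prime) (A : Subgroup (MulAut G)) (hA : Cfsg.IsElementaryAbelian p A) (hcard : Nat.card A = p ^ 2) (hfpf : ∀ g : G, (∀ a ∈ A, a g = g) → g = 1) : ∃ F : Fin (2 + 1) → Subgroup G, F 0 = ⊥ ∧ F (Fin.last 2) = ⊤ ∧ Monotone F ∧ (∀ i, (F i).Normal) ∧ ∀ i : Fin 2, ∃ k : ℕ, (F i.succ).lowerCentralSeries k ≤ F i.castSucc := by
  classical
  obtain ⟨hAc, hAp⟩ := hA
  letI : Fintype A := Fintype.ofFinite _
  letI instA : CommGroup A :=
    { (inferInstance : Group A) with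
      mul_comm := fun a b => hAc.is_comm.comm a b }
  let φ : A →* MulAut G := A.subtype
  obtain ⟨k₂, hk₂⟩ := theorem_W hp (A := A) (fun x => Subtype.ext (hAp x x.2)) hcard _ G rfl hG φ
    (fun g hg => hfpf g fun a ha => hg ⟨a, ha⟩)
  haveI := hG
  let F : Fin (2 + 1) → Subgroup G := ![⊥, fittingSubgroup G, ⊤]
  refine ⟨F, rfl, rfl, ?_, ?_, ?_⟩
  · rw [Fin.monotone_iff_le_succ]
    intro i
    fin_cases i
    · exact bot_le
    · exact le_top
  · intro i
    fin_cases i
    · show (⊥ : Subgroup G).Normal
      infer_instance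
    · show (fittingSubgroup G).Normal
      infer_instance
    · show (⊤ : Subgroup G).Normal
      infer_instance
  · intro i
    fin_cases i
    · haveI : Group.IsNilpotent (fittingSubgroup G) := isNilpotent_fittingSubgroup
      obtain ⟨k, hk⟩ := (Subgroup.isNilpotent_iff_lowerCentralSeries _).mp this
      exact ⟨k, hk.le⟩
    · exact ⟨k₂, hk₂⟩

end Cfsg.Agent.S3796
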