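import Mathlib
import Cfsg.Statements.S3797
import Cfsg.Agent.Lib.OneClassZ

set_option autoImplicit false
open Cfsg

namespace Cfsg.Agent.S3797

open Cfsg.Agent.Lib.PCore Cfsg.Agent.Lib.PLengthSeries

/-- A finite abelian 2-group whose automorphism group is transitive on involutions is homocyclic. -/
theorem homocyclic_of_trans {A : Type*} [Group A] [Finite A] (hc : ∀ a b : A, a * b = b * a)
    (h2 : IsPGroup 2 A)
    (htrans : ∀ x y : A, x ≠ 1 → x ^ 2 = 1 → y ≠ 1 → y ^ 2 = 1 → ∃ a : MulAut A, a x = y) :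
    ∃ m r : ℕ, Nonempty (A ≃* (Fin r → Multiplicative (ZMod (2 ^ m)))) := by
  classical
  letI instA : CommGroup A := { (inferInstance : Group A) with mul_comm := hc }
  obtain ⟨ι, _, n, hn, ⟨e⟩⟩ := CommGroup.equiv_prod_multiplicative_zmod_of_finite A
  let sing : (i : ι) → ℕ → ((i : ι) → Multiplicative (ZMod (n i))) :=
    fun i c => Pi.mulSingle i (Multiplicative.ofAdd (c : ZMod (n i)))
  have hsing_pow : ∀ (i : ι) (c d : ℕ), (sing i c) ^ d = sing i (c * d) := by
    intro i c d
    funext j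
    by_cases hj : j = i
    · subst hj
      simp only [sing, Pi.pow_apply, Pi.mulSingle_eq_same]
      rw [← ofAdd_nsmul]
      congr 1
      push_cast
      rw [nsmul_eq_mul, mul_comm]
    · simp only [sing, Pi.pow_apply, Pi.mulSingle_eq_of_ne hj, one_pow]
  have hsing_eq : ∀ (i : ι) (c : ℕ), sing i c = 1 ↔ n i ∣ c := by
    intro i c
    constructor
    · intro h
      have h1 := congrFun h i
      simp only [sing, Pi.mulSingle_eq_same, Pi.one_apply] at h1
      have h2 : ((c : ℕ) : ZMod (n i)) = 0 := h1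
      exact (ZMod.natCast_eq_zero_iff c (n i)).mp h2
    · intro h
      have h2 : ((c : ℕ) : ZMod (n i)) = 0 := (ZMod.natCast_eq_zero_iff c (n i)).mpr h
      simp only [sing]
      rw [h2]
      simp
  -- each `n i` is a power of 2
  have hpow : ∀ i, ∃ k, 1 ≤ k ∧ n i = 2 ^ k := by
    intro i
    obtain ⟨k, hk⟩ := h2 (e.symm (sing i 1))
    have h3 : (sing i 1) ^ (2 ^ k) = 1 := by
      have := congrArg e hk
      rw [map_pow, map_one, MulEquiv.apply_symm_apply] at this
      exact this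
    rw [hsing_pow, one_mul, hsing_eq] at h3
    obtain ⟨j, -, hj⟩ := (Nat.dvd_prime_pow Nat.prime_two).mp h3
    refine ⟨j, ?_, hj⟩
    by_contra hj0
    have : j = 0 := by omega
    rw [this] at hj
    have := hn i
    omega
  choose k hk1 hk using hpow
  -- they are all equal
  have hle : ∀ i j, k i ≤ k j := by
    intro i j
    by_contra hlt
    push Not at hlt
    -- `j` has the smaller exponent
    have hxne : ∀ l, sing l (2 ^ (k l - 1)) ≠ 1 := by
      intro l h
      rw [hsing_eq, hk l] at h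
      have h3 := (Nat.pow_dvd_pow_iff_le_right (by norm_num : 1 < 2)).mp h
      have := hk1 l
      omega
    have hxsq : ∀ l, (sing l (2 ^ (k l - 1))) ^ 2 = 1 := by
      intro l
      rw [hsing_pow, hsing_eq, hk l, ← pow_succ]
      apply pow_dvd_pow
      have := hk1 l
      omega
    have hi1 : ∀ l, e.symm (sing l (2 ^ (k l - 1))) ≠ 1 := by
      intro l h
      apply hxne l
      have := congrArg e h
      rw [map_one, MulEquiv.apply_symm_apply] at this
      exact this
    have hi2 : ∀ l, (e.symm (sing l (2 ^ (k l - 1)))) ^ 2 = 1 := by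
      intro l
      rw [← map_pow, hxsq, map_one]
    obtain ⟨a, ha⟩ := htrans _ _ (hi1 i) (hi2 i) (hi1 j) (hi2 j)
    -- the element of order `2` of `i` is a `2 ^ (k i - 1)`-th power
    have h3 : e.symm (sing i (2 ^ (k i - 1))) = (e.symm (sing i 1)) ^ (2 ^ (k i - 1)) := by
      rw [← map_pow, hsing_pow, one_mul]
    rw [h3, map_pow] at ha
    have h4 := congrArg e ha
    rw [map_pow, MulEquiv.apply_symm_apply] at h4
    set t := e (a (e.symm (sing i 1))) with ht
    have h5 := congrFun h4 j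
    simp only [sing, Pi.pow_apply, Pi.mulSingle_eq_same] at h5
    -- the `j` coordinate of a high power vanishes
    have h6 : (t j) ^ (2 ^ (k i - 1)) = 1 := by
      have h7 : n j ∣ 2 ^ (k i - 1) := by
        rw [hk j]
        apply pow_dvd_pow
        omega
      obtain ⟨c, hc'⟩ := h7
      rw [hc', pow_mul]
      have h8 : (t j) ^ (n j) = 1 := by
        have h9 : ∀ z : Multiplicative (ZMod (n j)), z ^ (n j) = 1 := by
          intro z
          show Multiplicative.ofAdd ((n j) • Multiplicative.toAdd z) = 1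
          rw [nsmul_eq_mul, CharP.cast_eq_zero, zero_mul]
          rfl
        exact h9 _
      rw [h8, one_pow]
    rw [h6] at h5
    apply hxne j
    funext l
    by_cases hl : l = j
    · subst hl
      simp only [sing, Pi.mulSingle_eq_same, Pi.one_apply]
      exact h5.symm
    · simp only [sing, Pi.mulSingle_eq_of_ne hl, Pi.one_apply]
  rcases isEmpty_or_nonempty ι with hemp | ⟨⟨i₀⟩⟩
  · refine ⟨0, Fintype.card ι, ⟨?_⟩⟩
    have hn' : n = fun _ => 2 ^ 0 := funext fun i => (hemp.false i).elim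
    subst hn'
    exact e.trans (MulEquiv.arrowCongr (Fintype.equivFin ι) (MulEquiv.refl _))
  · refine ⟨k i₀, Fintype.card ι, ⟨?_⟩⟩
    have hn' : n = fun _ => 2 ^ k i₀ := by
      funext i
      rw [hk i, le_antisymm (hle i i₀) (hle i₀ i)]
    subst hn'
    exact e.trans (MulEquiv.arrowCongr (Fintype.equivFin ι) (MulEquiv.refl _))

theorem plength_of_core {H : Type*} [Group H] [Finite H]
    (hc : (Nat.card (H ⧸ pCore 2 H)).Coprime 2) : PLengthLE 2 1 H := by
  haveI : Fact (Nat.Prime 2) := ⟨Nat.prime_two⟩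
  unfold PLengthLE
  rw [eq_top_iff]
  obtain ⟨e, he⟩ := IsPGroup.iff_card.mp (isPGroup_pCore (G := H) 2)
  have h2 : pCore 2 H ≤ (upperPSeries 2 H 2).1 := by
    refine step_odd 2 (n := 1) (by decide) (A := ⊥) (B := pCore 2 H) bot_le (e := e) ?_
    rw [Subgroup.relIndex_bot_left]
    exact he
  refine step_even 2 (n := 2) (by decide) (A := pCore 2 H) (B := ⊤) h2 ?_
  rw [Subgroup.relIndex_top_right, Subgroup.index_eq_card]
  exact hc

/-- Let G be a finite solvable group of even order whose Sylow 2-subgroups contain more than one involution, and suppose all involutions of G are conjugate. Then G has 2-length at most 1, and a Sylow 2-subgroup S of G is either homocyclic (a direct product of cyclic groups of one common order) or a non-abelian 2-group with more than one involution admitting a solvable group of automorphisms transitive on its involutions. -/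
theorem result {G : Type*} [Group G] [Finite G] (hG : Group.IsSolvable G) (heven : Even (Nat.card G)) (S : Sylow 2 G) (htwo : ∃ x y : G, x ∈ (S : Subgroup G) ∧ y ∈ (S : Subgroup G) ∧ x ≠ y ∧ x ≠ 1 ∧ x ^ 2 = 1 ∧ y ≠ 1 ∧ y ^ 2 = 1) (hconj : ∀ x y : G, x ≠ 1 → x ^ 2 = 1 → y ≠ 1 → y ^ 2 = 1 → IsConj x y) : Cfsg.PLengthLE 2 1 G ∧ ((∃ m r : ℕ, Nonempty (↥(S : Subgroup G) ≃* (Fin r → Multiplicative (ZMod (2 ^ m))))) ∨ (¬ IsMulCommutative (S : Subgroup G) ∧ ∃ Y : Subgroup (MulAut ↥(S : Subgroup G)), Group.IsSolvable Y ∧ ∀ x y : ↥(S : Subgroup G), x ≠ 1 → x ^ 2 = 1 → y ≠ 1 → y ^ 2 = 1 → ∃ a ∈ Y, a x = y)) := by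
  classical
  haveI h2F : Fact (Nat.Prime 2) := ⟨Nat.prime_two⟩
  haveI := hG
  set O := pPrimeCore 2 G with hOdef
  haveI hOn : O.Normal := inferInstance
  let π := QuotientGroup.mk' O
  have hπs : Function.Surjective π := QuotientGroup.mk'_surjective O
  have hπ1 : ∀ {x : G}, π x = 1 ↔ x ∈ O := fun {x} => QuotientGroup.eq_one_iff x
  have hOcop : (Nat.card O).Coprime 2 := card_pPrimeCore_coprime 2
  have hOodd : Odd (Nat.card O) := Nat.coprime_two_right.mp hOcop
  have hO2 : ∀ t ∈ O, ∀ k : ℕ, t ^ (2 ^ k) = 1 → t = 1 := by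
    intro t ht k hk
    have h1 : t ^ (Nat.card O) = 1 := by
      have := pow_card_eq_one' (x := (⟨t, ht⟩ : O))
      exact congrArg Subtype.val this
    exact Cfsg.Agent.Lib.OneClassX.eq_one_of_two_odd h1 hOodd hk
  have hlift : ∀ hb : G ⧸ O, hb * hb = 1 → ∃ x : G, π x = hb ∧ x * x = 1 := by
    intro hb hhb
    obtain ⟨a, rfl⟩ := hπs hb
    obtain ⟨e, b, hb', hord⟩ := Nat.exists_eq_pow_mul_and_not_dvd (n := orderOf a)
      (orderOf_pos a).ne' 2 (by norm_num)
    have hbodd : Odd b := by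
      rw [Nat.odd_iff]
      omega
    obtain ⟨c, hc⟩ := hbodd
    refine ⟨a ^ b, ?_, ?_⟩
    · rw [map_pow, hc, pow_succ, pow_mul, pow_two, hhb, one_pow, one_mul]
    · have h1 : a ^ b * a ^ b ∈ O := by
        rw [← hπ1, map_mul, map_pow, hc, pow_succ, pow_mul, pow_two, hhb, one_pow, one_mul, hhb]
      refine hO2 _ h1 e ?_
      rw [← pow_two, ← pow_mul, ← pow_mul]
      have e1 : b * (2 * 2 ^ e) = 2 * (2 ^ e * b) := by ring
      rw [e1, ← hord, mul_comm, pow_mul, pow_orderOf_eq_one, one_pow]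
  -- the hypotheses for the quotient
  have hconjH : ∀ x y : G ⧸ O, x ≠ 1 → x * x = 1 → y ≠ 1 → y * y = 1 → IsConj x y := by
    intro x y hx1 hx hy1 hy
    obtain ⟨x', rfl, hx'⟩ := hlift x hx
    obtain ⟨y', rfl, hy'⟩ := hlift y hy
    have hx'1 : x' ≠ 1 := fun h => hx1 (by rw [h, map_one])
    have hy'1 : y' ≠ 1 := fun h => hy1 (by rw [h, map_one])
    obtain ⟨c, hc⟩ := isConj_iff.mp (hconj x' y' hx'1 (by rw [pow_two]; exact hx') hy'1
      (by rw [pow_two]; exact hy'))
    refine isConj_iff.mpr ⟨π c, ?_⟩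
    rw [← hc]
    simp only [map_mul, map_inv]
  have hSO : ∀ s ∈ (S : Subgroup G), s ∈ O → s = 1 := by
    intro s hs hsO
    obtain ⟨k, hk⟩ := S.isPGroup' ⟨s, hs⟩
    exact hO2 s hsO k (congrArg Subtype.val hk)
  have htwoH : ∃ x y : G ⧸ O, x ≠ y ∧ x ≠ 1 ∧ x * x = 1 ∧ y ≠ 1 ∧ y * y = 1 := by
    obtain ⟨x, y, hxS, hyS, hxy, hx1, hx, hy1, hy⟩ := htwo
    refine ⟨π x, π y, ?_, ?_, ?_, ?_, ?_⟩
    · intro h
      apply hxy
      have h1 : x⁻¹ * y ∈ O := by
        rw [← hπ1, map_mul, map_inv, ← h]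
        group
      have h2 := hSO _ ((S : Subgroup G).mul_mem ((S : Subgroup G).inv_mem hxS) hyS) h1
      rw [inv_mul_eq_one] at h2
      exact h2
    · intro h
      exact hx1 (hSO x hxS (hπ1.mp h))
    · rw [← map_mul, ← pow_two, hx, map_one]
    · intro h
      exact hy1 (hSO y hyS (hπ1.mp h))
    · rw [← map_mul, ← pow_two, hy, map_one]
  have hOH : pPrimeCore 2 (G ⧸ O) = ⊥ := pPrimeCore_quotient_pPrimeCore 2
  have hcore := Cfsg.Agent.Lib.OneClassZ.core hOH hconjH htwoH
  -- the length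
  have hlen : PLengthLE 2 1 G := by
    refine pLengthLE_of_ker_coprime 2 π hπs ?_ (plength_of_core hcore)
    rw [QuotientGroup.ker_mk']
    exact hOcop
  refine ⟨hlen, ?_⟩
  -- the Sylow subgroup
  set Q := pCore 2 (G ⧸ O) with hQdef
  haveI hQn : Q.Normal := inferInstance
  have hQodd : Odd (Nat.card ((G ⧸ O) ⧸ Q)) := Nat.coprime_two_right.mp hcore
  let f : (S : Subgroup G) →* G ⧸ O := π.comp (S : Subgroup G).subtype
  have hfinj : Function.Injective f := by
    rw [injective_iff_map_eq_one]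
    intro s hs
    apply Subtype.ext
    exact hSO s s.2 (hπ1.mp hs)
  have hTQ : f.range = Q := by
    apply Subgroup.eq_of_le_of_card_ge
    · rintro _ ⟨s, rfl⟩
      obtain ⟨k, hk⟩ := S.isPGroup' s
      have hk' : (s : G) ^ (2 ^ k) = 1 := congrArg Subtype.val hk
      have h1 : (QuotientGroup.mk' Q (π s)) ^ (2 ^ k) = 1 := by
        rw [← map_pow, ← map_pow, hk', map_one, map_one]
      have h2 : (QuotientGroup.mk' Q (π s)) ^ (Nat.card ((G ⧸ O) ⧸ Q)) = 1 := pow_card_eq_one'
      have h3 := Cfsg.Agent.Lib.OneClassX.eq_one_of_two_odd h2 hQodd h1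
      exact (QuotientGroup.eq_one_iff _).mp h3
    · have h1 : Nat.card f.range = Nat.card (S : Subgroup G) :=
        (Nat.card_congr (MonoidHom.ofInjective hfinj).toEquiv).symm
      rw [h1]
      obtain ⟨a, ha⟩ := IsPGroup.iff_card.mp (isPGroup_pCore (G := G ⧸ O) 2)
      have h2 : Nat.card Q ∣ Nat.card G :=
        (Subgroup.card_subgroup_dvd_card Q).trans (Subgroup.card_quotient_dvd_card O)
      have h3 := Subgroup.card_mul_index (S : Subgroup G)
      rw [← h3] at h2
      have h4 : Nat.Coprime (Nat.card Q) (S : Subgroup G).index := by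
        rw [ha]
        apply Nat.Coprime.pow_left
        exact (Nat.Prime.coprime_iff_not_dvd Nat.prime_two).mpr S.not_dvd_index
      exact Nat.le_of_dvd Nat.card_pos (h4.dvd_of_dvd_mul_right h2)
  let α : (S : Subgroup G) ≃* Q := (MonoidHom.ofInjective hfinj).trans (MulEquiv.subgroupCongr hTQ)
  have hα : ∀ s : (S : Subgroup G), ((α s : Q) : G ⧸ O) = π s := fun s => rfl
  let ψ : G ⧸ O →* MulAut (S : Subgroup G) :=
    { toFun := fun h => α.trans ((MulAut.conjNormal h : MulAut Q).trans α.symm)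
      map_one' := by
        ext x
        simp
      map_mul' := by
        intro a b
        ext x
        simp [MulAut.mul_apply] }
  have hψ : ∀ (h : G ⧸ O) (x : (S : Subgroup G)), ψ h x = α.symm (MulAut.conjNormal h (α x)) :=
    fun h x => rfl
  have hY : ∃ Y : Subgroup (MulAut (S : Subgroup G)), Group.IsSolvable Y ∧
      ∀ x y : (S : Subgroup G), x ≠ 1 → x ^ 2 = 1 → y ≠ 1 → y ^ 2 = 1 → ∃ a ∈ Y, a x = y := by
    refine ⟨ψ.range, Group.isSolvable_of_surjective (f := ψ.rangeRestrict)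
      ψ.rangeRestrict_surjective, ?_⟩
    intro x y hx1 hx hy1 hy
    have hx1' : (x : G) ≠ 1 := fun h => hx1 (Subtype.ext h)
    have hy1' : (y : G) ≠ 1 := fun h => hy1 (Subtype.ext h)
    have hx' : (x : G) ^ 2 = 1 := congrArg Subtype.val hx
    have hy' : (y : G) ^ 2 = 1 := congrArg Subtype.val hy
    obtain ⟨c, hc⟩ := isConj_iff.mp (hconj x y hx1' hx' hy1' hy')
    refine ⟨ψ (π c), ⟨π c, rfl⟩, ?_⟩
    rw [hψ]
    apply α.injective
    rw [MulEquiv.apply_symm_apply]
    apply Subtype.ext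
    rw [MulAut.conjNormal_apply, hα, hα, ← hc]
    simp only [map_mul, map_inv]
  by_cases hcomm : IsMulCommutative (S : Subgroup G)
  · left
    obtain ⟨Y, -, hYt⟩ := hY
    refine homocyclic_of_trans (fun a b => hcomm.is_comm.comm a b) S.isPGroup' ?_
    intro x y hx1 hx hy1 hy
    obtain ⟨a, -, ha⟩ := hYt x y hx1 hx hy1 hy
    exact ⟨a, ha⟩
  · right
    exact ⟨hcomm, hY⟩

end Cfsg.Agent.S3797
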