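import Mathlib
import Cfsg.Statements.S3801
import Cfsg.Agent.Lib.L2Wrap
import Cfsg.Agent.Lib.MaxPNilp
import Cfsg.Agent.S3786

set_option autoImplicit false
set_option linter.unusedSectionVars false
set_option linter.unusedVariables false
set_option linter.style.haveILetI false
open Cfsg

namespace Cfsg.Agent.S3801

open Cfsg.Agent.Lib.Kegel Cfsg.Agent.Lib.PCore Cfsg.Agent.Lib.PSolv Cfsg.Agent.Lib.FrattAct
open Cfsg.Agent.Lib.PLengthSeries Cfsg.Agent.Lib.L2Wrap Cfsg.Agent.S3783 Cfsg.Agent.S3786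

universe u

theorem mem_sylow_of_two {H : Type*} [Group H] [Finite H] [Fact (Nat.Prime 2)] {y : H} (hy : ∃ k : ℕ, y ^ 2 ^ k = 1) :
    ∃ S : Sylow 2 H, y ∈ (S : Subgroup H) := by
  obtain ⟨k, hk⟩ := hy
  obtain ⟨j, -, hj⟩ := (Nat.dvd_prime_pow Nat.prime_two).1 (orderOf_dvd_of_pow_eq_one hk)
  have h1 : IsPGroup 2 (Subgroup.zpowers y) := IsPGroup.of_card (n := j) (by rw [Nat.card_zpowers, hj])
  obtain ⟨S, hS⟩ := h1.exists_le_sylow
  exact ⟨S, hS (Subgroup.mem_zpowers y)⟩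

/-- The data on `G ⧸ O_2(G)`. -/
theorem H_data {G : Type*} [Group G] [Finite G] [Fact (Nat.Prime 2)] {m : ℕ}
    (hexp : ∀ (P : Sylow 2 G), ∀ x ∈ (P : Subgroup G), x ^ 2 ^ m = 1) :
    (∀ y : G ⧸ pCore 2 G, (∃ k : ℕ, y ^ 2 ^ k = 1) → y ^ 2 ^ m = 1) ∧
    (∀ y : G ⧸ pCore 2 G, (∃ k : ℕ, y ^ 2 ^ k = 1) → ∀ v, nm (psiBar y) (2 ^ m) v = 1) := by
  let π : G →* G ⧸ pCore 2 G := QuotientGroup.mk' (pCore 2 G)
  have hπ : Function.Surjective π := QuotientGroup.mk'_surjective _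
  have key : ∀ y : G ⧸ pCore 2 G, (∃ k : ℕ, y ^ 2 ^ k = 1) → ∃ (P : Sylow 2 G) (x : G), x ∈ (P : Subgroup G) ∧ π x = y := by
    intro y hy
    obtain ⟨S, hS⟩ := mem_sylow_of_two hy
    obtain ⟨P, rfl⟩ := Sylow.mapSurjective_surjective hπ 2 S
    rw [Sylow.coe_mapSurjective] at hS
    obtain ⟨x, hx, rfl⟩ := hS
    exact ⟨P, x, hx, rfl⟩
  constructor
  · intro y hy
    obtain ⟨P, x, hx, rfl⟩ := key y hy
    rw [← map_pow, hexp P x hx, map_one]
  · intro y hy v
    obtain ⟨P, x, hx, rfl⟩ := key y hy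
    have hxP : IsPGroup 2 (Subgroup.zpowers x) := P.isPGroup'.to_le (Subgroup.zpowers_le.2 hx)
    exact nm_psi_eq_one hexp x hxP v

theorem main (n : ℕ) : ∀ (G : Type u) [Group G] [Finite G], Group.IsSolvable G →
    (∀ (P : Sylow 2 G), ∀ x ∈ (P : Subgroup G), x ^ 2 ^ (n + 1) = 1) → PLengthLE 2 (2 * n + 1) G := by
  haveI hF2 : Fact (Nat.Prime 2) := ⟨Nat.prime_two⟩
  induction n with
  | zero =>
    intro G _ _ hsol hexp
    let N₁ := pPrimeCore 2 G
    let G₁ := G ⧸ N₁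
    let π₁ : G →* G₁ := QuotientGroup.mk' N₁
    have hπ₁ : Function.Surjective π₁ := QuotientGroup.mk'_surjective N₁
    have hker : Nat.Coprime (Nat.card π₁.ker) 2 := by
      have : π₁.ker = N₁ := QuotientGroup.ker_mk' N₁
      rw [this]
      exact card_pPrimeCore_coprime 2
    refine pLengthLE_of_ker_coprime 2 π₁ hπ₁ hker ?_
    have hsolp : IsPSolvable 2 G := Cfsg.Agent.Lib.MaxPNilp.isPSolvable_of_isSolvable 2 hsol
    have hsolp₁ : IsPSolvable 2 G₁ := isPSolvable_quotient hsolp N₁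
    have hcore₁ : pPrimeCore 2 G₁ = ⊥ := pPrimeCore_quotient_pPrimeCore 2
    have hexp₁ : ∀ (P : Sylow 2 G₁), ∀ x ∈ (P : Subgroup G₁), x ^ 2 ^ (0 + 1) = 1 := by
      refine hexpq π₁ hπ₁ _ ?_
      intro P x hx
      rw [← map_pow, hexp P x hx, map_one]
    let R := pCore 2 G₁
    let H := G₁ ⧸ R
    let π₂ : G₁ →* H := QuotientGroup.mk' R
    have hπ₂ : Function.Surjective π₂ := QuotientGroup.mk'_surjective R
    have hker₂ : PLengthLE 2 1 π₂.ker := by
      refine pLengthLE_one_of_isPGroup 2 ?_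
      have : π₂.ker = R := QuotientGroup.ker_mk' R
      rw [this]
      exact isPGroup_pCore 2
    obtain ⟨hexpH, hnmH⟩ := H_data hexp₁
    have hinj : Function.Injective (psiBar (p := 2) (G := G₁)) := psiBar_injective hsolp₁ hcore₁
    have htriv : ∀ y : H, (∃ k : ℕ, y ^ 2 ^ k = 1) → y = 1 := by
      intro y hy
      apply hinj
      rw [map_one]
      ext v
      have h1 := hnmH y hy v
      have h2 : nm (psiBar y) (2 ^ (0 + 1)) v = v * psiBar y v := by
        show nm (psiBar y) (1 + 1) v = v * psiBar y v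
        rw [nm_succ, nm_succ, nm_zero, pow_zero, pow_one, one_mul]
        rfl
      rw [h2] at h1
      have h3 := V_exp (p := 2) (G := G₁) v
      have h4 : v * v = 1 := by rw [← pow_two]; exact h3
      have h5 : psiBar y v = v := by
        rw [← mul_left_cancel_iff (a := v), h1, h4]
      exact h5
    have hH0 : PLengthLE 2 0 H := by
      refine pLengthLE_zero_of_coprime 2 ?_
      rw [Nat.coprime_comm, Nat.prime_two.coprime_iff_not_dvd]
      intro hd
      obtain ⟨y, hy⟩ := exists_prime_orderOf_dvd_card' 2 hd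
      have h1 : y ^ 2 ^ 1 = 1 := by
        have h0 := pow_orderOf_eq_one y
        rw [hy] at h0
        rw [pow_one]
        exact h0
      have h2 := htriv y ⟨1, h1⟩
      rw [h2, orderOf_one] at hy
      omega
    have := pLengthLE_of_ker 1 0 2 G₁ H π₂ hπ₂ hker₂ hH0
    exact this
  | succ n ih =>
    intro G _ _ hsol hexp
    let N₁ := pPrimeCore 2 G
    let G₁ := G ⧸ N₁
    let π₁ : G →* G₁ := QuotientGroup.mk' N₁
    have hπ₁ : Function.Surjective π₁ := QuotientGroup.mk'_surjective N₁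
    have hker : Nat.Coprime (Nat.card π₁.ker) 2 := by
      have : π₁.ker = N₁ := QuotientGroup.ker_mk' N₁
      rw [this]
      exact card_pPrimeCore_coprime 2
    refine pLengthLE_of_ker_coprime 2 π₁ hπ₁ hker ?_
    have hsolp : IsPSolvable 2 G := Cfsg.Agent.Lib.MaxPNilp.isPSolvable_of_isSolvable 2 hsol
    have hsolp₁ : IsPSolvable 2 G₁ := isPSolvable_quotient hsolp N₁
    have hcore₁ : pPrimeCore 2 G₁ = ⊥ := pPrimeCore_quotient_pPrimeCore 2
    have hexp₁ : ∀ (P : Sylow 2 G₁), ∀ x ∈ (P : Subgroup G₁), x ^ 2 ^ (n + 1 + 1) = 1 := by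
      refine hexpq π₁ hπ₁ _ ?_
      intro P x hx
      rw [← map_pow, hexp P x hx, map_one]
    let R := pCore 2 G₁
    let H := G₁ ⧸ R
    let π₂ : G₁ →* H := QuotientGroup.mk' R
    have hπ₂ : Function.Surjective π₂ := QuotientGroup.mk'_surjective R
    have hker₂ : PLengthLE 2 1 π₂.ker := by
      refine pLengthLE_one_of_isPGroup 2 ?_
      have : π₂.ker = R := QuotientGroup.ker_mk' R
      rw [this]
      exact isPGroup_pCore 2
    obtain ⟨hexpH, hnmH⟩ := H_data hexp₁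
    have hinj : Function.Injective (psiBar (p := 2) (G := G₁)) := psiBar_injective hsolp₁ hcore₁
    haveI hsolG₁ : Group.IsSolvable G₁ := inferInstance
    haveI hsolH : Group.IsSolvable H := inferInstance
    have hOH : pCore 2 H = ⊥ := pCore_quotient_pCore 2
    have htop : ∀ (S : Sylow 2 H), ∀ h ∈ (S : Subgroup H),
        QuotientGroup.mk' (pPrimeCore 2 H) (h ^ 2 ^ (n + 1)) ∈ pCore 2 (H ⧸ pPrimeCore 2 H) := fun S h hh =>
      top_in_core_mul (V_comm (p := 2) (G := G₁)) (V_exp (p := 2) (G := G₁)) hOH psiBar hinj hexpH hnmH S hh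
    -- the second layer
    let T := pPrimeCore 2 H
    let H' := H ⧸ T
    let π₃ : H →* H' := QuotientGroup.mk' T
    have hπ₃ : Function.Surjective π₃ := QuotientGroup.mk'_surjective T
    have hker₃ : Nat.Coprime (Nat.card π₃.ker) 2 := by
      have : π₃.ker = T := QuotientGroup.ker_mk' T
      rw [this]
      exact card_pPrimeCore_coprime 2
    let U := pCore 2 H'
    let H₃ := H' ⧸ U
    let π₄ : H' →* H₃ := QuotientGroup.mk' U
    have hπ₄ : Function.Surjective π₄ := QuotientGroup.mk'_surjective U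
    have hker₄ : PLengthLE 2 1 π₄.ker := by
      refine pLengthLE_one_of_isPGroup 2 ?_
      have : π₄.ker = U := QuotientGroup.ker_mk' U
      rw [this]
      exact isPGroup_pCore 2
    have hH₃ : PLengthLE 2 (2 * n + 1) H₃ := by
      refine ih H₃ inferInstance ?_
      refine hexpq (π₄.comp π₃) (hπ₄.comp hπ₃) _ ?_
      intro S h hh
      rw [← map_pow]
      exact (QuotientGroup.eq_one_iff _).2 (htop S h hh)
    have h1 : PLengthLE 2 (1 + (2 * n + 1)) H' := pLengthLE_of_ker 1 (2 * n + 1) 2 H' H₃ π₄ hπ₄ hker₄ hH₃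
    have h2 : PLengthLE 2 (1 + (2 * n + 1)) H := pLengthLE_of_ker_coprime 2 π₃ hπ₃ hker₃ h1
    have h3 : PLengthLE 2 (1 + (1 + (2 * n + 1))) G₁ := pLengthLE_of_ker 1 (1 + (2 * n + 1)) 2 G₁ H π₂ hπ₂ hker₂ h2
    have e1 : 2 * (n + 1) + 1 = 1 + (1 + (2 * n + 1)) := by ring
    rw [e1]
    exact h3

/-- Gross's bound on 2-length: if G is a finite solvable group whose Sylow 2-subgroups have exponent dividing 2^e with e ≥ 1, then G has 2-length at most 2e − 1. -/
theorem result {G : Type*} [Group G] [Finite G] (hG : Group.IsSolvable G) (e : ℕ) (he : 1 ≤ e) (hexp : ∀ (P : Sylow 2 G), ∀ x ∈ (P : Subgroup G), x ^ 2 ^ e = 1) : Cfsg.PLengthLE 2 (2 * e - 1) G := by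
  obtain ⟨n, rfl⟩ : ∃ n, e = n + 1 := ⟨e - 1, by omega⟩
  have e1 : 2 * (n + 1) - 1 = 2 * n + 1 := by omega
  rw [e1]
  exact main n G hG hexp

end Cfsg.Agent.S3801
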