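import Mathlib
import Cfsg.Statements.S3806
import Cfsg.Agent.Lib.MaxExp
import Cfsg.Agent.Lib.MaxClass

set_option autoImplicit false
set_option linter.unusedSectionVars false
set_option linter.unusedVariables false
set_option linter.style.haveILetI false
open Cfsg

namespace Cfsg.Agent.S3806

open Cfsg.Agent.Lib.LCSLie Cfsg.Agent.Lib.MaxExp Cfsg.Agent.Lib.MaxClass
open scoped commutatorElement

/-- Sections of `S`. -/
theorem section_bound {S X : Type*} [Group S] [Group X] {p k : ℕ} (hsr : Cfsg.SectionalPRankLE p k S) (f : S →* X)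
    (hf : Function.Surjective f) (E : Subgroup X) (hc : ∀ u ∈ E, ∀ v ∈ E, u * v = v * u) (hexp : ∀ x ∈ E, x ^ p = 1) :
    Nat.card E ≤ p ^ k := by
  let H : Subgroup S := E.comap f
  let φ : H →* E := (f.comp H.subtype).codRestrict E (fun x => x.2)
  have hφ : Function.Surjective φ := by
    rintro ⟨e, he⟩
    obtain ⟨s, rfl⟩ := hf e
    exact ⟨⟨s, he⟩, rfl⟩
  haveI : φ.ker.Normal := MonoidHom.normal_ker φ
  have h1 := hsr H φ.ker
  let e : (H ⧸ φ.ker) ≃* E := QuotientGroup.quotientKerEquivOfSurjective φ hφ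
  have h2 := h1 ⊤ (by
    refine IsMulCommutative.of_setLike_mul_comm ?_
    intro a _ b _
    apply e.injective
    rw [map_mul, map_mul]
    exact Subtype.ext (hc _ (e a).2 _ (e b).2)) (by
    intro a _
    apply e.injective
    rw [map_pow, map_one]
    exact Subtype.ext (hexp _ (e a).2))
  rw [Subgroup.card_top] at h2
  rwa [Nat.card_congr e.toEquiv] at h2

/-- Let p be a prime and S a finite p-group of order pⁿ (n ≥ 2) of maximal nilpotency class n − 1 whose sectional p-rank is exactly k (every section has p-rank at most k, and some section has p-rank k). If p ≥ k + 2 then the order of S is at most p^(2k). -/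
theorem result {S : Type*} [Group S] [Finite S] (p : ℕ) [Fact p.Prime] (hS : IsPGroup p S) [Group.IsNilpotent S]
    (n : ℕ) (hn : 2 ≤ n) (hcard : Nat.card S = p ^ n) (hmax : Group.nilpotencyClass S = n - 1)
    (k : ℕ) (hk : 1 ≤ k) (hsr : Cfsg.SectionalPRankLE p k S ∧ ¬ Cfsg.SectionalPRankLE p (k - 1) S)
    (hpk : k + 2 ≤ p) : Nat.card S ≤ p ^ (2 * k) := by
  have hpp : p.Prime := Fact.out
  by_contra hcon
  push Not at hcon
  rw [hcard] at hcon
  have hnk : 2 * k < n := (Nat.pow_lt_pow_iff_right hpp.one_lt).1 hcon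
  have hn3 : 3 ≤ n := by omega
  have hlev := card_lcs_of_maxClass hS hcard hmax hn3
  rcases Nat.lt_or_ge k 2 with hk2 | hk2
  · -- `k = 1`
    have hk1 : k = 1 := by omega
    subst hk1
    have hq : Nat.card (S ⧸ Gam S 1) = p ^ 2 := by
      have h2 := Subgroup.card_eq_card_quotient_mul_card_subgroup (Gam S 1)
      rw [hcard, hlev 1 le_rfl (by omega)] at h2
      have e : n = 2 + (n - 1 - 1) := by omega
      rw [e, pow_add] at h2
      have e2 : 2 + (n - 1 - 1) - 1 - 1 = n - 1 - 1 := by omega
      rw [e2] at h2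
      exact (Nat.eq_of_mul_eq_mul_right (pow_pos hpp.pos _) h2).symm
    have hne : ¬ Gam S 1 ≤ Gam S 2 := by
      intro h
      have h3 := Subgroup.card_dvd_of_le h
      rw [hlev 1 le_rfl (by omega), hlev 2 (by omega) (by omega)] at h3
      have h4 := (Nat.pow_dvd_pow_iff_le_right hpp.one_lt).1 h3
      omega
    have hpow := pow_mem_one_gen hq hne
    have hb := section_bound hsr.1 (QuotientGroup.mk' (Gam S 1)) (QuotientGroup.mk'_surjective _) ⊤ (by
      intro u _ v _
      obtain ⟨u, rfl⟩ := QuotientGroup.mk_surjective u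
      obtain ⟨v, rfl⟩ := QuotientGroup.mk_surjective v
      rw [← QuotientGroup.mk_mul, ← QuotientGroup.mk_mul, QuotientGroup.eq]
      have h5 : ⁅v⁻¹, u⁻¹⁆ ∈ Gam S 1 := comm_top_at rfl (mem_gam_zero _) _
      have e : (u * v)⁻¹ * (v * u) = ⁅v⁻¹, u⁻¹⁆ := by
        simp [commutatorElement_def, mul_assoc]
      rw [e]
      exact h5) (by
      intro x _
      obtain ⟨x, rfl⟩ := QuotientGroup.mk_surjective x
      rw [← QuotientGroup.mk_pow, QuotientGroup.eq_one_iff]
      exact hpow x)
    rw [Subgroup.card_top, hq] at hb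
    have := (Nat.pow_le_pow_iff_right hpp.one_lt).1 hb
    omega
  · obtain ⟨t, rfl⟩ : ∃ t, k = t + 2 := ⟨k - 2, by omega⟩
    have htp : t + 4 ≤ p := by omega
    have hnt : 2 * t + 5 ≤ n := by omega
    set N := Gam S (2 * t + 4) with hN
    let G := S ⧸ N
    let π : S →* G := QuotientGroup.mk' N
    have hπ : Function.Surjective π := QuotientGroup.mk'_surjective N
    have hGp : IsPGroup p G := hS.to_quotient N
    have hGcard : Nat.card G = p ^ (2 * t + 5) := by
      have h2 := Subgroup.card_eq_card_quotient_mul_card_subgroup N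
      rw [hcard, hlev (2 * t + 4) (by omega) (by omega)] at h2
      have e : n = (2 * t + 5) + (n - 1 - (2 * t + 4)) := by omega
      have h3 : p ^ (2 * t + 5) * p ^ (n - 1 - (2 * t + 4)) = Nat.card G * p ^ (n - 1 - (2 * t + 4)) := by
        rw [← pow_add, ← e]
        exact h2
      exact (Nat.eq_of_mul_eq_mul_right (pow_pos hpp.pos _) h3).symm
    have hΓ : ∀ i, Gam G i = (Gam S i).map π := by
      intro i
      have h1 := Subgroup.map_lowerCentralSeries (⊤ : Subgroup S) π i
      rw [← MonoidHom.range_eq_map, MonoidHom.range_eq_top.2 hπ] at h1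
      exact h1.symm
    have hker : π.ker = N := QuotientGroup.ker_mk' N
    have hbot : Gam G (2 * t + 4) = ⊥ := by
      rw [hΓ, Subgroup.map_eq_bot_iff, hker]
    have hnb : Gam G (2 * t + 3) ≠ ⊥ := by
      rw [hΓ, Ne, Subgroup.map_eq_bot_iff, hker]
      intro h
      have h3 := Subgroup.card_dvd_of_le h
      rw [hlev (2 * t + 3) (by omega) (by omega), hN, hlev (2 * t + 4) (by omega) (by omega)] at h3
      have h4 := (Nat.pow_dvd_pow_iff_le_right hpp.one_lt).1 h3
      omega
    haveI hnil : Group.IsNilpotent G := hGp.isNilpotent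
    have hcl : Group.nilpotencyClass G = 2 * t + 5 - 1 := by
      have h1 : Group.nilpotencyClass G ≤ 2 * t + 4 := Subgroup.lowerCentralSeries_eq_bot_iff_nilpotencyClass_le.1 hbot
      have h2 : ¬ Group.nilpotencyClass G ≤ 2 * t + 3 := fun h =>
        hnb (Subgroup.lowerCentralSeries_eq_bot_iff_nilpotencyClass_le.2 h)
      omega
    have hlc : ∀ i, 1 ≤ i → i ≤ 2 * t + 4 → Nat.card (Gam G i) = p ^ (2 * t + 4 - i) := by
      intro i h1 h2
      have h3 := card_lcs_of_maxClass hGp hGcard hcl (by omega) i h1 (by omega)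
      rw [h3]
      congr 1
    obtain ⟨h1, h2⟩ := core (p := p) hlc hGcard htp
    have hb := section_bound hsr.1 π hπ (Gam G (t + 1)) h1 h2
    rw [hlc (t + 1) (by omega) (by omega)] at hb
    have := (Nat.pow_le_pow_iff_right hpp.one_lt).1 hb
    omega

end Cfsg.Agent.S3806
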