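import Mathlib
import Cfsg.Statements.S3807
import Cfsg.Agent.Lib.ExtraBasics

set_option autoImplicit false
open Cfsg
open scoped commutatorElement

namespace Cfsg.Agent.S3807

open Cfsg.Agent.Lib.ExtraBasics

section
variable {S : Type*} [Group S]

theorem comm_of_mem {A : Subgroup S} (hA : IsMulCommutative ↥A) {a b : S} (ha : a ∈ A)
    (hb : b ∈ A) : a * b = b * a := by
  have := hA.is_comm.comm ⟨a, ha⟩ ⟨b, hb⟩
  exact congrArg Subtype.val this

/-- If `A` has index `p` and `t ∉ A`, then `A ⊔ ⟨t⟩ = ⊤`. -/
theorem sup_zpowers_eq_top [Finite S] {p : ℕ} [Fact p.Prime] {A : Subgroup S} (hAi : A.index = p)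
    {t : S} (ht : t ∉ A) : A ⊔ Subgroup.zpowers t = ⊤ := by
  have h1 : (A ⊔ Subgroup.zpowers t).index ∣ p := by
    rw [← hAi]
    exact Subgroup.index_dvd_of_le le_sup_left
  rcases (Nat.dvd_prime Fact.out).mp h1 with h2 | h2
  · exact Subgroup.index_eq_one.mp h2
  · exfalso
    have h3 := Subgroup.relIndex_mul_index (H := A) (K := A ⊔ Subgroup.zpowers t) le_sup_left
    rw [h2, hAi] at h3
    have h4 : A.relIndex (A ⊔ Subgroup.zpowers t) = 1 := by
      have hp : 0 < p := (Fact.out : p.Prime).pos
      exact Nat.eq_of_mul_eq_mul_right hp (by simpa using h3)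
    rw [Subgroup.relIndex_eq_one] at h4
    exact ht (h4 (Subgroup.mem_sup_right (Subgroup.mem_zpowers t)))

/-- The center lies in every abelian subgroup of index `p`. -/
theorem center_le [Finite S] {p : ℕ} [Fact p.Prime] (hS : IsPGroup p S)
    (hna : ¬ IsMulCommutative S) {A : Subgroup S} (hA : IsMulCommutative ↥A) (hAi : A.index = p) :
    Subgroup.center S ≤ A := by
  intro z hz
  by_contra hzA
  apply hna
  have hAn : A.Normal := normal_of_index_eq_prime hS A hAi
  have hsup := sup_zpowers_eq_top hAi hzA
  refine ⟨⟨fun x y => ?_⟩⟩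
  have hx : x ∈ (A ⊔ Subgroup.zpowers z : Subgroup S) := by rw [hsup]; trivial
  have hy : y ∈ (A ⊔ Subgroup.zpowers z : Subgroup S) := by rw [hsup]; trivial
  rw [Subgroup.mem_sup_of_normal_left] at hx hy
  obtain ⟨a, ha, u, hu, rfl⟩ := hx
  obtain ⟨b, hb, v, hv, rfl⟩ := hy
  have huc : u ∈ Subgroup.center S := by
    obtain ⟨i, rfl⟩ := hu
    exact Subgroup.zpow_mem _ hz i
  have hvc : v ∈ Subgroup.center S := by
    obtain ⟨i, rfl⟩ := hv
    exact Subgroup.zpow_mem _ hz i
  have e1 := Subgroup.mem_center_iff.mp huc
  have e2 := Subgroup.mem_center_iff.mp hvc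
  calc a * u * (b * v) = a * (u * b) * v := by group
    _ = a * (b * u) * v := by rw [e1 b]
    _ = a * b * (u * v) := by group
    _ = b * a * (v * u) := by rw [comm_of_mem hA ha hb, e2 u]
    _ = b * (a * v) * u := by group
    _ = b * (v * a) * u := by rw [e2 a]
    _ = b * v * (a * u) := by group

/-- For `t ∉ A`, `A` abelian of index `p`, the commutator map. -/
theorem index_center_and_comm [Finite S] {p : ℕ} [Fact p.Prime] (hS : IsPGroup p S)
    (hna : ¬ IsMulCommutative S) {A : Subgroup S} (hA : IsMulCommutative ↥A) (hAi : A.index = p) :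
    (Subgroup.center S).index = p * Nat.card (commutator S) := by
  classical
  have hpp : p.Prime := Fact.out
  have hAn : A.Normal := normal_of_index_eq_prime hS A hAi
  -- pick `t ∉ A`
  obtain ⟨t, ht⟩ : ∃ t, t ∉ A := by
    by_contra hc
    push Not at hc
    have : A = ⊤ := (Subgroup.eq_top_iff' A).mpr hc
    rw [this, Subgroup.index_top] at hAi
    exact hpp.one_lt.ne hAi
  have hsup := sup_zpowers_eq_top hAi ht
  -- commutators with `t` lie in `A`
  have hcA : ∀ a ∈ A, ⁅a, t⁆ ∈ A := by
    intro a ha
    have e : ⁅a, t⁆ = a * (t * a⁻¹ * t⁻¹) := by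
      rw [commutatorElement_def]; group
    rw [e]
    exact A.mul_mem ha (hAn.conj_mem _ (A.inv_mem ha) t)
  -- the homomorphism
  let f : A →* S :=
    { toFun := fun a => ⁅(a : S), t⁆
      map_one' := by simp
      map_mul' := by
        rintro ⟨a, ha⟩ ⟨b, hb⟩
        show ⁅a * b, t⁆ = ⁅a, t⁆ * ⁅b, t⁆
        have h1 : t * a⁻¹ * t⁻¹ ∈ A := hAn.conj_mem _ (A.inv_mem ha) t
        have h2 := comm_of_mem hA h1 (hcA b hb)
        calc ⁅a * b, t⁆ = a * ⁅b, t⁆ * (t * a⁻¹ * t⁻¹) := by
              simp only [commutatorElement_def]; group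
          _ = a * (⁅b, t⁆ * (t * a⁻¹ * t⁻¹)) := by group
          _ = a * ((t * a⁻¹ * t⁻¹) * ⁅b, t⁆) := by rw [h2]
          _ = ⁅a, t⁆ * ⁅b, t⁆ := by
              simp only [commutatorElement_def]; group }
  have hf : ∀ a : A, f a = ⁅(a : S), t⁆ := fun _ => rfl
  set D : Subgroup S := f.range with hD
  have hDA : D ≤ A := by
    rintro _ ⟨a, rfl⟩
    exact hcA a a.2
  -- `D` is normal
  have hDnormal : D.Normal := by
    have hnorm : (⊤ : Subgroup S) ≤ Subgroup.normalizer (D : Set S) := by
      rw [← hsup]
      refine sup_le ?_ ?_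
      · intro a ha
        rw [Subgroup.mem_normalizer_iff]
        intro y
        constructor
        · intro hy
          have : a * y * a⁻¹ = y := by
            rw [comm_of_mem hA ha (hDA hy)]
            group
          rwa [this]
        · intro hy
          have hyA : y ∈ A := by
            have := A.mul_mem (A.mul_mem (A.inv_mem ha) (hDA hy)) ha
            simpa [mul_assoc] using this
          have : a * y * a⁻¹ = y := by
            rw [comm_of_mem hA ha hyA]
            group
          rwa [this] at hy
      · have htn : t ∈ Subgroup.normalizer (D : Set S) := by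
          rw [Subgroup.mem_normalizer_iff]
          intro y
          constructor
          · rintro ⟨a, rfl⟩
            refine ⟨⟨t * a * t⁻¹, hAn.conj_mem _ a.2 t⟩, ?_⟩
            simp only [hf, commutatorElement_def]
            group
          · rintro ⟨a, ha⟩
            have h3 : t⁻¹ * (a : S) * t ∈ A := by
              simpa using hAn.conj_mem _ a.2 t⁻¹
            refine ⟨⟨t⁻¹ * a * t, h3⟩, ?_⟩
            have hy : y = t⁻¹ * ⁅(a : S), t⁆ * t := by
              rw [← hf, ha]; group
            rw [hy, hf]
            simp only [commutatorElement_def]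
            group
        exact (Subgroup.zpowers_le.mpr htn)
    exact Subgroup.normalizer_eq_top_iff.mp (top_le_iff.mp hnorm)
  have hcomm : commutator S = D := by
    apply le_antisymm
    · rw [commutator_def, Subgroup.commutator_le]
      rintro x - y -
      have hx : x ∈ (A ⊔ Subgroup.zpowers t : Subgroup S) := by rw [hsup]; trivial
      have hy : y ∈ (A ⊔ Subgroup.zpowers t : Subgroup S) := by rw [hsup]; trivial
      rw [Subgroup.mem_sup_of_normal_left] at hx hy
      obtain ⟨a, ha, u, ⟨i, rfl⟩, rfl⟩ := hx
      obtain ⟨b, hb, v, ⟨j, rfl⟩, rfl⟩ := hy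
      rw [← QuotientGroup.eq_one_iff]
      have h1 : Commute ((a : S) : S ⧸ D) ((b : S) : S ⧸ D) := by
        show ((a : S) : S ⧸ D) * ((b : S) : S ⧸ D) = ((b : S) : S ⧸ D) * ((a : S) : S ⧸ D)
        rw [← QuotientGroup.mk_mul, ← QuotientGroup.mk_mul, comm_of_mem hA ha hb]
      have hct : ∀ c ∈ A, Commute ((c : S) : S ⧸ D) ((t : S) : S ⧸ D) := by
        intro c hc
        have h2 : ⁅c, t⁆ ∈ D := ⟨⟨c, hc⟩, rfl⟩
        have h3 : (((⁅c, t⁆ : S)) : S ⧸ D) = 1 := (QuotientGroup.eq_one_iff _).mpr h2
        rw [commutatorElement_def] at h3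
        simp only [QuotientGroup.mk_mul, QuotientGroup.mk_inv] at h3
        rw [commute_iff_eq]
        calc (c : S ⧸ D) * (t : S ⧸ D) =
            ((c : S ⧸ D) * (t : S ⧸ D) * (c : S ⧸ D)⁻¹ * (t : S ⧸ D)⁻¹) * ((t : S ⧸ D) * (c : S ⧸ D)) := by
              group
          _ = (t : S ⧸ D) * (c : S ⧸ D) := by rw [h3, one_mul]
      have hX : Commute ((a * t ^ i : S) : S ⧸ D) ((b * t ^ j : S) : S ⧸ D) := by
        simp only [QuotientGroup.mk_mul, QuotientGroup.mk_zpow]
        refine Commute.mul_left (Commute.mul_right h1 ((hct a ha).zpow_right j)) ?_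
        exact Commute.mul_right (((hct b hb).zpow_right i).symm) ((Commute.refl _).zpow_zpow i j)
      have e := map_commutatorElement (QuotientGroup.mk' D) (a * t ^ i) (b * t ^ j)
      have e' : ((⁅a * t ^ i, b * t ^ j⁆ : S) : S ⧸ D) =
          ⁅((a * t ^ i : S) : S ⧸ D), ((b * t ^ j : S) : S ⧸ D)⁆ := e
      rw [e', commutatorElement_eq_one_iff_mul_comm]
      exact hX
    · rintro _ ⟨a, rfl⟩
      exact Subgroup.commutator_mem_commutator (by trivial) (by trivial)
  -- the kernel is the centre
  have hker : (f.ker).map A.subtype = Subgroup.center S := by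
    apply le_antisymm
    · rintro _ ⟨a, ha, rfl⟩
      have h1 : ⁅(a : S), t⁆ = 1 := ha
      rw [commutatorElement_eq_one_iff_mul_comm] at h1
      -- `a` commutes with `A` and `t`
      have hle : (⊤ : Subgroup S) ≤ Subgroup.centralizer ({(a : S)} : Set S) := by
        rw [← hsup]
        refine sup_le ?_ ?_
        · intro b hb
          rw [Subgroup.mem_centralizer_iff]
          rintro _ rfl
          exact comm_of_mem hA a.2 hb
        · refine Subgroup.zpowers_le.mpr ?_
          rw [Subgroup.mem_centralizer_iff]
          rintro _ rfl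
          exact h1
      rw [Subgroup.mem_center_iff]
      intro g
      have := hle (Subgroup.mem_top g)
      rw [Subgroup.mem_centralizer_iff] at this
      exact (this a rfl).symm
    · intro z hz
      have hzA := center_le hS hna hA hAi hz
      refine ⟨⟨z, hzA⟩, ?_, rfl⟩
      show ⁅z, t⁆ = 1
      rw [commutatorElement_eq_one_iff_mul_comm]
      exact (Subgroup.mem_center_iff.mp hz t).symm
  have hcardker : Nat.card (f.ker) = Nat.card (Subgroup.center S) := by
    rw [← hker, card_map_subtype]
  have hAcard : Nat.card A = Nat.card (f.ker) * Nat.card D := by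
    rw [← Subgroup.index_ker f, mul_comm, Subgroup.index_mul_card]
  have htot : (Subgroup.center S).index * Nat.card (Subgroup.center S) = p * Nat.card A := by
    rw [Subgroup.index_mul_card, ← hAi, Subgroup.index_mul_card]
  rw [hAcard, hcardker] at htot
  have hpos : 0 < Nat.card (Subgroup.center S) := Nat.card_pos
  rw [hcomm]
  apply Nat.eq_of_mul_eq_mul_right hpos
  rw [htot]
  ring

end

section count

/-- Number of subgroups of order `p` in a group of order `p²` and exponent `p`. -/
theorem card_subgroups_order_p {V : Type*} [Group V] [Finite V] {p : ℕ} [hp : Fact p.Prime]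
    (hV : Nat.card V = p ^ 2) (hexp : ∀ a : V, a ^ p = 1) :
    Nat.card {U : Subgroup V // Nat.card U = p} = p + 1 := by
  classical
  have hpp : p.Prime := hp.out
  have : Fintype V := Fintype.ofFinite V
  have : Fintype (Subgroup V) := Fintype.ofFinite _
  -- a nontrivial element generates a subgroup of order `p`
  have hz : ∀ a : V, a ≠ 1 → Nat.card (Subgroup.zpowers a) = p := by
    intro a ha
    rw [Nat.card_zpowers]
    exact orderOf_eq_prime (hexp a) ha
  let s : Finset V := Finset.univ.filter (fun a => a ≠ 1)
  let t : Finset (Subgroup V) := Finset.univ.filter (fun U => Nat.card U = p)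
  have hmaps : (s : Set V).MapsTo (fun a => Subgroup.zpowers a) (t : Set (Subgroup V)) := by
    intro a ha
    have ha' : a ≠ 1 := by simpa [s] using ha
    simpa [t] using hz a ha'
  have h1 := Finset.card_eq_sum_card_fiberwise hmaps
  have hfib : ∀ U ∈ t, (s.filter (fun a => Subgroup.zpowers a = U)).card = p - 1 := by
    intro U hU
    have hU' : Nat.card U = p := by simpa [t] using hU
    have hset : s.filter (fun a => Subgroup.zpowers a = U) =
        (Finset.univ.filter (fun a => a ∈ U)).erase 1 := by
      ext a
      simp only [Finset.mem_filter, Finset.mem_univ, true_and, Finset.mem_erase, s]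
      constructor
      · rintro ⟨ha1, rfl⟩
        exact ⟨ha1, Subgroup.mem_zpowers a⟩
      · rintro ⟨ha1, haU⟩
        refine ⟨ha1, ?_⟩
        -- two subgroups of order `p`, one in the other
        have hle : Subgroup.zpowers a ≤ U := by
          rw [Subgroup.zpowers_le]
          exact haU
        exact Subgroup.eq_of_le_of_card_ge hle (by rw [hU', hz a ha1])
    rw [hset, Finset.card_erase_of_mem (by simp [U.one_mem])]
    congr 1
    have h3 : (Finset.univ.filter (fun a => a ∈ U)).card = Nat.card U := by
      rw [Nat.card_eq_fintype_card, Fintype.card_subtype]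
    rw [h3, hU']
  have h2 : s.card = p ^ 2 - 1 := by
    have h3 : s = Finset.univ.erase 1 := by
      ext a; simp [s]
    rw [h3, Finset.card_erase_of_mem (Finset.mem_univ _), Finset.card_univ,
      ← Nat.card_eq_fintype_card, hV]
  rw [h2, Finset.sum_congr rfl hfib, Finset.sum_const, smul_eq_mul] at h1
  have h4 : Nat.card {U : Subgroup V // Nat.card U = p} = t.card := by
    rw [Nat.card_eq_fintype_card, Fintype.card_subtype]
  rw [h4]
  have hp1 : 0 < p - 1 := by have := hpp.two_le; omega
  have h5 : p ^ 2 - 1 = (p + 1) * (p - 1) := by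
    obtain ⟨q, rfl⟩ : ∃ q, p = q + 1 := ⟨p - 1, by have := hpp.pos; omega⟩
    simp only [Nat.add_sub_cancel]
    have : (q + 1) ^ 2 = (q + 1 + 1) * q + 1 := by ring
    rw [this]
    simp
  rw [h5] at h1
  exact (Nat.eq_of_mul_eq_mul_right hp1 h1).symm

end count

/-- Let S be a non-abelian finite p-group with an abelian subgroup A of index p. -/
theorem result {S : Type*} [Group S] [Finite S] (p : ℕ) [Fact p.Prime] (hS : IsPGroup p S) (hna : ¬ IsMulCommutative S)
    (A : Subgroup S) (hA : IsMulCommutative ↥A) (hAi : A.index = p) :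
    (Subgroup.center S).index = p * Nat.card (commutator S) ∧
      ((Nat.card (commutator S) = p ∧ Cfsg.IsElementaryAbelian p (⊤ : Subgroup (S ⧸ Subgroup.center S)) ∧
          Nat.card (S ⧸ Subgroup.center S) = p ^ 2 ∧
          Nat.card {B : Subgroup S // IsMulCommutative ↥B ∧ B.index = p} = p + 1) ∨
        (p ^ 2 ≤ Nat.card (commutator S) ∧ ∀ B : Subgroup S, IsMulCommutative ↥B → B.index = p → B = A)) := by
  classical
  have hpp : p.Prime := Fact.out
  have hformula := index_center_and_comm hS hna hA hAi
  refine ⟨hformula, ?_⟩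
  -- the order of the commutator subgroup
  have hcpg : IsPGroup p (commutator S) := hS.to_subgroup _
  obtain ⟨k, hk⟩ := IsPGroup.iff_card.mp hcpg
  have hk0 : k ≠ 0 := by
    rintro rfl
    apply hna
    rw [pow_zero] at hk
    have hbot : commutator S = ⊥ := Subgroup.card_eq_one.mp hk
    rw [commutator_eq_bot_iff_center_eq_top] at hbot
    refine ⟨⟨fun a b => ?_⟩⟩
    have : a ∈ Subgroup.center S := by rw [hbot]; trivial
    exact (Subgroup.mem_center_iff.mp this b).symm
  by_cases hk1 : k = 1
  · subst hk1
    rw [pow_one] at hk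
    left
    refine ⟨hk, ?_⟩
    have hVcard : Nat.card (S ⧸ Subgroup.center S) = p ^ 2 := by
      rw [← Subgroup.index_eq_card, hformula, hk, sq]
    -- not cyclic
    have hncyc : ¬ IsCyclic (S ⧸ Subgroup.center S) := by
      intro hc
      apply hna
      exact MonoidHom.isMulCommutative_of_isCyclic_of_ker_le_center
        (QuotientGroup.mk' (Subgroup.center S)) (by rw [QuotientGroup.ker_mk'])
    have hVpg : IsPGroup p (S ⧸ Subgroup.center S) := IsPGroup.of_card hVcard
    have hexp : ∀ a : S ⧸ Subgroup.center S, a ^ p = 1 := by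
      intro a
      have hdvd : orderOf a ∣ p ^ 2 := by
        rw [← hVcard]
        exact orderOf_dvd_natCard a
      obtain ⟨i, hi, hai⟩ := (Nat.dvd_prime_pow hpp).mp hdvd
      have hi2 : i ≤ 1 := by
        by_contra hne
        have : i = 2 := by omega
        subst this
        apply hncyc
        exact isCyclic_of_orderOf_eq_card a (by rw [hVcard, hai])
      apply orderOf_dvd_iff_pow_eq_one.mp
      rw [hai]
      simpa using pow_dvd_pow p hi2
    refine ⟨⟨?_, fun a _ => hexp a⟩, hVcard, ?_⟩
    · have := (IsPGroup.isMulCommutative_of_card_eq_prime_sq hVcard)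
      refine ⟨⟨fun a b => ?_⟩⟩
      apply Subtype.ext
      exact this.is_comm.comm _ _
    · -- the bijection with subgroups of the quotient
      rw [← card_subgroups_order_p hVcard hexp]
      set π := QuotientGroup.mk' (Subgroup.center S) with hπ
      have hπs : Function.Surjective π := QuotientGroup.mk'_surjective _
      have hkerπ : π.ker = Subgroup.center S := QuotientGroup.ker_mk' _
      refine Nat.card_congr ⟨fun B => ⟨B.1.map π, ?_⟩, fun U => ⟨U.1.comap π, ?_, ?_⟩, ?_, ?_⟩
      · -- card of the image
        have h1 : (B.1.map π).index = p := by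
          rw [Subgroup.index_map_eq B.1 hπs (by
            rw [hkerπ]
            exact center_le hS hna B.2.1 B.2.2), B.2.2]
        have h2 := Subgroup.index_mul_card (B.1.map π)
        rw [h1, hVcard, sq] at h2
        exact Nat.eq_of_mul_eq_mul_left hpp.pos h2
      · -- the preimage is abelian
        obtain ⟨U, hU⟩ := U
        have hUne : U ≠ ⊥ := by
          rintro rfl
          simp at hU
          exact hpp.one_lt.ne hU
        obtain ⟨⟨u, huU⟩, hu1⟩ := Subgroup.ne_bot_iff_exists_ne_one.mp hUne
        obtain ⟨x, hx⟩ := hπs u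
        have hu1' : u ≠ 1 := fun h => hu1 (Subtype.ext h)
        have hgen : ∀ b ∈ U.comap π, ∃ i : ℤ, ∃ z ∈ Subgroup.center S, b = x ^ i * z := by
          intro b hb
          have : Fintype U := Fintype.ofFinite _
          have : (⟨π b, hb⟩ : U) ∈ Subgroup.zpowers (⟨u, huU⟩ : U) :=
            mem_zpowers_of_prime_card hU (fun h => hu1' (congrArg Subtype.val h))
          obtain ⟨i, hi⟩ := this
          have hi' : u ^ i = π b := by
            have := congrArg Subtype.val hi
            simpa using this
          refine ⟨i, (x ^ i)⁻¹ * b, ?_, by group⟩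
          rw [← hkerπ, MonoidHom.mem_ker, map_mul, map_inv, map_zpow, hx, hi']
          simp
        refine ⟨⟨fun a b => ?_⟩⟩
        obtain ⟨i, z, hz, hi⟩ := hgen a a.2
        obtain ⟨j, w, hw, hj⟩ := hgen b b.2
        apply Subtype.ext
        show (a : S) * b = b * a
        rw [hi, hj]
        have e1 := Subgroup.mem_center_iff.mp hz
        have e2 := Subgroup.mem_center_iff.mp hw
        calc x ^ i * z * (x ^ j * w) = x ^ i * x ^ j * (z * w) := by
              rw [mul_assoc (x ^ i), ← mul_assoc z, ← e1 (x ^ j)]
              group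
          _ = x ^ j * x ^ i * (w * z) := by
              rw [(Commute.refl x).zpow_zpow i j |>.eq, e2 z]
          _ = x ^ j * w * (x ^ i * z) := by
              rw [mul_assoc (x ^ j) w, ← mul_assoc w, ← e2 (x ^ i)]
              group
      · -- the preimage has index `p`
        rw [Subgroup.index_comap_of_surjective _ hπs]
        have h2 := Subgroup.index_mul_card U.1
        rw [U.2, hVcard, sq] at h2
        exact Nat.eq_of_mul_eq_mul_right hpp.pos h2
      · intro B
        apply Subtype.ext
        show (B.1.map π).comap π = B.1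
        rw [Subgroup.comap_map_eq, hkerπ]
        exact sup_eq_left.mpr (center_le hS hna B.2.1 B.2.2)
      · intro U
        apply Subtype.ext
        show (U.1.comap π).map π = U.1
        exact Subgroup.map_comap_eq_self_of_surjective hπs _
  · right
    have hk2 : 2 ≤ k := by omega
    refine ⟨by rw [hk]; exact Nat.pow_le_pow_right hpp.pos hk2, ?_⟩
    intro B hB hBi
    by_contra hne
    have hBn : B.Normal := normal_of_index_eq_prime hS B hBi
    have hAn : A.Normal := normal_of_index_eq_prime hS A hAi
    -- `A ⊔ B = ⊤`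
    have hsup : B ⊔ A = ⊤ := by
      -- otherwise `A = B`
      by_contra hsupne
      have h1 : (B ⊔ A).index ∣ p := by
        rw [← hAi]
        exact Subgroup.index_dvd_of_le le_sup_right
      rcases (Nat.dvd_prime hpp).mp h1 with h2 | h2
      · exact hsupne (Subgroup.index_eq_one.mp h2)
      · have h3 := Subgroup.relIndex_mul_index (H := A) (K := B ⊔ A) le_sup_right
        rw [h2, hAi] at h3
        have h4 : A.relIndex (B ⊔ A) = 1 :=
          Nat.eq_of_mul_eq_mul_right hpp.pos (by simpa using h3)
        rw [Subgroup.relIndex_eq_one] at h4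
        have h5 : B ≤ A := le_trans le_sup_left h4
        have h6 := Subgroup.relIndex_mul_index h5
        rw [hAi, hBi] at h6
        have h7 : B.relIndex A = 1 :=
          Nat.eq_of_mul_eq_mul_right hpp.pos (by simpa using h6)
        rw [Subgroup.relIndex_eq_one] at h7
        exact hne (le_antisymm h5 h7)
    -- the intersection is central
    have hinf : A ⊓ B ≤ Subgroup.center S := by
      intro x hx
      have hle : (⊤ : Subgroup S) ≤ Subgroup.centralizer ({x} : Set S) := by
        rw [← hsup]
        refine sup_le ?_ ?_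
        · intro b hb
          rw [Subgroup.mem_centralizer_iff]
          rintro _ rfl
          exact comm_of_mem hB hx.2 hb
        · intro b hb
          rw [Subgroup.mem_centralizer_iff]
          rintro _ rfl
          exact comm_of_mem hA hx.1 hb
      rw [Subgroup.mem_center_iff]
      intro g
      have := hle (Subgroup.mem_top g)
      rw [Subgroup.mem_centralizer_iff] at this
      exact (this x rfl).symm
    -- index of the intersection
    have hidx : (A ⊓ B).index = p ^ 2 := by
      have h1 := Subgroup.relIndex_mul_index (H := A ⊓ B) (K := B) inf_le_right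
      rw [Subgroup.inf_relIndex_right, hBi] at h1
      have h2 := Subgroup.relIndex_sup_right B A
      rw [hsup, Subgroup.relIndex_top_right, hAi] at h2
      rw [← h1, ← h2, sq]
    have hdvd : (Subgroup.center S).index ∣ p ^ 2 := by
      rw [← hidx]
      exact Subgroup.index_dvd_of_le hinf
    have hle := Nat.le_of_dvd (pow_pos hpp.pos 2) hdvd
    rw [hformula, hk] at hle
    have h3 : p * p ^ 2 ≤ p * p ^ k :=
      Nat.mul_le_mul_left p (Nat.pow_le_pow_right hpp.pos hk2)
    have h4 : p ^ 2 < p * p ^ 2 := by
      have : 1 < p := hpp.one_lt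
      have h0 : 0 < p ^ 2 := by positivity
      nlinarith
    omega

end Cfsg.Agent.S3807
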