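import Mathlib
import Cfsg.Statements.S3808
import Cfsg.Agent.Lib.ExtraBasics

set_option autoImplicit false
open Cfsg

namespace Cfsg.Agent.S3808

open Cfsg.Agent.Lib.ExtraBasics

/-- Let S be a finite p-group with an extraspecial subgroup Q of index p. Then either Z(S) = Z(Q), or S = Q·Z(S) and Z(S) has order p². -/
theorem result {S : Type*} [Group S] [Finite S] (p : ℕ) [Fact p.Prime] (hS : IsPGroup p S) (Q : Subgroup S) (hQ : Cfsg.IsExtraspecial p ↥Q) (hQi : Q.index = p) :
    Subgroup.center S = (Subgroup.center ↥Q).map Q.subtype ∨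
      (Q ⊔ Subgroup.center S = ⊤ ∧ Nat.card (Subgroup.center S) = p ^ 2) := by
  have hQn : Q.Normal := normal_of_index_eq_prime hS Q hQi
  set Z₀ : Subgroup S := (Subgroup.center ↥Q).map Q.subtype with hZ₀
  have hZ₀n : Z₀.Normal := map_center_normal Q
  have hcardZ₀ : Nat.card Z₀ = p := by
    rw [hZ₀, card_map_subtype]
    exact hQ.2
  have hZ₀le : Z₀ ≤ Subgroup.center S := le_center_of_normal_of_card hS Z₀ hcardZ₀
  -- elements of `Q` central in `S` lie in `Z₀`
  have hinf : ∀ z, z ∈ Subgroup.center S → z ∈ Q → z ∈ Z₀ := by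
    intro z hz hzQ
    refine ⟨⟨z, hzQ⟩, ?_, rfl⟩
    show _ ∈ Subgroup.center Q
    rw [Subgroup.mem_center_iff]
    rintro ⟨y, hy⟩
    exact Subtype.ext (Subgroup.mem_center_iff.mp hz y)
  have hZ₀Q : Z₀ ≤ Q := by
    rintro _ ⟨z, -, rfl⟩
    exact z.2
  by_cases hle : Subgroup.center S ≤ Q
  · left
    apply le_antisymm _ hZ₀le
    intro z hz
    exact hinf z hz (hle hz)
  · right
    -- `Q ⊔ Z(S) = ⊤`
    have hsup : Q ⊔ Subgroup.center S = ⊤ := by
      have h1 : (Q ⊔ Subgroup.center S).index ∣ p := by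
        rw [← hQi]
        exact Subgroup.index_dvd_of_le le_sup_left
      rcases (Nat.dvd_prime Fact.out).mp h1 with h2 | h2
      · exact Subgroup.index_eq_one.mp h2
      · exfalso
        have h3 := Subgroup.relIndex_mul_index (H := Q) (K := Q ⊔ Subgroup.center S) le_sup_left
        rw [h2, hQi] at h3
        have h4 : Q.relIndex (Q ⊔ Subgroup.center S) = 1 := by
          have hp : 0 < p := (Fact.out : p.Prime).pos
          exact Nat.eq_of_mul_eq_mul_right hp (by simpa using h3)
        rw [Subgroup.relIndex_eq_one] at h4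
        exact hle (le_trans le_sup_right h4)
    refine ⟨hsup, ?_⟩
    have h1 : Q.relIndex (Subgroup.center S) = p := by
      have := Subgroup.relIndex_sup_right (Subgroup.center S) Q
      rw [sup_comm, hsup, Subgroup.relIndex_top_right, hQi] at this
      exact this.symm
    have h2 : Q ⊓ Subgroup.center S = Z₀ := by
      apply le_antisymm
      · intro z hz
        exact hinf z hz.2 hz.1
      · exact le_inf hZ₀Q hZ₀le
    have h3 := relIndex_mul_card (H := Q ⊓ Subgroup.center S) (K := Subgroup.center S) inf_le_right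
    rw [Subgroup.inf_relIndex_right, h1, h2, hcardZ₀] at h3
    rw [← h3, sq]

end Cfsg.Agent.S3808
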