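import Mathlib
import Cfsg.Statements.S3809
import Cfsg.Agent.Lib.ExtraBasics
import Cfsg.Agent.Lib.Frat

set_option autoImplicit false
open Cfsg

namespace Cfsg.Agent.S3809

open Cfsg.Agent.Lib.ExtraBasics

/-- Let S be a finite p-group with an extraspecial subgroup of index p. Then S has order p^(2+2n) for some n ≥ 1, derived length at most 3, and exponent dividing p³. -/
theorem result {S : Type*} [Group S] [Finite S] (p : ℕ) [Fact p.Prime] (hS : IsPGroup p S) (Q : Subgroup S) (hQ : Cfsg.IsExtraspecial p ↥Q) (hQi : Q.index = p) :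
    (∃ n : ℕ, 1 ≤ n ∧ Nat.card S = p ^ (2 + 2 * n)) ∧ derivedSeries S 3 = ⊥ ∧ ∀ x : S, x ^ (p ^ 3) = 1 := by
  have hQn : Q.Normal := normal_of_index_eq_prime hS Q hQi
  have hpp : p.Prime := Fact.out
  refine ⟨?_, ?_, ?_⟩
  · obtain ⟨n, hn, hc⟩ := card_of_isExtraspecial hQ
    refine ⟨n, hn, ?_⟩
    have := Subgroup.index_mul_card Q
    rw [hQi, hc] at this
    rw [← this]
    ring
  · -- `S' ≤ Q`
    have hquot : Nat.card (S ⧸ Q) = p := by
      rw [← Subgroup.index_eq_card, hQi]
    have hcyc : IsCyclic (S ⧸ Q) := by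
      haveI : Fact (Nat.card (S ⧸ Q)).Prime := by rw [hquot]; infer_instance
      exact isCyclic_of_prime_card rfl
    have h1 : commutator S ≤ Q := by
      have hcomm : ∀ a b : S ⧸ Q, a * b = b * a := (IsCyclic.isMulCommutative (α := S ⧸ Q)).is_comm.comm
      rw [← QuotientGroup.ker_mk' Q]
      rw [commutator_def, Subgroup.commutator_le]
      intro a _ b _
      rw [MonoidHom.mem_ker, map_commutatorElement, commutatorElement_eq_one_iff_mul_comm]
      exact hcomm _ _
    -- `S'' ≤ Q' = Z(Q)`
    have h2 : derivedSeries S 2 ≤ (Subgroup.center Q).map Q.subtype := by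
      have e : derivedSeries S 2 = ⁅commutator S, commutator S⁆ := rfl
      rw [e]
      have e2 : (Subgroup.center Q).map Q.subtype = ⁅Q, Q⁆ := by
        rw [← hQ.1.2.2, commutator_def, Subgroup.map_commutator, ← MonoidHom.range_eq_map,
          Subgroup.range_subtype]
      rw [e2]
      exact Subgroup.commutator_mono h1 h1
    have h3 : derivedSeries S 3 = ⁅derivedSeries S 2, derivedSeries S 2⁆ := rfl
    rw [h3, eq_bot_iff]
    -- the image of the center of `Q` is abelian
    rw [Subgroup.commutator_le]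
    intro a ha b hb
    obtain ⟨a', ha', rfl⟩ := h2 ha
    obtain ⟨b', hb', rfl⟩ := h2 hb
    have : a' * b' = b' * a' := (Subgroup.mem_center_iff.mp ha' b').symm
    rw [Subgroup.mem_bot, commutatorElement_eq_one_iff_mul_comm]
    show (a' : S) * b' = b' * a'
    exact congrArg Subtype.val this
  · intro x
    -- `x^p ∈ Q`
    have h1 : x ^ p ∈ Q := by
      have : (x : S ⧸ Q) ^ p = 1 := by
        have h2 : Nat.card (S ⧸ Q) = p := by rw [← Subgroup.index_eq_card, hQi]
        rw [← h2]
        exact pow_card_eq_one'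
      rw [← QuotientGroup.mk_pow] at this
      exact (QuotientGroup.eq_one_iff _).mp this
    -- every element of `Q` has `y^p ∈ Z(Q)`
    have h2 : ∀ y : Q, y ^ p ∈ Subgroup.center Q := by
      intro y
      rw [← hQ.1.2.1]
      have hpg : IsPGroup p Q := hQ.1.1
      exact Cfsg.Agent.Lib.Frat.pow_mem_frattini hpg y
    have h3 : ∀ z : Subgroup.center Q, z ^ p = 1 := by
      intro z
      rw [← hQ.2]
      exact pow_card_eq_one'
    have h4 := h3 ⟨(⟨x ^ p, h1⟩ : Q) ^ p, h2 _⟩
    have h5 : ((⟨x ^ p, h1⟩ : Q) ^ p) ^ p = 1 := by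
      have := congrArg Subtype.val h4
      simpa using this
    have h6 : ((x ^ p) ^ p) ^ p = 1 := by
      have := congrArg Subtype.val h5
      simpa using this
    rw [show p ^ 3 = p * p * p by ring, pow_mul, pow_mul]
    exact h6

end Cfsg.Agent.S3809
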