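import Mathlib
import Cfsg.Statements.S3810
import Cfsg.Agent.S3807
import Cfsg.Agent.Lib.ExtraBasics

set_option autoImplicit false
open Cfsg
open scoped commutatorElement

namespace Cfsg.Agent.S3810

open Cfsg.Agent.Lib.ExtraBasics

/-- Let S be a finite p-group with an extraspecial subgroup of index p. Then S has an abelian subgroup of index p if and only if S has order p⁴. -/
theorem result {S : Type*} [Group S] [Finite S] (p : ℕ) [Fact p.Prime] (hS : IsPGroup p S) (Q : Subgroup S) (hQ : Cfsg.IsExtraspecial p ↥Q) (hQi : Q.index = p) :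
    (∃ A : Subgroup S, IsMulCommutative ↥A ∧ A.index = p) ↔ Nat.card S = p ^ 4 := by
  classical
  have hpp : p.Prime := Fact.out
  have hQn : Q.Normal := normal_of_index_eq_prime hS Q hQi
  obtain ⟨⟨hQpg, hQfr, hQcomm⟩, hQcard⟩ := id hQ
  have hQna : ¬ IsMulCommutative Q := by
    intro hc
    have htop : Subgroup.center Q = ⊤ := by
      rw [eq_top_iff]
      intro x _
      rw [Subgroup.mem_center_iff]
      intro y
      exact hc.is_comm.comm y x
    have hbot : commutator Q = ⊥ := by
      rw [commutator_eq_bot_iff_center_eq_top]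
      exact htop
    rw [hbot] at hQcomm
    rw [← hQcomm] at hQcard
    simp at hQcard
    exact hpp.one_lt.ne hQcard
  constructor
  · rintro ⟨A, hA, hAi⟩
    -- `Q` is not contained in `A`
    have hnle : ¬ Q ≤ A := by
      intro hle
      have : Q = A := by
        have h1 := Subgroup.relIndex_mul_index hle
        rw [hQi, hAi] at h1
        have h2 : Q.relIndex A = 1 := by
          exact Nat.eq_of_mul_eq_mul_right hpp.pos (by rw [h1, one_mul])
        exact le_antisymm hle (Subgroup.relIndex_eq_one.mp h2)
      subst this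
      exact hQna hA
    -- `A ⊔ Q = ⊤`
    have hsup : A ⊔ Q = ⊤ := by
      have h1 := Subgroup.relIndex_mul_index (le_sup_left : A ≤ A ⊔ Q)
      rw [hAi] at h1
      have h2 : (A ⊔ Q).index ∣ p := Dvd.intro_left _ h1
      rcases (Nat.dvd_prime hpp).mp h2 with h3 | h3
      · exact Subgroup.index_eq_one.mp h3
      · exfalso
        rw [h3] at h1
        have h4 : A.relIndex (A ⊔ Q) = 1 :=
          Nat.eq_of_mul_eq_mul_right hpp.pos (by rw [h1, one_mul])
        have h5 : A ⊔ Q ≤ A := Subgroup.relIndex_eq_one.mp h4
        exact hnle (le_sup_right.trans h5)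
    have hrel : (A.subgroupOf Q).index = p := by
      rw [← Subgroup.relIndex, ← relIndex_sup_eq, hsup, Subgroup.relIndex_top_right, hAi]
    have hA' : IsMulCommutative (A.subgroupOf Q) := by
      refine ⟨⟨fun a b => ?_⟩⟩
      apply Subtype.ext
      apply Subtype.ext
      have h := hA.is_comm.comm (⟨a.1.1, a.2⟩ : A) (⟨b.1.1, b.2⟩ : A)
      have h' : (a.1.1 : S) * b.1.1 = b.1.1 * a.1.1 := congrArg (Subtype.val (p := fun x => x ∈ A)) h
      exact h'
    have hform := Cfsg.Agent.S3807.index_center_and_comm hQpg hQna hA' hrel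
    rw [hQcomm, hQcard] at hform
    have h1 := Subgroup.index_mul_card (Subgroup.center Q)
    rw [hform, hQcard] at h1
    have h2 := Subgroup.index_mul_card Q
    rw [hQi, ← h1] at h2
    rw [← h2]
    ring
  · intro hcard
    -- the order of `Q`
    have hQ3 : Nat.card Q = p ^ 3 := by
      have h2 := Subgroup.index_mul_card Q
      rw [hQi, hcard] at h2
      have : p * Nat.card Q = p * p ^ 3 := by rw [h2]; ring
      exact Nat.eq_of_mul_eq_mul_left hpp.pos this
    set Z₀ : Subgroup S := (Subgroup.center ↥Q).map Q.subtype with hZ₀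
    have hZ₀n : Z₀.Normal := map_center_normal Q
    have hcardZ₀ : Nat.card Z₀ = p := by
      rw [hZ₀, card_map_subtype]
      exact hQcard
    have hZ₀c : Z₀ ≤ Subgroup.center S := le_center_of_normal_of_card hS Z₀ hcardZ₀
    have hZ₀Q : Z₀ ≤ Q := by
      rintro _ ⟨z, _, rfl⟩
      exact z.2
    have hlt : Z₀ < Q := by
      refine lt_of_le_of_ne hZ₀Q ?_
      intro h
      rw [h, hQ3] at hcardZ₀
      have : p ^ 3 = p ^ 1 := by rw [hcardZ₀, pow_one]
      have := Nat.pow_right_injective hpp.two_le this
      omega
    obtain ⟨x, hxQ, hxZ, hxcomm⟩ := Cfsg.Agent.Lib.PGrp.exists_central_mod hS Z₀ Q hlt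
    -- the commutator homomorphism
    have hZc : ∀ z ∈ Z₀, ∀ g : S, g * z = z * g := fun z hz g =>
      Subgroup.mem_center_iff.mp (hZ₀c hz) g
    let φ : S →* Z₀ :=
      { toFun := fun g => ⟨⁅x, g⁆, hxcomm g⟩
        map_one' := by
          ext
          simp
        map_mul' := by
          intro a b
          ext
          show ⁅x, a * b⁆ = ⁅x, a⁆ * ⁅x, b⁆
          have hc := hZc _ (hxcomm b) a
          have : ⁅x, a * b⁆ = ⁅x, a⁆ * (a * ⁅x, b⁆ * a⁻¹) := by
            simp only [commutatorElement_def]; group
          rw [this, hc]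
          simp }
    have hmemker : ∀ g, g ∈ φ.ker ↔ ⁅x, g⁆ = 1 := by
      intro g
      rw [MonoidHom.mem_ker]
      exact ⟨fun h => congrArg Subtype.val h, fun h => Subtype.ext h⟩
    set C : Subgroup S := φ.ker with hC
    -- `x` is not central in `S`
    have hxnc : x ∉ Subgroup.center S := by
      intro hxc
      apply hxZ
      refine ⟨⟨x, hxQ⟩, ?_, rfl⟩
      show _ ∈ Subgroup.center Q
      rw [Subgroup.mem_center_iff]
      rintro ⟨y, hy⟩
      apply Subtype.ext
      exact Subgroup.mem_center_iff.mp hxc y
    have hCne : C ≠ ⊤ := by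
      intro hCt
      apply hxnc
      rw [Subgroup.mem_center_iff]
      intro g
      have : g ∈ C := by rw [hCt]; trivial
      have := (hmemker g).mp this
      rw [commutatorElement_eq_one_iff_mul_comm] at this
      exact this.symm
    have hCi : C.index = p := by
      have h1 : C.index ∣ p := by
        rw [hC, Subgroup.index_ker]
        have := Subgroup.card_subgroup_dvd_card φ.range
        rwa [hcardZ₀] at this
      rcases (Nat.dvd_prime hpp).mp h1 with h2 | h2
      · exact absurd (Subgroup.index_eq_one.mp h2) hCne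
      · exact h2
    have hCcard : Nat.card C = p ^ 3 := by
      have h2 := Subgroup.index_mul_card C
      rw [hCi, hcard] at h2
      have : p * Nat.card C = p * p ^ 3 := by rw [h2]; ring
      exact Nat.eq_of_mul_eq_mul_left hpp.pos this
    refine ⟨C, ?_, hCi⟩
    have hxC : x ∈ C := by
      rw [hC, hmemker]
      simp
    have hZ₀C : Z₀ ≤ C := by
      intro z hz
      rw [hC, hmemker, commutatorElement_eq_one_iff_mul_comm]
      exact hZc z hz x
    -- the center of `C`
    set Z' : Subgroup S := (Subgroup.center C).map C.subtype with hZ'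
    have hxZ' : x ∈ Z' := by
      refine ⟨⟨x, hxC⟩, ?_, rfl⟩
      show _ ∈ Subgroup.center C
      rw [Subgroup.mem_center_iff]
      rintro ⟨y, hy⟩
      apply Subtype.ext
      have := (hmemker y).mp hy
      rw [commutatorElement_eq_one_iff_mul_comm] at this
      exact this.symm
    have hZ₀Z' : Z₀ ≤ Z' := by
      intro z hz
      refine ⟨⟨z, hZ₀C hz⟩, ?_, rfl⟩
      show _ ∈ Subgroup.center C
      rw [Subgroup.mem_center_iff]
      rintro ⟨y, hy⟩
      apply Subtype.ext
      exact hZc z hz y
    have hZ'card : Nat.card (Subgroup.center C) = Nat.card Z' := (card_map_subtype C _).symm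
    have hCpg : IsPGroup p C := hS.to_subgroup C
    obtain ⟨k, hk⟩ := IsPGroup.iff_card.mp
      (hCpg.to_subgroup (Subgroup.center C))
    have hdvd : p ∣ Nat.card (Subgroup.center C) := by
      rw [hZ'card, ← hcardZ₀]
      exact Subgroup.card_dvd_of_le hZ₀Z'
    have hne : Nat.card (Subgroup.center C) ≠ p := by
      intro h
      rw [hZ'card, ← hcardZ₀] at h
      have := Subgroup.eq_of_le_of_card_ge hZ₀Z' h.le
      rw [← this] at hxZ'
      exact hxZ hxZ'
    have hk2 : 2 ≤ k := by
      by_contra hlt2
      have : k = 0 ∨ k = 1 := by omega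
      rcases this with rfl | rfl
      · rw [hk, pow_zero] at hdvd
        exact hpp.one_lt.ne' (Nat.dvd_one.mp hdvd)
      · rw [hk, pow_one] at hne
        exact hne rfl
    have hidx : (Subgroup.center C).index ∣ p := by
      have h1 := Subgroup.index_mul_card (Subgroup.center C)
      rw [hk, hCcard] at h1
      obtain ⟨j, rfl⟩ : ∃ j, k = 2 + j := ⟨k - 2, by omega⟩
      rw [pow_add] at h1
      have hp2 : 0 < p ^ 2 := pow_pos hpp.pos 2
      have : (Subgroup.center C).index * p ^ j = p := by
        apply Nat.eq_of_mul_eq_mul_right hp2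
        rw [pow_succ p 2] at h1
        nlinarith [h1]
      exact Dvd.intro _ this
    have hcyc : IsCyclic (C ⧸ Subgroup.center C) := by
      rcases (Nat.dvd_prime hpp).mp hidx with h | h
      · rw [Subgroup.index_eq_card] at h
        have : Subsingleton (C ⧸ Subgroup.center C) := (Nat.card_eq_one_iff_unique.mp h).1
        infer_instance
      · rw [Subgroup.index_eq_card] at h
        exact isCyclic_of_prime_card h
    exact MonoidHom.isMulCommutative_of_isCyclic_of_ker_le_center
      (QuotientGroup.mk' (Subgroup.center C)) (by simp)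

end Cfsg.Agent.S3810
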