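import Mathlib
import Cfsg.Statements.S3811
import Cfsg.Agent.S3807
import Cfsg.Agent.Lib.PGrp

set_option autoImplicit false
open Cfsg
open scoped commutatorElement

namespace Cfsg.Agent.S3811

open Cfsg.Agent.Lib.PGrp

universe u

section basics

variable {P : Type*} [Group P]

/-- Normalizer as a function of a subgroup. -/
abbrev Nm (E : Subgroup P) : Subgroup P := Subgroup.normalizer (E : Set P)

theorem le_Nm (E : Subgroup P) : E ≤ Nm E := Subgroup.le_normalizer

theorem mem_normalizer_of_conj [Finite P] {E : Subgroup P} {g : P}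
    (h : ∀ a ∈ E, g * a * g⁻¹ ∈ E) : g ∈ Nm E := by
  have hinj : Function.Injective (fun a : E => (⟨g * a.1 * g⁻¹, h a.1 a.2⟩ : E)) := by
    intro a b hab
    have h1 : g * a.1 * g⁻¹ = g * b.1 * g⁻¹ := congrArg Subtype.val hab
    apply Subtype.ext
    exact mul_left_cancel (mul_right_cancel h1)
  have hsurj := Finite.injective_iff_surjective.mp hinj
  rw [Subgroup.mem_normalizer_iff]
  intro x
  refine ⟨h x, fun hx => ?_⟩
  obtain ⟨a, ha⟩ := hsurj ⟨g * x * g⁻¹, hx⟩
  have h1 : g * a.1 * g⁻¹ = g * x * g⁻¹ := congrArg Subtype.val ha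
  have h2 : a.1 = x := mul_left_cancel (mul_right_cancel h1)
  rw [← h2]
  exact a.2

theorem comm_mem_iff (N : Subgroup P) [N.Normal] (x t : P) :
    ⁅x, t⁆ ∈ N ↔ (QuotientGroup.mk' N) x * (QuotientGroup.mk' N) t =
      (QuotientGroup.mk' N) t * (QuotientGroup.mk' N) x := by
  rw [← commutatorElement_eq_one_iff_mul_comm, ← map_commutatorElement]
  exact (QuotientGroup.eq_one_iff _).symm

/-- If `E` is abelian modulo `L` and `y` is central modulo `L`, then so is `E ⊔ ⟨y⟩`. -/
theorem comm_mem_of_sup (L : Subgroup P) [L.Normal] (E : Subgroup P) (y : P)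
    (hE : ∀ a ∈ E, ∀ b ∈ E, ⁅a, b⁆ ∈ L) (hy : ∀ g : P, ⁅y, g⁆ ∈ L) :
    ∀ a ∈ E ⊔ Subgroup.zpowers y, ∀ b ∈ E ⊔ Subgroup.zpowers y, ⁅a, b⁆ ∈ L := by
  let π := QuotientGroup.mk' L
  have hsymm : ∀ a b : P, ⁅a, b⁆ ∈ L → ⁅b, a⁆ ∈ L := by
    intro a b h
    have := Subgroup.inv_mem _ h
    rwa [commutatorElement_inv] at this
  have h1 : ∀ b ∈ E, ∀ a ∈ E ⊔ Subgroup.zpowers y, ⁅a, b⁆ ∈ L := by
    intro b hb a ha
    have hle : E ⊔ Subgroup.zpowers y ≤ (Subgroup.centralizer ({π b} : Set _)).comap π := by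
      refine sup_le ?_ ?_
      · intro x hx
        rw [Subgroup.mem_comap, Subgroup.mem_centralizer_iff]
        rintro _ rfl
        exact ((comm_mem_iff L x b).mp (hE x hx b hb)).symm
      · rw [Subgroup.zpowers_le, Subgroup.mem_comap, Subgroup.mem_centralizer_iff]
        rintro _ rfl
        exact ((comm_mem_iff L y b).mp (hy b)).symm
    have h2 := hle ha
    rw [Subgroup.mem_comap, Subgroup.mem_centralizer_iff] at h2
    exact (comm_mem_iff L a b).mpr (h2 _ rfl).symm
  intro a ha b hb
  have hle : E ⊔ Subgroup.zpowers y ≤ (Subgroup.centralizer ({π a} : Set _)).comap π := by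
    refine sup_le ?_ ?_
    · intro x hx
      rw [Subgroup.mem_comap, Subgroup.mem_centralizer_iff]
      rintro _ rfl
      exact ((comm_mem_iff L a x).mp (h1 x hx a ha))
    · rw [Subgroup.zpowers_le, Subgroup.mem_comap, Subgroup.mem_centralizer_iff]
      rintro _ rfl
      exact ((comm_mem_iff L a y).mp (hsymm _ _ (hy a)))
  have h2 := hle hb
  rw [Subgroup.mem_comap, Subgroup.mem_centralizer_iff] at h2
  exact (comm_mem_iff L a b).mpr (h2 _ rfl)

theorem normal_sup_zpowers (Z : Subgroup P) [Z.Normal] (y : P) (hy : ∀ g : P, ⁅y, g⁆ ∈ Z) :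
    (Z ⊔ Subgroup.zpowers y).Normal := by
  constructor
  intro x hx g
  have hle : Z ⊔ Subgroup.zpowers y ≤
      (Z ⊔ Subgroup.zpowers y).comap (MulAut.conj g).toMonoidHom := by
    refine sup_le ?_ ?_
    · intro z hz
      rw [Subgroup.mem_comap]
      show g * z * g⁻¹ ∈ _
      exact (le_sup_left : Z ≤ Z ⊔ Subgroup.zpowers y) (‹Z.Normal›.conj_mem z hz g)
    · rw [Subgroup.zpowers_le]
      rw [Subgroup.mem_comap]
      show g * y * g⁻¹ ∈ _
      have h1 : g * y * g⁻¹ = ⁅y, g⁆⁻¹ * y := by
        simp only [commutatorElement_def]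
        group
      rw [h1]
      exact Subgroup.mul_mem _ ((le_sup_left : Z ≤ Z ⊔ Subgroup.zpowers y) (Subgroup.inv_mem _ (hy g)))
        ((le_sup_right : Subgroup.zpowers y ≤ Z ⊔ Subgroup.zpowers y) (Subgroup.mem_zpowers y))
  exact hle hx

/-- Softness relative to a normal subgroup `N`: the image of `E` in `P / N` is abelian,
self-centralizing and of index `p` in its normalizer. -/
structure Soft (p : ℕ) (N E : Subgroup P) : Prop where
  normal : N.Normal
  le : N ≤ E
  comm : ∀ a ∈ E, ∀ b ∈ E, ⁅a, b⁆ ∈ N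
  cent : ∀ g : P, (∀ a ∈ E, ⁅g, a⁆ ∈ N) → g ∈ E
  idx : E.relIndex (Nm E) = p

end basics

section soft

variable {P : Type u} [Group P] [Finite P] {p : ℕ} [hp : Fact p.Prime] {N E : Subgroup P}

theorem Nm_le_of_ne (hP : IsPGroup p P) (hS : Soft p N E) {K : Subgroup P} (hE : E ≤ K)
    (hne : K ≠ E) : Nm E ≤ K := by
  have hlt : E < K := lt_of_le_of_ne hE (Ne.symm hne)
  obtain ⟨x, hxK, hxE, hxN⟩ := exists_mem_normalizer_of_lt (hP.to_subgroup K) hlt
  set M := E ⊔ Subgroup.zpowers x with hM
  have hEM : E ≤ M := le_sup_left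
  have hxM : x ∈ M := (le_sup_right : Subgroup.zpowers x ≤ M) (Subgroup.mem_zpowers x)
  have hMN : M ≤ Nm E := sup_le (le_Nm E) (by rwa [Subgroup.zpowers_le])
  have hMK : M ≤ K := sup_le hE (by rwa [Subgroup.zpowers_le])
  have h1 : E.relIndex M * M.relIndex (Nm E) = E.relIndex (Nm E) :=
    Subgroup.relIndex_mul_relIndex E M (Nm E) hEM hMN
  rw [hS.idx] at h1
  have h2 : E.relIndex M ≠ 1 := by
    intro h
    exact hxE (Subgroup.relIndex_eq_one.mp h hxM)
  have h3 : E.relIndex M ∣ p := Dvd.intro _ h1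
  rcases (Nat.dvd_prime hp.out).mp h3 with h4 | h4
  · exact absurd h4 h2
  · rw [h4] at h1
    have h5 : M.relIndex (Nm E) = 1 :=
      Nat.eq_of_mul_eq_mul_left hp.out.pos (by rw [h1, mul_one])
    exact (Subgroup.relIndex_eq_one.mp h5).trans hMK

/-- The index of the normalizer tower is `p`. -/
theorem idx_succ (hP : IsPGroup p P) (hS : Soft p N E) (hne : Nm E ≠ ⊤) :
    (Nm E).relIndex (Nm (Nm E)) = p := by
  classical
  have hpp : p.Prime := hp.out
  have hNn : N.Normal := hS.normal
  set H := Nm E with hH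
  set H₂ := Nm H with hH₂
  have hlt : H < ⊤ := lt_top_iff_ne_top.mpr hne
  obtain ⟨g₀, -, hg₀H, hg₀⟩ := exists_mem_normalizer_of_lt
    (hP.to_subgroup (⊤ : Subgroup P)) hlt
  -- the conjugates
  let cj : P → Subgroup P := fun g => E.map (MulAut.conj g).toMonoidHom
  have hcjmem : ∀ g a, a ∈ E → g * a * g⁻¹ ∈ cj g := fun g a ha => ⟨a, ha, rfl⟩
  have hHinv : ∀ g ∈ H₂, H.map (MulAut.conj g).toMonoidHom = H := by
    intro g hg
    apply le_antisymm
    · rintro _ ⟨a, ha, rfl⟩
      exact (Subgroup.mem_normalizer_iff.mp hg a).mp ha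
    · intro a ha
      refine ⟨g⁻¹ * a * g, ?_, ?_⟩
      · have h1 := (Subgroup.mem_normalizer_iff.mp hg (g⁻¹ * a * g))
        have h2 : g * (g⁻¹ * a * g) * g⁻¹ = a := by group
        rw [h2] at h1
        exact h1.mpr ha
      · show g * (g⁻¹ * a * g) * g⁻¹ = a
        group
  have hcjH : ∀ g ∈ H₂, cj g ≤ H := by
    intro g hg
    rw [← hHinv g hg]
    exact Subgroup.map_mono (le_Nm E)
  have hNcj : ∀ g, N ≤ cj g := by
    intro g n hn
    refine ⟨g⁻¹ * n * g, hS.le (by
      have := hNn.conj_mem n hn g⁻¹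
      simpa using this), ?_⟩
    show g * (g⁻¹ * n * g) * g⁻¹ = n
    group
  -- the quotient
  have hNH : (N.subgroupOf H).Normal := inferInstance
  let π : H →* H ⧸ N.subgroupOf H := QuotientGroup.mk' (N.subgroupOf H)
  have hπs : Function.Surjective π := QuotientGroup.mk'_surjective _
  have hπk : π.ker = N.subgroupOf H := QuotientGroup.ker_mk' _
  let B : P → Subgroup (H ⧸ N.subgroupOf H) := fun g => ((cj g).subgroupOf H).map π
  have hBcomap : ∀ g, (B g).comap π = (cj g).subgroupOf H := by
    intro g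
    rw [Subgroup.comap_map_eq, hπk]
    apply sup_eq_left.mpr
    intro x hx
    exact hNcj g hx
  have hBidx : ∀ g ∈ H₂, (B g).index = p := by
    intro g hg
    rw [← Subgroup.index_comap_of_surjective _ hπs, hBcomap]
    show (cj g).relIndex H = p
    have h1 := Subgroup.relIndex_map_map_of_injective E H
      (f := (MulAut.conj g).toMonoidHom) (MulEquiv.injective _)
    rw [hHinv g hg] at h1
    rw [h1]
    exact hS.idx
  have hBcomm : ∀ g, IsMulCommutative (B g) := by
    intro g
    refine ⟨⟨?_⟩⟩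
    rintro ⟨_, ⟨x, ⟨a, ha, hax⟩, rfl⟩⟩ ⟨_, ⟨y, ⟨b, hb, hby⟩, rfl⟩⟩
    apply Subtype.ext
    show π x * π y = π y * π x
    rw [← commutatorElement_eq_one_iff_mul_comm, ← map_commutatorElement]
    apply (QuotientGroup.eq_one_iff _).mpr
    show ((⁅x, y⁆ : H) : P) ∈ N
    have hx : (x : P) = g * a * g⁻¹ := hax.symm
    have hy : (y : P) = g * b * g⁻¹ := hby.symm
    have h1 : ((⁅x, y⁆ : H) : P) = ⁅(x : P), (y : P)⁆ := rfl
    rw [h1, hx, hy]
    have h2 : ⁅g * a * g⁻¹, g * b * g⁻¹⁆ = g * ⁅a, b⁆ * g⁻¹ := by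
      simp only [commutatorElement_def]
      group
    rw [h2]
    exact hNn.conj_mem _ (hS.comm a ha b hb) g
  have hBinj : ∀ g ∈ H₂, ∀ g' ∈ H₂, B g = B g' → g⁻¹ * g' ∈ H := by
    intro g hg g' hg' h
    have h1 : (cj g).subgroupOf H = (cj g').subgroupOf H := by
      rw [← hBcomap, ← hBcomap, h]
    rw [Subgroup.subgroupOf_inj, inf_eq_left.mpr (hcjH g hg), inf_eq_left.mpr (hcjH g' hg')] at h1
    apply mem_normalizer_of_conj
    intro a ha
    have h2 : g' * a * g'⁻¹ ∈ cj g := by
      rw [h1]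
      exact hcjmem g' a ha
    obtain ⟨b, hb, hbe⟩ := h2
    have h3 : g * b * g⁻¹ = g' * a * g'⁻¹ := hbe
    have h4 : g⁻¹ * g' * a * (g⁻¹ * g')⁻¹ = b := by
      calc g⁻¹ * g' * a * (g⁻¹ * g')⁻¹ = g⁻¹ * (g' * a * g'⁻¹) * g := by group
        _ = g⁻¹ * (g * b * g⁻¹) * g := by rw [h3]
        _ = b := by group
    rw [h4]
    exact hb
  -- the structure of `H / N`
  have h1H : (1 : P) ∈ H₂ := Subgroup.one_mem _
  have hSP : IsPGroup p (H ⧸ N.subgroupOf H) := (hP.to_subgroup H).to_quotient _
  have hna : ¬ IsMulCommutative (H ⧸ N.subgroupOf H) := by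
    intro hc
    have hall : ∀ h ∈ H, h ∈ E := by
      intro h hh
      apply hS.cent
      intro a ha
      have h2 : π ⟨h, hh⟩ * π ⟨a, le_Nm E ha⟩ = π ⟨a, le_Nm E ha⟩ * π ⟨h, hh⟩ :=
        hc.is_comm.comm _ _
      rw [← commutatorElement_eq_one_iff_mul_comm, ← map_commutatorElement] at h2
      have h3 : (⁅(⟨h, hh⟩ : H), (⟨a, le_Nm E ha⟩ : H)⁆ : H) ∈ N.subgroupOf H :=
        (QuotientGroup.eq_one_iff _).mp h2
      exact h3
    have h2 : E.relIndex H = 1 := Subgroup.relIndex_eq_one.mpr hall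
    rw [hS.idx] at h2
    exact hpp.one_lt.ne' h2
  have hres := (Cfsg.Agent.S3807.result (S := H ⧸ N.subgroupOf H) p hSP hna (B 1) (hBcomm 1)
    (hBidx 1 h1H)).2
  have hcard : Nat.card {C : Subgroup (H ⧸ N.subgroupOf H) // IsMulCommutative ↥C ∧ C.index = p} =
      p + 1 := by
    rcases hres with ⟨-, -, -, h⟩ | ⟨-, h⟩
    · exact h
    · exfalso
      have h2 := h (B g₀) (hBcomm g₀) (hBidx g₀ hg₀)
      have h3 := hBinj g₀ hg₀ 1 h1H h2
      apply hg₀H
      have h4 := Subgroup.inv_mem _ h3
      simpa using h4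
  -- the injection of cosets
  have hle : H.relIndex H₂ ≤ p + 1 := by
    rw [← hcard]
    show (H.subgroupOf H₂).index ≤ _
    rw [Subgroup.index_eq_card]
    refine Nat.card_le_card_of_injective
      (fun c : H₂ ⧸ H.subgroupOf H₂ =>
        (⟨B (Quotient.out c : H₂).1, hBcomm _, hBidx _ (Quotient.out c : H₂).2⟩ :
          {C : Subgroup (H ⧸ N.subgroupOf H) // IsMulCommutative ↥C ∧ C.index = p})) ?_
    intro c d hcd
    have h1 : B (Quotient.out c : H₂).1 = B (Quotient.out d : H₂).1 := congrArg Subtype.val hcd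
    have h2 := hBinj _ (Quotient.out c : H₂).2 _ (Quotient.out d : H₂).2 h1
    rw [← QuotientGroup.out_eq' c, ← QuotientGroup.out_eq' d, QuotientGroup.eq]
    exact h2
  -- conclusion
  have hdvd : H.relIndex H₂ ∣ Nat.card H₂ := Subgroup.index_dvd_card _
  obtain ⟨m, hm⟩ := IsPGroup.iff_card.mp (hP.to_subgroup H₂)
  rw [hm] at hdvd
  obtain ⟨k, -, hk⟩ := (Nat.dvd_prime_pow hpp).mp hdvd
  rw [hk] at hle ⊢
  have hk0 : k ≠ 0 := by
    rintro rfl
    rw [pow_zero] at hk
    exact hg₀H (Subgroup.relIndex_eq_one.mp hk hg₀)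
  have hk1 : k = 1 := by
    by_contra hk2
    have h3 : 2 ≤ k := by omega
    have h4 : p ^ 2 ≤ p ^ k := Nat.pow_le_pow_right hpp.pos h3
    have h5 := hpp.two_le
    nlinarith
  rw [hk1, pow_one]

theorem Soft.lt_Nm (hS : Soft p N E) : E < Nm E := by
  refine lt_of_le_of_ne (le_Nm E) (fun h => ?_)
  have h1 := hS.idx
  rw [← h, Subgroup.relIndex_self] at h1
  exact hp.out.one_lt.ne h1

theorem conj_eq_comm_mul (g a : P) : g * a * g⁻¹ = ⁅g, a⁆ * a := by
  simp only [commutatorElement_def]
  group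

theorem Soft.succ (hP : IsPGroup p P) (hS : Soft p N E) (hne : Nm E ≠ ⊤) :
    Soft p E.normalCore (Nm E) := by
  classical
  have hNn : N.Normal := hS.normal
  have hLE : E.normalCore ≤ E := Subgroup.normalCore_le E
  have hNL : N ≤ E.normalCore := Subgroup.normal_le_normalCore.mpr hS.le
  have hLt : E.normalCore < ⊤ := by
    refine lt_top_iff_ne_top.mpr (fun h => hne ?_)
    have hE : E = ⊤ := top_le_iff.mp (h ▸ hLE)
    rw [hE]
    exact top_le_iff.mp (le_Nm ⊤)
  obtain ⟨y, -, hyL, hy⟩ := exists_central_mod hP E.normalCore ⊤ hLt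
  have hyN : y ∈ Nm E := by
    apply mem_normalizer_of_conj
    intro a ha
    rw [conj_eq_comm_mul]
    exact E.mul_mem (hLE (hy a)) ha
  have hyE : y ∉ E := by
    intro hyE
    have hnorm := normal_sup_zpowers E.normalCore y hy
    have hle : E.normalCore ⊔ Subgroup.zpowers y ≤ E.normalCore :=
      Subgroup.normal_le_normalCore.mpr (sup_le hLE (by rwa [Subgroup.zpowers_le]))
    exact hyL (hle ((le_sup_right : Subgroup.zpowers y ≤ E.normalCore ⊔ _)
      (Subgroup.mem_zpowers y)))
  have hNmle : Nm E ≤ E ⊔ Subgroup.zpowers y := by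
    apply Nm_le_of_ne hP hS le_sup_left
    intro h
    apply hyE
    rw [← h]
    exact (le_sup_right : Subgroup.zpowers y ≤ E ⊔ Subgroup.zpowers y) (Subgroup.mem_zpowers y)
  refine ⟨inferInstance, ?_, ?_, ?_, idx_succ hP hS hne⟩
  · exact hLE.trans (le_Nm E)
  · intro a ha b hb
    refine comm_mem_of_sup E.normalCore E y ?_ hy a (hNmle ha) b (hNmle hb)
    intro a ha b hb
    exact hNL (hS.comm a ha b hb)
  · intro g hg
    apply mem_normalizer_of_conj
    intro a ha
    rw [conj_eq_comm_mul]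
    exact E.mul_mem (hLE (hg a (le_Nm E ha))) ha

theorem tower (hP : IsPGroup p P) : ∀ (n : ℕ) (N E : Subgroup P), E.index = n → Soft p N E →
    (∀ K L : Subgroup P, E ≤ K → E ≤ L → K ≤ L ∨ L ≤ K) ∧
    (∀ K : Subgroup P, E ≤ K → K ≠ ⊤ → K.relIndex (Nm K) = p) := by
  intro n
  induction n using Nat.strong_induction_on with
  | _ n ih =>
  intro N E hn hS
  have hcase : ∀ K, E ≤ K → K = E ∨ Nm E ≤ K := fun K hK => by
    by_cases h : K = E
    · exact Or.inl h
    · exact Or.inr (Nm_le_of_ne hP hS hK h)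
  by_cases hne : Nm E = ⊤
  · constructor
    · intro K L hK hL
      rcases hcase K hK with rfl | h1
      · exact Or.inl hL
      rcases hcase L hL with rfl | h2
      · exact Or.inr hK
      · rw [hne] at h1 h2
        left
        rw [top_le_iff.mp h2]
        exact le_top
    · intro K hK hKne
      rcases hcase K hK with rfl | h1
      · exact hS.idx
      · rw [hne] at h1
        exact absurd (top_le_iff.mp h1) hKne
  · have hS' := hS.succ hP hne
    have hlt : (Nm E).index < n := by
      have h1 := Subgroup.relIndex_mul_index (le_Nm E)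
      rw [hS.idx, hn] at h1
      have h2 : (Nm E).index ≠ 0 := Subgroup.index_ne_zero_of_finite
      have h3 := hp.out.two_le
      have h4 : 0 < (Nm E).index := Nat.pos_of_ne_zero h2
      nlinarith
    obtain ⟨h1, h2⟩ := ih _ hlt _ _ rfl hS'
    constructor
    · intro K L hK hL
      rcases hcase K hK with rfl | h3
      · exact Or.inl hL
      rcases hcase L hL with rfl | h4
      · exact Or.inr hK
      · exact h1 K L h3 h4
    · intro K hK hKne
      rcases hcase K hK with rfl | h3
      · exact hS.idx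
      · exact h2 K h3 hKne

/-- The commutator of a normal subgroup `L ≤ E` with the normal closure of `E` lies in `N`
as soon as `[L, E] ≤ N`. -/
theorem comm_normalClosure_le (N L E : Subgroup P) [N.Normal] [L.Normal]
    (h : ∀ l ∈ L, ∀ a ∈ E, ⁅l, a⁆ ∈ N) :
    ⁅L, Subgroup.normalClosure (E : Set P)⁆ ≤ N := by
  let π := QuotientGroup.mk' N
  have hLn : (L.map π).Normal := Subgroup.Normal.map inferInstance _ (QuotientGroup.mk'_surjective N)
  have hSn : ((Subgroup.centralizer ((L.map π : Subgroup _) : Set _)).comap π).Normal :=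
    Subgroup.Normal.comap inferInstance _
  have hle : Subgroup.normalClosure (E : Set P) ≤
      (Subgroup.centralizer ((L.map π : Subgroup _) : Set _)).comap π := by
    apply Subgroup.normalClosure_le_normal
    intro a ha
    rw [SetLike.mem_coe, Subgroup.mem_comap, Subgroup.mem_centralizer_iff]
    rintro _ ⟨l, hl, rfl⟩
    exact (comm_mem_iff N l a).mp (h l hl a ha)
  rw [Subgroup.commutator_le]
  intro l hl t ht
  have h2 := hle ht
  rw [Subgroup.mem_comap, Subgroup.mem_centralizer_iff] at h2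
  exact (comm_mem_iff N l t).mpr (h2 _ ⟨l, hl, rfl⟩)

theorem lcs_le (hP : IsPGroup p P) : ∀ (n : ℕ) (N E : Subgroup P) (i : ℕ), E.index = n →
    Soft p N E → E.relIndex (Subgroup.normalClosure (E : Set P)) = p ^ i →
    (Subgroup.normalClosure (E : Set P)).lowerCentralSeries (i + 1) ≤ N := by
  intro n
  induction n using Nat.strong_induction_on with
  | _ n ih =>
  intro N E i hn hS hi
  have hNn : N.Normal := hS.normal
  have hET : E ≤ Subgroup.normalClosure (E : Set P) := Subgroup.le_normalClosure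
  by_cases hne : Nm E = ⊤
  · have hEn : E.Normal := Subgroup.normalizer_eq_top_iff.mp hne
    have hTE : Subgroup.normalClosure (E : Set P) = E := Subgroup.normalClosure_eq_self E
    rw [hTE] at hi ⊢
    rw [Subgroup.relIndex_self] at hi
    have hi0 : i = 0 := by
      by_contra h0
      have := Nat.one_lt_pow h0 hp.out.one_lt
      omega
    subst hi0
    rw [Subgroup.lowerCentralSeries_succ, Subgroup.lowerCentralSeries_zero]
    exact Subgroup.commutator_le.mpr hS.comm
  · have hS' := hS.succ hP hne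
    have hlt : (Nm E).index < n := by
      have h1 := Subgroup.relIndex_mul_index (le_Nm E)
      rw [hS.idx, hn] at h1
      have h2 : (Nm E).index ≠ 0 := Subgroup.index_ne_zero_of_finite
      have h3 := hp.out.two_le
      have h4 : 0 < (Nm E).index := Nat.pos_of_ne_zero h2
      nlinarith
    have hTne : Subgroup.normalClosure (E : Set P) ≠ E := by
      intro h
      apply hne
      have hEn : E.Normal := h ▸ (inferInstance : (Subgroup.normalClosure (E : Set P)).Normal)
      exact Subgroup.normalizer_eq_top_iff.mpr hEn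
    have hHT : Nm E ≤ Subgroup.normalClosure (E : Set P) := Nm_le_of_ne hP hS hET hTne
    have hTT : Subgroup.normalClosure ((Nm E : Subgroup P) : Set P) =
        Subgroup.normalClosure (E : Set P) := by
      apply le_antisymm
      · exact Subgroup.normalClosure_le_normal hHT
      · exact Subgroup.normalClosure_mono (le_Nm E)
    have hmul := Subgroup.relIndex_mul_relIndex E (Nm E) _ (le_Nm E) hHT
    rw [hS.idx, hi] at hmul
    have hi0 : i ≠ 0 := by
      rintro rfl
      rw [pow_zero] at hmul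
      have := Nat.eq_one_of_mul_eq_one_right hmul
      exact hp.out.one_lt.ne' this
    obtain ⟨j, rfl⟩ := Nat.exists_eq_succ_of_ne_zero hi0
    have hj : (Nm E).relIndex (Subgroup.normalClosure (E : Set P)) = p ^ j := by
      rw [pow_succ'] at hmul
      exact Nat.eq_of_mul_eq_mul_left hp.out.pos hmul
    have h1 := ih _ hlt _ _ j rfl hS' (by rw [hTT]; exact hj)
    rw [hTT] at h1
    rw [Nat.succ_eq_add_one, Subgroup.lowerCentralSeries_succ]
    refine (Subgroup.commutator_mono h1 le_rfl).trans ?_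
    apply comm_normalClosure_le
    intro l hl a ha
    exact hS.comm l (Subgroup.normalCore_le E hl) a ha

theorem class_le (hP : IsPGroup p P) (E : Subgroup P) (hS : Soft p ⊥ E)
    (hT : ∀ K : Subgroup P, E ≤ K → K ≠ ⊤ → K.relIndex (Nm K) = p)
    (K : Subgroup P) (hK : E ≤ K) (hKne : K ≠ ⊤) (i : ℕ) (hi : E.relIndex K = p ^ i) :
    K.lowerCentralSeries (i + 1) = ⊥ := by
  classical
  have hEW : E ≤ Nm K := hK.trans (le_Nm K)
  have hKW : K ≤ Nm K := le_Nm K
  have hKlt : K < Nm K := by
    refine lt_of_le_of_ne hKW (fun h => ?_)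
    have h1 := hT K hK hKne
    rw [← h, Subgroup.relIndex_self] at h1
    exact hp.out.one_lt.ne h1
  have hNW : Nm E ≤ Nm K := by
    by_cases h : K = E
    · rw [h]
    · exact (Nm_le_of_ne hP hS hK h).trans hKW
  have hNE' : Nm (E.subgroupOf (Nm K)) = (Nm E).subgroupOf (Nm K) :=
    (Subgroup.subgroupOf_normalizer_eq hEW).symm
  have hS' : Soft p (⊥ : Subgroup (Nm K)) (E.subgroupOf (Nm K)) := by
    refine ⟨inferInstance, bot_le, ?_, ?_, ?_⟩
    · intro a ha b hb
      have := hS.comm a.1 ha b.1 hb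
      rw [Subgroup.mem_bot] at this ⊢
      exact Subtype.ext this
    · intro g hg
      show g.1 ∈ E
      apply hS.cent
      intro a ha
      have := hg ⟨a, hEW ha⟩ ha
      rw [Subgroup.mem_bot] at this ⊢
      exact congrArg Subtype.val this
    · rw [hNE', Subgroup.relIndex_subgroupOf hNW]
      exact hS.idx
  have hK'n : (K.subgroupOf (Nm K)).Normal := inferInstance
  have hT'K' : Subgroup.normalClosure ((E.subgroupOf (Nm K) : Subgroup (Nm K)) : Set (Nm K)) ≤
      K.subgroupOf (Nm K) :=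
    Subgroup.normalClosure_le_normal (fun x hx => hK hx)
  have hT'eq : Subgroup.normalClosure ((E.subgroupOf (Nm K) : Subgroup (Nm K)) : Set (Nm K)) =
      K.subgroupOf (Nm K) := by
    by_contra hne
    set T' := Subgroup.normalClosure ((E.subgroupOf (Nm K) : Subgroup (Nm K)) : Set (Nm K))
      with hT'
    have hT'n : T'.Normal := inferInstance
    have hEt : E ≤ T'.map (Nm K).subtype := by
      intro e he
      exact ⟨⟨e, hEW he⟩, Subgroup.le_normalClosure he, rfl⟩
    have hTK : T'.map (Nm K).subtype ≤ K := by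
      rintro _ ⟨x, hx, rfl⟩
      exact hT'K' hx
    have hTneK : T'.map (Nm K).subtype ≠ K := by
      intro h
      apply hne
      apply le_antisymm hT'K'
      intro x hx
      have h1 : (x : P) ∈ T'.map (Nm K).subtype := by
        rw [h]
        exact hx
      obtain ⟨y, hy, hyx⟩ := h1
      have : y = x := Subtype.ext hyx
      rwa [← this]
    have hTW : Nm K ≤ Nm (T'.map (Nm K).subtype) := by
      intro g hg
      apply mem_normalizer_of_conj
      rintro _ ⟨x, hx, rfl⟩
      refine ⟨⟨g, hg⟩ * x * ⟨g, hg⟩⁻¹, hT'n.conj_mem x hx _, rfl⟩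
    have h1 := hT _ hEt (fun h => hKne (top_le_iff.mp (h ▸ hTK)))
    have h2 := Subgroup.relIndex_mul_relIndex (T'.map (Nm K).subtype) K
      (Nm (T'.map (Nm K).subtype)) hTK (hKW.trans hTW)
    rw [h1] at h2
    have h3 : (T'.map (Nm K).subtype).relIndex K ≠ 1 := by
      intro h
      exact hTneK (le_antisymm hTK (Subgroup.relIndex_eq_one.mp h))
    have h4 : K.relIndex (Nm (T'.map (Nm K).subtype)) ≠ 1 := by
      intro h
      exact hKlt.not_ge (hTW.trans (Subgroup.relIndex_eq_one.mp h))
    rcases (Nat.dvd_prime hp.out).mp (Dvd.intro _ h2) with h5 | h5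
    · exact h3 h5
    · rw [h5] at h2
      exact h4 (Nat.eq_of_mul_eq_mul_left hp.out.pos (by rw [h2, mul_one]))
  have hfin := lcs_le (hP.to_subgroup (Nm K)) _ ⊥ (E.subgroupOf (Nm K)) i rfl hS'
    (by rw [hT'eq, Subgroup.relIndex_subgroupOf hKW]; exact hi)
  rw [hT'eq, le_bot_iff] at hfin
  have h3 := congrArg (Subgroup.map (Nm K).subtype) hfin
  rw [Subgroup.map_lowerCentralSeries, Subgroup.map_subgroupOf_eq_of_le hKW, Subgroup.map_bot] at h3
  exact h3

theorem le_class (E K : Subgroup P)
    (hT : ∀ K : Subgroup P, E ≤ K → K ≠ ⊤ → K.relIndex (Nm K) = p)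
    (hK : E ≤ K) (hKne : K ≠ ⊤) :
    ∀ m : ℕ, (E ⊔ K.lowerCentralSeries m).relIndex K ≤ p ^ m := by
  intro m
  induction m with
  | zero =>
    rw [Subgroup.lowerCentralSeries_zero, sup_eq_right.mpr hK, Subgroup.relIndex_self, pow_zero]
  | succ m ih =>
    have hF : ∀ j, E ⊔ K.lowerCentralSeries j ≤ K := fun j =>
      sup_le hK (K.lowerCentralSeries_le_self j)
    have hle : E ⊔ K.lowerCentralSeries (m + 1) ≤ E ⊔ K.lowerCentralSeries m :=
      sup_le_sup_left (K.lowerCentralSeries_antitone (Nat.le_succ m)) E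
    have hne : E ⊔ K.lowerCentralSeries (m + 1) ≠ ⊤ := fun h =>
      hKne (top_le_iff.mp (h ▸ hF (m + 1)))
    have hgen : ∀ g ∈ K, (∀ a ∈ E, g * a * g⁻¹ ∈ E ⊔ K.lowerCentralSeries (m + 1)) →
        g ∈ Nm (E ⊔ K.lowerCentralSeries (m + 1)) := by
      intro g hgK hg
      apply mem_normalizer_of_conj
      have hcomap : E ⊔ K.lowerCentralSeries (m + 1) ≤
          (E ⊔ K.lowerCentralSeries (m + 1)).comap (MulAut.conj g).toMonoidHom := by
        refine sup_le ?_ ?_
        · intro a ha
          exact hg a ha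
        · intro a ha
          have h1 := (Subgroup.mem_normalizer_iff.mp
            (K.self_le_normalizer_lowerCentralSeries (m + 1) hgK) a).mp ha
          exact (le_sup_right : K.lowerCentralSeries (m + 1) ≤ E ⊔ _) h1
      intro a ha
      exact hcomap ha
    have hNm : E ⊔ K.lowerCentralSeries m ≤ Nm (E ⊔ K.lowerCentralSeries (m + 1)) := by
      refine sup_le ?_ ?_
      · intro g hg
        apply hgen g (hK hg)
        intro a ha
        exact (le_sup_left : E ≤ E ⊔ _) (E.mul_mem (E.mul_mem hg ha) (E.inv_mem hg))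
      · intro g hg
        apply hgen g (K.lowerCentralSeries_le_self m hg)
        intro a ha
        rw [conj_eq_comm_mul]
        refine Subgroup.mul_mem _ ?_ ((le_sup_left : E ≤ E ⊔ _) ha)
        apply (le_sup_right : K.lowerCentralSeries (m + 1) ≤ E ⊔ _)
        rw [Subgroup.lowerCentralSeries_succ]
        exact Subgroup.commutator_mem_commutator hg (hK ha)
    have h1 := hT _ (le_sup_left : E ≤ E ⊔ K.lowerCentralSeries (m + 1)) hne
    have h2 := Subgroup.relIndex_mul_relIndex _ _ _ hle hNm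
    rw [h1] at h2
    have h3 : (E ⊔ K.lowerCentralSeries (m + 1)).relIndex (E ⊔ K.lowerCentralSeries m) ≤ p :=
      Nat.le_of_dvd hp.out.pos (Dvd.intro _ h2)
    have h4 := Subgroup.relIndex_mul_relIndex _ _ _ hle (hF m)
    rw [← h4, pow_succ']
    exact Nat.mul_le_mul h3 ih

end soft

/-- Let P be a finite p-group and E an abelian subgroup of P that contains its centralizer, has index p in its normalizer, and has index at least p² in P. Then the subgroups of P containing E are totally ordered by inclusion, each proper one has index p in its normalizer (so they form the normalizer tower of E, with all steps of index p), and the i-th member of the tower above E has nilpotency class i + 1 whenever it is a proper subgroup of P. -/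
theorem result {P : Type*} [Group P] [Finite P] (p : ℕ) [Fact p.Prime] (hP : IsPGroup p P)
    (E : Subgroup P) (hEab : IsMulCommutative ↥E) (hC : Subgroup.centralizer (E : Set P) ≤ E)
    (hN : (E.subgroupOf (Subgroup.normalizer (E : Set P))).index = p) (hidx : p ^ 2 ≤ E.index) :
    (∀ K L : Subgroup P, E ≤ K → E ≤ L → K ≤ L ∨ L ≤ K) ∧
      (∀ K : Subgroup P, E ≤ K → K ≠ ⊤ → (K.subgroupOf (Subgroup.normalizer (K : Set P))).index = p) ∧
      ∀ (i : ℕ) (K : Subgroup P) [Group.IsNilpotent ↥K], E ≤ K → K ≠ ⊤ → K.index * p ^ i = E.index →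
        Group.nilpotencyClass ↥K = i + 1 := by
  classical
  have hpp : p.Prime := Fact.out
  have hS : Soft p (⊥ : Subgroup P) E := by
    refine ⟨inferInstance, bot_le, ?_, ?_, hN⟩
    · intro a ha b hb
      rw [Subgroup.mem_bot, commutatorElement_eq_one_iff_mul_comm]
      have := hEab.is_comm.comm (⟨a, ha⟩ : E) ⟨b, hb⟩
      exact congrArg Subtype.val this
    · intro g hg
      apply hC
      rw [Subgroup.mem_centralizer_iff]
      intro a ha
      have := hg a ha
      rw [Subgroup.mem_bot, commutatorElement_eq_one_iff_mul_comm] at this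
      exact this.symm
  obtain ⟨h1, h2⟩ := tower hP _ _ E rfl hS
  refine ⟨h1, fun K hK hne => h2 K hK hne, ?_⟩
  intro i K _ hK hne hi
  have hrel : E.relIndex K = p ^ i := by
    have h3 := Subgroup.relIndex_mul_index hK
    have h0 : K.index ≠ 0 := Subgroup.index_ne_zero_of_finite
    rw [← hi, mul_comm] at h3
    exact Nat.eq_of_mul_eq_mul_left (Nat.pos_of_ne_zero h0) h3
  have hup := class_le hP E hS h2 K hK hne i hrel
  have hup' : Group.nilpotencyClass K ≤ i + 1 := by
    rw [← Subgroup.lowerCentralSeries_eq_bot_iff_nilpotencyClass_le]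
    apply Subgroup.map_injective K.subtype_injective
    rw [Subgroup.top_subtype_lowerCentralSeries, hup, Subgroup.map_bot]
  have hc : K.lowerCentralSeries (Group.nilpotencyClass K) = ⊥ := by
    rw [← Subgroup.top_subtype_lowerCentralSeries, Subgroup.lowerCentralSeries_nilpotencyClass,
      Subgroup.map_bot]
  have hc0 : Group.nilpotencyClass K ≠ 0 := by
    intro h0
    rw [h0, Subgroup.lowerCentralSeries_zero] at hc
    have hE0 : E = ⊥ := le_bot_iff.mp (hc ▸ hK)
    have hlt := hS.lt_Nm
    have htop : E = ⊤ := by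
      rw [eq_top_iff]
      intro x _
      apply hC
      rw [Subgroup.mem_centralizer_iff]
      intro a ha
      rw [hE0] at ha
      have h5 : a = 1 := (Subgroup.mem_bot).mp ha
      simp [h5]
    rw [htop] at hlt
    exact not_top_lt hlt
  obtain ⟨d, hd⟩ := Nat.exists_eq_succ_of_ne_zero hc0
  rw [hd] at hc
  have hle := le_class E K h2 hK hne d
  have hEd : E ⊔ K.lowerCentralSeries d = E := by
    apply sup_eq_left.mpr
    intro x hx
    apply hC
    rw [Subgroup.mem_centralizer_iff]
    intro a ha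
    have h5 : ⁅x, a⁆ ∈ K.lowerCentralSeries (d + 1) :=
      Subgroup.commutator_mem_commutator hx (hK ha)
    rw [show d + 1 = d.succ from rfl, hc, Subgroup.mem_bot,
      commutatorElement_eq_one_iff_mul_comm] at h5
    exact h5.symm
  rw [hEd, hrel] at hle
  have hid : i ≤ d := (Nat.pow_le_pow_iff_right hpp.one_lt).mp hle
  omega

end Cfsg.Agent.S3811
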