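import Cfsg.Statements.S3818
import Mathlib
import Cfsg.Agent.Lib.FlavMTMain

set_option autoImplicit false
open Cfsg

namespace Cfsg.Agent.S3818

/-- Let G be a finite solvable group and P a subgroup of G of prime order p > 3 whose conjugates generate G. Let V be a faithful irreducible representation of G over a field of positive characteristic, finite-dimensional. Then the subspace of V fixed by P has dimension less than half the dimension of V. -/
theorem result {G : Type*} [Group G] [Finite G] [Group.IsSolvable G]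
    {p : ℕ} [Fact p.Prime] (hp : 3 < p) (P : Subgroup G) (hP : Nat.card P = p) (hgen : Subgroup.normalClosure (P : Set G) = ⊤)
    {k : Type*} [Field k] (ℓ : ℕ) [Fact ℓ.Prime] [CharP k ℓ]
    {V : Type*} [AddCommGroup V] [Module k V] [FiniteDimensional k V]
    (ρ : Representation k G V) [ρ.IsIrreducible] (hfaith : Function.Injective ρ) :
    2 * Module.finrank k ↥(⨅ g : ↥P, LinearMap.ker (ρ (g : G) - LinearMap.id)) < Module.finrank k V := by
  have hpp : p.Prime := Fact.out
  have hp5 : 5 ≤ p := by
    by_contra hcon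
    have h4 : p = 4 := by omega
    rw [h4] at hpp
    exact absurd hpp (by norm_num)
  have : Fact (Nat.card P).Prime := by rw [hP]; exact ⟨hpp⟩
  have : IsCyclic P := isCyclic_of_prime_card rfl
  obtain ⟨g, hg⟩ := IsCyclic.exists_generator (α := P)
  have hg1 : (g : G) ≠ 1 := by
    intro h
    have h1 : g = 1 := Subtype.ext h
    have h2 : Nat.card P = 1 := by
      rw [Nat.card_eq_one_iff_unique]
      refine ⟨⟨fun a b => ?_⟩, ⟨1⟩⟩
      obtain ⟨i, rfl⟩ := Subgroup.mem_zpowers_iff.mp (hg a)
      obtain ⟨j, rfl⟩ := Subgroup.mem_zpowers_iff.mp (hg b)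
      simp [h1]
    rw [hP] at h2
    exact hpp.ne_one h2
  have hx : (g : G) ^ p = 1 := by
    have h1 : g ^ Nat.card P = 1 := pow_card_eq_one'
    rw [hP] at h1
    exact congrArg Subtype.val h1
  have hgen' : Subgroup.normalClosure {(g : G)} = ⊤ := by
    rw [eq_top_iff, ← hgen]
    refine Subgroup.normalClosure_le_normal ?_
    intro y hy
    obtain ⟨i, hi⟩ := Subgroup.mem_zpowers_iff.mp (hg ⟨y, hy⟩)
    have h1 : y = (g : G) ^ i := (congrArg Subtype.val hi).symm
    rw [h1]
    exact Subgroup.zpow_mem _ (Subgroup.subset_normalClosure (Set.mem_singleton _)) i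
  have hirr : Cfsg.Agent.Lib.HHCrit.Irr (ρ : G →* Module.End k V) := by
    intro W hW
    rcases eq_bot_or_eq_top (⟨W, fun g v hv => hW g v hv⟩ : Subrepresentation ρ) with h | h
    · exact Or.inl (congrArg Subrepresentation.toSubmodule h)
    · exact Or.inr (congrArg Subrepresentation.toSubmodule h)
  have hρ1 : (ρ : G →* Module.End k V) (g : G) ≠ 1 := by
    intro h
    apply hg1
    apply hfaith
    rw [h, map_one]
  have hmain := Cfsg.Agent.Lib.FlavMTMain.main ℓ (ρ : G →* Module.End k V) hirr hpp hp5 (g : G) hx hgen' hρ1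
  have hle : (⨅ g : ↥P, LinearMap.ker (ρ (g : G) - LinearMap.id)) ≤
      LinearMap.ker ((ρ : G →* Module.End k V) (g : G) - 1) := iInf_le _ g
  have h2 := Submodule.finrank_mono hle
  omega

end Cfsg.Agent.S3818
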