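import Mathlib
import Cfsg.Statements.S3824
import Cfsg.Agent.Lib.BurnsidePQ

set_option autoImplicit false
open Cfsg

namespace Cfsg.Agent.S3824

universe u

/-- The property: elements of odd prime power order have conjugacy classes of `2`-power size. -/
def Q (K : Type*) [Group K] : Prop :=
  ∀ (x : K) (q c : ℕ), q.Prime → q ≠ 2 → orderOf x = q ^ c →
    ∃ k : ℕ, (Subgroup.centralizer ({x} : Set K)).index = 2 ^ k

theorem relIndex_mul_card {G : Type*} [Group G] {H K : Subgroup G} (h : H ≤ K) :
    H.relIndex K * Nat.card H = Nat.card K := by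
  have := Subgroup.index_mul_card (H.subgroupOf K)
  rwa [show Nat.card (H.subgroupOf K) = Nat.card H from
    Nat.card_congr (Subgroup.subgroupOfEquivOfLe h).toEquiv] at this

theorem relIndex_dvd_index_of_normal_right {G : Type*} [Group G] [Finite G] (C N : Subgroup G)
    [N.Normal] : C.relIndex N ∣ C.index := by
  have h1 : N.relIndex (N ⊔ C) = N.relIndex C := Subgroup.relIndex_sup_left C N
  have h2 : C.relIndex (N ⊔ C) = C.relIndex N := by
    have e1 : N.relIndex (N ⊔ C) * Nat.card N = Nat.card (N ⊔ C : Subgroup G) :=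
      relIndex_mul_card le_sup_left
    have e2 : C.relIndex (N ⊔ C) * Nat.card C = Nat.card (N ⊔ C : Subgroup G) :=
      relIndex_mul_card le_sup_right
    have e3 : N.relIndex C * Nat.card (N ⊓ C : Subgroup G) = Nat.card C := by
      have := relIndex_mul_card (H := N ⊓ C) (K := C) inf_le_right
      rwa [Subgroup.inf_relIndex_right] at this
    have e4 : C.relIndex N * Nat.card (N ⊓ C : Subgroup G) = Nat.card N := by
      have := relIndex_mul_card (H := N ⊓ C) (K := N) inf_le_left
      rwa [Subgroup.inf_relIndex_left] at this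
    have hpos : 0 < Nat.card C := Nat.card_pos
    have : C.relIndex (N ⊔ C) * Nat.card C = C.relIndex N * Nat.card C := by
      rw [e2, ← e1, h1, ← e4, ← e3]
      ring
    exact Nat.eq_of_mul_eq_mul_right hpos this
  rw [← h2]
  exact Subgroup.relIndex_dvd_index_of_le le_sup_right

theorem Q_normal {K : Type*} [Group K] [Finite K] (hK : Q K) (N : Subgroup K) [N.Normal] :
    Q N := by
  intro x q c hq hq2 hx
  obtain ⟨k, hk⟩ := hK (x : K) q c hq hq2 (by rw [Subgroup.orderOf_coe]; exact hx)
  have hdvd : (Subgroup.centralizer ({(x : K)} : Set K)).relIndex N ∣ 2 ^ k := by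
    rw [← hk]
    exact relIndex_dvd_index_of_normal_right _ N
  obtain ⟨j, -, hj⟩ := (Nat.dvd_prime_pow Nat.prime_two).mp hdvd
  refine ⟨j, ?_⟩
  rw [← hj]
  -- the centralizer in `N` is the restriction
  have : Subgroup.centralizer ({x} : Set N) =
      (Subgroup.centralizer ({(x : K)} : Set K)).subgroupOf N := by
    ext y
    simp only [Subgroup.mem_centralizer_iff, Set.mem_singleton_iff, forall_eq,
      Subgroup.mem_subgroupOf]
    constructor
    · intro h
      have := congrArg Subtype.val h
      simpa using this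
    · intro h
      exact Subtype.ext (by simpa using h)
  rw [this]
  rfl

theorem Q_quotient {K : Type*} [Group K] [Finite K] (hK : Q K) (N : Subgroup K) [N.Normal] :
    Q (K ⧸ N) := by
  intro xb q c hq hq2 hx
  obtain ⟨y, rfl⟩ := QuotientGroup.mk_surjective xb
  rcases Nat.eq_zero_or_pos c with rfl | hc
  · have : ((y : K ⧸ N)) = 1 := by simpa using hx
    rw [this]
    refine ⟨0, ?_⟩
    simp [Subgroup.index_eq_one, Subgroup.centralizer_eq_top_iff_subset]
  -- write the order of `y` as `q^d * m`, `q ∤ m`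
  have hy0 : orderOf y ≠ 0 := (orderOf_pos y).ne'
  obtain ⟨d, m, hm, hym⟩ := Nat.exists_eq_pow_mul_and_not_dvd hy0 q hq.ne_one
  have hcop : Nat.Coprime m (q ^ c) := by
    apply Nat.Coprime.pow_right
    rw [Nat.coprime_comm]
    exact (Nat.Prime.coprime_iff_not_dvd hq).2 hm
  -- a power of `y` with the same image mod `q^c`
  obtain ⟨u, -, hu⟩ := Nat.exists_mul_mod_eq_one_of_coprime hcop
    (Nat.one_lt_pow (by omega) hq.one_lt)
  have himg : (((y ^ (m * u) : K) : K ⧸ N)) = (y : K ⧸ N) := by
    rw [QuotientGroup.mk_pow, ← pow_mod_orderOf, hx, hu, pow_one]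
  -- order of `y^(m*u)` is a power of `q`
  have hord : orderOf (y ^ (m * u)) ∣ q ^ d := by
    apply orderOf_dvd_of_pow_eq_one
    rw [← pow_mul, show m * u * q ^ d = (q ^ d * m) * u by ring, ← hym, pow_mul, pow_orderOf_eq_one,
      one_pow]
  obtain ⟨e, -, he⟩ := (Nat.dvd_prime_pow hq).mp hord
  obtain ⟨k, hk⟩ := hK _ q e hq hq2 he
  -- comparison of indices
  have hle : Subgroup.centralizer ({y ^ (m * u)} : Set K) ≤
      (Subgroup.centralizer ({(y : K ⧸ N)} : Set (K ⧸ N))).comap (QuotientGroup.mk' N) := by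
    intro z hz
    rw [Subgroup.mem_comap, Subgroup.mem_centralizer_iff]
    rw [Subgroup.mem_centralizer_iff] at hz
    rintro _ rfl
    have := hz (y ^ (m * u)) rfl
    have h2 := congrArg (QuotientGroup.mk' N) this
    simp only [map_mul] at h2
    have h3 : (QuotientGroup.mk' N) (y ^ (m * u)) = (y : K ⧸ N) := himg
    rwa [h3] at h2
  have hdvd := Subgroup.index_dvd_of_le hle
  rw [Subgroup.index_comap_of_surjective _ (QuotientGroup.mk'_surjective N), hk] at hdvd
  obtain ⟨j, -, hj⟩ := (Nat.dvd_prime_pow Nat.prime_two).mp hdvd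
  exact ⟨j, hj⟩

theorem solvable_of_Q : ∀ (n : ℕ) (K : Type u) [Group K] [Finite K], Nat.card K = n → Q K →
    Group.IsSolvable K := by
  intro n
  induction n using Nat.strong_induction_on with
  | _ n ih =>
  intro K _ _ hn hQ
  by_cases hodd : ∃ x : K, x ≠ 1 ∧ ∃ q c : ℕ, q.Prime ∧ q ≠ 2 ∧ orderOf x = q ^ c
  · obtain ⟨x, hx1, q, c, hq, hq2, hxq⟩ := hodd
    by_cases hsimple : IsSimpleGroup K
    · obtain ⟨k, hk⟩ := hQ x q c hq hq2 hxq
      have hp := Cfsg.Agent.Lib.BurnsidePQ.prime_card_of_class_prime_pow 2 k Nat.prime_two x hx1 hk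
      have : Fact (Nat.card K).Prime := ⟨hp⟩
      have := isCyclic_of_prime_card (α := K) rfl
      exact Group.isSolvable_of_comm (IsCyclic.isMulCommutative (α := K)).is_comm.comm
    · have : Nontrivial K := ⟨⟨x, 1, hx1⟩⟩
      obtain ⟨N, hNn, hNb, hNt⟩ : ∃ N : Subgroup K, N.Normal ∧ N ≠ ⊥ ∧ N ≠ ⊤ := by
        by_contra h
        push Not at h
        apply hsimple
        refine ⟨fun H hH => ?_⟩
        by_cases hb : H = ⊥
        · exact Or.inl hb
        · exact Or.inr (h H hH hb)
      have hlt1 : Nat.card N < n := by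
        rw [← hn]
        obtain ⟨z, hz⟩ : ∃ z, z ∉ N := by
          by_contra hc
          push Not at hc
          exact hNt ((Subgroup.eq_top_iff' N).mpr hc)
        exact Finite.card_subtype_lt hz
      have hlt2 : Nat.card (K ⧸ N) < n := by
        rw [← hn]
        have h1 : Nat.card (K ⧸ N) * Nat.card N = Nat.card K := by
          have := Subgroup.index_mul_card N
          rwa [Subgroup.index_eq_card] at this
        have h2 : 1 < Nat.card N := by
          rw [Finite.one_lt_card_iff_nontrivial]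
          exact (Subgroup.nontrivial_iff_ne_bot N).mpr hNb
        have h3 : 0 < Nat.card (K ⧸ N) := Nat.card_pos
        nlinarith
      have := ih _ hlt1 N rfl (Q_normal hQ N)
      have := ih _ hlt2 (K ⧸ N) rfl (Q_quotient hQ N)
      refine Group.isSolvable_of_ker_le_range N.subtype (QuotientGroup.mk' N) ?_
      intro z hz
      rw [MonoidHom.mem_ker, QuotientGroup.mk'_apply, QuotientGroup.eq_one_iff] at hz
      exact ⟨⟨z, hz⟩, rfl⟩
  · -- a `2`-group
    push Not at hodd
    have hall : ∀ d : ℕ, d.Prime → d ∣ Nat.card K → d = 2 := by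
      intro d hd hdvd
      by_contra hne
      have : Fact d.Prime := ⟨hd⟩
      obtain ⟨y, hy⟩ := exists_prime_orderOf_dvd_card' d hdvd
      refine hodd y ?_ d 1 hd hne (by simpa using hy)
      rintro rfl
      rw [orderOf_one] at hy
      exact hd.ne_one hy.symm
    have hcard := Nat.eq_prime_pow_of_unique_prime_dvd (Nat.card_pos (α := K)).ne'
      (fun {d} hd hdvd => hall d hd hdvd)
    have hpg : IsPGroup 2 K := IsPGroup.of_card hcard
    have := hpg.isNilpotent
    infer_instance

/-- Every finite group having an abelian subgroup whose index is a power of 2 is solvable. -/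
theorem result {G : Type*} [Group G] [Finite G]
    (A : Subgroup G) (hA : IsMulCommutative A) (hidx : ∃ k : ℕ, A.index = 2 ^ k) : Group.IsSolvable G := by
  classical
  obtain ⟨k, hk⟩ := hidx
  refine solvable_of_Q _ G rfl ?_
  intro x q c hq hq2 hx
  have : Fact q.Prime := ⟨hq⟩
  -- the `q`-group `⟨x⟩` fixes a coset of `A`
  have hpg : IsPGroup q (Subgroup.zpowers x) := by
    apply IsPGroup.of_card (n := c)
    rw [Nat.card_zpowers, hx]
  have hcard : ¬ q ∣ Nat.card (G ⧸ A) := by
    rw [← Subgroup.index_eq_card, hk]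
    intro h
    have := hq.dvd_of_dvd_pow h
    exact hq2 ((Nat.prime_dvd_prime_iff_eq hq Nat.prime_two).mp this)
  have : Finite (MulAction.fixedPoints (Subgroup.zpowers x) (G ⧸ A)) := inferInstance
  obtain ⟨b, hb⟩ := hpg.nonempty_fixed_point_of_prime_not_dvd_card (G ⧸ A) hcard
  obtain ⟨g, rfl⟩ := QuotientGroup.mk_surjective b
  have hfix : g⁻¹ * x * g ∈ A := by
    have h1 := hb ⟨x, Subgroup.mem_zpowers x⟩
    have h2 : ((x * g : G) : G ⧸ A) = (g : G ⧸ A) := h1
    have h3 := QuotientGroup.eq.mp h2
    have : (x * g)⁻¹ * g = (g⁻¹ * x * g)⁻¹ := by group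
    rw [this] at h3
    simpa using A.inv_mem h3
  -- hence `C(g⁻¹ x g)` contains `A`
  set y : G := g⁻¹ * x * g with hy
  have hA' : A ≤ Subgroup.centralizer ({y} : Set G) := by
    intro a ha
    rw [Subgroup.mem_centralizer_iff]
    rintro _ rfl
    have := hA.is_comm.comm ⟨y, hfix⟩ ⟨a, ha⟩
    simpa using congrArg Subtype.val this
  have hdvd := Subgroup.index_dvd_of_le hA'
  rw [hk] at hdvd
  obtain ⟨j, -, hj⟩ := (Nat.dvd_prime_pow Nat.prime_two).mp hdvd
  refine ⟨j, ?_⟩
  rw [← hj]
  -- conjugate centralizers have the same index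
  have : Subgroup.centralizer ({y} : Set G) =
      (Subgroup.centralizer ({x} : Set G)).comap (MulAut.conj g).toMonoidHom := by
    ext z
    simp only [Subgroup.mem_comap, Subgroup.mem_centralizer_iff, Set.mem_singleton_iff, forall_eq,
      hy]
    simp only [MulEquiv.toMonoidHom_eq_coe, MonoidHom.coe_coe, MulAut.conj_apply]
    constructor
    · intro h
      calc x * (g * z * g⁻¹) = g * ((g⁻¹ * x * g) * z) * g⁻¹ := by group
        _ = g * (z * (g⁻¹ * x * g)) * g⁻¹ := by rw [h]
        _ = (g * z * g⁻¹) * x := by group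
    · intro h
      calc (g⁻¹ * x * g) * z = g⁻¹ * (x * (g * z * g⁻¹)) * g := by group
        _ = g⁻¹ * ((g * z * g⁻¹) * x) * g := by rw [h]
        _ = z * (g⁻¹ * x * g) := by group
  rw [this, Subgroup.index_comap_of_surjective _ (MulAut.conj g).surjective]

end Cfsg.Agent.S3824
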