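import Mathlib
import Cfsg.Statements.S3868
import Cfsg.Agent.Lib.MinNonClosed
import Cfsg.Agent.Lib.NilpCover

set_option autoImplicit false
set_option linter.style.haveILetI false
open Cfsg

namespace Cfsg.Agent.S3868

open Cfsg.Agent.Lib.MinNonClosed Cfsg.Agent.Lib.NilpCover

/-- All `p`-elements lie in a normal Sylow subgroup. -/
theorem mem_of_pow_eq_one {X : Type*} [Group X] [Finite X] {p : ℕ} [Fact p.Prime] (T : Sylow p X)
    (hT : (T : Subgroup X).Normal) {y : X} {k : ℕ} (hy : y ^ p ^ k = 1) : y ∈ (T : Subgroup X) := by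
  have hz : IsPGroup p (Subgroup.zpowers y) := by
    rintro ⟨_, n, rfl⟩
    refine ⟨k, ?_⟩
    apply Subtype.ext
    show ((y ^ n) ^ p ^ k : X) = 1
    rw [← zpow_natCast, ← zpow_mul, mul_comm, zpow_mul, zpow_natCast, hy, one_zpow]
  exact le_of_isPGroup_of_normal T hT _ hz (Subgroup.mem_zpowers y)

/-- Sylow subgroup in a normal `p`-closed subgroup is normal in the whole group. -/
theorem normal_of_le_of_closed {G : Type*} [Group G] [Finite G] {p : ℕ} [Fact p.Prime] (P : Sylow p G)
    (H : Subgroup G) (hHn : H.Normal) (hle : (P : Subgroup G) ≤ H) (hcl : Cfsg.IsPClosed p ↥H) :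
    (P : Subgroup G).Normal := by
  constructor
  intro n hn g
  have hT := hcl (P.subtype hle)
  have hmem : g * n * g⁻¹ ∈ H := hHn.conj_mem n (hle hn) g
  obtain ⟨k, hk⟩ := P.isPGroup' ⟨n, hn⟩
  have hk' : n ^ p ^ k = 1 := by simpa using congrArg Subtype.val hk
  have h1 : (⟨g * n * g⁻¹, hmem⟩ : ↥H) ^ p ^ k = 1 := by
    apply Subtype.ext
    show (g * n * g⁻¹) ^ p ^ k = 1
    rw [conj_pow, hk']
    group
  have h2 := mem_of_pow_eq_one _ hT h1
  rw [Sylow.coe_subtype, Subgroup.mem_subgroupOf] at h2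
  exact h2

/-- Structure of the non-simple minimal non-p-closed groups. Call a finite group p-closed when its Sylow p-subgroups are normal, and minimal non-p-closed when it is not p-closed but every proper subgroup and every proper quotient is. If such a group G is not simple, then there is a prime q ≠ p such that G has order p · q^e, where e is the multiplicative order of q modulo p, and G has a normal subgroup A of order q^e that is elementary abelian and is a minimal normal subgroup of G (so G is the semidirect product of A by a group of order p acting irreducibly). -/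
theorem result {G : Type*} [Group G] [Finite G] {p : ℕ} [Fact p.Prime]
    (hnc : ¬ Cfsg.IsPClosed p G) (hsub : ∀ H : Subgroup G, H ≠ ⊤ → Cfsg.IsPClosed p ↥H)
    (hquo : ∀ (N : Subgroup G) [N.Normal], N ≠ ⊥ → Cfsg.IsPClosed p (G ⧸ N)) (hns : ¬ IsSimpleGroup G) :
    ∃ q : ℕ, q.Prime ∧ q ≠ p ∧ Nat.card G = p * q ^ orderOf (q : ZMod p) ∧
      ∃ A : Subgroup G, A.Normal ∧ Nat.card ↥A = q ^ orderOf (q : ZMod p) ∧ Cfsg.IsElementaryAbelian q A ∧
        ∀ B : Subgroup G, B.Normal → B ≤ A → B = ⊥ ∨ B = A := by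
  classical
  have hpp : p.Prime := Fact.out
  -- no Sylow subgroup is normal
  have hnn : ∀ P : Sylow p G, ¬ (P : Subgroup G).Normal := by
    intro P hP
    apply hnc
    intro Q
    have h1 : (Q : Subgroup G) ≤ P := le_of_isPGroup_of_normal P hP Q Q.isPGroup'
    have h2 : (Q : Subgroup G) = P := (Q.is_maximal' P.isPGroup' h1).symm
    rw [h2]
    exact hP
  obtain ⟨P⟩ : Nonempty (Sylow p G) := inferInstance
  -- Step 1
  have hstep1 : ∀ (Q : Sylow p G) (N : Subgroup G), N.Normal → N ≠ ⊥ → (Q : Subgroup G) ⊔ N = ⊤ := by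
    intro Q N hNn hN1
    by_contra hne
    apply hnn Q
    have hcl := hquo N hN1 (Q.mapSurjective (QuotientGroup.mk'_surjective N))
    have hKn : ((Q : Subgroup G) ⊔ N).Normal := by
      have h1 := hcl.comap (QuotientGroup.mk' N)
      rw [Sylow.coe_mapSurjective, Subgroup.comap_map_eq, QuotientGroup.ker_mk'] at h1
      exact h1
    exact normal_of_le_of_closed Q _ hKn le_sup_left (hsub _ hne)
  -- Step 2
  have hstep2 : ∀ N : Subgroup G, N.Normal → N ≠ ⊤ → ¬ p ∣ Nat.card N := by
    intro N hNn hNt hd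
    obtain ⟨S⟩ : Nonempty (Sylow p ↥N) := inferInstance
    have hS := hsub N hNt S
    haveI : (S : Subgroup ↥N).Normal := hS
    haveI : (S : Subgroup ↥N).Characteristic := Sylow.characteristic_of_normal S hS
    have hMn : ((S : Subgroup ↥N).map N.subtype).Normal := ConjAct.normal_of_characteristic_of_normal
    have hMp : IsPGroup p ↥((S : Subgroup ↥N).map N.subtype) := S.isPGroup'.map N.subtype
    by_cases hM : (S : Subgroup ↥N).map N.subtype = ⊥
    · obtain ⟨y, hy⟩ := exists_prime_orderOf_dvd_card' (G := ↥N) p hd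
      have hy1 : y ^ p ^ 1 = 1 := by
        rw [pow_one, ← hy]; exact pow_orderOf_eq_one y
      have hy2 := mem_of_pow_eq_one S hS hy1
      have hy3 : (y : G) ∈ (S : Subgroup ↥N).map N.subtype := ⟨y, hy2, rfl⟩
      rw [hM, Subgroup.mem_bot] at hy3
      have hy4 : y = 1 := Subtype.ext hy3
      rw [hy4, orderOf_one] at hy
      exact hpp.one_lt.ne hy
    · have h1 := hstep1 P _ hMn hM
      have h2 : (S : Subgroup ↥N).map N.subtype ≤ (P : Subgroup G) := hMp.le_sylow_of_normal P
      rw [sup_eq_left.2 h2] at h1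
      apply hnn P
      rw [h1]
      infer_instance
  -- the element `z`
  have hPne : Nontrivial ↥(P : Subgroup G) := by
    by_contra hnt
    rw [not_nontrivial_iff_subsingleton] at hnt
    apply hnn P
    have : (P : Subgroup G) = ⊥ := Subgroup.eq_bot_of_subsingleton _
    rw [this]
    infer_instance
  have hPp : IsPGroup p ↥(P : Subgroup G) := P.isPGroup'
  have hcn : Nontrivial ↥(Subgroup.center ↥(P : Subgroup G)) := hPp.center_nontrivial
  have hcd : p ∣ Nat.card ↥(Subgroup.center ↥(P : Subgroup G)) := by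
    obtain ⟨k, hk⟩ := IsPGroup.iff_card.1 (hPp.to_subgroup (Subgroup.center ↥(P : Subgroup G)))
    rw [hk]
    refine dvd_pow_self p ?_
    rintro rfl
    rw [pow_zero] at hk
    have := Finite.one_lt_card (α := ↥(Subgroup.center ↥(P : Subgroup G)))
    omega
  obtain ⟨z₀, hz₀⟩ := exists_prime_orderOf_dvd_card' (G := ↥(Subgroup.center ↥(P : Subgroup G))) p hcd
  set z : G := (((z₀ : ↥(P : Subgroup G))) : G) with hzdef
  have hzP : z ∈ (P : Subgroup G) := (z₀ : ↥(P : Subgroup G)).2
  have hzc : ∀ u ∈ (P : Subgroup G), z * u = u * z := by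
    intro u hu
    have h1 := Subgroup.mem_center_iff.1 z₀.2 ⟨u, hu⟩
    exact (congrArg Subtype.val h1).symm
  have hzord : orderOf z = p := by
    rw [hzdef, Subgroup.orderOf_coe, Subgroup.orderOf_coe]
    exact hz₀
  have hzp : z ^ p = 1 := by
    rw [← hzord]; exact pow_orderOf_eq_one z
  have hz1 : z ≠ 1 := by
    intro h
    rw [h, orderOf_one] at hzord
    exact hpp.one_lt.ne hzord
  have hzNot : ∀ N : Subgroup G, N.Normal → N ≠ ⊤ → z ∉ N := by
    intro N hNn hNt hzN
    apply hstep2 N hNn hNt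
    rw [← hzord]
    exact Subgroup.orderOf_dvd_natCard N hzN
  -- Step 3
  have hidx : ∀ N : Subgroup G, N.Normal → N ≠ ⊥ → N ≠ ⊤ → N.index = p := by
    intro N hNn hN1 hNt
    apply index_of_sup_zpowers hzp _ hNt
    by_contra hne
    have hcl := hsub _ hne
    obtain ⟨T⟩ : Nonempty (Sylow p ↥(N ⊔ Subgroup.zpowers z)) := inferInstance
    have hT := hcl T
    have hzK : z ∈ N ⊔ Subgroup.zpowers z :=
      (le_sup_right : Subgroup.zpowers z ≤ N ⊔ Subgroup.zpowers z) (Subgroup.mem_zpowers z)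
    have hz'T : (⟨z, hzK⟩ : ↥(N ⊔ Subgroup.zpowers z)) ∈ (T : Subgroup _) := by
      apply mem_of_pow_eq_one T hT (k := 1)
      apply Subtype.ext
      show z ^ p ^ 1 = 1
      rw [pow_one, hzp]
    have hzN : ∀ n ∈ N, z * n = n * z := by
      intro n hn
      have hnK : n ∈ N ⊔ Subgroup.zpowers z := (le_sup_left : N ≤ N ⊔ Subgroup.zpowers z) hn
      have h1 : (⟨z, hzK⟩ : ↥(N ⊔ Subgroup.zpowers z)) * ((⟨n, hnK⟩ : ↥(N ⊔ Subgroup.zpowers z)) * (⟨z, hzK⟩ : ↥(N ⊔ Subgroup.zpowers z))⁻¹ * (⟨n, hnK⟩ : ↥(N ⊔ Subgroup.zpowers z))⁻¹) ∈ (T : Subgroup _) :=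
        Subgroup.mul_mem _ hz'T (hT.conj_mem _ (Subgroup.inv_mem _ hz'T) _)
      obtain ⟨k, hk⟩ := T.isPGroup' ⟨_, h1⟩
      have hk' : (z * (n * z⁻¹ * n⁻¹)) ^ p ^ k = 1 := by
        have := congrArg (fun u => ((u : ↥(N ⊔ Subgroup.zpowers z)) : G)) (congrArg Subtype.val hk)
        simpa using this
      have hmem : z * (n * z⁻¹ * n⁻¹) ∈ N := by
        have e : z * (n * z⁻¹ * n⁻¹) = (z * n * z⁻¹) * n⁻¹ := by group
        rw [e]
        exact N.mul_mem (hNn.conj_mem n hn z) (N.inv_mem hn)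
      have h2 := eq_one_of_mem_of_pow_eq_one hpp (hstep2 N hNn hNt) hmem hk'
      have e : z * (n * z⁻¹ * n⁻¹) = (z * n) * (n * z)⁻¹ := by group
      rw [e, mul_inv_eq_one] at h2
      exact h2
    -- `z` is central
    have hcent : Subgroup.centralizer ({z} : Set G) = ⊤ := by
      rw [eq_top_iff, ← hstep1 P N hNn hN1]
      apply sup_le
      · intro u hu
        rw [Subgroup.mem_centralizer_iff]
        rintro _ rfl
        exact hzc u hu
      · intro u hu
        rw [Subgroup.mem_centralizer_iff]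
        rintro _ rfl
        exact hzN u hu
    have hzg : ∀ g : G, g * z = z * g := by
      intro g
      have h1 : g ∈ Subgroup.centralizer ({z} : Set G) := by rw [hcent]; trivial
      rw [Subgroup.mem_centralizer_iff] at h1
      exact (h1 z rfl).symm
    have hZn : (Subgroup.zpowers z).Normal := by
      constructor
      rintro _ ⟨k, rfl⟩ g
      have h1 : Commute g z := hzg g
      have h2 : Commute g (z ^ k) := h1.zpow_right k
      show g * z ^ k * g⁻¹ ∈ _
      rw [h2.eq, mul_inv_cancel_right]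
      exact Subgroup.zpow_mem_zpowers z k
    by_cases hZt : Subgroup.zpowers z = ⊤
    · -- then `G` is commutative
      apply hnn P
      constructor
      intro n hn g
      have hg : g ∈ Subgroup.zpowers z := by rw [hZt]; trivial
      obtain ⟨k, rfl⟩ := hg
      have h1 : Commute (z ^ k) n := (Commute.zpow_left (hzc n hn) k)
      show z ^ k * n * (z ^ k)⁻¹ ∈ _
      rw [h1.eq, mul_inv_cancel_right]
      exact hn
    · apply hstep2 _ hZn hZt
      rw [Nat.card_zpowers, hzord]
  -- get a proper normal subgroup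
  have hex : ∃ N : Subgroup G, N.Normal ∧ N ≠ ⊥ ∧ N ≠ ⊤ := by
    by_contra hnot
    push Not at hnot
    apply hns
    haveI : Nontrivial G := by
      obtain ⟨a, ha⟩ := exists_ne (1 : ↥(P : Subgroup G))
      exact ⟨⟨a, 1, fun h => ha (Subtype.ext h)⟩⟩
    refine ⟨?_⟩
    intro H hH
    by_cases h1 : H = ⊥
    · exact Or.inl h1
    · exact Or.inr (hnot H hH h1)
  obtain ⟨N, hNn, hN1, hNt⟩ := hex
  haveI := hNn
  have hNi := hidx N hNn hN1 hNt
  have hNp := hstep2 N hNn hNt
  have hzN := hzNot N hNn hNt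
  apply structure_of_common N hNi hNp hN1 ?_ z hzN hzp ?_ ?_
  · intro M hMn hM1 hMt
    haveI := hMn
    apply le_antisymm
    · exact le_of_index_of_not_dvd hNi (hstep2 M hMn hMt)
    · exact le_of_index_of_not_dvd (hidx M hMn hM1 hMt) hNp
  · intro K hK hzK a ha
    have hcl := hsub K hK
    obtain ⟨T⟩ : Nonempty (Sylow p ↥K) := inferInstance
    have hT := hcl T
    have hz'T : (⟨z, hzK⟩ : ↥K) ∈ (T : Subgroup _) := by
      apply mem_of_pow_eq_one T hT (k := 1)
      apply Subtype.ext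
      show z ^ p ^ 1 = 1
      rw [pow_one, hzp]
    have h1 : (⟨z, hzK⟩ : ↥K) * ((⟨a, ha⟩ : ↥K) * (⟨z, hzK⟩ : ↥K)⁻¹ * (⟨a, ha⟩ : ↥K)⁻¹) ∈ (T : Subgroup _) :=
      Subgroup.mul_mem _ hz'T (hT.conj_mem _ (Subgroup.inv_mem _ hz'T) _)
    obtain ⟨k, hk⟩ := T.isPGroup' ⟨_, h1⟩
    refine ⟨k, ?_⟩
    have := congrArg (fun u => ((u : ↥K) : G)) (congrArg Subtype.val hk)
    simpa using this
  · intro hcx
    apply hnn P
    constructor
    intro n hn g
    obtain ⟨k, hk⟩ := P.isPGroup' ⟨n, hn⟩
    have hk' : n ^ p ^ k = 1 := by simpa using congrArg Subtype.val hk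
    have h1 := mem_zpowers_of_centralize hNi hNp hzN hzp hcx hk'
    obtain ⟨m, rfl⟩ := h1
    obtain ⟨b, hb, i, rfl⟩ := exists_decomp N hNi hzN g
    have c1 : Commute b (z ^ m) := (Commute.zpow_right (Commute.symm (hcx b hb)) m)
    have c2 : Commute (z ^ i) (z ^ m) := ((Commute.refl z).pow_left i).zpow_right m
    have c3 : Commute (b * z ^ i) (z ^ m) := c1.mul_left c2
    show b * z ^ i * z ^ m * (b * z ^ i)⁻¹ ∈ _
    rw [c3.eq, mul_inv_cancel_right]
    exact hn

end Cfsg.Agent.S3868
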