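import Mathlib
import Cfsg.Statements.S3869
import Cfsg.Agent.Lib.MinNonClosed

set_option autoImplicit false
open Cfsg

namespace Cfsg.Agent.S3869

open Cfsg.Agent.Lib.MinNonClosed

/-- A subgroup all of whose elements commute has normal subgroups only. -/
theorem normal_of_comm {H : Type*} [Group H] (hc : ∀ a b : H, a * b = b * a) (K : Subgroup H) : K.Normal := by
  constructor
  intro n hn g
  rw [hc g n, mul_inv_cancel_right]
  exact hn

/-- Let p and q be distinct primes and G a finite non-abelian group with a normal elementary abelian q-subgroup A that is a minimal normal subgroup of G and has index p. Then A has order q^e with e the multiplicative order of q modulo p, and G is minimal non-p-closed: its Sylow p-subgroups are not normal, while in every proper subgroup and in every proper quotient of G the Sylow p-subgroups are normal. -/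
theorem result {G : Type*} [Group G] [Finite G] {p q : ℕ} [Fact p.Prime] (hq : q.Prime) (hpq : q ≠ p)
    (hna : ¬ IsMulCommutative G) (A : Subgroup G) [A.Normal] (hA : Cfsg.IsElementaryAbelian q A) (hidx : A.index = p)
    (hmin : ∀ B : Subgroup G, B.Normal → B ≤ A → B = ⊥ ∨ B = A) :
    Nat.card ↥A = q ^ orderOf (q : ZMod p) ∧ ¬ Cfsg.IsPClosed p G ∧ (∀ H : Subgroup G, H ≠ ⊤ → Cfsg.IsPClosed p ↥H) ∧
      ∀ (N : Subgroup G) [N.Normal], N ≠ ⊥ → Cfsg.IsPClosed p (G ⧸ N) := by
  classical
  have hAc : ∀ a ∈ A, ∀ b ∈ A, a * b = b * a := by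
    intro a ha b hb
    have := hA.1.is_comm.comm ⟨a, ha⟩ ⟨b, hb⟩
    exact congrArg Subtype.val this
  have hp : p.Prime := Fact.out
  obtain ⟨x, hxA, hxp⟩ := exists_pow_eq_one_not_mem hq hpq A hA.2 hidx
  -- any element outside `A` is non-central with respect to `A`
  have hdecy : ∀ y, y ∉ A → ∀ g : G, ∃ a ∈ A, ∃ i : ℕ, g = a * y ^ i := fun y hy g =>
    exists_decomp A hidx hy g
  have hnc : ∀ y, y ∉ A → ¬ ∀ a ∈ A, y * a = a * y := fun y hy hcy =>
    hna (isMulCommutative_of_centralize hAc (hdecy y hy) hcy)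
  refine ⟨card_eq_of_minimal_normal hq hpq hna A hA hidx hmin, ?_, ?_, ?_⟩
  · -- not `p`-closed
    intro hcl
    have hzp : IsPGroup p (Subgroup.zpowers x) := by
      apply IsPGroup.of_card (n := 1)
      rw [pow_one, Nat.card_zpowers]
      have h1 : orderOf x ∣ p := orderOf_dvd_of_pow_eq_one hxp
      rcases (Nat.dvd_prime hp).1 h1 with h2 | h2
      · exfalso
        apply hxA
        rw [orderOf_eq_one_iff.1 h2]
        exact A.one_mem
      · exact h2
    obtain ⟨P, hP⟩ := hzp.exists_le_sylow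
    have hPn := hcl P
    apply hnc x hxA
    intro a ha
    have hxP : x ∈ (P : Subgroup G) := hP (Subgroup.mem_zpowers x)
    have h1 : x * a * x⁻¹ * a⁻¹ ∈ A := by
      have h2 : x * a * x⁻¹ ∈ A := ‹A.Normal›.conj_mem a ha x
      exact A.mul_mem h2 (A.inv_mem ha)
    have h2 : x * a * x⁻¹ * a⁻¹ ∈ (P : Subgroup G) := by
      have h3 : a * x⁻¹ * a⁻¹ ∈ (P : Subgroup G) := hPn.conj_mem _ ((P : Subgroup G).inv_mem hxP) a
      have e : x * a * x⁻¹ * a⁻¹ = x * (a * x⁻¹ * a⁻¹) := by group
      rw [e]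
      exact (P : Subgroup G).mul_mem hxP h3
    obtain ⟨k, hk⟩ := P.isPGroup' ⟨_, h2⟩
    have h3 : (x * a * x⁻¹ * a⁻¹) ^ p ^ k = 1 := by simpa using congrArg Subtype.val hk
    have h4 := eq_one_of_pow_eq_one hp hq hpq (hA.2 _ h1) h3
    rw [mul_inv_eq_one, mul_inv_eq_iff_eq_mul] at h4
    exact h4
  · -- proper subgroups are abelian
    intro H hH P
    apply normal_of_comm
    rintro ⟨a, ha⟩ ⟨b, hb⟩
    apply Subtype.ext
    show a * b = b * a
    by_cases hHA : H ≤ A
    · exact hAc a (hHA ha) b (hHA hb)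
    · obtain ⟨y, hyH, hyA⟩ := SetLike.not_le_iff_exists.1 hHA
      have hdec := hdecy y hyA
      have hBn : (H ⊓ A).Normal := normal_of_le_of_invariant hAc inf_le_right hdec (by
        rintro b ⟨hb1, hb2⟩
        exact ⟨H.mul_mem (H.mul_mem hyH hb1) (H.inv_mem hyH), ‹A.Normal›.conj_mem b hb2 y⟩)
      rcases hmin _ hBn inf_le_right with h | h
      · have h1 : a * b * a⁻¹ * b⁻¹ ∈ H ⊓ A :=
          ⟨H.mul_mem (H.mul_mem (H.mul_mem ha hb) (H.inv_mem ha)) (H.inv_mem hb),
            commutator_mem_of_decomp hdec a b⟩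
        rw [h, Subgroup.mem_bot, mul_inv_eq_one, mul_inv_eq_iff_eq_mul] at h1
        exact h1
      · exfalso
        apply hH
        rw [Subgroup.eq_top_iff']
        intro g
        obtain ⟨c, hc, i, rfl⟩ := hdec g
        have hc' : c ∈ H ⊓ A := by rw [h]; exact hc
        exact H.mul_mem hc'.1 (H.pow_mem hyH i)
  · -- proper quotients are abelian
    intro N hNn hN P
    have hdec := hdecy x hxA
    have hBn : (N ⊓ A).Normal := inferInstance
    rcases hmin _ hBn inf_le_right with h | h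
    · exfalso
      obtain ⟨⟨n, hn⟩, hn1⟩ := Subgroup.ne_bot_iff_exists_ne_one.1 hN
      have hn1' : n ≠ 1 := fun h' => hn1 (Subtype.ext h')
      have hnA : n ∉ A := by
        intro hnA
        have h1 : n ∈ N ⊓ A := ⟨hn, hnA⟩
        rw [h, Subgroup.mem_bot] at h1
        exact hn1' h1
      apply hnc n hnA
      intro a ha
      have h1 : n * a * n⁻¹ * a⁻¹ ∈ N ⊓ A := by
        refine ⟨?_, A.mul_mem (‹A.Normal›.conj_mem a ha n) (A.inv_mem ha)⟩
        have h2 : a * n⁻¹ * a⁻¹ ∈ N := hNn.conj_mem _ (N.inv_mem hn) a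
        have e : n * a * n⁻¹ * a⁻¹ = n * (a * n⁻¹ * a⁻¹) := by group
        rw [e]
        exact N.mul_mem hn h2
      rw [h, Subgroup.mem_bot, mul_inv_eq_one, mul_inv_eq_iff_eq_mul] at h1
      exact h1
    · apply normal_of_comm
      intro a b
      obtain ⟨a, rfl⟩ := QuotientGroup.mk_surjective a
      obtain ⟨b, rfl⟩ := QuotientGroup.mk_surjective b
      have h1 : a * b * a⁻¹ * b⁻¹ ∈ N := by
        have : A ≤ N := inf_eq_right.1 h
        exact this (commutator_mem_of_decomp hdec a b)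
      have h2 := (QuotientGroup.eq_one_iff _).2 h1
      have e : ((a * b * a⁻¹ * b⁻¹ : G) : G ⧸ N) = (a : G ⧸ N) * (b : G ⧸ N) * (a : G ⧸ N)⁻¹ * (b : G ⧸ N)⁻¹ := rfl
      rw [e, mul_inv_eq_one, mul_inv_eq_iff_eq_mul] at h2
      exact h2

end Cfsg.Agent.S3869
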