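import Mathlib
import Cfsg.Statements.S3870
import Cfsg.Agent.Lib.TransferCore

set_option autoImplicit false
open Cfsg

namespace Cfsg.Agent.S3870

open Cfsg.Agent.Lib.TransferCore

variable {G : Type*} [Group G] [Finite G]

/-- In a group with a normal Sylow subgroup, it contains all `p`-subgroups. -/
theorem le_of_isPGroup_of_normal {X : Type*} [Group X] [Finite X] {p : ℕ} [Fact p.Prime]
    (T : Sylow p X) (hT : (T : Subgroup X).Normal) (A : Subgroup X) (hA : IsPGroup p A) :
    A ≤ T := by
  obtain ⟨S, hS⟩ := hA.exists_le_sylow
  have h1 : (T : Subgroup X) ≤ S := T.isPGroup'.le_sylow_of_normal S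
  have h2 : (T : Subgroup X) = S :=
    le_antisymm h1 (T.is_maximal' S.isPGroup' h1).le
  rw [h2]; exact hS

/-- If `N` is `p`-closed, a single `p`-subgroup contains all `p`-subgroups lying in `N`. -/
theorem exists_big {p : ℕ} [Fact p.Prime] (N : Subgroup G) (hN : IsPClosed p ↥N) :
    ∃ T : Subgroup G, IsPGroup p T ∧ ∀ A : Subgroup G, IsPGroup p A → A ≤ N → A ≤ T := by
  let T₀ : Sylow p N := Sylow.nonempty.some
  refine ⟨(T₀ : Subgroup N).map N.subtype, T₀.isPGroup'.map _, ?_⟩
  intro A hA hAN
  have h1 : IsPGroup p (A.subgroupOf N) := hA.comap_of_injective N.subtype Subtype.val_injective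
  have h2 := le_of_isPGroup_of_normal T₀ (hN T₀) _ h1
  intro a ha
  exact ⟨⟨a, hAN ha⟩, h2 (by simpa [Subgroup.mem_subgroupOf] using ha), rfl⟩

/-- Let G be a finite simple group whose Sylow p-subgroups are not normal but such that every proper subgroup of G has a normal Sylow p-subgroup. Then any two distinct Sylow p-subgroups of G intersect trivially, and for every Sylow p-subgroup P the normalizer of every non-identity subgroup of P lies in the normalizer of P. -/
theorem result {G : Type*} [Group G] [Finite G] [IsSimpleGroup G] {p : ℕ} [Fact p.Prime]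
    (hnc : ¬ Cfsg.IsPClosed p G) (hsub : ∀ H : Subgroup G, H ≠ ⊤ → Cfsg.IsPClosed p ↥H) :
    (∀ P Q : Sylow p G, P ≠ Q → (P : Subgroup G) ⊓ (Q : Subgroup G) = ⊥) ∧
      ∀ (P : Sylow p G) (R : Subgroup G), R ≤ P → R ≠ ⊥ →
        Subgroup.normalizer (R : Set G) ≤ Subgroup.normalizer ((P : Subgroup G) : Set G) := by
  classical
  -- normalizers of nontrivial p-subgroups are proper
  have hprop : ∀ R : Subgroup G, IsPGroup p R → R ≠ ⊥ → Subgroup.normalizer (R : Set G) ≠ ⊤ := by
    intro R hR hR0 htop
    have hRn : R.Normal := Subgroup.normalizer_eq_top_iff.1 htop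
    rcases IsSimpleGroup.eq_bot_or_eq_top_of_normal R hRn with h | h
    · exact hR0 h
    · apply hnc
      intro P
      have : (P : Subgroup G) = ⊤ := by
        rw [h] at hR
        have h1 : (⊤ : Subgroup G) ≤ P := hR.le_sylow_of_normal P
        exact top_le_iff.1 h1
      rw [this]
      infer_instance
  have hTI : ∀ n : ℕ, ∀ P Q : Sylow p G, Nat.card G - Nat.card ↥((P : Subgroup G) ⊓ Q) = n →
      (P : Subgroup G) ⊓ Q ≠ ⊥ → P = Q := by
    intro n
    induction n using Nat.strong_induction_on with
    | _ n ih =>
      intro P Q hn hPQ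
      by_contra hne
      set D : Subgroup G := (P : Subgroup G) ⊓ Q with hD
      have hDp : IsPGroup p D := P.isPGroup'.to_le inf_le_left
      have hsyl : ∀ S T : Sylow p G, (S : Subgroup G) ≤ T → S = T := by
        intro S T h
        apply Sylow.ext
        exact le_antisymm h (S.is_maximal' T.isPGroup' h).le
      have hDltP : D < P := by
        refine lt_of_le_of_ne inf_le_left ?_
        intro h
        have : (P : Subgroup G) ≤ Q := by rw [← h]; exact inf_le_right
        exact hne (hsyl P Q this)
      have hDltQ : D < Q := by
        refine lt_of_le_of_ne inf_le_right ?_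
        intro h
        have : (Q : Subgroup G) ≤ P := by rw [← h]; exact inf_le_left
        exact hne (hsyl Q P this).symm
      obtain ⟨T, hTp, hT⟩ := exists_big (Subgroup.normalizer (D : Set G))
        (hsub _ (hprop D hDp hPQ))
      obtain ⟨S, hS⟩ := hTp.exists_le_sylow
      have hDS : D ≤ S := (hT D hDp Subgroup.le_normalizer).trans hS
      -- elements of the normalizer in a Sylow subgroup
      have grow : ∀ U : Sylow p G, D < U → ∃ x ∈ (U : Subgroup G), x ∉ D ∧ x ∈ S := by
        intro U hU
        haveI : Group.IsNilpotent (U : Subgroup G) := U.isPGroup'.isNilpotent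
        have hnorm := Group.normalizerCondition_of_isNilpotent (G := (U : Subgroup G)) (D.subgroupOf U) (by
          refine lt_top_iff_ne_top.2 ?_
          intro h
          rw [Subgroup.subgroupOf_eq_top] at h
          exact absurd h (not_le_of_gt hU))
        obtain ⟨x, hx, hxD⟩ := SetLike.exists_of_lt hnorm
        refine ⟨x, x.2, ?_, ?_⟩
        · intro hD'
          exact hxD (by simpa [Subgroup.mem_subgroupOf] using hD')
        · -- x normalizes D
          have hxN : (x : G) ∈ Subgroup.normalizer (D : Set G) := by
            rw [Subgroup.mem_normalizer_iff]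
            intro d
            rw [Subgroup.mem_normalizer_iff] at hx
            constructor
            · intro hd
              have hdU : d ∈ (U : Subgroup G) := hU.le hd
              have := (hx ⟨d, hdU⟩).1 (by simpa [Subgroup.mem_subgroupOf] using hd)
              simpa [Subgroup.mem_subgroupOf] using this
            · intro hd
              have hdU : d ∈ (U : Subgroup G) := by
                have h1 : (x : G) * d * (x : G)⁻¹ ∈ (U : Subgroup G) := hU.le hd
                have h2 : d = (x : G)⁻¹ * ((x : G) * d * (x : G)⁻¹) * (x : G) := by group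
                rw [h2]
                exact (U : Subgroup G).mul_mem ((U : Subgroup G).mul_mem ((U : Subgroup G).inv_mem x.2) h1) x.2
              have := (hx ⟨d, hdU⟩).2 (by simpa [Subgroup.mem_subgroupOf] using hd)
              simpa [Subgroup.mem_subgroupOf] using this
          have hzp : IsPGroup p (Subgroup.zpowers (x : G)) := by
            have : Subgroup.zpowers (x : G) ≤ U := by
              rw [Subgroup.zpowers_le]; exact x.2
            exact U.isPGroup'.to_le this
          have hzN : Subgroup.zpowers (x : G) ≤ Subgroup.normalizer (D : Set G) := by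
            rw [Subgroup.zpowers_le]; exact hxN
          exact hS (hT _ hzp hzN (Subgroup.mem_zpowers _))
      have hstep : ∀ U : Sylow p G, D < U → S = U := by
        intro U hU
        obtain ⟨x, hxU, hxD, hxS⟩ := grow U hU
        have hDlt : D < (S : Subgroup G) ⊓ U :=
          lt_of_le_of_ne (le_inf hDS hU.le) (fun h => hxD (by rw [h]; exact ⟨hxS, hxU⟩))
        have hcardlt : Nat.card D < Nat.card ↥((S : Subgroup G) ⊓ U) := by
          by_contra hcon
          exact hDlt.ne (Subgroup.eq_of_le_of_card_ge hDlt.le (not_lt.1 hcon))
        have hle : Nat.card ↥((S : Subgroup G) ⊓ U) ≤ Nat.card G := Subgroup.card_le_card_group _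
        refine ih (Nat.card G - Nat.card ↥((S : Subgroup G) ⊓ U)) ?_ S U rfl ?_
        · rw [← hn]
          omega
        · intro h
          rw [h] at hDlt
          exact absurd hDlt (by
            intro h'
            exact hPQ (le_bot_iff.1 h'.le))
      exact hne ((hstep P hDltP).symm.trans (hstep Q hDltQ))
  have hTI' : ∀ P Q : Sylow p G, (P : Subgroup G) ⊓ Q ≠ ⊥ → P = Q :=
    fun P Q h => hTI _ P Q rfl h
  constructor
  · intro P Q hne
    by_contra h
    exact hne (hTI' P Q h)
  · intro P R hRP hR g hg
    apply Sylow.smul_eq_iff_mem_normalizer.1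
    apply hTI'
    intro hbot
    apply hR
    rw [eq_bot_iff]
    intro r hr
    have h1 : r ∈ ((g • P : Sylow p G) : Subgroup G) ⊓ (P : Subgroup G) := by
      refine ⟨?_, hRP hr⟩
      have h2 : r ∈ g • P := by
        rw [mem_smul_sylow]
        have : g⁻¹ ∈ Subgroup.normalizer (R : Set G) := Subgroup.inv_mem _ hg
        rw [Subgroup.mem_normalizer_iff] at this
        have h3 := (this r).1 hr
        exact hRP (by simpa using h3)
      exact h2
    rw [hbot] at h1
    exact h1

end Cfsg.Agent.S3870
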