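import Mathlib
import Cfsg.Agent.Lib.HallPetrescu
import Cfsg.Agent.Lib.Frat

set_option autoImplicit false
set_option linter.style.haveILetI false
open Cfsg

namespace Cfsg.Agent.S3872

open scoped commutatorElement

/-- a strict inclusion in a `p`-group -/
private lemma card_mul_le_of_lt {G : Type*} [Group G] [Finite G] {p : ℕ} [hp : Fact p.Prime]
    (hG : IsPGroup p G) {H K : Subgroup G} (h : H ≤ K) (hne : H ≠ K) :
    Nat.card H * p ≤ Nat.card K := by
  have hpp : p.Prime := hp.out
  obtain ⟨b, hb⟩ := IsPGroup.iff_card.1 (hG.to_subgroup K)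
  have h1 : Nat.card H ∣ p ^ b := hb ▸ Subgroup.card_dvd_of_le h
  obtain ⟨a, ha, ha2⟩ := (Nat.dvd_prime_pow hpp).1 h1
  have hab : a ≠ b := by
    rintro rfl
    apply hne
    exact Subgroup.eq_of_le_of_card_ge h (by rw [ha2, hb])
  have hlt : a + 1 ≤ b := by omega
  rw [ha2, hb, ← pow_succ]
  exact Nat.pow_le_pow_right hpp.pos hlt

/-- a commutative `p`-group whose elements of order `p` all lie in one cyclic subgroup -/
private lemma isCyclic_of_forall {A : Type*} [CommGroup A] [Finite A] {p : ℕ} [hp : Fact p.Prime]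
    (hA : IsPGroup p A) (c : A) (hc1 : c ^ p = 1) (hc : ∀ z : A, z ^ p = 1 → z ∈ Subgroup.zpowers c) :
    IsCyclic A := by
  have hpp : p.Prime := hp.out
  obtain ⟨z, hz⟩ := Monoid.exists_orderOf_eq_exponent (G := A) (Monoid.ExponentExists.of_finite)
  suffices hmain : ∀ n : ℕ, ∀ w : A, orderOf w = n → w ∈ Subgroup.zpowers z by
    refine ⟨z, fun w => hmain _ w rfl⟩
  intro n
  induction n using Nat.strong_induction_on with
  | _ n ih =>
    intro w hw
    by_cases hw1 : w = 1
    · rw [hw1]; exact Subgroup.one_mem _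
    obtain ⟨k, hk⟩ := hA w
    have hn0 : orderOf w ≠ 1 := by
      rw [Ne, orderOf_eq_one_iff]; exact hw1
    have hpn : p ∣ orderOf w := by
      have : orderOf w ∣ p ^ k := orderOf_dvd_of_pow_eq_one hk
      obtain ⟨j, _, hj⟩ := (Nat.dvd_prime_pow hpp).1 this
      rw [hj] at hn0 ⊢
      rcases j with _ | j
      · simp at hn0
      · exact dvd_pow_self p (by omega)
    have hwp : orderOf (w ^ p) < n := by
      rw [orderOf_pow_of_dvd hpp.ne_zero hpn, ← hw]
      exact Nat.div_lt_self (orderOf_pos w) hpp.one_lt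
    obtain ⟨l, hl⟩ := Subgroup.mem_zpowers_iff.1 (ih _ hwp (w ^ p) rfl)
    have hpe : p ∣ orderOf z := by
      rw [hz]
      exact hpn.trans (Monoid.order_dvd_exponent w)
    obtain ⟨e', he'⟩ := hpe
    have he'pos : 0 < e' := by
      rcases Nat.eq_zero_or_pos e' with h | h
      · rw [h, mul_zero] at he'
        exact absurd he' (orderOf_pos z).ne'
      · exact h
    -- `p ∣ l`
    have hpl : (p : ℤ) ∣ l := by
      have h1 : z ^ (l * e') = 1 := by
        rw [zpow_mul, hl, zpow_natCast, ← pow_mul]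
        rw [mul_comm p e', mul_comm e' p, ← he', hz]
        exact Monoid.pow_exponent_eq_one w
      have h2 := (orderOf_dvd_iff_zpow_eq_one).2 h1
      rw [he'] at h2
      push_cast at h2
      rw [mul_comm (p : ℤ), mul_comm l] at h2
      exact Int.dvd_of_mul_dvd_mul_left (by exact_mod_cast he'pos.ne') h2
    obtain ⟨m, hm⟩ := hpl
    set v : A := w * (z ^ m)⁻¹ with hv
    have hv1 : v ^ p = 1 := by
      rw [hv, mul_pow, ← hl, hm, inv_pow, ← zpow_natCast (z ^ m), ← zpow_mul, mul_comm m]
      simp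
    have hvmem : v ∈ Subgroup.zpowers c := hc v hv1
    -- `c ∈ ⟨z⟩`
    have hcz : c ∈ Subgroup.zpowers z := by
      set t := z ^ e' with ht
      have ht1 : t ^ p = 1 := by
        rw [ht, ← pow_mul, mul_comm, ← he']
        exact pow_orderOf_eq_one z
      have htne : t ≠ 1 := by
        intro h
        have : orderOf z ∣ e' := orderOf_dvd_of_pow_eq_one h
        have := Nat.le_of_dvd he'pos this
        rw [he'] at this
        nlinarith [hpp.two_le]
      have htmem : t ∈ Subgroup.zpowers c := hc t ht1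
      have hord : orderOf t = p := orderOf_eq_prime ht1 htne
      have hcne : c ≠ 1 := by
        rintro rfl
        rw [Subgroup.zpowers_one_eq_bot, Subgroup.mem_bot] at htmem
        exact htne htmem
      have hordc : orderOf c = p := orderOf_eq_prime hc1 hcne
      have hle : Subgroup.zpowers t ≤ Subgroup.zpowers c :=
        (Subgroup.zpowers_le).2 htmem
      have heq : Subgroup.zpowers t = Subgroup.zpowers c :=
        Subgroup.eq_of_le_of_card_ge hle (by rw [Nat.card_zpowers, Nat.card_zpowers, hord, hordc])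
      have hcmem : c ∈ Subgroup.zpowers t := by
        rw [heq]; exact Subgroup.mem_zpowers c
      have htz : Subgroup.zpowers t ≤ Subgroup.zpowers z :=
        (Subgroup.zpowers_le).2 (Subgroup.npow_mem_zpowers z e')
      exact htz hcmem
    have : v ∈ Subgroup.zpowers z := ((Subgroup.zpowers_le).2 hcz) hvmem
    have hw' : w = v * z ^ m := by rw [hv]; group
    rw [hw']
    exact Subgroup.mul_mem _ this (Subgroup.zpow_mem_zpowers z m)

theorem result {G : Type*} [Group G] [Finite G] {p : ℕ} [Fact p.Prime] (hG : IsPGroup p G)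
    (hnc : ¬ (∃ H : Subgroup G, (H : Set G) = {g : G | g ^ p = 1})) (hsub : ∀ K : Subgroup G, K ≠ ⊤ → (∃ H : Subgroup ↥K, (H : Set ↥K) = {g : ↥K | g ^ p = 1}))
    (hquo : ∀ (N : Subgroup G) [N.Normal], N ≠ ⊥ → (∃ H : Subgroup (G ⧸ N), (H : Set (G ⧸ N)) = {g : (G ⧸ N) | g ^ p = 1})) :
    (∃ x y : G, Subgroup.closure ({x, y} : Set G) = ⊤) ∧ (⊤ : Subgroup G).lowerCentralSeries (p - 1) ≠ ⊥ ∧
      Monoid.exponent G = p ^ 2 ∧ IsCyclic ↥(Subgroup.center G) ∧ p ^ (p + 1) ≤ Nat.card G := by
  have hpp : p.Prime := Fact.out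
  -- the witnesses
  obtain ⟨x, y, hx, hy, hxy⟩ : ∃ x y : G, x ^ p = 1 ∧ y ^ p = 1 ∧ (x * y) ^ p ≠ 1 := by
    by_contra hcon
    push Not at hcon
    apply hnc
    refine ⟨{ carrier := {g : G | g ^ p = 1}
              mul_mem' := fun {a b} ha hb => hcon a b ha hb
              one_mem' := one_pow p
              inv_mem' := fun {a} ha => by
                show a⁻¹ ^ p = 1
                rw [inv_pow, show a ^ p = 1 from ha, inv_one] }, rfl⟩
  -- they generate
  have hgen : Subgroup.closure ({x, y} : Set G) = ⊤ := by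
    by_contra hne
    obtain ⟨H, hH⟩ := hsub _ hne
    have hxm : x ∈ Subgroup.closure ({x, y} : Set G) := Subgroup.subset_closure (by simp)
    have hym : y ∈ Subgroup.closure ({x, y} : Set G) := Subgroup.subset_closure (by simp)
    have h1 : (⟨x, hxm⟩ : ↥(Subgroup.closure ({x, y} : Set G))) ∈ H := by
      have : (⟨x, hxm⟩ : ↥(Subgroup.closure ({x, y} : Set G))) ∈ (H : Set _) := by
        rw [hH]; exact Subtype.ext hx
      exact this
    have h2 : (⟨y, hym⟩ : ↥(Subgroup.closure ({x, y} : Set G))) ∈ H := by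
      have : (⟨y, hym⟩ : ↥(Subgroup.closure ({x, y} : Set G))) ∈ (H : Set _) := by
        rw [hH]; exact Subtype.ext hy
      exact this
    have h3 : (⟨x, hxm⟩ : ↥(Subgroup.closure ({x, y} : Set G))) * ⟨y, hym⟩ ∈ (H : Set _) :=
      H.mul_mem h1 h2
    rw [hH] at h3
    exact hxy (congrArg Subtype.val h3)
  -- the subgroups `E`
  have hE : ∀ M : Subgroup G, M ≠ ⊤ → ∃ E : Subgroup G, ∀ e, e ∈ E ↔ e ∈ M ∧ e ^ p = 1 := by
    intro M hM
    obtain ⟨H, hH⟩ := hsub M hM
    refine ⟨H.map M.subtype, fun e => ?_⟩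
    rw [Subgroup.mem_map]
    constructor
    · rintro ⟨h, hh, rfl⟩
      refine ⟨h.2, ?_⟩
      have : h ∈ (H : Set _) := hh
      rw [hH] at this
      exact congrArg Subtype.val this
    · rintro ⟨hm, he⟩
      refine ⟨⟨e, hm⟩, ?_, rfl⟩
      have : (⟨e, hm⟩ : M) ∈ (H : Set _) := by
        rw [hH]; exact Subtype.ext he
      exact this
  -- each generator lies in a coatom
  have hcoat : ∀ a : G, a ^ p = 1 →
      ∃ E : Subgroup G, E.Normal ∧ a ∈ E ∧ (∀ e ∈ E, e ^ p = 1) ∧ E ≠ ⊤ := by
    intro a ha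
    have hnetop : Subgroup.closure ({a} : Set G) ≠ ⊤ := by
      intro htop
      have : (x * y) ∈ Subgroup.closure ({a} : Set G) := by rw [htop]; trivial
      obtain ⟨k, hk⟩ := Subgroup.mem_closure_singleton.1 this
      apply hxy
      rw [← hk, ← zpow_natCast, ← zpow_mul, mul_comm, zpow_mul, zpow_natCast, ha, one_zpow]
    obtain h | ⟨M, hM, hle⟩ := eq_top_or_exists_le_coatom (Subgroup.closure ({a} : Set G))
    · exact absurd h hnetop
    obtain ⟨hcomm, hpow⟩ := Cfsg.Agent.Lib.Frat.commutator_and_pow_mem_of_isCoatom hG hM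
    have hMn : M.Normal := Cfsg.Agent.Lib.Frat.normal_of_commutator_le hcomm
    obtain ⟨E, hE'⟩ := hE M hM.1
    refine ⟨E, ⟨fun n hn g => ?_⟩, ?_, fun e he => ((hE' e).1 he).2, ?_⟩
    · rw [hE'] at hn ⊢
      refine ⟨hMn.conj_mem n hn.1 g, ?_⟩
      rw [conj_pow, hn.2, mul_one, mul_inv_cancel]
    · rw [hE']
      exact ⟨hle (Subgroup.subset_closure rfl), ha⟩
    · intro htop
      apply hM.1
      rw [eq_top_iff]
      intro g _
      have : g ∈ E := by rw [htop]; trivial
      exact ((hE' g).1 this).1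
  -- quotient by `E` is cyclic generated by the other generator
  have hquotcyc : ∀ (E : Subgroup G) (_ : E.Normal) (a b : G), a ∈ E →
      Subgroup.closure ({a, b} : Set G) = ⊤ → b ^ p = 1 →
      commutator G ≤ E ∧ ∀ g : G, g ^ p ∈ E := by
    intro E hEn a b haE hab hb
    have hall : ∀ g : G, ∃ k : ℤ, (g : G ⧸ E) = (b : G ⧸ E) ^ k := by
      intro g
      have hle : Subgroup.closure ({a, b} : Set G) ≤
          (Subgroup.zpowers (b : G ⧸ E)).comap (QuotientGroup.mk' E) := by
        rw [Subgroup.closure_le]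
        rintro u (rfl | rfl)
        · have : (QuotientGroup.mk' E u) = 1 := (QuotientGroup.eq_one_iff u).2 haE
          show QuotientGroup.mk' E u ∈ Subgroup.zpowers (b : G ⧸ E)
          rw [this]
          exact Subgroup.one_mem _
        · show QuotientGroup.mk' E u ∈ Subgroup.zpowers (u : G ⧸ E)
          exact Subgroup.mem_zpowers _
      have hg : g ∈ Subgroup.closure ({a, b} : Set G) := by rw [hab]; trivial
      obtain ⟨k, hk⟩ := Subgroup.mem_zpowers_iff.1 (hle hg)
      exact ⟨k, hk.symm⟩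
    constructor
    · rw [commutator_def, Subgroup.commutator_le]
      intro g₁ _ g₂ _
      rw [← QuotientGroup.eq_one_iff]
      obtain ⟨k, hk⟩ := hall g₁
      obtain ⟨l, hl⟩ := hall g₂
      have hcomm : Commute (g₁ : G ⧸ E) (g₂ : G ⧸ E) := by
        rw [hk, hl]
        exact (Commute.refl _).zpow_zpow k l
      have : ((⁅g₁, g₂⁆ : G) : G ⧸ E) = ⁅(g₁ : G ⧸ E), (g₂ : G ⧸ E)⁆ :=
        map_commutatorElement (QuotientGroup.mk' E) g₁ g₂
      rw [this]
      exact commutatorElement_eq_one_iff_commute.2 hcomm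
    · intro g
      rw [← QuotientGroup.eq_one_iff]
      obtain ⟨k, hk⟩ := hall g
      rw [QuotientGroup.mk_pow, hk, ← zpow_natCast, ← zpow_mul, mul_comm, zpow_mul, zpow_natCast,
        ← QuotientGroup.mk_pow, hb]
      simp
  obtain ⟨E₁, hn₁, hx₁, he₁, ht₁⟩ := hcoat x hx
  obtain ⟨E₂, hn₂, hy₂, he₂, ht₂⟩ := hcoat y hy
  have hc₁ := hquotcyc E₁ hn₁ x y hx₁ hgen hy
  have hc₂ := hquotcyc E₂ hn₂ y x hy₂ (by rw [Set.pair_comm]; exact hgen) hx
  have hcomm_exp : ∀ d ∈ commutator G, d ^ p = 1 := fun d hd => he₁ d (hc₁.1 hd)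
  have hclass : (⊤ : Subgroup G).lowerCentralSeries (p - 1) ≠ ⊥ := by
    intro hγ
    obtain ⟨c, hc, hmul⟩ := Cfsg.Agent.Lib.HallPetrescu.pow_mul_mem x y p p hγ ⊥ (by
      intro j hj2 hjp d hd
      have hd' : d ∈ commutator G := by
        rw [← Subgroup.top_lowerCentralSeries_one]
        exact Subgroup.lowerCentralSeries_antitone _ (by omega : 1 ≤ j - 1) hd
      obtain ⟨t, ht⟩ := hpp.dvd_choose_self (by omega : j ≠ 0) hjp
      rw [ht, pow_mul, hcomm_exp d hd', one_pow]
      exact Subgroup.one_mem _)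
    apply hxy
    rw [hmul, hx, hy, (Subgroup.mem_bot).1 hc]
    simp
  have hexp : Monoid.exponent G = p ^ 2 := by
    have h1 : Monoid.exponent G ∣ p ^ 2 := Monoid.exponent_dvd_of_forall_pow_eq_one (fun g => by
      rw [pow_two, pow_mul]
      exact he₁ _ (hc₁.2 g))
    obtain ⟨k, hk, hek⟩ := (Nat.dvd_prime_pow hpp).1 h1
    have hk2 : k = 2 := by
      by_contra hne
      have hk1 : k ≤ 1 := by omega
      apply hxy
      have h2 : Monoid.exponent G ∣ p := by
        rw [hek]
        exact (pow_dvd_pow p hk1).trans (by simp)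
      exact Monoid.exponent_dvd_iff_forall_pow_eq_one.1 h2 _
    rw [hek, hk2]
  -- the center
  have hzc : ∀ z ∈ Subgroup.center G, (x * y) ^ p ∈ Subgroup.zpowers z ∨ z = 1 := by
    intro z hz
    by_cases hz1 : z = 1
    · exact Or.inr hz1
    left
    have hle : Subgroup.zpowers z ≤ Subgroup.center G := (Subgroup.zpowers_le).2 hz
    have hN : (Subgroup.zpowers z).Normal := by
      constructor
      intro n hn g
      have hcomm : g * n = n * g := ((Subgroup.mem_center_iff).1 (hle hn)) g
      rw [hcomm, mul_inv_cancel_right]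
      exact hn
    have hne : Subgroup.zpowers z ≠ ⊥ := by
      intro h
      have := Subgroup.zpowers_eq_bot.1 h
      exact hz1 this
    obtain ⟨H, hH⟩ := hquo (Subgroup.zpowers z) hne
    have hxH : (x : G ⧸ Subgroup.zpowers z) ∈ H := by
      have : (x : G ⧸ Subgroup.zpowers z) ∈ (H : Set _) := by
        rw [hH]
        show (x : G ⧸ Subgroup.zpowers z) ^ p = 1
        rw [← QuotientGroup.mk_pow, hx]
        rfl
      exact this
    have hyH : (y : G ⧸ Subgroup.zpowers z) ∈ H := by
      have : (y : G ⧸ Subgroup.zpowers z) ∈ (H : Set _) := by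
        rw [hH]
        show (y : G ⧸ Subgroup.zpowers z) ^ p = 1
        rw [← QuotientGroup.mk_pow, hy]
        rfl
      exact this
    have hmul : (x : G ⧸ Subgroup.zpowers z) * (y : G ⧸ Subgroup.zpowers z) ∈ (H : Set _) :=
      H.mul_mem hxH hyH
    rw [hH] at hmul
    have hmul' : ((x : G ⧸ Subgroup.zpowers z) * (y : G ⧸ Subgroup.zpowers z)) ^ p = 1 := hmul
    rw [← QuotientGroup.mk_mul, ← QuotientGroup.mk_pow, QuotientGroup.eq_one_iff] at hmul'
    exact hmul'
  have hnontriv : Nontrivial G := by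
    refine ⟨x * y, 1, fun h => hxy (by rw [h, one_pow])⟩
  -- a central element of order `p`
  have hZnt : Nontrivial (Subgroup.center G) := hG.center_nontrivial
  have hZp : IsPGroup p (Subgroup.center G) := hG.to_subgroup _
  obtain ⟨z₀, hz₀⟩ : ∃ z : Subgroup.center G, orderOf z = p := by
    have hdvd : p ∣ Nat.card (Subgroup.center G) := by
      obtain ⟨n, hn⟩ := IsPGroup.iff_card.1 hZp
      rw [hn]
      rcases n with _ | n
      · exfalso
        have h1 : Nat.card (Subgroup.center G) ≠ 1 := Finite.one_lt_card.ne'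
        exact h1 (by rw [hn, pow_zero])
      · exact dvd_pow_self p (by omega)
    exact exists_prime_orderOf_dvd_card' p hdvd
  have hcenter_cyc : IsCyclic (Subgroup.center G) := by
    have hz₀1 : (z₀ : G) ≠ 1 := by
      intro h
      have : z₀ = 1 := Subtype.ext h
      rw [this, orderOf_one] at hz₀
      exact hpp.one_lt.ne hz₀
    have hcmem : (x * y) ^ p ∈ Subgroup.zpowers (z₀ : G) := (hzc z₀ z₀.2).resolve_right hz₀1
    have hz₀p : (z₀ : G) ^ p = 1 := by
      have := pow_orderOf_eq_one z₀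
      rw [hz₀] at this
      exact congrArg Subtype.val this
    have hcZ : (x * y) ^ p ∈ Subgroup.center G := ((Subgroup.zpowers_le).2 z₀.2) hcmem
    have hcp : ((x * y) ^ p) ^ p = 1 := by
      obtain ⟨k, hk⟩ := Subgroup.mem_zpowers_iff.1 hcmem
      rw [← hk, ← zpow_natCast, ← zpow_mul, mul_comm, zpow_mul, zpow_natCast, hz₀p, one_zpow]
    letI : CommGroup (Subgroup.center G) :=
      { (inferInstance : Group (Subgroup.center G)) with
        mul_comm := fun a b => Subtype.ext ((Subgroup.mem_center_iff.1 a.2) b.1).symm }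
    refine isCyclic_of_forall hZp ⟨(x * y) ^ p, hcZ⟩ (Subtype.ext (by simpa using hcp)) ?_
    intro z hzp
    by_cases hz1 : (z : G) = 1
    · have : z = 1 := Subtype.ext hz1
      rw [this]
      exact Subgroup.one_mem _
    have hzp' : (z : G) ^ p = 1 := congrArg Subtype.val hzp
    have hmem := (hzc z z.2).resolve_right hz1
    have hord1 : orderOf ((x * y) ^ p) = p := orderOf_eq_prime hcp hxy
    have hord2 : orderOf (z : G) = p := orderOf_eq_prime hzp' hz1
    have heq : Subgroup.zpowers ((x * y) ^ p) = Subgroup.zpowers (z : G) :=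
      Subgroup.eq_of_le_of_card_ge ((Subgroup.zpowers_le).2 hmem)
        (by rw [Nat.card_zpowers, Nat.card_zpowers, hord1, hord2])
    have hzmem : (z : G) ∈ Subgroup.zpowers ((x * y) ^ p) := by
      rw [heq]; exact Subgroup.mem_zpowers _
    obtain ⟨k, hk⟩ := Subgroup.mem_zpowers_iff.1 hzmem
    refine Subgroup.mem_zpowers_iff.2 ⟨k, Subtype.ext ?_⟩
    simpa using hk
  -- the order
  have hnil : Group.IsNilpotent G := hG.isNilpotent
  obtain ⟨n₀, hn₀⟩ := Subgroup.nilpotent_iff_lowerCentralSeries.1 hnil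
  have hstep : ∀ i, (⊤ : Subgroup G).lowerCentralSeries i ≠ ⊥ →
      Nat.card ((⊤ : Subgroup G).lowerCentralSeries (i + 1)) * p ≤
        Nat.card ((⊤ : Subgroup G).lowerCentralSeries i) := by
    intro i hi
    refine card_mul_le_of_lt hG (Subgroup.lowerCentralSeries_antitone _ (by omega)) ?_
    intro heq
    have hconst : ∀ j, (⊤ : Subgroup G).lowerCentralSeries (i + j) =
        (⊤ : Subgroup G).lowerCentralSeries i := by
      intro j
      induction j with
      | zero => rfl
      | succ j ih =>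
        rw [← add_assoc, Subgroup.lowerCentralSeries_succ, ih, ← Subgroup.lowerCentralSeries_succ,
          heq]
    apply hi
    rw [← hconst n₀, eq_bot_iff, ← hn₀]
    exact Subgroup.lowerCentralSeries_antitone _ (by omega)
  have hchain : ∀ i, i + 1 ≤ p - 1 →
      p ^ i * Nat.card ((⊤ : Subgroup G).lowerCentralSeries (i + 1)) ≤
        Nat.card ((⊤ : Subgroup G).lowerCentralSeries 1) := by
    intro i
    induction i with
    | zero => intro _; simp
    | succ i ih =>
      intro hi
      have h1 := ih (by omega)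
      have hne : (⊤ : Subgroup G).lowerCentralSeries (i + 1) ≠ ⊥ := by
        intro h
        apply hclass
        rw [eq_bot_iff, ← h]
        exact Subgroup.lowerCentralSeries_antitone _ (by omega)
      have h2 := hstep (i + 1) hne
      calc p ^ (i + 1) * Nat.card ((⊤ : Subgroup G).lowerCentralSeries (i + 1 + 1))
          = p ^ i * (Nat.card ((⊤ : Subgroup G).lowerCentralSeries (i + 1 + 1)) * p) := by ring
        _ ≤ p ^ i * Nat.card ((⊤ : Subgroup G).lowerCentralSeries (i + 1)) :=
            Nat.mul_le_mul_left _ h2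
        _ ≤ _ := h1
  have hlast : p ≤ Nat.card ((⊤ : Subgroup G).lowerCentralSeries (p - 1)) := by
    have := card_mul_le_of_lt hG (bot_le (a := (⊤ : Subgroup G).lowerCentralSeries (p - 1)))
      (Ne.symm hclass)
    simpa using this
  have htop1 : Nat.card E₁ * p ≤ Nat.card G := by
    have := card_mul_le_of_lt hG (le_top (a := E₁)) ht₁
    simpa using this
  have hinf : Nat.card (E₁ ⊓ E₂ : Subgroup G) * p ≤ Nat.card E₁ := by
    refine card_mul_le_of_lt hG inf_le_left ?_
    intro h
    have hle : E₁ ≤ E₂ := by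
      rw [← h]; exact inf_le_right
    apply ht₂
    rw [eq_top_iff, ← hgen, Subgroup.closure_le]
    rintro u (rfl | rfl)
    · exact hle hx₁
    · exact hy₂
  have hcomm_le : Nat.card (commutator G) ≤ Nat.card (E₁ ⊓ E₂ : Subgroup G) :=
    Subgroup.card_le_of_le (le_inf hc₁.1 hc₂.1)
  have hfinal : p ^ (p + 1) ≤ Nat.card G := by
    have hp2 := hpp.two_le
    obtain ⟨q, hq⟩ : ∃ q, p = q + 2 := ⟨p - 2, by omega⟩
    have h1 := hchain (p - 2) (by omega)
    have h2 : p - 2 + 1 = p - 1 := by omega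
    rw [h2, Subgroup.top_lowerCentralSeries_one] at h1
    have h3 : p ^ (p + 1) = p ^ (p - 2) * p * p * p := by
      have : p + 1 = (p - 2) + 1 + 1 + 1 := by omega
      rw [this, pow_succ, pow_succ, pow_succ]
    rw [h3]
    calc p ^ (p - 2) * p * p * p
        ≤ p ^ (p - 2) * Nat.card ((⊤ : Subgroup G).lowerCentralSeries (p - 1)) * p * p := by
          gcongr
      _ ≤ Nat.card (commutator G) * p * p := by gcongr
      _ ≤ Nat.card (E₁ ⊓ E₂ : Subgroup G) * p * p := by gcongr
      _ ≤ Nat.card E₁ * p := by gcongr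
      _ ≤ Nat.card G := htop1
  exact ⟨⟨x, y, hgen⟩, hclass, hexp, hcenter_cyc, hfinal⟩

end Cfsg.Agent.S3872
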