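import Mathlib
import Cfsg.Statements.S3873
import Cfsg.Agent.Lib.MinNonClosed
import Cfsg.Agent.Lib.NilpCover

set_option autoImplicit false
set_option linter.style.haveILetI false
open Cfsg

namespace Cfsg.Agent.S3873

open Cfsg.Agent.Lib.MinNonClosed

/-- Say that a finite group is p-exponent closed when its elements of order dividing p form a subgroup. Let G be a finite group that is not p-exponent closed, but all of whose proper subgroups and proper quotients are, and suppose G is neither simple nor a p-group. Then there is a prime q ≠ p such that G has order p · q^e, where e is the multiplicative order of q modulo p, and G has a normal elementary abelian subgroup of order q^e that is a minimal normal subgroup of G. -/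
theorem result {G : Type*} [Group G] [Finite G] {p : ℕ} [Fact p.Prime]
    (hnc : ¬ (∃ H : Subgroup G, (H : Set G) = {g : G | g ^ p = 1})) (hsub : ∀ K : Subgroup G, K ≠ ⊤ → (∃ H : Subgroup ↥K, (H : Set ↥K) = {g : ↥K | g ^ p = 1}))
    (hquo : ∀ (N : Subgroup G) [N.Normal], N ≠ ⊥ → (∃ H : Subgroup (G ⧸ N), (H : Set (G ⧸ N)) = {g : (G ⧸ N) | g ^ p = 1}))
    (hns : ¬ IsSimpleGroup G) (hnp : ¬ IsPGroup p G) :
    ∃ q : ℕ, q.Prime ∧ q ≠ p ∧ Nat.card G = p * q ^ orderOf (q : ZMod p) ∧
      ∃ A : Subgroup G, A.Normal ∧ Nat.card ↥A = q ^ orderOf (q : ZMod p) ∧ Cfsg.IsElementaryAbelian q A ∧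
        ∀ B : Subgroup G, B.Normal → B ≤ A → B = ⊥ ∨ B = A := by
  classical
  have hpp : p.Prime := Fact.out
  -- Step A: two elements of exponent p with non-exponent p product
  have hA : ∃ a b : G, a ^ p = 1 ∧ b ^ p = 1 ∧ (a * b) ^ p ≠ 1 := by
    by_contra hnot
    push Not at hnot
    apply hnc
    refine ⟨{ carrier := {g | g ^ p = 1}
              mul_mem' := fun {a b} ha hb => hnot a b ha hb
              one_mem' := one_pow p
              inv_mem' := fun {a} ha => by
                show a⁻¹ ^ p = 1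
                rw [inv_pow, ha, inv_one] }, rfl⟩
  obtain ⟨a, b, ha, hb, hab⟩ := hA
  -- Step B: they generate
  have hgen : Subgroup.closure ({a, b} : Set G) = ⊤ := by
    by_contra hne
    obtain ⟨H, hH⟩ := hsub _ hne
    have ham : a ∈ Subgroup.closure ({a, b} : Set G) := Subgroup.subset_closure (by simp)
    have hbm : b ∈ Subgroup.closure ({a, b} : Set G) := Subgroup.subset_closure (by simp)
    have h1 : (⟨a, ham⟩ : ↥(Subgroup.closure ({a, b} : Set G))) ∈ H := by
      have : (⟨a, ham⟩ : ↥(Subgroup.closure ({a, b} : Set G))) ∈ (H : Set ↥(Subgroup.closure ({a, b} : Set G))) := by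
        rw [hH]
        apply Subtype.ext
        exact ha
      exact this
    have h2 : (⟨b, hbm⟩ : ↥(Subgroup.closure ({a, b} : Set G))) ∈ H := by
      have : (⟨b, hbm⟩ : ↥(Subgroup.closure ({a, b} : Set G))) ∈ (H : Set ↥(Subgroup.closure ({a, b} : Set G))) := by
        rw [hH]
        apply Subtype.ext
        exact hb
      exact this
    have h3 := H.mul_mem h1 h2
    have h4 : (⟨a, ham⟩ * ⟨b, hbm⟩ : ↥(Subgroup.closure ({a, b} : Set G))) ∈ (H : Set ↥(Subgroup.closure ({a, b} : Set G))) := h3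
    rw [hH] at h4
    exact hab (congrArg Subtype.val h4)
  -- Step C: proper quotients have exponent `p`
  have hC : ∀ (N : Subgroup G), N.Normal → N ≠ ⊥ → ∀ g : G, g ^ p ∈ N := by
    intro N hNn hN1 g
    haveI := hNn
    obtain ⟨H, hH⟩ := hquo N hN1
    have hmem : ∀ y : G, y ^ p = 1 → (QuotientGroup.mk y : G ⧸ N) ∈ H := by
      intro y hy
      have : (QuotientGroup.mk y : G ⧸ N) ∈ (H : Set (G ⧸ N)) := by
        rw [hH]
        show (QuotientGroup.mk y : G ⧸ N) ^ p = 1
        rw [← QuotientGroup.mk_pow, hy]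
        rfl
      exact this
    have hle : Subgroup.closure ({a, b} : Set G) ≤ H.comap (QuotientGroup.mk' N) := by
      rw [Subgroup.closure_le]
      rintro y (rfl | rfl)
      · exact hmem _ ha
      · exact hmem _ hb
    rw [hgen] at hle
    have h1 : (QuotientGroup.mk g : G ⧸ N) ∈ H := hle (Subgroup.mem_top g)
    have h2 : (QuotientGroup.mk g : G ⧸ N) ∈ (H : Set (G ⧸ N)) := h1
    rw [hH] at h2
    have h3 : (QuotientGroup.mk g : G ⧸ N) ^ p = 1 := h2
    rw [← QuotientGroup.mk_pow, QuotientGroup.eq_one_iff] at h3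
    exact h3
  -- Step D: proper normal subgroups are `p'`-groups
  have hD : ∀ N : Subgroup G, N.Normal → N ≠ ⊤ → ¬ p ∣ Nat.card N := by
    intro N hNn hNt hd
    haveI := hNn
    obtain ⟨E, hE⟩ := hsub N hNt
    have hEmem : ∀ y : ↥N, y ∈ E ↔ (y : G) ^ p = 1 := by
      intro y
      have : y ∈ (E : Set ↥N) ↔ y ∈ {g : ↥N | g ^ p = 1} := by rw [hE]
      refine this.trans ?_
      show y ^ p = 1 ↔ _
      constructor
      · intro h; exact congrArg Subtype.val h
      · intro h; exact Subtype.ext h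
    let M : Subgroup G := E.map N.subtype
    have hMmem : ∀ y : G, y ∈ M ↔ y ∈ N ∧ y ^ p = 1 := by
      intro y
      constructor
      · rintro ⟨u, hu, rfl⟩
        exact ⟨u.2, (hEmem u).1 hu⟩
      · rintro ⟨h1, h2⟩
        exact ⟨⟨y, h1⟩, (hEmem _).2 h2, rfl⟩
    have hMn : M.Normal := by
      constructor
      intro y hy g
      rw [hMmem] at hy ⊢
      refine ⟨hNn.conj_mem _ hy.1 g, ?_⟩
      rw [conj_pow, hy.2]
      group
    by_cases hM : M = ⊥
    · obtain ⟨y, hy⟩ := exists_prime_orderOf_dvd_card' (G := ↥N) p hd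
      have h1 : (y : G) ∈ M := by
        rw [hMmem]
        refine ⟨y.2, ?_⟩
        have := pow_orderOf_eq_one y
        rw [hy] at this
        exact congrArg Subtype.val this
      rw [hM, Subgroup.mem_bot] at h1
      have h2 : y = 1 := Subtype.ext h1
      rw [h2, orderOf_one] at hy
      exact hpp.one_lt.ne hy
    · apply hnp
      intro g
      refine ⟨2, ?_⟩
      have h1 := (hMmem _).1 (hC M hMn hM g)
      rw [pow_two, pow_mul]
      exact h1.2
  -- Step E: proper normal subgroups have index `p`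
  have hE : ∀ N : Subgroup G, N.Normal → N ≠ ⊥ → N ≠ ⊤ → N.index = p := by
    intro N hNn hN1 hNt
    haveI := hNn
    have hQp : IsPGroup p (G ⧸ N) := by
      intro g
      obtain ⟨g, rfl⟩ := QuotientGroup.mk_surjective g
      refine ⟨1, ?_⟩
      rw [pow_one, ← QuotientGroup.mk_pow, QuotientGroup.eq_one_iff]
      exact hC N hNn hN1 g
    haveI hQnt : Nontrivial (G ⧸ N) := by
      by_contra hnt
      rw [not_nontrivial_iff_subsingleton] at hnt
      apply hNt
      rw [← Subgroup.index_eq_one]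
      exact Nat.card_unique
    have hcen : Nontrivial ↥(Subgroup.center (G ⧸ N)) := hQp.center_nontrivial
    obtain ⟨⟨c, hc⟩, hc1⟩ := exists_ne (1 : ↥(Subgroup.center (G ⧸ N)))
    have hc1' : c ≠ 1 := fun h => hc1 (Subtype.ext h)
    obtain ⟨z, rfl⟩ := QuotientGroup.mk_surjective c
    have hzN : z ∉ N := by
      intro h
      exact hc1' ((QuotientGroup.eq_one_iff z).2 h)
    have hzp : ((z : G ⧸ N)) ^ p = 1 := by
      rw [← QuotientGroup.mk_pow, QuotientGroup.eq_one_iff]
      exact hC N hNn hN1 z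
    have hzord : orderOf (z : G ⧸ N) = p := by
      rcases (Nat.dvd_prime hpp).1 (orderOf_dvd_of_pow_eq_one hzp) with h | h
      · exact absurd (orderOf_eq_one_iff.1 h) hc1'
      · exact h
    have hZn : (Subgroup.zpowers (z : G ⧸ N)).Normal := by
      constructor
      rintro _ ⟨k, rfl⟩ g
      have h1 : Commute g (z : G ⧸ N) := (Subgroup.mem_center_iff.1 hc g)
      have h2 : Commute g ((z : G ⧸ N) ^ k) := h1.zpow_right k
      show g * (z : G ⧸ N) ^ k * g⁻¹ ∈ _
      rw [h2.eq, mul_inv_cancel_right]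
      exact Subgroup.zpow_mem_zpowers _ k
    have hLn : (Subgroup.zpowers z ⊔ N).Normal := by
      have h1 := hZn.comap (QuotientGroup.mk' N)
      have h2 : Subgroup.zpowers (z : G ⧸ N) = (Subgroup.zpowers z).map (QuotientGroup.mk' N) := by
        rw [MonoidHom.map_zpowers]
        rfl
      rw [h2, Subgroup.comap_map_eq, QuotientGroup.ker_mk'] at h1
      exact h1
    -- it suffices to see `N ⊔ ⟨z⟩ = G`; replace `z` by a suitable power killed by `p`
    by_cases hLt : Subgroup.zpowers z ⊔ N = ⊤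
    · -- index is the order of `z` mod `N`
      have h1 : Subgroup.zpowers (QuotientGroup.mk' N z) = ⊤ := by
        have h2 := congrArg (Subgroup.map (QuotientGroup.mk' N)) hLt
        rw [Subgroup.map_sup, QuotientGroup.map_mk'_self, sup_bot_eq, MonoidHom.map_zpowers] at h2
        rw [h2, ← MonoidHom.range_eq_map]
        exact MonoidHom.range_eq_top.2 (QuotientGroup.mk'_surjective N)
      have h2 : N.index = orderOf (QuotientGroup.mk' N z) := by
        rw [← Nat.card_zpowers, h1, Subgroup.card_top]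
        rfl
      rw [h2]
      exact hzord
    · exfalso
      apply hD _ hLn hLt
      have hzL : z ∈ Subgroup.zpowers z ⊔ N := (le_sup_left : Subgroup.zpowers z ≤ _) (Subgroup.mem_zpowers z)
      have h1 : (z : G ⧸ N) ^ Nat.card ↥(Subgroup.zpowers z ⊔ N) = 1 := by
        rw [← QuotientGroup.mk_pow]
        have h2 : (⟨z, hzL⟩ : ↥(Subgroup.zpowers z ⊔ N)) ^ Nat.card ↥(Subgroup.zpowers z ⊔ N) = 1 := pow_card_eq_one'
        have h3 := congrArg Subtype.val h2
        simp only [Subgroup.coe_pow, Subgroup.coe_one] at h3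
        rw [h3]
        rfl
      have h2 := orderOf_dvd_of_pow_eq_one h1
      rwa [hzord] at h2
  -- get a proper normal subgroup
  haveI hGnt : Nontrivial G := by
    by_contra hnt
    rw [not_nontrivial_iff_subsingleton] at hnt
    exact hnp (IsPGroup.of_card (n := 0) (by simp))
  have hex : ∃ N : Subgroup G, N.Normal ∧ N ≠ ⊥ ∧ N ≠ ⊤ := by
    by_contra hnot
    push Not at hnot
    apply hns
    refine ⟨?_⟩
    intro H hH
    by_cases h1 : H = ⊥
    · exact Or.inl h1
    · exact Or.inr (hnot H hH h1)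
  obtain ⟨N, hNn, hN1, hNt⟩ := hex
  haveI := hNn
  have hNi := hE N hNn hN1 hNt
  have hNp := hD N hNn hNt
  -- an element of order `p`
  have hpG : p ∣ Nat.card G := by
    have h1 := N.index_mul_card
    rw [hNi] at h1
    exact Dvd.intro _ h1
  obtain ⟨x, hx⟩ := exists_prime_orderOf_dvd_card' (G := G) p hpG
  have hxp : x ^ p = 1 := by
    rw [← hx]; exact pow_orderOf_eq_one x
  have hxN : x ∉ N := by
    intro hxN
    apply hNp
    rw [← hx]
    exact Subgroup.orderOf_dvd_natCard N hxN
  apply structure_of_common N hNi hNp hN1 ?_ x hxN hxp ?_ ?_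
  · intro M hMn hM1 hMt
    haveI := hMn
    apply le_antisymm
    · exact le_of_index_of_not_dvd hNi (hD M hMn hMt)
    · exact le_of_index_of_not_dvd (hE M hMn hM1 hMt) hNp
  · intro K hK hxK y hy
    obtain ⟨E, hE'⟩ := hsub K hK
    have hEmem : ∀ u : ↥K, u ∈ E ↔ (u : G) ^ p = 1 := by
      intro u
      have : u ∈ (E : Set ↥K) ↔ u ∈ {g : ↥K | g ^ p = 1} := by rw [hE']
      refine this.trans ?_
      show u ^ p = 1 ↔ _
      constructor
      · intro h; exact congrArg Subtype.val h
      · intro h; exact Subtype.ext h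
    have h1 : (⟨x, hxK⟩ : ↥K) ∈ E := (hEmem _).2 hxp
    have h2 : (⟨y, hy⟩ : ↥K) * (⟨x, hxK⟩ : ↥K)⁻¹ * (⟨y, hy⟩ : ↥K)⁻¹ ∈ E := by
      rw [hEmem]
      show (y * x⁻¹ * y⁻¹) ^ p = 1
      rw [conj_pow, inv_pow, hxp]
      group
    have h3 := (hEmem _).1 (E.mul_mem h1 h2)
    refine ⟨1, ?_⟩
    rw [pow_one]
    exact h3
  · intro hcx
    apply hnc
    refine ⟨Subgroup.zpowers x, ?_⟩
    ext g
    constructor
    · rintro ⟨m, rfl⟩
      show (x ^ m) ^ p = 1
      rw [← zpow_natCast, ← zpow_mul, mul_comm, zpow_mul, zpow_natCast, hxp, one_zpow]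
    · intro hg
      have hg' : g ^ p ^ 1 = 1 := by rw [pow_one]; exact hg
      exact mem_zpowers_of_centralize hNi hNp hxN hxp hcx hg'

end Cfsg.Agent.S3873
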