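import Mathlib
import Cfsg.Statements.S3875
import Cfsg.Agent.S0999
import Cfsg.Agent.Lib.Glauberman2
import Cfsg.Agent.Lib.ClassicalSmall
import Cfsg.Agent.Lib.PSp43Sol
import Cfsg.Agent.Lib.PCore

set_option autoImplicit false
open Cfsg

namespace Cfsg.Agent.S3875

variable {p : ℕ} [Fact p.Prime]

lemma normal_of_normalizer_top {H : Type*} [Group H] {T : Subgroup H}
    (h : Subgroup.normalizer (T : Set H) = ⊤) : T.Normal := by
  refine ⟨fun x hx g => ?_⟩
  have hg : g ∈ Subgroup.normalizer (T : Set H) := by rw [h]; trivial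
  exact (Subgroup.mem_normalizer_iff.mp hg x).mp hx

/-- A normal `p`-closed subgroup containing a Sylow subgroup forces it to be normal. -/
lemma sylow_normal_of_le {H : Type*} [Group H] [Finite H] (P : Sylow p H) (L : Subgroup H)
    (hL : L.Normal) (hPL : (P : Subgroup H) ≤ L) (hc : IsPClosed p L) :
    (P : Subgroup H).Normal := by
  classical
  let Q : Sylow p L := P.subtype hPL
  have hQ : (Q : Subgroup L).Normal := hc Q
  have hF := Sylow.normalizer_sup_eq_top (G := H) (N := L) Q
  have hmap : (Q : Subgroup L).map L.subtype = P := by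
    show ((P : Subgroup H).subgroupOf L).map L.subtype = P
    rw [Subgroup.map_subgroupOf_eq_of_le hPL]
  have hLN : L ≤ Subgroup.normalizer ((P : Subgroup H) : Set H) := by
    intro ℓ hℓ
    rw [Subgroup.mem_normalizer_iff]
    intro x
    constructor
    · intro hx
      have hxL := hPL hx
      have h1 : (⟨x, hxL⟩ : L) ∈ (Q : Subgroup L) := hx
      have h2 := hQ.conj_mem _ h1 ⟨ℓ, hℓ⟩
      exact h2
    · intro hx
      have hxL : x ∈ L := by
        have h0 := hPL hx
        have := hL.conj_mem _ h0 ℓ⁻¹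
        simpa [mul_assoc] using this
      have h1 : (⟨ℓ * x * ℓ⁻¹, hPL hx⟩ : L) ∈ (Q : Subgroup L) := hx
      have h2 := hQ.conj_mem _ h1 ⟨ℓ⁻¹, L.inv_mem hℓ⟩
      have h3 : (⟨ℓ⁻¹, L.inv_mem hℓ⟩ * ⟨ℓ * x * ℓ⁻¹, hPL hx⟩ * (⟨ℓ⁻¹, L.inv_mem hℓ⟩ : L)⁻¹ : L) ∈ (Q : Subgroup L) := h2
      have h4 : ((⟨ℓ⁻¹, L.inv_mem hℓ⟩ * ⟨ℓ * x * ℓ⁻¹, hPL hx⟩ * (⟨ℓ⁻¹, L.inv_mem hℓ⟩ : L)⁻¹ : L) : H) ∈ (P : Subgroup H) := h3
      simpa [mul_assoc] using h4
  apply normal_of_normalizer_top
  have h5 : Subgroup.normalizer ((Q : Subgroup L).map L.subtype : Set H) ⊔ L = ⊤ := hF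
  rw [hmap, sup_eq_left.mpr hLN] at h5
  exact h5

/-- Sylow `p`-subgroups of a proper quotient. -/
lemma sup_normal_of_quot {H : Type*} [Group H] [Finite H] (P : Sylow p H) (N : Subgroup H) [N.Normal]
    (hc : IsPClosed p (H ⧸ N)) : ((P : Subgroup H) ⊔ N).Normal := by
  have hs : Function.Surjective (QuotientGroup.mk' N) := QuotientGroup.mk'_surjective N
  have h1 : ((P.mapSurjective hs : Sylow p (H ⧸ N)) : Subgroup (H ⧸ N)).Normal := hc _
  have h2 : ((P : Subgroup H).map (QuotientGroup.mk' N)).Normal := h1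
  have h3 := h2.comap (QuotientGroup.mk' N)
  rw [Subgroup.comap_map_eq, QuotientGroup.ker_mk'] at h3
  exact h3

lemma eq_one_of_pows {G : Type*} [Group G] {q : ℕ} (hq : q.Prime) (hpq : q ≠ p) {x : G} {i j : ℕ}
    (h1 : x ^ p ^ i = 1) (h2 : x ^ q ^ j = 1) : x = 1 := by
  have h3 := orderOf_dvd_of_pow_eq_one h1
  have h4 := orderOf_dvd_of_pow_eq_one h2
  have h5 : Nat.Coprime (p ^ i) (q ^ j) :=
    Nat.Coprime.pow _ _ ((Nat.coprime_primes Fact.out hq).mpr hpq.symm)
  exact orderOf_eq_one_iff.mp (Nat.eq_one_of_dvd_coprimes h5 h3 h4)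

section Reduction
variable {H : Type*} [Group H] [Finite H]

lemma sup_eq_top' (P : Sylow p H) (hP : ¬ (P : Subgroup H).Normal)
    (hsub : ∀ L : Subgroup H, L ≠ ⊤ → IsPClosed p L)
    (hquo : ∀ (N : Subgroup H) [N.Normal], N ≠ ⊥ → IsPClosed p (H ⧸ N))
    (N : Subgroup H) [N.Normal] (hN : N ≠ ⊥) : (P : Subgroup H) ⊔ N = ⊤ := by
  by_contra hne
  exact hP (sylow_normal_of_le P _ (sup_normal_of_quot P N (hquo N hN)) le_sup_left (hsub _ hne))

lemma not_pgroup (P : Sylow p H) (hP : ¬ (P : Subgroup H).Normal)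
    (hsub : ∀ L : Subgroup H, L ≠ ⊤ → IsPClosed p L)
    (hquo : ∀ (N : Subgroup H) [N.Normal], N ≠ ⊥ → IsPClosed p (H ⧸ N))
    (N : Subgroup H) [N.Normal] (hN : N ≠ ⊥) : ¬ IsPGroup p N := by
  intro hpN
  have h1 := sup_eq_top' P hP hsub hquo N hN
  have h2 : IsPGroup p (((P : Subgroup H) ⊔ N : Subgroup H)) :=
    P.isPGroup'.to_sup_of_normal_right hpN
  have h3 := P.is_maximal' h2 le_sup_left
  apply hP
  have h4 : (P : Subgroup H) = ⊤ := by rw [← h3, h1]
  rw [h4]
  infer_instance

/-- A proper normal subgroup of a minimal counterexample has order prime to `p`. -/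
lemma not_dvd_card (P : Sylow p H) (hP : ¬ (P : Subgroup H).Normal)
    (hsub : ∀ L : Subgroup H, L ≠ ⊤ → IsPClosed p L)
    (hquo : ∀ (N : Subgroup H) [N.Normal], N ≠ ⊥ → IsPClosed p (H ⧸ N))
    (N : Subgroup H) [N.Normal] (hNt : N ≠ ⊤) : ¬ p ∣ Nat.card N := by
  intro hd
  obtain ⟨Q⟩ : Nonempty (Sylow p N) := inferInstance
  have hQ : (Q : Subgroup N).Normal := hsub N hNt Q
  set T : Subgroup H := (Q : Subgroup N).map N.subtype with hT
  have hF : Subgroup.normalizer (T : Set H) ⊔ N = ⊤ := Sylow.normalizer_sup_eq_top (G := H) (N := N) Q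
  have hNle : N ≤ Subgroup.normalizer (T : Set H) := by
    intro n hn
    rw [Subgroup.mem_normalizer_iff]
    intro x
    constructor
    · rintro hx
      obtain ⟨y, hy, rfl⟩ := hx
      exact ⟨_, hQ.conj_mem y hy ⟨n, hn⟩, rfl⟩
    · rintro hx
      obtain ⟨y, hy, hyx⟩ := hx
      have hy' := hQ.conj_mem y hy ⟨n, hn⟩⁻¹
      refine ⟨_, hy', ?_⟩
      have hyx' : (y : H) = n * x * n⁻¹ := hyx
      simp [hyx', mul_assoc]
  rw [sup_eq_left.mpr hNle] at hF
  have hTn : T.Normal := normal_of_normalizer_top hF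
  have hTb : T ≠ ⊥ := by
    intro hb
    have hQb : (Q : Subgroup N) = ⊥ := by
      rw [hT, Subgroup.map_eq_bot_iff_of_injective _ N.subtype_injective] at hb
      exact hb
    have h1 := Q.not_dvd_index
    rw [hQb, Subgroup.index_bot] at h1
    exact h1 hd
  have hpT : IsPGroup p T := Q.isPGroup'.map N.subtype
  exact not_pgroup P hP hsub hquo T hTb hpT

end Reduction

section Abelian
variable {H : Type*} [Group H] [Finite H]

lemma isPGroup_zpowers {G : Type*} [Group G] (x : G) {k : ℕ} (h : x ^ p ^ k = 1) :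
    IsPGroup p (Subgroup.zpowers x) := by
  rintro ⟨g, n, rfl⟩
  refine ⟨k, ?_⟩
  ext
  show (x ^ n) ^ (p ^ k) = 1
  rw [← zpow_natCast, ← zpow_mul, mul_comm, zpow_mul, zpow_natCast, h, one_zpow]

lemma abelian_case (P : Sylow p H) (hP : ¬ (P : Subgroup H).Normal)
    (hsub : ∀ L : Subgroup H, L ≠ ⊤ → IsPClosed p L)
    (hquo : ∀ (N : Subgroup H) [N.Normal], N ≠ ⊥ → IsPClosed p (H ⧸ N))
    (m : ℕ) (hleast : ∀ k : ℕ, IsPrimePow k → k % p = 1 → m ≤ k)
    (N : Subgroup H) [hNn : N.Normal] (hN : N ≠ ⊥)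
    (hmin : ∀ K : Subgroup H, K.Normal → K ≠ ⊥ → K ≤ N → K = N)
    (hab : ∀ a b : N, a * b = b * a) : p * m ≤ Nat.card H := by
  classical
  have hpp : p.Prime := Fact.out
  have hN1 : Nat.card N ≠ 1 := by
    intro h
    exact hN (Subgroup.card_eq_one.mp h)
  obtain ⟨q, hq, hqd⟩ := Nat.exists_prime_and_dvd hN1
  haveI : Fact q.Prime := ⟨hq⟩
  obtain ⟨Q⟩ : Nonempty (Sylow q N) := inferInstance
  have hQn : (Q : Subgroup N).Normal := by
    refine ⟨fun y hy g => ?_⟩
    have : g * y * g⁻¹ = y := by rw [hab g y]; group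
    rwa [this]
  haveI hQc : (Q : Subgroup N).Characteristic := Sylow.characteristic_of_normal Q hQn
  set T : Subgroup H := (Q : Subgroup N).map N.subtype with hT
  have hTn : T.Normal := by
    show ((Q : Subgroup N).map N.subtype).Normal
    infer_instance
  have hTb : T ≠ ⊥ := by
    intro hb
    have hQb : (Q : Subgroup N) = ⊥ := by
      rw [hT, Subgroup.map_eq_bot_iff_of_injective _ N.subtype_injective] at hb
      exact hb
    have h1 := Q.not_dvd_index
    rw [hQb, Subgroup.index_bot] at h1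
    exact h1 hqd
  have hTN : T = N := hmin T hTn hTb (Subgroup.map_subtype_le _)
  have hqN : IsPGroup q N := by
    intro y
    have hy : (y : H) ∈ T := by rw [hTN]; exact y.2
    obtain ⟨z, hz, hzy⟩ := hy
    obtain ⟨k, hk⟩ := Q.isPGroup' ⟨z, hz⟩
    refine ⟨k, ?_⟩
    have h1 : z ^ q ^ k = 1 := congrArg Subtype.val hk
    have h2 : z = y := Subtype.ext hzy
    rw [← h2, h1]
  have hqp : q ≠ p := by
    rintro rfl
    exact not_pgroup P hP hsub hquo N hN hqN
  -- `P` does not centralize `N`.
  have hnc : ∃ x ∈ (P : Subgroup H), ∃ y ∈ N, x * y ≠ y * x := by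
    by_contra hcon
    push Not at hcon
    apply hP
    apply normal_of_normalizer_top
    have hPle : (P : Subgroup H) ≤ Subgroup.normalizer ((P : Subgroup H) : Set H) :=
      Subgroup.le_normalizer
    have hNle : N ≤ Subgroup.normalizer ((P : Subgroup H) : Set H) := by
      intro y hy
      rw [Subgroup.mem_normalizer_iff]
      intro x
      constructor
      · intro hx
        have : y * x * y⁻¹ = x := by rw [← hcon x hx y hy]; group
        rwa [this]
      · intro hx
        have hy' := (P : Subgroup H).mul_mem (P : Subgroup H).one_mem hx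
        have h1 : x = y⁻¹ * (y * x * y⁻¹) * y := by group
        rw [h1]
        have := hcon _ hx y⁻¹ (N.inv_mem hy)
        rw [← this]
        simpa using hx
    have h := sup_le hPle hNle
    rw [sup_eq_top' P hP hsub hquo N hN] at h
    exact top_le_iff.mp h
  obtain ⟨x, hxP, y, hyN, hxy⟩ := hnc
  have hxp : ∃ k, x ^ p ^ k = 1 := by
    obtain ⟨k, hk⟩ := P.isPGroup' ⟨x, hxP⟩
    exact ⟨k, congrArg Subtype.val hk⟩
  -- `⟨x⟩N = H`.
  set M : Subgroup H := Subgroup.zpowers x ⊔ N with hM
  have hMtop : M = ⊤ := by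
    by_contra hne
    have hcl := hsub M hne
    have hxM : x ∈ M := (le_sup_left : Subgroup.zpowers x ≤ M) (Subgroup.mem_zpowers x)
    have hyM : y ∈ M := (le_sup_right : N ≤ M) hyN
    have hpg : IsPGroup p (Subgroup.zpowers (⟨x, hxM⟩ : M)) := by
      obtain ⟨k, hk⟩ := hxp
      apply isPGroup_zpowers (k := k)
      exact Subtype.ext hk
    obtain ⟨R, hR⟩ := hpg.exists_le_sylow
    have hRn : (R : Subgroup M).Normal := hcl R
    have hxR : (⟨x, hxM⟩ : M) ∈ (R : Subgroup M) := hR (Subgroup.mem_zpowers _)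
    have hcR : (⟨x, hxM⟩ : M) * (⟨y, hyM⟩ * (⟨x, hxM⟩ : M)⁻¹ * (⟨y, hyM⟩ : M)⁻¹) ∈ (R : Subgroup M) :=
      (R : Subgroup M).mul_mem hxR (hRn.conj_mem _ ((R : Subgroup M).inv_mem hxR) _)
    set c : H := x * (y * x⁻¹ * y⁻¹) with hc
    have hcN : c ∈ N := by
      have h1 : c = (x * y * x⁻¹) * y⁻¹ := by rw [hc]; group
      rw [h1]
      exact N.mul_mem (hNn.conj_mem y hyN x) (N.inv_mem hyN)
    have hc1 : c = 1 := by
      obtain ⟨k1, hk1⟩ := (R.isPGroup' ⟨_, hcR⟩)
      obtain ⟨k2, hk2⟩ := hqN ⟨c, hcN⟩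
      have e1 : c ^ p ^ k1 = 1 := by
        have := congrArg (fun z => ((z : M) : H)) (congrArg Subtype.val hk1)
        simpa using this
      have e2 : c ^ q ^ k2 = 1 := congrArg Subtype.val hk2
      exact eq_one_of_pows hq hqp e1 e2
    apply hxy
    have h2 : x * y * x⁻¹ * y⁻¹ = 1 := by
      rw [← hc1, hc]; group
    calc x * y = (x * y * x⁻¹ * y⁻¹) * (y * x) := by group
      _ = y * x := by rw [h2, one_mul]
  -- the fixed points of `x` on `N`, a central subgroup
  set C : Subgroup H := N ⊓ Subgroup.centralizer {x} with hC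
  have hCcent : ∀ g : H, ∀ c ∈ C, g * c * g⁻¹ = c := by
    have hle : M ≤ Subgroup.centralizer (C : Set H) := by
      refine sup_le ?_ ?_
      · rw [Subgroup.zpowers_le, Subgroup.mem_centralizer_iff]
        intro c hc
        have h3 : c ∈ Subgroup.centralizer {x} := hc.2
        rw [Subgroup.mem_centralizer_singleton_iff] at h3
        exact h3
      · intro n hn
        rw [Subgroup.mem_centralizer_iff]
        intro c hc
        have := hab ⟨c, hc.1⟩ ⟨n, hn⟩
        exact congrArg Subtype.val this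
    intro g c hc
    have hg : g ∈ Subgroup.centralizer (C : Set H) := hle (by rw [hMtop]; trivial)
    rw [Subgroup.mem_centralizer_iff] at hg
    rw [← hg c hc]
    group
  have hCn : C.Normal := ⟨fun c hc g => by rwa [hCcent g c hc]⟩
  have hCb : C = ⊥ := by
    by_contra hne
    have h1 := hmin C hCn hne inf_le_left
    have h2 : y ∈ C := by rw [h1]; exact hyN
    have h3 : y ∈ Subgroup.centralizer {x} := h2.2
    rw [Subgroup.mem_centralizer_singleton_iff] at h3
    exact hxy h3.symm
  obtain ⟨k, hk⟩ := hxp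
  have hA : IsPGroup p (Subgroup.zpowers x) := isPGroup_zpowers x hk
  letI act : MulAction (Subgroup.zpowers x) N :=
    MulAction.compHom N ((MulAut.conjNormal (H := N)).comp (Subgroup.zpowers x).subtype)
  have hmod := hA.card_modEq_card_fixedPoints N
  have hfix : Nat.card (MulAction.fixedPoints (Subgroup.zpowers x) N) = 1 := by
    rw [Nat.card_eq_one_iff_unique]
    refine ⟨⟨?_⟩, ⟨⟨1, ?_⟩⟩⟩
    · rintro ⟨a, ha⟩ ⟨b, hb⟩
      have key : ∀ z : N, z ∈ MulAction.fixedPoints (Subgroup.zpowers x) N → z = 1 := by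
        intro z hz
        have h1 := hz ⟨x, Subgroup.mem_zpowers x⟩
        have h2 : x * (z : H) * x⁻¹ = z := congrArg Subtype.val h1
        have h3 : (z : H) ∈ C := by
          refine ⟨z.2, ?_⟩
          show (z : H) ∈ Subgroup.centralizer {x}
          rw [Subgroup.mem_centralizer_singleton_iff]
          calc (z : H) * x = (x * z * x⁻¹) * x := by rw [h2]
            _ = x * z := by group
        rw [hCb, Subgroup.mem_bot] at h3
        exact Subtype.ext h3
      apply Subtype.ext
      show a = b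
      rw [key a ha, key b hb]
    · intro a
      exact map_one ((MulAut.conjNormal (H := N)).comp (Subgroup.zpowers x).subtype a)
  rw [hfix] at hmod
  have hN1p : Nat.card N % p = 1 := by
    have h1 : Nat.card N % p = 1 % p := hmod
    rwa [Nat.mod_eq_of_lt hpp.one_lt] at h1
  obtain ⟨n, hn⟩ := IsPGroup.iff_card.mp hqN
  have hn0 : n ≠ 0 := by
    rintro rfl
    simp at hn
    exact hN hn
  have hmN : m ≤ Nat.card N := by
    apply hleast _ _ hN1p
    rw [hn]
    exact hq.isPrimePow.pow hn0
  have hx1 : x ≠ 1 := by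
    rintro rfl
    simp at hxy
  have hpx : p ∣ orderOf x := by
    obtain ⟨j, hj, hjo⟩ := (Nat.dvd_prime_pow hpp).mp (orderOf_dvd_of_pow_eq_one hk)
    rw [hjo]
    apply dvd_pow_self
    rintro rfl
    rw [pow_zero, orderOf_eq_one_iff] at hjo
    exact hx1 hjo
  have hpH : p ∣ Nat.card H := hpx.trans (orderOf_dvd_natCard x)
  have hcop : Nat.Coprime p (Nat.card N) := by
    rw [hn]
    exact Nat.Coprime.pow_right _ ((Nat.coprime_primes hpp hq).mpr hqp.symm)
  have hdvd : p * Nat.card N ∣ Nat.card H :=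
    Nat.Coprime.mul_dvd_of_dvd_of_dvd hcop hpH (Subgroup.card_subgroup_dvd_card N)
  calc p * m ≤ p * Nat.card N := Nat.mul_le_mul_left _ hmN
    _ ≤ Nat.card H := Nat.le_of_dvd Nat.card_pos hdvd

end Abelian

section Coprime
variable {H : Type*} [Group H] [Finite H]

/-- A non-abelian minimal normal subgroup of order prime to `p` is impossible. -/
lemma coprime_case (P : Sylow p H) (hP : ¬ (P : Subgroup H).Normal)
    (hsub : ∀ L : Subgroup H, L ≠ ⊤ → IsPClosed p L)
    (hquo : ∀ (N : Subgroup H) [N.Normal], N ≠ ⊥ → IsPClosed p (H ⧸ N))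
    (N : Subgroup H) [hNn : N.Normal] (hN : N ≠ ⊥)
    (hmin : ∀ K : Subgroup H, K.Normal → K ≠ ⊥ → K ≤ N → K = N)
    (hab : ¬ ∀ a b : N, a * b = b * a) (hnd : ¬ p ∣ Nat.card N) : False := by
  classical
  have hpp : p.Prime := Fact.out
  have hPcard : ∃ n, Nat.card (P : Subgroup H) = p ^ n := IsPGroup.iff_card.mp P.isPGroup'
  obtain ⟨e, he⟩ := hPcard
  have hcop : (Nat.card (P : Subgroup H)).Coprime (Nat.card N) := by
    rw [he]
    exact Nat.Coprime.pow_left _ ((Nat.Prime.coprime_iff_not_dvd hpp).mpr hnd)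
  have hPN : (P : Subgroup H) ≤ Subgroup.normalizer ((N : Subgroup H) : Set H) := by
    rw [Subgroup.normalizer_eq_top_iff.mpr hNn]
    exact le_top
  haveI : Group.IsNilpotent (P : Subgroup H) := P.isPGroup'.isNilpotent
  have hPsolv : Group.IsSolvable (P : Subgroup H) := inferInstance
  -- for each prime, a `P`-invariant Sylow subgroup of `N` centralized by `P`
  have hcent : ∀ (r : ℕ) [Fact r.Prime], ∃ R : Sylow r N,
      (R : Subgroup N) ≤ (Subgroup.centralizer ((P : Subgroup H) : Set H)).subgroupOf N := by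
    intro r _
    obtain ⟨R, hR⟩ := Cfsg.Agent.Lib.Glauberman2.exists_invariant_sylow hPN hcop (Or.inl hPsolv) r
    refine ⟨R, ?_⟩
    set R' : Subgroup H := (R : Subgroup N).map N.subtype with hR'
    have hR'N : R' ≤ N := Subgroup.map_subtype_le _
    have hR'p : IsPGroup r R' := R.isPGroup'.map N.subtype
    have hgoal : R' ≤ Subgroup.centralizer ((P : Subgroup H) : Set H) := by
      by_cases hb : R' = ⊥
      · rw [hb]; exact bot_le
      by_cases hL : R' ⊔ (P : Subgroup H) = ⊤
      · -- `R'` is normal, so it is `N`, and `N` is an `r`-group, abelian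
        exfalso
        have hnorm : R' ≤ Subgroup.normalizer (R' : Set H) := Subgroup.le_normalizer
        have htop := sup_le hnorm hR
        rw [hL] at htop
        have hR'n : R'.Normal := normal_of_normalizer_top (top_le_iff.mp htop)
        have hR'eq : R' = N := hmin R' hR'n hb hR'N
        have hrN : IsPGroup r N := by
          intro y
          have hy : (y : H) ∈ R' := by rw [hR'eq]; exact y.2
          obtain ⟨k, hk⟩ := hR'p ⟨_, hy⟩
          have h1 : (y : H) ^ r ^ k = 1 := congrArg Subtype.val hk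
          exact ⟨k, Subtype.ext (by simpa using h1)⟩
        haveI : Nontrivial N := by
          rw [Subgroup.nontrivial_iff_ne_bot]
          exact hN
        haveI : Nontrivial (Subgroup.center N) := hrN.center_nontrivial
        -- the center of `N` is normal in `H`
        set Z : Subgroup H := (Subgroup.center N).map N.subtype with hZ
        have hZn : Z.Normal := by
          show ((Subgroup.center N).map N.subtype).Normal
          infer_instance
        have hZb : Z ≠ ⊥ := by
          intro h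
          rw [hZ, Subgroup.map_eq_bot_iff_of_injective _ N.subtype_injective] at h
          exact (Subgroup.nontrivial_iff_ne_bot _).mp ‹Nontrivial (Subgroup.center N)› h
        have hZeq := hmin Z hZn hZb (Subgroup.map_subtype_le _)
        apply hab
        intro a b
        have ha : (a : H) ∈ Z := by rw [hZeq]; exact a.2
        obtain ⟨z, hz, hza⟩ := ha
        have hza' : z = a := Subtype.ext hza
        rw [← hza']
        exact ((Subgroup.mem_center_iff.mp hz) b).symm
      · have hcl := hsub _ hL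
        have hPL : (P : Subgroup H) ≤ R' ⊔ (P : Subgroup H) := le_sup_right
        have hRL : R' ≤ R' ⊔ (P : Subgroup H) := le_sup_left
        have hQn := hcl (P.subtype hPL)
        intro a ha
        rw [Subgroup.mem_centralizer_iff]
        intro b hb'
        have hb'' : b ∈ (P : Subgroup H) := hb'
        have h1 : (⟨b, hPL hb''⟩ : ↥(R' ⊔ (P : Subgroup H))) ∈ ((P.subtype hPL : Sylow p _) : Subgroup _) := hb''
        have h2 := hQn.conj_mem _ h1 ⟨a, hRL ha⟩
        have h3 : a * b * a⁻¹ ∈ (P : Subgroup H) := h2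
        have h4 : b * a⁻¹ * b⁻¹ ∈ R' := (Subgroup.mem_normalizer_iff.mp (hR hb'') a⁻¹).mp (R'.inv_mem ha)
        set c := a * b * a⁻¹ * b⁻¹ with hcdef
        have hcP : c ∈ (P : Subgroup H) := (P : Subgroup H).mul_mem h3 ((P : Subgroup H).inv_mem hb'')
        have hcR : c ∈ R' := by
          have : c = a * (b * a⁻¹ * b⁻¹) := by rw [hcdef]; group
          rw [this]
          exact R'.mul_mem ha h4
        have hcN := hR'N hcR
        obtain ⟨k, hk⟩ := P.isPGroup' ⟨c, hcP⟩
        have e1 : c ^ p ^ k = 1 := congrArg Subtype.val hk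
        have hc1 : c = 1 := by
          have h5 := orderOf_dvd_of_pow_eq_one e1
          have h6 : orderOf c ∣ Nat.card N := by
            have := orderOf_dvd_natCard (⟨c, hcN⟩ : N)
            rwa [Subgroup.orderOf_mk] at this
          have hco : Nat.Coprime (p ^ k) (Nat.card N) :=
            Nat.Coprime.pow_left _ ((Nat.Prime.coprime_iff_not_dvd hpp).mpr hnd)
          exact orderOf_eq_one_iff.mp (Nat.eq_one_of_dvd_coprimes hco h5 h6)
        calc b * a = c * (b * a) := by rw [hc1, one_mul]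
          _ = a * b := by rw [hcdef]; group
    intro z hz
    exact hgoal ⟨z, hz, rfl⟩
  have htop := Cfsg.Agent.Lib.PCore.eq_top_of_forall_sylow_le _ hcent
  have hNle : N ≤ Subgroup.centralizer ((P : Subgroup H) : Set H) := by
    intro n hn
    have : (⟨n, hn⟩ : N) ∈ (Subgroup.centralizer ((P : Subgroup H) : Set H)).subgroupOf N := by
      rw [htop]; trivial
    exact this
  apply hP
  apply normal_of_normalizer_top
  have h1 : N ≤ Subgroup.normalizer ((P : Subgroup H) : Set H) := by
    refine hNle.trans ?_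
    intro g hg
    rw [Subgroup.mem_centralizer_iff] at hg
    rw [Subgroup.mem_normalizer_iff]
    intro x
    constructor
    · intro hx
      have h2 : g * x * g⁻¹ = x := by rw [← hg x hx]; group
      rwa [h2]
    · intro hx
      have h3 := hg _ hx
      have h4 : x = g * x * g⁻¹ := by
        have h5 : g * x * g⁻¹ * g = g * (g * x * g⁻¹) := by rw [← h3]
        have h6 : g * x = g * (g * x * g⁻¹) := by
          rw [← h5]; group
        exact mul_left_cancel h6
      rwa [h4]
  have h2 := sup_le (Subgroup.le_normalizer (H := (P : Subgroup H))) h1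
  rw [sup_eq_top' P hP hsub hquo N hN] at h2
  exact top_le_iff.mp h2

end Coprime

section Simple
variable {H : Type*} [Group H] [Finite H]

lemma simple_case (hp : p ≠ 2) [IsSimpleGroup H] (hG : ¬ IsCyclic H) (hd : p ∣ Nat.card H) :
    p * (p ^ 2 - 1) / 2 ≤ Nat.card H := by
  classical
  have hpp : p.Prime := Fact.out
  have hodd : p % 2 = 1 := (Nat.Prime.eq_two_or_odd hpp).resolve_left hp
  have hp3 : 3 ≤ p := by
    have := hpp.two_le
    omega
  have hle : p * (p ^ 2 - 1) / 2 ≤ p ^ 3 := by
    calc p * (p ^ 2 - 1) / 2 ≤ p * (p ^ 2 - 1) := Nat.div_le_self _ _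
      _ ≤ p * p ^ 2 := Nat.mul_le_mul_left _ (Nat.sub_le _ _)
      _ = p ^ 3 := by ring
  by_contra hlt
  push Not at hlt
  have hcard := hlt.trans_le hle
  rcases Cfsg.Agent.S0999.result (G := H) hG p hpp hd hcard with ⟨F, _, _, hF, h3, ⟨e⟩⟩ | ⟨k, F, _, _, hF, hpk, h3, ⟨e⟩⟩
  · have h := Cfsg.Agent.Lib.ClassicalSmall.card_PSL2 (F := F)
    rw [hF, ← Nat.card_congr e.toEquiv] at h
    have hg : Nat.gcd 2 (p - 1) = 2 := Nat.gcd_eq_left (by omega)
    rw [hg] at h
    have h2 : p * (p ^ 2 - 1) = 2 * Nat.card H := by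
      rw [h]
      have : p ^ 2 - 1 = (p + 1) * (p - 1) := by
        obtain ⟨t, rfl⟩ : ∃ t, p = t + 1 := ⟨p - 1, by omega⟩
        simp only [Nat.add_sub_cancel]
        have : (t + 1) ^ 2 = (t + 1 + 1) * t + 1 := by ring
        rw [this]; simp
      rw [this]
      ring
    omega
  · have h := Cfsg.Agent.Lib.ClassicalSmall.card_PSL2 (F := F)
    rw [hF, ← Nat.card_congr e.toEquiv] at h
    have hk0 : k ≠ 0 := by
      rintro rfl
      simp at hpk
      omega
    have heven : 2 ∣ 2 ^ k := dvd_pow_self 2 hk0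
    have hg : Nat.gcd 2 (2 ^ k - 1) = 1 := by
      have h2k : 2 ≤ 2 ^ k := Nat.le_of_dvd (by positivity) heven
      have : ¬ 2 ∣ 2 ^ k - 1 := by omega
      exact (Nat.Prime.coprime_iff_not_dvd Nat.prime_two).mpr this
    rw [hg, one_mul] at h
    have hq4 : 4 ≤ 2 ^ k := by omega
    obtain ⟨s, hs⟩ : ∃ s, 2 ^ k = s + 4 := ⟨2 ^ k - 4, by omega⟩
    rw [hs] at h hpk
    have hps : p = s + 5 := by omega
    rw [show s + 4 - 1 = s + 3 by omega] at h
    have e1 : p ^ 2 - 1 = (s + 4) * (s + 6) := by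
      rw [hps]
      have : (s + 5) ^ 2 = (s + 4) * (s + 6) + 1 := by ring
      rw [this]
      simp
    have h5 : p * (p ^ 2 - 1) / 2 ≤ Nat.card H := by
      apply Nat.div_le_of_le_mul
      rw [e1, h, hps]
      nlinarith [Nat.zero_le s, Nat.zero_le (s * s), Nat.zero_le (s * s * s)]
    omega

end Simple

/-- The lower bound, by induction. -/
theorem closed_of_lt (hp : p ≠ 2) (m : ℕ) (hleast : ∀ k : ℕ, IsPrimePow k → k % p = 1 → m ≤ k) :
    ∀ (n : ℕ) (H : Type) [Group H] [Finite H], Nat.card H = n →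
      n < min (p * m) (p * (p ^ 2 - 1) / 2) → IsPClosed p H := by
  intro n
  induction n using Nat.strong_induction_on with
  | _ n ih =>
    intro H _ _ hcard hlt
    by_contra hnc
    have hnc' : ∃ P : Sylow p H, ¬ (P : Subgroup H).Normal := by
      unfold IsPClosed at hnc
      push Not at hnc
      exact hnc
    obtain ⟨P, hP⟩ := hnc'
    have hsub : ∀ L : Subgroup H, L ≠ ⊤ → IsPClosed p L := by
      intro L hL
      have h1 : Nat.card L < n := by
        rw [← hcard]
        exact lt_of_le_of_ne (Nat.le_of_dvd Nat.card_pos (Subgroup.card_subgroup_dvd_card L))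
          (fun h => hL (Subgroup.eq_top_of_card_eq L h))
      exact ih _ h1 L rfl (h1.trans hlt)
    have hquo : ∀ (N : Subgroup H) [N.Normal], N ≠ ⊥ → IsPClosed p (H ⧸ N) := by
      intro N _ hN
      have h1 : Nat.card (H ⧸ N) < n := by
        have h2 := Subgroup.card_eq_card_quotient_mul_card_subgroup N
        have h3 : 1 < Nat.card N := by
          have h4 : Nat.card N ≠ 1 := fun h => hN (Subgroup.card_eq_one.mp h)
          have h5 : 0 < Nat.card N := Nat.card_pos
          omega
        have h4 : 0 < Nat.card (H ⧸ N) := Nat.card_pos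
        rw [← hcard, h2]
        nlinarith
      exact ih _ h1 (H ⧸ N) rfl (h1.trans hlt)
    have hnt : (⊤ : Subgroup H) ≠ ⊥ := by
      intro h
      apply hP
      have : (P : Subgroup H) = ⊥ := by
        rw [eq_bot_iff, ← h]
        exact le_top
      rw [this]
      infer_instance
    obtain ⟨N, hNm⟩ := (Set.toFinite {N : Subgroup H | N.Normal ∧ N ≠ ⊥}).exists_minimal
      ⟨⊤, inferInstance, hnt⟩
    have hNn : N.Normal := hNm.prop.1
    have hN : N ≠ ⊥ := hNm.prop.2
    have hmin : ∀ K : Subgroup H, K.Normal → K ≠ ⊥ → K ≤ N → K = N := by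
      intro K hK hKb hKN
      exact le_antisymm hKN (hNm.le_of_le ⟨hK, hKb⟩ hKN)
    by_cases hab : ∀ a b : N, a * b = b * a
    · have h1 := abelian_case P hP hsub hquo m hleast N hN hmin hab
      have h2 : n < p * m := lt_of_lt_of_le hlt (min_le_left _ _)
      omega
    · by_cases hd : p ∣ Nat.card N
      · by_cases hNt : N = ⊤
        · subst hNt
          rw [Subgroup.card_top] at hd
          haveI : Nontrivial H := by
            by_contra hh
            rw [not_nontrivial_iff_subsingleton] at hh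
            exact hnt (Subsingleton.elim _ _)
          haveI : IsSimpleGroup H := ⟨fun K hK => by
            by_cases hb : K = ⊥
            · exact Or.inl hb
            · exact Or.inr (hmin K hK hb le_top)⟩
          have hcyc : ¬ IsCyclic H := by
            intro hc
            apply hab
            intro a b
            apply Subtype.ext
            exact hc.isMulCommutative.is_comm.comm _ _
          have h1 := simple_case hp hcyc hd
          have h2 : n < p * (p ^ 2 - 1) / 2 := lt_of_lt_of_le hlt (min_le_right _ _)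
          omega
        · exact not_dvd_card P hP hsub hquo N hNt hd
      · exact coprime_case P hP hsub hquo N hN hmin hab hd

section Existence

open Matrix in
lemma exists_psl (hp5 : 5 ≤ p) :
    ∃ (H : Type) (_ : Group H) (_ : Finite H), Nat.card H = p * (p ^ 2 - 1) / 2 ∧ ¬ Cfsg.IsPClosed p H := by
  classical
  have hpp : p.Prime := Fact.out
  let F := ZMod p
  have hF : Fintype.card (ZMod p) = p := ZMod.card p
  have hodd : p % 2 = 1 := (Nat.Prime.eq_two_or_odd hpp).resolve_left (by omega)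
  have hc := Cfsg.Agent.Lib.ClassicalSmall.card_PSL2 (F := ZMod p)
  rw [hF, Nat.gcd_eq_left (show 2 ∣ p - 1 by omega)] at hc
  have hcard : Nat.card (ProjectiveSpecialLinearGroup (Fin 2) (ZMod p)) = p * (p ^ 2 - 1) / 2 := by
    have h2 : p * (p ^ 2 - 1) = 2 * Nat.card (ProjectiveSpecialLinearGroup (Fin 2) (ZMod p)) := by
      rw [hc]
      have : p ^ 2 - 1 = (p + 1) * (p - 1) := by
        obtain ⟨t, rfl⟩ : ∃ t, p = t + 1 := ⟨p - 1, by omega⟩
        simp only [Nat.add_sub_cancel]
        have : (t + 1) ^ 2 = (t + 1 + 1) * t + 1 := by ring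
        rw [this]; simp
      rw [this]
      ring
    omega
  haveI hs : IsSimpleGroup (ProjectiveSpecialLinearGroup (Fin 2) (ZMod p)) :=
    Matrix.ProjectiveSpecialLinearGroup.rank_two_simple (by
      rw [Nat.card_eq_fintype_card, hF]; omega)
  refine ⟨ProjectiveSpecialLinearGroup (Fin 2) (ZMod p), inferInstance, inferInstance, hcard, ?_⟩
  intro hcl
  set G := ProjectiveSpecialLinearGroup (Fin 2) (ZMod p) with hG
  obtain ⟨P⟩ : Nonempty (Sylow p G) := inferInstance
  obtain ⟨t, ht⟩ : ∃ t, p + 1 = 2 * t := ⟨(p + 1) / 2, by omega⟩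
  have hc' : Nat.card G = t * p * (p - 1) := by
    apply Nat.eq_of_mul_eq_mul_left (show 0 < 2 by norm_num)
    rw [hc, ht]
    ring
  have hd : p ∣ Nat.card G := by
    rw [hc']
    exact Dvd.dvd.mul_right (Dvd.intro_left _ rfl) _
  have hPn := hcl P
  rcases hPn.eq_bot_or_eq_top with hb | ht'
  · have h1 := P.not_dvd_index
    rw [hb, Subgroup.index_bot] at h1
    exact h1 hd
  · obtain ⟨n, hn⟩ := IsPGroup.iff_card.mp P.isPGroup'
    rw [ht', Subgroup.card_top] at hn
    have hd2 : (p - 1) ∣ p ^ n := by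
      rw [← hn, hc']
      exact Dvd.intro_left _ rfl
    have hcop : Nat.Coprime (p - 1) (p ^ n) := by
      apply Nat.Coprime.pow_right
      apply Nat.Coprime.symm
      apply (Nat.Prime.coprime_iff_not_dvd hpp).mpr
      intro h
      have := Nat.le_of_dvd (by omega) h
      omega
    have := Nat.Coprime.eq_one_of_dvd hcop hd2
    omega

open scoped SemidirectProduct in
lemma exists_frob (m : ℕ) (hm : IsPrimePow m) (hm1 : m % p = 1) :
    ∃ (H : Type) (_ : Group H) (_ : Finite H), Nat.card H = p * m ∧ ¬ Cfsg.IsPClosed p H := by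
  classical
  have hpp : p.Prime := Fact.out
  obtain ⟨q, k, hq, hk, rfl⟩ := hm
  have hq' : q.Prime := hq.nat_prime
  haveI : Fact q.Prime := ⟨hq'⟩
  have hqp : q ≠ p := by
    rintro rfl
    have : q ^ k % q = 0 := Nat.mod_eq_zero_of_dvd (dvd_pow_self _ hk.ne')
    omega
  let E := GaloisField q k
  have hcard : Nat.card E = q ^ k := GaloisField.card q k hk.ne'
  have hq0 : q ^ k ≠ 0 := pow_ne_zero _ hq'.ne_zero
  have : Finite E := Nat.finite_of_card_ne_zero (by rw [hcard]; exact hq0)
  let _ : Fintype E := Fintype.ofFinite E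
  have hcard' : Fintype.card E = q ^ k := by rw [← Nat.card_eq_fintype_card, hcard]
  have hu : Nat.card Eˣ = q ^ k - 1 := by
    rw [Nat.card_eq_fintype_card, Fintype.card_units, hcard']
  have hd : p ∣ q ^ k - 1 := by
    have h1 : 1 ≤ q ^ k := Nat.one_le_iff_ne_zero.mpr hq0
    have h2 : (q ^ k) % p = 1 % p := by rw [hm1, Nat.mod_eq_of_lt hpp.one_lt]
    exact (Nat.modEq_iff_dvd' h1).mp h2.symm
  obtain ⟨z, hz⟩ := exists_prime_orderOf_dvd_card' (G := Eˣ) p (by rw [hu]; exact hd)
  let Γ := Subgroup.zpowers z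
  let φ : Γ →* MulAut (Multiplicative E) :=
    Cfsg.Agent.Lib.PSp43Sol.autOf (A := E) (Γ := Γ) (fun g x => (((g : Eˣ) : E)) * x)
      (by intro a; simp) (by intro g h a; simp [mul_assoc]) (by intro g a b; ring)
  let H := Multiplicative E ⋊[φ] Γ
  have : Finite H := Finite.of_equiv _ (SemidirectProduct.equivProd (φ := φ)).symm
  have hcardH : Nat.card H = p * q ^ k := by
    rw [Nat.card_congr (SemidirectProduct.equivProd (φ := φ)), Nat.card_prod, Nat.card_zpowers, hz]
    have : Nat.card (Multiplicative E) = q ^ k := hcard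
    rw [this, mul_comm]
  refine ⟨H, inferInstance, inferInstance, hcardH, ?_⟩
  intro hcl
  let g0 : Γ := ⟨z, Subgroup.mem_zpowers z⟩
  let x : H := SemidirectProduct.inr g0
  have hg0 : g0 ^ p ^ 1 = 1 := by
    apply Subtype.ext
    show z ^ p ^ 1 = 1
    rw [pow_one, ← hz]
    exact pow_orderOf_eq_one z
  have hxp : x ^ p ^ 1 = 1 := by
    show (SemidirectProduct.inr g0 : H) ^ p ^ 1 = 1
    rw [← map_pow, hg0, map_one]
  obtain ⟨P, hP⟩ := (isPGroup_zpowers x hxp).exists_le_sylow
  have hxP : x ∈ (P : Subgroup H) := hP (Subgroup.mem_zpowers x)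
  have hPn := hcl P
  let t0 : Multiplicative E := Multiplicative.ofAdd 1
  let t : H := SemidirectProduct.inl t0
  set c : H := x * t * x⁻¹ * t⁻¹ with hc
  have hcP : c ∈ (P : Subgroup H) := by
    have h1 : c = x * (t * x⁻¹ * t⁻¹) := by rw [hc]; group
    rw [h1]
    exact (P : Subgroup H).mul_mem hxP (hPn.conj_mem _ ((P : Subgroup H).inv_mem hxP) t)
  have hxt : x * t * x⁻¹ = SemidirectProduct.inl (Multiplicative.ofAdd ((z : E) * 1)) := by
    have h1 := SemidirectProduct.inl_aut (φ := φ) g0 t0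
    have h2 : (φ g0 t0) = Multiplicative.ofAdd ((z : E) * 1) := rfl
    rw [h2] at h1
    rw [h1, ← map_inv]
  have hcl2 : c = SemidirectProduct.inl (Multiplicative.ofAdd ((z : E) - 1)) := by
    rw [hc, hxt, ← map_inv, ← map_mul]
    congr 1
    rw [mul_one, sub_eq_add_neg, ofAdd_add, ofAdd_neg]
  have hcq : c ^ q ^ 1 = 1 := by
    rw [hcl2, ← map_pow, ← ofAdd_nsmul]
    have : (q ^ 1) • ((z : E) - 1) = 0 := by
      rw [pow_one, nsmul_eq_mul, CharP.cast_eq_zero, zero_mul]
    rw [this, ofAdd_zero, map_one]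
  obtain ⟨j, hj⟩ := P.isPGroup' ⟨c, hcP⟩
  have hcp : c ^ p ^ j = 1 := congrArg Subtype.val hj
  have hc1 : c = 1 := eq_one_of_pows hq' hqp hcp hcq
  rw [hcl2] at hc1
  have h3 : Multiplicative.ofAdd ((z : E) - 1) = 1 :=
    SemidirectProduct.inl_injective (φ := φ) (by rw [hc1, map_one])
  have h4 : (z : E) - 1 = 0 := h3
  have h5 : z = 1 := Units.ext (sub_eq_zero.mp h4)
  rw [h5, orderOf_one] at hz
  exact hpp.one_lt.ne hz

end Existence

/-- Let p be an odd prime and let m be the least prime power congruent to 1 modulo p. Then the least order of a finite group whose Sylow p-subgroups are not normal is the smaller of p · m and p(p² − 1)/2: every finite group whose Sylow p-subgroups are not normal has at least that order, and some group of exactly that order has non-normal Sylow p-subgroups. -/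
theorem result (p : ℕ) [Fact p.Prime] (hp : p ≠ 2) (m : ℕ) (hm : IsPrimePow m) (hm1 : m % p = 1)
    (hleast : ∀ k : ℕ, IsPrimePow k → k % p = 1 → m ≤ k) :
    (∀ (H : Type) [Group H] [Finite H], ¬ Cfsg.IsPClosed p H → min (p * m) (p * (p ^ 2 - 1) / 2) ≤ Nat.card H) ∧
      ∃ (H : Type) (_ : Group H) (_ : Finite H), Nat.card H = min (p * m) (p * (p ^ 2 - 1) / 2) ∧ ¬ Cfsg.IsPClosed p H := by
  have hpp : p.Prime := Fact.out
  constructor
  · intro H _ _ hnc
    by_contra hlt
    push Not at hlt
    exact hnc (closed_of_lt hp m hleast _ H rfl hlt)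
  · by_cases hle : p * m ≤ p * (p ^ 2 - 1) / 2
    · rw [min_eq_left hle]
      exact exists_frob m hm hm1
    · rw [min_eq_right (le_of_not_ge hle)]
      apply exists_psl
      have h3 := hpp.two_le
      have hodd : p % 2 = 1 := (Nat.Prime.eq_two_or_odd hpp).resolve_left hp
      by_contra hlt
      have hp3 : p = 3 := by
        interval_cases p <;> omega
      subst hp3
      have h4 : m ≤ 4 := hleast 4 (by
        rw [show (4 : ℕ) = 2 ^ 2 by norm_num]
        exact Nat.prime_two.isPrimePow.pow (by norm_num)) (by norm_num)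
      apply hle
      norm_num
      omega

end Cfsg.Agent.S3875
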