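import Mathlib
import Cfsg.Statements.S3888
import Cfsg.Agent.Lib.BlackburnC
import Cfsg.Agent.Lib.BlackburnD
import Cfsg.Agent.Lib.BlackburnF
import Cfsg.Agent.S0112

set_option autoImplicit false
open Cfsg

namespace Cfsg.Agent.S3888

/-- A small centralizer gives maximal class. -/
theorem max_class {G : Type*} [Group G] [Finite G] [Fact (Nat.Prime 3)] {M : Subgroup G} {ζ : G} {n : ℕ}
    (h : Cfsg.Agent.Lib.BlackburnA.Plane 3 M ζ) (hG : Nat.card G = 3 ^ n) {g : G}
    (hg : g ∉ Subgroup.centralizer (M : Set G)) (hg9 : Nat.card (Subgroup.centralizer ({g} : Set G)) ≤ 9) :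
    (3 = 3 ∧ 2 ≤ n ∧ (⊤ : Subgroup G).lowerCentralSeries (n - 2) ≠ ⊥) := by
  classical
  have hpp : Nat.Prime 3 := Fact.out
  have hpG : IsPGroup 3 G := IsPGroup.of_card hG
  set A := Subgroup.centralizer ({g} : Set G) with hA
  have hgA : g ∈ A := Subgroup.mem_centralizer_singleton_iff.mpr rfl
  have hζA : ζ ∈ A := Subgroup.mem_centralizer_singleton_iff.mpr (h.ζcen g).symm
  have hcard : Nat.card A = 3 ^ 2 := by
    obtain ⟨k, hk⟩ := IsPGroup.iff_card.mp (hpG.to_subgroup A)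
    rw [hk] at hg9 ⊢
    have hk2 : k ≤ 2 := by
      by_contra hlt
      have : 3 ≤ k := by omega
      have h5 : 3 ^ 3 ≤ 3 ^ k := Nat.pow_le_pow_right (by norm_num) this
      omega
    have hk0 : k ≠ 0 := by
      rintro rfl
      rw [pow_zero] at hk
      have := (Subgroup.card_eq_one.mp hk)
      rw [this, Subgroup.mem_bot] at hζA
      exact h.ζne hζA
    have hk1 : k ≠ 1 := by
      rintro rfl
      rw [pow_one] at hk
      have hZ : Subgroup.zpowers ζ = A :=
        Subgroup.eq_of_le_of_card_ge (Subgroup.zpowers_le.mpr hζA) (by rw [h.card_Z, hk])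
      apply hg
      apply h.M_le_C
      apply h.Z_le
      rw [hZ]
      exact hgA
    rw [show k = 2 by omega]
  have hab : IsMulCommutative A := IsPGroup.isMulCommutative_of_card_eq_prime_sq hcard
  have hCA : Subgroup.centralizer (A : Set G) = A := by
    apply le_antisymm
    · intro x hx
      have h1 := Subgroup.mem_centralizer_iff.mp hx g hgA
      exact Subgroup.mem_centralizer_singleton_iff.mpr h1.symm
    · intro a ha
      rw [Subgroup.mem_centralizer_iff]
      intro b hb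
      exact congrArg Subtype.val (hab.is_comm.comm (⟨b, hb⟩ : A) ⟨a, ha⟩)
  have hcl := Cfsg.Agent.S0112.result n hG A hcard hCA
  have hn2 : 2 ≤ n := by
    have h1 : Nat.card A ≤ Nat.card G := Subgroup.card_le_card_group A
    rw [hcard, hG] at h1
    exact (Nat.pow_le_pow_iff_right (by norm_num)).mp h1
  refine ⟨rfl, hn2, ?_⟩
  intro hbot
  haveI : Group.IsNilpotent G := hpG.isNilpotent
  have h1 := (Subgroup.lowerCentralSeries_eq_bot_iff_nilpotencyClass_le (G := G)).mp hbot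
  omega

/-- The classification of the p-groups of rank at most two for odd p. Let p be an odd prime and G a group of order p^n with no elementary abelian subgroup of order p³. Then one of the following holds: G is metacyclic; n ≥ 3 and G is generated by elements x, y, z with x^p = y^p = z^(p^(n−2)) = 1, z commuting with x and y, and x⁻¹yx = y z^(p^(n−3)); n ≥ 4 and G is generated by elements x, y, z with x^p = y^p = z^(p^(n−2)) = 1, yz = zy, x⁻¹yx = y z^(s p^(n−3)) and x⁻¹zx = yz, where s = 1 or s is a quadratic non-residue modulo p; or p = 3 and G has maximal class (nilpotency class n − 1). -/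
theorem result {G : Type*} [Group G] [Finite G] {p : ℕ} [Fact p.Prime] (hp : p ≠ 2) (n : ℕ) (hG : Nat.card G = p ^ n)
    (hrk : Cfsg.PRankLE p 2 G) :
    Cfsg.IsMetacyclic G ∨
    (3 ≤ n ∧ ∃ x y z : G, Subgroup.closure ({x, y, z} : Set G) = ⊤ ∧ x ^ p = 1 ∧ y ^ p = 1 ∧ z ^ p ^ (n - 2) = 1 ∧
        x * z = z * x ∧ y * z = z * y ∧ x⁻¹ * y * x = y * z ^ p ^ (n - 3)) ∨
    (4 ≤ n ∧ ∃ (s : ℕ) (x y z : G), (s = 1 ∨ ¬ IsSquare (s : ZMod p)) ∧ Subgroup.closure ({x, y, z} : Set G) = ⊤ ∧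
        x ^ p = 1 ∧ y ^ p = 1 ∧ z ^ p ^ (n - 2) = 1 ∧ y * z = z * y ∧ x⁻¹ * y * x = y * z ^ (s * p ^ (n - 3)) ∧
        x⁻¹ * z * x = y * z) ∨
    (p = 3 ∧ 2 ≤ n ∧ (⊤ : Subgroup G).lowerCentralSeries (n - 2) ≠ ⊥) := by
  classical
  have hpp := (Fact.out : p.Prime)
  have hpG : IsPGroup p G := IsPGroup.of_card hG
  by_cases hm : Cfsg.IsMetacyclic G
  · exact Or.inl hm
  right
  have hnc : ¬ IsCyclic G := fun hc => hm (haveI := hc; Cfsg.Agent.Lib.Huppert.isMetacyclic_of_isCyclic)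
  obtain ⟨M, ζ, h⟩ := Cfsg.Agent.Lib.BlackburnA.exists_plane hp hpG hrk hnc
  have fin : ∀ x, x ∉ Subgroup.centralizer (M : Set G) → x ^ p = 1 →
      (∀ c ∈ Subgroup.centralizer (M : Set G), Cfsg.Agent.Lib.BlackburnB.dl x c ∈ M) →
      (3 ≤ n ∧ ∃ x y z : G, Subgroup.closure ({x, y, z} : Set G) = ⊤ ∧ x ^ p = 1 ∧ y ^ p = 1 ∧ z ^ p ^ (n - 2) = 1 ∧
        x * z = z * x ∧ y * z = z * y ∧ x⁻¹ * y * x = y * z ^ p ^ (n - 3)) ∨
      (4 ≤ n ∧ ∃ (s : ℕ) (x y z : G), (s = 1 ∨ ¬ IsSquare (s : ZMod p)) ∧ Subgroup.closure ({x, y, z} : Set G) = ⊤ ∧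
        x ^ p = 1 ∧ y ^ p = 1 ∧ z ^ p ^ (n - 2) = 1 ∧ y * z = z * y ∧ x⁻¹ * y * x = y * z ^ (s * p ^ (n - 3)) ∧
        x⁻¹ * z * x = y * z) ∨
      (p = 3 ∧ 2 ≤ n ∧ (⊤ : Subgroup G).lowerCentralSeries (n - 2) ≠ ⊥) := by
    intro x hxC hxp hδ
    rcases Cfsg.Agent.Lib.BlackburnC.structure_of_star hp h hxC hxp hδ hG with h2 | h3
    · exact Or.inl h2
    · exact Or.inr (Or.inl h3)
  by_cases h3 : p = 3
  · subst h3
    -- the hypothesis of Huppert's theorem fails
    have hH1 : ¬ Cfsg.Agent.Lib.Huppert.H1 3 G := fun hH => hm (Cfsg.Agent.Lib.Huppert.huppert hp hpG hH)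
    unfold Cfsg.Agent.Lib.Huppert.H1 at hH1
    push Not at hH1
    obtain ⟨W, -, hW, hidx⟩ := hH1
    have hidx' : 9 < W.index := by simpa using hidx
    by_cases hC : ∃ g, g ∉ Subgroup.centralizer (M : Set G)
    · obtain ⟨g, hg⟩ := hC
      by_cases hsmall : ∃ g, g ∉ Subgroup.centralizer (M : Set G) ∧ Nat.card (Subgroup.centralizer ({g} : Set G)) ≤ 9
      · obtain ⟨g, hg, hg9⟩ := hsmall
        exact Or.inr (Or.inr (Cfsg.Agent.S3888.max_class h hG hg hg9))
      · push Not at hsmall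
        obtain ⟨x, hxC, hx3, hδ⟩ := Cfsg.Agent.Lib.BlackburnF.star_three h hg hW hidx' hsmall
        exact fin x hxC hx3 hδ
    · push Not at hC
      exfalso
      have hPC : Cfsg.Agent.Lib.PCentral.PC 3 G := by
        intro z hz u
        exact (Subgroup.mem_centralizer_iff.mp (hC u)) z (h.mem_M (hC z) hz)
      have h1 := Cfsg.Agent.Lib.BlackburnE.card_le_of_pow (p := 3) hp hpG hPC W hW
      have h2 : Nat.card (Cfsg.Agent.Lib.PCentral.Om 3 G hPC) ≤ 9 := by
        have hle : Cfsg.Agent.Lib.PCentral.Om 3 G hPC ≤ M := fun z hz => h.mem_M (hC z) hz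
        have := Subgroup.card_le_of_le hle
        rw [h.card] at this
        simpa using this
      have h3 := Subgroup.card_mul_index W
      have h4 : Nat.card W * W.index ≤ Nat.card W * 9 := by
        rw [h3]
        exact h1.trans (Nat.mul_le_mul_left _ h2)
      have h5 := Nat.le_of_mul_le_mul_left h4 Nat.card_pos
      omega
  · have h5 : 3 < p := by
      have := hpp.two_le
      omega
    obtain ⟨x, hxC, hxp, hδ⟩ := Cfsg.Agent.Lib.BlackburnD.star_five h5 h hm
    exact fin x hxC hxp hδ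

end Cfsg.Agent.S3888
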