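import Mathlib
import Cfsg.Statements.S3889

set_option autoImplicit false
open Cfsg

namespace Cfsg.Agent.S3889

theorem order_dvd {G : Type*} [CommGroup G] [Finite G] (𝓑 : Set (Subgroup G))
    (hcov : ∀ g : G, ∃ B ∈ 𝓑, g ∈ B) (hdisj : ∀ B ∈ 𝓑, ∀ C ∈ 𝓑, B ≠ C → B ⊓ C = ⊥)
    (B : Subgroup G) (hB : B ∈ 𝓑) (x y : G) (hx : x ∈ B) (hy : y ∉ B) :
    orderOf x ∣ orderOf y := by
  obtain ⟨D, hD, hxy⟩ := hcov (x * y)
  have hDB : B ≠ D := by
    rintro rfl
    exact hy (by simpa using B.mul_mem (B.inv_mem hx) hxy)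
  have h1 : (x * y) ^ orderOf y = x ^ orderOf y := by
    rw [mul_pow, pow_orderOf_eq_one, mul_one]
  have h2 : x ^ orderOf y ∈ B ⊓ D := by
    refine ⟨B.pow_mem hx _, ?_⟩
    rw [← h1]
    exact D.pow_mem hxy _
  rw [hdisj B hB D hD hDB] at h2
  exact orderOf_dvd_of_pow_eq_one (by simpa using h2)

/-- A finite abelian group that is the union of a family of proper subgroups any two of which intersect trivially is elementary abelian: its exponent is a prime. -/
theorem result {G : Type*} [CommGroup G] [Finite G] (𝓑 : Set (Subgroup G)) (hprop : ∀ B ∈ 𝓑, B ≠ ⊤)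
    (hcov : ∀ g : G, ∃ B ∈ 𝓑, g ∈ B) (hdisj : ∀ B ∈ 𝓑, ∀ C ∈ 𝓑, B ≠ C → B ⊓ C = ⊥) :
    (Monoid.exponent G).Prime := by
  classical
  -- two nontrivial elements in different members have equal orders
  have key : ∀ B ∈ 𝓑, ∀ x y : G, x ∈ B → x ≠ 1 → y ∉ B → orderOf x = orderOf y := by
    intro B hB x y hx hx1 hy
    apply Nat.dvd_antisymm (order_dvd 𝓑 hcov hdisj B hB x y hx hy)
    obtain ⟨C, hC, hyC⟩ := hcov y
    have hBC : B ≠ C := by rintro rfl; exact hy hyC
    have hxC : x ∉ C := by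
      intro hxC
      have : x ∈ B ⊓ C := ⟨hx, hxC⟩
      rw [hdisj B hB C hC hBC] at this
      exact hx1 (by simpa using this)
    exact order_dvd 𝓑 hcov hdisj C hC y x hyC hxC
  have all_eq : ∀ x z : G, x ≠ 1 → z ≠ 1 → orderOf x = orderOf z := by
    intro x z hx hz
    obtain ⟨B, hB, hxB⟩ := hcov x
    by_cases hzB : z ∈ B
    · have : ∃ y, y ∉ B := by
        by_contra h
        push Not at h
        exact hprop B hB (by ext g; simpa using h g)
      obtain ⟨y, hy⟩ := this
      rw [key B hB x y hxB hx hy, key B hB z y hzB hz hy]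
    · exact key B hB x z hxB hx hzB
  -- G is nontrivial
  have hnt : ∃ x : G, x ≠ 1 := by
    obtain ⟨B, hB, -⟩ := hcov 1
    by_contra h
    push Not at h
    exact hprop B hB (by ext g; simp [h g, B.one_mem])
  obtain ⟨x, hx⟩ := hnt
  have hd : orderOf x ≠ 1 := by simpa [orderOf_eq_one_iff] using hx
  obtain ⟨q, hq, hqd⟩ := Nat.exists_prime_and_dvd hd
  have hx0 : 0 < orderOf x := orderOf_pos x
  have hprime : (orderOf x).Prime := by
    obtain ⟨k, hk⟩ := hqd
    have hk0 : 0 < k := by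
      rcases Nat.eq_zero_or_pos k with rfl | h
      · rw [mul_zero] at hk; omega
      · exact h
    have h1 : orderOf (x ^ k) = q := by
      rw [orderOf_pow' x hk0.ne', hk, Nat.gcd_eq_right (Dvd.intro_left q rfl)]
      exact Nat.mul_div_cancel _ hk0
    have h2 : x ^ k ≠ 1 := by
      intro h
      rw [h, orderOf_one] at h1
      exact hq.one_lt.ne h1
    have := all_eq x (x ^ k) hx h2
    rw [h1] at this
    rw [this]; exact hq
  have hexp : Monoid.exponent G ∣ orderOf x := by
    apply Monoid.exponent_dvd_of_forall_pow_eq_one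
    intro g
    by_cases hg : g = 1
    · simp [hg]
    · rw [all_eq x g hx hg]; exact pow_orderOf_eq_one g
  rcases (Nat.dvd_prime hprime).1 hexp with h | h
  · exfalso
    have : x ^ Monoid.exponent G = 1 := Monoid.pow_exponent_eq_one x
    rw [h, pow_one] at this
    exact hx this
  · rw [h]; exact hprime

end Cfsg.Agent.S3889
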