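import Mathlib
import Cfsg.Statements.S3890
import Cfsg.Agent.Lib.NilpCover
import Cfsg.Agent.Lib.SylowConjLemmas

set_option autoImplicit false
open Cfsg

namespace Cfsg.Agent.S3890

open Cfsg.Agent.Lib.NilpCover
open Cfsg.Agent.Lib.SylowConjLemmas (mem_map_conj)

/-- A cover of a group is a finite set of proper subgroups whose union is the whole group; it is minimal when no cover has fewer members, and nilpotent when all its members are nilpotent. Let G be a finite group with trivial center admitting a nilpotent minimal cover 𝓐, and let P be an abelian Sylow p-subgroup of G that is not normal. Then either P is elementary abelian of order greater than p, or P is a Sylow p-subgroup of some member A of 𝓐, the normalizer N of P is a maximal subgroup of G, N meets each of its conjugates by elements outside N in a subgroup of order prime to p, and the centralizer of P equals A. -/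
theorem result {G : Type*} [Group G] [Finite G] (hZ : Subgroup.center G = ⊥) (𝓐 : Finset (Subgroup G))
    (h𝓐 : ((∀ A ∈ 𝓐, A ≠ ⊤) ∧ (∀ g : G, ∃ A ∈ 𝓐, g ∈ A)) ∧ (∀ 𝓑 : Finset (Subgroup G), (∀ A ∈ 𝓑, A ≠ ⊤) ∧ (∀ g : G, ∃ A ∈ 𝓑, g ∈ A) → 𝓐.card ≤ 𝓑.card) ∧ (∀ A ∈ 𝓐, Group.IsNilpotent ↥A)) {p : ℕ} [Fact p.Prime] (P : Sylow p G) (hab : IsMulCommutative ↥(P : Subgroup G))
    (hnn : ¬ (P : Subgroup G).Normal) :
    (Cfsg.IsElementaryAbelian p (P : Subgroup G) ∧ p < Nat.card ↥(P : Subgroup G)) ∨
    (∃ A ∈ 𝓐, (P : Subgroup G) ≤ A ∧ ¬ p ∣ ((P : Subgroup G).subgroupOf A).index ∧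
      IsCoatom (Subgroup.normalizer ((P : Subgroup G) : Set G)) ∧
      (∀ g : G, g ∉ Subgroup.normalizer ((P : Subgroup G) : Set G) →
        ¬ p ∣ Nat.card ↥(Subgroup.normalizer ((P : Subgroup G) : Set G) ⊓
          (Subgroup.normalizer ((P : Subgroup G) : Set G)).map (MulAut.conj g).toMonoidHom)) ∧
      Subgroup.centralizer ((P : Subgroup G) : Set G) = A) := by
  classical
  have hcov : IsNilpMinCover 𝓐 := ⟨h𝓐.1.1, h𝓐.1.2, h𝓐.2.1, h𝓐.2.2⟩
  have hne : (P : Subgroup G) ≠ ⊥ := by
    intro e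
    apply hnn
    rw [e]
    infer_instance
  by_cases hcase : Nat.card ↥(P : Subgroup G) = p ∨ ∃ a ∈ (P : Subgroup G), a ^ p ≠ 1
  · right
    obtain ⟨A, hA, hPA, hAc, hcoat, -, hTI⟩ := main_structure hcov hZ P hab hnn hcase
    refine ⟨A, hA, hPA, ?_, hcoat, ?_, hAc⟩
    · intro hd
      have h1 : (P : Subgroup G).relIndex A ∣ (P : Subgroup G).index :=
        Subgroup.relIndex_dvd_index_of_le hPA
      exact P.not_dvd_index (hd.trans h1)
    · intro g hg hd
      obtain ⟨w, hw⟩ := exists_prime_orderOf_dvd_card' (G := ↥(Subgroup.normalizer ((P : Subgroup G) : Set G) ⊓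
          (Subgroup.normalizer ((P : Subgroup G) : Set G)).map (MulAut.conj g).toMonoidHom)) p hd
      have hwN : (w : G) ∈ Subgroup.normalizer ((P : Subgroup G) : Set G) := w.2.1
      have hwN' : g⁻¹ * (w : G) * g ∈ Subgroup.normalizer ((P : Subgroup G) : Set G) :=
        (mem_map_conj _ _ _).1 w.2.2
      have hw1 : (w : G) ^ p = 1 := by
        have h1 : w ^ p = 1 := (orderOf_dvd_iff_pow_eq_one).1 (dvd_of_eq hw)
        rw [← Subgroup.coe_pow, h1, Subgroup.coe_one]
      have hw2 : (g⁻¹ * (w : G) * g) ^ p = 1 := by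
        have e : g⁻¹ * (w : G) * g = g⁻¹ * (w : G) * (g⁻¹)⁻¹ := by simp
        rw [e, conj_pow, hw1]
        simp
      have hwP := mem_of_mem_normalizer P (w : G) hwN ⟨1, by simpa using hw1⟩
      have hwP' := mem_of_mem_normalizer P _ hwN' ⟨1, by simpa using hw2⟩
      have hw3 : (w : G) = 1 := hTI g hg w hwP hwP'
      have hw4 : w = 1 := Subtype.ext hw3
      rw [hw4, orderOf_one] at hw
      exact (Fact.out : p.Prime).one_lt.ne hw
  · left
    push Not at hcase
    obtain ⟨hc, hall⟩ := hcase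
    refine ⟨⟨hab, hall⟩, ?_⟩
    obtain ⟨k, hk⟩ := IsPGroup.iff_card.1 P.isPGroup'
    have hk0 : k ≠ 0 := by
      rintro rfl
      apply hne
      exact Subgroup.eq_bot_of_card_eq _ (by simpa using hk)
    have hk1 : k ≠ 1 := by
      rintro rfl
      exact hc (by simpa using hk)
    rw [hk]
    calc p = p ^ 1 := (pow_one p).symm
      _ < p ^ k := Nat.pow_lt_pow_right (Fact.out : p.Prime).one_lt (by omega)

end Cfsg.Agent.S3890
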