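import Mathlib
import Cfsg.Statements.S3891
import Cfsg.Agent.Lib.NilpCover

set_option autoImplicit false
open Cfsg

namespace Cfsg.Agent.S3891

open Cfsg.Agent.Lib.NilpCover

/-- A cover of a group is a finite set of proper subgroups whose union is the whole group; it is minimal when no cover has fewer members, and nilpotent when all its members are nilpotent. Let G be a finite group with trivial center admitting a nilpotent minimal cover, and let P be a non-normal Sylow p-subgroup of G that is cyclic, or abelian but not elementary abelian. Then the centralizer of P is nilpotent and the normalizer of P is the unique maximal subgroup of G containing the centralizer of P. -/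
theorem result {G : Type*} [Group G] [Finite G] (hZ : Subgroup.center G = ⊥) (𝓐 : Finset (Subgroup G))
    (h𝓐 : ((∀ A ∈ 𝓐, A ≠ ⊤) ∧ (∀ g : G, ∃ A ∈ 𝓐, g ∈ A)) ∧ (∀ 𝓑 : Finset (Subgroup G), (∀ A ∈ 𝓑, A ≠ ⊤) ∧ (∀ g : G, ∃ A ∈ 𝓑, g ∈ A) → 𝓐.card ≤ 𝓑.card) ∧ (∀ A ∈ 𝓐, Group.IsNilpotent ↥A)) {p : ℕ} [Fact p.Prime] (P : Sylow p G)
    (hP : IsCyclic ↥(P : Subgroup G) ∨ (IsMulCommutative ↥(P : Subgroup G) ∧ ¬ Cfsg.IsElementaryAbelian p (P : Subgroup G)))
    (hnn : ¬ (P : Subgroup G).Normal) :
    Group.IsNilpotent ↥(Subgroup.centralizer ((P : Subgroup G) : Set G)) ∧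
      IsCoatom (Subgroup.normalizer ((P : Subgroup G) : Set G)) ∧
      ∀ M : Subgroup G, IsCoatom M → Subgroup.centralizer ((P : Subgroup G) : Set G) ≤ M →
        M = Subgroup.normalizer ((P : Subgroup G) : Set G) := by
  classical
  have hcov : IsNilpMinCover 𝓐 := ⟨h𝓐.1.1, h𝓐.1.2, h𝓐.2.1, h𝓐.2.2⟩
  have hp : (Fact.out : p.Prime).one_lt = (Fact.out : p.Prime).one_lt := rfl
  have hab : IsMulCommutative ↥(P : Subgroup G) := by
    rcases hP with h | h
    · exact ⟨⟨fun a b => by
        obtain ⟨g, hg⟩ := h.exists_generator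
        obtain ⟨m, hm⟩ := hg a
        obtain ⟨n, hn⟩ := hg b
        simp only at hm hn
        rw [← hm, ← hn]
        exact (Commute.refl g).zpow_zpow _ _⟩⟩
    · exact h.1
  have hcase : Nat.card ↥(P : Subgroup G) = p ∨ ∃ a ∈ (P : Subgroup G), a ^ p ≠ 1 := by
    by_cases hex : ∃ a ∈ (P : Subgroup G), a ^ p ≠ 1
    · exact Or.inr hex
    · push Not at hex
      left
      rcases hP with h | h
      · -- cyclic of exponent p
        obtain ⟨g, hg⟩ := h.exists_generator
        have hne : (P : Subgroup G) ≠ ⊥ := by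
          intro e
          apply hnn
          rw [e]
          infer_instance
        have h1 : g ^ p = 1 := Subtype.ext (hex g g.2)
        have h2 : orderOf g ∣ p := orderOf_dvd_of_pow_eq_one h1
        have h3 : Nat.card ↥(P : Subgroup G) = orderOf g := by
          rw [← Nat.card_zpowers]
          have : Subgroup.zpowers g = ⊤ := by
            rw [eq_top_iff]
            intro x _
            exact hg x
          rw [this, Subgroup.card_top]
        rcases (Nat.dvd_prime Fact.out).1 h2 with h4 | h4
        · exfalso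
          apply hne
          have : Nat.card ↥(P : Subgroup G) = 1 := by rw [h3, h4]
          exact Subgroup.eq_bot_of_card_eq _ this
        · rw [h3, h4]
      · exact absurd ⟨h.1, hex⟩ h.2
  obtain ⟨A, hA, hPA, hAc, hcoat, huniq, -⟩ := main_structure hcov hZ P hab hnn hcase
  refine ⟨?_, hcoat, ?_⟩
  · rw [hAc]; exact hcov.nilp A hA
  · intro M hM hle
    rw [hAc] at hle
    exact huniq M hM hle

end Cfsg.Agent.S3891
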