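import Mathlib
import Cfsg.Statements.S3892
import Cfsg.Agent.Lib.NilpForced

set_option autoImplicit false
open Cfsg

namespace Cfsg.Agent.S3892

open Equiv Equiv.Perm Cfsg.Agent.Lib.NilpForced

theorem exists_prime (n : ℕ) (hn : 6 ≤ n) : ∃ q : ℕ, q.Prime ∧ 5 ≤ q ∧ q < n ∧ n < 2 * q := by
  obtain ⟨q, hq, h1, h2⟩ := Nat.exists_prime_lt_and_le_two_mul (n / 2) (by omega)
  refine ⟨q, hq, ?_, ?_, by omega⟩
  · have h4 : 4 ≤ q := by omega
    have h5 : q ≠ 4 := by
      rintro rfl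
      norm_num at hq
    omega
  · by_contra hle
    have h3 : q = n ∧ n % 2 = 0 := by omega
    obtain ⟨rfl, h⟩ := h3
    have := (Nat.dvd_prime hq).mp (Nat.dvd_of_mod_eq_zero h)
    omega

theorem not_sq_dvd_factorial (n q : ℕ) (hq : q.Prime) (h2 : n < 2 * q) : ¬ q ^ 2 ∣ n.factorial := by
  have h2q := hq.two_le
  by_cases hn0 : n = 0
  · subst hn0
    intro h
    have := Nat.le_of_dvd (by simp) h
    simp at this
    nlinarith
  have hlog : Nat.log q n < 2 := Nat.log_lt_of_lt_pow hn0 (by nlinarith)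
  rw [hq.pow_dvd_factorial_iff hlog]
  simp only [Nat.Ico_succ_singleton, Finset.sum_singleton, pow_one, not_le]
  have : n / q < 2 := Nat.div_lt_of_lt_mul (by rw [mul_comm]; exact h2)
  simpa using this

theorem sign_of_odd_order {α : Type*} [DecidableEq α] [Fintype α] (σ : Perm α) (q : ℕ) (hq : Odd q)
    (h : orderOf σ = q) : sign σ = 1 := by
  have h1 : (sign σ) ^ q = 1 := by
    rw [← map_pow, ← h, pow_orderOf_eq_one, map_one]
  rcases Int.units_eq_one_or (sign σ) with h2 | h2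
  · exact h2
  · rw [h2, hq.neg_one_pow] at h1
    exact absurd h1 (by decide)

theorem support_pres {α : Type*} (x g : Perm α) (h : g * x = x * g) (v : α) :
    x v ≠ v ↔ x (g v) ≠ g v := by
  have h1 : g (x v) = x (g v) := by
    have := congrArg (fun f => f v) h
    simpa using this
  rw [← h1]
  exact (g.injective.ne_iff).symm

theorem data (n : ℕ) (hn : 6 ≤ n) : ∃ (q : ℕ) (x y σ : Perm (Fin n)) (H : Subgroup (Perm (Fin n))),
    q.Prime ∧ ¬ q ^ 2 ∣ n.factorial ∧ orderOf x = q ∧ orderOf y = q ∧ sign x = 1 ∧ sign y = 1 ∧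
    y * x ≠ x * y ∧ sign σ = 1 ∧ σ ∉ H ∧ (∀ g : Perm (Fin n), g * x = x * g → g ∈ H) ∧
    (∀ g : Perm (Fin n), g * y = y * g → g ∈ H) := by
  classical
  obtain ⟨q, hq, hq5, hqn, hnq⟩ := exists_prime n hn
  have hqodd : Odd q := hq.odd_of_ne_two (by omega)
  obtain ⟨x, hxc⟩ := (exists_with_cycleType_iff (Fin n) (m := {q})).mpr
    ⟨by simp only [Multiset.sum_singleton, Fintype.card_fin]; omega, by simpa using hq.two_le⟩
  have hxcyc : x.IsCycle := by
    rw [← card_cycleType_eq_one, hxc]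
    simp
  have hxord : orderOf x = q := by
    rw [← lcm_cycleType, hxc]
    simp
  have hxcard : x.support.card = q := by
    rw [← sum_cycleType, hxc]
    simp
  set S := x.support with hS
  obtain ⟨a, haS⟩ : S.Nonempty := by
    rw [← Finset.card_pos, hxcard]
    exact hq.pos
  have ha : x a ≠ a := mem_support.mp haS
  set b := x a with hb
  have hbS : b ∈ S := by
    rw [hS, mem_support]
    exact fun h => ha (x.injective h)
  set c := x b with hc
  have hba : b ≠ a := ha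
  have hcb : c ≠ b := mem_support.mp hbS
  have hpow : ∀ k : ℕ, (x ^ k) a = a → q ∣ k := by
    intro k hk
    have : x ^ k = 1 := hxcyc.pow_eq_one_iff.mpr ⟨a, ha, hk⟩
    rw [← hxord]
    exact orderOf_dvd_of_pow_eq_one this
  have hca : c ≠ a := by
    intro h
    have : q ∣ 2 := hpow 2 (by
      rw [pow_two, Perm.mul_apply]
      exact h)
    have := Nat.le_of_dvd (by norm_num) this
    omega
  have hxca : x c ≠ a := by
    intro h
    have : q ∣ 3 := hpow 3 (by
      rw [pow_succ, pow_two, Perm.mul_apply, Perm.mul_apply]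
      exact h)
    have := Nat.le_of_dvd (by norm_num) this
    omega
  let g₀ : Perm (Fin n) := swap a b
  let y : Perm (Fin n) := g₀ * x * g₀⁻¹
  have hyord : orderOf y = q := by
    rw [← hxord]
    exact orderOf_injective (MulAut.conj g₀).toMonoidHom (MulAut.conj g₀).injective x
  have hyapp : ∀ v, y v = swap a b (x (swap a b v)) := by
    intro v
    show (g₀ * x * g₀⁻¹) v = _
    simp [g₀, Perm.mul_apply]
  have hswap : ∀ v, swap a b v ∈ S ↔ v ∈ S := by
    intro v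
    rw [swap_apply_def]
    split_ifs with h1 h2
    · subst h1
      exact ⟨fun _ => haS, fun _ => hbS⟩
    · subst h2
      exact ⟨fun _ => hbS, fun _ => haS⟩
    · exact Iff.rfl
  have hysupp : ∀ v, y v ≠ v ↔ v ∈ S := by
    intro v
    rw [hyapp, ← hswap v, hS, mem_support]
    constructor
    · intro h h2
      apply h
      rw [h2, swap_apply_self]
    · intro h h2
      apply h
      have := congrArg (swap a b) h2
      rw [swap_apply_self] at this
      exact this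
  -- the stabilizer
  let H : Subgroup (Perm (Fin n)) :=
    { carrier := {g | ∀ v, v ∈ S ↔ g v ∈ S}
      mul_mem' := by
        intro g h hg hh v
        rw [Perm.mul_apply, ← hg, ← hh]
      one_mem' := fun v => Iff.rfl
      inv_mem' := by
        intro g hg v
        rw [hg (g⁻¹ v)]
        simp }
  have hnoncomm : y * x ≠ x * y := by
    intro h
    have h1 := congrArg (fun f => f a) h
    simp only [Perm.mul_apply] at h1
    rw [← hb, hyapp b, hyapp a] at h1
    rw [swap_apply_right, ← hb, swap_apply_right, swap_apply_left, ← hc,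
      swap_apply_of_ne_of_ne hca hcb] at h1
    exact hxca h1.symm
  obtain ⟨e, heS⟩ : ∃ e, e ∉ S := by
    by_contra hno
    push Not at hno
    have : S = Finset.univ := Finset.eq_univ_of_forall hno
    rw [this, Finset.card_univ, Fintype.card_fin] at hxcard
    omega
  obtain ⟨f, hf⟩ : ∃ f, f ∉ ({a, e} : Finset (Fin n)) := by
    by_contra hno
    push Not at hno
    have h1 : ({a, e} : Finset (Fin n)) = Finset.univ := Finset.eq_univ_of_forall hno
    have h2 := Finset.card_le_two (a := a) (b := e)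
    rw [h1, Finset.card_univ, Fintype.card_fin] at h2
    omega
  simp only [Finset.mem_insert, Finset.mem_singleton, not_or] at hf
  have hea : e ≠ a := fun h => heS (h ▸ haS)
  have h3 := isThreeCycle_swap_mul_swap_same hea (Ne.symm hf.2) (Ne.symm hf.1)
  refine ⟨q, x, y, swap e a * swap e f, H, hq, not_sq_dvd_factorial n q hq hnq, hxord, hyord,
    sign_of_odd_order x q hqodd hxord, sign_of_odd_order y q hqodd hyord, hnoncomm, h3.sign, ?_, ?_, ?_⟩
  · intro hmem
    have h4 := (hmem a).mp haS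
    rw [Perm.mul_apply, swap_apply_of_ne_of_ne hea.symm (Ne.symm hf.1), swap_apply_right] at h4
    exact heS h4
  · intro g hg v
    have h1 := support_pres x g hg v
    show v ∈ S ↔ g v ∈ S
    rw [hS, mem_support, mem_support]
    exact h1
  · intro g hg v
    have h1 := support_pres y g hg v
    show v ∈ S ↔ g v ∈ S
    rw [← hysupp, ← hysupp]
    exact h1

theorem card_alt_dvd (n : ℕ) : Nat.card ↥(alternatingGroup (Fin n)) ∣ n.factorial := by
  have h := Subgroup.card_subgroup_dvd_card (alternatingGroup (Fin n))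
  have h2 : Nat.card (Perm (Fin n)) = n.factorial := by
    rw [Nat.card_eq_fintype_card, Fintype.card_perm, Fintype.card_fin]
  rwa [h2] at h

theorem alt_large (n : ℕ) (hn : 6 ≤ n) :
    ¬ ∃ 𝓐 : Finset (Subgroup ↥(alternatingGroup (Fin n))), ((∀ A ∈ 𝓐, A ≠ ⊤) ∧ (∀ g : ↥(alternatingGroup (Fin n)), ∃ A ∈ 𝓐, g ∈ A)) ∧ (∀ 𝓑 : Finset (Subgroup ↥(alternatingGroup (Fin n))), (∀ A ∈ 𝓑, A ≠ ⊤) ∧ (∀ g : ↥(alternatingGroup (Fin n)), ∃ A ∈ 𝓑, g ∈ A) → 𝓐.card ≤ 𝓑.card) ∧ (∀ A ∈ 𝓐, Group.IsNilpotent ↥A) := by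
  obtain ⟨q, x, y, σ, H, hq, hdvd, hxo, hyo, hxs, hys, hne, hσs, hσH, hCx, hCy⟩ := data n hn
  haveI : Fact q.Prime := ⟨hq⟩
  let x' : ↥(alternatingGroup (Fin n)) := ⟨x, mem_alternatingGroup.mpr hxs⟩
  let y' : ↥(alternatingGroup (Fin n)) := ⟨y, mem_alternatingGroup.mpr hys⟩
  refine no_cover_of_prime (q := q) (fun h => hdvd (dvd_trans h (card_alt_dvd n))) x' y'
    (by rw [Subgroup.orderOf_mk, hxo]) (by rw [Subgroup.orderOf_mk, hyo]) ?_
    (H.comap (alternatingGroup (Fin n)).subtype) ?_ ?_ ?_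
  · intro h
    exact hne (congrArg Subtype.val h)
  · intro htop
    apply hσH
    have : (⟨σ, mem_alternatingGroup.mpr hσs⟩ : ↥(alternatingGroup (Fin n))) ∈ H.comap (alternatingGroup (Fin n)).subtype := by
      rw [htop]
      trivial
    exact this
  · intro g hg
    exact hCx g.1 (congrArg Subtype.val hg)
  · intro g hg
    exact hCy g.1 (congrArg Subtype.val hg)

theorem perm_large (n : ℕ) (hn : 6 ≤ n) :
    ¬ ∃ 𝓐 : Finset (Subgroup (Equiv.Perm (Fin n))), ((∀ A ∈ 𝓐, A ≠ ⊤) ∧ (∀ g : (Equiv.Perm (Fin n)), ∃ A ∈ 𝓐, g ∈ A)) ∧ (∀ 𝓑 : Finset (Subgroup (Equiv.Perm (Fin n))), (∀ A ∈ 𝓑, A ≠ ⊤) ∧ (∀ g : (Equiv.Perm (Fin n)), ∃ A ∈ 𝓑, g ∈ A) → 𝓐.card ≤ 𝓑.card) ∧ (∀ A ∈ 𝓐, Group.IsNilpotent ↥A) := by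
  obtain ⟨q, x, y, σ, H, hq, hdvd, hxo, hyo, hxs, hys, hne, hσs, hσH, hCx, hCy⟩ := data n hn
  haveI : Fact q.Prime := ⟨hq⟩
  refine no_cover_of_prime (q := q) ?_ x y hxo hyo hne H ?_ hCx hCy
  · rw [Nat.card_eq_fintype_card, Fintype.card_perm, Fintype.card_fin]
    exact hdvd
  · intro htop
    apply hσH
    rw [htop]
    trivial

set_option maxRecDepth 100000 in
theorem alt_five :
    ¬ ∃ 𝓐 : Finset (Subgroup ↥(alternatingGroup (Fin 5))), ((∀ A ∈ 𝓐, A ≠ ⊤) ∧ (∀ g : ↥(alternatingGroup (Fin 5)), ∃ A ∈ 𝓐, g ∈ A)) ∧ (∀ 𝓑 : Finset (Subgroup ↥(alternatingGroup (Fin 5))), (∀ A ∈ 𝓑, A ≠ ⊤) ∧ (∀ g : ↥(alternatingGroup (Fin 5)), ∃ A ∈ 𝓑, g ∈ A) → 𝓐.card ≤ 𝓑.card) ∧ (∀ A ∈ 𝓐, Group.IsNilpotent ↥A) := by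
  haveI : Fact (Nat.Prime 3) := ⟨by norm_num⟩
  let x : Perm (Fin 5) := swap 0 1 * swap 1 2
  let y : Perm (Fin 5) := swap 0 1 * swap 1 3
  have hxs : sign x = 1 := by decide
  have hys : sign y = 1 := by decide
  let x' : ↥(alternatingGroup (Fin 5)) := ⟨x, mem_alternatingGroup.mpr hxs⟩
  let y' : ↥(alternatingGroup (Fin 5)) := ⟨y, mem_alternatingGroup.mpr hys⟩
  let H : Subgroup ↥(alternatingGroup (Fin 5)) :=
    { carrier := {a | (a : Perm (Fin 5)) 4 = 4}
      mul_mem' := by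
        intro a b ha hb
        show ((a : Perm (Fin 5)) * (b : Perm (Fin 5))) 4 = 4
        rw [Perm.mul_apply, hb, ha]
      one_mem' := rfl
      inv_mem' := by
        intro a ha
        show ((a : Perm (Fin 5)))⁻¹ 4 = 4
        rw [Perm.inv_eq_iff_eq]
        exact ha.symm }
  have hx3 : orderOf x = 3 := orderOf_eq_prime (by decide) (by decide)
  have hy3 : orderOf y = 3 := orderOf_eq_prime (by decide) (by decide)
  have hCx : ∀ g : Perm (Fin 5), sign g = 1 → g * x = x * g → g 4 = 4 := by decide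
  have hCy : ∀ g : Perm (Fin 5), sign g = 1 → g * y = y * g → g 4 = 4 := by decide
  have hne : y * x ≠ x * y := by decide
  refine no_cover_of_prime (q := 3) (fun h => ?_) x' y'
    (by rw [Subgroup.orderOf_mk, hx3]) (by rw [Subgroup.orderOf_mk, hy3]) ?_ H ?_ ?_ ?_
  · have := dvd_trans h (card_alt_dvd 5)
    norm_num [Nat.factorial] at this
  · intro h
    exact hne (congrArg Subtype.val h)
  · intro htop
    let z : Perm (Fin 5) := swap 4 0 * swap 4 1
    have hzs : sign z = 1 := by decide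
    have : (⟨z, mem_alternatingGroup.mpr hzs⟩ : ↥(alternatingGroup (Fin 5))) ∈ H := by
      rw [htop]
      trivial
    have h2 : z 4 = 4 := this
    exact absurd h2 (by decide)
  · intro g hg
    exact hCx g.1 (mem_alternatingGroup.mp g.2) (congrArg Subtype.val hg)
  · intro g hg
    exact hCy g.1 (mem_alternatingGroup.mp g.2) (congrArg Subtype.val hg)

set_option maxRecDepth 100000 in
theorem perm_four :
    ¬ ∃ 𝓐 : Finset (Subgroup (Equiv.Perm (Fin 4))), ((∀ A ∈ 𝓐, A ≠ ⊤) ∧ (∀ g : (Equiv.Perm (Fin 4)), ∃ A ∈ 𝓐, g ∈ A)) ∧ (∀ 𝓑 : Finset (Subgroup (Equiv.Perm (Fin 4))), (∀ A ∈ 𝓑, A ≠ ⊤) ∧ (∀ g : (Equiv.Perm (Fin 4)), ∃ A ∈ 𝓑, g ∈ A) → 𝓐.card ≤ 𝓑.card) ∧ (∀ A ∈ 𝓐, Group.IsNilpotent ↥A) := by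
  haveI : Fact (Nat.Prime 3) := ⟨by norm_num⟩
  let x : Perm (Fin 4) := swap 0 1 * swap 1 2
  let y : Perm (Fin 4) := swap 0 1 * swap 1 3
  have hx3 : orderOf x = 3 := orderOf_eq_prime (by decide) (by decide)
  have hy3 : orderOf y = 3 := orderOf_eq_prime (by decide) (by decide)
  have hCx : ∀ g : Perm (Fin 4), g * x = x * g → sign g = 1 := by decide
  have hCy : ∀ g : Perm (Fin 4), g * y = y * g → sign g = 1 := by decide
  have hne : y * x ≠ x * y := by decide
  refine no_cover_of_prime (q := 3) ?_ x y hx3 hy3 hne (alternatingGroup (Fin 4)) ?_ ?_ ?_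
  · rw [Nat.card_eq_fintype_card, Fintype.card_perm, Fintype.card_fin]
    norm_num [Nat.factorial]
  · intro htop
    have : (swap 0 1 : Perm (Fin 4)) ∈ alternatingGroup (Fin 4) := by
      rw [htop]
      trivial
    exact absurd (mem_alternatingGroup.mp this) (by decide)
  · intro g hg
    exact mem_alternatingGroup.mpr (hCx g hg)
  · intro g hg
    exact mem_alternatingGroup.mpr (hCy g hg)

set_option maxRecDepth 100000 in
theorem perm_five :
    ¬ ∃ 𝓐 : Finset (Subgroup (Equiv.Perm (Fin 5))), ((∀ A ∈ 𝓐, A ≠ ⊤) ∧ (∀ g : (Equiv.Perm (Fin 5)), ∃ A ∈ 𝓐, g ∈ A)) ∧ (∀ 𝓑 : Finset (Subgroup (Equiv.Perm (Fin 5))), (∀ A ∈ 𝓑, A ≠ ⊤) ∧ (∀ g : (Equiv.Perm (Fin 5)), ∃ A ∈ 𝓑, g ∈ A) → 𝓐.card ≤ 𝓑.card) ∧ (∀ A ∈ 𝓐, Group.IsNilpotent ↥A) := by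
  haveI : Fact (Nat.Prime 5) := ⟨by norm_num⟩
  let x : Perm (Fin 5) := swap 0 1 * swap 1 2 * swap 2 3 * swap 3 4
  let y : Perm (Fin 5) := swap 0 1 * swap 1 2 * swap 2 4 * swap 4 3
  have hx3 : orderOf x = 5 := orderOf_eq_prime (by decide) (by decide)
  have hy3 : orderOf y = 5 := orderOf_eq_prime (by decide) (by decide)
  have hCx : ∀ g : Perm (Fin 5), g * x = x * g → sign g = 1 := by decide
  have hCy : ∀ g : Perm (Fin 5), g * y = y * g → sign g = 1 := by decide
  have hne : y * x ≠ x * y := by decide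
  refine no_cover_of_prime (q := 5) ?_ x y hx3 hy3 hne (alternatingGroup (Fin 5)) ?_ ?_ ?_
  · rw [Nat.card_eq_fintype_card, Fintype.card_perm, Fintype.card_fin]
    norm_num [Nat.factorial]
  · intro htop
    have : (swap 0 1 : Perm (Fin 5)) ∈ alternatingGroup (Fin 5) := by
      rw [htop]
      trivial
    exact absurd (mem_alternatingGroup.mp this) (by decide)
  · intro g hg
    exact mem_alternatingGroup.mpr (hCx g hg)
  · intro g hg
    exact mem_alternatingGroup.mpr (hCy g hg)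

/-- A cover of a group is a finite set of proper subgroups whose union is the whole group; it is minimal when no cover has fewer members, and nilpotent when all its members are nilpotent. The alternating groups of degree at least 5 and the symmetric groups of degree at least 4 have no nilpotent minimal cover. -/
theorem result (n : ℕ) :
    (5 ≤ n → ¬ ∃ 𝓐 : Finset (Subgroup ↥(alternatingGroup (Fin n))), ((∀ A ∈ 𝓐, A ≠ ⊤) ∧ (∀ g : ↥(alternatingGroup (Fin n)), ∃ A ∈ 𝓐, g ∈ A)) ∧ (∀ 𝓑 : Finset (Subgroup ↥(alternatingGroup (Fin n))), (∀ A ∈ 𝓑, A ≠ ⊤) ∧ (∀ g : ↥(alternatingGroup (Fin n)), ∃ A ∈ 𝓑, g ∈ A) → 𝓐.card ≤ 𝓑.card) ∧ (∀ A ∈ 𝓐, Group.IsNilpotent ↥A)) ∧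
    (4 ≤ n → ¬ ∃ 𝓐 : Finset (Subgroup (Equiv.Perm (Fin n))), ((∀ A ∈ 𝓐, A ≠ ⊤) ∧ (∀ g : (Equiv.Perm (Fin n)), ∃ A ∈ 𝓐, g ∈ A)) ∧ (∀ 𝓑 : Finset (Subgroup (Equiv.Perm (Fin n))), (∀ A ∈ 𝓑, A ≠ ⊤) ∧ (∀ g : (Equiv.Perm (Fin n)), ∃ A ∈ 𝓑, g ∈ A) → 𝓐.card ≤ 𝓑.card) ∧ (∀ A ∈ 𝓐, Group.IsNilpotent ↥A)) := by
  constructor
  · intro hn
    rcases Nat.lt_or_ge n 6 with h | h
    · have : n = 5 := by omega
      subst this
      exact alt_five
    · exact alt_large n h
  · intro hn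
    rcases Nat.lt_or_ge n 6 with h | h
    · have : n = 4 ∨ n = 5 := by omega
      rcases this with rfl | rfl
      · exact perm_four
      · exact perm_five
    · exact perm_large n h

end Cfsg.Agent.S3892
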