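import Mathlib
import Cfsg.Statements.S3893
import Cfsg.Agent.Lib.Suzuki3
import Cfsg.Agent.Lib.SuzukiIso

set_option autoImplicit false
set_option linter.unusedSectionVars false
set_option linter.unnecessarySimpa false
open Cfsg

namespace Cfsg.Agent.S3893

open Cfsg.Agent.Lib.SuzukiBasic Cfsg.Agent.Lib.Suzuki Cfsg.Agent.Lib.Suzuki2 Cfsg.Agent.Lib.Suzuki3

/-- Abstract criterion: a proper subgroup containing two nilpotency-forced elements which no nilpotent
subgroup contains together rules out nilpotent minimal covers. -/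
theorem no_nilp_min_cover {G : Type*} [Group G] (B : Subgroup G) (hB : B ≠ ⊤) (x y : G)
    (hx : ∀ A : Subgroup G, Group.IsNilpotent A → x ∈ A → A ≤ B)
    (hy : ∀ A : Subgroup G, Group.IsNilpotent A → y ∈ A → A ≤ B)
    (hxy : ∀ A : Subgroup G, Group.IsNilpotent A → x ∈ A → y ∉ A) :
    ¬ ∃ 𝓐 : Finset (Subgroup G), ((∀ A ∈ 𝓐, A ≠ ⊤) ∧ (∀ g : G, ∃ A ∈ 𝓐, g ∈ A)) ∧
      (∀ 𝓑 : Finset (Subgroup G), (∀ A ∈ 𝓑, A ≠ ⊤) ∧ (∀ g : G, ∃ A ∈ 𝓑, g ∈ A) → 𝓐.card ≤ 𝓑.card) ∧
      (∀ A ∈ 𝓐, Group.IsNilpotent A) := by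
  classical
  rintro ⟨𝓐, ⟨hne, hcov⟩, hmin, hnil⟩
  obtain ⟨A₁, hA₁, hx₁⟩ := hcov x
  obtain ⟨A₂, hA₂, hy₂⟩ := hcov y
  let f : Subgroup G → Subgroup G := fun A => if A ≤ B then B else A
  have hf : ∀ A, A ≤ f A := by
    intro A
    by_cases h : A ≤ B
    · simpa [f, h] using h
    · simp [f, h]
  have hf1 : f A₁ = B := by simp [f, hx A₁ (hnil A₁ hA₁) hx₁]
  have hf2 : f A₂ = B := by simp [f, hy A₂ (hnil A₂ hA₂) hy₂]
  have hne12 : A₁ ≠ A₂ := by
    rintro rfl
    exact hxy A₁ (hnil A₁ hA₁) hx₁ hy₂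
  have hle := hmin (𝓐.image f) ⟨by
    intro A hA
    obtain ⟨A', hA', rfl⟩ := Finset.mem_image.mp hA
    by_cases h : A' ≤ B
    · simpa [f, h] using hB
    · simpa [f, h] using hne A' hA', by
    intro g
    obtain ⟨A, hA, hg⟩ := hcov g
    exact ⟨f A, Finset.mem_image_of_mem f hA, hf A hg⟩⟩
  have hcard : (𝓐.image f).card = 𝓐.card := le_antisymm Finset.card_image_le hle
  have hinj := Finset.card_image_iff.mp hcard
  exact hne12 (hinj hA₁ hA₂ (hf1.trans hf2.symm))

variable {F : Type*} [Field F] [Fintype F] {m : ℕ}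

section main

variable [SzHyp F m] [CharP F 2]

theorem W_H_W (α : Fˣ) : W F * H m α * W F = H m α⁻¹ := by
  apply Subtype.ext
  change suzukiForm F * matH m (α : F) * suzukiForm F = matH m ((α⁻¹ : Fˣ) : F)
  have h1 : rho m (α : F) ≠ 0 := rho_ne_zero α.ne_zero
  have h3 := α.ne_zero
  have hr : rho m ((α⁻¹ : Fˣ) : F) = (rho m (α : F))⁻¹ := by
    simp [rho]
  ext i j
  rw [Matrix.mul_apply, Fin.sum_univ_four]
  simp only [Matrix.mul_apply, Fin.sum_univ_four, matH, hr]
  fin_cases i <;> fin_cases j <;> simp [suzukiForm] <;> ring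

theorem H_eq_one_iff {α : Fˣ} (h : H m α = 1) : α = 1 := by
  have h1 : H m α = H m (1 : Fˣ) := by rw [h, H_one]
  exact H_injective h1

theorem W_mul_W : W F * W F = 1 := W_mul_self

/-- Elements commuting with `H α`, `α ≠ 1`, fix both base points. -/
theorem fix_of_comm {g : SL4 F} (hg : g ∈ Sz F m) {α : Fˣ} (hα : α ≠ 1) (hc : g * H m α = H m α * g) :
    g • suzukiPointInfinity F = suzukiPointInfinity F ∧ g • pt m (0 : F) 0 = pt m (0 : F) 0 := by
  have hfix : ∀ p ∈ suzukiOvoid F m, H m α • p = p → p = suzukiPointInfinity F ∨ p = pt m (0 : F) 0 := by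
    intro p hp hpf
    rcases (mem_ovoid_iff p).1 hp with h | ⟨x, y, rfl⟩
    · exact Or.inl h
    · obtain ⟨rfl, rfl⟩ := H_fix_pt hα hpf
      exact Or.inr rfl
  have hinf : H m α • (g • suzukiPointInfinity F) = g • suzukiPointInfinity F := by
    rw [← mul_smul, ← hc, mul_smul, H_smul_pInf]
  have h0 : H m α • (g • pt m (0 : F) 0) = g • pt m (0 : F) 0 := by
    rw [← mul_smul, ← hc, mul_smul, H_smul_pt_zero]
  have hne : suzukiPointInfinity F ≠ pt m (0 : F) 0 := (pt_ne_inf _ _).symm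
  rcases hfix _ (smul_mem_ovoid hg inf_mem_ovoid) hinf with h1 | h1
  · rcases hfix _ (smul_mem_ovoid hg (pt_mem_ovoid 0 0)) h0 with h2 | h2
    · exact absurd (MulAction.injective g (h1.trans h2.symm)) hne
    · exact ⟨h1, h2⟩
  · rcases hfix _ (smul_mem_ovoid hg (pt_mem_ovoid 0 0)) h0 with h2 | h2
    · exfalso
      obtain ⟨γ, hγ⟩ := eq_H_of_fix (g * W F) (Subgroup.mul_mem _ hg W_mem)
        (by rw [mul_smul, W_smul_pInf (m := m), h2]) (by rw [mul_smul, W_smul_pt_zero (m := m), h1])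
      have hgW : g = H m γ * W F := by
        rw [← hγ, mul_assoc, W_mul_self, mul_one]
      have e1 : H m γ * (W F * H m α * W F) = H m α * H m γ := by
        have : g * H m α * W F = H m α * g * W F := by rw [hc]
        rw [hgW] at this
        calc H m γ * (W F * H m α * W F) = H m γ * W F * H m α * W F := by group
          _ = H m α * (H m γ * W F) * W F := this
          _ = H m α * H m γ * (W F * W F) := by group
          _ = H m α * H m γ := by rw [W_mul_self, mul_one]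
      rw [W_H_W, H_mul, H_mul] at e1
      have e2 := H_injective e1
      have e3 : α⁻¹ = α := by
        have : γ * α⁻¹ = γ * α := by rw [e2, mul_comm α γ]
        exact mul_left_cancel this
      have e4 : ((α : F)) ^ 2 = 1 := by
        have h5 : α * α = 1 := by
          calc α * α = α * α⁻¹ := by rw [e3]
            _ = 1 := mul_inv_cancel α
        have h6 := congrArg (Units.val) h5
        simpa [sq] using h6
      exact hα (Units.ext (sq_eq_one e4))
    · exact absurd (MulAction.injective g (h1.trans h2.symm)) hne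

/-- the torus element as an element of the group -/
def hElt (α : Fˣ) : Sz F m := ⟨H m α, H_mem α⟩

/-- The key: every element of a nilpotent subgroup containing a conjugate of a torus element fixes the
conjugates of the base points. -/
theorem key (A : Subgroup (Sz F m)) (hA : Group.IsNilpotent A) (s : Sz F m) {α : Fˣ} (hα : α ≠ 1)
    (hx : s * hElt α * s⁻¹ ∈ A) (a : Sz F m) (ha : a ∈ A) :
    (s⁻¹ * a * s).1 • suzukiPointInfinity F = suzukiPointInfinity F ∧
      (s⁻¹ * a * s).1 • pt m (0 : F) 0 = pt m (0 : F) 0 := by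
  have hxne : hElt (m := m) α ≠ 1 := by
    intro h
    exact hα (H_eq_one_iff (congrArg Subtype.val h))
  have hnt : Nontrivial A := by
    refine ⟨⟨⟨s * hElt α * s⁻¹, hx⟩, 1, ?_⟩⟩
    intro h
    have h1 : s * hElt α * s⁻¹ = 1 := congrArg Subtype.val h
    apply hxne
    have : hElt (m := m) α = s⁻¹ * (s * hElt α * s⁻¹) * s := by group
    rw [this, h1]
    group
  have hcb := Group.IsNilpotent.center_ne_bot (G := A)
  obtain ⟨z, hz⟩ := Subgroup.ne_bot_iff_exists_ne_one.1 hcb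
  have hzc : ∀ b : A, z.1 * b = b * z.1 := fun b => (Subgroup.mem_center_iff.1 z.2 b).symm
  have hz0 : z.1.1 ≠ 1 := by
    intro h
    apply hz
    exact Subtype.ext (Subtype.ext h)
  -- the conjugate of `z`
  set w : Sz F m := s⁻¹ * z.1.1 * s with hw
  have hcx : z.1.1 * (s * hElt α * s⁻¹) = (s * hElt α * s⁻¹) * z.1.1 :=
    congrArg Subtype.val (hzc ⟨_, hx⟩)
  have hw1 : w * hElt α = hElt α * w := by
    have : w * hElt α = s⁻¹ * (z.1.1 * (s * hElt α * s⁻¹)) * s := by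
      rw [hw]; group
    rw [this, hcx, hw]
    group
  have hwfix := fix_of_comm w.2 hα (congrArg Subtype.val hw1)
  obtain ⟨β, hβ⟩ := eq_H_of_fix w.1 w.2 hwfix.1 hwfix.2
  have hβ1 : β ≠ 1 := by
    rintro rfl
    rw [H_one] at hβ
    apply hz0
    have h1 : w = 1 := Subtype.ext hβ
    have : z.1.1 = s * w * s⁻¹ := by rw [hw]; group
    rw [this, h1]
    group
  have hca : z.1.1 * a = a * z.1.1 := congrArg Subtype.val (hzc ⟨a, ha⟩)
  have h2 : (s⁻¹ * a * s) * w = w * (s⁻¹ * a * s) := by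
    have : (s⁻¹ * a * s) * w = s⁻¹ * (a * z.1.1) * s := by rw [hw]; group
    rw [this, ← hca, hw]
    group
  have h3 : (s⁻¹ * a * s).1 * H m β = H m β * (s⁻¹ * a * s).1 := by
    rw [← hβ]
    exact congrArg Subtype.val h2
  exact fix_of_comm (s⁻¹ * a * s).2 hβ1 h3

/-- the translation -/
def tElt : Sz F m := ⟨T m 1 0, T_mem 1 0⟩

/-- the stabilizer of the point at infinity -/
def Bs (F : Type*) [Field F] [Fintype F] (m : ℕ) : Subgroup (Sz F m) :=
  MulAction.stabilizer (Sz F m) (suzukiPointInfinity F)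

theorem mem_Bs {a : Sz F m} : a ∈ Bs F m ↔ a.1 • suzukiPointInfinity F = suzukiPointInfinity F :=
  MulAction.mem_stabilizer_iff

theorem Bs_ne_top : Bs F m ≠ ⊤ := by
  intro h
  have h1 : (⟨W F, W_mem⟩ : Sz F m) ∈ Bs F m := by
    rw [h]
    exact Subgroup.mem_top _
  rw [mem_Bs] at h1
  have h2 : W F • suzukiPointInfinity F = suzukiPointInfinity F := h1
  rw [W_smul_pInf (m := m)] at h2
  exact pt_ne_inf _ _ h2

theorem x_forced {α : Fˣ} (hα : α ≠ 1) (A : Subgroup (Sz F m)) (hA : Group.IsNilpotent A)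
    (hx : hElt α ∈ A) : ∀ a ∈ A, a.1 • suzukiPointInfinity F = suzukiPointInfinity F ∧
      a.1 • pt m (0 : F) 0 = pt m (0 : F) 0 := by
  intro a ha
  have := key A hA 1 hα (by simpa using hx) a ha
  simpa using this

theorem y_forced {α : Fˣ} (hα : α ≠ 1) (A : Subgroup (Sz F m)) (hA : Group.IsNilpotent A)
    (hy : tElt * hElt α * tElt⁻¹ ∈ A) : ∀ a ∈ A, a.1 • suzukiPointInfinity F = suzukiPointInfinity F ∧
      a.1 • pt m (1 : F) 0 = pt m (1 : F) 0 := by
  intro a ha
  obtain ⟨h1, h2⟩ := key A hA tElt hα hy a ha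
  have hs : ∀ p : Projectivization F (Fin 4 → F), (tElt⁻¹ * a * tElt : Sz F m).1 • p = p →
      a.1 • (T m (1 : F) 0 • p) = T m (1 : F) 0 • p := by
    intro p hp
    have e : (tElt⁻¹ * a * tElt : Sz F m).1 = (T m (1 : F) 0)⁻¹ * a.1 * T m (1 : F) 0 := rfl
    rw [e, mul_smul, mul_smul] at hp
    have := congrArg (fun q => T m (1 : F) 0 • q) hp
    simpa using this
  constructor
  · have := hs _ h1
    rwa [T_smul_pInf] at this
  · have := hs _ h2
    rwa [T_smul_pt_zero] at this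

theorem forced_ne {α : Fˣ} (hα : α ≠ 1) (A : Subgroup (Sz F m)) (hA : Group.IsNilpotent A)
    (hx : hElt α ∈ A) : tElt * hElt α * tElt⁻¹ ∉ A := by
  intro hy
  obtain ⟨h1, h2⟩ := x_forced hα A hA hx _ hx
  obtain ⟨_, h3⟩ := y_forced hα A hA hy _ hx
  have hne01 : pt m (0 : F) 0 ≠ pt m (1 : F) 0 := by
    intro h
    have := pt_injective (m := m) (a₁ := ((0 : F), (0 : F))) (a₂ := ((1 : F), (0 : F))) h
    simp at this
  have := eq_one_of_fix_three (hElt (m := m) α).2 inf_mem_ovoid (pt_mem_ovoid (m := m) (0 : F) 0)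
    (pt_mem_ovoid (m := m) (1 : F) 0) (pt_ne_inf _ _).symm hne01 (pt_ne_inf _ _).symm h1 h2 h3
  exact hα (H_eq_one_iff this)

end main

/-- Transport along an isomorphism. -/
theorem comap_nilp {G G' : Type*} [Group G] [Group G'] (e : G ≃* G') (A' : Subgroup G')
    (h : Group.IsNilpotent A') : Group.IsNilpotent (A'.comap e.toMonoidHom) := by
  have h1 : (A'.comap e.toMonoidHom).map e.toMonoidHom = A' :=
    Subgroup.map_comap_eq_self_of_surjective e.surjective A'
  let φ : (A'.comap e.toMonoidHom) ≃* A' :=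
    (e.subgroupMap _).trans (MulEquiv.subgroupCongr h1)
  exact (Group.isNilpotent_congr φ).2 h

/-- The Suzuki groups have no nilpotent minimal covers. -/
theorem result {F : Type*} [Field F] [Fintype F] (m : ℕ) (hm : 1 ≤ m) (hF : Fintype.card F = 2 ^ (2 * m + 1)) :
    ¬ ∃ 𝓐 : Finset (Subgroup ↥(Cfsg.Lie.Sz F (2 ^ (m + 1)))), ((∀ A ∈ 𝓐, A ≠ ⊤) ∧ (∀ g : ↥(Cfsg.Lie.Sz F (2 ^ (m + 1))), ∃ A ∈ 𝓐, g ∈ A)) ∧ (∀ 𝓑 : Finset (Subgroup ↥(Cfsg.Lie.Sz F (2 ^ (m + 1)))), (∀ A ∈ 𝓑, A ≠ ⊤) ∧ (∀ g : ↥(Cfsg.Lie.Sz F (2 ^ (m + 1))), ∃ A ∈ 𝓑, g ∈ A) → 𝓐.card ≤ 𝓑.card) ∧ (∀ A ∈ 𝓐, Group.IsNilpotent ↥A) := by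
  have : SzHyp F m := ⟨hm, hF⟩
  have : CharP F 2 := charP_two F m
  obtain ⟨α, hα⟩ := exists_unit_ne_one F m
  let e : Sz F m ≃* Lie.Sz F (2 ^ (m + 1)) := Cfsg.Agent.Lib.SuzukiIso.szEquiv
  have hsurj : Function.Surjective e.toMonoidHom := e.surjective
  refine no_nilp_min_cover ((Bs F m).map e.toMonoidHom) ?_ (e (hElt α)) (e (tElt * hElt α * tElt⁻¹)) ?_ ?_ ?_
  · intro h
    apply Bs_ne_top (F := F) (m := m)
    rw [eq_top_iff]
    intro a _
    have h1 : e a ∈ (Bs F m).map e.toMonoidHom := by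
      rw [h]
      exact Subgroup.mem_top _
    obtain ⟨b, hb, hba⟩ := h1
    have : b = a := e.injective hba
    exact this ▸ hb
  · intro A' hA' hx a' ha'
    have hc := comap_nilp e A' hA'
    have h1 := x_forced hα (A'.comap e.toMonoidHom) hc hx (e.symm a') (by simpa using ha')
    refine ⟨e.symm a', mem_Bs.2 h1.1, by simp⟩
  · intro A' hA' hx a' ha'
    have hc := comap_nilp e A' hA'
    have h1 := y_forced hα (A'.comap e.toMonoidHom) hc hx (e.symm a') (by simpa using ha')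
    refine ⟨e.symm a', mem_Bs.2 h1.1, by simp⟩
  · intro A' hA' hx hy
    have hc := comap_nilp e A' hA'
    exact forced_ne hα (A'.comap e.toMonoidHom) hc hx hy

end Cfsg.Agent.S3893
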