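import Mathlib
import Cfsg.Statements.S3898
import Cfsg.Agent.Lib.KPiFinal
import Cfsg.Agent.Lib.PCore
import Cfsg.Agent.S0215

set_option autoImplicit false
open Cfsg

namespace Cfsg.Agent.S3898

open Cfsg.Agent.Lib.PClasses Cfsg.Agent.Lib.PiClasses Cfsg.Agent.Lib.KPiKey

universe u

section basics

variable {G : Type*} [Group G] [Finite G]

theorem relIndex_mul_card' {A B : Subgroup G} (h : A ≤ B) :
    A.relIndex B * Nat.card A = Nat.card B := by
  have h4 : (A.subgroupOf B).index * Nat.card (A.subgroupOf B) = Nat.card B :=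
    Subgroup.index_mul_card _
  have h5 : Nat.card (A.subgroupOf B) = Nat.card A :=
    Nat.card_congr (Subgroup.subgroupOfEquivOfLe h).toEquiv
  rw [h5] at h4
  exact h4

/-- Two `p`-elements in one coset of a normal `p'`-subgroup are conjugate. -/
theorem isConj_of_mul_mem {p : ℕ} [hp : Fact p.Prime] (N : Subgroup G) [hNn : N.Normal]
    (hN : ¬ p ∣ Nat.card N) {x y : G} {a b : ℕ} (hx : orderOf x = p ^ a) (hy : orderOf y = p ^ b)
    (hxy : x⁻¹ * y ∈ N) : IsConj x y := by
  set U := Subgroup.zpowers x with hU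
  have hUp : Nat.card U = p ^ a := by rw [hU, Nat.card_zpowers, hx]
  have hcop : (Nat.card U).Coprime (Nat.card N) := by
    rw [hUp]
    exact Nat.Coprime.pow_left _ ((Nat.Prime.coprime_iff_not_dvd hp.out).2 hN)
  have hbot : U ⊓ N = ⊥ := (Subgroup.disjoint_of_coprime_natCard hcop).eq_bot
  have h1 : N.relIndex (U ⊔ N) = Nat.card U := by
    rw [Subgroup.relIndex_sup_right, ← Subgroup.inf_relIndex_left, hbot, Subgroup.relIndex_bot_left]
  have h2 := relIndex_mul_card' (le_sup_left : U ≤ U ⊔ N)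
  have h3 := relIndex_mul_card' (le_sup_right : N ≤ U ⊔ N)
  have h4 : U.relIndex (U ⊔ N) = Nat.card N := by
    rw [h1] at h3
    exact Nat.eq_of_mul_eq_mul_right Nat.card_pos (by rw [h2, ← h3, mul_comm])
  have hyX : y ∈ U ⊔ N := by
    have : y = x * (x⁻¹ * y) := by group
    rw [this]
    exact Subgroup.mul_mem_sup (Subgroup.mem_zpowers x) hxy
  obtain ⟨c, hc, hcy⟩ := Cfsg.Agent.Lib.KPi.conj_into le_sup_left hyX hy (by rw [h4]; exact hN)
  have hcmem : c ∈ (↑(U ⊔ N) : Set G) := hc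
  rw [Subgroup.mul_normal] at hcmem
  obtain ⟨u, hu, n, hn, rfl⟩ := Set.mem_mul.mp hcmem
  obtain ⟨j, hj⟩ := Subgroup.mem_zpowers_iff.mp hcy
  obtain ⟨i, rfl⟩ := Subgroup.mem_zpowers_iff.mp hu
  have h5 : n * y * n⁻¹ = x ^ j := by
    have h6 : x ^ i * (n * y * n⁻¹) * (x ^ i)⁻¹ = x ^ j := by rw [hj]; group
    have h7 : n * y * n⁻¹ = (x ^ i)⁻¹ * x ^ j * x ^ i := by rw [← h6]; group
    rw [h7, ← zpow_neg, ← zpow_add, ← zpow_add]
    congr 1
    ring
  have h6 : x ^ (j - 1) ∈ N := by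
    have h7 : x ^ (j - 1) = (x⁻¹ * y) * (y⁻¹ * n * y) * n⁻¹ := by
      have h8 : x ^ (j - 1) = x⁻¹ * x ^ j := by
        rw [← zpow_neg_one, ← zpow_add]
        congr 1
        ring
      rw [h8, ← h5]
      group
    rw [h7]
    refine N.mul_mem (N.mul_mem hxy ?_) (N.inv_mem hn)
    simpa using hNn.conj_mem n hn y⁻¹
  have h7 : x ^ (j - 1) = 1 := by
    have h8 : orderOf (x ^ (j - 1)) ∣ Nat.card N := by
      have := orderOf_dvd_natCard (⟨_, h6⟩ : N)
      rwa [Subgroup.orderOf_mk] at this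
    have h9 : orderOf (x ^ (j - 1)) ∣ p ^ a := by
      rw [← hx]
      exact orderOf_dvd_of_pow_eq_one (by
        rw [← zpow_natCast, ← zpow_mul, mul_comm, zpow_mul, zpow_natCast, pow_orderOf_eq_one,
          one_zpow])
    have h10 : (p ^ a).Coprime (Nat.card N) :=
      Nat.Coprime.pow_left _ ((Nat.Prime.coprime_iff_not_dvd hp.out).2 hN)
    exact orderOf_eq_one_iff.mp (Nat.eq_one_of_dvd_coprimes h10 h9 h8)
  have h8 : x ^ j = x := by
    have h9 : x ^ j = x ^ (j - 1) * x := by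
      rw [← zpow_add_one]
      congr 1
      ring
    rw [h9, h7, one_mul]
  refine isConj_iff.mpr ⟨n⁻¹, ?_⟩
  rw [← h8, ← h5]
  group

/-- Powers of an isolated `p`-element are isolated. -/
theorem isolated_power {p : ℕ} [hp : Fact p.Prime] (P : Sylow p G) {x u : G}
    (hxP : x ∈ (P : Subgroup G))
    (hiso : ∀ g : G, g * x * g⁻¹ ∈ (P : Subgroup G) → g * x * g⁻¹ = x)
    (hu : u ∈ Subgroup.zpowers x) (g : G) (hw : g * u * g⁻¹ ∈ (P : Subgroup G)) :
    g * u * g⁻¹ = u := by
  classical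
  set w := g * u * g⁻¹ with hwdef
  have hxcent : ∀ a ∈ (P : Subgroup G), a * x * a⁻¹ = x := fun a ha =>
    hiso a ((P : Subgroup G).mul_mem ((P : Subgroup G).mul_mem ha hxP) ((P : Subgroup G).inv_mem ha))
  obtain ⟨k, hk⟩ : ∃ k, orderOf x = p ^ k := by
    have hPp := P.isPGroup'
    obtain ⟨k, hk⟩ := hPp ⟨x, hxP⟩
    have h1 : x ^ (p ^ k) = 1 := by simpa using congrArg Subtype.val hk
    obtain ⟨j, -, hj⟩ := (Nat.dvd_prime_pow hp.out).mp (orderOf_dvd_of_pow_eq_one h1)
    exact ⟨j, hj⟩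
  let C : Subgroup G := Subgroup.centralizer ({w} : Set G)
  have hxC : x ∈ C := by
    rw [Subgroup.mem_centralizer_singleton_iff]
    have := hxcent w hw
    calc x * w = w * x * w⁻¹ * w := by rw [this]
      _ = w * x := by group
  have hucomm : u * x = x * u := by
    obtain ⟨i, rfl⟩ := Subgroup.mem_zpowers_iff.mp hu
    exact (Commute.refl x).zpow_left i
  have hgxC : g * x * g⁻¹ ∈ C := by
    rw [Subgroup.mem_centralizer_singleton_iff]
    rw [hwdef]
    calc g * x * g⁻¹ * (g * u * g⁻¹) = g * (x * u) * g⁻¹ := by group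
      _ = g * (u * x) * g⁻¹ := by rw [hucomm]
      _ = _ := by group
  let x' : C := ⟨x, hxC⟩
  let z' : C := ⟨g * x * g⁻¹, hgxC⟩
  have hx'o : orderOf x' = p ^ k := by rw [Subgroup.orderOf_mk, hk]
  have hz'o : orderOf z' = p ^ k := by
    rw [Subgroup.orderOf_mk, orderOf_eq_of_isConj (isConj_iff.mpr ⟨g, rfl⟩ : IsConj x _).symm, hk]
  have hpx' : IsPGroup p (Subgroup.zpowers x') := by
    rw [IsPGroup.iff_card, Nat.card_zpowers, hx'o]
    exact ⟨k, rfl⟩
  obtain ⟨Q, hQ⟩ := hpx'.exists_le_sylow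
  obtain ⟨c, hc⟩ := exists_conj_mem_sylow Q z' hz'o
  have hQG : IsPGroup p ((Q : Subgroup C).map C.subtype) := Q.isPGroup'.map _
  obtain ⟨S, hS⟩ := hQG.exists_le_sylow
  obtain ⟨h, rfl⟩ := MulAction.exists_smul_eq G P S
  have hm : ∀ a : C, a ∈ (Q : Subgroup C) → h⁻¹ * (a : G) * h ∈ (P : Subgroup G) := by
    intro a ha
    have h1 : (a : G) ∈ ((h • P : Sylow p G) : Subgroup G) := hS ⟨a, ha, rfl⟩
    rw [Sylow.coe_subgroup_smul, Cfsg.Agent.Lib.PCore.mem_conj_smul_iff] at h1
    exact h1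
  have h1 : h⁻¹ * x * h = x := by
    have h2 := hm x' (hQ (Subgroup.mem_zpowers x'))
    have h3 := hiso h⁻¹ (by simpa using h2)
    simpa using h3
  have h2 : (h⁻¹ * (c : G) * g) * x * (h⁻¹ * (c : G) * g)⁻¹ = x := by
    apply hiso
    have h3 := hm _ hc
    have h4 : h⁻¹ * ((c * z' * c⁻¹ : C) : G) * h = (h⁻¹ * (c : G) * g) * x * (h⁻¹ * (c : G) * g)⁻¹ := by
      show h⁻¹ * ((c : G) * (g * x * g⁻¹) * (c : G)⁻¹) * h = _
      group
    rwa [h4] at h3
  have h3 : ((c : G) * g) * x * ((c : G) * g)⁻¹ = x := by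
    have h4 : h * x * h⁻¹ = x := by
      conv_lhs => rw [← h1]
      group
    calc ((c : G) * g) * x * ((c : G) * g)⁻¹
        = h * ((h⁻¹ * (c : G) * g) * x * (h⁻¹ * (c : G) * g)⁻¹) * h⁻¹ := by group
      _ = x := by rw [h2, h4]
  have h4 : ((c : G) * g) * u * ((c : G) * g)⁻¹ = u := by
    obtain ⟨i, rfl⟩ := Subgroup.mem_zpowers_iff.mp hu
    have := (MulAut.conj ((c : G) * g)).toMonoidHom.map_zpow x i
    simp only [MulEquiv.coe_toMonoidHom, MulAut.conj_apply] at this
    rw [this, h3]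
  have hcw : (c : G) * w = w * (c : G) := by
    have := Subgroup.mem_centralizer_singleton_iff.mp c.2
    exact this
  have h5 : (c : G) * w * (c : G)⁻¹ = w := by
    rw [hcw]; group
  rw [← h5]
  calc (c : G) * w * (c : G)⁻¹ = ((c : G) * g) * u * ((c : G) * g)⁻¹ := by
        rw [hwdef]; group
    _ = u := h4

/-- Many classes of `2`-elements give a nontrivial isolated element in a Sylow subgroup. -/
theorem exists_isolated (P : Sylow 2 G) (hP : 2 ∣ Nat.card (P : Subgroup G))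
    (hk : Nat.card (P : Subgroup G) < 2 * Nat.card (PClassSet 2 G)) :
    ∃ x ∈ (P : Subgroup G), x ≠ 1 ∧
      ∀ g : G, g * x * g⁻¹ ∈ (P : Subgroup G) → g * x * g⁻¹ = x := by
  classical
  by_contra hcon
  push Not at hcon
  have : Fintype ↥(P : Subgroup G) := Fintype.ofFinite _
  let w : ↥(P : Subgroup G) → ℚ := fun x => if x = 1 then 1 else 1 / 2
  have hw0 : ∀ x, 0 ≤ w x := by
    intro x
    simp only [w]
    split_ifs <;> norm_num
  have hw : ∀ x : ↥(P : Subgroup G), 1 ≤ w x * ((Finset.univ.filter (fun x' : ↥(P : Subgroup G) =>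
      ConjClasses.mk (x' : G) = ConjClasses.mk (x : G))).card : ℚ) := by
    intro x
    have hx1 : 1 ≤ (Finset.univ.filter (fun x' : ↥(P : Subgroup G) =>
      ConjClasses.mk (x' : G) = ConjClasses.mk (x : G))).card :=
      Finset.card_pos.mpr ⟨x, by simp⟩
    by_cases hxF : x = 1
    · simp only [w, if_pos hxF, one_mul]
      exact_mod_cast hx1
    · simp only [w, if_neg hxF]
      obtain ⟨g, hg1, hg2⟩ := hcon x x.2 (fun h => hxF (Subtype.ext h))
      let y : ↥(P : Subgroup G) := ⟨_, hg1⟩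
      have hne : y ≠ x := fun h => hg2 (congrArg Subtype.val h)
      have h2 : 2 ≤ (Finset.univ.filter (fun x' : ↥(P : Subgroup G) =>
          ConjClasses.mk (x' : G) = ConjClasses.mk (x : G))).card := by
        have hsub : ({y, x} : Finset ↥(P : Subgroup G)) ⊆ Finset.univ.filter
            (fun x' : ↥(P : Subgroup G) => ConjClasses.mk (x' : G) = ConjClasses.mk (x : G)) := by
          intro z hz
          simp only [Finset.mem_insert, Finset.mem_singleton] at hz
          simp only [Finset.mem_filter, Finset.mem_univ, true_and]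
          rcases hz with rfl | rfl
          · rw [ConjClasses.mk_eq_mk_iff_isConj]
            exact (isConj_iff.mpr ⟨g, rfl⟩).symm
          · rfl
        calc 2 = ({y, x} : Finset ↥(P : Subgroup G)).card := (Finset.card_pair hne).symm
          _ ≤ _ := Finset.card_le_card hsub
      have h2' : (2 : ℚ) ≤ _ := Nat.cast_le.mpr h2
      have := mul_le_mul_of_nonneg_left h2' (by norm_num : (0 : ℚ) ≤ 1 / 2)
      refine le_trans ?_ this
      norm_num
  have hmain := pClasses_card_le_sum (p := 2) P w hw0 hw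
  have hsum : ∑ x, w x = ((Nat.card ↥(P : Subgroup G) : ℚ) + 1) / 2 := by
    have h1 : ∀ x : ↥(P : Subgroup G), w x = 1 / 2 + (if x = 1 then (1 / 2 : ℚ) else 0) := by
      intro x
      simp only [w]
      split_ifs <;> norm_num
    rw [Finset.sum_congr rfl (fun x _ => h1 x), Finset.sum_add_distrib, Finset.sum_const,
      Finset.sum_ite_eq' Finset.univ (1 : ↥(P : Subgroup G)) (fun _ => (1 / 2 : ℚ)),
      Finset.card_univ, nsmul_eq_mul, if_pos (Finset.mem_univ _), Nat.card_eq_fintype_card]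
    ring
  rw [hsum] at hmain
  have hq : (2 * Nat.card (PClassSet 2 G) : ℚ) ≤ Nat.card ↥(P : Subgroup G) + 1 := by
    linarith
  have hq' : 2 * Nat.card (PClassSet 2 G) ≤ Nat.card ↥(P : Subgroup G) + 1 := by exact_mod_cast hq
  obtain ⟨m, hm⟩ := hP
  omega

/-- A normal subgroup of order `2 d`, `d` odd, has a `G`-normal subgroup of order `d`. -/
theorem exists_odd_normal (M : Subgroup G) [hMn : M.Normal] {d : ℕ} (hd : Odd d)
    (hM : Nat.card M = 2 * d) : ∃ K : Subgroup G, K.Normal ∧ K ≤ M ∧ Nat.card K = d := by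
  classical
  haveI : Fact (Nat.Prime 2) := ⟨Nat.prime_two⟩
  obtain ⟨P₂⟩ : Nonempty (Sylow 2 ↥M) := inferInstance
  have hd0 : d ≠ 0 := by
    rintro rfl
    simp at hd
  have hcard : Nat.card ↥(P₂ : Subgroup ↥M) = 2 := by
    rw [P₂.card_eq_multiplicity, hM, Nat.factorization_mul (by norm_num) hd0]
    have h1 : (Nat.factorization d) 2 = 0 :=
      Nat.factorization_eq_zero_of_not_dvd (fun h => by
        obtain ⟨e, he⟩ := hd
        omega)
    simp [h1, Nat.Prime.factorization_self Nat.prime_two]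
  have hN : Subgroup.normalizer ((P₂ : Subgroup ↥M) : Set ↥M) ≤
      Subgroup.centralizer ((P₂ : Subgroup ↥M) : Set ↥M) := by
    intro n hn
    rw [Subgroup.mem_centralizer_iff]
    intro x hx
    by_cases hx1 : x = 1
    · simp [hx1]
    have ht : n * x * n⁻¹ ∈ (P₂ : Subgroup ↥M) :=
      (Subgroup.mem_normalizer_iff.mp hn x).mp hx
    have hne : n * x * n⁻¹ ≠ 1 := by
      intro h
      apply hx1
      have : x = n⁻¹ * (n * x * n⁻¹) * n := by group
      rw [this, h]
      group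
    obtain ⟨y, -, hy⟩ := (Nat.card_eq_two_iff' (1 : ↥(P₂ : Subgroup ↥M))).mp hcard
    have h1 : (⟨x, hx⟩ : ↥(P₂ : Subgroup ↥M)) = y :=
      hy _ (fun h => hx1 (congrArg Subtype.val h))
    have h2 : (⟨_, ht⟩ : ↥(P₂ : Subgroup ↥M)) = y :=
      hy _ (fun h => hne (congrArg Subtype.val h))
    have h3 : n * x * n⁻¹ = x := by
      have := h2.trans h1.symm
      exact congrArg Subtype.val this
    calc x * n = n * x * n⁻¹ * n := by rw [h3]
      _ = n * x := by group
  obtain ⟨P₀, N, hNn, hc⟩ := hasNormalPComplement_of_normalizer_le P₂ hN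
  have hidx : N.index = 2 := by
    rw [hc.symm.index_eq_card, P₀.card_eq_multiplicity, ← P₂.card_eq_multiplicity, hcard]
  have hNcard : Nat.card N = d := by
    have h1 := Subgroup.card_mul_index N
    rw [hidx, hM] at h1
    omega
  refine ⟨N.map M.subtype, ⟨?_⟩, ?_, ?_⟩
  · rintro _ ⟨k, hk, rfl⟩ g
    have hy : g * (k : G) * g⁻¹ ∈ M := hMn.conj_mem _ k.2 g
    refine ⟨⟨_, hy⟩, ?_, rfl⟩
    have hord : orderOf (⟨_, hy⟩ : ↥M) ∣ d := by
      rw [Subgroup.orderOf_mk, ← orderOf_eq_of_isConj (isConj_iff.mpr ⟨g, rfl⟩ : IsConj (k : G) _),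
        Subgroup.orderOf_coe, ← hNcard]
      have := orderOf_dvd_natCard (⟨k, hk⟩ : N)
      rwa [Subgroup.orderOf_mk] at this
    obtain ⟨e, he⟩ := hd
    have h1 := Subgroup.sq_mem_of_index_two hidx (⟨_, hy⟩ : ↥M)
    have h2 : (⟨_, hy⟩ : ↥M) = ((⟨_, hy⟩ : ↥M) ^ 2) ^ (e + 1) := by
      rw [← pow_mul]
      have h3 : 2 * (e + 1) = d + 1 := by omega
      rw [h3, pow_succ, pow_eq_one_iff_modEq.mpr _, one_mul]
      exact (Nat.modEq_zero_iff_dvd.mpr hord)
    rw [h2]
    exact N.pow_mem h1 _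
  · rintro _ ⟨k, hk, rfl⟩
    exact k.2
  · rw [Subgroup.card_map_of_injective M.subtype_injective, hNcard]

/-- An element acting with prime order, of prime power order. -/
theorem exists_prime_elt (N C : Subgroup G) {n : G} (hnN : n ∈ N) (hn : n ∉ C) :
    ∃ (y : G) (r k : ℕ), r.Prime ∧ y ∈ N ∧ y ∉ C ∧ y ^ r ∈ C ∧ orderOf y = r ^ k := by
  classical
  have hex : ∃ d : ℕ, 0 < d ∧ n ^ d ∈ C :=
    ⟨orderOf n, orderOf_pos n, by rw [pow_orderOf_eq_one]; exact C.one_mem⟩
  let d := Nat.find hex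
  have hd : 0 < d ∧ n ^ d ∈ C := Nat.find_spec hex
  have hd1 : d ≠ 1 := by
    intro h
    have := hd.2
    rw [h, pow_one] at this
    exact hn this
  let r := d.minFac
  have hr : r.Prime := Nat.minFac_prime hd1
  obtain ⟨e, he⟩ : r ∣ d := Nat.minFac_dvd d
  have he0 : 0 < e := by
    rcases Nat.eq_zero_or_pos e with h | h
    · rw [h, mul_zero] at he
      exact absurd he hd.1.ne'
    · exact h
  have helt : e < d := by
    rw [he]
    exact lt_mul_of_one_lt_left he0 hr.one_lt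
  let n' := n ^ e
  have hn'N : n' ∈ N := N.pow_mem hnN _
  have hn'C : n' ∉ C := fun h => Nat.find_min hex helt ⟨he0, h⟩
  have hn'r : n' ^ r ∈ C := by
    show (n ^ e) ^ r ∈ C
    rw [← pow_mul, mul_comm, ← he]
    exact hd.2
  obtain ⟨y, w, h1, h2, ⟨k, hk⟩, h4, -, hy, hw⟩ := Cfsg.Agent.S4106.primary_decomp r hr n'
  obtain ⟨a, rfl⟩ := Subgroup.mem_zpowers_iff.mp hy
  obtain ⟨b, rfl⟩ := Subgroup.mem_zpowers_iff.mp hw
  have hwC : n' ^ b ∈ C := by
    have h5 : ((n' ^ b) ^ r) ∈ C := by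
      rw [← zpow_natCast, ← zpow_mul, mul_comm, zpow_mul, zpow_natCast]
      exact C.zpow_mem hn'r b
    have hc : r.Coprime (orderOf (n' ^ b)) := (Nat.Prime.coprime_iff_not_dvd hr).2 h4
    obtain ⟨m, hm⟩ := exists_pow_eq_self_of_coprime hc
    rw [← hm]
    exact C.pow_mem h5 m
  refine ⟨n' ^ a, r, k, hr, N.zpow_mem hn'N a, ?_, ?_, hk⟩
  · intro h
    apply hn'C
    rw [h1]
    exact C.mul_mem h hwC
  · rw [← zpow_natCast, ← zpow_mul, mul_comm, zpow_mul, zpow_natCast]
    exact C.zpow_mem hn'r a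

/-- An element acting on a Sylow subgroup with prime order `r` bounds the classes. -/
theorem mul_pClasses_le {p r : ℕ} [hpp : Fact p.Prime] (hr : r.Prime) (P : Sylow p G) (t : G)
    (htN : t ∈ Subgroup.normalizer ((P : Subgroup G) : Set G))
    (htC : t ∉ Subgroup.centralizer ((P : Subgroup G) : Set G))
    (htr : t ^ r ∈ Subgroup.centralizer ((P : Subgroup G) : Set G)) :
    p * r * Nat.card (PClassSet p G) ≤ (p + (r - 1)) * Nat.card ↥(P : Subgroup G) := by
  classical
  have : Fintype ↥(P : Subgroup G) := Fintype.ofFinite _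
  let F : Subgroup ↥(P : Subgroup G) :=
    { carrier := {x | t * (x : G) * t⁻¹ = x}
      mul_mem' := by
        intro a b ha hb
        simp only [Set.mem_ofPred_eq, Subgroup.coe_mul] at *
        calc t * (a * b) * t⁻¹ = (t * a * t⁻¹) * (t * b * t⁻¹) := by group
          _ = a * b := by rw [ha, hb]
      one_mem' := by simp
      inv_mem' := by
        intro a ha
        simp only [Set.mem_ofPred_eq, Subgroup.coe_inv] at *
        calc t * (a : G)⁻¹ * t⁻¹ = (t * a * t⁻¹)⁻¹ := by group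
          _ = (a : G)⁻¹ := by rw [ha] }
  have hFmem : ∀ x : ↥(P : Subgroup G), x ∈ F ↔ t * (x : G) * t⁻¹ = x := fun x => Iff.rfl
  have hFtop : F ≠ ⊤ := by
    intro h
    apply htC
    rw [Subgroup.mem_centralizer_iff]
    intro x hx
    have : (⟨x, hx⟩ : ↥(P : Subgroup G)) ∈ F := by rw [h]; trivial
    rw [hFmem] at this
    simp only at this
    calc x * t = t * x * t⁻¹ * t := by rw [this]
      _ = t * x := by group
  have hPp : IsPGroup p ↥(P : Subgroup G) := P.isPGroup'
  have hidx : p * Nat.card F ≤ Nat.card ↥(P : Subgroup G) := by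
    obtain ⟨k, hk⟩ := hPp.index F
    have hk0 : k ≠ 0 := by
      rintro rfl
      rw [pow_zero, Subgroup.index_eq_one] at hk
      exact hFtop hk
    have hle : p ≤ F.index := by
      rw [hk]
      exact Nat.le_self_pow hk0 p
    calc p * Nat.card F ≤ F.index * Nat.card F := Nat.mul_le_mul_right _ hle
      _ = Nat.card F * F.index := Nat.mul_comm _ _
      _ = Nat.card ↥(P : Subgroup G) := Subgroup.card_mul_index F
  have hr0 : (0 : ℚ) < r := by exact_mod_cast hr.pos
  let w : ↥(P : Subgroup G) → ℚ := fun x => if x ∈ F then 1 else 1 / r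
  have hw0 : ∀ x, 0 ≤ w x := by
    intro x
    simp only [w]
    split_ifs <;> positivity
  have hw : ∀ x : ↥(P : Subgroup G), 1 ≤ w x * ((Finset.univ.filter (fun x' : ↥(P : Subgroup G) =>
      ConjClasses.mk (x' : G) = ConjClasses.mk (x : G))).card : ℚ) := by
    intro x
    have hx1 : 1 ≤ (Finset.univ.filter (fun x' : ↥(P : Subgroup G) =>
      ConjClasses.mk (x' : G) = ConjClasses.mk (x : G))).card :=
      Finset.card_pos.mpr ⟨x, by simp⟩
    by_cases hxF : x ∈ F
    · simp only [w, if_pos hxF, one_mul]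
      exact_mod_cast hx1
    · simp only [w, if_neg hxF]
      have hmem : ∀ i : ℕ, t ^ i * (x : G) * (t ^ i)⁻¹ ∈ (P : Subgroup G) := by
        intro i
        have h1 : t ^ i ∈ Subgroup.normalizer ((P : Subgroup G) : Set G) :=
          Subgroup.pow_mem _ htN i
        exact (Subgroup.mem_normalizer_iff.mp h1 (x : G)).mp x.2
      let φ : Fin r → ↥(P : Subgroup G) := fun i => ⟨_, hmem i⟩
      have hinj : Function.Injective φ := by
        intro i j hij
        have h1 : t ^ (i : ℕ) * (x : G) * (t ^ (i : ℕ))⁻¹ = t ^ (j : ℕ) * (x : G) * (t ^ (j : ℕ))⁻¹ :=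
          congrArg Subtype.val hij
        have hc : t ^ r * (x : G) = (x : G) * t ^ r := by
          have := (Subgroup.mem_centralizer_iff.mp htr) (x : G) x.2
          exact this.symm
        exact Fin.ext (hit_of hr hc (fun h => hxF ((hFmem x).mpr h)) i i.2 j j.2 h1)
      have h2 : r ≤ (Finset.univ.filter (fun x' : ↥(P : Subgroup G) =>
          ConjClasses.mk (x' : G) = ConjClasses.mk (x : G))).card := by
        calc r = (Finset.univ.image φ).card := by
              rw [Finset.card_image_of_injective _ hinj, Finset.card_univ, Fintype.card_fin]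
          _ ≤ _ := by
              apply Finset.card_le_card
              intro z hz
              obtain ⟨i, -, rfl⟩ := Finset.mem_image.mp hz
              simp only [Finset.mem_filter, Finset.mem_univ, true_and]
              rw [ConjClasses.mk_eq_mk_iff_isConj]
              exact (isConj_iff.mpr ⟨t ^ (i : ℕ), rfl⟩).symm
      have h2' : (r : ℚ) ≤ _ := Nat.cast_le.mpr h2
      have := mul_le_mul_of_nonneg_left h2' (by positivity : (0 : ℚ) ≤ 1 / r)
      refine le_trans ?_ this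
      rw [one_div, inv_mul_cancel₀ hr0.ne']
  have hmain := pClasses_card_le_sum (p := p) P w hw0 hw
  have hsum : ∑ x, w x = ((Nat.card ↥(P : Subgroup G) : ℚ) + ((r : ℚ) - 1) * (Nat.card F : ℚ)) / r := by
    have h1 : ∀ x : ↥(P : Subgroup G), w x = 1 / r + (if x ∈ F then (1 - 1 / r : ℚ) else 0) := by
      intro x
      simp only [w]
      split_ifs <;> ring
    rw [Finset.sum_congr rfl (fun x _ => h1 x), Finset.sum_add_distrib, Finset.sum_const,
      Finset.sum_ite, Finset.sum_const_zero, add_zero, Finset.sum_const, Finset.card_univ,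
      nsmul_eq_mul, nsmul_eq_mul]
    have hF : ((Finset.univ.filter (fun x : ↥(P : Subgroup G) => x ∈ F)).card : ℚ)
        = (Nat.card F : ℚ) := by
      rw [Nat.card_eq_fintype_card (α := F)]
      rw [Fintype.card_subtype]
    rw [hF]
    simp only [Nat.card_eq_fintype_card]
    field_simp
  rw [hsum, le_div_iff₀ hr0] at hmain
  have hp0 : (0 : ℚ) ≤ p := by positivity
  have hr1 : (1 : ℚ) ≤ r := by exact_mod_cast hr.one_lt.le
  have hidx' : (p : ℚ) * Nat.card F ≤ Nat.card ↥(P : Subgroup G) := by exact_mod_cast hidx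
  have hq : ((p * r * Nat.card (PClassSet p G) : ℕ) : ℚ) ≤
      (((p + (r - 1)) * Nat.card ↥(P : Subgroup G) : ℕ) : ℚ) := by
    push_cast
    rw [Nat.cast_sub hr.one_lt.le]
    push_cast
    have h3 := mul_le_mul_of_nonneg_left hmain hp0
    have h4 := mul_le_mul_of_nonneg_left hidx' (by linarith : (0 : ℚ) ≤ (r : ℚ) - 1)
    nlinarith
  exact_mod_cast hq

/-- The classes of `2`-elements in a quotient by `N ∪ uN`. -/
theorem card_pclass_le_two_mul (N : Subgroup G) [hNn : N.Normal] (hN : ¬ 2 ∣ Nat.card N) (u : G)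
    (R : Subgroup G) [R.Normal] (hR : ∀ r ∈ R, r ∈ N ∨ u⁻¹ * r ∈ N) :
    Nat.card (PClassSet 2 G) ≤ 2 * Nat.card (PClassSet 2 (G ⧸ R)) := by
  classical
  haveI : Fact (Nat.Prime 2) := ⟨Nat.prime_two⟩
  haveI := Fintype.ofFinite (ConjClasses G)
  haveI := Fintype.ofFinite (ConjClasses (G ⧸ R))
  let f : ConjClasses G → ConjClasses (G ⧸ R) := ConjClasses.map (QuotientGroup.mk' R)
  let A : Finset (ConjClasses G) := Finset.univ.filter
    (fun c => ∀ x ∈ c.carrier, ∃ k : ℕ, orderOf x = 2 ^ k)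
  let B : Finset (ConjClasses (G ⧸ R)) := Finset.univ.filter
    (fun c => ∀ x ∈ c.carrier, ∃ k : ℕ, orderOf x = 2 ^ k)
  have hA : Nat.card (PClassSet 2 G) = A.card := by
    rw [Nat.card_eq_fintype_card, Fintype.card_subtype]
  have hB : Nat.card (PClassSet 2 (G ⧸ R)) = B.card := by
    rw [Nat.card_eq_fintype_card, Fintype.card_subtype]
  rw [hA, hB]
  have hfmk : ∀ y : G, f (ConjClasses.mk y) = ConjClasses.mk (y : G ⧸ R) := fun y => rfl
  have hord : ∀ y : G, ∀ c : ConjClasses G, ConjClasses.mk y = c → c ∈ A →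
      ∃ k : ℕ, orderOf y = 2 ^ k := by
    intro y c hc hcA
    refine (Finset.mem_filter.mp hcA).2 y ?_
    rw [← hc]
    exact ConjClasses.mem_carrier_mk
  refine Finset.card_le_mul_card_image_of_maps_to (f := f) ?_ 2 ?_
  · intro a ha
    obtain ⟨y, rfl⟩ := ConjClasses.exists_rep a
    obtain ⟨k, hk⟩ := hord y _ rfl ha
    refine Finset.mem_filter.mpr ⟨Finset.mem_univ _, ?_⟩
    intro z hz
    rw [hfmk, ConjClasses.mem_carrier_iff_mk_eq, ConjClasses.mk_eq_mk_iff_isConj] at hz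
    rw [orderOf_eq_of_isConj hz]
    have h1 : orderOf (y : G ⧸ R) ∣ 2 ^ k := by
      rw [← hk]
      exact orderOf_map_dvd (QuotientGroup.mk' R) y
    obtain ⟨j, -, hj⟩ := (Nat.dvd_prime_pow Nat.prime_two).mp h1
    exact ⟨j, hj⟩
  · intro b _
    obtain ⟨zb, rfl⟩ := ConjClasses.exists_rep b
    obtain ⟨x, rfl⟩ := QuotientGroup.mk_surjective zb
    have hrep : ∀ a ∈ Finset.filter (fun a => f a = ConjClasses.mk ((x : G) : G ⧸ R)) A,
        ∃ y : G, ConjClasses.mk y = a ∧ (∃ k : ℕ, orderOf y = 2 ^ k) ∧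
          (x⁻¹ * y ∈ N ∨ (x * u)⁻¹ * y ∈ N) := by
      intro a ha
      obtain ⟨haA, hfa⟩ := Finset.mem_filter.mp ha
      obtain ⟨y₀, rfl⟩ := ConjClasses.exists_rep a
      rw [hfmk, ConjClasses.mk_eq_mk_iff_isConj] at hfa
      obtain ⟨g', hg'⟩ := isConj_iff.mp hfa
      obtain ⟨g, rfl⟩ := QuotientGroup.mk_surjective g'
      have h1 : x⁻¹ * (g * y₀ * g⁻¹) ∈ R := by
        have h2 : ((g * y₀ * g⁻¹ : G) : G ⧸ R) = (x : G ⧸ R) := by
          rw [← hg']
          rfl
        exact (QuotientGroup.eq.mp h2.symm)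
      refine ⟨g * y₀ * g⁻¹, ?_, ?_, ?_⟩
      · rw [ConjClasses.mk_eq_mk_iff_isConj]
        exact (isConj_iff.mpr ⟨g, rfl⟩).symm
      · obtain ⟨k, hk⟩ := hord y₀ _ rfl haA
        exact ⟨k, by rw [← orderOf_eq_of_isConj (isConj_iff.mpr ⟨g, rfl⟩ : IsConj y₀ _), hk]⟩
      · rcases hR _ h1 with h3 | h3
        · exact Or.inl h3
        · right
          have : (x * u)⁻¹ * (g * y₀ * g⁻¹) = u⁻¹ * (x⁻¹ * (g * y₀ * g⁻¹)) := by group
          rw [this]
          exact h3
    have hsame : ∀ (z y₁ y₂ : G), (∃ k : ℕ, orderOf y₁ = 2 ^ k) → (∃ k : ℕ, orderOf y₂ = 2 ^ k) →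
        z⁻¹ * y₁ ∈ N → z⁻¹ * y₂ ∈ N →
        (ConjClasses.mk y₁ : ConjClasses G) = ConjClasses.mk y₂ := by
      intro z y₁ y₂ ⟨k₁, h₁⟩ ⟨k₂, h₂⟩ h3 h4
      rw [ConjClasses.mk_eq_mk_iff_isConj]
      refine isConj_of_mul_mem N hN h₁ h₂ ?_
      have : y₁⁻¹ * y₂ = (z⁻¹ * y₁)⁻¹ * (z⁻¹ * y₂) := by group
      rw [this]
      exact N.mul_mem (N.inv_mem h3) h4
    by_contra hcon
    push Not at hcon
    obtain ⟨a, ha, c, hc, d, hd, hac, had, hcd⟩ := Finset.two_lt_card.mp hcon
    obtain ⟨y₁, rfl, ho₁, hm₁⟩ := hrep a ha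
    obtain ⟨y₂, rfl, ho₂, hm₂⟩ := hrep c hc
    obtain ⟨y₃, rfl, ho₃, hm₃⟩ := hrep d hd
    rcases hm₁ with hm₁ | hm₁ <;> rcases hm₂ with hm₂ | hm₂ <;> rcases hm₃ with hm₃ | hm₃
    · exact hac (hsame _ _ _ ho₁ ho₂ hm₁ hm₂)
    · exact hac (hsame _ _ _ ho₁ ho₂ hm₁ hm₂)
    · exact had (hsame _ _ _ ho₁ ho₃ hm₁ hm₃)
    · exact hcd (hsame _ _ _ ho₂ ho₃ hm₂ hm₃)
    · exact hcd (hsame _ _ _ ho₂ ho₃ hm₂ hm₃)
    · exact had (hsame _ _ _ ho₁ ho₃ hm₁ hm₃)
    · exact hac (hsame _ _ _ ho₁ ho₂ hm₁ hm₂)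
    · exact hac (hsame _ _ _ ho₁ ho₂ hm₁ hm₂)

end basics

/-- Many classes of `2`-elements force a normal `2`-complement. -/
theorem two_nilp_aux : ∀ (n : ℕ) (G : Type u) [Group G] [Finite G], Nat.card G = n →
    2 ^ (Nat.card G).factorization 2 < 2 * Nat.card (PClassSet 2 G) →
    ∃ N : Subgroup G, N.Normal ∧ ¬ 2 ∣ Nat.card N ∧ ∀ s : ℕ, s.Prime → s ∣ N.index → s = 2 := by
  intro n
  induction n using Nat.strong_induction_on with
  | _ n IH =>
  intro G _ _ hn hk
  classical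
  haveI : Fact (Nat.Prime 2) := ⟨Nat.prime_two⟩
  by_cases h2 : 2 ∣ Nat.card G
  swap
  · refine ⟨⊤, inferInstance, ?_, ?_⟩
    · rwa [Subgroup.card_top]
    · intro s hs hd
      rw [Subgroup.index_top] at hd
      exact absurd (Nat.dvd_one.mp hd) hs.ne_one
  obtain ⟨P⟩ : Nonempty (Sylow 2 G) := inferInstance
  have hGne : Nat.card G ≠ 0 := Nat.card_pos.ne'
  have hcardP : Nat.card ↥(P : Subgroup G) = 2 ^ (Nat.card G).factorization 2 :=
    P.card_eq_multiplicity
  have hv : (Nat.card G).factorization 2 ≠ 0 := by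
    have := (Nat.Prime.factorization_pos_of_dvd Nat.prime_two hGne h2)
    omega
  have hP2 : 2 ∣ Nat.card ↥(P : Subgroup G) := by
    rw [hcardP]
    exact dvd_pow_self 2 hv
  obtain ⟨x, hxP, hx1, hiso⟩ := exists_isolated P hP2 (by rw [hcardP]; exact hk)
  have hxo : 2 ∣ orderOf x := by
    obtain ⟨k, hk'⟩ := P.isPGroup' ⟨x, hxP⟩
    have h1 : x ^ (2 ^ k) = 1 := by simpa using congrArg Subtype.val hk'
    obtain ⟨j, -, hj⟩ := (Nat.dvd_prime_pow Nat.prime_two).mp (orderOf_dvd_of_pow_eq_one h1)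
    rw [hj]
    apply dvd_pow_self
    rintro rfl
    rw [pow_zero] at hj
    exact hx1 (orderOf_eq_one_iff.mp hj)
  let u : G := x ^ (orderOf x / 2)
  have hu : orderOf u = 2 := orderOf_pow_orderOf_div (orderOf_pos x).ne' hxo
  have huz : u ∈ Subgroup.zpowers x := Subgroup.npow_mem_zpowers x _
  have huP : u ∈ (P : Subgroup G) := (P : Subgroup G).pow_mem hxP _
  have hiu := isolated_power P hxP hiso huz
  obtain ⟨N, hNn, hNodd, hcomm⟩ := Cfsg.Agent.S0215.result P u hu huP hiu
  have hN2 : ¬ 2 ∣ Nat.card N := fun h => by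
    obtain ⟨e, he⟩ := hNodd
    omega
  -- the central involution of the quotient
  have huN : u ∉ N := by
    intro h
    apply hN2
    have := orderOf_dvd_natCard (⟨u, h⟩ : N)
    rwa [Subgroup.orderOf_mk, hu] at this
  have hcentral : ∀ g : G ⧸ N, (u : G ⧸ N) * g = g * (u : G ⧸ N) := by
    intro g
    obtain ⟨a, rfl⟩ := QuotientGroup.mk_surjective g
    have h1 : ((u * a * u⁻¹ * a⁻¹ : G) : G ⧸ N) = 1 :=
      (QuotientGroup.eq_one_iff _).mpr (hcomm a)
    have h2 : ((u * a * u⁻¹ * a⁻¹ : G) : G ⧸ N) * ((a * u : G) : G ⧸ N) = ((u * a : G) : G ⧸ N) := by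
      rw [← QuotientGroup.mk_mul]
      congr 1
      group
    rw [h1, one_mul] at h2
    rw [← QuotientGroup.mk_mul, ← QuotientGroup.mk_mul, h2]
  let Z : Subgroup (G ⧸ N) := Subgroup.zpowers (u : G ⧸ N)
  haveI hZn : Z.Normal := by
    refine ⟨fun a ha g => ?_⟩
    obtain ⟨i, rfl⟩ := Subgroup.mem_zpowers_iff.mp ha
    have h1 : g * (u : G ⧸ N) ^ i * g⁻¹ = (u : G ⧸ N) ^ i := by
      have h2 : Commute g ((u : G ⧸ N) ^ i) := Commute.zpow_right (hcentral g).symm i
      rw [h2.eq]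
      group
    rw [h1]
    exact Subgroup.zpow_mem_zpowers _ _
  let R : Subgroup G := Z.comap (QuotientGroup.mk' N)
  haveI hRn : R.Normal := Subgroup.Normal.comap hZn _
  have huo : orderOf (u : G ⧸ N) = 2 := by
    apply orderOf_eq_prime
    · rw [← QuotientGroup.mk_pow, ← hu, pow_orderOf_eq_one]
      rfl
    · intro h
      exact huN ((QuotientGroup.eq_one_iff u).mp h)
  have hZcard : Nat.card Z = 2 := by
    show Nat.card (Subgroup.zpowers (u : G ⧸ N)) = 2
    rw [Nat.card_zpowers, huo]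
  have hRmem : ∀ r ∈ R, r ∈ N ∨ u⁻¹ * r ∈ N := by
    intro r hr
    obtain ⟨i, hi⟩ := Subgroup.mem_zpowers_iff.mp (show (r : G ⧸ N) ∈ Z from hr)
    have hsq : (u : G ⧸ N) ^ (2 : ℤ) = 1 := by
      rw [zpow_ofNat, ← huo, pow_orderOf_eq_one]
    rcases Int.even_or_odd' i with ⟨j, rfl | rfl⟩
    · left
      rw [zpow_mul, hsq, one_zpow] at hi
      exact (QuotientGroup.eq_one_iff r).mp hi.symm
    · right
      rw [zpow_add, zpow_mul, hsq, one_zpow, one_mul, zpow_one] at hi
      exact QuotientGroup.eq.mp hi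
  have hRcard : Nat.card R = 2 * Nat.card N := by
    have h1 : R.index = Z.index := Subgroup.index_comap_of_surjective _ (QuotientGroup.mk'_surjective N)
    have h3 := Subgroup.card_mul_index Z
    have h4 := Subgroup.card_mul_index R
    have h5 := Subgroup.card_mul_index N
    rw [Subgroup.index_eq_card] at h5
    rw [hZcard] at h3
    rw [h1, ← h5, ← h3] at h4
    have hi : 0 < Z.index := Nat.pos_of_ne_zero Subgroup.index_ne_zero_of_finite
    have : Nat.card R * Z.index = (2 * Nat.card N) * Z.index := by rw [h4]; ring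
    exact Nat.eq_of_mul_eq_mul_right hi this
  have hGR : Nat.card G = 2 * Nat.card N * Nat.card (G ⧸ R) := by
    rw [← hRcard, mul_comm]
    exact (Subgroup.card_eq_card_quotient_mul_card_subgroup R)
  have hNpos : 0 < Nat.card N := Nat.card_pos
  have hlt : Nat.card (G ⧸ R) < n := by
    rw [← hn, hGR]
    have hq : 0 < Nat.card (G ⧸ R) := Nat.card_pos
    nlinarith
  have hfac : (Nat.card G).factorization 2 = 1 + (Nat.card (G ⧸ R)).factorization 2 := by
    rw [hGR, Nat.factorization_mul (by positivity) Nat.card_pos.ne',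
      Nat.factorization_mul (by norm_num) hNpos.ne']
    simp [Nat.factorization_eq_zero_of_not_dvd hN2, Nat.Prime.factorization_self Nat.prime_two]
  have hk1 : 2 ^ (Nat.card (G ⧸ R)).factorization 2 < 2 * Nat.card (PClassSet 2 (G ⧸ R)) := by
    have h3 := card_pclass_le_two_mul N hN2 u R hRmem
    rw [hfac, pow_add, pow_one] at hk
    omega
  obtain ⟨N₁, hN₁n, hN₁2, hN₁i⟩ := IH _ hlt (G ⧸ R) rfl hk1
  let M : Subgroup G := N₁.comap (QuotientGroup.mk' R)
  haveI hMn : M.Normal := Subgroup.Normal.comap hN₁n _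
  have hMi : M.index = N₁.index :=
    Subgroup.index_comap_of_surjective _ (QuotientGroup.mk'_surjective R)
  have hMcard : Nat.card M = 2 * (Nat.card N * Nat.card N₁) := by
    have h3 := Subgroup.card_mul_index M
    have h4 := Subgroup.card_mul_index N₁
    rw [hMi, hGR, ← h4] at h3
    have hi : 0 < N₁.index := Nat.pos_of_ne_zero Subgroup.index_ne_zero_of_finite
    exact Nat.eq_of_mul_eq_mul_right hi (by rw [h3]; ring)
  have hodd : Odd (Nat.card N * Nat.card N₁) :=
    Odd.mul hNodd (Nat.odd_iff.mpr (by omega))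
  obtain ⟨K, hKn, -, hKcard⟩ := exists_odd_normal M hodd hMcard
  refine ⟨K, hKn, ?_, ?_⟩
  · rw [hKcard]
    intro h
    obtain ⟨e, he⟩ := hodd
    omega
  · have h3 := Subgroup.card_mul_index K
    have h4 := Subgroup.card_mul_index M
    have h5 : K.index = 2 * N₁.index := by
      rw [hKcard] at h3
      rw [hMi, hMcard] at h4
      have hd0 : 0 < Nat.card N * Nat.card N₁ := Nat.mul_pos hNpos Nat.card_pos
      apply Nat.eq_of_mul_eq_mul_left hd0
      rw [h3, ← h4]
      ring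
    intro s hs hd
    rw [h5] at hd
    rcases (Nat.Prime.dvd_mul hs).mp hd with h6 | h6
    · exact (Nat.prime_dvd_prime_iff_eq hs Nat.prime_two).mp h6
    · exact hN₁i s hs h6

section odd

variable {G : Type*} [Group G] [Finite G]

/-- The Sylow subgroups for odd primes of the abelian Hall subgroup are centralized by their
normalizers. -/
theorem normalizer_le_centralizer_of_many {q : ℕ} [hq : Fact q.Prime] (hq2 : q ≠ 2) (Q : Sylow q G)
    (hab : ∀ a ∈ (Q : Subgroup G), ∀ b ∈ (Q : Subgroup G), a * b = b * a)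
    (P : Subgroup G) (hP : IsPGroup 2 P) (hPi : ¬ 2 ∣ P.index)
    (hPC : P ≤ Subgroup.centralizer ((Q : Subgroup G) : Set G))
    (hk : Nat.card ↥(Q : Subgroup G) < 2 * Nat.card (PClassSet q G)) :
    Subgroup.normalizer ((Q : Subgroup G) : Set G) ≤
      Subgroup.centralizer ((Q : Subgroup G) : Set G) := by
  classical
  haveI : Fact (Nat.Prime 2) := ⟨Nat.prime_two⟩
  intro n hn
  by_contra hnC
  obtain ⟨y, r, k, hr, hyN, hyC, hyr, hyo⟩ := exists_prime_elt _ _ hn hnC
  have hcc : ∀ c ∈ Subgroup.centralizer ((Q : Subgroup G) : Set G), ∀ h ∈ (Q : Subgroup G),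
      c * h * c⁻¹ = h := by
    intro c hc h hh
    have := (Subgroup.mem_centralizer_iff.mp hc) h hh
    rw [← this]
    group
  have hCN : Subgroup.centralizer ((Q : Subgroup G) : Set G) ≤
      Subgroup.normalizer ((Q : Subgroup G) : Set G) := by
    intro c hc
    rw [Subgroup.mem_normalizer_iff]
    intro h
    constructor
    · intro hh
      rw [hcc c hc h hh]
      exact hh
    · intro hh
      have h1 := hcc c⁻¹ (Subgroup.inv_mem _ hc) _ hh
      have h2 : c⁻¹ * (c * h * c⁻¹) * c⁻¹⁻¹ = h := by group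
      rw [h2] at h1
      rw [h1]
      exact hh
  -- `r` is not `2`
  have hr2 : r ≠ 2 := by
    rintro rfl
    have hPN : P ≤ Subgroup.normalizer ((Q : Subgroup G) : Set G) := hPC.trans hCN
    have hrel : ¬ 2 ∣ P.relIndex (Subgroup.normalizer ((Q : Subgroup G) : Set G)) := fun h =>
      hPi (h.trans (Subgroup.relIndex_dvd_index_of_le hPN))
    obtain ⟨c, hc, hcy⟩ := Cfsg.Agent.Lib.KPi.conj_into hPN hyN hyo hrel
    apply hyC
    rw [Subgroup.mem_centralizer_iff]
    intro x hx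
    have hx' : c * x * c⁻¹ ∈ (Q : Subgroup G) := (Subgroup.mem_normalizer_iff.mp hc x).mp hx
    have h1 := (Subgroup.mem_centralizer_iff.mp (hPC hcy)) _ hx'
    have h2 : c * (x * y) * c⁻¹ = c * (y * x) * c⁻¹ := by
      calc c * (x * y) * c⁻¹ = (c * x * c⁻¹) * (c * y * c⁻¹) := by group
        _ = (c * y * c⁻¹) * (c * x * c⁻¹) := h1
        _ = c * (y * x) * c⁻¹ := by group
    exact mul_left_cancel (mul_right_cancel h2)
  -- `r` is not `q`
  have hrq : r ≠ q := by
    rintro rfl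
    have hpy : IsPGroup r (Subgroup.zpowers y) := by
      rw [IsPGroup.iff_card, Nat.card_zpowers, hyo]
      exact ⟨k, rfl⟩
    have hle : Subgroup.zpowers y ≤ Subgroup.normalizer ((Q : Subgroup G) : Set G) := by
      rw [Subgroup.zpowers_le]
      exact hyN
    have hsup := hpy.to_sup_of_normal_right' Q.isPGroup' hle
    have hQeq := Q.is_maximal' hsup le_sup_right
    have hyQ : y ∈ (Q : Subgroup G) := by
      rw [← hQeq]
      exact Subgroup.mem_sup_left (Subgroup.mem_zpowers y)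
    apply hyC
    rw [Subgroup.mem_centralizer_iff]
    intro x hx
    exact hab x hx y hyQ
  have hbound := mul_pClasses_le hr Q y hyN hyC hyr
  have hq3 : 3 ≤ q := by
    have h1 := hq.out.two_le
    omega
  have hr3 : 3 ≤ r := by
    have h1 := hr.two_le
    omega
  have hQpos : 0 < Nat.card ↥(Q : Subgroup G) := Nat.card_pos
  -- arithmetic
  have harith : 2 * (q + (r - 1)) ≤ q * r := by
    obtain ⟨r', rfl⟩ : ∃ r', r = r' + 1 := ⟨r - 1, by omega⟩
    simp only [Nat.add_sub_cancel]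
    have hne : q ≠ r' + 1 := hrq.symm
    by_cases h3 : q = 3
    · subst h3
      have h4 : r' + 1 ≠ 4 := by
        intro h
        rw [h] at hr
        norm_num at hr
      omega
    · have h4 : 4 ≤ q := by omega
      nlinarith
  have h1 : q * r * Nat.card ↥(Q : Subgroup G) < q * r * (2 * Nat.card (PClassSet q G)) :=
    Nat.mul_lt_mul_of_pos_left hk (Nat.mul_pos hq.out.pos hr.pos)
  have h2 : q * r * (2 * Nat.card (PClassSet q G)) ≤ (q * r) * Nat.card ↥(Q : Subgroup G) := by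
    calc q * r * (2 * Nat.card (PClassSet q G)) = 2 * (q * r * Nat.card (PClassSet q G)) := by ring
      _ ≤ 2 * ((q + (r - 1)) * Nat.card ↥(Q : Subgroup G)) := Nat.mul_le_mul_left _ hbound
      _ = (2 * (q + (r - 1))) * Nat.card ↥(Q : Subgroup G) := by ring
      _ ≤ _ := Nat.mul_le_mul_right _ harith
  omega

end odd

/-- Let π be a finite set of primes containing 2 and G a finite group. Write k_π(G) for the number of conjugacy classes of G consisting of π-elements (elements all of whose order's prime divisors lie in π) and |G|_π for the π-part of the order of G. If k_π(G) > |G|_π/2, then G has a normal π-complement (a normal subgroup of order prime to π whose index is a π-number) and an abelian Hall subgroup for the set of odd primes in π. -/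
theorem result {G : Type*} [Group G] [Finite G] (π : Finset ℕ) (hπ : ∀ r ∈ π, r.Prime) (h2 : 2 ∈ π)
    (hk : π.prod (fun r => r ^ (Nat.card G).factorization r) < 2 * Nat.card {c : ConjClasses G // ∀ x ∈ c.carrier, ∀ r : ℕ, r.Prime → r ∣ orderOf x → r ∈ π}) :
    (∃ N : Subgroup G, N.Normal ∧ (∀ r : ℕ, r.Prime → r ∣ Nat.card ↥N → r ∉ π) ∧ ∀ r : ℕ, r.Prime → r ∣ N.index → r ∈ π) ∧ ∃ H : Subgroup G, Cfsg.IsPiHall ((↑π : Set ℕ) \ {2}) H ∧ IsMulCommutative ↥H := by
  classical
  haveI : Fact (Nat.Prime 2) := ⟨Nat.prime_two⟩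
  have hs : ∀ t ∈ π.erase 2, t.Prime := fun t ht => hπ t (Finset.mem_of_mem_erase ht)
  have hlt : ∀ t ∈ π.erase 2, 2 < t := fun t ht =>
    lt_of_le_of_ne (hs t ht).two_le (Finset.ne_of_mem_erase ht).symm
  have hins : insert 2 (π.erase 2) = π := Finset.insert_erase h2
  have hMM := Cfsg.Agent.Lib.KPiMain.MM_all (π.erase 2) hs 2 Nat.prime_two hlt G
    (by rw [hins]; exact hk)
  obtain ⟨U, hUab, hUcard, P, hPp, hPidx, hPC⟩ := hMM
  have key : ∀ r ∈ π, ∃ N : Subgroup G, N.Normal ∧ ¬ r ∣ Nat.card ↥N ∧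
      (∀ s : ℕ, s.Prime → s ∣ N.index → s = r) ∧ (⊥ : Subgroup G) ≤ N := by
    intro r hr
    have hrp : r.Prime := hπ r hr
    haveI : Fact r.Prime := ⟨hrp⟩
    have h1 := lt_of_lt_piClasses π hπ hr G 1 2 (by rw [one_mul]; exact hk)
    rw [one_mul] at h1
    by_cases hr2 : r = 2
    · subst hr2
      obtain ⟨N, h3, h4, h5⟩ := two_nilp_aux _ G rfl h1
      exact ⟨N, h3, h4, h5, bot_le⟩
    · have hrs : r ∈ π.erase 2 := Finset.mem_erase.mpr ⟨hr2, hr⟩
      obtain ⟨Q₀⟩ : Nonempty (Sylow r ↥U) := inferInstance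
      have hQp : IsPGroup r ((Q₀ : Subgroup ↥U).map U.subtype) := Q₀.isPGroup'.map _
      have hQi : ¬ r ∣ ((Q₀ : Subgroup ↥U).map U.subtype).index := by
        rw [Subgroup.index_map_subtype]
        intro h
        rcases (Nat.Prime.dvd_mul hrp).mp h with h3 | h3
        · exact Q₀.not_dvd_index h3
        · exact Cfsg.Agent.Lib.KPiKey.not_dvd_index hs hUcard hrs h3
      let Q : Sylow r G := hQp.toSylow hQi
      have hQU : (Q : Subgroup G) ≤ U := by
        show (Q₀ : Subgroup ↥U).map U.subtype ≤ U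
        rintro _ ⟨a, -, rfl⟩
        exact a.2
      have hab : ∀ a ∈ (Q : Subgroup G), ∀ b ∈ (Q : Subgroup G), a * b = b * a :=
        fun a ha b hb => hUab a (hQU ha) b (hQU hb)
      have hPC' : P ≤ Subgroup.centralizer ((Q : Subgroup G) : Set G) :=
        hPC.trans (Subgroup.centralizer_le hQU)
      have hcardQ : Nat.card ↥(Q : Subgroup G) = r ^ (Nat.card G).factorization r :=
        Q.card_eq_multiplicity
      have hnorm := normalizer_le_centralizer_of_many hr2 Q hab P hPp hPidx hPC'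
        (by rw [hcardQ]; exact h1)
      obtain ⟨N, hNn, hC, hI, -⟩ :=
        normal_data_of_complement (hasNormalPComplement_of_normalizer_le Q hnorm)
      exact ⟨N, hNn, hC, hI, bot_le⟩
  obtain ⟨N, hNn, h3, h4, -⟩ := exists_piComplement π (⊥ : Subgroup G) key
  refine ⟨⟨N, hNn, h3, h4⟩, U, ⟨?_, ?_⟩, ?_⟩
  · intro p hp hd
    rw [hUcard] at hd
    have h5 := Cfsg.Agent.Lib.KPiKey.prime_mem_of_dvd hs hp hd
    exact ⟨Finset.mem_of_mem_erase h5, fun h6 => Finset.ne_of_mem_erase h5 h6⟩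
  · intro p _ hmem
    have h5 : p ∈ π.erase 2 := Finset.mem_erase.mpr ⟨hmem.2, hmem.1⟩
    exact Cfsg.Agent.Lib.KPiKey.not_dvd_index hs hUcard h5
  · exact ⟨⟨fun a b => Subtype.ext (hUab a a.2 b b.2)⟩⟩

end Cfsg.Agent.S3898
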