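import Mathlib
import Cfsg.Statements.S3895
import Cfsg.Agent.S3898

set_option autoImplicit false
open Cfsg

namespace Cfsg.Agent.S3895

open Cfsg.Agent.Lib.PClasses Cfsg.Agent.Lib.PiClasses

/-- Let G be a finite group with Sylow 2-subgroup P, and write k₂(G) for the number of conjugacy classes of G consisting of 2-elements (elements of 2-power order, the identity included). Then k₂(G) > |P|/2 if and only if G has a normal 2-complement and P has more than |P|/2 conjugacy classes. -/
theorem result {G : Type*} [Group G] [Finite G] (P : Sylow 2 G) :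
    Nat.card ↥(P : Subgroup G) < 2 * Nat.card {c : ConjClasses G // ∀ x ∈ c.carrier, ∃ k : ℕ, orderOf x = 2 ^ k} ↔
      Cfsg.HasNormalPComplement 2 G ∧ Nat.card ↥(P : Subgroup G) < 2 * Nat.card (ConjClasses ↥(P : Subgroup G)) := by
  classical
  haveI : Fact (Nat.Prime 2) := ⟨Nat.prime_two⟩
  have hcardP : Nat.card ↥(P : Subgroup G) = 2 ^ (Nat.card G).factorization 2 :=
    P.card_eq_multiplicity
  constructor
  · intro hk
    have hle := Cfsg.Agent.Lib.KPiMain.card_pClass_le_classes P
    refine ⟨?_, lt_of_lt_of_le hk (Nat.mul_le_mul_left _ hle)⟩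
    obtain ⟨N, hNn, hN2, hNi⟩ := Cfsg.Agent.S3898.two_nilp_aux _ G rfl (by rw [← hcardP]; exact hk)
    have hidx0 : N.index ≠ 0 := Subgroup.index_ne_zero_of_finite
    have hidx := Nat.eq_prime_pow_of_unique_prime_dvd hidx0 (fun {d} hd h => hNi d hd h)
    set a := N.index.primeFactorsList.length with ha
    have hG := Subgroup.card_mul_index N
    rw [hidx] at hG
    have hNpos : Nat.card N ≠ 0 := Nat.card_pos.ne'
    have hv : (Nat.card G).factorization 2 = a := by
      rw [← hG, Nat.factorization_mul hNpos (by positivity), Nat.Prime.factorization_pow Nat.prime_two]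
      simp [Nat.factorization_eq_zero_of_not_dvd hN2]
    refine ⟨P, N, hNn, Subgroup.isComplement'_of_coprime ?_ ?_⟩
    · rw [hcardP, hv]
      exact hG
    · rw [hcardP]
      exact Nat.Coprime.pow_right _ ((Nat.coprime_comm.mp ((Nat.Prime.coprime_iff_not_dvd Nat.prime_two).2 hN2)))
  · rintro ⟨⟨P₀, N, hNn, hc₀⟩, hk⟩
    have hc := isComplement'_of_normal_complement P₀ P N hc₀
    refine lt_of_lt_of_le hk (Nat.mul_le_mul_left _ ?_)
    haveI := Fintype.ofFinite (ConjClasses ↥(P : Subgroup G))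
    let φ : ConjClasses ↥(P : Subgroup G) →
        {c : ConjClasses G // ∀ x ∈ c.carrier, ∃ k : ℕ, orderOf x = 2 ^ k} := fun c =>
      ⟨ConjClasses.map (P : Subgroup G).subtype c, by
        obtain ⟨x, rfl⟩ := ConjClasses.exists_rep c
        intro z hz
        have hz' : z ∈ (ConjClasses.mk (x : G)).carrier := hz
        rw [ConjClasses.mem_carrier_iff_mk_eq, ConjClasses.mk_eq_mk_iff_isConj] at hz'
        rw [orderOf_eq_of_isConj hz']
        obtain ⟨k, hk'⟩ := P.isPGroup' x
        have h1 : (x : G) ^ (2 ^ k) = 1 := by simpa using congrArg Subtype.val hk'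
        obtain ⟨j, -, hj⟩ := (Nat.dvd_prime_pow Nat.prime_two).mp (orderOf_dvd_of_pow_eq_one h1)
        exact ⟨j, hj⟩⟩
    refine Nat.card_le_card_of_injective φ ?_
    intro c d hcd
    obtain ⟨x, rfl⟩ := ConjClasses.exists_rep c
    obtain ⟨y, rfl⟩ := ConjClasses.exists_rep d
    have h1 : (ConjClasses.mk (x : G) : ConjClasses G) = ConjClasses.mk (y : G) :=
      congrArg Subtype.val hcd
    rw [ConjClasses.mk_eq_mk_iff_isConj] at h1 ⊢
    obtain ⟨g, hg⟩ := isConj_iff.mp h1
    have hgt : g ∈ (↑(N ⊔ (P : Subgroup G)) : Set G) := by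
      rw [hc.sup_eq_top]
      trivial
    rw [Subgroup.normal_mul] at hgt
    obtain ⟨n, hn, p, hp, rfl⟩ := Set.mem_mul.mp hgt
    have hz : p * (x : G) * p⁻¹ ∈ (P : Subgroup G) :=
      (P : Subgroup G).mul_mem ((P : Subgroup G).mul_mem hp x.2) ((P : Subgroup G).inv_mem hp)
    have h2 : (y : G) * (p * (x : G) * p⁻¹)⁻¹ ∈ N := by
      rw [← hg]
      have : n * p * (x : G) * (n * p)⁻¹ * (p * (x : G) * p⁻¹)⁻¹ =
          n * ((p * (x : G) * p⁻¹) * n⁻¹ * (p * (x : G) * p⁻¹)⁻¹) := by group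
      rw [this]
      exact N.mul_mem hn (hNn.conj_mem _ (N.inv_mem hn) _)
    have h3 : (y : G) * (p * (x : G) * p⁻¹)⁻¹ ∈ (P : Subgroup G) :=
      (P : Subgroup G).mul_mem y.2 ((P : Subgroup G).inv_mem hz)
    have h4 := Subgroup.disjoint_def.mp hc.disjoint h2 h3
    have h5 : (y : G) = p * (x : G) * p⁻¹ := mul_inv_eq_one.mp h4
    refine isConj_iff.mpr ⟨⟨p, hp⟩, Subtype.ext ?_⟩
    simp only [Subgroup.coe_mul, InvMemClass.coe_inv]
    exact h5.symm

end Cfsg.Agent.S3895
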