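import Mathlib
import Cfsg.Statements.S3904
import Cfsg.Agent.Lib.MaxCent
-- import your own Cfsg.Agent.* helpers here

set_option autoImplicit false
open Cfsg

namespace Cfsg.Agent.S3904


open Cfsg.Agent.Lib.MaxCent

/-- The minimal non-abelian consequences. -/
theorem final_struct {X : Type*} [Group X] [Finite X] {R Q : Subgroup X} {p : ℕ} [hRn : R.Normal]
    (hR1 : R ≠ ⊥) (hmin : ∀ K : Subgroup X, K.Normal → K ≤ R → K = ⊥ ∨ K = R)
    (hRab : ∀ a ∈ R, ∀ b ∈ R, a * b = b * a) (hRQ : R ⊓ Q = ⊥) (hdec : ∀ n : X, ∃ r ∈ R, ∃ e ∈ Q, n = r * e)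
    (hp : p.Prime) (hRp : ∀ x ∈ R, x ^ p = 1) (hQp : (Nat.card Q).Prime)
    (hfpf : ∀ e ∈ Q, e ≠ 1 → ∀ r ∈ R, e * r = r * e → r = 1)
    (hcomm : ∀ a g : X, a * g * a⁻¹ * g⁻¹ ∈ R)
    (hgen : ∀ e ∈ Q, e ≠ 1 → ∀ f ∈ Q, f ∈ Subgroup.zpowers e)
    (hZ : ∀ x : X, (∀ y : X, x * y = y * x) → x = 1) :
    ¬ IsMulCommutative X ∧ (∀ H : Subgroup X, H ≠ ⊤ → IsMulCommutative H) ∧
      ∃ p q a : ℕ, p.Prime ∧ q.Prime ∧ p ≠ q ∧ Nat.card X = p ^ a * q ∧
        ∀ P : Subgroup X, Nat.card P = p ^ a → P.Normal := by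
  have hmemRQ : ∀ x, x ∈ R → x ∈ Q → x = 1 := by
    intro x h1 h2
    have : x ∈ R ⊓ Q := ⟨h1, h2⟩
    rw [hRQ] at this
    exact Subgroup.mem_bot.mp this
  obtain ⟨r0, hr0, hr01⟩ := (R.bot_or_exists_ne_one).resolve_left hR1
  have hQ1 : Q ≠ ⊥ := by
    intro h
    rw [h, Subgroup.card_bot] at hQp
    exact Nat.not_prime_one hQp
  obtain ⟨e0, he0, he01⟩ := (Q.bot_or_exists_ne_one).resolve_left hQ1
  refine ⟨?_, ?_, ?_⟩
  · intro hc
    apply hr01
    exact hfpf e0 he0 he01 r0 hr0 (hc.is_comm.comm _ _)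
  · intro H hH
    by_cases hHR : H ≤ R
    · refine ⟨⟨?_⟩⟩
      rintro ⟨a, ha⟩ ⟨b, hb⟩
      apply Subtype.ext
      exact hRab a (hHR ha) b (hHR hb)
    · obtain ⟨y, hy, hyR⟩ := Set.not_subset.mp hHR
      obtain ⟨r, hr, e, he, rfl⟩ := hdec y
      have he1 : e ≠ 1 := by
        rintro rfl
        apply hyR
        simpa using hr
      have heS : e ∈ R ⊔ H := by
        have : e = r⁻¹ * (r * e) := by group
        rw [this]
        exact Subgroup.mul_mem _ (Subgroup.mem_sup_left (R.inv_mem hr)) (Subgroup.mem_sup_right hy)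
      have hsup : H ⊔ R = ⊤ := by
        rw [eq_top_iff, sup_comm]
        intro x _
        obtain ⟨r', hr', f, hf, rfl⟩ := hdec x
        have hfz := hgen e he he1 f hf
        exact Subgroup.mul_mem _ (Subgroup.mem_sup_left hr') ((Subgroup.zpowers_le.mpr heS) hfz)
      have hT : (R ⊓ H).Normal := by
        constructor
        intro t ht g
        have hg : g ∈ ((H ⊔ R : Subgroup X) : Set X) := by
          rw [hsup]; trivial
        rw [Subgroup.mul_normal] at hg
        obtain ⟨m, hm, r', hr', rfl⟩ := hg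
        have h1 : (m * r') * t * (m * r')⁻¹ = m * t * m⁻¹ := by
          have h2 := hRab r' hr' t ht.1
          calc (m * r') * t * (m * r')⁻¹ = m * (r' * t) * r'⁻¹ * m⁻¹ := by group
            _ = m * (t * r') * r'⁻¹ * m⁻¹ := by rw [h2]
            _ = m * t * m⁻¹ := by group
        rw [h1]
        exact ⟨hRn.conj_mem t ht.1 m, H.mul_mem (H.mul_mem hm ht.2) (H.inv_mem hm)⟩
      rcases hmin _ hT inf_le_left with h | h
      · refine ⟨⟨?_⟩⟩
        rintro ⟨a, ha⟩ ⟨b, hb⟩
        apply Subtype.ext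
        have h1 : a * b * a⁻¹ * b⁻¹ ∈ R ⊓ H :=
          ⟨hcomm a b, H.mul_mem (H.mul_mem (H.mul_mem ha hb) (H.inv_mem ha)) (H.inv_mem hb)⟩
        rw [h, Subgroup.mem_bot] at h1
        have h2 : a * b * a⁻¹ = b := mul_inv_eq_one.mp h1
        exact mul_inv_eq_iff_eq_mul.mp h2
      · exfalso
        apply hH
        have hRH : R ≤ H := inf_eq_left.mp h
        rw [← hsup, sup_eq_left.mpr hRH]
  · have : Fact p.Prime := ⟨hp⟩
    have hRpg : IsPGroup p R := Cfsg.Agent.Lib.MinNorm.isPGroup_of_exponent hRp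
    obtain ⟨a, ha⟩ := IsPGroup.iff_card.mp hRpg
    have hcompl : Subgroup.IsComplement' R Q :=
      Cfsg.Agent.Lib.SuperSolv2.isComplement'_of_normal hRQ (by
        rw [eq_top_iff]
        intro x _
        obtain ⟨r, hr, e, he, rfl⟩ := hdec x
        exact Subgroup.mul_mem _ (Subgroup.mem_sup_left hr) (Subgroup.mem_sup_right he))
    have hcard : Nat.card X = p ^ a * Nat.card Q := by
      rw [← ha]
      exact hcompl.card_mul_card.symm
    have hne : p ≠ Nat.card Q := by
      intro he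
      have hpg : IsPGroup p X := by
        apply IsPGroup.of_card (n := a + 1)
        rw [hcard, ← he, pow_succ]
      have hnt : Nontrivial X := ⟨⟨r0, 1, hr01⟩⟩
      have hcn := hpg.center_nontrivial
      obtain ⟨⟨z, hzc⟩, hz1⟩ := exists_ne (1 : Subgroup.center X)
      apply hz1
      apply Subtype.ext
      apply hZ z
      intro y
      exact ((Subgroup.mem_center_iff.mp hzc) y).symm
    refine ⟨p, Nat.card Q, a, hp, hQp, hne, hcard, ?_⟩
    intro P hP
    have hPR : P ≤ R := by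
      intro x hx
      obtain ⟨r, hr, e, he, rfl⟩ := hdec x
      have hxp : (r * e) ^ p ^ a = 1 := by
        have h1 : orderOf (⟨r * e, hx⟩ : P) ∣ p ^ a := by
          rw [← hP]
          exact orderOf_dvd_natCard _
        have h2 := orderOf_dvd_iff_pow_eq_one.mp h1
        exact congrArg Subtype.val h2
      -- modulo `R`
      have h3 : (QuotientGroup.mk e : X ⧸ R) ^ p ^ a = 1 := by
        have h4 : (QuotientGroup.mk (r * e) : X ⧸ R) = QuotientGroup.mk e := by
          rw [QuotientGroup.mk_mul]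
          have : (QuotientGroup.mk r : X ⧸ R) = 1 := (QuotientGroup.eq_one_iff _).mpr hr
          rw [this, one_mul]
        rw [← h4, ← QuotientGroup.mk_pow, hxp]
        rfl
      have h5 : e ^ p ^ a ∈ R := by
        rw [← QuotientGroup.mk_pow] at h3
        exact (QuotientGroup.eq_one_iff _).mp h3
      have h6 : e ^ p ^ a = 1 := hmemRQ _ h5 (Q.pow_mem he _)
      have h7 : orderOf e ∣ p ^ a := orderOf_dvd_of_pow_eq_one h6
      have h8 : orderOf e ∣ Nat.card Q := by
        have h9 : orderOf (⟨e, he⟩ : Q) ∣ Nat.card Q := orderOf_dvd_natCard _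
        rwa [Subgroup.orderOf_mk] at h9
      have hco : Nat.Coprime (p ^ a) (Nat.card Q) :=
        Nat.Coprime.pow_left _ ((Nat.coprime_primes hp hQp).mpr hne)
      have h10 := Nat.eq_one_of_dvd_coprimes hco h7 h8
      rw [orderOf_eq_one_iff] at h10
      rw [h10, mul_one]
      exact hr
    have heq : P = R := by
      apply Subgroup.eq_of_le_of_card_ge hPR
      rw [hP, ha]
    rw [heq]
    exact hRn


/-- Let G be a non-abelian finite group in which the centralizer of every non-central element is a maximal subgroup. Then G/Z(G) is either an elementary abelian p-group for some prime p, or a minimal non-abelian group (non-abelian with all proper subgroups abelian) of order p^a · q for distinct primes p, q with a normal Sylow p-subgroup. -/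
theorem result {G : Type*} [Group G] [Finite G] (hna : ¬ IsMulCommutative G)
    (h : ∀ x : G, x ∉ Subgroup.center G → IsCoatom (Subgroup.centralizer ({x} : Set G))) :
    (∃ p : ℕ, p.Prime ∧ Cfsg.IsElementaryAbelian p (⊤ : Subgroup (G ⧸ Subgroup.center G))) ∨
    (¬ IsMulCommutative (G ⧸ Subgroup.center G) ∧ (∀ H : Subgroup (G ⧸ Subgroup.center G), H ≠ ⊤ → IsMulCommutative ↥H) ∧
      ∃ p q a : ℕ, p.Prime ∧ q.Prime ∧ p ≠ q ∧ Nat.card (G ⧸ Subgroup.center G) = p ^ a * q ∧
        ∀ P : Subgroup (G ⧸ Subgroup.center G), Nat.card ↥P = p ^ a → P.Normal) := by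
  have hZ : ∀ x, x ∈ Subgroup.center G ↔ x ∈ (⊤ : Subgroup G) ∧ ∀ y ∈ (⊤ : Subgroup G), x * y = y * x := by
    intro x
    rw [Subgroup.mem_center_iff]
    constructor
    · intro hc
      exact ⟨trivial, fun y _ => (hc y).symm⟩
    · rintro ⟨_, hc⟩ y
      exact (hc y trivial).symm
  have h' : ∀ x ∈ (⊤ : Subgroup G), x ∉ Subgroup.center G → IsCoatom (Subgroup.centralizer ({x} : Set G)) :=
    fun x _ hx => h x hx
  by_cases h1 : ∀ a ∈ (⊤ : Subgroup G), ∀ b ∈ (⊤ : Subgroup G), a * b * a⁻¹ * b⁻¹ ∈ Subgroup.center G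
  · left
    obtain ⟨p, hp, hpow⟩ := exists_common_prime hZ h' h1
    refine ⟨p, hp, ⟨⟨⟨?_⟩⟩, ?_⟩⟩
    · rintro ⟨a, -⟩ ⟨b, -⟩
      apply Subtype.ext
      show a * b = b * a
      induction a using QuotientGroup.induction_on with
      | H a =>
        induction b using QuotientGroup.induction_on with
        | H b =>
          rw [← QuotientGroup.mk_mul, ← QuotientGroup.mk_mul, QuotientGroup.eq]
          have h2 := h1 b⁻¹ trivial a⁻¹ trivial
          have h3 : (a * b)⁻¹ * (b * a) = b⁻¹ * a⁻¹ * b⁻¹⁻¹ * a⁻¹⁻¹ := by group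
          rw [h3]
          exact h2
    · intro a _
      induction a using QuotientGroup.induction_on with
      | H a =>
        rw [← QuotientGroup.mk_pow]
        exact (QuotientGroup.eq_one_iff _).mpr (hpow a trivial)
  · right
    have h3 := (dichotomy hZ h').resolve_left h1
    obtain ⟨hHC, hcf⟩ := quot_HC hZ h' h3
    have hNbt : (⊤ : Subgroup G).map (QuotientGroup.mk' (Subgroup.center G)) = ⊤ :=
      Subgroup.map_top_of_surjective _ (QuotientGroup.mk'_surjective _)
    rw [hNbt] at hHC hcf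
    have hNb1 : (⊤ : Subgroup (G ⧸ Subgroup.center G)) ≠ ⊥ := by
      intro hb
      apply h1
      intro a _ b _
      have h4 : (QuotientGroup.mk' (Subgroup.center G)) a ∈ (⊤ : Subgroup (G ⧸ Subgroup.center G)) := trivial
      rw [hb, Subgroup.mem_bot] at h4
      have h5 : a ∈ Subgroup.center G := (QuotientGroup.eq_one_iff _).mp h4
      have h6 : a * b * a⁻¹ * b⁻¹ = 1 := by
        rw [← Subgroup.mem_center_iff.mp h5 b]
        group
      rw [h6]
      exact Subgroup.one_mem _
    obtain ⟨R, Q, p, hRn, -, hR1, hmin, hRab, -, hRQ, hdec, hp, hRp, hQp, hfpf, hcomm, hgen⟩ :=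
      core (N := (⊤ : Subgroup (G ⧸ Subgroup.center G))) hHC hcf hNb1
    exact final_struct hR1 hmin hRab hRQ (fun n => hdec n trivial) hp hRp hQp hfpf
      (fun a g => hcomm a trivial g) hgen (fun x hx => hcf x trivial (fun y _ => hx y))

end Cfsg.Agent.S3904
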