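import Mathlib
import Cfsg.Statements.S3905
import Cfsg.Agent.Lib.MaxCent
-- import your own Cfsg.Agent.* helpers here

set_option autoImplicit false
open Cfsg

namespace Cfsg.Agent.S3905


open Cfsg.Agent.Lib.MaxCent

theorem z_normal {G : Type*} [Group G] (N : Subgroup G) [hN : N.Normal] :
    (N ⊓ Subgroup.centralizer (N : Set G)).Normal := by
  constructor
  intro t ht g
  refine ⟨hN.conj_mem t ht.1 g, Subgroup.mem_centralizer_iff.mpr ?_⟩
  intro h hh
  have h1 : g⁻¹ * h * g ∈ N := by
    have := hN.conj_mem h hh g⁻¹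
    simpa using this
  have h2 := Subgroup.mem_centralizer_iff.mp ht.2 _ h1
  calc h * (g * t * g⁻¹) = g * ((g⁻¹ * h * g) * t) * g⁻¹ := by group
    _ = g * (t * (g⁻¹ * h * g)) * g⁻¹ := by rw [h2]
    _ = g * t * g⁻¹ * h := by group


/-- Let N be a normal subgroup of the finite group G such that for every element x of N outside the center of N the centralizer C_G(x) is a maximal subgroup of G. Then N/Z(N) is either an elementary abelian p-group for some prime p, or a Frobenius group whose kernel is an elementary abelian normal subgroup and whose complement has prime order. -/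
theorem result {G : Type*} [Group G] [Finite G] (N : Subgroup G) [N.Normal]
    (h : ∀ x : G, x ∈ N → x ∉ Subgroup.centralizer (N : Set G) → IsCoatom (Subgroup.centralizer ({x} : Set G))) :
    (∃ p : ℕ, p.Prime ∧ Cfsg.IsElementaryAbelian p (⊤ : Subgroup (↥N ⧸ Subgroup.center ↥N))) ∨
    (∃ (Q K : Subgroup (↥N ⧸ Subgroup.center ↥N)) (p : ℕ), p.Prime ∧ Cfsg.IsFrobeniusComplement Q ∧ (Nat.card ↥Q).Prime ∧
      K.Normal ∧ (K : Set (↥N ⧸ Subgroup.center ↥N)) = Cfsg.frobeniusKernel Q ∧ Cfsg.IsElementaryAbelian p K) := by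
  have hZn : (N ⊓ Subgroup.centralizer (N : Set G)).Normal := z_normal N
  set Z : Subgroup G := N ⊓ Subgroup.centralizer (N : Set G) with hZdef
  have hZ : ∀ x, x ∈ Z ↔ x ∈ N ∧ ∀ y ∈ N, x * y = y * x := by
    intro x
    constructor
    · rintro ⟨h1, h2⟩
      exact ⟨h1, fun y hy => (Subgroup.mem_centralizer_iff.mp h2 y hy).symm⟩
    · rintro ⟨h1, h2⟩
      exact ⟨h1, Subgroup.mem_centralizer_iff.mpr fun y hy => (h2 y hy).symm⟩
  have h' : ∀ x ∈ N, x ∉ Z → IsCoatom (Subgroup.centralizer ({x} : Set G)) :=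
    fun x hx hxZ => h x hx (fun hc => hxZ ⟨hx, hc⟩)
  have hcen : ∀ x : N, x ∈ Subgroup.center N ↔ (x : G) ∈ Z := by
    intro x
    rw [Subgroup.mem_center_iff, hZ]
    constructor
    · intro hc
      refine ⟨x.2, fun y hy => ?_⟩
      exact (congrArg Subtype.val (hc ⟨y, hy⟩)).symm
    · rintro ⟨_, hc⟩ y
      exact Subtype.ext (hc y y.2).symm
  by_cases h1 : ∀ a ∈ N, ∀ b ∈ N, a * b * a⁻¹ * b⁻¹ ∈ Z
  · left
    obtain ⟨p, hp, hpow⟩ := exists_common_prime hZ h' h1
    refine ⟨p, hp, ⟨⟨⟨?_⟩⟩, ?_⟩⟩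
    · rintro ⟨a, -⟩ ⟨b, -⟩
      apply Subtype.ext
      show a * b = b * a
      induction a using QuotientGroup.induction_on with
      | H a =>
        induction b using QuotientGroup.induction_on with
        | H b =>
          rw [← QuotientGroup.mk_mul, ← QuotientGroup.mk_mul, QuotientGroup.eq, hcen]
          have h2 := h1 (b : G)⁻¹ (N.inv_mem b.2) (a : G)⁻¹ (N.inv_mem a.2)
          have h3 : (((a * b)⁻¹ * (b * a) : N) : G) = (b : G)⁻¹ * (a : G)⁻¹ * ((b : G)⁻¹)⁻¹ * ((a : G)⁻¹)⁻¹ := by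
            simp only [Subgroup.coe_mul, Subgroup.coe_inv]
            group
          rw [h3]
          exact h2
    · intro a _
      induction a using QuotientGroup.induction_on with
      | H a =>
        rw [← QuotientGroup.mk_pow]
        apply (QuotientGroup.eq_one_iff _).mpr
        rw [hcen]
        exact hpow a a.2
  · right
    have h3 := (dichotomy hZ h').resolve_left h1
    obtain ⟨hHC, hcf⟩ := quot_HC hZ h' h3
    have hNbn : (N.map (QuotientGroup.mk' Z)).Normal :=
      Subgroup.Normal.map inferInstance _ (QuotientGroup.mk'_surjective Z)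
    have hNb1 : N.map (QuotientGroup.mk' Z) ≠ ⊥ := by
      intro hb
      apply h1
      intro a ha b hb'
      have h4 : (QuotientGroup.mk' Z) a ∈ N.map (QuotientGroup.mk' Z) := ⟨a, ha, rfl⟩
      rw [hb, Subgroup.mem_bot] at h4
      have h5 : a ∈ Z := (QuotientGroup.eq_one_iff _).mp h4
      have h6 : a * b * a⁻¹ * b⁻¹ = 1 := by
        rw [((hZ a).mp h5).2 b hb']
        group
      rw [h6]
      exact Z.one_mem
    obtain ⟨R, Q, p, hRn, hRN, hR1, -, hRab, hQN, hRQ, hdec, hp, hRp, hQp, hfpf, -, -⟩ :=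
      core (N := N.map (QuotientGroup.mk' Z)) hHC hcf hNb1
    -- the embedding
    let φ : N →* G ⧸ Z := (QuotientGroup.mk' Z).comp N.subtype
    have hφ : ∀ x ∈ Subgroup.center N, φ x = 1 := by
      intro x hx
      exact (QuotientGroup.eq_one_iff _).mpr ((hcen x).mp hx)
    let ι : N ⧸ Subgroup.center N →* G ⧸ Z := QuotientGroup.lift (Subgroup.center N) φ hφ
    have hιmk : ∀ x : N, ι (QuotientGroup.mk x) = QuotientGroup.mk (x : G) := fun x => rfl
    have hιinj : Function.Injective ι := by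
      rw [injective_iff_map_eq_one]
      intro a ha
      induction a using QuotientGroup.induction_on with
      | H x =>
        rw [hιmk] at ha
        apply (QuotientGroup.eq_one_iff _).mpr
        rw [hcen]
        exact (QuotientGroup.eq_one_iff _).mp ha
    have hιrange : ∀ y ∈ N.map (QuotientGroup.mk' Z), ∃ a, ι a = y := by
      rintro _ ⟨x, hx, rfl⟩
      exact ⟨QuotientGroup.mk ⟨x, hx⟩, rfl⟩
    have hιmem : ∀ a, ι a ∈ N.map (QuotientGroup.mk' Z) := by
      intro a
      induction a using QuotientGroup.induction_on with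
      | H x => exact ⟨x, x.2, rfl⟩
    have hKn : (R.comap ι).Normal := Subgroup.Normal.comap hRn ι
    have hK1 : R.comap ι ≠ ⊥ := by
      intro hb
      apply hR1
      rw [eq_bot_iff]
      intro r hr
      obtain ⟨a, rfl⟩ := hιrange r (hRN hr)
      have : a ∈ R.comap ι := hr
      rw [hb, Subgroup.mem_bot] at this
      rw [this, map_one]
      exact Subgroup.one_mem _
    have hKQ : R.comap ι ⊓ Q.comap ι = ⊥ := by
      rw [eq_bot_iff]
      rintro a ⟨ha1, ha2⟩
      have h4 : ι a ∈ R ⊓ Q := ⟨ha1, ha2⟩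
      rw [hRQ, Subgroup.mem_bot] at h4
      rw [Subgroup.mem_bot]
      exact hιinj (by rw [h4, map_one])
    have hdec' : ∀ y, ∃ k ∈ R.comap ι, ∃ e ∈ Q.comap ι, y = k * e := by
      intro y
      obtain ⟨r, hr, e, he, hre⟩ := hdec (ι y) (hιmem y)
      obtain ⟨a, rfl⟩ := hιrange r (hRN hr)
      obtain ⟨b, rfl⟩ := hιrange e (hQN he)
      refine ⟨a, hr, b, he, hιinj ?_⟩
      rw [hre, map_mul]
    have hQcard : Nat.card (Q.comap ι) = Nat.card Q := by
      have h4 : (Q.comap ι).map ι = Q := by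
        apply le_antisymm (Subgroup.map_comap_le _ _)
        intro e he
        obtain ⟨b, rfl⟩ := hιrange e (hQN he)
        exact ⟨b, he, rfl⟩
      have h5 := Cfsg.Agent.Lib.SuperSolv2.card_map_injective ι hιinj (Q.comap ι)
      rw [h4] at h5
      exact h5.symm
    have hQp' : (Nat.card (Q.comap ι)).Prime := by
      rw [hQcard]
      exact hQp
    have hfpf' : ∀ e ∈ Q.comap ι, e ≠ 1 → ∀ r ∈ R.comap ι, e * r = r * e → r = 1 := by
      intro e he he1 r hr hc
      have h4 : ι e ≠ 1 := fun h0 => he1 (hιinj (by rw [h0, map_one]))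
      have h5 := hfpf (ι e) he h4 (ι r) hr (by rw [← map_mul, hc, map_mul])
      exact hιinj (by rw [h5, map_one])
    obtain ⟨hFC, hker⟩ := frobenius_of_decomp hK1 hKQ hdec' hQp' hfpf'
    refine ⟨Q.comap ι, R.comap ι, p, hp, hFC, hQp', hKn, hker, ⟨⟨⟨?_⟩⟩, ?_⟩⟩
    · rintro ⟨a, ha⟩ ⟨b, hb⟩
      apply Subtype.ext
      apply hιinj
      show ι (a * b) = ι (b * a)
      rw [map_mul, map_mul]
      exact hRab _ ha _ hb
    · intro a ha
      apply hιinj
      rw [map_pow, map_one]
      exact hRp _ ha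

end Cfsg.Agent.S3905
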