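import Cfsg.Statements.S3922
import Cfsg.Agent.Lib.ItoEnd
import Cfsg.Agent.Lib.BurnsidePQ

set_option autoImplicit false
set_option linter.unusedVariables false
open Cfsg

namespace Cfsg.Agent.S3922

open Subgroup
open Cfsg.Agent.Lib.CoprimeClass (cs mem_cent cs_eq_one_iff cs_conj cs_ne_zero)
open Cfsg.Agent.Lib.CentTools (Cn mem_Cn conj_mem_Cn conj_mem_center_iff)
open Cfsg.Agent.Lib.ItoBasic Cfsg.Agent.Lib.ItoComp Cfsg.Agent.Lib.ItoWild Cfsg.Agent.Lib.ItoTame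
open Cfsg.Agent.Lib.ItoBad Cfsg.Agent.Lib.ItoEnd

/-- The case of few primes. -/
theorem solvable_of_two_primes {G : Type*} [Group G] [Finite G] (a b : ℕ)
    (h : ∀ q : ℕ, q.Prime → q ≠ a → q ≠ b → ∀ u : G, QE q u → u ∈ center G) : Group.IsSolvable G := by
  classical
  apply solvable_of_quot
  have hdvd : ∀ q : ℕ, q.Prime → q ∣ Nat.card (G ⧸ center G) → q = a ∨ q = b := by
    intro q hq hd
    by_contra hcon
    push Not at hcon
    haveI : Fact q.Prime := ⟨hq⟩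
    obtain ⟨v, hv, hvn⟩ := exists_qe_not_mem_of_dvd_index (A := center G) (q := q) (by
      rw [Subgroup.index_eq_card]
      exact hd)
    exact hvn (h q hq hcon.1 hcon.2 v hv)
  -- choose primes
  obtain ⟨p, hp, hpa⟩ : ∃ p : ℕ, p.Prime ∧ (a.Prime → p = a) := by
    by_cases ha : a.Prime
    · exact ⟨a, ha, fun _ => rfl⟩
    · exact ⟨2, Nat.prime_two, fun h => (ha h).elim⟩
  obtain ⟨r, hr, hrb⟩ : ∃ r : ℕ, r.Prime ∧ (b.Prime → r = b) := by
    by_cases hb : b.Prime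
    · exact ⟨b, hb, fun _ => rfl⟩
    · exact ⟨2, Nat.prime_two, fun h => (hb h).elim⟩
  have hdvd' : ∀ q : ℕ, q.Prime → q ∣ Nat.card (G ⧸ center G) → q = p ∨ q = r := by
    intro q hq hd
    rcases hdvd q hq hd with h1 | h1
    · left
      rw [hpa (h1 ▸ hq), h1]
    · right
      rw [hrb (h1 ▸ hq), h1]
  refine Cfsg.Agent.Lib.BurnsidePQ.isSolvable_of_card_eq p r hp hr _ (G ⧸ center G) rfl ?_
  set M := Nat.card (G ⧸ center G) with hM
  have hM0 : M ≠ 0 := Nat.card_pos.ne'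
  have h1 : ordProj[p] M * ordCompl[p] M = M := Nat.ordProj_mul_ordCompl_eq_self _ _
  have h2 : ordCompl[p] M ≠ 0 := by
    intro h0
    rw [h0, mul_zero] at h1
    exact hM0 h1.symm
  refine ⟨M.factorization p, (ordCompl[p] M).primeFactorsList.length, ?_⟩
  conv_lhs => rw [← h1]
  congr 1
  apply Nat.eq_prime_pow_of_unique_prime_dvd h2
  intro d hd hdd
  have h3 : d ∣ M := hdd.trans (Nat.ordCompl_dvd _ _)
  rcases hdvd' d hd h3 with h4 | h4
  · exfalso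
    rw [h4] at hdd
    exact Nat.not_dvd_ordCompl hp hM0 hdd
  · exact h4

/-- A finite group whose conjugacy classes have exactly three distinct sizes (1 and two further values) is solvable. -/
theorem result {G : Type*} [Group G] [Finite G] (n₁ n₂ : ℕ) (h12 : n₂ < n₁) (h2 : 1 < n₂)
    (h : ∀ x : G, (Subgroup.centralizer ({x} : Set G)).index = 1 ∨ (Subgroup.centralizer ({x} : Set G)).index = n₂ ∨
      (Subgroup.centralizer ({x} : Set G)).index = n₁)
    (h₁ : ∃ x : G, (Subgroup.centralizer ({x} : Set G)).index = n₁) (h₂ : ∃ x : G, (Subgroup.centralizer ({x} : Set G)).index = n₂) :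
    Group.IsSolvable G := by
  classical
  have hcsZ : ∀ g : G, cs g = 1 ↔ g ∈ center G := fun g => cs_eq_one_iff
  have hsz : ∀ g : G, g ∉ center G → cs g = n₂ ∨ cs g = n₁ := by
    intro g hg
    rcases h g with h3 | h3 | h3
    · exact (hg ((hcsZ g).1 h3)).elim
    · exact Or.inl h3
    · exact Or.inr h3
  obtain ⟨x₂, hx₂⟩ := h₁
  obtain ⟨x₁, hx₁⟩ := h₂
  have hn₁ : x₁ ∉ center G := by
    intro h3
    have h4 := (hcsZ x₁).2 h3
    have h5 : cs x₁ = n₂ := hx₁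
    omega
  have hn₂ : x₂ ∉ center G := by
    intro h3
    have h4 := (hcsZ x₂).2 h3
    have h5 : cs x₂ = n₁ := hx₂
    omega
  by_cases h3 : ∀ a b : ℕ, ∃ q, q.Prime ∧ q ≠ a ∧ q ≠ b ∧ ∃ u : G, QE q u ∧ u ∉ center G
  swap
  · push Not at h3
    obtain ⟨a, b, hab⟩ := h3
    exact solvable_of_two_primes a b hab
  have hT : Tame G := by
    intro q t u v hq ht hne hu hun hv hvC g hg
    by_contra hgv
    exact no_wild h12 hsz h3 (p := q) (x := u) ⟨hq, hu, hun, t, v, ht, hne, hv, hvC, g, hg, hgv⟩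
  by_cases hno : ∀ r, ¬ Iso G r
  · exact sit2 h12 hsz hx₁ hx₂ hn₁ hn₂ hT hno
  push Not at hno
  obtain ⟨r, y₀, hy₀, hy₀n, hiso⟩ := hno
  have hr : r.Prime := by
    obtain ⟨i, s, hs, hqe, hen⟩ := exists_pp_power_not_mem (center G) hy₀n
    by_cases hsr : s = r
    · exact hsr ▸ hs
    · exact (hen (hiso s _ hs hsr hqe (mem_Cn.2 ((Commute.refl y₀).pow_left i).eq))).elim
  let Θ : ℕ → Prop := fun q => q.Prime ∧ q ≠ r ∧ ∃ u : G, QE q u ∧ u ∉ center G
  have hZle : ∀ x : G, center G ≤ Cn x := fun x a ha => mem_Cn.2 (mem_center_iff.1 ha x).symm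
  have hcard : ∀ a b : G, cs a = cs b → Nat.card (Cn a) = Nat.card (Cn b) := by
    intro a b hab
    have h1 := (Cn a).card_mul_index
    have h2 := (Cn b).card_mul_index
    have h3 : (Cn a).index = (Cn b).index := hab
    rw [h3] at h1
    exact Nat.eq_of_mul_eq_mul_right (Nat.pos_of_ne_zero index_ne_zero_of_finite) (h1.trans h2.symm)
  have hcsne : ∀ (q : ℕ) (u : G), Θ q → QE q u → u ∉ center G → cs u ≠ cs y₀ := by
    intro q u hq hu hun hcs
    haveI : Fact q.Prime := ⟨hq.1⟩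
    have h4 : vq q (center G) < vq q (Cn u) := vq_lt_of_noncentral (hZle u) (mem_Cn.2 rfl) hu hun
    have h5 : vq q (Cn y₀) = vq q (Cn u) := by
      show (Nat.card (Cn y₀)).factorization q = (Nat.card (Cn u)).factorization q
      rw [hcard u y₀ hcs]
    obtain ⟨v, hv, hvq, hvn⟩ := exists_noncentral_of_vq_lt (q := q) (D := Cn y₀) (by omega)
    exact hvn (hiso q v hq.1 hq.2.1 hvq hv)
  have hsame : ∀ (q q' : ℕ) (u u' : G), Θ q → Θ q' → QE q u → QE q' u' → u ∉ center G →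
      u' ∉ center G → cs u = cs u' := by
    intro q q' u u' hq hq' hu hu' hun hun'
    have h4 := hsz u hun
    have h5 := hsz u' hun'
    have h6 := hsz y₀ hy₀n
    have h7 := hcsne q u hq hu hun
    have h8 := hcsne q' u' hq' hu' hun'
    omega
  have hCS : CS Θ G := by
    apply cs_of_tame (fun q hq => hq.1)
    · intro q t u v hq ht hne hu hun hv hvC g hg
      exact hT q t u v hq.1 ht.1 hne hu hun hv hvC g hg
    · intro q u hq hu hun
      obtain ⟨t, ht, htq, htr, e, he, hen⟩ := h3 q r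
      have hθ : Θ t := ⟨ht, htr, e, he, hen⟩
      haveI : Fact t.Prime := ⟨ht⟩
      have h4 : vq t (Cn e) ≤ vq t (Cn u) := by
        show (Nat.card (Cn e)).factorization t ≤ (Nat.card (Cn u)).factorization t
        rw [hcard e u (hsame t q e u hθ hq he hu hen hun)]
      obtain ⟨d, hdC, hdq, hdn⟩ := exists_noncentral_of_vq_le he hen h4
      exact ⟨t, d, hθ, htq, hdq, hdn, (mem_Cn.1 hdC).symm⟩
  have hconj : ∀ (q₁ q₂ : ℕ) (u₁ u₂ : G), Θ q₁ → Θ q₂ → QE q₁ u₁ → u₁ ∉ center G → QE q₂ u₂ →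
      u₂ ∉ center G → ConjC u₂ u₁ := by
    intro q₁ q₂ u₁ u₂ hq₁ hq₂ hu₁ hn₁ hu₂ hn₂
    exact conj_of_card_eq hCS hq₁ hq₂ hu₁ hn₁ hu₂ hn₂ (hcard _ _ (hsame _ _ _ _ hq₁ hq₂ hu₁ hu₂ hn₁ hn₂))
  have hΘ : ∀ s, s.Prime → s ≠ r → (∃ u : G, QE s u ∧ u ∉ center G) → Θ s :=
    fun s hs hsr hex => ⟨hs, hsr, hex⟩
  by_cases hgood : ∀ q, Θ q → ¬ Bad q G
  · obtain ⟨q₀, hq₀, -, hq₀r, u₀, hu₀, hn₀⟩ := h3 r r
    exact sit1a hCS hr hΘ hconj hT hgood (q₀ := q₀) ⟨hq₀, hq₀r, u₀, hu₀, hn₀⟩ hu₀ hn₀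
  push Not at hgood
  obtain ⟨ℓ, hℓ, hB⟩ := hgood
  haveI : Fact ℓ.Prime := ⟨hℓ.1⟩
  let S : Sylow ℓ G := default
  have hbad := hB S
  obtain ⟨u, hu, hun⟩ := hℓ.2.2
  obtain ⟨g, hg⟩ := exists_conj_mem_sylow S hu
  obtain ⟨w, hwS, hwn, hwc, hwp⟩ := exists_w S hbad hg (by rwa [conj_mem_center_iff])
  have T : TCond ℓ (S : Subgroup G) w := ⟨hwS, hwn, hwc, hwp, hbad⟩
  have X : Ctx Θ G := ⟨hCS, hT, hconj⟩
  exact sit1b X hr (fun h => h.2.1 rfl) hΘ hy₀ hy₀n hiso hℓ T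

end Cfsg.Agent.S3922
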