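import Mathlib
import Cfsg.Statements.S4001
import Cfsg.Agent.S0042
import Cfsg.Agent.Lib.FrobPartition
import Cfsg.Agent.Lib.FpfGeneral
import Cfsg.Agent.Lib.NilpFix
import Cfsg.Agent.Lib.ZJCore2
import Cfsg.Agent.Lib.FrobPair

set_option autoImplicit false
open Cfsg

namespace Cfsg.Agent.S4001

open Cfsg.Agent.Lib.Frobenius Cfsg.Agent.Lib.FrobConj

section frob

variable {X : Type*} [Group X] [Finite X] {C N : Subgroup X}

theorem frob_facts (hC : IsFrobeniusComplement C) (hN : (N : Set X) = frobeniusKernel C) :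
    N.Normal ∧ Subgroup.IsComplement' N C := by
  obtain ⟨N', h1, h2, h3⟩ := Cfsg.Agent.Lib.FrobeniusThm.exists_kernel_subgroup hC
  obtain rfl : N' = N := SetLike.coe_injective (h1.trans hN.symm)
  exact ⟨h2, h3⟩

theorem comm_eq_one (hC : IsFrobeniusComplement C) (hN : (N : Set X) = frobeniusKernel C)
    {x g : X} (hx : x ∈ N) (hg : g ∉ N) (hc : g * x = x * g) : x = 1 := by
  have hn := (frob_facts hC hN).1
  have hgk : g ∉ frobeniusKernel C := by
    rw [← hN]
    exact hg
  obtain ⟨hg1, a, ha⟩ := not_mem_kernel_iff.mp hgk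
  have hh1 : a⁻¹ * g * a ≠ 1 := by
    intro h
    apply hg1
    have : g = a * (a⁻¹ * g * a) * a⁻¹ := by group
    rw [this, h]
    simp
  have hfp := kernel_fpf hC hN _ ha hh1
  have hmem : a⁻¹ * x * a ∈ N ⊓ Subgroup.centralizer {a⁻¹ * g * a} := by
    refine Subgroup.mem_inf.mpr ⟨?_, ?_⟩
    · have := hn.conj_mem x hx a⁻¹
      simpa using this
    · rw [Subgroup.mem_centralizer_singleton_iff]
      calc a⁻¹ * x * a * (a⁻¹ * g * a) = a⁻¹ * (x * g) * a := by group
        _ = a⁻¹ * (g * x) * a := by rw [hc]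
        _ = a⁻¹ * g * a * (a⁻¹ * x * a) := by group
  rw [hfp, Subgroup.mem_bot] at hmem
  have : x = a * (a⁻¹ * x * a) * a⁻¹ := by group
  rw [this, hmem]
  simp

theorem frob_nilp (hC : IsFrobeniusComplement C) (hN : (N : Set X) = frobeniusKernel C) :
    Group.IsNilpotent N := by
  obtain ⟨N', h1, h2, h3⟩ := Cfsg.Agent.S0042.result C hC
  obtain rfl : N' = N := SetLike.coe_injective (h1.trans hN.symm)
  exact h3

theorem frob_coprime (hC : IsFrobeniusComplement C) (hN : (N : Set X) = frobeniusKernel C) :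
    (Nat.card C).Coprime (Nat.card N) := by
  have hn := (frob_facts hC hN).1
  have hHN : C ≤ Subgroup.normalizer (N : Set X) := by
    rw [Subgroup.normalizer_eq_top_iff.mpr hn]
    exact le_top
  exact Cfsg.Agent.Lib.FrobCompl.coprime_of_fpf N C hHN (kernel_fpf hC hN)

theorem frob_card (hC : IsFrobeniusComplement C) (hN : (N : Set X) = frobeniusKernel C) :
    N.index = Nat.card C := (frob_facts hC hN).2.symm.index_eq_card

theorem frob_ne_bot (hC : IsFrobeniusComplement C) (hN : (N : Set X) = frobeniusKernel C) :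
    N ≠ ⊥ := by
  rintro rfl
  apply hC.2.1
  have h1 := (frob_facts hC hN).2.sup_eq_top
  rwa [bot_sup_eq] at h1

theorem invol_inv (hC : IsFrobeniusComplement C) (hN : (N : Set X) = frobeniusKernel C)
    {a : X} (ha : a ∈ C) (oa : orderOf a = 2) (x : X) (hx : x ∈ N) : a * x * a⁻¹ = x⁻¹ := by
  have hn := (frob_facts hC hN).1
  have ha1 : a ≠ 1 := by
    rintro rfl
    simp at oa
  let φ : N →* N := (MulAut.conjNormal a : MulAut N).toMonoidHom
  have hφ : ∀ y : N, ((φ y : N) : X) = a * y * a⁻¹ := fun y => by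
    simp [φ]
  have hfp : MonoidHom.FixedPointFree φ := by
    intro y hy
    have h1 := congrArg Subtype.val hy
    rw [hφ] at h1
    have h2 : a * y = y * a := by
      calc a * (y : X) = a * y * a⁻¹ * a := by group
        _ = y * a := by rw [h1]
    have hy1 := kernel_fpf hC hN a ha ha1
    have h3 : (y : X) ∈ N ⊓ Subgroup.centralizer {a} :=
      Subgroup.mem_inf.mpr ⟨y.2, Subgroup.mem_centralizer_singleton_iff.mpr h2.symm⟩
    rw [hy1, Subgroup.mem_bot] at h3
    exact Subtype.ext h3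
  have ha2 : a * a = 1 := by
    have := pow_orderOf_eq_one a
    rwa [oa, pow_two] at this
  have hinv : a⁻¹ = a := inv_eq_of_mul_eq_one_left ha2
  have hsq : φ^[2] = _root_.id := by
    funext y
    apply Subtype.ext
    show ((φ (φ y) : N) : X) = y
    rw [hφ, hφ, hinv]
    calc a * (a * (y : X) * a) * a = (a * a) * y * (a * a) := by group
      _ = y := by rw [ha2]; simp
  have h3 := hfp.coe_eq_inv_of_sq_eq_one hsq
  have h4 := congrFun h3 ⟨x, hx⟩
  have h5 := congrArg Subtype.val h4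
  rw [hφ] at h5
  exact h5

theorem invol_unique (hC : IsFrobeniusComplement C) (hN : (N : Set X) = frobeniusKernel C)
    {a b : X} (ha : a ∈ C) (hb : b ∈ C) (oa : orderOf a = 2) (ob : orderOf b = 2) : a = b := by
  by_contra hab
  obtain ⟨x, hx⟩ := Subgroup.ne_bot_iff_exists_ne_one.mp (frob_ne_bot hC hN)
  have hx1 : (x : X) ≠ 1 := fun h => hx (Subtype.ext h)
  have hc1 : b⁻¹ * a ∈ C := C.mul_mem (C.inv_mem hb) ha
  have hc2 : b⁻¹ * a ≠ 1 := by
    intro h
    apply hab
    have := mul_eq_one_iff_eq_inv.mp h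
    exact (inv_injective this).symm
  have hfp := kernel_fpf hC hN _ hc1 hc2
  have h3 : (x : X) ∈ N ⊓ Subgroup.centralizer {b⁻¹ * a} := by
    refine Subgroup.mem_inf.mpr ⟨x.2, Subgroup.mem_centralizer_singleton_iff.mpr ?_⟩
    have h1 := invol_inv hC hN ha oa x x.2
    have h2 := invol_inv hC hN hb ob x x.2
    have h4 : a * x * a⁻¹ = b * x * b⁻¹ := by rw [h1, h2]
    have h5 : a * (x : X) = b * x * b⁻¹ * a := by
      rw [← h4]
      group
    calc (x : X) * (b⁻¹ * a) = b⁻¹ * (b * x * b⁻¹ * a) := by group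
      _ = b⁻¹ * (a * x) := by rw [h5]
      _ = b⁻¹ * a * x := by group
  rw [hfp, Subgroup.mem_bot] at h3
  exact hx1 h3

theorem zgroup_of_odd (hC : IsFrobeniusComplement C) (hN : (N : Set X) = frobeniusKernel C)
    (hodd : Odd (Nat.card C)) : IsZGroup C := by
  refine ⟨fun p hp P => ?_⟩
  have : Fact p.Prime := ⟨hp⟩
  have hn := (frob_facts hC hN).1
  let P' : Subgroup X := (P : Subgroup C).map C.subtype
  have hP'C : P' ≤ C := Subgroup.map_subtype_le _
  have hcard : Nat.card P' = Nat.card (P : Subgroup C) :=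
    Subgroup.card_map_of_injective C.subtype_injective
  have hPp : IsPGroup p P' := P.isPGroup'.map _
  have hHN : P' ≤ Subgroup.normalizer (N : Set X) := by
    rw [Subgroup.normalizer_eq_top_iff.mpr hn]
    exact le_top
  let e : (P : Subgroup C) ≃* P' := (P : Subgroup C).equivMapOfInjective C.subtype C.subtype_injective
  rcases Cfsg.Agent.Lib.FpfGeneral.isCyclic_or_quaternion_of_fpf P' N (frob_ne_bot hC hN) hHN
    (fun a ha => kernel_fpf hC hN a (hP'C ha)) hPp with h | ⟨h2, n, hq⟩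
  · exact isCyclic_of_surjective e.symm.toMonoidHom e.symm.surjective
  · subst h2
    have h3 : Nat.card (P : Subgroup C) ∣ Nat.card C := Subgroup.card_subgroup_dvd_card _
    have h4 : Nat.card (P : Subgroup C) = 1 := by
      obtain ⟨m, hm⟩ := IsPGroup.iff_card.mp P.isPGroup'
      rw [hm] at h3 ⊢
      rcases Nat.eq_zero_or_pos m with rfl | hm0
      · simp
      · exfalso
        have h5 : 2 ∣ Nat.card C := (dvd_pow_self 2 hm0.ne').trans h3
        exact (Nat.not_even_iff_odd.mpr hodd) (even_iff_two_dvd.mpr h5)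
    have := Nat.card_eq_one_iff_unique.mp h4
    exact @isCyclic_of_subsingleton _ _ this.1

end frob

section main

variable {G : Type*} [Group G] [Finite G]

/-- An element with order divisible by `m` gives an element of order `m`. -/
theorem exists_order_of_dvd {g : G} {m : ℕ} (h : m ∣ orderOf g) : ∃ x : G, orderOf x = m :=
  ⟨g ^ (orderOf g / m), orderOf_pow_orderOf_div (orderOf_pos g).ne' h⟩

/-- The central `p`-elements of `H`. -/
def cenP (H : Subgroup G) (p : ℕ) : Subgroup G where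
  carrier := {z | z ∈ H ∧ (∀ h ∈ H, h * z = z * h) ∧ ∃ k : ℕ, z ^ (p ^ k) = 1}
  mul_mem' := by
    rintro a b ⟨ha, hac, k, hk⟩ ⟨hb, hbc, l, hl⟩
    refine ⟨H.mul_mem ha hb, ?_, k + l, ?_⟩
    · intro h hh
      rw [← mul_assoc, hac h hh, mul_assoc, hbc h hh, mul_assoc]
    · have hcomm : Commute a b := (hac b hb).symm
      rw [hcomm.mul_pow, pow_add, pow_mul, hk, one_pow, one_mul, mul_comm, pow_mul, hl, one_pow]
  one_mem' := ⟨H.one_mem, by simp, 0, by simp⟩
  inv_mem' := by
    rintro a ⟨ha, hac, k, hk⟩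
    refine ⟨H.inv_mem ha, ?_, k, ?_⟩
    · intro h hh
      have : Commute h a := hac h hh
      exact this.inv_right.eq
    · rw [inv_pow, hk, inv_one]

theorem mem_cenP {H : Subgroup G} {p : ℕ} {z : G} :
    z ∈ cenP H p ↔ z ∈ H ∧ (∀ h ∈ H, h * z = z * h) ∧ ∃ k : ℕ, z ^ (p ^ k) = 1 := Iff.rfl

instance cenP_normal (H : Subgroup G) [hH : H.Normal] (p : ℕ) : (cenP H p).Normal := by
  constructor
  rintro z ⟨hz, hzc, k, hk⟩ g
  refine ⟨hH.conj_mem z hz g, ?_, k, ?_⟩
  · intro h hh
    have h1 := hzc (g⁻¹ * h * g) (by simpa using hH.conj_mem h hh g⁻¹)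
    calc h * (g * z * g⁻¹) = g * ((g⁻¹ * h * g) * z) * g⁻¹ := by group
      _ = g * (z * (g⁻¹ * h * g)) * g⁻¹ := by rw [h1]
      _ = g * z * g⁻¹ * h := by group
  · rw [conj_pow, hk]
    simp

theorem cenP_ne_bot {H : Subgroup G} {p : ℕ} [Fact p.Prime] (hH : Group.IsNilpotent H)
    (hp : p ∣ Nat.card H) : cenP H p ≠ ⊥ := by
  obtain ⟨P⟩ : Nonempty (Sylow p H) := inferInstance
  haveI hPn : (P : Subgroup H).Normal := by
    have := (Group.isNilpotent_of_finite_tfae (G := H)).out 0 3
    exact (this.mp hH) p inferInstance P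
  have hPne : (P : Subgroup H) ≠ ⊥ := by
    intro h
    have h1 := P.card_eq_multiplicity
    rw [h, Subgroup.card_bot] at h1
    have h2 : p ^ (Nat.card H).factorization p = 1 := h1.symm
    have h3 : (Nat.card H).factorization p = 0 := by
      by_contra h0
      have : p ∣ p ^ (Nat.card H).factorization p := dvd_pow_self p h0
      rw [h2] at this
      exact (Fact.out : p.Prime).one_lt.ne' (Nat.dvd_one.mp this)
    have h4 := (Nat.factorization_eq_zero_iff _ _).mp h3
    rcases h4 with h4 | h4 | h4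
    · exact h4 Fact.out
    · exact h4 hp
    · exact Nat.card_pos.ne' h4
  obtain ⟨x, hxP, hx1, hxc⟩ := Cfsg.Agent.Lib.ZJCore2.exists_center_of_normal (P : Subgroup H) hPne
  intro hbot
  have hmem : (x : G) ∈ cenP H p := by
    refine ⟨x.2, ?_, ?_⟩
    · intro h hh
      have := (Subgroup.mem_center_iff.mp hxc) ⟨h, hh⟩
      exact congrArg Subtype.val this
    · obtain ⟨k, hk⟩ := P.isPGroup' ⟨x, hxP⟩
      refine ⟨k, ?_⟩
      have := congrArg (fun y : (P : Subgroup H) => ((y : H) : G)) hk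
      simpa using this
  rw [hbot, Subgroup.mem_bot] at hmem
  exact hx1 (Subtype.ext hmem)

/-- The element of order `p q`. -/
theorem exists_order_mul {H K : Subgroup G} [H.Normal] [K.Normal]
    (hH : Group.IsNilpotent H) (hlt : H < K)
    (hfpf : ∀ k ∈ K, k ∉ H → ∀ h ∈ H, k * h = h * k → h = 1)
    {C₂ A : Subgroup (G ⧸ H)} (hC₂ : IsFrobeniusComplement C₂)
    (hA : (A : Set (G ⧸ H)) = frobeniusKernel C₂) (hAK : A = K.map (QuotientGroup.mk' H))
    {p q : ℕ} (hp : p.Prime) (hq : q.Prime) (hpq : p ≠ q)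
    (hpH : p ∣ Nat.card H) (hpA : ¬ p ∣ Nat.card A) (hqC : q ∣ Nat.card C₂) :
    ∃ g : G, orderOf g = p * q := by
  classical
  haveI : Fact p.Prime := ⟨hp⟩
  haveI : Fact q.Prime := ⟨hq⟩
  have hVab : ∀ a b : cenP H p, a * b = b * a := by
    intro a b
    apply Subtype.ext
    exact (a.2.2.1 b b.2.1).symm
  letI : CommGroup (cenP H p) := { (inferInstance : Group (cenP H p)) with mul_comm := hVab }
  let φ₀ : G →* MulAut (cenP H p) := MulAut.conjNormal
  have hφ₀ : ∀ (g : G) (v : cenP H p), ((φ₀ g v : cenP H p) : G) = g * v * g⁻¹ := fun g v => by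
    simp [φ₀]
  have hle : H ≤ φ₀.ker := by
    intro h hh
    rw [MonoidHom.mem_ker]
    ext v
    rw [hφ₀]
    have := v.2.2.1 h hh
    simp only [MulAut.one_apply, this]
    group
  let φ : G ⧸ H →* MulAut (cenP H p) := QuotientGroup.lift H φ₀ hle
  have hφ : ∀ (g : G) (v : cenP H p), ((φ (g : G ⧸ H) v : cenP H p) : G) = g * v * g⁻¹ := by
    intro g v
    have : φ (g : G ⧸ H) = φ₀ g := QuotientGroup.lift_mk _ _ _
    rw [this, hφ₀]
  have hfixN : ∀ v : cenP H p, (∀ n ∈ A, φ n v = v) → v = 1 := by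
    intro v hv
    obtain ⟨k, hk, hkH⟩ := SetLike.exists_of_lt hlt
    have h1 := hv (k : G ⧸ H) (by
      rw [hAK]
      exact ⟨k, hk, rfl⟩)
    have h2 := congrArg Subtype.val h1
    rw [hφ] at h2
    have h3 : k * (v : G) = v * k := by
      calc k * (v : G) = k * v * k⁻¹ * k := by group
        _ = v * k := by rw [h2]
    exact Subtype.ext (hfpf k hk hkH v v.2.1 h3)
  have hD : ¬ ∀ v : cenP H p, (∀ d ∈ C₂, φ d v = v) → v = 1 := by
    intro hfixD
    have hpow := Cfsg.Agent.Lib.FrobPartition.pow_card_kernel_eq_one φ C₂ hC₂ A hA hfixD hfixN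
    apply cenP_ne_bot (p := p) hH hpH
    rw [eq_bot_iff]
    intro x hx
    obtain ⟨k, hk⟩ := hx.2.2
    have h1 : x ^ Nat.card A = 1 := by
      have := congrArg Subtype.val (hpow ⟨x, hx⟩)
      simpa using this
    have h2 : orderOf x ∣ Nat.card A := orderOf_dvd_of_pow_eq_one h1
    have h3 : orderOf x ∣ p ^ k := orderOf_dvd_of_pow_eq_one hk
    have hc : Nat.Coprime (Nat.card A) (p ^ k) :=
      Nat.Coprime.pow_right k ((Nat.Prime.coprime_iff_not_dvd hp).mpr hpA).symm
    have h4 := orderOf_eq_one_iff.mp (Nat.eq_one_of_dvd_coprimes hc h2 h3)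
    exact Subgroup.mem_bot.mpr h4
  push Not at hD
  obtain ⟨v, hvfix, hv1⟩ := hD
  obtain ⟨c, hc⟩ := exists_prime_orderOf_dvd_card' q hqC
  obtain ⟨g, hg⟩ := QuotientGroup.mk_surjective (c : G ⧸ H)
  have hgv : g * (v : G) = v * g := by
    have h1 := hvfix (c : G ⧸ H) c.2
    rw [← hg] at h1
    have h2 := congrArg Subtype.val h1
    rw [hφ] at h2
    calc g * (v : G) = g * v * g⁻¹ * g := by group
      _ = v * g := by rw [h2]
  have hqg : q ∣ orderOf g := by
    have h1 : orderOf (g : G ⧸ H) ∣ orderOf g := orderOf_map_dvd (QuotientGroup.mk' H) g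
    rw [hg, Subgroup.orderOf_coe, hc] at h1
    exact h1
  -- the order of `v`
  obtain ⟨k, hk⟩ := v.2.2.2
  have hpv : p ∣ orderOf (v : G) := by
    have h3 : orderOf (v : G) ∣ p ^ k := orderOf_dvd_of_pow_eq_one hk
    obtain ⟨j, _, hj⟩ := (Nat.dvd_prime_pow hp).mp h3
    rw [hj]
    have hj0 : j ≠ 0 := by
      rintro rfl
      rw [pow_zero, orderOf_eq_one_iff] at hj
      exact hv1 (Subtype.ext hj)
    exact dvd_pow_self p hj0
  have hx := orderOf_pow_orderOf_div (orderOf_pos (v : G)).ne' hpv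
  have hy := orderOf_pow_orderOf_div (orderOf_pos g).ne' hqg
  have hcomm : Commute ((v : G) ^ (orderOf (v : G) / p)) (g ^ (orderOf g / q)) :=
    (Commute.symm hgv).pow_pow _ _
  refine ⟨(v : G) ^ (orderOf (v : G) / p) * g ^ (orderOf g / q), ?_⟩
  rw [hcomm.orderOf_mul_eq_mul_orderOf_of_coprime (by
    rw [hx, hy]
    exact (Nat.coprime_primes hp hq).mpr hpq), hx, hy]

end main

/-- Let G be a 2-Frobenius group: it has normal subgroups H < K with K a Frobenius group with kernel H and G/H a Frobenius group with kernel K/H. Then G is solvable; K/H has odd order coprime to the order of H and to the order of G/K (it is the image of an odd-order Hall subgroup); G/K is cyclic; and the prime graph of G has exactly two connected components, both complete: for distinct primes p, q dividing the order of G, G has an element of order pq exactly when p and q either both divide the order of K/H or both do not. -/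
theorem result {G : Type*} [Group G] [Finite G] (H K : Subgroup G) [H.Normal] [K.Normal] (hlt : H < K)
    (hK : ∃ C : Subgroup ↥K, Cfsg.IsFrobeniusComplement C ∧ Cfsg.frobeniusKernel C = (H.subgroupOf K : Set ↥K))
    (hGH : ∃ C : Subgroup (G ⧸ H), Cfsg.IsFrobeniusComplement C ∧ Cfsg.frobeniusKernel C = (K.map (QuotientGroup.mk' H) : Set (G ⧸ H))) :
    Group.IsSolvable G ∧ Odd (Nat.card (↥K ⧸ H.subgroupOf K)) ∧
      Nat.Coprime (Nat.card (↥K ⧸ H.subgroupOf K)) (Nat.card ↥H * Nat.card (G ⧸ K)) ∧ IsCyclic (G ⧸ K) ∧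
      ∀ p q : ℕ, p.Prime → q.Prime → p ≠ q → p ∣ Nat.card G → q ∣ Nat.card G →
        ((∃ g : G, orderOf g = p * q) ↔ (p ∣ Nat.card (↥K ⧸ H.subgroupOf K) ↔ q ∣ Nat.card (↥K ⧸ H.subgroupOf K))) := by
  classical
  obtain ⟨C₁, hC₁, hN₁⟩ := hK
  obtain ⟨C₂, hC₂, hN₂⟩ := hGH
  set A := K.map (QuotientGroup.mk' H) with hAdef
  have hN₁' := hN₁.symm
  have hN₂' := hN₂.symm
  haveI hAn : A.Normal := (frob_facts hC₂ hN₂').1
  have hle := hlt.le
  -- nilpotence
  let eH : H.subgroupOf K ≃* H := Subgroup.subgroupOfEquivOfLe hle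
  have hcH : Nat.card (H.subgroupOf K) = Nat.card H := Nat.card_congr eH.toEquiv
  have hHn : Group.IsNilpotent H := by
    haveI := frob_nilp hC₁ hN₁'
    exact Group.nilpotent_of_surjective eH.toMonoidHom eH.surjective
  haveI hAnil : Group.IsNilpotent A := frob_nilp hC₂ hN₂'
  -- fixed points on `H`
  have hfpf : ∀ k ∈ K, k ∉ H → ∀ h ∈ H, k * h = h * k → h = 1 := by
    intro k hk hkH h hh hc
    have h1 : (⟨h, hle hh⟩ : K) ∈ H.subgroupOf K := Subgroup.mem_subgroupOf.mpr hh
    have h2 : (⟨k, hk⟩ : K) ∉ H.subgroupOf K := fun h3 => hkH (Subgroup.mem_subgroupOf.mp h3)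
    have := comm_eq_one hC₁ hN₁' h1 h2 (Subtype.ext hc)
    exact congrArg Subtype.val this
  -- `C₁ ≃ A`
  have hdec₁ := Cfsg.Agent.Lib.FrobPair.exists_decomp (H.subgroupOf K) C₁ (frob_facts hC₁ hN₁').2.sup_eq_top
  have hdec₂ := Cfsg.Agent.Lib.FrobPair.exists_decomp A C₂ (frob_facts hC₂ hN₂').2.sup_eq_top
  let f : C₁ →* A := ((QuotientGroup.mk' H).subgroupMap K).comp C₁.subtype
  have hf : ∀ x : C₁, ((f x : A) : G ⧸ H) = (((x : K) : G) : G ⧸ H) := fun x => rfl
  have hfinj : Function.Injective f := by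
    rw [injective_iff_map_eq_one]
    intro x hx
    have h1 := congrArg Subtype.val hx
    rw [hf] at h1
    have h2 : ((x : K) : G) ∈ H := (QuotientGroup.eq_one_iff _).mp h1
    have h3 : (x : K) ∈ frobeniusKernel C₁ := by
      rw [hN₁]
      exact Subgroup.mem_subgroupOf.mpr h2
    exact Subtype.ext (Cfsg.Agent.Lib.Frobenius.eq_one_of_mem_kernel_of_mem h3 x.2)
  have hfsurj : Function.Surjective f := by
    rintro ⟨a, k, hk, rfl⟩
    obtain ⟨n, hn, c, hc, hnc⟩ := hdec₁ ⟨k, hk⟩
    refine ⟨⟨c, hc⟩, Subtype.ext ?_⟩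
    rw [hf]
    have h1 : k = (n : G) * (c : G) := congrArg Subtype.val hnc
    have h2 : QuotientGroup.mk' H (n : G) = 1 :=
      (QuotientGroup.eq_one_iff _).mpr (Subgroup.mem_subgroupOf.mp hn)
    have h3 : QuotientGroup.mk' H k = QuotientGroup.mk' H (c : G) := by
      rw [h1, map_mul, h2, one_mul]
    exact h3.symm
  let e : C₁ ≃* A := MulEquiv.ofBijective f ⟨hfinj, hfsurj⟩
  have hcardC₁ : Nat.card C₁ = Nat.card A := Nat.card_congr e.toEquiv
  have hcardKH : Nat.card (↥K ⧸ H.subgroupOf K) = Nat.card A :=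
    (frob_card hC₁ hN₁').trans hcardC₁
  rw [hcardKH]
  -- `A` has odd order
  have hodd : Odd (Nat.card A) := by
    by_contra hne
    have h2 : 2 ∣ Nat.card A := even_iff_two_dvd.mp (Nat.not_odd_iff_even.mp hne)
    haveI : Fact (Nat.Prime 2) := ⟨Nat.prime_two⟩
    obtain ⟨t, ht⟩ := exists_prime_orderOf_dvd_card' 2 h2
    obtain ⟨c, hc, hc1⟩ := (Subgroup.bot_or_exists_ne_one C₂).resolve_left hC₂.1
    have hcA : c ∉ A := fun h => hc1
      (Cfsg.Agent.Lib.Frobenius.eq_one_of_mem_kernel_of_mem (by rw [hN₂]; exact h) hc)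
    let t' : A := ⟨c * t * c⁻¹, hAn.conj_mem _ t.2 c⟩
    have ht' : orderOf t' = 2 := by
      rw [← Subgroup.orderOf_coe]
      show orderOf (c * (t : G ⧸ H) * c⁻¹) = 2
      have h8 := MulEquiv.orderOf_eq (MulAut.conj c) (t : G ⧸ H)
      rw [MulAut.conj_apply] at h8
      rw [h8, Subgroup.orderOf_coe, ht]
    have hord : ∀ s : A, orderOf s = 2 → orderOf ((e.symm s : C₁) : K) = 2 := by
      intro s hs
      rw [Subgroup.orderOf_coe, MulEquiv.orderOf_eq, hs]
    have h1 : e.symm t = e.symm t' :=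
      Subtype.ext (invol_unique hC₁ hN₁' (e.symm t).2 (e.symm t').2 (hord t ht) (hord t' ht'))
    have h3 : t = t' := e.symm.injective h1
    have h4 : (t : G ⧸ H) = c * t * c⁻¹ := congrArg Subtype.val h3
    have h5 : c * (t : G ⧸ H) = t * c := by
      calc c * (t : G ⧸ H) = c * t * c⁻¹ * c := by group
        _ = t * c := by rw [← h4]
    have h6 := comm_eq_one hC₂ hN₂' t.2 hcA h5
    have h7 : t = 1 := Subtype.ext h6
    rw [h7, orderOf_one] at ht
    omega
  -- `A` is cyclic
  haveI hzC : IsZGroup C₁ := zgroup_of_odd hC₁ hN₁' (by rw [hcardC₁]; exact hodd)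
  haveI hzA : IsZGroup A := IsZGroup.of_surjective (f := e.toMonoidHom) e.surjective
  haveI hAcyc : IsCyclic A := inferInstance
  have hAne : A ≠ ⊥ := frob_ne_bot hC₂ hN₂'
  -- `C₂` is commutative
  have hcomm : IsMulCommutative C₂ := by
    let α : C₂ →* MulAut A := (MulAut.conjNormal : G ⧸ H →* MulAut A).comp C₂.subtype
    have hα : ∀ (c : C₂) (a : A), ((α c a : A) : G ⧸ H) = c * a * (c : G ⧸ H)⁻¹ := fun c a => by
      simp [α]
    have hαinj : Function.Injective α := by
      rw [injective_iff_map_eq_one]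
      intro c hc
      by_contra hc1
      have hc1' : (c : G ⧸ H) ≠ 1 := fun h => hc1 (Subtype.ext h)
      have hcA : (c : G ⧸ H) ∉ A := fun h => hc1'
        (Cfsg.Agent.Lib.Frobenius.eq_one_of_mem_kernel_of_mem (by rw [hN₂]; exact h) c.2)
      apply hAne
      rw [eq_bot_iff]
      intro a ha
      have h1 := congrArg Subtype.val (DFunLike.congr_fun hc ⟨a, ha⟩)
      rw [hα] at h1
      have h2 : (c : G ⧸ H) * a = a * c := by
        calc (c : G ⧸ H) * a = c * a * (c : G ⧸ H)⁻¹ * c := by group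
          _ = a * c := by rw [h1]; rfl
      exact Subgroup.mem_bot.mpr (comm_eq_one hC₂ hN₂' ha hcA h2)
    have hAut : ∀ σ τ : MulAut A, σ * τ = τ * σ := by
      intro σ τ
      apply (IsCyclic.mulAutMulEquiv A).injective
      rw [map_mul, map_mul, mul_comm]
    exact ⟨⟨fun a b => hαinj (by rw [map_mul, map_mul, hAut])⟩⟩
  have hC₂A : C₂ ≤ Subgroup.normalizer (A : Set (G ⧸ H)) := by
    rw [Subgroup.normalizer_eq_top_iff.mpr hAn]
    exact le_top
  haveI hC₂cyc : IsCyclic C₂ :=
    Cfsg.Agent.Lib.FpfGeneral.isCyclic_of_fpf C₂ A hAne hC₂A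
      (Cfsg.Agent.Lib.FrobConj.kernel_fpf hC₂ hN₂') (Or.inl hcomm)
  -- `C₂` maps onto `G / K`
  let g₀ : G ⧸ H →* G ⧸ K := QuotientGroup.map H K (MonoidHom.id G) hle
  let ψ : C₂ →* G ⧸ K := g₀.comp C₂.subtype
  have hψ : Function.Surjective ψ := by
    intro z
    obtain ⟨y, rfl⟩ := QuotientGroup.mk_surjective z
    obtain ⟨n, hn, c, hc, hnc⟩ := hdec₂ (y : G ⧸ H)
    refine ⟨⟨c, hc⟩, ?_⟩
    have h1 : g₀ n = 1 := by
      obtain ⟨k, hk, rfl⟩ := hn
      show ((k : G) : G ⧸ K) = 1
      exact (QuotientGroup.eq_one_iff _).mpr hk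
    have h2 : g₀ (y : G ⧸ H) = (y : G ⧸ K) := rfl
    show g₀ c = (y : G ⧸ K)
    rw [← h2, hnc, map_mul, h1, one_mul]
  have hGKcyc : IsCyclic (G ⧸ K) := isCyclic_of_surjective ψ hψ
  have hGKdvd : Nat.card (G ⧸ K) ∣ Nat.card C₂ := Subgroup.card_dvd_of_surjective ψ hψ
  -- coprimality
  have hcop2 : (Nat.card C₂).Coprime (Nat.card A) := frob_coprime hC₂ hN₂'
  have hcop1 : (Nat.card A).Coprime (Nat.card H) := by
    have := frob_coprime hC₁ hN₁'
    rwa [hcardC₁, hcH] at this
  have hcopG : Nat.Coprime (Nat.card A) (Nat.card H * Nat.card (G ⧸ K)) :=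
    Nat.Coprime.mul_right hcop1 (Nat.Coprime.coprime_dvd_right hGKdvd hcop2.symm)
  -- solvability
  have hsol : Group.IsSolvable G := by
    let f₁ : H →* K := Subgroup.inclusion hle
    let g₁ : K →* A := (QuotientGroup.mk' H).subgroupMap K
    haveI : Group.IsSolvable H := inferInstance
    haveI : Group.IsSolvable A := inferInstance
    haveI : Group.IsSolvable K := by
      apply solvable_of_ker_le_range f₁ g₁
      intro k hk
      have h1 : ((k : G) : G ⧸ H) = 1 := congrArg Subtype.val hk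
      have h2 : (k : G) ∈ H := (QuotientGroup.eq_one_iff _).mp h1
      exact ⟨⟨k, h2⟩, rfl⟩
    haveI : Group.IsSolvable (G ⧸ K) := inferInstance
    apply solvable_of_ker_le_range K.subtype (QuotientGroup.mk' K)
    rw [QuotientGroup.ker_mk', Subgroup.range_subtype]
  -- the mixed case
  have hmix : ∀ p q : ℕ, p.Prime → q.Prime → p ∣ Nat.card A → ¬ q ∣ Nat.card A →
      ∀ g : G, orderOf g ≠ p * q := by
    intro p q hp hq hpA hqA g hg
    have hpg : p ∣ orderOf g := by
      rw [hg]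
      exact dvd_mul_right _ _
    have hqg : q ∣ orderOf g := by
      rw [hg]
      exact dvd_mul_left _ _
    have hu := orderOf_pow_orderOf_div (orderOf_pos g).ne' hpg
    have hv := orderOf_pow_orderOf_div (orderOf_pos g).ne' hqg
    set u := g ^ (orderOf g / p) with hudef
    set v := g ^ (orderOf g / q) with hvdef
    have huv : v * u = u * v := ((Commute.refl g).pow_pow _ _).eq
    have hpC : ¬ p ∣ Nat.card C₂ := fun h =>
      hp.one_lt.ne' (Nat.eq_one_of_dvd_coprimes hcop2 h hpA)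
    have hpH : ¬ p ∣ Nat.card H := fun h =>
      hp.one_lt.ne' (Nat.eq_one_of_dvd_coprimes hcop1 hpA h)
    -- `u ∈ K`
    have huK : u ∈ K := by
      have h1 : orderOf (u : G ⧸ K) ∣ p := by
        have := orderOf_map_dvd (QuotientGroup.mk' K) u
        rwa [hu] at this
      have h2 : orderOf (u : G ⧸ K) ∣ Nat.card (G ⧸ K) := orderOf_dvd_natCard _
      have hc : Nat.Coprime p (Nat.card (G ⧸ K)) :=
        (Nat.Prime.coprime_iff_not_dvd hp).mpr (fun h => hpC (h.trans hGKdvd))
      have h3 := Nat.eq_one_of_dvd_coprimes hc h1 h2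
      exact (QuotientGroup.eq_one_iff _).mp (orderOf_eq_one_iff.mp h3)
    have huH : u ∉ H := by
      intro h
      apply hpH
      have h1 : orderOf (⟨u, h⟩ : H) = p := by
        rw [Subgroup.orderOf_mk, hu]
      rw [← h1]
      exact orderOf_dvd_natCard _
    have hπu : ((u : G) : G ⧸ H) ≠ 1 := fun h => huH ((QuotientGroup.eq_one_iff _).mp h)
    have hπuA : ((u : G) : G ⧸ H) ∈ A := ⟨u, huK, rfl⟩
    have hπv : ((v : G) : G ⧸ H) ∈ A := by
      by_contra hnot
      apply hπu
      apply comm_eq_one hC₂ hN₂' hπuA hnot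
      have := congrArg (QuotientGroup.mk' H) huv
      simpa using this
    have hvH : v ∈ H := by
      have h1 : orderOf ((v : G) : G ⧸ H) ∣ q := by
        have := orderOf_map_dvd (QuotientGroup.mk' H) v
        rwa [hv] at this
      have h2 : orderOf ((v : G) : G ⧸ H) ∣ Nat.card A := by
        rw [← Subgroup.orderOf_mk _ hπv]
        exact orderOf_dvd_natCard _
      have hc : Nat.Coprime q (Nat.card A) := (Nat.Prime.coprime_iff_not_dvd hq).mpr hqA
      have h3 := Nat.eq_one_of_dvd_coprimes hc h1 h2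
      exact (QuotientGroup.eq_one_iff _).mp (orderOf_eq_one_iff.mp h3)
    have hv1 := hfpf u huK huH v hvH huv.symm
    rw [hv1, orderOf_one] at hv
    exact hq.one_lt.ne hv
  refine ⟨hsol, hodd, hcopG, hGKcyc, ?_⟩
  intro p q hp hq hpq hpG hqG
  constructor
  · rintro ⟨g, hg⟩
    by_contra hne
    by_cases hpA : p ∣ Nat.card A
    · exact hmix p q hp hq hpA (fun h => hne ⟨fun _ => h, fun _ => hpA⟩) g hg
    · have hqA : q ∣ Nat.card A := by
        by_contra hqA
        exact hne ⟨fun h => absurd h hpA, fun h => absurd h hqA⟩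
      exact hmix q p hq hp hqA hpA g (by rw [hg, mul_comm])
  · intro hiff
    have hcopr : Nat.Coprime p q := (Nat.coprime_primes hp hq).mpr hpq
    -- cyclic groups
    have hcyc : ∀ (S : Subgroup (G ⧸ H)), IsCyclic S → p ∣ Nat.card S → q ∣ Nat.card S →
        ∃ g : G, orderOf g = p * q := by
      intro S hS hp' hq'
      obtain ⟨a, ha⟩ := IsCyclic.exists_generator (α := S)
      have h1 : orderOf a = Nat.card S := orderOf_eq_card_of_forall_mem_zpowers ha
      have h2 : p * q ∣ orderOf a := by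
        rw [h1]
        exact Nat.Coprime.mul_dvd_of_dvd_of_dvd hcopr hp' hq'
      obtain ⟨g, hg⟩ := QuotientGroup.mk_surjective (a : G ⧸ H)
      have h3 : orderOf (g : G ⧸ H) ∣ orderOf g := orderOf_map_dvd (QuotientGroup.mk' H) g
      rw [hg, Subgroup.orderOf_coe] at h3
      exact exists_order_of_dvd (h2.trans h3)
    by_cases hpA : p ∣ Nat.card A
    · exact hcyc A hAcyc hpA (hiff.mp hpA)
    · have hqA : ¬ q ∣ Nat.card A := fun h => hpA (hiff.mpr h)
      have hGcard : Nat.card G = Nat.card (G ⧸ K) * (Nat.card A * Nat.card H) := by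
        rw [Subgroup.card_eq_card_quotient_mul_card_subgroup K,
          Subgroup.card_eq_card_quotient_mul_card_subgroup (H.subgroupOf K), hcardKH, hcH]
      have hpart : ∀ r : ℕ, r.Prime → r ∣ Nat.card G → ¬ r ∣ Nat.card A →
          r ∣ Nat.card H ∨ r ∣ Nat.card C₂ := by
        intro r hr hrG hrA
        rw [hGcard] at hrG
        rcases hr.dvd_mul.mp hrG with h | h
        · exact Or.inr (h.trans hGKdvd)
        · rcases hr.dvd_mul.mp h with h | h
          · exact absurd h hrA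
          · exact Or.inl h
      have hAeq : A = K.map (QuotientGroup.mk' H) := rfl
      rcases hpart p hp hpG hpA with hpH | hpC <;> rcases hpart q hq hqG hqA with hqH | hqC
      · -- both in `H`
        haveI : Fact p.Prime := ⟨hp⟩
        haveI : Fact q.Prime := ⟨hq⟩
        obtain ⟨x, hx⟩ := exists_prime_orderOf_dvd_card' p hpH
        obtain ⟨y, hy⟩ := exists_prime_orderOf_dvd_card' q hqH
        have hxy : Commute x y := Cfsg.Agent.Lib.NilpFix.commute_of_coprime x y (by rw [hx, hy]; exact hcopr)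
        refine ⟨((x * y : H) : G), ?_⟩
        rw [Subgroup.orderOf_coe, hxy.orderOf_mul_eq_mul_orderOf_of_coprime (by rw [hx, hy]; exact hcopr), hx, hy]
      · exact exists_order_mul hHn hlt hfpf hC₂ hN₂' hAeq hp hq hpq hpH hpA hqC
      · obtain ⟨g, hg⟩ := exists_order_mul hHn hlt hfpf hC₂ hN₂' hAeq hq hp hpq.symm hqH hqA hpC
        exact ⟨g, by rw [hg, mul_comm]⟩
      · exact hcyc C₂ hC₂cyc hpC hqC

end Cfsg.Agent.S4001
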