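import Mathlib
import Cfsg.Statements.S3999
import Cfsg.Agent.S4001
import Cfsg.Agent.S0035
import Cfsg.Agent.S0039
import Cfsg.Agent.S3358
import Cfsg.Agent.S3359

set_option autoImplicit false
set_option linter.style.haveILetI false
set_option linter.unusedSectionVars false
open Cfsg

namespace Cfsg.Agent.S3999

open Cfsg.Agent.Lib.FrobPair Cfsg.Agent.Lib.FpfNorm

section Equiv

theorem exists_order_equiv {F G : Type*} [Group F] [Finite F] [Group G] [Finite G]
    (hT : ∀ m : ℕ, Nat.card {g : F // orderOf g = m} = Nat.card {h : G // orderOf h = m}) :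
    ∃ e : F ≃ G, ∀ g, orderOf (e g) = orderOf g := by
  classical
  have hE : ∀ m : ℕ, {g : F // orderOf g = m} ≃ {h : G // orderOf h = m} :=
    fun m => Classical.choice (Finite.card_eq.mp (hT m))
  let e : F ≃ G := (Equiv.sigmaFiberEquiv (orderOf : F → ℕ)).symm.trans
    ((Equiv.sigmaCongrRight hE).trans (Equiv.sigmaFiberEquiv (orderOf : G → ℕ)))
  refine ⟨e, fun g => ?_⟩
  exact ((hE (orderOf g)) ⟨g, rfl⟩).2

end Equiv

section Count

variable {X : Type*} [Group X] [Finite X]

theorem orderOf_mul_eq (K H : Subgroup X) [K.Normal]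
    (hfpf : ∀ h ∈ H, h ≠ 1 → ∀ k ∈ K, h * k = k * h → k = 1) {a : X} (ha : a ∈ H) (ha1 : a ≠ 1)
    {k : X} (hk : k ∈ K) : orderOf (k * a) = orderOf a := by
  obtain ⟨t, -, h⟩ := exists_conj_of_mem K H hfpf ha ha1 hk
  rw [h]
  exact orderOf_injective (MulAut.conj t).toMonoidHom (MulAut.conj t).injective a

/-- The number of elements of order `d` coprime to the kernel. -/
theorem card_order (K H : Subgroup X) [K.Normal] (hc : Subgroup.IsComplement' K H)
    (hfpf : ∀ h ∈ H, h ≠ 1 → ∀ k ∈ K, h * k = k * h → k = 1) {d : ℕ} (hd1 : d ≠ 1)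
    (hcop : d.Coprime (Nat.card K)) :
    Nat.card {g : X // orderOf g = d} = Nat.card K * Nat.card {h : H // orderOf h = d} := by
  classical
  have hne : ∀ h : {h : H // orderOf h = d}, ((h.1 : H) : X) ≠ 1 := by
    rintro ⟨h, hh⟩ h1
    have h2 : h = 1 := Subtype.ext h1
    rw [h2, orderOf_one] at hh
    exact hd1 hh.symm
  let f : K × {h : H // orderOf h = d} → {g : X // orderOf g = d} := fun p =>
    ⟨(p.1 : X) * ((p.2.1 : H) : X), by
      rw [orderOf_mul_eq K H hfpf p.2.1.2 (hne p.2) p.1.2, Subgroup.orderOf_coe]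
      exact p.2.2⟩
  have hf : Function.Bijective f := by
    constructor
    · rintro ⟨k₁, h₁⟩ ⟨k₂, h₂⟩ he
      have h1 : (k₁ : X) * ((h₁.1 : H) : X) = (k₂ : X) * ((h₂.1 : H) : X) := congrArg Subtype.val he
      obtain ⟨h3, h4⟩ := decomp_unique K H hc.disjoint.eq_bot k₁.2 k₂.2 h₁.1.2 h₂.1.2 h1
      have h5 : k₁ = k₂ := Subtype.ext h3
      have h6 : h₁ = h₂ := Subtype.ext (Subtype.ext h4)
      rw [h5, h6]
    · rintro ⟨g, hg⟩
      obtain ⟨k, hk, a, ha, rfl⟩ := exists_decomp K H hc.sup_eq_top g
      have ha1 : a ≠ 1 := by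
        rintro rfl
        apply hd1
        rw [mul_one] at hg
        have h1 : d ∣ Nat.card K := by
          rw [← hg]
          have := orderOf_dvd_natCard (⟨k, hk⟩ : K)
          rwa [Subgroup.orderOf_mk] at this
        exact Nat.eq_one_of_dvd_coprimes hcop dvd_rfl h1
      have hord : orderOf (⟨a, ha⟩ : H) = d := by
        rw [Subgroup.orderOf_mk, ← hg, orderOf_mul_eq K H hfpf ha ha1 hk]
      exact ⟨(⟨k, hk⟩, ⟨⟨a, ha⟩, hord⟩), rfl⟩
  rw [← Nat.card_congr (Equiv.ofBijective f hf), Nat.card_prod]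

end Count

section GSide

variable {G : Type*} [Group G] [Finite G]

/-- A Sylow subgroup is normal when the number of solutions of `x ^ (p^a) = 1` is `p ^ a`. -/
theorem sylow_normal_of_count {p a : ℕ} [Fact p.Prime] (Q : Sylow p G)
    (hQ : Nat.card Q = p ^ a)
    (hcount : Set.ncard {g : G | g ^ (p ^ a) = 1} = p ^ a) : (Q : Subgroup G).Normal := by
  classical
  have hsub : ((Q : Subgroup G) : Set G) ⊆ {g : G | g ^ (p ^ a) = 1} := by
    intro g hg
    have h1 := orderOf_dvd_natCard (⟨g, hg⟩ : (Q : Subgroup G))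
    rw [Subgroup.orderOf_mk, hQ] at h1
    exact orderOf_dvd_iff_pow_eq_one.mp h1
  have heq : ((Q : Subgroup G) : Set G) = {g : G | g ^ (p ^ a) = 1} := by
    apply Set.eq_of_subset_of_ncard_le hsub
    · rw [hcount, ← hQ]
      exact (Nat.card_coe_set_eq ((Q : Subgroup G) : Set G)).ge
  refine ⟨fun n hn g => ?_⟩
  have h2 : n ∈ ((Q : Subgroup G) : Set G) := hn
  rw [heq] at h2
  show g * n * g⁻¹ ∈ ((Q : Subgroup G) : Set G)
  rw [heq]
  show (g * n * g⁻¹) ^ (p ^ a) = 1
  rw [conj_pow, show n ^ (p ^ a) = 1 from h2]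
  simp

/-- A normal subgroup with the given order, when all the relevant Sylow subgroups are normal. -/
theorem exists_normal_of_count {n m : ℕ} (hcard : Nat.card G = n * m) (hn0 : n ≠ 0)
    (hcop : n.Coprime m)
    (hcount : ∀ p : ℕ, p.Prime → p ∣ n →
      Set.ncard {g : G | g ^ (p ^ n.factorization p) = 1} = p ^ n.factorization p) :
    ∃ T : Subgroup G, T.Normal ∧ Nat.card T = n := by
  classical
  have hm0 : m ≠ 0 := by
    intro h
    rw [h, mul_zero] at hcard
    exact Nat.card_pos.ne' hcard
  have hS : ∀ p : ℕ, p.Prime → p ∣ n →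
      ∃ Q : Subgroup G, Q.Normal ∧ Nat.card Q = p ^ n.factorization p := by
    intro p hp hpn
    haveI : Fact p.Prime := ⟨hp⟩
    obtain ⟨Q⟩ : Nonempty (Sylow p G) := inferInstance
    have hpm : ¬ p ∣ m := fun h => hp.one_lt.ne' (Nat.eq_one_of_dvd_coprimes hcop hpn h)
    have hfac : (Nat.card G).factorization p = n.factorization p := by
      rw [hcard, Nat.factorization_mul hn0 hm0, Finsupp.add_apply,
        Nat.factorization_eq_zero_of_not_dvd hpm, add_zero]
    have hQ : Nat.card Q = p ^ n.factorization p := by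
      rw [Sylow.card_eq_multiplicity, hfac]
    exact ⟨Q, sylow_normal_of_count Q hQ (hcount p hp hpn), hQ⟩
  have key : ∀ s : Finset ℕ, s ⊆ n.primeFactors →
      ∃ T : Subgroup G, T.Normal ∧ Nat.card T = ∏ p ∈ s, p ^ n.factorization p := by
    intro s
    induction s using Finset.induction_on with
    | empty =>
      intro _
      exact ⟨⊥, inferInstance, by simp⟩
    | insert p s hps ih =>
      intro hsub
      obtain ⟨T, hTn, hT⟩ := ih ((Finset.subset_insert _ _).trans hsub)
      have hpp := hsub (Finset.mem_insert_self p s)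
      have hp : p.Prime := Nat.prime_of_mem_primeFactors hpp
      have hpn : p ∣ n := Nat.dvd_of_mem_primeFactors hpp
      obtain ⟨Q, hQn, hQ⟩ := hS p hp hpn
      haveI := hTn
      haveI := hQn
      refine ⟨T ⊔ Q, inferInstance, ?_⟩
      have hc : (Nat.card T).Coprime (Nat.card Q) := by
        rw [hT, hQ]
        apply Nat.Coprime.prod_left
        intro q hq
        have hq' := hsub (Finset.mem_insert_of_mem hq)
        have hqp : q.Prime := Nat.prime_of_mem_primeFactors hq'
        apply Nat.Coprime.pow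
        rw [Nat.coprime_primes hqp hp]
        rintro rfl
        exact hps hq
      have hbot : T ⊓ Q = ⊥ := (Subgroup.disjoint_of_coprime_natCard hc).eq_bot
      have h1 := Cfsg.Agent.Lib.Replacement.card_sup_mul_card_inf T Q (by
        rw [Subgroup.normalizer_eq_top_iff.mpr hQn]; exact le_top)
      rw [hbot, Subgroup.card_bot, mul_one] at h1
      rw [h1, hT, hQ, Finset.prod_insert hps, mul_comm]
  obtain ⟨T, hTn, hT⟩ := key n.primeFactors subset_rfl
  refine ⟨T, hTn, ?_⟩
  rw [hT]
  have := Nat.prod_factorization_pow_eq_self hn0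
  rw [Finsupp.prod, Nat.support_factorization] at this
  exact this

/-- Fixed-point-freeness from the order condition. -/
theorem fpf_of_orders {n m : ℕ} (hcop : n.Coprime m)
    (hord : ∀ g : G, orderOf g ∣ n ∨ orderOf g ∣ m)
    (T H : Subgroup G) (hT : Nat.card T = n) (hH : Nat.card H = m) :
    ∀ h ∈ H, h ≠ 1 → ∀ k ∈ T, h * k = k * h → k = 1 := by
  intro h hh hh1 k hk hc
  have h1 : orderOf h ∣ m := by
    have := orderOf_dvd_natCard (⟨h, hh⟩ : H)
    rwa [Subgroup.orderOf_mk, hH] at this
  have h2 : orderOf k ∣ n := by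
    have := orderOf_dvd_natCard (⟨k, hk⟩ : T)
    rwa [Subgroup.orderOf_mk, hT] at this
  have hcom : Commute h k := hc
  have hcop' : (orderOf h).Coprime (orderOf k) :=
    Nat.Coprime.coprime_dvd_left h1 (Nat.Coprime.coprime_dvd_right h2 hcop.symm)
  have h3 := hcom.orderOf_mul_eq_mul_orderOf_of_coprime hcop'
  rcases hord (h * k) with h4 | h4
  · rw [h3] at h4
    exfalso
    apply hh1
    rw [← orderOf_eq_one_iff]
    exact Nat.eq_one_of_dvd_coprimes hcop.symm h1 ((dvd_mul_right _ _).trans h4)
  · rw [h3] at h4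
    rw [← orderOf_eq_one_iff]
    exact Nat.eq_one_of_dvd_coprimes hcop h2 ((dvd_mul_left _ _).trans h4)

end GSide

section FSide

variable {X : Type*} [Group X] [Finite X] {C N : Subgroup X}

open Cfsg.Agent.S4001 Cfsg.Agent.Lib.Frobenius

/-- Orders of elements of a Frobenius group. -/
theorem order_dvd' (hN : (N : Set X) = frobeniusKernel C) {g : X} (hg : g ∉ N) :
    orderOf g ∣ Nat.card C := by
  have hgk : g ∉ frobeniusKernel C := by
    rw [← hN]
    exact hg
  obtain ⟨-, a, ha⟩ := not_mem_kernel_iff.mp hgk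
  have h1 := orderOf_dvd_natCard (⟨_, ha⟩ : C)
  rw [Subgroup.orderOf_mk] at h1
  have h2 : orderOf (a⁻¹ * g * a) = orderOf g := by
    have := orderOf_injective (MulAut.conj a⁻¹).toMonoidHom (MulAut.conj a⁻¹).injective g
    simpa [MulAut.conj_apply] using this
  rwa [h2] at h1

theorem order_dvd (hN : (N : Set X) = frobeniusKernel C) (g : X) :
    orderOf g ∣ Nat.card N ∨ orderOf g ∣ Nat.card C := by
  by_cases hg : g ∈ N
  · left
    have := orderOf_dvd_natCard (⟨g, hg⟩ : N)
    rwa [Subgroup.orderOf_mk] at this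
  · exact Or.inr (order_dvd' hN hg)

/-- The fixed-point-free form. -/
theorem fpf_form (hC : IsFrobeniusComplement C) (hN : (N : Set X) = frobeniusKernel C) :
    ∀ h ∈ C, h ≠ 1 → ∀ k ∈ N, h * k = k * h → k = 1 := by
  intro h hh hh1 k hk hc
  have h1 := Cfsg.Agent.Lib.FrobConj.kernel_fpf hC hN h hh hh1
  have h3 : k ∈ N ⊓ Subgroup.centralizer {h} :=
    Subgroup.mem_inf.mpr ⟨hk, Subgroup.mem_centralizer_singleton_iff.mpr hc.symm⟩
  rw [h1, Subgroup.mem_bot] at h3
  exact h3

/-- Number of `p`-power solutions in a nilpotent group. -/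
theorem ncard_nilp {A : Type*} [Group A] [Finite A] (hA : Group.IsNilpotent A) (p : ℕ) [Fact p.Prime] :
    Set.ncard {g : A | g ^ (p ^ (Nat.card A).factorization p) = 1} =
      p ^ (Nat.card A).factorization p := by
  classical
  obtain ⟨P⟩ : Nonempty (Sylow p A) := inferInstance
  have hPn : (P : Subgroup A).Normal := by
    have := (Group.isNilpotent_of_finite_tfae (G := A)).out 0 3
    exact this.mp hA p inferInstance P
  have hP : Nat.card P = p ^ (Nat.card A).factorization p := Sylow.card_eq_multiplicity P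
  have heq : {g : A | g ^ (p ^ (Nat.card A).factorization p) = 1} = (P : Subgroup A) := by
    ext g
    constructor
    · intro hg
      have h0 : orderOf g ∣ p ^ (Nat.card A).factorization p := orderOf_dvd_of_pow_eq_one hg
      obtain ⟨k, -, hk⟩ := (Nat.dvd_prime_pow Fact.out).mp h0
      have h1 : IsPGroup p (Subgroup.zpowers g) := by
        rw [IsPGroup.iff_card]
        exact ⟨k, by rw [Nat.card_zpowers, hk]⟩
      obtain ⟨Q, hQ⟩ := h1.exists_le_sylow
      letI := Sylow.unique_of_normal P hPn
      have hQP : Q = P := Subsingleton.elim _ _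
      rw [hQP] at hQ
      exact hQ (Subgroup.mem_zpowers g)
    · intro hg
      have h1 := orderOf_dvd_natCard (⟨g, hg⟩ : (P : Subgroup A))
      rw [Subgroup.orderOf_mk, hP] at h1
      exact orderOf_dvd_iff_pow_eq_one.mp h1
  rw [heq, ← hP]
  exact (Nat.card_coe_set_eq _).symm

/-- Count in the Frobenius group. -/
theorem ncard_frob (hC : IsFrobeniusComplement C) (hN : (N : Set X) = frobeniusKernel C)
    (p : ℕ) (hp : p.Prime) (_hpn : p ∣ Nat.card N) :
    Set.ncard {g : X | g ^ (p ^ (Nat.card N).factorization p) = 1} =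
      p ^ (Nat.card N).factorization p := by
  classical
  haveI : Fact p.Prime := ⟨hp⟩
  have hnil := frob_nilp hC hN
  have hcop : (Nat.card N).Coprime (Nat.card C) := (frob_coprime hC hN).symm
  set a := (Nat.card N).factorization p with ha
  have himg : {g : X | g ^ (p ^ a) = 1} = N.subtype '' {g : N | g ^ (p ^ a) = 1} := by
    ext g
    constructor
    · intro hg
      have hg' : g ^ (p ^ a) = 1 := hg
      have h1 : orderOf g ∣ p ^ a := orderOf_dvd_of_pow_eq_one hg'
      have hgN : g ∈ N := by
        by_contra hgN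
        have h2 := order_dvd' hN hgN
        have hc2 : (p ^ a).Coprime (Nat.card C) :=
          Nat.Coprime.coprime_dvd_left (Nat.ordProj_dvd _ _) hcop
        have h3 := Nat.eq_one_of_dvd_coprimes hc2 h1 h2
        rw [orderOf_eq_one_iff] at h3
        apply hgN
        rw [h3]
        exact N.one_mem
      exact ⟨⟨g, hgN⟩, by simpa [Subtype.ext_iff] using hg', rfl⟩
    · rintro ⟨x, hx, rfl⟩
      have hx' : x ^ (p ^ a) = 1 := hx
      show (N.subtype x) ^ (p ^ a) = 1
      rw [← map_pow, hx', map_one]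
  rw [himg, Set.ncard_image_of_injective _ N.subtype_injective]
  exact ncard_nilp hnil p

end FSide

section Build

variable {F G : Type*} [Group F] [Finite F] [Group G] [Finite G]

open Cfsg.Agent.S4001

/-- The kernel and complement in `G`. -/
theorem exists_pair {C N : Subgroup F} (hC : IsFrobeniusComplement C)
    (hN : (N : Set F) = frobeniusKernel C) (e : F ≃ G) (he : ∀ g, orderOf (e g) = orderOf g) :
    ∃ T H : Subgroup G, T.Normal ∧ Subgroup.IsComplement' T H ∧ Nat.card T = Nat.card N ∧
      Nat.card H = Nat.card C ∧ (∀ h ∈ H, h ≠ 1 → ∀ k ∈ T, h * k = k * h → k = 1) := by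
  classical
  have hcop : (Nat.card N).Coprime (Nat.card C) := (frob_coprime hC hN).symm
  have hcard : Nat.card G = Nat.card N * Nat.card C := by
    rw [← Nat.card_congr e, (frob_facts hC hN).2.card_mul_card.symm]
  have hpow : ∀ (k : ℕ) (g : F), (e g) ^ k = 1 ↔ g ^ k = 1 := by
    intro k g
    rw [← orderOf_dvd_iff_pow_eq_one, he, orderOf_dvd_iff_pow_eq_one]
  have hcount : ∀ p : ℕ, p.Prime → p ∣ Nat.card N →
      Set.ncard {g : G | g ^ (p ^ (Nat.card N).factorization p) = 1} =
        p ^ (Nat.card N).factorization p := by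
    intro p hp hpn
    have h1 := ncard_frob hC hN p hp hpn
    have h2 : {g : G | g ^ (p ^ (Nat.card N).factorization p) = 1} =
        e '' {g : F | g ^ (p ^ (Nat.card N).factorization p) = 1} := by
      ext x
      constructor
      · intro hx
        refine ⟨e.symm x, ?_, by simp⟩
        have := (hpow _ (e.symm x)).mp (by simpa using hx)
        exact this
      · rintro ⟨g, hg, rfl⟩
        exact (hpow _ g).mpr hg
    rw [h2, Set.ncard_image_of_injective _ e.injective, h1]
  obtain ⟨T, hTn, hT⟩ := exists_normal_of_count hcard Nat.card_pos.ne' hcop hcount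
  haveI := hTn
  have hidx : T.index = Nat.card C := by
    have h1 := Subgroup.card_mul_index T
    rw [hT, hcard] at h1
    exact Nat.eq_of_mul_eq_mul_left Nat.card_pos h1
  obtain ⟨H, hH⟩ := Subgroup.exists_right_complement'_of_coprime (N := T) (by
    rw [hT, hidx]; exact hcop)
  have hHc : Nat.card H = Nat.card C := by rw [← hidx]; exact hH.symm.index_eq_card.symm
  refine ⟨T, H, hTn, hH, hT, hHc, ?_⟩
  apply fpf_of_orders hcop _ T H hT hHc
  intro g
  have h1 := order_dvd hN (e.symm g)
  rw [← he (e.symm g)] at h1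
  simpa using h1

end Build

section Five

variable {Z : Type*} [Group Z] [Finite Z]
variable {V : Type*} [CommGroup V] [Finite V] [Nontrivial V] {φ : Z →* MulAut V}

/-- In a `Z`-group acting fixed-point-freely, elements of order five generate the same subgroup. -/
theorem order_five_zgroup [IsZGroup Z] (h : IsFpf φ) {x y : Z} (hx : orderOf x = 5)
    (hy : orderOf y = 5) : y ∈ Subgroup.zpowers x := by
  classical
  have h5 : Nat.Prime 5 := by norm_num
  set W : Subgroup Z := commutator Z with hW
  haveI hWn : W.Normal := inferInstance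
  haveI hWc : IsCyclic W := IsZGroup.isCyclic_commutator (G := Z)
  have hcop : (Nat.card W).Coprime W.index := IsZGroup.coprime_commutator_index (G := Z)
  haveI hQc : IsCyclic (Z ⧸ W) := by
    have := IsZGroup.isCyclic_abelianization (G := Z)
    exact this
  by_cases hd : 5 ∣ Nat.card W
  · have hmem : ∀ u : Z, orderOf u = 5 → u ∈ W := by
      intro u hu
      have h1 : orderOf ((u : Z ⧸ W)) ∣ 5 := by
        rw [← hu]
        exact orderOf_map_dvd (QuotientGroup.mk' W) u
      have h2 : orderOf ((u : Z ⧸ W)) ∣ W.index := orderOf_dvd_natCard _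
      have h3 : (5 : ℕ).Coprime W.index := Nat.Coprime.coprime_dvd_left hd hcop
      have h4 := Nat.eq_one_of_dvd_coprimes h3 h1 h2
      rw [orderOf_eq_one_iff] at h4
      exact (QuotientGroup.eq_one_iff u).mp h4
    have h1 := Cfsg.Agent.Lib.FrobCompl.zpowers_eq_of_orderOf_eq
      (C := W) (x := ⟨y, hmem y hy⟩) (y := ⟨x, hmem x hx⟩) (by
        rw [Subgroup.orderOf_mk, Subgroup.orderOf_mk, hx, hy])
    have h2 : (⟨y, hmem y hy⟩ : W) ∈ Subgroup.zpowers (⟨x, hmem x hx⟩ : W) := by
      rw [← h1]
      exact Subgroup.mem_zpowers _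
    obtain ⟨i, hi⟩ := Subgroup.mem_zpowers_iff.mp h2
    refine Subgroup.mem_zpowers_iff.mpr ⟨i, ?_⟩
    have := congrArg Subtype.val hi
    simpa using this
  · have hcx : ∀ u : Z, orderOf u = 5 → ∀ w ∈ W, u * w = w * u := fun u hu =>
      Cfsg.Agent.S3358.commutes_of_prime_order h hWc h5 hu hd
    have hnot : ∀ u : Z, orderOf u = 5 → u ∉ W := by
      intro u hu huW
      apply hd
      have := orderOf_dvd_natCard (⟨u, huW⟩ : W)
      rwa [Subgroup.orderOf_mk, hu] at this
    have hordq : ∀ u : Z, orderOf u = 5 → orderOf (u : Z ⧸ W) = 5 := by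
      intro u hu
      have h1 : orderOf ((u : Z ⧸ W)) ∣ 5 := by
        rw [← hu]
        exact orderOf_map_dvd (QuotientGroup.mk' W) u
      rcases (Nat.dvd_prime h5).mp h1 with h2 | h2
      · rw [orderOf_eq_one_iff] at h2
        exact absurd ((QuotientGroup.eq_one_iff u).mp h2) (hnot u hu)
      · exact h2
    have h1 := Cfsg.Agent.Lib.FrobCompl.zpowers_eq_of_orderOf_eq
      (C := Z ⧸ W) (x := (y : Z ⧸ W)) (y := (x : Z ⧸ W)) (by rw [hordq y hy, hordq x hx])
    have h2 : (y : Z ⧸ W) ∈ Subgroup.zpowers (x : Z ⧸ W) := by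
      rw [← h1]
      exact Subgroup.mem_zpowers _
    obtain ⟨i, hi⟩ := Subgroup.mem_zpowers_iff.mp h2
    have hw : (x ^ i)⁻¹ * y ∈ W := by
      rw [← QuotientGroup.eq]
      rw [QuotientGroup.mk_zpow]
      exact hi
    set w := (x ^ i)⁻¹ * y with hwd
    have hyw : y = x ^ i * w := by rw [hwd]; group
    have hcom : Commute (x ^ i) w := by
      have : Commute x w := hcx x hx w hw
      exact this.zpow_left i
    have hw5 : w ^ 5 = 1 := by
      have hy5 : y ^ 5 = 1 := by
        rw [← hy]; exact pow_orderOf_eq_one y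
      rw [hyw, hcom.mul_pow] at hy5
      have hx5 : (x ^ i) ^ 5 = 1 := by
        rw [← zpow_natCast, ← zpow_mul, mul_comm, zpow_mul, zpow_natCast]
        have : x ^ 5 = 1 := by rw [← hx]; exact pow_orderOf_eq_one x
        rw [this, one_zpow]
      rwa [hx5, one_mul] at hy5
    have hw1 : w = 1 := by
      have h3 : orderOf w ∣ 5 := orderOf_dvd_of_pow_eq_one hw5
      have h4 : orderOf w ∣ Nat.card W := by
        have := orderOf_dvd_natCard (⟨w, hw⟩ : W)
        rwa [Subgroup.orderOf_mk] at this
      rcases (Nat.dvd_prime h5).mp h3 with h6 | h6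
      · exact orderOf_eq_one_iff.mp h6
      · rw [h6] at h4
        exact absurd h4 hd
    rw [hyw, hw1, mul_one]
    exact Subgroup.zpow_mem_zpowers x i

end Five

section FiveCount

variable {A : Type*} [Group A] [Finite A]
variable {V : Type*} [CommGroup V] [Finite V] [Nontrivial V] {φ : A →* MulAut V}

/-- A solvable fixed-point-free group has at most four elements of order five. -/
theorem card_order_five_le [Group.IsSolvable A] (h : IsFpf φ) :
    Nat.card {a : A // orderOf a = 5} ≤ 4 := by
  classical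
  have hstruct : ∃ G₀ : Subgroup A, G₀.Normal ∧ (∃ f : A →* Equiv.Perm (Fin 4), f.ker = G₀) ∧
      IsZGroup G₀ := by
    by_cases hQ : Nonempty (Cfsg.pCore 2 A ≃* QuaternionGroup 2)
    · obtain ⟨e'⟩ := hQ
      haveI : (Cfsg.pCore 2 A).Normal := Cfsg.Agent.Lib.PCore.pCore_normal 2
      exact Cfsg.Agent.S3358.case_q8 h _ e'
    · exact Cfsg.Agent.S3358.case_not_q8 h hQ
  obtain ⟨G₀, hn, ⟨f, hf⟩, hZ⟩ := hstruct
  have hmem : ∀ x : A, orderOf x = 5 → x ∈ G₀ := by
    intro x hx
    rw [← hf, MonoidHom.mem_ker]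
    have h1 : orderOf (f x) ∣ 5 := by
      rw [← hx]
      exact orderOf_map_dvd f x
    have h2 : orderOf (f x) ∣ Nat.card (Equiv.Perm (Fin 4)) := orderOf_dvd_natCard _
    have h3 : Nat.card (Equiv.Perm (Fin 4)) = 24 := by
      rw [Nat.card_eq_fintype_card, Fintype.card_perm, Fintype.card_fin]; rfl
    rw [h3] at h2
    have h4 : orderOf (f x) = 1 := by
      rcases (Nat.dvd_prime (by norm_num : Nat.Prime 5)).mp h1 with h5 | h5
      · exact h5
      · rw [h5] at h2
        omega
    exact orderOf_eq_one_iff.mp h4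
  have hu : ∀ x y : A, orderOf x = 5 → orderOf y = 5 → y ∈ Subgroup.zpowers x := by
    intro x y hx hy
    have h1 := order_five_zgroup (Z := G₀) (V := V) (φ := φ.comp G₀.subtype)
      (h.comp G₀.subtype G₀.subtype_injective) (x := ⟨x, hmem x hx⟩) (y := ⟨y, hmem y hy⟩)
      (by rw [Subgroup.orderOf_mk, hx]) (by rw [Subgroup.orderOf_mk, hy])
    obtain ⟨i, hi⟩ := Subgroup.mem_zpowers_iff.mp h1
    refine Subgroup.mem_zpowers_iff.mpr ⟨i, ?_⟩
    have := congrArg Subtype.val hi
    simpa using this
  by_cases hne : Nonempty {a : A // orderOf a = 5}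
  · obtain ⟨⟨x, hx⟩⟩ := hne
    have hsub : (insert 1 {a : A | orderOf a = 5}) ⊆ (Subgroup.zpowers x : Set A) := by
      intro a ha
      rcases ha with rfl | ha
      · exact Subgroup.one_mem _
      · exact hu x a hx ha
    have h1 := Set.ncard_le_ncard hsub (Set.toFinite _)
    have h2 : ((Subgroup.zpowers x : Subgroup A) : Set A).ncard = 5 := by
      rw [← Nat.card_coe_set_eq]
      show Nat.card (Subgroup.zpowers x) = 5
      rw [Nat.card_zpowers, hx]
    rw [h2, Set.ncard_insert_of_notMem (by
      simp) (Set.toFinite _)] at h1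
    have h3 : Nat.card {a : A // orderOf a = 5} = Set.ncard {a : A | orderOf a = 5} :=
      Nat.card_coe_set_eq _
    omega
  · have : IsEmpty {a : A // orderOf a = 5} := not_nonempty_iff.mp hne
    rw [Nat.card_of_isEmpty]
    omega

/-- There are at least five elements of order five in `SL(2,5)`. -/
theorem A5_card : 5 ≤ (Cfsg.Agent.Lib.ZStruct.A5).card := by decide +kernel

/-- A non-solvable fixed-point-free group has at least five elements of order five. -/
theorem five_le_card_order_five (hns : ¬ Group.IsSolvable A) (h : IsFpf φ) :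
    5 ≤ Nat.card {a : A // orderOf a = 5} := by
  classical
  obtain ⟨G₀, -, -, S, M, -, -, -, ⟨ι⟩, -, -⟩ := Cfsg.Agent.Lib.ZStruct.nonsolv_struct (V := V) hns h
  haveI : Fact (Nat.Prime 5) := ⟨by norm_num⟩
  let f : {m // m ∈ Cfsg.Agent.Lib.ZStruct.A5} → {a : A // orderOf a = 5} := fun m =>
    ⟨(ι.symm m.1 : S), by
      have hm := (Finset.mem_filter.mp m.2).2
      apply orderOf_eq_prime
      · have : ι.symm m.1 ^ 5 = 1 := by rw [← map_pow, hm.1, map_one]
        have h2 := congrArg Subtype.val this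
        simpa using h2
      · intro h1
        apply hm.2
        have h2 : ι.symm m.1 = 1 := Subtype.ext h1
        simpa using h2⟩
  have hf : Function.Injective f := by
    intro a b hab
    have h0 : (f a).1 = (f b).1 := congrArg Subtype.val hab
    have h1 : (ι.symm a.1 : A) = ι.symm b.1 := h0
    have h2 : ι.symm a.1 = ι.symm b.1 := Subtype.ext h1
    exact Subtype.ext (ι.symm.injective h2)
  have h1 := Nat.card_le_card_of_injective f hf
  have h2 : Nat.card {m // m ∈ Cfsg.Agent.Lib.ZStruct.A5} = (Cfsg.Agent.Lib.ZStruct.A5).card := by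
    rw [Nat.card_eq_fintype_card, Fintype.card_coe]
  have h3 := A5_card
  omega

end FiveCount

section Main

variable {F G : Type*} [Group F] [Finite F] [Group G] [Finite G]

/-- Solvability passes across the order type. -/
theorem solvable_transfer
    (hT : ∀ m : ℕ, Nat.card {g : F // orderOf g = m} = Nat.card {h : G // orderOf h = m})
    {N C : Subgroup F} {N' C' : Subgroup G} [N.Normal] [N'.Normal]
    (hc : Subgroup.IsComplement' N C) (hc' : Subgroup.IsComplement' N' C')
    (hf : ∀ h ∈ C, h ≠ 1 → ∀ k ∈ N, h * k = k * h → k = 1)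
    (hf' : ∀ h ∈ C', h ≠ 1 → ∀ k ∈ N', h * k = k * h → k = 1)
    (hNN : Nat.card N = Nat.card N') (hcop : (Nat.card N').Coprime (Nat.card C'))
    (hC : IsFrobeniusComplement C) (hC' : IsFrobeniusComplement C')
    (hsol : Group.IsSolvable C) : Group.IsSolvable C' := by
  classical
  by_contra hns
  obtain ⟨V, hVc, φ, hV, hφ⟩ := Cfsg.Agent.Lib.FrobConj.exists_fpf_of_isFrobeniusComplement hC
  obtain ⟨V', hVc', φ', hV', hφ'⟩ := Cfsg.Agent.Lib.FrobConj.exists_fpf_of_isFrobeniusComplement hC'
  letI : CommGroup V := { (inferInstance : Group V) with mul_comm := fun a b => hVc.is_comm.comm a b }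
  haveI : Nontrivial V := (Subgroup.nontrivial_iff_ne_bot V).2 hV
  letI : CommGroup V' :=
    { (inferInstance : Group V') with mul_comm := fun a b => hVc'.is_comm.comm a b }
  haveI : Nontrivial V' := (Subgroup.nontrivial_iff_ne_bot V').2 hV'
  have h4 := card_order_five_le hφ
  have h5 := five_le_card_order_five hns hφ'
  have hne : Nonempty {a : C' // orderOf a = 5} := by
    by_contra h
    have : IsEmpty {a : C' // orderOf a = 5} := not_nonempty_iff.mp h
    rw [Nat.card_of_isEmpty] at h5
    omega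
  obtain ⟨⟨a, ha⟩⟩ := hne
  have hdvd : 5 ∣ Nat.card C' := by
    rw [← ha]
    exact orderOf_dvd_natCard a
  have hc5 : (5 : ℕ).Coprime (Nat.card N') := Nat.Coprime.coprime_dvd_left hdvd hcop.symm
  have h1 := card_order N' C' hc' hf' (d := 5) (by norm_num) hc5
  have h2 := card_order N C hc hf (d := 5) (by norm_num) (by rw [hNN]; exact hc5)
  rw [hT 5, h1, hNN] at h2
  have h3 := Nat.eq_of_mul_eq_mul_left Nat.card_pos h2
  omega

/-- Solvability of a Frobenius pair. -/
theorem pair_solv {X : Type*} [Group X] [Finite X] (N C : Subgroup X) [N.Normal]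
    (hc : Subgroup.IsComplement' N C) (hN : Group.IsSolvable N) :
    Group.IsSolvable X ↔ Group.IsSolvable C := by
  constructor
  · intro h
    exact Group.isSolvable_of_isSolvable_injective C.subtype_injective
  · intro h
    have hsurj : Function.Surjective ((QuotientGroup.mk' N).comp C.subtype) := by
      intro q
      obtain ⟨g, rfl⟩ := QuotientGroup.mk_surjective q
      obtain ⟨k, hk, a, ha, rfl⟩ := exists_decomp N C hc.sup_eq_top g
      refine ⟨⟨a, ha⟩, ?_⟩
      show ((a : X) : X ⧸ N) = ((k * a : X) : X ⧸ N)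
      rw [QuotientGroup.eq]
      have h1 : a⁻¹ * (k * a) = a⁻¹ * k * a := by group
      rw [h1]
      have := (inferInstance : N.Normal).conj_mem k hk a⁻¹
      simpa using this
    haveI : Group.IsSolvable (X ⧸ N) := Group.isSolvable_of_surjective hsurj
    exact Group.isSolvable_of_ker_le_range N.subtype (QuotientGroup.mk' N) (by
      intro x hx
      rw [MonoidHom.mem_ker, QuotientGroup.mk'_apply, QuotientGroup.eq_one_iff] at hx
      exact ⟨⟨x, hx⟩, rfl⟩)

/-- The complement `T` in a pair is nilpotent. -/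
theorem pair_nilp {X : Type*} [Group X] [Finite X] (T H : Subgroup X) [hTn : T.Normal]
    (hc : Subgroup.IsComplement' T H) (hH : IsFrobeniusComplement H) : Group.IsSolvable T := by
  classical
  obtain ⟨N', h1, h2, h3⟩ := Cfsg.Agent.S0042.result H hH
  have hle : T ≤ N' := by
    intro t ht
    have : t ∈ (N' : Set X) := by
      rw [h1]
      by_cases ht1 : t = 1
      · exact Or.inl ht1
      · refine Or.inr fun g hg => ht1 ?_
        rw [Cfsg.Agent.Lib.Frobenius.mem_conj_iff] at hg
        have h4 : g⁻¹ * t * g ∈ T ⊓ H := by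
          refine Subgroup.mem_inf.mpr ⟨?_, hg⟩
          have := hTn.conj_mem t ht g⁻¹
          simpa using this
        rw [hc.disjoint.eq_bot, Subgroup.mem_bot] at h4
        have h5 : t = g * (g⁻¹ * t * g) * g⁻¹ := by group
        rw [h5, h4]
        simp
    exact this
  have hc' := (Cfsg.Agent.S4001.frob_facts hH h1).2
  have hcard : Nat.card N' = Nat.card T := by
    have e1 := hc.card_mul_card
    have e2 := hc'.card_mul_card
    rw [← e2] at e1
    exact (Nat.eq_of_mul_eq_mul_right Nat.card_pos e1).symm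
  have heq : T = N' := Subgroup.eq_of_le_of_card_ge hle hcard.le
  subst heq
  infer_instance

/-- Let F be a finite Frobenius group (it has a Frobenius complement) and G a finite group with the same order type as F (for every m the same number of elements of order m). Then G is a Frobenius group; moreover G is solvable if and only if F is. -/
theorem result {F G : Type*} [Group F] [Finite F] [Group G] [Finite G] (hF : (∃ C : Subgroup F, Cfsg.IsFrobeniusComplement C)) (hT : (∀ m : ℕ, Nat.card {g : F // orderOf g = m} = Nat.card {h : G // orderOf h = m})) :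
    (∃ C : Subgroup G, Cfsg.IsFrobeniusComplement C) ∧ (Group.IsSolvable G ↔ Group.IsSolvable F) := by
  classical
  obtain ⟨C, hC⟩ := hF
  obtain ⟨N, hNset, hNn, hNc⟩ := Cfsg.Agent.S0035.result C hC
  haveI := hNn
  obtain ⟨e, he⟩ := exists_order_equiv hT
  obtain ⟨T, H, hTn, hTH, hTcard, hHcard, hfpf⟩ := exists_pair hC hNset e he
  haveI := hTn
  have hNne : N ≠ ⊥ := Cfsg.Agent.S4001.frob_ne_bot hC hNset
  have hTne : T ≠ ⊥ := by
    rintro rfl
    apply hNne
    rw [← Subgroup.card_eq_one, ← hTcard]
    exact Subgroup.card_bot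
  have hHne : H ≠ ⊥ := by
    rintro rfl
    apply hC.1
    rw [← Subgroup.card_eq_one, ← hHcard]
    exact Subgroup.card_bot
  have hH : IsFrobeniusComplement H := by
    refine (Cfsg.Agent.S0039.result T H hTH hTne hHne).mpr ?_
    intro h hh hh1
    rw [eq_bot_iff]
    intro k hk
    obtain ⟨hk1, hk2⟩ := Subgroup.mem_inf.mp hk
    rw [Subgroup.mem_centralizer_singleton_iff] at hk2
    exact Subgroup.mem_bot.mpr (hfpf h hh hh1 k hk1 hk2.symm)
  refine ⟨⟨H, hH⟩, ?_⟩
  have hFs := pair_solv N C hNc (pair_nilp N C hNc hC)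
  have hGs := pair_solv T H hTH (pair_nilp T H hTH hH)
  rw [hFs, hGs]
  have hf := fpf_form hC hNset
  have hcop : (Nat.card N).Coprime (Nat.card C) := (Cfsg.Agent.S4001.frob_coprime hC hNset).symm
  have hcop' : (Nat.card T).Coprime (Nat.card H) := by rw [hTcard, hHcard]; exact hcop
  constructor
  · exact solvable_transfer (fun m => (hT m).symm) hTH hNc hfpf hf hTcard hcop hH hC
  · exact solvable_transfer hT hNc hTH hf hfpf hTcard.symm hcop' hC hH

end Main

end Cfsg.Agent.S3999
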