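import Mathlib
import Cfsg.Statements.S4006
import Cfsg.Agent.S3779
import Cfsg.Agent.Lib.PCore
import Cfsg.Agent.Lib.BurnsidePQ
import Cfsg.Agent.Lib.UniqueSub
import Cfsg.Agent.Lib.FrobCompl
import Cfsg.Agent.Lib.Fpf4

set_option autoImplicit false
set_option linter.style.haveILetI false
open Cfsg

namespace Cfsg.Agent.S4006

open Cfsg.Agent.Lib.PCore
open Equiv

section

variable {G : Type*} [Group G]

/-- The hypothesis on element orders. -/
abbrev Ord14 (G : Type*) [Group G] : Prop :=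
  Set.range (orderOf : G → ℕ) = {k : ℕ | 1 ≤ k ∧ k ≤ 4}

theorem ord_cases (h : Ord14 G) (x : G) :
    orderOf x = 1 ∨ orderOf x = 2 ∨ orderOf x = 3 ∨ orderOf x = 4 := by
  have h1 : orderOf x ∈ {k : ℕ | 1 ≤ k ∧ k ≤ 4} := by
    rw [← h]; exact ⟨x, rfl⟩
  obtain ⟨h2, h3⟩ := h1
  omega

theorem exists_ord (h : Ord14 G) (k : ℕ) (h1 : 1 ≤ k) (h4 : k ≤ 4) : ∃ x : G, orderOf x = k := by
  have h2 : k ∈ Set.range (orderOf : G → ℕ) := by
    rw [h]; exact ⟨h1, h4⟩
  exact h2

theorem no_comm (h : Ord14 G) {x y : G} (hx1 : x ≠ 1) (hx4 : x ^ 4 = 1) (hy : orderOf y = 3) :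
    ¬ Commute x y := by
  intro hc
  have h1 : orderOf x ∣ 4 := orderOf_dvd_of_pow_eq_one hx4
  have h2 : orderOf x ≠ 1 := by
    intro h3; exact hx1 (orderOf_eq_one_iff.mp h3)
  have h3 : orderOf x = 2 ∨ orderOf x = 4 := by
    have : orderOf x ≤ 4 := Nat.le_of_dvd (by norm_num) h1
    generalize orderOf x = n at *
    interval_cases n <;> omega
  have h4 : (orderOf x).Coprime (orderOf y) := by
    rw [hy]; rcases h3 with h3 | h3 <;> rw [h3] <;> norm_num
  have h5 := hc.orderOf_mul_eq_mul_orderOf_of_coprime h4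
  rcases ord_cases h (x * y) with h6 | h6 | h6 | h6 <;> rw [h6, hy] at h5 <;>
    rcases h3 with h3 | h3 <;> rw [h3] at h5 <;> omega

theorem not_dvd_orderOf {p : ℕ} [hp : Fact p.Prime] {H : Subgroup G} (hH : IsPGroup p H) {x : G}
    (hx : x ∈ H) {q : ℕ} (hq : q.Prime) (hpq : q ≠ p) : ¬ q ∣ orderOf x := by
  intro hd
  obtain ⟨k, hk⟩ := hH ⟨x, hx⟩
  have h1 : x ^ (p ^ k) = 1 := by
    have := congrArg Subtype.val hk
    simpa using this
  have h2 : q ∣ p ^ k := hd.trans (orderOf_dvd_of_pow_eq_one h1)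
  exact hpq ((Nat.prime_dvd_prime_iff_eq hq hp.out).mp (hq.dvd_of_dvd_pow h2))

theorem pow_four_of_two (h : Ord14 G) {H : Subgroup G} (hH : IsPGroup 2 H) {x : G} (hx : x ∈ H) :
    x ^ 4 = 1 := by
  have h3 := not_dvd_orderOf hH hx Nat.prime_three (by norm_num)
  rcases ord_cases h x with h1 | h1 | h1 | h1
  · rw [orderOf_eq_one_iff.mp h1, one_pow]
  · exact orderOf_dvd_iff_pow_eq_one.mp (by rw [h1]; norm_num)
  · exact absurd (by rw [h1]) h3
  · exact orderOf_dvd_iff_pow_eq_one.mp (by rw [h1])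

theorem pow_three_of_three (h : Ord14 G) {H : Subgroup G} (hH : IsPGroup 3 H) {x : G} (hx : x ∈ H) :
    x ^ 3 = 1 := by
  have h3 := not_dvd_orderOf hH hx Nat.prime_two (by norm_num)
  rcases ord_cases h x with h1 | h1 | h1 | h1
  · rw [orderOf_eq_one_iff.mp h1, one_pow]
  · exact absurd (by rw [h1]) h3
  · exact orderOf_dvd_iff_pow_eq_one.mp (by rw [h1])
  · exact absurd (by rw [h1]; norm_num) h3

theorem prime_cases [Finite G] (h : Ord14 G) {p : ℕ} (hp : p.Prime) (hd : p ∣ Nat.card G) :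
    p = 2 ∨ p = 3 := by
  haveI : Fact p.Prime := ⟨hp⟩
  obtain ⟨x, hx⟩ := exists_prime_orderOf_dvd_card' p hd
  rcases ord_cases h x with h1 | h1 | h1 | h1 <;> rw [hx] at h1
  · exact absurd h1 hp.one_lt.ne'
  · exact Or.inl h1
  · exact Or.inr h1
  · subst h1; norm_num at hp

theorem solvable [Finite G] (h : Ord14 G) : Group.IsSolvable G := by
  apply Cfsg.Agent.Lib.BurnsidePQ.isSolvable_of_card_eq 2 3 Nat.prime_two Nat.prime_three
    (Nat.card G) G rfl
  set n := Nat.card G with hn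
  have hn0 : n ≠ 0 := Nat.card_pos.ne'
  refine ⟨n.factorization 2, (ordCompl[2] n).primeFactorsList.length, ?_⟩
  have h1 := Nat.ordProj_mul_ordCompl_eq_self n 2
  have h2 : ordCompl[2] n ≠ 0 := by
    intro h3
    rw [h3, mul_zero] at h1
    exact hn0 h1.symm
  have h3 := Nat.eq_prime_pow_of_unique_prime_dvd (n := ordCompl[2] n) (p := 3) h2 (by
    intro d hd hdd
    rcases prime_cases h hd (hdd.trans (Nat.ordCompl_dvd n 2)) with h4 | h4
    · subst h4
      exact absurd hdd (Nat.not_dvd_ordCompl Nat.prime_two hn0)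
    · exact h4)
  rw [← h3, h1]

theorem exists_ne_one_of_ne_bot {H : Subgroup G} (hH : H ≠ ⊥) : ∃ x ∈ H, x ≠ 1 :=
  (Subgroup.ne_bot_iff_exists_ne_one.mp hH).elim (fun x hx => ⟨x, x.2, fun h => hx (Subtype.ext h)⟩)

end

section CaseA

variable {G : Type*} [Group G] [Finite G]

theorem caseA (h : Ord14 G) (hR : pCore 3 G ≠ ⊥) :
    ∃ (N : Subgroup G) (_ : N.Normal), Cfsg.IsElementaryAbelian 3 N ∧
      ((IsCyclic (G ⧸ N) ∧ N.index = 4) ∨ Nonempty (G ⧸ N ≃* QuaternionGroup 2)) := by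
  classical
  set R := pCore 3 G with hRdef
  have hRn : R.Normal := pCore_normal 3 G
  have hRp : IsPGroup 3 R := isPGroup_pCore 3
  have hR3 : ∀ r ∈ R, r ^ 3 = 1 := fun r hr => pow_three_of_three h hRp hr
  obtain ⟨r₀, hr₀, hr₀1⟩ := exists_ne_one_of_ne_bot hR
  have hr₀3 : orderOf r₀ = 3 := orderOf_eq_prime (hR3 _ hr₀) hr₀1
  -- involutions invert `R`
  have hinv : ∀ t : G, orderOf t = 2 → ∀ r ∈ R, t * r * t⁻¹ = r⁻¹ := by
    intro t ht
    have ht2 : t ^ 2 = 1 := orderOf_dvd_iff_pow_eq_one.mp (by rw [ht])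
    have ht1 : t ≠ 1 := by
      rintro rfl
      rw [orderOf_one] at ht; omega
    have ht4 : t ^ 4 = 1 := by
      calc t ^ 4 = (t ^ 2) ^ 2 := by group
        _ = 1 := by rw [ht2, one_pow]
    have := Cfsg.Agent.Lib.Fpf4.inv_of_invol_sub (MulAut.conj t) R
      (fun x hx => by
        rw [MulAut.conj_apply]
        exact hRn.conj_mem x hx t)
      (fun x _ => by
        simp only [MulAut.conj_apply]
        calc t * (t * x * t⁻¹) * t⁻¹ = (t * t) * x * (t * t)⁻¹ := by group
          _ = x := by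
            rw [← pow_two, ht2]; group)
      (fun x hx hfx => by
        by_contra hx1
        have hx3 : orderOf x = 3 := orderOf_eq_prime (hR3 _ hx) hx1
        apply no_comm h ht1 ht4 hx3
        rw [MulAut.conj_apply] at hfx
        show t * x = x * t
        calc t * x = t * x * t⁻¹ * t := by group
          _ = x * t := by rw [hfx])
    intro r hr
    simpa [MulAut.conj_apply] using this r hr
  obtain ⟨z, hz⟩ := exists_ord h (G := G) 2 (by norm_num) (by norm_num)
  have hz2 : z ^ 2 = 1 := orderOf_dvd_iff_pow_eq_one.mp (by rw [hz])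
  have hzi : z⁻¹ = z := by
    rw [inv_eq_iff_mul_eq_one, ← pow_two, hz2]
  -- `R` abelian
  have hRc : ∀ a ∈ R, ∀ b ∈ R, a * b = b * a := by
    apply Cfsg.Agent.Lib.Fpf4.comm_of_inv (MulAut.conj z) R
    intro r hr
    simpa [MulAut.conj_apply] using hinv z hz r hr
  -- centraliser of `R` in `R`
  have hC : ∀ y : G, (∀ r ∈ R, y * r = r * y) → y ∈ R := by
    have hCp : IsPGroup 3 (Subgroup.centralizer (R : Set G)) := by
      rw [IsPGroup.iff_orderOf]
      intro y
      have hy : ∀ r ∈ R, (y : G) * r = r * y := by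
        intro r hr
        have := (Subgroup.mem_centralizer_iff.mp y.2) r hr
        exact this.symm
      have horder : orderOf (y : G) = 1 ∨ orderOf (y : G) = 3 := by
        rcases ord_cases h (y : G) with h1 | h1 | h1 | h1
        · exact Or.inl h1
        · exfalso
          have h2 : (y : G) ^ 2 = 1 := orderOf_dvd_iff_pow_eq_one.mp (by rw [h1])
          apply no_comm h (x := (y : G)) (y := r₀) _ _ hr₀3 (hy r₀ hr₀)
          · intro h3; rw [h3, orderOf_one] at h1; omega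
          · calc (y : G) ^ 4 = ((y : G) ^ 2) ^ 2 := by group
              _ = 1 := by rw [h2, one_pow]
        · exact Or.inr h1
        · exfalso
          apply no_comm h (x := (y : G)) (y := r₀) _ _ hr₀3 (hy r₀ hr₀)
          · intro h3; rw [h3, orderOf_one] at h1; omega
          · exact orderOf_dvd_iff_pow_eq_one.mp (by rw [h1])
      rw [Subgroup.orderOf_coe] at horder
      rcases horder with h1 | h1
      · exact ⟨0, by simpa using h1⟩
      · exact ⟨1, by simpa using h1⟩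
    have hCn : (Subgroup.centralizer (R : Set G)).Normal := inferInstance
    intro y hy
    apply le_pCore hCn hCp
    rw [Subgroup.mem_centralizer_iff]
    intro r hr
    exact (hy r hr).symm
  -- product of two involutions lies in `R`
  have hprod : ∀ t t' : G, orderOf t = 2 → orderOf t' = 2 → t * t' ∈ R := by
    intro t t' ht ht'
    apply hC
    intro r hr
    have h1 := hinv t ht r hr
    have h2 := hinv t' ht' r hr
    have h3 := hinv t ht r⁻¹ (R.inv_mem hr)
    calc t * t' * r = t * (t' * r * t'⁻¹) * t' := by group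
      _ = t * r⁻¹ * t' := by rw [h2]
      _ = (t * r⁻¹ * t⁻¹) * (t * t') := by group
      _ = r * (t * t') := by rw [h3, inv_inv]
  let π := QuotientGroup.mk' R
  have hπ : ∀ g, π g = 1 ↔ g ∈ R := fun g => QuotientGroup.eq_one_iff g
  -- every element of order three lies in `R`
  have hmem3 : ∀ x : G, orderOf x = 3 → x ∈ R := by
    intro x hx
    by_contra hxR
    have hx3 : x ^ 3 = 1 := orderOf_dvd_iff_pow_eq_one.mp (by rw [hx])
    set s := z * x * z⁻¹ * x⁻¹ with hs
    have hconj : orderOf (x * z * x⁻¹) = 2 := by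
      rw [← MulAut.conj_apply, MulEquiv.orderOf_eq, hz]
    have hsR : s ∈ R := by
      have h1 := hprod z (x * z * x⁻¹) hz hconj
      have h2 : z * (x * z * x⁻¹) = s := by
        rw [hs, hzi]; group
      rwa [h2] at h1
    have hs3 := hR3 s hsR
    set c := s⁻¹ * x with hc
    have hcomm : z * c * z⁻¹ = c := by
      have h1 := hinv z hz s⁻¹ (R.inv_mem hsR)
      rw [inv_inv] at h1
      have h2 : z * x * z⁻¹ = s * x := by rw [hs]; group
      calc z * c * z⁻¹ = (z * s⁻¹ * z⁻¹) * (z * x * z⁻¹) := by rw [hc]; group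
        _ = s * (s * x) := by rw [h1, h2]
        _ = s ^ 3 * (s⁻¹ * x) := by rw [pow_three]; simp [mul_assoc]
        _ = c := by rw [hs3, one_mul]
    have hcR : c ∉ R := by
      intro hcR
      apply hxR
      have : x = s * c := by rw [hc]; group
      rw [this]
      exact R.mul_mem hsR hcR
    have hc4 : c ^ 4 ≠ 1 := by
      intro h4
      apply hxR
      have h5 : π x = π c := by
        rw [hc, map_mul, map_inv, (hπ s).mpr hsR]; simp
      have a : (π x) ^ 4 = 1 := by rw [h5, ← map_pow, h4, map_one]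
      have b : (π x) ^ 3 = 1 := by rw [← map_pow, hx3, map_one]
      apply (hπ x).mp
      calc π x = (π x) ^ 4 * ((π x) ^ 3)⁻¹ := by rw [pow_succ (π x) 3]; group
        _ = 1 := by rw [a, b]; simp
    have hc3 : orderOf c = 3 := by
      rcases ord_cases h c with h1 | h1 | h1 | h1
      · exact absurd (by rw [orderOf_eq_one_iff.mp h1, one_pow]) hc4
      · exact absurd (orderOf_dvd_iff_pow_eq_one.mp (by rw [h1]; norm_num)) hc4
      · exact h1
      · exact absurd (orderOf_dvd_iff_pow_eq_one.mp (by rw [h1])) hc4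
    apply no_comm h (x := z) (y := c) _ _ hc3
    · show z * c = c * z
      calc z * c = z * c * z⁻¹ * z := by group
        _ = c * z := by rw [hcomm]
    · intro h3; rw [h3, orderOf_one] at hz; omega
    · calc z ^ 4 = (z ^ 2) ^ 2 := by group
        _ = 1 := by rw [hz2, one_pow]
  have hpow4 : ∀ q : G ⧸ R, q ^ 4 = 1 := by
    intro q
    obtain ⟨g, rfl⟩ := QuotientGroup.mk'_surjective R q
    rcases ord_cases h g with h1 | h1 | h1 | h1
    · rw [orderOf_eq_one_iff.mp h1, map_one, one_pow]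
    · rw [← map_pow, orderOf_dvd_iff_pow_eq_one.mp (show orderOf g ∣ 4 by rw [h1]; norm_num), map_one]
    · rw [(hπ g).mpr (hmem3 g h1), one_pow]
    · rw [← map_pow, orderOf_dvd_iff_pow_eq_one.mp (show orderOf g ∣ 4 by rw [h1]), map_one]
  have hpQ : IsPGroup 2 (G ⧸ R) := fun q => ⟨2, by simpa using hpow4 q⟩
  have hun : ∀ q : G ⧸ R, q ≠ 1 → q ^ 2 = 1 → q = π z := by
    intro q hq hq2
    obtain ⟨g, rfl⟩ := QuotientGroup.mk'_surjective R q
    have hg2 : orderOf g = 2 := by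
      rcases ord_cases h g with h1 | h1 | h1 | h1
      · exact absurd (by rw [orderOf_eq_one_iff.mp h1, map_one]) hq
      · exact h1
      · exact absurd ((hπ g).mpr (hmem3 g h1)) hq
      · exfalso
        have h2 : g ^ 2 ∈ R := (hπ _).mp (by rw [map_pow]; exact hq2)
        have h3 := hR3 _ h2
        have h4 : g ^ 4 = 1 := orderOf_dvd_iff_pow_eq_one.mp (by rw [h1])
        have h5 : g ^ 2 = 1 := by
          calc g ^ 2 = (g ^ 2) ^ 3 * (g ^ 4)⁻¹ := by group
            _ = 1 := by rw [h3, h4]; simp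
        have h6 : orderOf g ∣ 2 := orderOf_dvd_of_pow_eq_one h5
        rw [h1] at h6
        omega
    have h5 : π z * π g = 1 := by
      rw [← map_mul]; exact (hπ _).mpr (hprod z g hz hg2)
    have h6 : π g = π z⁻¹ := by
      rw [map_inv]
      exact (eq_inv_of_mul_eq_one_right h5)
    rw [h6, hzi]
  have huniq : ∀ H K : Subgroup (G ⧸ R), Nat.card H = 2 → Nat.card K = 2 → H = K := by
    have key : ∀ H : Subgroup (G ⧸ R), Nat.card H = 2 → ∀ q, q ∈ H ↔ (q = 1 ∨ q = π z) := by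
      intro H hH q
      have hex : ∃ u ∈ H, u ≠ 1 := by
        have : Nontrivial H := Finite.one_lt_card_iff_nontrivial.mp (by omega)
        obtain ⟨u, hu⟩ := exists_ne (1 : H)
        exact ⟨u, u.2, fun h => hu (Subtype.ext h)⟩
      obtain ⟨u, huH, hu1⟩ := hex
      have hall : ∀ v ∈ H, v ^ 2 = 1 := by
        intro v hv
        have := pow_card_eq_one' (x := (⟨v, hv⟩ : H))
        rw [hH] at this
        simpa using congrArg Subtype.val this
      have huz : u = π z := hun u hu1 (hall u huH)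
      constructor
      · intro hq
        by_cases hq1 : q = 1
        · exact Or.inl hq1
        · exact Or.inr (hun q hq1 (hall q hq))
      · rintro (rfl | rfl)
        · exact H.one_mem
        · rw [← huz]; exact huH
    intro H K hH hK
    ext q
    rw [key H hH, key K hK]
  obtain ⟨w, hw⟩ := exists_ord h (G := G) 4 (by norm_num) (by norm_num)
  have hw4 : orderOf (π w) = 4 := by
    have : orderOf (π w) = 2 ^ (1 + 1) := by
      apply orderOf_eq_prime_pow
      · rw [pow_one]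
        intro h2
        have h2' : w ^ 2 ∈ R := (hπ _).mp (by rw [map_pow]; exact h2)
        have h3 := hR3 _ h2'
        have h4 : w ^ 4 = 1 := orderOf_dvd_iff_pow_eq_one.mp (by rw [hw])
        have h5 : w ^ 2 = 1 := by
          calc w ^ 2 = (w ^ 2) ^ 3 * (w ^ 4)⁻¹ := by group
            _ = 1 := by rw [h3, h4]; simp
        have h6 : orderOf w ∣ 2 := orderOf_dvd_of_pow_eq_one h5
        rw [hw] at h6
        omega
      · exact hpow4 _
    simpa using this
  have h4dvd : 4 ∣ Nat.card (G ⧸ R) := by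
    rw [← hw4]; exact orderOf_dvd_natCard _
  have hcyc_of_card : Nat.card (G ⧸ R) = 4 → IsCyclic (G ⧸ R) := by
    intro hc
    apply isCyclic_of_orderOf_eq_card (π w)
    rw [hw4, hc]
  refine ⟨R, hRn, ⟨IsMulCommutative.of_comm ?_, hR3⟩, ?_⟩
  · intro a b
    exact Subtype.ext (hRc a a.2 b b.2)
  rcases Cfsg.Agent.Lib.UniqueSub.main 2 hpQ huniq with hcyc | ⟨-, n, ⟨e⟩⟩
  · left
    refine ⟨hcyc, ?_⟩
    rw [Subgroup.index_eq_card]
    have h1 : Monoid.exponent (G ⧸ R) = Nat.card (G ⧸ R) := IsCyclic.exponent_eq_card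
    have h2 : Monoid.exponent (G ⧸ R) ∣ 4 := Monoid.exponent_dvd_of_forall_pow_eq_one hpow4
    rw [h1] at h2
    exact Nat.dvd_antisymm h2 h4dvd
  · have hcardQ : Nat.card (G ⧸ R) = 4 * 2 ^ n := by
      rw [Nat.card_congr e.toEquiv, Nat.card_eq_fintype_card, QuaternionGroup.card]
    have hord := QuaternionGroup.orderOf_a_one (n := 2 ^ n)
    have hord2 : orderOf (e.symm (QuaternionGroup.a 1)) = 2 * 2 ^ n := by
      rw [MulEquiv.orderOf_eq, hord]
    have hdvd : 2 * 2 ^ n ∣ 4 := by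
      rw [← hord2]; exact orderOf_dvd_of_pow_eq_one (hpow4 _)
    have hn : n ≤ 1 := by
      by_contra hn
      push Not at hn
      have : 2 ^ 2 ≤ 2 ^ n := Nat.pow_le_pow_right (by norm_num) hn
      have := Nat.le_of_dvd (by norm_num) hdvd
      omega
    interval_cases n
    · left
      have hc : Nat.card (G ⧸ R) = 4 := by simpa using hcardQ
      exact ⟨hcyc_of_card hc, by rw [Subgroup.index_eq_card, hc]⟩
    · right
      exact ⟨e⟩

end CaseA

section Aux

open scoped commutatorElement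

theorem six_of_three {V : Type*} [Group V]
    (hz : ∀ a b g : V, Commute ⁅a, b⁆ g) {a₀ a₁ a₂ b : V}
    (h3 : a₀ * a₁ * a₂ = 1) (h01 : Commute a₀ a₁) (h02 : Commute a₀ a₂) (h12 : Commute a₁ a₂)
    (h₀ : (a₀ * b) ^ 2 = 1) (h₁ : (a₁ * b) ^ 2 = 1) (h₂ : (a₂ * b) ^ 2 = 1) : b ^ 6 = 1 := by
  have hb : ∀ x y : V, ⁅b, x * y⁆ = ⁅b, x⁆ * ⁅b, y⁆ := by
    intro x y
    have h1 : ⁅b, x * y⁆ = ⁅b, x⁆ * (x * ⁅b, y⁆ * x⁻¹) := by
      simp only [commutatorElement_def]; group
    rw [h1, ← (hz b y x).eq]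
    simp
  have hsq : ∀ a : V, (a * b) ^ 2 = ⁅b, a⁆ * a ^ 2 * b ^ 2 := by
    intro a
    have h1 : b * a = ⁅b, a⁆ * a * b := by simp [commutatorElement_def]
    calc (a * b) ^ 2 = a * (b * a) * b := by rw [pow_two]; simp [mul_assoc]
      _ = a * (⁅b, a⁆ * a * b) * b := by rw [h1]
      _ = (a * ⁅b, a⁆) * a * b * b := by simp [mul_assoc]
      _ = (⁅b, a⁆ * a) * a * b * b := by rw [(hz b a a).eq]
      _ = ⁅b, a⁆ * a ^ 2 * b ^ 2 := by simp [pow_two, mul_assoc]
  rw [hsq] at h₀ h₁ h₂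
  have hX : ∀ a : V, ⁅b, a⁆ * a ^ 2 * b ^ 2 = 1 → b ^ 2 = (⁅b, a⁆ * a ^ 2)⁻¹ := fun a ha =>
    eq_inv_of_mul_eq_one_right ha
  have h4 : (⁅b, a₀⁆ * a₀ ^ 2) * (⁅b, a₁⁆ * a₁ ^ 2) * (⁅b, a₂⁆ * a₂ ^ 2) = 1 := by
    have e1 : (⁅b, a₀⁆ * ⁅b, a₁⁆ * ⁅b, a₂⁆) = 1 := by
      rw [← hb, ← hb, h3]; simp
    have e2 : a₀ ^ 2 * a₁ ^ 2 * a₂ ^ 2 = 1 := by
      have e3 : (a₀ * a₁ * a₂) ^ 2 = a₀ ^ 2 * a₁ ^ 2 * a₂ ^ 2 := by
        rw [(h02.mul_left h12).mul_pow, h01.mul_pow]
      rw [← e3, h3, one_pow]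
    calc (⁅b, a₀⁆ * a₀ ^ 2) * (⁅b, a₁⁆ * a₁ ^ 2) * (⁅b, a₂⁆ * a₂ ^ 2)
        = ⁅b, a₀⁆ * (a₀ ^ 2 * ⁅b, a₁⁆) * a₁ ^ 2 * (⁅b, a₂⁆ * a₂ ^ 2) := by simp [mul_assoc]
      _ = ⁅b, a₀⁆ * (⁅b, a₁⁆ * a₀ ^ 2) * a₁ ^ 2 * (⁅b, a₂⁆ * a₂ ^ 2) := by
          rw [(hz b a₁ (a₀ ^ 2)).eq]
      _ = ⁅b, a₀⁆ * ⁅b, a₁⁆ * ((a₀ ^ 2 * a₁ ^ 2) * ⁅b, a₂⁆) * a₂ ^ 2 := by simp [mul_assoc]
      _ = ⁅b, a₀⁆ * ⁅b, a₁⁆ * (⁅b, a₂⁆ * (a₀ ^ 2 * a₁ ^ 2)) * a₂ ^ 2 := by
          rw [(hz b a₂ (a₀ ^ 2 * a₁ ^ 2)).eq]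
      _ = (⁅b, a₀⁆ * ⁅b, a₁⁆ * ⁅b, a₂⁆) * (a₀ ^ 2 * a₁ ^ 2 * a₂ ^ 2) := by simp [mul_assoc]
      _ = 1 := by rw [e1, e2, one_mul]
  calc b ^ 6 = b ^ 2 * b ^ 2 * b ^ 2 := by group
    _ = (⁅b, a₂⁆ * a₂ ^ 2)⁻¹ * (⁅b, a₁⁆ * a₁ ^ 2)⁻¹ * (⁅b, a₀⁆ * a₀ ^ 2)⁻¹ := by
        nth_rewrite 3 [hX a₀ h₀]
        nth_rewrite 2 [hX a₁ h₁]
        nth_rewrite 1 [hX a₂ h₂]
        rfl
    _ = ((⁅b, a₀⁆ * a₀ ^ 2) * (⁅b, a₁⁆ * a₁ ^ 2) * (⁅b, a₂⁆ * a₂ ^ 2))⁻¹ := by
        simp [mul_assoc]
    _ = 1 := by rw [h4, inv_one]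

theorem norm3 {V : Type*} [Group V] [Finite V] (σ : V ≃* V) (h3 : ∀ v, σ (σ (σ v)) = v)
    (hf : ∀ v, σ v = v → v = 1) (v : V) : v * σ v * σ (σ v) = 1 := by
  obtain ⟨a, -, rfl⟩ := Cfsg.Agent.Lib.Fpf4.exists_eq_inv_mul_sub σ ⊤ (fun _ _ => trivial)
    (fun x _ hx => hf x hx) v trivial
  simp only [map_mul, map_inv, h3]
  group

theorem comm3 {V : Type*} [Group V] [Finite V] (σ : V ≃* V) (h3 : ∀ v, σ (σ (σ v)) = v)
    (hf : ∀ v, σ v = v → v = 1) (v : V) : Commute v (σ v) := by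
  have h1 := norm3 σ h3 hf (σ v)
  rw [h3] at h1
  have h2 : σ v * σ (σ v) = v⁻¹ := eq_inv_of_mul_eq_one_left h1
  have h4 := norm3 σ h3 hf (v * σ v)
  have h5 : σ (v * σ v) = v⁻¹ := by rw [map_mul, h2]
  rw [h5, map_inv] at h4
  show v * σ v = σ v * v
  calc v * σ v = (v * σ v * v⁻¹ * (σ v)⁻¹) * (σ v * v) := by group
    _ = σ v * v := by rw [h4, one_mul]

end Aux

section Class2

open scoped commutatorElement

variable {G : Type*} [Group G] [Finite G]

theorem lcs_two (h : Ord14 G) {V : Subgroup G} (hVn : V.Normal) (hVp : IsPGroup 2 V) (hVne : V ≠ ⊥)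
    {x : G} (hx : orderOf x = 3) : (⊤ : Subgroup V).lowerCentralSeries 2 = ⊥ := by
  have hx3 : x ^ 3 = 1 := orderOf_dvd_iff_pow_eq_one.mp (by rw [hx])
  let σ : MulAut V := MulAut.conjNormal x
  have hσ : ∀ v : V, ((σ v : V) : G) = x * v * x⁻¹ := fun v => MulAut.conjNormal_apply x v
  have hfpf : ∀ v : V, σ v = v → v = 1 := by
    intro v hv
    by_contra hv1
    have hv1' : (v : G) ≠ 1 := fun h => hv1 (Subtype.ext h)
    apply no_comm h hv1' (pow_four_of_two h hVp v.2) hx
    have h1 : x * v * x⁻¹ = v := by rw [← hσ, hv]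
    show (v : G) * x = x * v
    calc (v : G) * x = x * v * x⁻¹ * x := by rw [h1]
      _ = x * v := by group
  have hσ3 : σ ^ 3 = 1 := by
    show (MulAut.conjNormal x : MulAut V) ^ 3 = 1
    rw [← map_pow, hx3, map_one]
  have hσ1 : σ ≠ 1 := by
    intro h1
    obtain ⟨v, hv, hv1⟩ := exists_ne_one_of_ne_bot hVne
    apply hv1
    have := hfpf ⟨v, hv⟩ (by rw [h1]; rfl)
    simpa using congrArg Subtype.val this
  have hord : orderOf σ = 3 := orderOf_eq_prime hσ3 hσ1
  exact (Cfsg.Agent.S3779.result Nat.prime_three σ hord hfpf).2.1 rfl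

theorem central_of_lcs {V : Type*} [Group V] (h2 : (⊤ : Subgroup V).lowerCentralSeries 2 = ⊥)
    (a b g : V) : Commute ⁅a, b⁆ g := by
  rw [← commutatorElement_eq_one_iff_commute]
  have h1 : ⁅⁅a, b⁆, g⁆ ∈ (⊤ : Subgroup V).lowerCentralSeries 2 := by
    apply Subgroup.commutator_mem_commutator _ (Subgroup.mem_top g)
    exact Subgroup.commutator_mem_commutator (Subgroup.mem_top a) (Subgroup.mem_top b)
  rw [h2] at h1
  exact Subgroup.mem_bot.mp h1

theorem pow_four_of_inverting (h : Ord14 G) {V : Subgroup G} (hVn : V.Normal) (hVp : IsPGroup 2 V)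
    {x s v : G} (hx : orderOf x = 3) (hs : s * x * s⁻¹ = x⁻¹) (hv : v ∈ V) : (s * v) ^ 4 = 1 := by
  have hx3 : x ^ 3 = 1 := orderOf_dvd_iff_pow_eq_one.mp (by rw [hx])
  have hno3 : (s * v) ^ 3 ≠ 1 := by
    intro h3
    let π := QuotientGroup.mk' V
    have hπv : π v = 1 := (QuotientGroup.eq_one_iff v).mpr hv
    have hs3 : (π s) ^ 3 = 1 := by
      have := congrArg π h3
      rwa [map_pow, map_mul, hπv, mul_one, map_one] at this
    have hconj : π s * π x * (π s)⁻¹ = (π x)⁻¹ := by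
      have := congrArg π hs
      simpa using this
    have h3' : (π s) ^ 3 * π x * ((π s) ^ 3)⁻¹ = (π x)⁻¹ := by
      have e2 : π s * (π x)⁻¹ * (π s)⁻¹ = π x := by
        have : π s * (π x)⁻¹ * (π s)⁻¹ = (π s * π x * (π s)⁻¹)⁻¹ := by group
        rw [this, hconj, inv_inv]
      calc (π s) ^ 3 * π x * ((π s) ^ 3)⁻¹
          = π s * (π s * (π s * π x * (π s)⁻¹) * (π s)⁻¹) * (π s)⁻¹ := by
            rw [pow_three]; group
        _ = (π x)⁻¹ := by rw [hconj, e2, hconj]
    rw [hs3] at h3'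
    have h4 : π x = (π x)⁻¹ := by simpa using h3'
    have h5 : (π x) ^ 3 = 1 := by rw [← map_pow, hx3, map_one]
    have h6 : π x = 1 := by
      have e1 : (π x) ^ 2 = 1 := by
        rw [pow_two]; nth_rewrite 1 [h4]; simp
      calc π x = (π x) ^ 3 * ((π x) ^ 2)⁻¹ := by
            rw [pow_succ (π x) 2]; group
        _ = 1 := by rw [h5, e1]; simp
    have h7 : x ∈ V := (QuotientGroup.eq_one_iff x).mp h6
    exact not_dvd_orderOf hVp h7 Nat.prime_three (by norm_num) (by rw [hx])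
  rcases ord_cases h (s * v) with h1 | h1 | h1 | h1
  · rw [orderOf_eq_one_iff.mp h1, one_pow]
  · exact orderOf_dvd_iff_pow_eq_one.mp (by rw [h1]; norm_num)
  · exact absurd (orderOf_dvd_iff_pow_eq_one.mp (by rw [h1])) hno3
  · exact orderOf_dvd_iff_pow_eq_one.mp (by rw [h1])

theorem order_two_of_inverting (h : Ord14 G) {x t : G} (hx : orderOf x = 3)
    (ht : t * x * t⁻¹ = x⁻¹) : orderOf t = 2 := by
  have hx3 : x ^ 3 = 1 := orderOf_dvd_iff_pow_eq_one.mp (by rw [hx])
  have hne : x ≠ x⁻¹ := by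
    intro h1
    have h2 : x ^ 2 = 1 := by
      rw [pow_two]; nth_rewrite 1 [h1]; simp
    have h3 : orderOf x ∣ 2 := orderOf_dvd_of_pow_eq_one h2
    rw [hx] at h3
    omega
  have e2 : t * x⁻¹ * t⁻¹ = x := by
    have : t * x⁻¹ * t⁻¹ = (t * x * t⁻¹)⁻¹ := by group
    rw [this, ht, inv_inv]
  rcases ord_cases h t with h1 | h1 | h1 | h1
  · exfalso
    rw [orderOf_eq_one_iff.mp h1] at ht
    apply hne
    simpa using ht
  · exact h1
  · exfalso
    have ht3 : t ^ 3 = 1 := orderOf_dvd_iff_pow_eq_one.mp (by rw [h1])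
    have h3' : t ^ 3 * x * (t ^ 3)⁻¹ = x⁻¹ := by
      calc t ^ 3 * x * (t ^ 3)⁻¹ = t * (t * (t * x * t⁻¹) * t⁻¹) * t⁻¹ := by
            rw [pow_three]; group
        _ = x⁻¹ := by rw [ht, e2, ht]
    rw [ht3] at h3'
    apply hne
    simpa using h3'
  · exfalso
    have ht4 : t ^ 4 = 1 := orderOf_dvd_iff_pow_eq_one.mp (by rw [h1])
    have ht21 : t ^ 2 ≠ 1 := by
      intro h2
      have h3 : orderOf t ∣ 2 := orderOf_dvd_of_pow_eq_one h2
      rw [h1] at h3
      omega
    apply no_comm h (x := t ^ 2) (y := x) ht21 _ hx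
    · show t ^ 2 * x = x * t ^ 2
      have h5 : t ^ 2 * x * (t ^ 2)⁻¹ = x := by
        calc t ^ 2 * x * (t ^ 2)⁻¹ = t * (t * x * t⁻¹) * t⁻¹ := by
              rw [pow_two]; group
          _ = x := by rw [ht, e2]
      calc t ^ 2 * x = t ^ 2 * x * (t ^ 2)⁻¹ * t ^ 2 := by group
        _ = x * t ^ 2 := by rw [h5]
    · calc (t ^ 2) ^ 4 = (t ^ 4) ^ 2 := by group
        _ = 1 := by rw [ht4, one_pow]

/-- With an inverting element, `V` has exponent two. -/
theorem expo_two (h : Ord14 G) {V : Subgroup G} (hVn : V.Normal) (hVp : IsPGroup 2 V) (hVne : V ≠ ⊥)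
    {x t : G} (hx : orderOf x = 3) (ht : t * x * t⁻¹ = x⁻¹) : ∀ v ∈ V, v ^ 2 = 1 := by
  have hx3 : x ^ 3 = 1 := orderOf_dvd_iff_pow_eq_one.mp (by rw [hx])
  have ht2 : t ^ 2 = 1 :=
    orderOf_dvd_iff_pow_eq_one.mp (by rw [order_two_of_inverting h hx ht])
  have hti : t⁻¹ = t := by
    rw [inv_eq_iff_mul_eq_one, ← pow_two, ht2]
  have hl2 := lcs_two h hVn hVp hVne hx
  have hz := central_of_lcs hl2
  let σ : MulAut V := MulAut.conjNormal x
  have hσ : ∀ v : V, ((σ v : V) : G) = x * v * x⁻¹ := fun v => MulAut.conjNormal_apply x v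
  have hfpf : ∀ v : V, σ v = v → v = 1 := by
    intro v hv
    by_contra hv1
    have hv1' : (v : G) ≠ 1 := fun h => hv1 (Subtype.ext h)
    apply no_comm h hv1' (pow_four_of_two h hVp v.2) hx
    have h1 : x * v * x⁻¹ = v := by rw [← hσ, hv]
    show (v : G) * x = x * v
    calc (v : G) * x = x * v * x⁻¹ * x := by rw [h1]
      _ = x * v := by group
  have hσ3 : ∀ v, σ (σ (σ v)) = v := by
    intro v
    apply Subtype.ext
    rw [hσ, hσ, hσ]
    calc x * (x * (x * (v : G) * x⁻¹) * x⁻¹) * x⁻¹ = x ^ 3 * v * (x ^ 3)⁻¹ := by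
          rw [pow_three]; group
      _ = v := by rw [hx3]; simp
  intro v hv
  -- set up
  let w : V := ⟨t⁻¹ * v * t, by
    have := hVn.conj_mem v hv t⁻¹
    simpa using this⟩
  have hw : t * (w : G) * t⁻¹ = v := by
    show t * (t⁻¹ * v * t) * t⁻¹ = v
    group
  let b : V := ⟨v, hv⟩
  -- key computation
  have key : ∀ s : G, s * x * s⁻¹ = x⁻¹ → s ^ 2 = 1 → ∀ a : V, s * v * s⁻¹ = a → (a * b) ^ 2 = 1 := by
    intro s hs hs2 a ha
    have h4 := pow_four_of_inverting h hVn hVp hx hs hv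
    have h5 : (s * v) ^ 2 = (a : G) * v := by
      calc (s * v) ^ 2 = (s * v * s⁻¹) * (s * s) * v := by rw [pow_two]; group
        _ = (a : G) * v := by rw [ha, ← pow_two, hs2, mul_one]
    apply Subtype.ext
    show ((a : G) * v) ^ 2 = 1
    rw [← h5]
    calc ((s * v) ^ 2) ^ 2 = (s * v) ^ 4 := by group
      _ = 1 := h4
  have e2 : t * x⁻¹ * t⁻¹ = x := by
    have : t * x⁻¹ * t⁻¹ = (t * x * t⁻¹)⁻¹ := by group
    rw [this, ht, inv_inv]
  have hvconj : t * v * t⁻¹ = w := by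
    show t * v * t⁻¹ = t⁻¹ * v * t
    rw [hti]
  have h₀ := key t ht ht2 w hvconj
  have h₁ := key (x * t) (by
      calc x * t * x * (x * t)⁻¹ = x * (t * x * t⁻¹) * x⁻¹ := by group
        _ = x⁻¹ := by rw [ht]; group) (by
      calc (x * t) ^ 2 = x * (t * x * t⁻¹) * (t * t) := by rw [pow_two]; group
        _ = 1 := by rw [ht, show t * t = 1 by rw [← pow_two, ht2]]; group) (σ w) (by
      rw [hσ, ← hvconj]; group)
  have h₂ := key (x * x * t) (by
      calc x * x * t * x * (x * x * t)⁻¹ = x * x * (t * x * t⁻¹) * x⁻¹ * x⁻¹ := by group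
        _ = x⁻¹ := by rw [ht]; group) (by
      calc (x * x * t) ^ 2 = x * x * (t * x * t⁻¹) * (t * x * t⁻¹) * (t * t) := by
            rw [pow_two]; group
        _ = 1 := by rw [ht, show t * t = 1 by rw [← pow_two, ht2]]; group) (σ (σ w)) (by
      rw [hσ, hσ, ← hvconj]; group)
  have hn := norm3 σ hσ3 hfpf w
  have hc01 := comm3 σ hσ3 hfpf w
  have hc12 := comm3 σ hσ3 hfpf (σ w)
  have hc02 : Commute w (σ (σ w)) := by
    have h1 : σ (σ w) = (w * σ w)⁻¹ := eq_inv_of_mul_eq_one_right hn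
    rw [h1]
    apply Commute.inv_right
    exact (Commute.refl w).mul_right hc01
  have h6 := six_of_three hz hn hc01 hc02 hc12 h₀ h₁ h₂
  have h6' : v ^ 6 = 1 := by
    have := congrArg Subtype.val h6
    simpa [b] using this
  have h4' : v ^ 4 = 1 := pow_four_of_two h hVp hv
  calc v ^ 2 = v ^ 6 * (v ^ 4)⁻¹ := by group
    _ = 1 := by rw [h6', h4']; simp

end Class2

section Final

open Cfsg.Agent.Lib.FrobCompl Cfsg.Agent.Lib.FpfNorm

variable {G : Type*} [Group G] [Finite G]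

theorem not_nine_dvd (h : Ord14 G) (hV : pCore 2 G ≠ ⊥) : ¬ 9 ∣ Nat.card G := by
  classical
  intro h9
  have hVn : (pCore 2 G).Normal := pCore_normal 2 G
  have hVp : IsPGroup 2 (pCore 2 G) := isPGroup_pCore 2
  let S : Sylow 3 G := default
  have hS9 : 9 ∣ Nat.card (S : Subgroup G) := by
    have := Sylow.pow_dvd_card_of_pow_dvd_card S (n := 2) (by simpa using h9)
    simpa using this
  have hSp : IsPGroup 3 (S : Subgroup G) := S.isPGroup'
  have hSN : (S : Subgroup G) ≤ Subgroup.normalizer (pCore 2 G : Set G) := by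
    rw [Subgroup.normalizer_eq_top_iff.mpr hVn]; exact le_top
  have hfpf : ∀ a ∈ (S : Subgroup G), a ≠ 1 →
      pCore 2 G ⊓ Subgroup.centralizer {a} = ⊥ := by
    intro a ha ha1
    have ha3 : orderOf a = 3 := orderOf_eq_prime (pow_three_of_three h hSp ha) ha1
    rw [eq_bot_iff]
    rintro k ⟨hk, hk2⟩
    rw [Subgroup.mem_bot]
    by_contra hk1
    apply no_comm h hk1 (pow_four_of_two h hVp hk) ha3
    exact (Subgroup.mem_centralizer_singleton_iff.mp hk2)
  have hcop := coprime_of_fpf (pCore 2 G) (S : Subgroup G) hSN hfpf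
  have hsolv : Group.IsSolvable (S : Subgroup G) := by
    have := hSp.isNilpotent
    infer_instance
  obtain ⟨A, hAne, hAK, hAc, hSA⟩ := exists_abelian_of_fpf (pCore 2 G) (S : Subgroup G) hV hSN hcop
    (Or.inl hsolv)
  have hAf : ∀ x ∈ (S : Subgroup G), x ≠ 1 → A ⊓ Subgroup.centralizer {x} = ⊥ := by
    intro x hx hx1
    rw [eq_bot_iff, ← hfpf x hx hx1]
    exact inf_le_inf_right _ hAK
  have hf := conjHom_fpf (S : Subgroup G) A hSA hAf
  let _ : CommGroup A := { (inferInstance : Group A) with mul_comm := hAc.is_comm.comm }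
  have : Nontrivial A := (Subgroup.nontrivial_iff_ne_bot A).mpr hAne
  rcases cyclic_or_quaternion_of_fpf hSp hf with hc | ⟨h32, -⟩
  · have h1 : Monoid.exponent (S : Subgroup G) = Nat.card (S : Subgroup G) :=
      IsCyclic.exponent_eq_card
    have h2 : Monoid.exponent (S : Subgroup G) ∣ 3 := by
      apply Monoid.exponent_dvd_of_forall_pow_eq_one
      intro g
      apply Subtype.ext
      simpa using pow_three_of_three h hSp g.2
    rw [h1] at h2
    have := Nat.le_of_dvd (by norm_num) (hS9.trans h2)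
    omega
  · omega

theorem iso_perm {Q : Type*} [Group Q] [Finite Q] (hcard : Nat.card Q = 6) {t x : Q}
    (ht : orderOf t = 2) (htx : ¬ Commute t x) : Nonempty (Q ≃* Perm (Fin 3)) := by
  classical
  let H : Subgroup Q := Subgroup.zpowers t
  have hHcard : Nat.card H = 2 := by
    rw [Nat.card_zpowers, ht]
  have hindex : H.index = 3 := by
    have := Subgroup.index_mul_card H
    rw [hcard, hHcard] at this
    omega
  have hcardQ : Nat.card (Q ⧸ H) = 3 := by
    rw [← hindex]; rfl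
  let f := MulAction.toPermHom Q (Q ⧸ H)
  have hker : f.ker = ⊥ := by
    rw [← Subgroup.normalCore_eq_ker]
    rw [eq_bot_iff]
    intro y hy
    have hyH : y ∈ H := Subgroup.normalCore_le H hy
    have hcases : ∀ u ∈ H, u = 1 ∨ u = t := by
      intro u hu
      rw [Subgroup.mem_zpowers_iff] at hu
      obtain ⟨k, rfl⟩ := hu
      rw [← zpow_mod_orderOf, ht]
      have h2 : k % ((2 : ℕ) : ℤ) = 0 ∨ k % ((2 : ℕ) : ℤ) = 1 := by omega
      rcases h2 with h2 | h2 <;> rw [h2] <;> simp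
    rcases hcases y hyH with rfl | rfl
    · exact Subgroup.one_mem _
    · exfalso
      have h1 : x * y * x⁻¹ ∈ H.normalCore := (Subgroup.normalCore_normal H).conj_mem y hy x
      have h2 : x * y * x⁻¹ ∈ H := Subgroup.normalCore_le H h1
      rcases hcases _ h2 with h3 | h3
      · have h4 : y = 1 := by
          have : y = x⁻¹ * (x * y * x⁻¹) * x := by group
          rw [this, h3]; group
        rw [h4, orderOf_one] at ht
        omega
      · apply htx
        show y * x = x * y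
        calc y * x = x * y * x⁻¹ * x := by rw [h3]
          _ = x * y := by group
  have hinj : Function.Injective f := (MonoidHom.ker_eq_bot_iff f).mp hker
  have hbij : Function.Bijective f := by
    rw [Nat.bijective_iff_injective_and_card]
    refine ⟨hinj, ?_⟩
    rw [Nat.card_perm, hcardQ, hcard]
    rfl
  let e₁ : Q ≃* Perm (Q ⧸ H) := MulEquiv.ofBijective f hbij
  let e₂ : (Q ⧸ H) ≃ Fin 3 := Finite.equivFinOfCardEq hcardQ
  exact ⟨e₁.trans (Equiv.permCongrHom e₂)⟩

theorem caseB (h : Ord14 G) (hV : pCore 2 G ≠ ⊥) :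
    ∃ (N : Subgroup G) (_ : N.Normal),
      (IsPGroup 2 ↥N ∧ Monoid.exponent ↥N = 4 ∧ Group.nilpotencyClass ↥N ≤ 2 ∧ N.index = 3) ∨
      (Cfsg.IsElementaryAbelian 2 N ∧ Nonempty (G ⧸ N ≃* Equiv.Perm (Fin 3))) := by
  classical
  haveI hsolv : Group.IsSolvable G := solvable h
  have hn9 := not_nine_dvd h hV
  set V := pCore 2 G with hVdef
  have hVn : V.Normal := pCore_normal 2 G
  have hVp : IsPGroup 2 V := isPGroup_pCore 2
  let π := QuotientGroup.mk' V
  have hπ : ∀ g, π g = 1 ↔ g ∈ V := fun g => QuotientGroup.eq_one_iff g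
  obtain ⟨x₀, hx₀⟩ := exists_ord h (G := G) 3 (by norm_num) (by norm_num)
  have hx₀V : x₀ ∉ V := fun hh => not_dvd_orderOf hVp hh Nat.prime_three (by norm_num) (by rw [hx₀])
  haveI hQnt : Nontrivial (G ⧸ V) :=
    ⟨⟨π x₀, 1, fun hh => hx₀V ((hπ _).mp hh)⟩⟩
  have hQdvd : Nat.card (G ⧸ V) ∣ Nat.card G := Subgroup.card_quotient_dvd_card V
  -- the 3-core of the quotient is non-trivial
  have hU : pCore 3 (G ⧸ V) ≠ ⊥ := by
    obtain ⟨p, hp, hpc⟩ := exists_pCore_ne_bot (G := G ⧸ V)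
    haveI : Fact p.Prime := ⟨hp⟩
    have hpd : p ∣ Nat.card (G ⧸ V) := by
      obtain ⟨u, hu, hu1⟩ := exists_ne_one_of_ne_bot hpc
      obtain ⟨k, hk⟩ := (isPGroup_pCore (G := G ⧸ V) p) ⟨u, hu⟩
      have h1 : u ^ p ^ k = 1 := by simpa using congrArg Subtype.val hk
      have h2 : orderOf u ∣ p ^ k := orderOf_dvd_of_pow_eq_one h1
      obtain ⟨j, -, hj⟩ := (Nat.dvd_prime_pow hp).mp h2
      have hj0 : j ≠ 0 := by
        rintro rfl
        rw [pow_zero, orderOf_eq_one_iff] at hj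
        exact hu1 hj
      have : p ∣ orderOf u := by
        rw [hj]; exact dvd_pow_self p hj0
      exact this.trans (orderOf_dvd_natCard u)
    rcases prime_cases h hp (hpd.trans hQdvd) with rfl | rfl
    · exact absurd (pCore_quotient_pCore 2) hpc
    · exact hpc
  set U := pCore 3 (G ⧸ V) with hUdef
  have hUn : U.Normal := pCore_normal 3 _
  have hUp : IsPGroup 3 U := isPGroup_pCore 3
  -- orders of images
  have hord : ∀ g : G, orderOf (π g) ∣ orderOf g := fun g => orderOf_map_dvd π g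
  -- pick `x`
  obtain ⟨X, hXU, hX1⟩ := exists_ne_one_of_ne_bot hU
  obtain ⟨x, rfl⟩ : ∃ x, π x = X := QuotientGroup.mk'_surjective V X
  have hX3' := not_dvd_orderOf hUp hXU Nat.prime_two (by norm_num)
  have hx : orderOf x = 3 := by
    rcases ord_cases h x with h1 | h1 | h1 | h1
    · exact absurd (by rw [orderOf_eq_one_iff.mp h1, map_one]) hX1
    · exfalso
      have h2 := hord x
      rw [h1] at h2
      obtain ⟨j, hj, hj2⟩ := (Nat.dvd_prime_pow Nat.prime_two).mp (show orderOf (π x) ∣ 2 ^ 1 by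
        simpa using h2)
      interval_cases j
      · exact hX1 (orderOf_eq_one_iff.mp (by simpa using hj2))
      · exact hX3' (by rw [hj2]; norm_num)
    · exact h1
    · exfalso
      have h2 := hord x
      rw [h1] at h2
      obtain ⟨j, hj, hj2⟩ := (Nat.dvd_prime_pow Nat.prime_two).mp (show orderOf (π x) ∣ 2 ^ 2 by
        simpa using h2)
      interval_cases j
      · exact hX1 (orderOf_eq_one_iff.mp (by simpa using hj2))
      · exact hX3' (by rw [hj2]; norm_num)
      · exact hX3' (by rw [hj2]; norm_num)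
  have hx3 : x ^ 3 = 1 := orderOf_dvd_iff_pow_eq_one.mp (by rw [hx])
  set X := π x with hXdef
  have hX3 : X ^ 3 = 1 := by rw [hXdef, ← map_pow, hx3, map_one]
  have hXord : orderOf X = 3 := orderOf_eq_prime hX3 hX1
  -- every 3-subgroup of the quotient has order at most 3; `U` has order 3
  have hQ9 : ¬ 9 ∣ Nat.card (G ⧸ V) := fun hh => hn9 (hh.trans hQdvd)
  have h3grp : ∀ P : Subgroup (G ⧸ V), IsPGroup 3 P → Nat.card P ∣ 3 := by
    intro P hP
    obtain ⟨k, hk⟩ := IsPGroup.iff_card.mp hP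
    have hle : k ≤ 1 := by
      by_contra hk2
      push Not at hk2
      apply hQ9
      have h1 : 3 ^ 2 ∣ 3 ^ k := pow_dvd_pow 3 hk2
      have h2 : Nat.card P ∣ Nat.card (G ⧸ V) := Subgroup.card_subgroup_dvd_card P
      rw [hk] at h2
      exact (by norm_num : (9 : ℕ) = 3 ^ 2) ▸ h1.trans h2
    rw [hk]
    exact pow_dvd_pow 3 hle |>.trans (by norm_num)
  have hUzp : U = Subgroup.zpowers X := by
    symm
    apply Subgroup.eq_of_le_of_card_ge
    · rw [Subgroup.zpowers_le]; exact hXU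
    · rw [Nat.card_zpowers, hXord]
      exact Nat.le_of_dvd (by norm_num) (h3grp U hUp)
  have hUmem : ∀ y ∈ U, y = 1 ∨ y = X ∨ y = X⁻¹ := by
    intro y hy
    rw [hUzp, Subgroup.mem_zpowers_iff] at hy
    obtain ⟨k, rfl⟩ := hy
    rw [← zpow_mod_orderOf, hXord]
    have h2 : k % ((3 : ℕ) : ℤ) = 0 ∨ k % ((3 : ℕ) : ℤ) = 1 ∨ k % ((3 : ℕ) : ℤ) = 2 := by omega
    rcases h2 with h2 | h2 | h2 <;> rw [h2]
    · simp
    · simp
    · right; right
      have : X ^ (2 : ℤ) = X ^ (3 : ℤ) * X⁻¹ := by group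
      rw [this]
      have h4 : X ^ (3 : ℤ) = 1 := by exact_mod_cast hX3
      rw [h4, one_mul]
  have hUcomm : ∀ y ∈ U, y * X = X * y := by
    intro y hy
    rcases hUmem y hy with rfl | rfl | rfl <;> simp
  have hconj : ∀ q : G ⧸ V, q * X * q⁻¹ = X ∨ q * X * q⁻¹ = X⁻¹ := by
    intro q
    have h1 : q * X * q⁻¹ ∈ U := hUn.conj_mem X hXU q
    rcases hUmem _ h1 with h2 | h2 | h2
    · exfalso
      apply hX1
      have : X = q⁻¹ * (q * X * q⁻¹) * q := by group
      rw [this, h2]; group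
    · exact Or.inl h2
    · exact Or.inr h2
  -- the centraliser of `X` is `U`
  have hcent : ∀ q : G ⧸ V, q * X = X * q → q ∈ U := by
    intro q hq
    obtain ⟨g, rfl⟩ := QuotientGroup.mk'_surjective V q
    by_cases hg1 : π g = 1
    · exact hg1 ▸ U.one_mem
    have hcase : orderOf g = 3 ∨ g ^ 4 = 1 := by
      rcases ord_cases h g with h1 | h1 | h1 | h1
      · exact Or.inr (by rw [orderOf_eq_one_iff.mp h1, one_pow])
      · exact Or.inr (orderOf_dvd_iff_pow_eq_one.mp (by rw [h1]; norm_num))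
      · exact Or.inl h1
      · exact Or.inr (orderOf_dvd_iff_pow_eq_one.mp (by rw [h1]))
    rcases hcase with h3 | h4
    · -- a further element of order 3
      have hg3 : (π g) ^ 3 = 1 := by
        rw [← map_pow, orderOf_dvd_iff_pow_eq_one.mp (show orderOf g ∣ 3 by rw [h3]), map_one]
      have hP : IsPGroup 3 (Subgroup.zpowers (π g)) := by
        rw [IsPGroup.iff_card, Nat.card_zpowers, orderOf_eq_prime hg3 hg1]
        exact ⟨1, by norm_num⟩
      obtain ⟨P, hP⟩ := hP.exists_le_sylow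
      have hUP : U ≤ (P : Subgroup (G ⧸ V)) := pCore_le_sylow 3 P
      have hUeq : U = (P : Subgroup (G ⧸ V)) := by
        apply Subgroup.eq_of_le_of_card_ge hUP
        have h1 := Nat.le_of_dvd (by norm_num) (h3grp P P.isPGroup')
        have h2 : Nat.card U = 3 := by
          rw [hUzp, Nat.card_zpowers, hXord]
        omega
      rw [hUeq]
      exact hP (Subgroup.mem_zpowers _)
    · exfalso
      have hg4 : (π g) ^ 4 = 1 := by rw [← map_pow, h4, map_one]
      have h1 : orderOf (π g) ∣ 4 := orderOf_dvd_of_pow_eq_one hg4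
      have h2 : orderOf (π g) ≠ 1 := fun hh => hg1 (orderOf_eq_one_iff.mp hh)
      have h3 : (orderOf (π g)).Coprime (orderOf X) := by
        rw [hXord]
        exact Nat.Coprime.coprime_dvd_left h1 (by norm_num)
      have h5 := Commute.orderOf_mul_eq_mul_orderOf_of_coprime (show Commute (π g) X from hq) h3
      have h6 : orderOf (π g * X) ∣ orderOf (g * x) := by
        rw [hXdef, ← map_mul]; exact hord _
      have h7 : orderOf (g * x) ≤ 4 := by
        rcases ord_cases h (g * x) with h8 | h8 | h8 | h8 <;> omega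
      have h8 : orderOf (g * x) ≠ 0 := by
        rcases ord_cases h (g * x) with h8 | h8 | h8 | h8 <;> omega
      have h9 := Nat.le_of_dvd (Nat.pos_of_ne_zero h8) h6
      rw [h5, hXord] at h9
      have h10 : orderOf (π g) ≠ 0 := by
        intro h0
        rw [h0] at h1
        simp at h1
      omega
  have hUcard : Nat.card U = 3 := by
    rw [hUzp, Nat.card_zpowers, hXord]
  by_cases hall : ∀ q : G ⧸ V, q * X = X * q
  · have hQU : ∀ q, q ∈ U := fun q => hcent q (hall q)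
    have hUtop : U = ⊤ := eq_top_iff.mpr (fun q _ => hQU q)
    have hcardQ : Nat.card (G ⧸ V) = 3 := by
      rw [hUtop] at hUcard
      simpa [Subgroup.card_top] using hUcard
    obtain ⟨w, hw⟩ := exists_ord h (G := G) 4 (by norm_num) (by norm_num)
    have hw4 : w ^ 4 = 1 := orderOf_dvd_iff_pow_eq_one.mp (by rw [hw])
    have hwV : w ∈ V := by
      have a : (π w) ^ 4 = 1 := by rw [← map_pow, hw4, map_one]
      have b : (π w) ^ 3 = 1 := by
        have := pow_card_eq_one' (x := π w)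
        rwa [hcardQ] at this
      apply (hπ w).mp
      calc π w = (π w) ^ 4 * ((π w) ^ 3)⁻¹ := by rw [pow_succ (π w) 3]; group
        _ = 1 := by rw [a, b]; simp
    refine ⟨V, hVn, Or.inl ⟨hVp, ?_, ?_, ?_⟩⟩
    · apply Nat.dvd_antisymm
      · apply Monoid.exponent_dvd_of_forall_pow_eq_one
        intro v
        apply Subtype.ext
        simpa using pow_four_of_two h hVp v.2
      · have h1 := Monoid.order_dvd_exponent (⟨w, hwV⟩ : V)
        rwa [Subgroup.orderOf_mk, hw] at h1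
    · haveI : Group.IsNilpotent V := hVp.isNilpotent
      exact Subgroup.lowerCentralSeries_eq_bot_iff_nilpotencyClass_le.mp (lcs_two h hVn hVp hV hx)
    · rw [Subgroup.index_eq_card]; exact hcardQ
  · push Not at hall
    obtain ⟨q₀, hq₀⟩ := hall
    obtain ⟨t₀, rfl⟩ := QuotientGroup.mk'_surjective V q₀
    have hinv : π t₀ * X * (π t₀)⁻¹ = X⁻¹ := by
      rcases hconj (π t₀) with h1 | h1
      · exfalso
        apply hq₀
        calc π t₀ * X = π t₀ * X * (π t₀)⁻¹ * π t₀ := by group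
          _ = X * π t₀ := by rw [h1]
      · exact h1
    have hfpf : ∀ u ∈ V, u * x = x * u → u = 1 := by
      intro u hu huc
      by_contra hu1
      exact no_comm h hu1 (pow_four_of_two h hVp hu) hx huc
    let f : V → V := fun v => ⟨(v : G) * (x⁻¹ * (v : G)⁻¹ * x), V.mul_mem v.2 (by
      have := hVn.conj_mem (v : G)⁻¹ (V.inv_mem v.2) x⁻¹
      simpa using this)⟩
    have hf : Function.Injective f := by
      intro v v' hvv
      have h1 : (v : G) * (x⁻¹ * (v : G)⁻¹ * x) = (v' : G) * (x⁻¹ * (v' : G)⁻¹ * x) :=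
        congrArg Subtype.val hvv
      have h2 : ((v' : G)⁻¹ * v) * x⁻¹ = x⁻¹ * ((v' : G)⁻¹ * v) := by
        have h3 : (v : G) * x⁻¹ * (v : G)⁻¹ = (v' : G) * x⁻¹ * (v' : G)⁻¹ := by
          have e : ∀ u : G, u * x⁻¹ * u⁻¹ = u * (x⁻¹ * u⁻¹ * x) * x⁻¹ := by
            intro u; group
          rw [e, e, h1]
        calc ((v' : G)⁻¹ * v) * x⁻¹ = (v' : G)⁻¹ * ((v : G) * x⁻¹ * (v : G)⁻¹) * v := by group
          _ = (v' : G)⁻¹ * ((v' : G) * x⁻¹ * (v' : G)⁻¹) * v := by rw [h3]
          _ = x⁻¹ * ((v' : G)⁻¹ * v) := by group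
      have h4 : ((v' : G)⁻¹ * v) * x = x * ((v' : G)⁻¹ * v) := by
        have hc : Commute ((v' : G)⁻¹ * v) x⁻¹ := h2
        exact Commute.inv_right_iff.mp hc
      have h5 := hfpf _ (V.mul_mem (V.inv_mem v'.2) v.2) h4
      apply Subtype.ext
      have h6 : (v' : G) = v := by
        rw [inv_mul_eq_one] at h5; exact h5
      exact h6.symm
    have hs := Finite.injective_iff_surjective.mp hf
    have htarget : t₀ * x * t₀⁻¹ * x ∈ V := by
      apply (hπ _).mp
      rw [map_mul, map_mul, map_mul, map_inv, hinv]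
      simp [hXdef]
    obtain ⟨v, hv⟩ := hs ⟨_, htarget⟩
    have hv1 : (v : G) * (x⁻¹ * (v : G)⁻¹ * x) = t₀ * x * t₀⁻¹ * x := congrArg Subtype.val hv
    have hv2 : t₀ * x * t₀⁻¹ = (v : G) * x⁻¹ * (v : G)⁻¹ := by
      have e : t₀ * x * t₀⁻¹ = (t₀ * x * t₀⁻¹ * x) * x⁻¹ := by group
      rw [e, ← hv1]; group
    set t := (v : G)⁻¹ * t₀ with htdef
    have ht : t * x * t⁻¹ = x⁻¹ := by
      calc t * x * t⁻¹ = (v : G)⁻¹ * (t₀ * x * t₀⁻¹) * v := by rw [htdef]; group
        _ = x⁻¹ := by rw [hv2]; group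
    have hexp := expo_two h hVn hVp hV hx ht
    refine ⟨V, hVn, Or.inr ⟨⟨IsMulCommutative.of_comm ?_, hexp⟩, ?_⟩⟩
    · intro a b
      apply Subtype.ext
      have e : ∀ u ∈ V, u⁻¹ = u := by
        intro u hu
        rw [inv_eq_iff_mul_eq_one, ← pow_two, hexp u hu]
      show (a : G) * b = b * a
      have := e _ (V.mul_mem a.2 b.2)
      rw [mul_inv_rev, e _ a.2, e _ b.2] at this
      exact this.symm
    set a := π t with hadef
    have ha : a * X * a⁻¹ = X⁻¹ := by
      have := congrArg π ht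
      simpa using this
    have hXne : X ≠ X⁻¹ := by
      intro h1
      have h2 : X ^ 2 = 1 := by
        rw [pow_two]; nth_rewrite 1 [h1]; simp
      have h3 : orderOf X ∣ 2 := orderOf_dvd_of_pow_eq_one h2
      rw [hXord] at h3
      omega
    have ha_nc : ¬ Commute a X := by
      intro hc
      apply hXne
      rw [← ha, hc.eq]
      simp
    have ha2 : orderOf a = 2 := by
      apply orderOf_eq_prime
      · have : t ^ 2 = 1 :=
          orderOf_dvd_iff_pow_eq_one.mp (by rw [order_two_of_inverting h hx ht])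
        rw [hadef, ← map_pow, this, map_one]
      · intro h1
        apply ha_nc
        rw [h1]
        exact Commute.one_left _
    have hindex : U.index = 2 := by
      rw [Subgroup.index_eq_two_iff]
      refine ⟨a, fun b => ?_⟩
      by_cases hb : b * X = X * b
      · right
        refine ⟨hcent b hb, ?_⟩
        intro hba
        have h1 : a ∈ U := by
          have := U.mul_mem (U.inv_mem (hcent b hb)) hba
          simpa using this
        exact ha_nc (hUcomm a h1)
      · left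
        refine ⟨?_, fun hbU => hb (hUcomm b hbU)⟩
        apply hcent
        rcases hconj b with h1 | h1
        · exfalso
          apply hb
          calc b * X = b * X * b⁻¹ * b := by group
            _ = X * b := by rw [h1]
        · have e1 : a * X = X⁻¹ * a := by
            calc a * X = a * X * a⁻¹ * a := by group
              _ = X⁻¹ * a := by rw [ha]
          have e2 : b * X⁻¹ * b⁻¹ = X := by
            have : b * X⁻¹ * b⁻¹ = (b * X * b⁻¹)⁻¹ := by group
            rw [this, h1, inv_inv]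
          calc b * a * X = b * (a * X) := by group
            _ = b * (X⁻¹ * a) := by rw [e1]
            _ = (b * X⁻¹ * b⁻¹) * (b * a) := by group
            _ = X * (b * a) := by rw [e2]
    have hcard : Nat.card (G ⧸ V) = 6 := by
      have := Subgroup.index_mul_card U
      rw [hindex, hUcard] at this
      omega
    exact iso_perm hcard ha2 ha_nc

end Final

/-- A finite group whose set of element orders is exactly {1, 2, 3, 4} has a normal subgroup N such that either N is a 2-group of exponent 4 and nilpotency class at most 2 with G/N of order 3, or N is an elementary abelian 2-group with G/N isomorphic to the symmetric group of degree 3, or N is an elementary abelian 3-group with G/N cyclic of order 4 or quaternion of order 8. -/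
theorem result {G : Type*} [Group G] [Finite G] (h : Set.range (orderOf : G → ℕ) = {k : ℕ | 1 ≤ k ∧ k ≤ 4}) :
    ∃ (N : Subgroup G) (_ : N.Normal),
      (IsPGroup 2 ↥N ∧ Monoid.exponent ↥N = 4 ∧ Group.nilpotencyClass ↥N ≤ 2 ∧ N.index = 3) ∨
      (Cfsg.IsElementaryAbelian 2 N ∧ Nonempty (G ⧸ N ≃* Equiv.Perm (Fin 3))) ∨
      (Cfsg.IsElementaryAbelian 3 N ∧ ((IsCyclic (G ⧸ N) ∧ N.index = 4) ∨ Nonempty (G ⧸ N ≃* QuaternionGroup 2))) := by
  classical
  by_cases h3 : pCore 3 G = ⊥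
  · haveI hsolv : Group.IsSolvable G := solvable h
    obtain ⟨x₀, hx₀⟩ := exists_ord h (G := G) 3 (by norm_num) (by norm_num)
    haveI : Nontrivial G := by
      refine ⟨⟨x₀, 1, ?_⟩⟩
      rintro rfl
      rw [orderOf_one] at hx₀
      omega
    obtain ⟨p, hp, hpc⟩ := exists_pCore_ne_bot (G := G)
    haveI : Fact p.Prime := ⟨hp⟩
    have hpd : p ∣ Nat.card G := by
      obtain ⟨u, hu, hu1⟩ := exists_ne_one_of_ne_bot hpc
      obtain ⟨k, hk⟩ := (isPGroup_pCore (G := G) p) ⟨u, hu⟩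
      have h1 : u ^ p ^ k = 1 := by simpa using congrArg Subtype.val hk
      have h2 : orderOf u ∣ p ^ k := orderOf_dvd_of_pow_eq_one h1
      obtain ⟨j, -, hj⟩ := (Nat.dvd_prime_pow hp).mp h2
      have hj0 : j ≠ 0 := by
        rintro rfl
        rw [pow_zero, orderOf_eq_one_iff] at hj
        exact hu1 hj
      have : p ∣ orderOf u := by
        rw [hj]; exact dvd_pow_self p hj0
      exact this.trans (orderOf_dvd_natCard u)
    rcases prime_cases h hp hpd with rfl | rfl
    · obtain ⟨N, hN, hh⟩ := caseB h hpc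
      rcases hh with hh | hh
      · exact ⟨N, hN, Or.inl hh⟩
      · exact ⟨N, hN, Or.inr (Or.inl hh)⟩
    · exact absurd h3 hpc
  · obtain ⟨N, hN, hh⟩ := caseA h h3
    exact ⟨N, hN, Or.inr (Or.inr hh)⟩

end Cfsg.Agent.S4006
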