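import Mathlib
import Cfsg.Statements.S4016
import Cfsg.Agent.Lib.H73Cyc3

set_option autoImplicit false
open Cfsg

namespace Cfsg.Agent.S4016

open Subgroup Cfsg.Agent.Lib.H73Cyc

universe u

theorem main_ind {p : ℕ} [Fact p.Prime] : ∀ (n : ℕ) (G : Type u) [Group G] [Finite G],
    Nat.card G = n → Hyp p G → Con p G := by
  intro n
  induction n using Nat.strong_induction_on with
  | _ n ih =>
    intro G _ _ hn h
    by_contra hC
    refine false_of_SC (p := p) (reduce ?_ h hC)
    intro H _ _ hlt hH
    exact ih _ (hn ▸ hlt) H rfl hH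

theorem hyp_of {G : Type u} [Group G] [Finite G] {p : ℕ} [Fact p.Prime] (P : Sylow p G)
    (hcyc : IsCyclic P) (hab : ∀ H : Subgroup G, ¬ p ∣ Nat.card H → IsMulCommutative H) :
    Hyp p G where
  cyc T hT := by
    obtain ⟨S, hS⟩ := hT.exists_le_sylow
    have h1 : IsCyclic (S : Subgroup G) := (P.equiv S).isCyclic.mp hcyc
    have h2 : IsCyclic (T.subgroupOf (S : Subgroup G)) := inferInstance
    exact (Subgroup.subgroupOfEquivOfLe hS).isCyclic.mp h2
  ab H hH a ha b hb := by
    have h1 := hab H hH
    have h2 := h1.is_comm.comm ⟨a, ha⟩ ⟨b, hb⟩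
    exact congrArg Subtype.val h2

/-- Let G be a finite group and p a prime such that a Sylow p-subgroup P of G is cyclic and every subgroup of G of order prime to p is abelian. Then G has a normal p-complement or P is normal in G. -/
theorem result {G : Type*} [Group G] [Finite G] {p : ℕ}
    [Fact p.Prime] (P : Sylow p G) (hcyc : IsCyclic P)
    (hab : ∀ H : Subgroup G, ¬ p ∣ Nat.card H → IsMulCommutative H) :
    Cfsg.HasNormalPComplement p G ∨ (P : Subgroup G).Normal := by
  have hp : p.Prime := Fact.out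
  rcases main_ind _ G rfl (hyp_of P hcyc hab) with ⟨L, hLn, hLp, k, hk⟩ | ⟨S, hSn, hS, hSi⟩
  · left
    refine ⟨P, L, hLn, ?_⟩
    obtain ⟨j, hj⟩ := IsPGroup.iff_card.mp P.2
    have h1 := L.card_mul_index
    have h2 := (P : Subgroup G).card_mul_index
    have hjk : j = k := by
      have h3 : p ^ j ∣ Nat.card L * p ^ k := by
        rw [hk] at h1
        rw [h1, ← h2, hj]
        exact dvd_mul_right _ _
      have h4 : Nat.Coprime (p ^ j) (Nat.card L) :=
        Nat.Coprime.pow_left _ ((Nat.Prime.coprime_iff_not_dvd hp).mpr hLp)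
      have h5 := h4.dvd_of_dvd_mul_left h3
      have h6 : p ^ k ∣ p ^ j * (P : Subgroup G).index := by
        rw [← hj, h2, ← h1, hk]
        exact dvd_mul_left _ _
      have h7 : Nat.Coprime (p ^ k) (P : Subgroup G).index :=
        Nat.Coprime.pow_left _ ((Nat.Prime.coprime_iff_not_dvd hp).mpr P.not_dvd_index)
      have h8 := h7.dvd_of_dvd_mul_right h6
      exact Nat.pow_right_injective hp.two_le (Nat.dvd_antisymm h5 h8)
    subst hjk
    apply Subgroup.isComplement'_of_coprime
    · rw [hj, ← hk, h1]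
    · rw [hj]
      exact Nat.Coprime.pow_right _ ((Nat.Prime.coprime_iff_not_dvd hp).mpr hLp).symm
  · right
    have h1 : (P : Subgroup G) ≤ S := le_of_index S hSi _ P.2
    have h2 := P.is_maximal' hS h1
    rw [← h2]
    exact hSn

end Cfsg.Agent.S4016
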