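import Mathlib
import Cfsg.Statements.S4017
import Cfsg.Agent.Lib.MixTI
import Cfsg.Agent.Lib.PComplement

set_option autoImplicit false
set_option linter.style.haveILetI false
set_option linter.unusedSectionVars false
open Cfsg

namespace Cfsg.Agent.S4017

open Subgroup Cfsg.Agent.Lib.MixBasic Cfsg.Agent.Lib.MixEx

universe u

/-- The working form of the hypotheses. -/
structure Hyp (p q : ℕ) (G : Type u) [Group G] [Finite G] : Prop where
  hp : p.Prime
  hq : q.Prime
  hpq : p ≠ q
  hp2 : p ≠ 2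
  hpG : p ∣ Nat.card G
  hqG : q ∣ Nat.card G
  hmix : ∀ H : Subgroup G, H ≠ ⊤ → ¬ IsPGroup q H → q ∣ Nat.card H → p ∣ Nat.card H
  hle : ∀ y, q ^ y ∣ Nat.card G → q ^ y ≤ p + 1
  hab : (∃ y, q ^ y ∣ Nat.card G ∧ q ^ y = p + 1) →
    ∀ A : Subgroup G, IsPGroup p A → ∀ x ∈ A, ∀ y ∈ A, x * y = y * x

variable {p q : ℕ} {G : Type u} [Group G] [Finite G]

theorem Hyp.subgroup (h : Hyp p q G) (K : Subgroup G) (hpK : p ∣ Nat.card K)
    (hqK : q ∣ Nat.card K) : Hyp p q K where
  hp := h.hp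
  hq := h.hq
  hpq := h.hpq
  hp2 := h.hp2
  hpG := hpK
  hqG := hqK
  hmix := by
    intro H hH hnq hqH
    haveI : Fact q.Prime := ⟨h.hq⟩
    have hc := card_map_subtype H
    have h1 : H.map K.subtype ≠ ⊤ := by
      intro h2
      apply hH
      rw [eq_top_iff]
      intro x _
      have h3 : (x : G) ∈ H.map K.subtype := by rw [h2]; exact mem_top _
      obtain ⟨y, hy, hyx⟩ := mem_map.1 h3
      have : y = x := Subtype.ext hyx
      exact this ▸ hy
    have h2 : ¬ IsPGroup q (H.map K.subtype) := by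
      intro h3
      apply hnq
      obtain ⟨n, hn⟩ := IsPGroup.iff_card.1 h3
      rw [hc] at hn
      exact IsPGroup.of_card hn
    have h3 := h.hmix _ h1 h2 (by rw [hc]; exact hqH)
    rwa [hc] at h3
  hle y hy := h.hle y (hy.trans (Subgroup.card_subgroup_dvd_card K))
  hab := by
    rintro ⟨y, hy, hyy⟩ A hA a ha b hb
    apply Subtype.ext
    exact h.hab ⟨y, hy.trans (Subgroup.card_subgroup_dvd_card K), hyy⟩ (A.map K.subtype)
      (isPGroup_map_subtype hA) a (mem_map_of_mem _ ha) b (mem_map_of_mem _ hb)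

/-- Hypotheses pass to quotients by normal `p`-subgroups, provided `p` and `q` still divide. -/
theorem Hyp.quotient (h : Hyp p q G) (O : Subgroup G) [hO : O.Normal] (hOp : IsPGroup p O)
    (hpK : p ∣ Nat.card (G ⧸ O)) (hqK : q ∣ Nat.card (G ⧸ O)) : Hyp p q (G ⧸ O) where
  hp := h.hp
  hq := h.hq
  hpq := h.hpq
  hp2 := h.hp2
  hpG := hpK
  hqG := hqK
  hmix := by
    intro H hH hnq hqH
    by_contra hpH
    haveI : Fact p.Prime := ⟨h.hp⟩
    haveI : Fact q.Prime := ⟨h.hq⟩
    -- the preimage, and a complement of `O` in it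
    let M : Subgroup G := H.comap (QuotientGroup.mk' O)
    have hOM : O ≤ M := by
      intro x hx
      show (QuotientGroup.mk' O) x ∈ H
      have : (QuotientGroup.mk' O) x = 1 := (QuotientGroup.eq_one_iff x).2 hx
      rw [this]
      exact one_mem H
    let O' : Subgroup M := O.subgroupOf M
    haveI : O'.Normal := inferInstance
    have hcO' : Nat.card O' = Nat.card O :=
      Nat.card_congr (Subgroup.subgroupOfEquivOfLe hOM).toEquiv
    let f : M →* H := ((QuotientGroup.mk' O).comp M.subtype).codRestrict H (fun x => x.2)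
    have hfs : Function.Surjective f := by
      rintro ⟨y, hy⟩
      obtain ⟨x, hx⟩ := QuotientGroup.mk'_surjective O y
      have hxM : x ∈ M := by
        show (QuotientGroup.mk' O) x ∈ H
        rw [hx]
        exact hy
      exact ⟨⟨x, hxM⟩, Subtype.ext hx⟩
    have hker : f.ker = O' := by
      ext x
      rw [MonoidHom.mem_ker, mem_subgroupOf]
      constructor
      · intro hx
        have h1 : (QuotientGroup.mk' O) (x : G) = 1 := congrArg Subtype.val hx
        exact (QuotientGroup.eq_one_iff _).1 h1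
      · intro hx
        apply Subtype.ext
        exact (QuotientGroup.eq_one_iff _).2 hx
    have hidx : O'.index = Nat.card H := by
      rw [← hker, Subgroup.index_ker, MonoidHom.range_eq_top.2 hfs, Subgroup.card_top]
    have hcop : (Nat.card O').Coprime O'.index := by
      rw [hcO', hidx]
      obtain ⟨k, hk⟩ := IsPGroup.iff_card.1 hOp
      rw [hk]
      apply Nat.Coprime.pow_left
      exact (Nat.Prime.coprime_iff_not_dvd h.hp).2 hpH
    obtain ⟨C, hC⟩ := Subgroup.exists_right_complement'_of_coprime hcop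
    have hcC : Nat.card C = Nat.card H := by
      have e1 := hC.card_mul_card
      have e2 := Subgroup.card_mul_index O'
      rw [← e2] at e1
      rw [← hidx]
      exact Nat.eq_of_mul_eq_mul_left Nat.card_pos e1
    have hcC' := card_map_subtype C
    rw [hcC] at hcC'
    have h1 : C.map M.subtype ≠ ⊤ := by
      intro h2
      apply hpH
      rw [← hcC', h2, Subgroup.card_top]
      exact h.hpG
    have h2 : ¬ IsPGroup q (C.map M.subtype) := by
      intro h3
      apply hnq
      obtain ⟨n, hn⟩ := IsPGroup.iff_card.1 h3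
      rw [hcC'] at hn
      exact IsPGroup.of_card hn
    have h3 := h.hmix _ h1 h2 (by rw [hcC']; exact hqH)
    rw [hcC'] at h3
    exact hpH h3
  hle y hy := h.hle y (hy.trans (Subgroup.card_quotient_dvd_card O))
  hab := by
    rintro ⟨y, hy, hyy⟩ A hA a ha b hb
    let M : Subgroup G := A.comap (QuotientGroup.mk' O)
    have hM : IsPGroup p M := by
      rintro ⟨x, hx⟩
      obtain ⟨k, hk⟩ := hA ⟨_, hx⟩
      have h1 : (QuotientGroup.mk' O) (x ^ p ^ k) = 1 := by
        have := congrArg Subtype.val hk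
        simpa using this
      have h2 : x ^ p ^ k ∈ O := (QuotientGroup.eq_one_iff _).1 h1
      obtain ⟨m, hm⟩ := hOp ⟨_, h2⟩
      refine ⟨k + m, Subtype.ext ?_⟩
      have h3 := congrArg Subtype.val hm
      simp only [SubmonoidClass.coe_pow, OneMemClass.coe_one] at h3 ⊢
      rw [pow_add, pow_mul]
      exact h3
    obtain ⟨x, rfl⟩ := QuotientGroup.mk'_surjective O a
    obtain ⟨z, rfl⟩ := QuotientGroup.mk'_surjective O b
    have h1 := h.hab ⟨y, hy.trans (Subgroup.card_quotient_dvd_card O), hyy⟩ M hM x ha z hb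
    rw [← map_mul, ← map_mul, h1]

/-- Step A: proper subgroups of order divisible by `q` are `{p, q}`-groups. -/
theorem step_A (h : Hyp p q G)
    (ih : ∀ K : Subgroup G, K ≠ ⊤ → Hyp p q K → ∀ r : ℕ, r.Prime → r ∣ Nat.card K → r = p ∨ r = q)
    (K : Subgroup G) (hK : K ≠ ⊤) (hqK : q ∣ Nat.card K) (ℓ : ℕ) (hℓ : ℓ.Prime)
    (hℓK : ℓ ∣ Nat.card K) : ℓ = p ∨ ℓ = q := by
  haveI : Fact q.Prime := ⟨h.hq⟩
  by_cases hq' : IsPGroup q K
  · right
    obtain ⟨n, hn⟩ := IsPGroup.iff_card.1 hq'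
    rw [hn] at hℓK
    exact (Nat.prime_dvd_prime_iff_eq hℓ h.hq).1 (hℓ.dvd_of_dvd_pow hℓK)
  · have hpK := h.hmix K hK hq' hqK
    exact ih K hK (h.subgroup K hpK hqK) ℓ hℓ hℓK

/-- No nontrivial `q`-subgroup and `r`-subgroup, one normalizing the other. -/
theorem no_qr (h : Hyp p q G)
    (hA : ∀ K : Subgroup G, K ≠ ⊤ → q ∣ Nat.card K → ∀ ℓ : ℕ, ℓ.Prime → ℓ ∣ Nat.card K →
      ℓ = p ∨ ℓ = q) {r : ℕ} (hr : r.Prime) (hrp : r ≠ p) (hrq : r ≠ q)
    (U R : Subgroup G) (hU : IsPGroup q U) (hU1 : U ≠ ⊥) (hR : IsPGroup r R) (hR1 : R ≠ ⊥)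
    (hn : U ≤ normalizer (R : Set G) ∨ R ≤ normalizer (U : Set G)) : False := by
  haveI : Fact q.Prime := ⟨h.hq⟩
  haveI : Fact r.Prime := ⟨hr⟩
  have hc : Nat.card (U ⊔ R : Subgroup G) ∣ Nat.card U * Nat.card R := by
    rcases hn with hn | hn
    · exact card_sup_dvd_of_le_normalizer U R hn
    · rw [sup_comm, mul_comm]
      exact card_sup_dvd_of_le_normalizer R U hn
  obtain ⟨a, ha⟩ := IsPGroup.iff_card.1 hU
  obtain ⟨b, hb⟩ := IsPGroup.iff_card.1 hR
  have ha0 : a ≠ 0 := by
    rintro rfl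
    rw [pow_zero] at ha
    exact hU1 (Subgroup.card_eq_one.1 ha)
  have hb0 : b ≠ 0 := by
    rintro rfl
    rw [pow_zero] at hb
    exact hR1 (Subgroup.card_eq_one.1 hb)
  by_cases htop : U ⊔ R = ⊤
  · have h1 : p ∣ Nat.card U * Nat.card R := by
      have h2 : Nat.card (U ⊔ R : Subgroup G) = Nat.card G := by rw [htop, Subgroup.card_top]
      rw [h2] at hc
      exact h.hpG.trans hc
    rw [ha, hb] at h1
    rcases (Nat.Prime.dvd_mul h.hp).1 h1 with h2 | h2
    · exact h.hpq ((Nat.prime_dvd_prime_iff_eq h.hp h.hq).1 (h.hp.dvd_of_dvd_pow h2))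
    · exact hrp ((Nat.prime_dvd_prime_iff_eq h.hp hr).1 (h.hp.dvd_of_dvd_pow h2)).symm
  · have hqd : q ∣ Nat.card (U ⊔ R : Subgroup G) := by
      have : Nat.card U ∣ Nat.card (U ⊔ R : Subgroup G) := Subgroup.card_dvd_of_le le_sup_left
      rw [ha] at this
      exact (dvd_pow_self q ha0).trans this
    have hrd : r ∣ Nat.card (U ⊔ R : Subgroup G) := by
      have : Nat.card R ∣ Nat.card (U ⊔ R : Subgroup G) := Subgroup.card_dvd_of_le le_sup_right
      rw [hb] at this
      exact (dvd_pow_self r hb0).trans this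
    rcases hA _ htop hqd r hr hrd with h1 | h1
    · exact hrp h1
    · exact hrq h1

/-- The branch where `q`-local subgroups have normal Sylow `p`-subgroups. -/
theorem frob_branch (h : Hyp p q G)
    (hA : ∀ K : Subgroup G, K ≠ ⊤ → q ∣ Nat.card K → ∀ ℓ : ℕ, ℓ.Prime → ℓ ∣ Nat.card K →
      ℓ = p ∨ ℓ = q) {r : ℕ} (hr : r.Prime) (hrp : r ≠ p) (hrq : r ≠ q) (hrG : r ∣ Nat.card G)
    (hOq : ∀ U : Subgroup G, IsPGroup q U → U.Normal → U = ⊥)
    (hall : ∀ U : Subgroup G, IsPGroup q U → U ≠ ⊥ → ∃ B : Subgroup G,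
      B ≤ normalizer (U : Set G) ∧ IsPGroup p B ∧ normalizer (U : Set G) ≤ normalizer (B : Set G) ∧
      ∀ x ∈ normalizer (U : Set G), PElt p x → x ∈ B) : False := by
  haveI : Fact q.Prime := ⟨h.hq⟩
  haveI : Fact r.Prime := ⟨hr⟩
  have hc : Cfsg.HasNormalPComplement q G := by
    rw [Cfsg.Agent.Lib.PComplement.hasNormalPComplement_iff_forall]
    intro U hU g hg hgc
    by_cases hU1 : U = ⊥
    · subst hU1
      rw [mem_centralizer_iff]
      intro x hx
      have : x = 1 := Subgroup.mem_bot.1 hx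
      simp [this]
    obtain ⟨B, hBL, hB, hLB, hBx⟩ := hall U hU hU1
    have hL : normalizer (U : Set G) ≠ ⊤ := by
      intro h1
      exact hU1 (hOq U hU (normalizer_eq_top_iff.1 h1))
    have hqL : q ∣ Nat.card (normalizer (U : Set G)) := by
      obtain ⟨a, ha⟩ := IsPGroup.iff_card.1 hU
      have ha0 : a ≠ 0 := by
        rintro rfl
        rw [pow_zero] at ha
        exact hU1 (Subgroup.card_eq_one.1 ha)
      have h1 : Nat.card U ∣ Nat.card (normalizer (U : Set G)) :=
        Subgroup.card_dvd_of_le le_normalizer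
      rw [ha] at h1
      exact (dvd_pow_self q ha0).trans h1
    have hgp : PElt p g := by
      rw [pelt_iff_orderOf h.hp]
      refine ⟨(orderOf g).primeFactorsList.length, ?_⟩
      apply Nat.eq_prime_pow_of_unique_prime_dvd (orderOf_pos g).ne'
      intro d hd hdvd
      have h3 : orderOf (⟨g, hg⟩ : normalizer (U : Set G)) = orderOf g := by
        simpa using Subgroup.orderOf_coe (⟨g, hg⟩ : normalizer (U : Set G))
      have h4 : d ∣ Nat.card (normalizer (U : Set G)) :=
        hdvd.trans (h3 ▸ orderOf_dvd_natCard _)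
      rcases hA _ hL hqL d hd h4 with h5 | h5
      · exact h5
      · subst h5
        exact absurd (Nat.dvd_gcd hdvd (dvd_refl _)) (by
          rw [hgc]
          exact hd.one_lt.ne' ∘ Nat.dvd_one.1)
    have hgB := hBx g hg hgp
    rw [mem_centralizer_iff]
    intro u hu
    have huL : u ∈ normalizer (U : Set G) := le_normalizer hu
    have hu' : u ∈ U := hu
    have h1 : g * u * g⁻¹ * u⁻¹ ∈ U :=
      mul_mem ((mem_normalizer_iff.1 hg u).1 hu') (inv_mem hu')
    have h2 : g * u * g⁻¹ * u⁻¹ ∈ B := by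
      have e : g * u * g⁻¹ * u⁻¹ = g * (u * g⁻¹ * u⁻¹) := by group
      rw [e]
      exact mul_mem hgB ((mem_normalizer_iff.1 (hLB huL) _).1 (inv_mem hgB))
    have h3 := eq_one_of_pelt_pelt h.hp h.hq h.hpq (pelt_of_mem hB h2) (pelt_of_mem hU h1)
    have h4 : g * u * g⁻¹ = u := mul_inv_eq_one.1 h3
    exact (conj_eq_iff_comm.1 h4).symm
  obtain ⟨S, K, hKn, hKc⟩ := hc
  have hrK : r ∣ Nat.card K := by
    have h1 : Nat.card K * Nat.card (S : Subgroup G) = Nat.card G := hKc.card_mul_card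
    rw [← h1] at hrG
    rcases (Nat.Prime.dvd_mul hr).1 hrG with h2 | h2
    · exact h2
    · obtain ⟨a, ha⟩ := IsPGroup.iff_card.1 S.2
      rw [ha] at h2
      exact absurd ((Nat.prime_dvd_prime_iff_eq hr h.hq).1 (hr.dvd_of_dvd_pow h2)) hrq
  obtain ⟨T⟩ : Nonempty (Sylow r K) := inferInstance
  have hF := T.normalizer_sup_eq_top
  let R : Subgroup G := (T : Subgroup K).map K.subtype
  have hR : IsPGroup r R := isPGroup_map_subtype T.2
  have hR1 : R ≠ ⊥ := by
    intro h1
    have h2 : Nat.card R = 1 := by rw [h1]; exact Subgroup.card_bot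
    rw [card_map_subtype] at h2
    exact T.ne_bot_of_dvd_card hrK (Subgroup.card_eq_one.1 h2)
  have hKq := Cfsg.Agent.Lib.TransferCore.coprime_card_of_complement hKc
  have hqN : q ∣ Nat.card (normalizer (R : Set G)) := by
    have h1 : Nat.card (normalizer (R : Set G) ⊔ K : Subgroup G) ∣
        Nat.card (normalizer (R : Set G)) * Nat.card K := by
      apply card_sup_dvd_of_le_normalizer
      rw [normalizer_eq_top_iff.2 hKn]
      exact le_top
    have hF' : (normalizer (R : Set G) ⊔ K : Subgroup G) = ⊤ := hF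
    rw [hF', Subgroup.card_top] at h1
    rcases (Nat.Prime.dvd_mul h.hq).1 (h.hqG.trans h1) with h2 | h2
    · exact h2
    · exfalso
      have h3 := Nat.Coprime.eq_one_of_dvd hKq.symm h2
      exact h.hq.one_lt.ne' h3
  obtain ⟨x, hx⟩ := exists_prime_orderOf_dvd_card' q hqN
  have hxo : orderOf (x : G) = q := by
    rw [← hx]
    exact (Subgroup.orderOf_coe x)
  have hxp : PElt q (x : G) := ⟨1, by rw [pow_one, ← hxo, pow_orderOf_eq_one]⟩
  refine no_qr h hA hr hrp hrq (zpowers (x : G)) R (isPGroup_zpowers hxp) ?_ hR hR1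
    (Or.inl (by rw [zpowers_le]; exact x.2))
  rw [Ne, zpowers_eq_bot]
  intro h1
  rw [h1, orderOf_one] at hxo
  exact h.hq.one_lt.ne hxo

/-- The exceptional branch. -/
theorem exc_branch {G : Type u} [Group G] [Finite G] (h : Hyp p 2 G)
    (hA : ∀ K : Subgroup G, K ≠ ⊤ → 2 ∣ Nat.card K → ∀ ℓ : ℕ, ℓ.Prime → ℓ ∣ Nat.card K →
      ℓ = p ∨ ℓ = 2) {r : ℕ} (hr : r.Prime) (hrp : r ≠ p) (hr2 : r ≠ 2) (hrG : r ∣ Nat.card G)
    (hOq : ∀ U : Subgroup G, IsPGroup 2 U → U.Normal → U = ⊥)
    (ih : ∀ O : Subgroup G, ∀ hO : O.Normal, O ≠ ⊥ → Hyp p 2 (G ⧸ O) →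
      r ∣ Nat.card (G ⧸ O) → r = p ∨ r = 2)
    (K P : Subgroup G) (hPN : P ≤ normalizer (K : Set G)) (hcK : Nat.card K = p + 1)
    (hK2 : IsPGroup 2 K) (hP2 : IsPGroup p P) (hK1 : ∀ x ∈ K, x ^ 2 = 1)
    (htr : ∀ t₁ ∈ K, ∀ t₂ ∈ K, t₁ ≠ 1 → t₂ ≠ 1 → ∃ y ∈ P, y * t₁ * y⁻¹ = t₂) : False := by
  haveI : Fact (Nat.Prime 2) := ⟨Nat.prime_two⟩
  haveI : Fact p.Prime := ⟨h.hp⟩
  haveI : Fact r.Prime := ⟨hr⟩
  have hpa : ∃ y, 2 ^ y ∣ Nat.card G ∧ 2 ^ y = p + 1 := by
    obtain ⟨y, hy⟩ := IsPGroup.iff_card.1 hK2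
    refine ⟨y, ?_, hy.symm.trans hcK⟩
    rw [← hy]
    exact Subgroup.card_subgroup_dvd_card K
  have hab := h.hab hpa
  have hp3 : 3 ≤ p := by
    have h1 := h.hp.two_le
    have h2 := h.hp2
    omega
  by_cases hOp : ∀ O : Subgroup G, IsPGroup p O → O.Normal → O = ⊥
  · have E : Ex p G K P :=
      { hp := h.hp
        hp2 := h.hp2
        hcardQ := hcK
        hQ2 := hK2
        hle := by
          intro A hA'
          obtain ⟨y, hy⟩ := IsPGroup.iff_card.1 hA'
          rw [hy]
          exact h.hle y (hy ▸ Subgroup.card_subgroup_dvd_card A)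
        helem := hK1
        hP₀ := hP2
        hP₀N := hPN
        htrans := htr
        hpab := hab
        hmix := h.hmix
        hπ := hA
        hpG := h.hpG
        hO2 := hOq
        hOp := hOp }
    exact Ex.false_of_ex E
  · push Not at hOp
    obtain ⟨O, hOP, hOn, hO1⟩ := hOp
    obtain ⟨k, hk⟩ := IsPGroup.iff_card.1 hOP
    have hcard : Nat.card G = Nat.card (G ⧸ O) * Nat.card O :=
      Subgroup.card_eq_card_quotient_mul_card_subgroup O
    have hrQ : r ∣ Nat.card (G ⧸ O) := by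
      rw [hcard, hk] at hrG
      rcases (Nat.Prime.dvd_mul hr).1 hrG with h2 | h2
      · exact h2
      · exact absurd ((Nat.prime_dvd_prime_iff_eq hr h.hp).1 (hr.dvd_of_dvd_pow h2)) hrp
    have h2Q : 2 ∣ Nat.card (G ⧸ O) := by
      have h1 := h.hqG
      rw [hcard, hk] at h1
      rcases (Nat.Prime.dvd_mul Nat.prime_two).1 h1 with h2 | h2
      · exact h2
      · exact absurd ((Nat.prime_dvd_prime_iff_eq Nat.prime_two h.hp).1
          (Nat.prime_two.dvd_of_dvd_pow h2)).symm h.hp2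
    have hpQ : p ∣ Nat.card (G ⧸ O) := by
      by_contra hno
      obtain ⟨t₁, ht₁, ht₁1, -⟩ := exists_other K (by rw [hcK]; omega) 1
      obtain ⟨t₂, ht₂, ht₂1, ht₂t⟩ := exists_other K (by rw [hcK]; omega) t₁
      obtain ⟨y, hy, hyy⟩ := htr t₁ ht₁ t₂ ht₂ ht₁1 ht₂1
      have hyO : y ∈ O := by
        obtain ⟨m, hm⟩ := pelt_of_mem hP2 hy
        have h1 : (QuotientGroup.mk' O y) ^ p ^ m = 1 := by
          rw [← map_pow, hm, map_one]
        have h2 : orderOf (QuotientGroup.mk' O y) ∣ p ^ m := orderOf_dvd_of_pow_eq_one h1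
        have h3 : orderOf (QuotientGroup.mk' O y) ∣ Nat.card (G ⧸ O) := orderOf_dvd_natCard _
        have h4 : Nat.Coprime (p ^ m) (Nat.card (G ⧸ O)) :=
          Nat.Coprime.pow_left _ ((Nat.Prime.coprime_iff_not_dvd h.hp).2 hno)
        have h5 := Nat.Coprime.eq_one_of_dvd (Nat.Coprime.coprime_dvd_left h2 h4) h3
        exact (QuotientGroup.eq_one_iff _).1 (orderOf_eq_one_iff.1 h5)
      have hc1 : y * t₁ * y⁻¹ * t₁⁻¹ ∈ K :=
        mul_mem ((mem_normalizer_iff.1 (hPN hy) _).1 ht₁) (inv_mem ht₁)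
      have hc2 : y * t₁ * y⁻¹ * t₁⁻¹ ∈ O := by
        have e : y * t₁ * y⁻¹ * t₁⁻¹ = y * (t₁ * y⁻¹ * t₁⁻¹) := by group
        rw [e]
        exact mul_mem hyO (hOn.conj_mem _ (inv_mem hyO) _)
      have h3 := eq_one_of_pelt_pelt h.hp Nat.prime_two h.hp2 (pelt_of_mem hOP hc2)
        (pelt_of_mem hK2 hc1)
      have h4 : y * t₁ * y⁻¹ = t₁ := mul_inv_eq_one.1 h3
      exact ht₂t (hyy.symm.trans h4)
    rcases ih O hOn hO1 (h.quotient O hOP hpQ h2Q) hrQ with h1 | h1
    · exact hrp h1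
    · exact hr2 h1

/-- The theorem in working form. -/
theorem main {p q : ℕ} : ∀ (n : ℕ) (G : Type u) [Group G] [Finite G], Nat.card G = n → Hyp p q G →
    ∀ r : ℕ, r.Prime → r ∣ Nat.card G → r = p ∨ r = q := by
  intro n
  induction n using Nat.strong_induction_on with
  | _ n ih =>
    intro G _ _ hn h r hr hrG
    by_contra hcon
    push Not at hcon
    obtain ⟨hrp, hrq⟩ := hcon
    haveI : Fact q.Prime := ⟨h.hq⟩
    haveI : Fact p.Prime := ⟨h.hp⟩
    haveI : Fact r.Prime := ⟨hr⟩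
    have hA : ∀ K : Subgroup G, K ≠ ⊤ → q ∣ Nat.card K → ∀ ℓ : ℕ, ℓ.Prime → ℓ ∣ Nat.card K →
        ℓ = p ∨ ℓ = q := by
      apply step_A h
      intro K hK hK' ρ hρ hρK
      have hlt : Nat.card K < n := by
        rw [← hn]
        have h1 := Cfsg.Agent.Lib.PComplement.card_lt_of_lt' (lt_top_iff_ne_top.2 hK)
        rwa [Subgroup.card_top] at h1
      exact ih _ hlt K rfl hK' ρ hρ hρK
    have hOq : ∀ U : Subgroup G, IsPGroup q U → U.Normal → U = ⊥ := by
      intro U hU hUn
      by_contra hU1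
      obtain ⟨R⟩ : Nonempty (Sylow r G) := inferInstance
      refine no_qr h hA hr hrp hrq U R hU hU1 R.2 (R.ne_bot_of_dvd_card hrG) (Or.inr ?_)
      rw [normalizer_eq_top_iff.2 hUn]
      exact le_top
    by_cases hall : ∀ U : Subgroup G, IsPGroup q U → U ≠ ⊥ → ∃ B : Subgroup G,
      B ≤ normalizer (U : Set G) ∧ IsPGroup p B ∧ normalizer (U : Set G) ≤ normalizer (B : Set G) ∧
      ∀ x ∈ normalizer (U : Set G), PElt p x → x ∈ B
    · exact frob_branch h hA hr hrp hrq hrG hOq hall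
    · push Not at hall
      obtain ⟨U, hU, hU1, hno⟩ := hall
      have hL : normalizer (U : Set G) ≠ ⊤ := by
        intro h1
        exact hU1 (hOq U hU (normalizer_eq_top_iff.1 h1))
      have hqL : q ∣ Nat.card (normalizer (U : Set G)) := by
        obtain ⟨a, ha⟩ := IsPGroup.iff_card.1 hU
        have ha0 : a ≠ 0 := by
          rintro rfl
          rw [pow_zero] at ha
          exact hU1 (Subgroup.card_eq_one.1 ha)
        have h1 : Nat.card U ∣ Nat.card (normalizer (U : Set G)) :=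
          Subgroup.card_dvd_of_le le_normalizer
        rw [ha] at h1
        exact (dvd_pow_self q ha0).trans h1
      rcases dich (p := p) (q := q) h.hpq h.hp2 (normalizer (U : Set G)) (hA _ hL hqL)
        (fun y hy => h.hle y (hy.trans (Subgroup.card_subgroup_dvd_card _)))
        (fun ⟨y, hy, hyy⟩ => h.hab ⟨y, hy.trans (Subgroup.card_subgroup_dvd_card _), hyy⟩) with
        ⟨B, h1, h2, h3, h4⟩ | ⟨hq2, K, P, hKL, hPL, hLK, hcK, hK2, hP2, hKx, hK1, htr⟩
      · exfalso
        obtain ⟨x, hx, hxp, hxB⟩ := hno B h1 h2 h3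
        exact hxB (h4 x hx hxp)
      · subst hq2
        refine exc_branch h hA hr hrp hrq hrG hOq ?_ K P (hPL.trans hLK) hcK hK2 hP2 hK1 htr
        intro O hOn hO1 hH hrQ
        have hlt : Nat.card (G ⧸ O) < n := by
          rw [← hn, Subgroup.card_eq_card_quotient_mul_card_subgroup O]
          have h1 : 1 < Nat.card O := by
            have h2 : Nat.card O ≠ 1 := fun h3 => hO1 (Subgroup.card_eq_one.1 h3)
            have h3 : 0 < Nat.card O := Nat.card_pos
            omega
          have h4 : 0 < Nat.card (G ⧸ O) := Nat.card_pos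
          nlinarith
        exact ih _ hlt (G ⧸ O) rfl hH r hr hrQ

/-- Let G be a finite group and let p and q be distinct primes dividing the order of G, with p odd. Suppose that p divides the order of every proper subgroup of G that is neither a q-group nor of order prime to q. Let q^a be the q-part of the order of G. If p > q^a − 1, or if p = q^a − 1 and the Sylow p-subgroups of G are abelian, then p and q are the only primes dividing the order of G. -/
theorem result {G : Type*} [Group G] [Finite G]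
    {p q : ℕ} (hp : p.Prime) (hq : q.Prime) (hpq : p ≠ q) (hp2 : p ≠ 2)
    (hpG : p ∣ Nat.card G) (hqG : q ∣ Nat.card G)
    (hmix : ∀ H : Subgroup G, H ≠ ⊤ → ¬ IsPGroup q H → q ∣ Nat.card H → p ∣ Nat.card H)
    (hlarge : q ^ (Nat.card G).factorization q - 1 < p ∨
      (p = q ^ (Nat.card G).factorization q - 1 ∧ ∀ P : Sylow p G, IsMulCommutative P)) :
    ∀ r : ℕ, r.Prime → r ∣ Nat.card G → r = p ∨ r = q := by
  have hapos : 0 < q ^ (Nat.card G).factorization q := pow_pos hq.pos _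
  have hley : ∀ y, q ^ y ∣ Nat.card G → q ^ y ≤ q ^ (Nat.card G).factorization q := by
    intro y hy
    have h1 := (Nat.Prime.pow_dvd_iff_le_factorization hq (Nat.card_pos.ne')).1 hy
    exact Nat.pow_le_pow_right hq.pos h1
  have H : Hyp p q G :=
    { hp := hp
      hq := hq
      hpq := hpq
      hp2 := hp2
      hpG := hpG
      hqG := hqG
      hmix := hmix
      hle := by
        intro y hy
        have h1 := hley y hy
        rcases hlarge with h2 | ⟨h2, -⟩ <;> omega
      hab := by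
        rintro ⟨y, hy, hyy⟩ A hA a ha b hb
        have h1 := hley y hy
        rcases hlarge with h2 | ⟨-, h2⟩
        · omega
        · obtain ⟨P, hP⟩ := hA.exists_le_sylow
          have h3 := h2 P
          have h4 := h3.is_comm.comm ⟨a, hP ha⟩ ⟨b, hP hb⟩
          exact congrArg Subtype.val h4 }
  exact main _ G rfl H

end Cfsg.Agent.S4017
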