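import Mathlib
import Cfsg.Statements.S4018
import Cfsg.Agent.Lib.CharBasic
import Cfsg.Agent.Lib.CharAvg
import Cfsg.Agent.Lib.CharInd
import Cfsg.Agent.Lib.CharKernel
import Cfsg.Agent.Lib.ZStarRed

set_option autoImplicit false
open Cfsg

namespace Cfsg.Agent.S4018

open Cfsg.Agent.Lib Cfsg.Agent.Lib.CharBasic Cfsg.Agent.Lib.CharAvg Cfsg.Agent.Lib.CharInd Cfsg.Agent.Lib.CharKernel
open scoped ComplexConjugate

universe u


theorem nt_aux (a k i e d : ℕ) (ha : a = 3 ^ k) (hk : 0 < k) (hi : (i : ℤ) = 4 * a ^ 2 - 2 * a + 1)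
    (he1 : 1 < e) (hdvd : e ∣ 4 * a * i) (v : ℤ)
    (hE : (i : ℤ) * v ^ 2 = (1 - 2 * a) * e ^ 2 + 4 * a ^ 2 * d * e) : 4 ≤ v ^ 2 := by
  have ha3 : 3 ∣ a := by rw [ha]; exact dvd_pow_self 3 hk.ne'
  have ha0 : 3 ≤ a := Nat.le_of_dvd (by rw [ha]; positivity) ha3
  obtain ⟨b, hb⟩ := ha3
  have hb1 : 1 ≤ b := by omega
  have he0 : (e : ℤ) ≠ 0 := by positivity
  have hcop1 : IsCoprime ((2 : ℤ) * a - 1) (4 * (a : ℤ) ^ 2) := by
    refine ⟨-(2 * a + 1), 1, ?_⟩
    ring
  by_contra hlt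
  push Not at hlt
  have hcases : v ^ 2 = 0 ∨ v ^ 2 = 1 := by
    have h1 : |v| < 2 := by
      rw [← abs_of_pos (by norm_num : (0 : ℤ) < 2)]
      exact sq_lt_sq.mp (by norm_num; exact hlt)
    have h2 := abs_lt.mp h1
    have : v = -1 ∨ v = 0 ∨ v = 1 := by omega
    rcases this with rfl | rfl | rfl <;> simp
  rcases hcases with h0 | h1
  · -- v = 0
    rw [h0, mul_zero] at hE
    have h2 : (2 * (a : ℤ) - 1) * e = 4 * a ^ 2 * d := by
      apply mul_right_cancel₀ he0
      linear_combination hE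
    have h3 : 4 * (a : ℤ) ^ 2 ∣ (2 * (a : ℤ) - 1) * e := ⟨d, h2⟩
    have h4 : 4 * (a : ℤ) ^ 2 ∣ (e : ℤ) := hcop1.symm.dvd_of_dvd_mul_left h3
    have h5 : ((e : ℕ) : ℤ) ∣ ((4 * a * i : ℕ) : ℤ) := by exact_mod_cast hdvd
    have h6 := dvd_trans h4 h5
    push_cast at h6
    -- 4 a^2 ∣ 4 a i so a ∣ i
    obtain ⟨m, hm⟩ := h6
    rw [hi] at hm
    have ha' : (a : ℤ) ≠ 0 := by positivity
    have h7 : (a : ℤ) * (4 * a - 2 - m) = -1 := by
      have : 4 * (a : ℤ) * ((a : ℤ) * (4 * a - 2 - m) + 1) = 0 := by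
        linear_combination hm
      have h8 : (a : ℤ) * (4 * a - 2 - m) + 1 = 0 := by
        rcases mul_eq_zero.mp this with h | h
        · exfalso; apply ha'; linarith
        · exact h
      linarith
    have h9 : (a : ℤ) ∣ -1 := ⟨_, h7.symm⟩
    have h10 : (a : ℤ) ∣ 1 := by simpa using h9
    have h11 := Int.le_of_dvd one_pos h10
    have : (3 : ℤ) ≤ a := by exact_mod_cast ha0
    linarith
  · -- v^2 = 1
    rw [h1, mul_one] at hE
    have he2 : (2 * (a : ℤ) - 1) * ((e : ℤ) ^ 2 - 1) + 4 * a ^ 2 = 4 * a ^ 2 * (d * e) := by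
      rw [hi] at hE
      linear_combination hE
    have h3 : 4 * (a : ℤ) ^ 2 ∣ (2 * (a : ℤ) - 1) * ((e : ℤ) ^ 2 - 1) :=
      ⟨d * e - 1, by linear_combination he2⟩
    have h4 : 4 * (a : ℤ) ^ 2 ∣ (e : ℤ) ^ 2 - 1 := hcop1.symm.dvd_of_dvd_mul_left h3
    -- e coprime to 4 a
    have hcopE : Nat.Coprime e (4 * a) := by
      have hc : IsCoprime ((e : ℤ)) (4 * (a : ℤ)) := by
        obtain ⟨m, hm⟩ := h4
        refine ⟨e, -(a * m), ?_⟩
        linear_combination hm
      exact_mod_cast Nat.isCoprime_iff_coprime.mp (by exact_mod_cast hc)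
    have hei : e ∣ i := hcopE.dvd_of_dvd_mul_left hdvd
    obtain ⟨g, hg⟩ := hei
    -- a^2 divides e - 1 or e + 1
    have ha2 : (3 : ℕ) ^ (2 * k) = a ^ 2 := by rw [ha]; ring
    have he3 : (e - 1) * (e + 1) + 1 = e ^ 2 := by
      obtain ⟨f, rfl⟩ : ∃ f, e = f + 1 := ⟨e - 1, by omega⟩
      simp only [Nat.add_sub_cancel]
      ring
    have h5 : a ^ 2 ∣ (e - 1) * (e + 1) := by
      have h6 : ((a ^ 2 : ℕ) : ℤ) ∣ (((e - 1) * (e + 1) : ℕ) : ℤ) := by
        have h7 : (((e - 1) * (e + 1) : ℕ) : ℤ) = (e : ℤ) ^ 2 - 1 := by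
          have : (((e - 1) * (e + 1) + 1 : ℕ) : ℤ) = ((e ^ 2 : ℕ) : ℤ) := by rw [he3]
          push_cast at this ⊢
          linarith
        rw [h7]
        push_cast
        exact dvd_trans ⟨4, by ring⟩ h4
      exact_mod_cast h6
    have hlow : a ^ 2 ≤ e + 1 := by
      by_cases h3e : 3 ∣ e + 1
      · have hnd : ¬ 3 ∣ e - 1 := by omega
        have hc : Nat.Coprime (3 ^ (2 * k)) (e - 1) :=
          Nat.Coprime.pow_left _ ((Nat.Prime.coprime_iff_not_dvd Nat.prime_three).mpr hnd)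
        rw [← ha2] at h5 ⊢
        exact Nat.le_of_dvd (by omega) (hc.dvd_of_dvd_mul_left h5)
      · have hc : Nat.Coprime (3 ^ (2 * k)) (e + 1) :=
          Nat.Coprime.pow_left _ ((Nat.Prime.coprime_iff_not_dvd Nat.prime_three).mpr h3e)
        rw [← ha2] at h5 ⊢
        have := Nat.le_of_dvd (by omega) (hc.dvd_of_dvd_mul_right h5)
        omega
    -- i mod 2, 3
    have hiN : i + 2 * a = 4 * a ^ 2 + 1 := by
      have : ((i + 2 * a : ℕ) : ℤ) = ((4 * a ^ 2 + 1 : ℕ) : ℤ) := by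
        push_cast; rw [hi]; ring
      exact_mod_cast this
    have hgodd : g % 2 = 1 := by
      by_contra hne
      have h2g : 2 ∣ g := by omega
      have h2i : 2 ∣ i := hg ▸ Dvd.dvd.mul_left h2g e
      have : 2 ∣ 4 * a ^ 2 + 1 := hiN ▸ Dvd.dvd.add h2i ⟨a, rfl⟩
      omega
    have hg3 : g % 3 ≠ 0 := by
      intro hne
      have h3g : 3 ∣ g := by omega
      have h3i : 3 ∣ i := hg ▸ Dvd.dvd.mul_left h3g e
      have h3a : 3 ∣ 2 * a := ⟨2 * b, by rw [hb]; ring⟩
      have h3b : 3 ∣ 4 * a ^ 2 := ⟨4 * 3 * b ^ 2, by rw [hb]; ring⟩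
      have : 3 ∣ 4 * a ^ 2 + 1 := hiN ▸ Dvd.dvd.add h3i h3a
      omega
    by_cases hg1 : g = 1
    · -- e = i
      rw [hg1, mul_one] at hg
      subst hg
      obtain ⟨m, hm⟩ := h4
      rw [hi] at hm
      have hmm : (a : ℤ) * m = (2 * a - 1) * (2 * a ^ 2 - a + 1) := by
        have h8 : 4 * (a : ℤ) * ((a : ℤ) * m - (2 * a - 1) * (2 * a ^ 2 - a + 1)) = 0 := by
          linear_combination -hm
        rcases mul_eq_zero.mp h8 with h | h
        · exfalso
          have : (3 : ℤ) ≤ a := by exact_mod_cast ha0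
          linarith
        · linarith
      have hbZ : (a : ℤ) = 3 * b := by rw [hb]; push_cast; ring
      rw [hbZ] at hmm
      have : (3 : ℤ) * ((b : ℤ) * m - 36 * b ^ 3 + 12 * b ^ 2 - 3 * b) = -1 := by
        linear_combination hmm
      omega
    · have hg5 : 5 ≤ g := by
        omega
      have : e * 5 ≤ e * g := Nat.mul_le_mul_left _ hg5
      rw [← hg] at this
      nlinarith

section GT

variable {G : Type u} [Group G] [Finite G]

theorem index_two_mul {H K : Subgroup G} (hHK : H ≤ K) (hc : Nat.card K = 2 * Nat.card H)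
    {x y : G} (hx : x ∈ K) (hy : y ∈ K) (hxH : x ∉ H) (hyH : y ∉ H) : x * y ∈ H := by
  have h1 := Subgroup.card_mul_index (H.subgroupOf K)
  have h2 : Nat.card (H.subgroupOf K) = Nat.card H :=
    Nat.card_congr (Subgroup.subgroupOfEquivOfLe hHK).toEquiv
  rw [h2, hc] at h1
  have hpos : 0 < Nat.card H := Nat.card_pos
  have h3 : (H.subgroupOf K).index = 2 := by
    apply Nat.eq_of_mul_eq_mul_left hpos
    rw [h1]; ring
  have h4 := Subgroup.mul_mem_iff_of_index_two h3 (a := ⟨x, hx⟩) (b := ⟨y, hy⟩)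
  have h5 : (⟨x, hx⟩ * ⟨y, hy⟩ : K) ∈ H.subgroupOf K := by
    rw [h4]
    simp only [Subgroup.mem_subgroupOf]
    exact ⟨fun h => absurd h hxH, fun h => absurd h hyH⟩
  simpa [Subgroup.mem_subgroupOf] using h5

structure Base1 (Q C N : Subgroup G) (a : ℕ) (t : G) : Prop where
  hQC : Q ≤ C
  hCN : C ≤ N
  hcardQ : Nat.card Q = a
  hcardC : Nat.card C = 2 * a
  hcardN : Nat.card N = 4 * a
  hodd : Odd a
  hQc : ∀ y ∈ Q, ∀ c ∈ C, y * c = c * y
  hQn : ∀ n ∈ N, ∀ y ∈ Q, n * y * n⁻¹ ∈ Q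
  hNm : ∀ g, (∀ y ∈ Q, g * y * g⁻¹ ∈ Q) → g ∈ N
  hCm : ∀ g, (∀ y ∈ Q, y * g = g * y) → g ∈ C
  htC : t ∈ C
  ht2 : t * t = 1
  ht1 : t ≠ 1

namespace Base1

variable {Q C N : Subgroup G} {a : ℕ} {t : G}

theorem pow_a (h : Base1 Q C N a t) {y : G} (hy : y ∈ Q) : y ^ a = 1 := by
  have := pow_card_eq_one' (x := (⟨y, hy⟩ : Q))
  rw [h.hcardQ] at this
  simpa using congrArg Subtype.val this

theorem sq_Q (h : Base1 Q C N a t) {y : G} (hy : y ∈ Q) (h2 : y * y = 1) : y = 1 := by
  obtain ⟨l, hl⟩ := h.hodd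
  have h3 := h.pow_a hy
  rw [hl, pow_succ, pow_mul, pow_two, h2, one_pow, one_mul] at h3
  exact h3

theorem t_pow_a (h : Base1 Q C N a t) : t ^ a = t := by
  obtain ⟨l, hl⟩ := h.hodd
  rw [hl, pow_succ, pow_mul, pow_two, h.ht2, one_pow, one_mul]

theorem t_not_Q (h : Base1 Q C N a t) : t ∉ Q := by
  intro hh
  exact h.ht1 (h.sq_Q hh h.ht2)

theorem mem_Q_or (h : Base1 Q C N a t) {c : G} (hc : c ∈ C) : c ∈ Q ∨ c * t ∈ Q := by
  by_cases hcQ : c ∈ Q
  · exact Or.inl hcQ
  · right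
    refine index_two_mul h.hQC ?_ hc h.htC hcQ h.t_not_Q
    rw [h.hcardC, h.hcardQ]

theorem C_comm (h : Base1 Q C N a t) {x y : G} (hx : x ∈ C) (hy : y ∈ C) : x * y = y * x := by
  rcases h.mem_Q_or hx with hxQ | hxQ
  · exact h.hQc x hxQ y hy
  rcases h.mem_Q_or hy with hyQ | hyQ
  · exact (h.hQc y hyQ x hx).symm
  have e1 : x = x * t * t := by rw [mul_assoc, h.ht2, mul_one]
  have e2 : y = y * t * t := by rw [mul_assoc, h.ht2, mul_one]
  set p := x * t with hp
  set q := y * t with hq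
  have hpt := h.hQc p hxQ t h.htC
  have hqt := h.hQc q hyQ t h.htC
  have hpq := h.hQc p hxQ q (h.hQC hyQ)
  rw [e1, e2]
  calc p * t * (q * t) = p * (t * q) * t := by group
    _ = p * (q * t) * t := by rw [hqt]
    _ = (p * q) * (t * t) := by group
    _ = (q * p) * (t * t) := by rw [hpq]
    _ = q * (p * t) * t := by group
    _ = q * (t * p) * t := by rw [hpt]
    _ = q * t * (p * t) := by group

theorem mem_Q_of_pow (h : Base1 Q C N a t) {z : G} (hz : z ∈ C) (hza : z ^ a = 1) : z ∈ Q := by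
  rcases h.mem_Q_or hz with hzQ | hzQ
  · exact hzQ
  exfalso
  have h1 := h.pow_a hzQ
  have h2 : Commute z t := h.C_comm hz h.htC
  rw [h2.mul_pow, hza, one_mul, h.t_pow_a] at h1
  exact h.ht1 h1

theorem invol_C (h : Base1 Q C N a t) {c : G} (hc : c ∈ C) (hcc : c * c = 1) : c = 1 ∨ c = t := by
  rcases h.mem_Q_or hc with hcQ | hcQ
  · exact Or.inl (h.sq_Q hcQ hcc)
  · right
    have h1 : c * t * (c * t) = 1 := by
      have h2 := h.C_comm hc h.htC
      calc c * t * (c * t) = c * (t * c) * t := by group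
        _ = c * (c * t) * t := by rw [h2]
        _ = (c * c) * (t * t) := by group
        _ = 1 := by rw [hcc, h.ht2, one_mul]
    have h3 := h.sq_Q hcQ h1
    calc c = c * t * t := by rw [mul_assoc, h.ht2, mul_one]
      _ = t := by rw [h3, one_mul]

theorem conj_C (h : Base1 Q C N a t) {n c : G} (hn : n ∈ N) (hc : c ∈ C) : n * c * n⁻¹ ∈ C := by
  apply h.hCm
  intro y hy
  have h1 : n⁻¹ * y * n ∈ Q := by
    have := h.hQn n⁻¹ (N.inv_mem hn) y hy
    simpa using this
  have h2 := h.hQc _ h1 c hc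
  calc y * (n * c * n⁻¹) = n * ((n⁻¹ * y * n) * c) * n⁻¹ := by group
    _ = n * (c * (n⁻¹ * y * n)) * n⁻¹ := by rw [h2]
    _ = _ := by group

theorem conj_t (h : Base1 Q C N a t) {n : G} (hn : n ∈ N) : n * t * n⁻¹ = t := by
  have h1 := h.conj_C hn h.htC
  have h2 : n * t * n⁻¹ * (n * t * n⁻¹) = 1 := by
    calc n * t * n⁻¹ * (n * t * n⁻¹) = n * (t * t) * n⁻¹ := by group
      _ = 1 := by rw [h.ht2]; group
  rcases h.invol_C h1 h2 with h3 | h3
  · exfalso
    apply h.ht1
    have : t = n⁻¹ * (n * t * n⁻¹) * n := by group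
    rw [this, h3]; group
  · exact h3

theorem mem_Q_of_N (h : Base1 Q C N a t) {z : G} (hz : z ∈ N) (hza : z ^ a = 1) : z ∈ Q := by
  -- z * z ∈ C
  have hzz : z * z ∈ C := by
    by_cases hzC : z ∈ C
    · exact C.mul_mem hzC hzC
    · refine index_two_mul h.hCN ?_ hz hz hzC hzC
      rw [h.hcardN, h.hcardC]; ring
  have h1 : (z * z) ^ a = 1 := by
    have : Commute z z := Commute.refl z
    rw [this.mul_pow, hza, one_mul]
  have h2 := h.mem_Q_of_pow hzz h1
  obtain ⟨l, hl⟩ := h.hodd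
  have h3 : z ^ a = (z * z) ^ l * z := by
    rw [hl, pow_succ, pow_mul, pow_two]
  rw [h3] at hza
  have h4 : z = ((z * z) ^ l)⁻¹ := eq_inv_of_mul_eq_one_right hza
  rw [h4]
  exact Q.inv_mem (Q.pow_mem h2 l)

/-- the centralizer of `t` is `N` -/
theorem hCt (h : Base1 Q C N a t) (hcen : ∀ x : G, (∀ g : G, g * x = x * g) → x = 1)
    (heven : ∀ H : Subgroup G, H ≠ ⊤ → 2 ∣ Nat.card H → Nat.card H ∣ 4 * a) (g : G) :
    g ∈ N ↔ g * t * g⁻¹ = t := by
  constructor
  · exact fun hg => h.conj_t hg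
  · intro hg
    set E : Subgroup G := Subgroup.centralizer ({t} : Set G) with hE
    have hgE : ∀ x : G, x ∈ E ↔ x * t = t * x := by
      intro x
      rw [hE, Subgroup.mem_centralizer_singleton_iff]
    have hNE : N ≤ E := by
      intro n hn
      rw [hgE]
      have := h.conj_t hn
      rwa [mul_inv_eq_iff_eq_mul] at this
    have hEtop : E ≠ ⊤ := by
      intro htop
      apply h.ht1
      apply hcen
      intro x
      have : x ∈ E := by rw [htop]; trivial
      exact (hgE x).1 this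
    have htE : t ∈ E := (hgE t).2 rfl
    have h2 : 2 ∣ Nat.card E := by
      have h3 : orderOf (⟨t, htE⟩ : E) = 2 := by
        apply orderOf_eq_prime
        · ext; simp [pow_two, h.ht2]
        · intro hh
          apply h.ht1
          exact congrArg Subtype.val hh
      rw [← h3]
      exact orderOf_dvd_natCard _
    have h3 := heven E hEtop h2
    have h4 : Nat.card N ∣ Nat.card E := Subgroup.card_dvd_of_le hNE
    rw [h.hcardN] at h4
    have h5 : Nat.card E = Nat.card N := by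
      rw [h.hcardN]
      exact Nat.dvd_antisymm h3 h4
    have h6 : N = E := Subgroup.eq_of_le_of_card_ge hNE (by omega)
    rw [h6, hgE]
    rwa [mul_inv_eq_iff_eq_mul] at hg

theorem hTI' (h : Base1 Q C N a t) (hTI : ∀ g : G, g ∉ Subgroup.normalizer (C : Set G) → ∀ x ∈ (C : Set G), g * x * g⁻¹ ∈ (C : Set G) → x = 1)
    {x : G} (hx : x ∈ C) (hx1 : x ≠ 1) (g : G) (hg : g * x * g⁻¹ ∈ C) : g ∈ N := by
  by_contra hgN
  have hnot : g ∉ Subgroup.normalizer (C : Set G) := by
    intro hgn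
    apply hgN
    apply h.hNm
    intro y hy
    rw [Subgroup.mem_normalizer_iff] at hgn
    have h1 : g * y * g⁻¹ ∈ C := (hgn y).1 (h.hQC hy)
    apply h.mem_Q_of_pow h1
    rw [conj_pow, h.pow_a hy]
    group
  exact hx1 (hTI g hnot x hx hg)

end Base1

theorem zpowers_isPGroup {p : ℕ} [hp : Fact p.Prime] {x : G} {e : ℕ} (hx : x ^ (p ^ e) = 1) :
    IsPGroup p (Subgroup.zpowers x) := by
  have h1 : orderOf x ∣ p ^ e := orderOf_dvd_of_pow_eq_one hx
  obtain ⟨j, -, hj⟩ := (Nat.dvd_prime_pow hp.out).1 h1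
  exact IsPGroup.of_card (n := j) (by rw [Nat.card_zpowers, hj])

theorem conj_of_sylow {p : ℕ} [hp : Fact p.Prime] (T : Sylow p G) {x : G} {e : ℕ}
    (hx : x ^ (p ^ e) = 1) : ∃ r : G, r * x * r⁻¹ ∈ (T : Subgroup G) := by
  obtain ⟨T', hT'⟩ := IsPGroup.exists_le_sylow (zpowers_isPGroup hx)
  obtain ⟨r, hr⟩ := MulAction.exists_smul_eq G T' T
  refine ⟨r, ?_⟩
  have hxT : x ∈ (T' : Subgroup G) := hT' (Subgroup.mem_zpowers x)
  have h1 : r * x * r⁻¹ ∈ ((r • T' : Sylow p G) : Subgroup G) := by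
    rw [Sylow.coe_subgroup_smul]
    exact ⟨x, hxT, rfl⟩
  rwa [hr] at h1

theorem four_elems (S : Subgroup G) (hc : Nat.card S = 4) {p q r s : G} (hp : p ∈ S) (hq : q ∈ S)
    (hr : r ∈ S) (hs : s ∈ S) (hpq : p ≠ q) (hpr : p ≠ r) (hps : p ≠ s) (hqr : q ≠ r) (hqs : q ≠ s)
    (hrs : r ≠ s) {x : G} (hx : x ∈ S) : x = p ∨ x = q ∨ x = r ∨ x = s := by
  classical
  haveI : Fintype G := Fintype.ofFinite G
  have hF : (Finset.univ.filter (· ∈ S)).card = 4 := by
    rw [← hc, Nat.card_eq_fintype_card, Fintype.card_subtype]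
  have hsub : ({p, q, r, s} : Finset G) ⊆ Finset.univ.filter (· ∈ S) := by
    intro y hy
    simp only [Finset.mem_insert, Finset.mem_singleton] at hy
    simp only [Finset.mem_filter, Finset.mem_univ, true_and]
    rcases hy with rfl | rfl | rfl | rfl <;> assumption
  have hcard4 : ({p, q, r, s} : Finset G).card = 4 := by
    rw [Finset.card_insert_of_notMem (by simp [hpq, hpr, hps]),
      Finset.card_insert_of_notMem (by simp [hqr, hqs]),
      Finset.card_insert_of_notMem (by simp [hrs]), Finset.card_singleton]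
  have heq := Finset.eq_of_subset_of_card_le hsub (by rw [hF, hcard4])
  have : x ∈ ({p, q, r, s} : Finset G) := by
    rw [heq]
    simp [hx]
  simpa using this

theorem klein_conj {S : Subgroup G} (hc : Nat.card S = 4) (hab : ∀ x ∈ S, ∀ y ∈ S, x * y = y * x)
    {t g : G} (htS : t ∈ S) (ht2 : t * t = 1) (ht1 : t ≠ 1) (hg : ∀ x ∈ S, g * x * g⁻¹ ∈ S) {m : ℕ}
    (hm : Odd m) (hgm : g ^ m ∈ S) {z₀ : G} (hz₀ : z₀ ∈ S) (hne : z₀ * g ≠ g * z₀) :
    ∀ z ∈ S, z ≠ 1 → ∃ b : G, b * t * b⁻¹ = z := by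
  obtain ⟨l, hl⟩ := hm
  have hgm' : g ^ m = (g * g) ^ l * g := by
    rw [hl, pow_succ, pow_mul, pow_two]
  have key : ∀ x ∈ S, (g * g) * x = x * (g * g) → g * x = x * g := by
    intro x hx hcomm
    have h1 : g ^ m * x = x * g ^ m := hab _ hgm _ hx
    have h2 : Commute ((g * g) ^ l) x := Commute.pow_left hcomm l
    rw [hgm'] at h1
    have h3 : (g * g) ^ l * g * x = (g * g) ^ l * (x * g) := by
      rw [h1, ← mul_assoc, ← h2.eq, mul_assoc]
    exact mul_left_cancel (by rw [← mul_assoc, h3])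
  have hb : g * t ≠ t * g := by
    intro hgt
    have hgt' : g * t * g⁻¹ = t := by rw [hgt]; group
    have hz1 : z₀ ≠ 1 := by
      rintro rfl
      simp at hne
    have hzt : z₀ ≠ t := by
      rintro rfl
      exact hne hgt.symm
    set y := g * z₀ * g⁻¹ with hy
    have hyS : y ∈ S := hg _ hz₀
    have hyz : y ≠ z₀ := by
      intro hh
      apply hne
      rw [hy, mul_inv_eq_iff_eq_mul] at hh
      exact hh.symm
    have hy1 : y ≠ 1 := by
      intro hh
      apply hz1
      rw [hy] at hh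
      have : z₀ = g⁻¹ * (g * z₀ * g⁻¹) * g := by group
      rw [this, hh]; group
    have hyt : y ≠ t := by
      intro hh
      apply hzt
      have h1 : g * z₀ * g⁻¹ = g * t * g⁻¹ := by rw [hgt']; exact hh
      exact mul_left_cancel (mul_right_cancel h1)
    have hzt1 : z₀ * t ≠ 1 := by
      intro hh
      apply hzt
      have := eq_inv_of_mul_eq_one_left hh
      rw [this]
      exact inv_eq_of_mul_eq_one_left ht2
    have hzt2 : t ≠ z₀ * t := by
      intro hh
      apply hz1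
      have : (1 : G) * t = z₀ * t := by rw [one_mul]; exact hh
      exact (mul_right_cancel this).symm
    have hzt3 : z₀ ≠ z₀ * t := by
      intro hh
      apply ht1
      have : z₀ * 1 = z₀ * t := by rw [mul_one]; exact hh
      exact (mul_left_cancel this).symm
    have hfour := four_elems S hc S.one_mem htS hz₀ (S.mul_mem hz₀ htS) ht1.symm hz1.symm hzt1.symm
      hzt.symm hzt2 hzt3 hyS
    have hyzt : y = z₀ * t := by
      rcases hfour with h | h | h | h
      · exact absurd h hy1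
      · exact absurd h hyt
      · exact absurd h hyz
      · exact h
    have h5 : (g * g) * z₀ = z₀ * (g * g) := by
      have h6 : g * y * g⁻¹ = z₀ := by
        rw [hyzt]
        calc g * (z₀ * t) * g⁻¹ = (g * z₀ * g⁻¹) * (g * t * g⁻¹) := by group
          _ = (z₀ * t) * t := by rw [← hy, hyzt, hgt']
          _ = z₀ := by rw [mul_assoc, ht2, mul_one]
      rw [hy] at h6
      have h7 : g * (g * z₀ * g⁻¹) * g⁻¹ = (g * g) * z₀ * (g * g)⁻¹ := by group
      rw [h7, mul_inv_eq_iff_eq_mul] at h6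
      exact h6
    exact hne (key z₀ hz₀ h5).symm
  have hb' : g * t * g⁻¹ ≠ t := by
    intro hh
    apply hb
    rwa [mul_inv_eq_iff_eq_mul] at hh
  have hc' : g * (g * t * g⁻¹) * g⁻¹ ≠ t := by
    intro hh
    apply hb
    apply key t htS
    have h7 : g * (g * t * g⁻¹) * g⁻¹ = (g * g) * t * (g * g)⁻¹ := by group
    rwa [h7, mul_inv_eq_iff_eq_mul] at hh
  have hd : g * (g * t * g⁻¹) * g⁻¹ ≠ g * t * g⁻¹ := by
    intro hh
    apply hb'
    have h1 : g * (g * t * g⁻¹) = g * t := mul_right_cancel hh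
    exact mul_left_cancel h1
  have hne1 : ∀ b : G, b * t * b⁻¹ ≠ 1 := by
    intro b hh
    apply ht1
    have : t = b⁻¹ * (b * t * b⁻¹) * b := by group
    rw [this, hh]; group
  have h1S := hg t htS
  have h2S := hg _ h1S
  intro z hz hz1
  have hne2 : g * (g * t * g⁻¹) * g⁻¹ ≠ 1 := by
    have : g * (g * t * g⁻¹) * g⁻¹ = (g * g) * t * (g * g)⁻¹ := by group
    rw [this]; exact hne1 _
  rcases four_elems S hc S.one_mem htS h1S h2S ht1.symm (hne1 g).symm hne2.symm hb'.symm hc'.symm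
    hd.symm hz with h | h | h | h
  · exact absurd h hz1
  · exact ⟨1, by rw [h]; group⟩
  · exact ⟨g, h.symm⟩
  · refine ⟨g * g, ?_⟩
    rw [h]; group

theorem burnside_step (hsimple : IsSimpleGroup G) (T : Sylow 2 G) (hc : Nat.card T = 4)
    (h3 : 3 ∣ Nat.card G) :
    ∃ g ∈ Subgroup.normalizer ((T : Subgroup G) : Set G), ∃ z ∈ (T : Subgroup G), z * g ≠ g * z := by
  by_contra hno
  push Not at hno
  have hN : Subgroup.normalizer ((T : Subgroup G) : Set G) ≤ Subgroup.centralizer ((T : Subgroup G) : Set G) := by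
    intro x hx
    rw [Subgroup.mem_centralizer_iff]
    intro y hy
    exact hno x hx y hy
  have hcomp := MonoidHom.ker_transferSylow_isComplement' T hN
  have hcard := hcomp.card_mul
  rcases hsimple.eq_bot_or_eq_top_of_normal (MonoidHom.transferSylow T hN).ker inferInstance with hk | hk
  · rw [hk, Subgroup.card_bot, one_mul, hc] at hcard
    rw [← hcard] at h3
    omega
  · rw [hk, Subgroup.card_top, hc] at hcard
    have : 0 < Nat.card G := Nat.card_pos
    omega

theorem mem_normalizer_of_conj_le (Q : Subgroup G) (g : G) (h : ∀ y ∈ Q, g * y * g⁻¹ ∈ Q) :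
    g ∈ Subgroup.normalizer (Q : Set G) := by
  rw [Subgroup.mem_normalizer_iff]
  intro y
  refine ⟨fun hy => h y hy, fun hy => ?_⟩
  have hinj : Function.Injective (MulAut.conj g).toMonoidHom := (MulAut.conj g).injective
  have hmap : Q.map (MulAut.conj g).toMonoidHom = Q := by
    apply Subgroup.eq_of_le_of_card_ge
    · rintro _ ⟨y', hy', rfl⟩
      exact h y' hy'
    · rw [Subgroup.card_map_of_injective hinj]
  have hy2 : g * y * g⁻¹ ∈ Q.map (MulAut.conj g).toMonoidHom := by rw [hmap]; exact hy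
  obtain ⟨y', hy', e⟩ := hy2
  have e2 : y' = y := by
    apply hinj
    exact e
  rwa [← e2]

theorem two_dvd_of_invol (H : Subgroup G) {t : G} (htH : t ∈ H) (ht2 : t * t = 1) (ht1 : t ≠ 1) :
    2 ∣ Nat.card H := by
  have h3 : orderOf (⟨t, htH⟩ : H) = 2 := by
    apply orderOf_eq_prime
    · ext; simp [pow_two, ht2]
    · intro hh
      apply ht1
      exact congrArg Subtype.val hh
  rw [← h3]
  exact orderOf_dvd_natCard _

theorem two_sub_dvd {a k : ℕ} (hak : a = 3 ^ k) (h3 : 3 ∣ Nat.card G)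
    (heven : ∀ H : Subgroup G, H ≠ ⊤ → 2 ∣ Nat.card H → Nat.card H ∣ 4 * a)
    (H : Subgroup G) (hH : IsPGroup 2 H) : Nat.card H ∣ 4 := by
  obtain ⟨m, hm⟩ := IsPGroup.iff_card.1 hH
  rcases m with _ | m
  · rw [hm]; simp
  have h2 : 2 ∣ Nat.card H := by rw [hm]; exact dvd_pow_self 2 (by omega)
  have hne : H ≠ ⊤ := by
    rintro rfl
    rw [Subgroup.card_top] at hm
    rw [hm] at h3
    have := Nat.Prime.dvd_of_dvd_pow Nat.prime_three h3
    omega
  have h5 := heven H hne h2
  rw [hak] at h5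
  have hco : Nat.Coprime (Nat.card H) (3 ^ k) := by
    rw [hm]
    exact Nat.Coprime.pow _ _ (by norm_num)
  exact hco.dvd_of_dvd_mul_right h5


end GT

section KD

structure KeyData {G : Type u} [Group G] (C N : Subgroup G) (t : G) : Prop where
  hCN : C ≤ N
  hCab : ∀ x ∈ C, ∀ y ∈ C, x * y = y * x
  ht1 : t ≠ 1
  ht2 : t * t = 1
  htC : t ∈ C
  hinv : ∀ c ∈ C, c * c = 1 → c = 1 ∨ c = t
  hCt : ∀ g, g ∈ N ↔ g * t * g⁻¹ = t
  hTI : ∀ x ∈ C, x ≠ 1 → ∀ g, g * x * g⁻¹ ∈ C → g ∈ N
  hNC : ∀ n ∈ N, n ∉ C → n * n = 1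
  hconj : ∀ u, u * u = 1 → u ≠ 1 → ∃ g, g * t * g⁻¹ = u
  hwC : ∀ u, u * u = 1 → u ≠ 1 → u ≠ t → ∃ r, r * (t * u) * r⁻¹ ∈ C
  hcard : Nat.card N = 2 * Nat.card C

variable {G : Type u} [Group G] {C N : Subgroup G} {t : G}

namespace KeyData

theorem inv_act (h : KeyData C N t) {n c : G} (hn : n ∈ N) (hnC : n ∉ C) (hc : c ∈ C) :
    n * c * n⁻¹ = c⁻¹ := by
  have h1 : n * c ∈ N := N.mul_mem hn (h.hCN hc)
  have h2 : n * c ∉ C := fun hh => hnC (by simpa using C.mul_mem hh (C.inv_mem hc))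
  have h3 := h.hNC _ h1 h2
  have h4 := h.hNC _ hn hnC
  have h5 : n⁻¹ = n := inv_eq_of_mul_eq_one_left h4
  rw [h5]
  exact eq_inv_of_mul_eq_one_left (by simpa [mul_assoc] using h3)

theorem conj_mem (h : KeyData C N t) {n c : G} (hn : n ∈ N) (hc : c ∈ C) : n * c * n⁻¹ ∈ C := by
  by_cases hnC : n ∈ C
  · exact C.mul_mem (C.mul_mem hnC hc) (C.inv_mem hnC)
  · rw [h.inv_act hn hnC hc]; exact C.inv_mem hc

variable [Fintype G]

open Finset

open scoped Classical in
theorem card_filter_mem (H : Subgroup G) : (univ.filter (· ∈ H)).card = Nat.card H := by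
  rw [Nat.card_eq_fintype_card, Fintype.card_subtype]

open scoped Classical in
theorem card_fiber (h : KeyData C N t) (r₀ : G) :
    (univ.filter fun r : G => r * t * r⁻¹ = r₀ * t * r₀⁻¹).card = Nat.card N := by
  rw [← card_filter_mem N]
  symm
  refine Finset.card_bij (fun n _ => r₀ * n) ?_ ?_ ?_
  · intro n hn
    simp only [mem_filter, mem_univ, true_and] at hn ⊢
    have := (h.hCt n).1 hn
    calc r₀ * n * t * (r₀ * n)⁻¹ = r₀ * (n * t * n⁻¹) * r₀⁻¹ := by group
      _ = _ := by rw [this]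
  · intro x _ y _ hxy
    exact mul_left_cancel hxy
  · intro r hr
    simp only [mem_filter, mem_univ, true_and] at hr
    refine ⟨r₀⁻¹ * r, ?_, by group⟩
    simp only [mem_filter, mem_univ, true_and]
    rw [h.hCt]
    calc r₀⁻¹ * r * t * (r₀⁻¹ * r)⁻¹ = r₀⁻¹ * (r * t * r⁻¹) * r₀ := by group
      _ = _ := by rw [hr]; group

open scoped Classical in
/-- Lemma A -/
theorem card_R (h : KeyData C N t) {w r₀ : G} (hw : w ≠ 1) (hr₀ : r₀ * w * r₀⁻¹ ∈ C) :
    (univ.filter fun r : G => r * w * r⁻¹ ∈ C).card = Nat.card N := by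
  rw [← card_filter_mem N]
  symm
  refine Finset.card_bij (fun n _ => n * r₀) ?_ ?_ ?_
  · intro n hn
    simp only [mem_filter, mem_univ, true_and] at hn ⊢
    have := h.conj_mem hn hr₀
    convert this using 1
    group
  · intro x _ y _ hxy
    exact mul_right_cancel hxy
  · intro r hr
    simp only [mem_filter, mem_univ, true_and] at hr
    refine ⟨r * r₀⁻¹, ?_, by group⟩
    simp only [mem_filter, mem_univ, true_and]
    have hne : r₀ * w * r₀⁻¹ ≠ 1 := by
      intro h1
      apply hw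
      have : w = r₀⁻¹ * (r₀ * w * r₀⁻¹) * r₀ := by group
      rw [this, h1]; group
    refine h.hTI _ hr₀ hne _ ?_
    convert hr using 1
    group

theorem invol_iff (h : KeyData C N t) {r c : G} (hc : c ∈ C) (hc1 : c ≠ 1) 
    (hn : (r * t * r⁻¹ * c) * (r * t * r⁻¹ * c) = 1) (hn1 : r * t * r⁻¹ * c ≠ 1) : 
    r * t * r⁻¹ ∈ N ∧ r * t * r⁻¹ ∉ C := by
  set n := r * t * r⁻¹ with hndef
  have hnn : n * n = 1 := by
    rw [hndef]
    calc r * t * r⁻¹ * (r * t * r⁻¹) = r * (t * t) * r⁻¹ := by group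
      _ = 1 := by rw [h.ht2]; group
  have hninv : n⁻¹ = n := inv_eq_of_mul_eq_one_left hnn
  have h1 : n * c * n⁻¹ = c⁻¹ := by
    rw [hninv]
    exact eq_inv_of_mul_eq_one_left (by simpa [mul_assoc] using hn)
  have hnN : n ∈ N := h.hTI c hc hc1 n (by rw [h1]; exact C.inv_mem hc)
  refine ⟨hnN, ?_⟩
  intro hnC
  -- n ∈ C, n involution so n = t (n ≠ 1)
  have hn1' : n ≠ 1 := by
    rw [hndef]
    intro h2
    apply h.ht1
    have : t = r⁻¹ * (r * t * r⁻¹) * r := by group
    rw [this, h2]; group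
  have hnt : n = t := (h.hinv n hnC hnn).resolve_left hn1'
  rw [hnt] at hn hn1
  have hct : t * c = c * t := h.hCab _ h.htC _ hc
  have hcc : c * c = 1 := by
    have : t * c * (t * c) = (t * t) * (c * c) := by
      calc t * c * (t * c) = t * (c * t) * c := by group
        _ = t * (t * c) * c := by rw [hct]
        _ = _ := by group
    rw [this, h.ht2, one_mul] at hn
    exact hn
  have hct' : c = t := (h.hinv c hc hcc).resolve_left hc1
  apply hn1
  rw [hct', h.ht2]

open scoped Classical in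
/-- Lemma B -/
theorem card_B (h : KeyData C N t) (r : G) {c : G} (hc : c ∈ C) (hc1 : c ≠ 1) :
    (univ.filter fun b : G => b ∉ N ∧ r * (t * (b * t * b⁻¹)) * r⁻¹ = c).card =
      if r * t * r⁻¹ ∈ N ∧ r * t * r⁻¹ ∉ C then Nat.card N else 0 := by
  set n := r * t * r⁻¹ with hndef
  have hnn : n * n = 1 := by
    rw [hndef]
    calc r * t * r⁻¹ * (r * t * r⁻¹) = r * (t * t) * r⁻¹ := by group
      _ = 1 := by rw [h.ht2]; group
  have hninv : n⁻¹ = n := inv_eq_of_mul_eq_one_left hnn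
  -- key rewriting of the condition
  have hkey : ∀ b : G, r * (t * (b * t * b⁻¹)) * r⁻¹ = c ↔ (r * b) * t * (r * b)⁻¹ = n * c := by
    intro b
    have e1 : r * (t * (b * t * b⁻¹)) * r⁻¹ = n * ((r * b) * t * (r * b)⁻¹) := by
      rw [hndef]; group
    rw [e1]
    constructor
    · intro hh
      rw [← hh, ← mul_assoc, hnn, one_mul]
    · intro hh
      rw [hh, ← mul_assoc, hnn, one_mul]
  split_ifs with hn
  · -- n ∈ N ∖ C: n c is an involution
    have hnc : n * c ∈ N := N.mul_mem hn.1 (h.hCN hc)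
    have hncC : n * c ∉ C := fun hh => hn.2 (by simpa using C.mul_mem hh (C.inv_mem hc))
    have h2 := h.hNC _ hnc hncC
    have h3 : n * c ≠ 1 := fun hh => hncC (by rw [hh]; exact C.one_mem)
    obtain ⟨r₀, hr₀⟩ := h.hconj _ h2 h3
    rw [← h.card_fiber r₀]
    refine Finset.card_bij (fun b _ => r * b) ?_ ?_ ?_
    · intro b hb
      simp only [mem_filter, mem_univ, true_and] at hb ⊢
      rw [hr₀, ← hkey]
      exact hb.2
    · intro x _ y _ hxy
      exact mul_left_cancel hxy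
    · intro b hb
      simp only [mem_filter, mem_univ, true_and] at hb
      refine ⟨r⁻¹ * b, ?_, by group⟩
      simp only [mem_filter, mem_univ, true_and]
      have hb2 : r * (t * ((r⁻¹ * b) * t * (r⁻¹ * b)⁻¹)) * r⁻¹ = c := by
        rw [hkey]
        rw [hr₀] at *
        simpa using hb
      refine ⟨?_, hb2⟩
      intro hbN
      have h5 := (h.hCt _).1 hbN
      rw [h5] at hb2
      apply hc1
      rw [← hb2, h.ht2]
      simp
  · rw [Finset.card_eq_zero, Finset.filter_eq_empty_iff]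
    intro b _ hb
    apply hn
    obtain ⟨-, hb2⟩ := hb
    have hb3 := (hkey b).1 hb2
    have hinvol : (n * c) * (n * c) = 1 := by
      rw [← hb3]
      calc r * b * t * (r * b)⁻¹ * (r * b * t * (r * b)⁻¹) = r * b * (t * t) * (r * b)⁻¹ := by group
        _ = 1 := by rw [h.ht2]; group
    have hne : n * c ≠ 1 := by
      rw [← hb3]
      intro h2
      apply h.ht1
      have : t = (r * b)⁻¹ * (r * b * t * (r * b)⁻¹) * (r * b) := by group
      rw [this, h2]; group
    exact h.invol_iff hc hc1 hinvol hne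

open scoped Classical in
/-- Lemma C -/
theorem card_C (h : KeyData C N t) :
    (univ.filter fun r : G => r * t * r⁻¹ ∈ N ∧ r * t * r⁻¹ ∉ C).card =
      Nat.card C * Nat.card N := by
  have h1 : (univ.filter fun x : G => x ∈ N ∧ x ∉ C).card = Nat.card C := by
    have e := Finset.card_filter_add_card_filter_not (s := univ.filter (· ∈ N)) (fun x : G => x ∈ C)
    rw [Finset.filter_filter, Finset.filter_filter] at e
    have e2 : (univ.filter fun x : G => x ∈ N ∧ x ∈ C) = univ.filter (· ∈ C) := by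
      ext x
      simp only [mem_filter, mem_univ, true_and]
      exact ⟨fun hh => hh.2, fun hh => ⟨h.hCN hh, hh⟩⟩
    rw [e2, card_filter_mem, card_filter_mem, h.hcard] at e
    omega
  rw [← h1]
  rw [Finset.card_eq_sum_card_fiberwise (f := fun r : G => r * t * r⁻¹)
    (t := univ.filter fun x : G => x ∈ N ∧ x ∉ C)]
  · rw [Finset.sum_const_nat (m := Nat.card N)]
    intro x hx
    simp only [mem_filter, mem_univ, true_and] at hx
    have hxx := h.hNC x hx.1 hx.2
    have hx1 : x ≠ 1 := fun hh => hx.2 (by rw [hh]; exact C.one_mem)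
    obtain ⟨r₀, hr₀⟩ := h.hconj x hxx hx1
    rw [← h.card_fiber r₀, hr₀]
    congr 1
    ext r
    simp only [mem_filter, mem_univ, true_and]
    constructor
    · exact fun hh => hh.2
    · intro hh
      exact ⟨by rw [hh]; exact hx, hh⟩
  · intro r hr
    simpa using hr

open scoped Classical in
theorem key_sum (h : KeyData C N t) (F : G → ℂ) (hF : ∀ g x, F (g * x * g⁻¹) = F x) :
    ∑ b : G, F (t * (b * t * b⁻¹)) =
      (Nat.card N : ℂ) * (F 1 + (Nat.card C : ℂ) * ∑ c ∈ univ.filter (fun c : G => c ∈ C ∧ c ≠ 1), F c) := by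
  set Cs := univ.filter (fun c : G => c ∈ C ∧ c ≠ 1) with hCs
  have hNne : (Nat.card N : ℂ) ≠ 0 := by
    exact_mod_cast Nat.card_pos.ne'
  -- split the sum
  rw [← Finset.sum_filter_add_sum_filter_not univ (· ∈ N)]
  have hin : ∑ b ∈ univ.filter (· ∈ N), F (t * (b * t * b⁻¹)) = (Nat.card N : ℂ) * F 1 := by
    rw [Finset.sum_congr rfl (g := fun _ => F 1)]
    · rw [Finset.sum_const, card_filter_mem, nsmul_eq_mul]
    · intro b hb
      simp only [mem_filter, mem_univ, true_and] at hb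
      rw [(h.hCt b).1 hb, h.ht2]
  rw [hin]
  have hout : ∑ b ∈ univ.filter (fun b : G => ¬ b ∈ N), F (t * (b * t * b⁻¹)) =
      (Nat.card N : ℂ) * ((Nat.card C : ℂ) * ∑ c ∈ Cs, F c) := by
    apply mul_left_cancel₀ hNne
    -- double counting
    have step1 : ∀ b ∈ univ.filter (fun b : G => ¬ b ∈ N),
        (Nat.card N : ℂ) * F (t * (b * t * b⁻¹)) =
        ∑ r : G, ∑ c ∈ Cs, if r * (t * (b * t * b⁻¹)) * r⁻¹ = c then F c else 0 := by
      intro b hb
      simp only [mem_filter, mem_univ, true_and] at hb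
      set w := t * (b * t * b⁻¹) with hwdef
      have hbt : b * t * b⁻¹ ≠ t := fun hh => hb ((h.hCt b).2 hh)
      have hw1 : w ≠ 1 := by
        intro hh
        apply hbt
        rw [hwdef] at hh
        have := mul_left_cancel (a := t) (b := b * t * b⁻¹) (c := t) (by rw [hh, h.ht2])
        exact this
      have hu2 : (b * t * b⁻¹) * (b * t * b⁻¹) = 1 := by
        calc b * t * b⁻¹ * (b * t * b⁻¹) = b * (t * t) * b⁻¹ := by group
          _ = 1 := by rw [h.ht2]; group
      have hu1 : b * t * b⁻¹ ≠ 1 := by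
        intro hh
        apply h.ht1
        have : t = b⁻¹ * (b * t * b⁻¹) * b := by group
        rw [this, hh]; group
      obtain ⟨r₀, hr₀⟩ := h.hwC _ hu2 hu1 hbt
      have hinner : ∀ r : G, (∑ c ∈ Cs, if r * w * r⁻¹ = c then F c else 0) =
          if r * w * r⁻¹ ∈ C then F w else 0 := by
        intro r
        rw [Finset.sum_ite_eq Cs]
        have hne : r * w * r⁻¹ ≠ 1 := by
          intro h1
          apply hw1
          have : w = r⁻¹ * (r * w * r⁻¹) * r := by group
          rw [this, h1]; group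
        by_cases hm : r * w * r⁻¹ ∈ C
        · rw [if_pos (by simp [hCs, hm, hne]), if_pos hm, hF]
        · rw [if_neg (by simp [hCs, hm]), if_neg hm]
      simp_rw [hinner]
      rw [Finset.sum_ite, Finset.sum_const_zero, add_zero, Finset.sum_const, h.card_R hw1 hr₀,
        nsmul_eq_mul]
    rw [Finset.mul_sum, Finset.sum_congr rfl step1, Finset.sum_comm]
    have step2 : ∀ r : G, (∑ b ∈ univ.filter (fun b : G => ¬ b ∈ N), ∑ c ∈ Cs,
        if r * (t * (b * t * b⁻¹)) * r⁻¹ = c then F c else 0) =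
        (if r * t * r⁻¹ ∈ N ∧ r * t * r⁻¹ ∉ C then (Nat.card N : ℂ) else 0) * ∑ c ∈ Cs, F c := by
      intro r
      rw [Finset.sum_comm, Finset.mul_sum]
      refine Finset.sum_congr rfl fun c hc => ?_
      simp only [hCs, mem_filter, mem_univ, true_and] at hc
      rw [← Finset.sum_filter, Finset.sum_const, Finset.filter_filter, nsmul_eq_mul]
      rw [h.card_B r hc.1 hc.2]
      push_cast
      rfl
    rw [Finset.sum_congr rfl (fun r _ => step2 r), ← Finset.sum_mul, Finset.sum_ite,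
      Finset.sum_const_zero, add_zero, Finset.sum_const, h.card_C, nsmul_eq_mul]
    push_cast
    ring
  rw [hout]
  ring


open scoped Classical in
theorem sum_Cs (h : KeyData C N t) (F : G → ℂ) :
    ∑ c ∈ univ.filter (fun c : G => c ∈ C ∧ c ≠ 1), F c = ∑ c ∈ univ.filter (· ∈ C), F c - F 1 := by
  have h1 : (1 : G) ∈ univ.filter (· ∈ C) := by simp [C.one_mem]
  rw [← Finset.add_sum_erase _ _ h1]
  have : (univ.filter (· ∈ C)).erase 1 = univ.filter (fun c : G => c ∈ C ∧ c ≠ 1) := by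
    ext x
    simp only [mem_erase, mem_filter, mem_univ, true_and]
    tauto
  rw [this]; ring

/-- order of the group -/
theorem card_G (h : KeyData C N t) {a i : ℕ} (hCa : Nat.card C = 2 * a)
    (hi : (i : ℤ) = 4 * a ^ 2 - 2 * a + 1) : Nat.card G = 4 * a * i := by
  classical
  have hk := h.key_sum (fun _ => 1) (fun _ _ => rfl)
  rw [h.sum_Cs] at hk
  simp only [sum_const, card_univ, nsmul_eq_mul, mul_one, card_filter_mem] at hk
  rw [h.hcard, hCa] at hk
  have hiC : (i : ℂ) = 4 * a ^ 2 - 2 * a + 1 := by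
    have : ((i : ℤ) : ℂ) = ((4 * a ^ 2 - 2 * a + 1 : ℤ) : ℂ) := by rw [hi]
    push_cast at this
    exact this
  have h2 : ((Nat.card G : ℕ) : ℂ) = ((4 * a * i : ℕ) : ℂ) := by
    rw [Nat.card_eq_fintype_card, hk]
    push_cast
    rw [hiC]
    ring
  exact_mod_cast h2

theorem eqE (h : KeyData C N t) {a i : ℕ} (ha0 : a ≠ 0) (hCa : Nat.card C = 2 * a)
    (hi : (i : ℤ) = 4 * a ^ 2 - 2 * a + 1) {η : G → ℂ} (hη : IsIrrCharacter G η) :
    ∃ (d : ℕ) (v : ℤ), η t = v ∧ (i : ℤ) * v ^ 2 = (1 - 2 * a) * (charDegree η : ℤ) ^ 2 + 4 * a ^ 2 * d * (charDegree η : ℤ) := by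
  classical
  obtain ⟨v, hv, -⟩ := ZStarRed.invol_val (IsIrrCharacter.isCharacter hη) h.ht2
  have hres := isCharacter_restrict C (IsIrrCharacter.isCharacter hη)
  obtain ⟨d, hd⟩ := classInner_char_irr hres (isIrrCharacter_one (G := C))
  refine ⟨d, v, hv, ?_⟩
  have hsumC : ∑ c ∈ univ.filter (· ∈ C), η c = (2 * a : ℂ) * d := by
    unfold classInner at hd
    simp only [map_one, mul_one] at hd
    have hcC : (Nat.card C : ℂ) = 2 * a := by rw [hCa]; push_cast; ring
    rw [hcC] at hd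
    have ha0' : (2 * a : ℂ) ≠ 0 := by
      have : (a : ℂ) ≠ 0 := by exact_mod_cast ha0
      simpa using this
    rw [inv_mul_eq_iff_eq_mul₀ ha0'] at hd
    rw [← hd]
    exact Finset.sum_subtype _ (by simp) _
  have hdeg := one_eq_charDegree (IsIrrCharacter.isCharacter hη)
  have hk := h.key_sum η (fun g x => char_apply_conj (IsIrrCharacter.isCharacter hη) x g)
  rw [h.sum_Cs, hsumC, hdeg, h.hcard, hCa] at hk
  have havg := irr_avg hη t t
  rw [hdeg, hk, h.card_G hCa hi, hv] at havg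
  have hiC : (i : ℂ) = 4 * a ^ 2 - 2 * a + 1 := by
    have : ((i : ℤ) : ℂ) = ((4 * a ^ 2 - 2 * a + 1 : ℤ) : ℂ) := by rw [hi]
    push_cast at this
    exact this
  have ha' : (a : ℂ) ≠ 0 := by exact_mod_cast ha0
  have h5 : ((((i : ℤ) * v ^ 2 : ℤ)) : ℂ) = (((1 - 2 * a) * (charDegree η : ℤ) ^ 2 + 4 * a ^ 2 * d * (charDegree η : ℤ) : ℤ) : ℂ) := by
    push_cast
    push_cast at havg
    have h6 : (4 * (a : ℂ)) ≠ 0 := by simpa using ha'
    apply mul_left_cancel₀ h6
    linear_combination -havg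
  exact_mod_cast h5

theorem classes_lower (h : KeyData C N t) {a : ℕ} (hCa : Nat.card C = 2 * a) (ha1 : 1 ≤ a) :
    a + 1 ≤ Nat.card (ConjClasses G) := by
  classical
  haveI : Fintype (ConjClasses G) := Fintype.ofFinite _
  set A := ((univ.filter (· ∈ C)).erase 1).erase t with hA
  have hAcard : A.card + 2 = 2 * a := by
    have h0 := card_filter_mem (G := G) C
    rw [hCa] at h0
    have hm1 : (1 : G) ∈ univ.filter (· ∈ C) := by simp [C.one_mem]
    have hm2 : t ∈ (univ.filter (· ∈ C)).erase 1 := by simp [h.htC, h.ht1]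
    rw [hA, card_erase_of_mem hm2, card_erase_of_mem hm1, h0]
    omega
  have hmemA : ∀ c, c ∈ A ↔ c ∈ C ∧ c ≠ 1 ∧ c ≠ t := by
    intro c
    simp only [hA, mem_erase, mem_filter, mem_univ, true_and]
    tauto
  let f : G → ConjClasses G := ConjClasses.mk
  have hconjN : ∀ {x y : G}, x ∈ C → x ≠ 1 → y ∈ C → ConjClasses.mk x = ConjClasses.mk y →
      y = x ∨ y = x⁻¹ := by
    intro x y hx hx1 hy hxy
    rw [ConjClasses.mk_eq_mk_iff_isConj, isConj_iff] at hxy
    obtain ⟨g, hg⟩ := hxy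
    have hgN : g ∈ N := h.hTI x hx hx1 g (by rw [hg]; exact hy)
    by_cases hgC : g ∈ C
    · left
      rw [← hg, h.hCab g hgC x hx]
      group
    · right
      rw [← hg]
      exact h.inv_act hgN hgC hx
  have hfib : ∀ y ∈ A.image f, (A.filter (fun x => f x = y)).card ≤ 2 := by
    intro y hy
    obtain ⟨c₀, hc₀, rfl⟩ := mem_image.1 hy
    have hsub : A.filter (fun x => f x = f c₀) ⊆ {c₀, c₀⁻¹} := by
      intro x hx
      simp only [mem_filter] at hx
      have hc₀' := (hmemA c₀).1 hc₀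
      have := hconjN hc₀'.1 hc₀'.2.1 ((hmemA x).1 hx.1).1 hx.2.symm
      simpa using this
    exact (card_le_card hsub).trans card_le_two
  have h1 := Finset.card_le_mul_card_image A 2 hfib
  have h1t : f 1 ≠ f t := by
    intro hh
    have := hconjN (x := t) h.htC h.ht1 C.one_mem hh.symm
    rcases this with h2 | h2
    · exact h.ht1 h2.symm
    · apply h.ht1
      simpa using h2.symm
  have hn1 : f 1 ∉ A.image f := by
    intro hh
    obtain ⟨c, hc, hc2⟩ := mem_image.1 hh
    have hc' := (hmemA c).1 hc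
    have := hconjN hc'.1 hc'.2.1 C.one_mem hc2
    rcases this with h2 | h2
    · exact hc'.2.1 h2.symm
    · apply hc'.2.1
      simpa using h2.symm
  have hnt : f t ∉ A.image f := by
    intro hh
    obtain ⟨c, hc, hc2⟩ := mem_image.1 hh
    have hc' := (hmemA c).1 hc
    rw [ConjClasses.mk_eq_mk_iff_isConj, isConj_iff] at hc2
    obtain ⟨g, hg⟩ := hc2
    -- g c g⁻¹ = t so g⁻¹ t g = c; g ∈ N so c = t
    have hgN : g ∈ N := h.hTI c hc'.1 hc'.2.1 g (by rw [hg]; exact h.htC)
    have h3 := (h.hCt g).1 hgN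
    apply hc'.2.2
    have h4 : g * c * g⁻¹ = g * t * g⁻¹ := by rw [hg, h3]
    exact mul_left_cancel (mul_right_cancel h4)
  have hcardle : (insert (f 1) (insert (f t) (A.image f))).card ≤ Fintype.card (ConjClasses G) :=
    card_le_univ _
  rw [card_insert_of_notMem (by simp [h1t, hn1]), card_insert_of_notMem hnt] at hcardle
  rw [Nat.card_eq_fintype_card]
  omega

theorem final (h : KeyData C N t) (hsimple : IsSimpleGroup G) (hnc : ∃ x y : G, x * y ≠ y * x)
    {a k : ℕ} (ha : a = 3 ^ k) (hk : 0 < k) (hCa : Nat.card C = 2 * a) : False := by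
  classical
  have ha0 : a ≠ 0 := by rw [ha]; positivity
  have ha1 : 1 ≤ a := by omega
  obtain ⟨i, hi⟩ : ∃ i : ℕ, (i : ℤ) = 4 * a ^ 2 - 2 * a + 1 :=
    ⟨(4 * (a : ℤ) ^ 2 - 2 * a + 1).toNat, Int.toNat_of_nonneg (by nlinarith)⟩
  have hcardG := h.card_G hCa hi
  let triv : IrrCharacter G := ⟨fun _ => 1, isIrrCharacter_one⟩
  have hmain : ∀ χ : IrrCharacter G, ∃ v : ℤ, (χ : G → ℂ) t = v ∧ (χ ≠ triv → 4 ≤ v ^ 2) := by
    intro χ
    obtain ⟨d, v, hv, hE⟩ := h.eqE ha0 hCa hi χ.2
    refine ⟨v, hv, fun hne => ?_⟩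
    refine nt_aux a k i (charDegree (χ : G → ℂ)) d ha hk hi ?_ ?_ v hE
    · have hpos := charDegree_pos χ.2
      by_contra hle
      have he1 : charDegree (χ : G → ℂ) = 1 := by omega
      have h11 : (χ : G → ℂ) 1 = 1 := by
        rw [one_eq_charDegree (IsIrrCharacter.isCharacter χ.2), he1]; simp
      obtain ⟨φ, hφ⟩ := exists_hom_of_degree_one (IsIrrCharacter.isCharacter χ.2) h11
      rcases hsimple.eq_bot_or_eq_top_of_normal φ.ker inferInstance with hk0 | hk1
      · obtain ⟨x, y, hxy⟩ := hnc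
        apply hxy
        have hinj := (MonoidHom.ker_eq_bot_iff φ).1 hk0
        apply hinj
        rw [map_mul, map_mul, mul_comm]
      · apply hne
        apply Subtype.ext
        funext g
        have : g ∈ φ.ker := by rw [hk1]; trivial
        rw [hφ, MonoidHom.mem_ker.1 this]
        simp [triv]
    · rw [← hcardG]
      exact charDegree_dvd_card χ.2
  choose v hv1 hv2 using hmain
  have hvtriv : v triv = 1 := by
    have h1 := hv1 triv
    have h2 : ((v triv : ℤ) : ℂ) = ((1 : ℤ) : ℂ) := by rw [← h1]; simp [triv]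
    exact_mod_cast h2
  have hcent : Subgroup.centralizer ({t} : Set G) = N := by
    ext g
    rw [Subgroup.mem_centralizer_singleton_iff, h.hCt, mul_inv_eq_iff_eq_mul]
  have hsum := sum_irr_mul_conj t t
  rw [if_pos (IsConj.refl _), hcent, h.hcard, hCa] at hsum
  have hsum2 : ∑ χ : IrrCharacter G, (v χ) ^ 2 = 4 * (a : ℤ) := by
    have : ((∑ χ : IrrCharacter G, (v χ) ^ 2 : ℤ) : ℂ) = ((4 * (a : ℤ) : ℤ) : ℂ) := by
      push_cast
      push_cast at hsum
      have h3 : ∀ χ : IrrCharacter G, (χ : G → ℂ) t * conj ((χ : G → ℂ) t) = (v χ : ℂ) ^ 2 := by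
        intro χ
        rw [hv1 χ, map_intCast, sq]
      simp_rw [h3] at hsum
      rw [hsum]
      ring
    exact_mod_cast this
  have hclasses := h.classes_lower hCa ha1
  rw [← card_irr_eq_card_conjClasses, Nat.card_eq_fintype_card] at hclasses
  rw [← Finset.add_sum_erase univ _ (mem_univ triv), hvtriv] at hsum2
  have hge := Finset.card_nsmul_le_sum (univ.erase triv) (fun χ => (v χ) ^ 2) 4 (by
    intro χ hχ
    exact hv2 χ (Finset.ne_of_mem_erase hχ))
  rw [card_erase_of_mem (mem_univ triv), card_univ] at hge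
  simp only [nsmul_eq_mul] at hge
  have hcast : (((Fintype.card (IrrCharacter G) - 1 : ℕ)) : ℤ) = (Fintype.card (IrrCharacter G) : ℤ) - 1 := by
    rw [Nat.cast_sub (by omega)]; simp
  rw [hcast] at hge
  have hcl : ((a + 1 : ℕ) : ℤ) ≤ (Fintype.card (IrrCharacter G) : ℤ) := by exact_mod_cast hclasses
  push_cast at hcl
  nlinarith


end KeyData
end KD

section Build

variable {G : Type u} [Group G] [Finite G]

theorem build {Q C N : Subgroup G} {a k : ℕ} {t : G} (h : Base1 Q C N a t) (hak : a = 3 ^ k)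
    (hk : 0 < k) (P : Sylow 3 G) (hPQ : (P : Subgroup G) = Q) (hsimple : IsSimpleGroup G)
    (hnc : ∃ x y : G, x * y ≠ y * x)
    (heven : ∀ H : Subgroup G, H ≠ ⊤ → 2 ∣ Nat.card H → Nat.card H ∣ 4 * a)
    (hTI : ∀ x ∈ C, x ≠ 1 → ∀ g, g * x * g⁻¹ ∈ C → g ∈ N)
    (hCt : ∀ g, g ∈ N ↔ g * t * g⁻¹ = t) : KeyData C N t := by
  classical
  have hodd := h.hodd
  have h3 : 3 ∣ Nat.card G := by
    have h1 : Nat.card Q ∣ Nat.card G := Subgroup.card_subgroup_dvd_card Q
    rw [h.hcardQ, hak] at h1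
    exact dvd_trans (dvd_pow_self 3 hk.ne') h1
  have htwo := two_sub_dvd hak h3 heven
  haveI : Fact (Nat.Prime 2) := ⟨Nat.prime_two⟩
  haveI : Fact (Nat.Prime 3) := ⟨Nat.prime_three⟩
  -- a subgroup of order 4 in N
  obtain ⟨S₀, hS₀⟩ := Sylow.exists_subgroup_card_pow_prime (G := N) 2 (n := 2)
    (by rw [h.hcardN]; exact ⟨a, by ring⟩)
  have hS₁card : Nat.card (S₀.map N.subtype) = 4 := by
    rw [Subgroup.card_map_of_injective N.subtype_injective, hS₀]; norm_num
  have hS₁p : IsPGroup 2 (S₀.map N.subtype) := IsPGroup.of_card (n := 2) (by rw [hS₁card]; norm_num)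
  obtain ⟨T, hT⟩ := IsPGroup.exists_le_sylow hS₁p
  have hTcard : Nat.card T = 4 := by
    have h1 := htwo T T.isPGroup'
    have h2 := Subgroup.card_dvd_of_le hT
    rw [hS₁card] at h2
    exact Nat.dvd_antisymm h1 h2
  have hTN : (T : Subgroup G) ≤ N := by
    have : S₀.map N.subtype = T := Subgroup.eq_of_le_of_card_ge hT (by rw [hS₁card]; exact hTcard.le)
    rw [← this]
    exact Subgroup.map_subtype_le S₀
  -- t ∈ T
  have htp : IsPGroup 2 (Subgroup.zpowers t) :=
    zpowers_isPGroup (e := 1) (by rw [pow_one, pow_two, h.ht2])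
  have htT : t ∈ (T : Subgroup G) := by
    have hle : (T : Subgroup G) ≤ Subgroup.normalizer ((Subgroup.zpowers t : Subgroup G) : Set G) := by
      intro n hn
      apply Subgroup.centralizer_le_normalizer
      rw [Subgroup.mem_centralizer_iff]
      intro x hx
      obtain ⟨i, rfl⟩ := Subgroup.mem_zpowers_iff.1 hx
      have hc : Commute t n := by
        have := (hCt n).1 (hTN hn)
        rw [mul_inv_eq_iff_eq_mul] at this
        exact this.symm
      exact (hc.zpow_left i).eq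
    have hsup := T.isPGroup'.to_sup_of_normal_right' htp hle
    have heq := T.is_maximal' hsup le_sup_left
    have : t ∈ (T : Subgroup G) ⊔ Subgroup.zpowers t := Subgroup.mem_sup_right (Subgroup.mem_zpowers t)
    rw [heq] at this
    exact this
  -- T abelian
  have hTab : ∀ x ∈ (T : Subgroup G), ∀ y ∈ (T : Subgroup G), x * y = y * x := by
    have hc : IsMulCommutative (T : Subgroup G) :=
      IsPGroup.isMulCommutative_of_card_eq_prime_sq (p := 2) (by rw [hTcard]; norm_num)
    intro x hx y hy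
    have := hc.is_comm.comm ⟨x, hx⟩ ⟨y, hy⟩
    exact congrArg Subtype.val this
  -- Burnside
  obtain ⟨g, hgN, z₀, hz₀, hne⟩ := burnside_step hsimple T hTcard h3
  obtain ⟨e, m, hm, hem⟩ := Nat.exists_eq_two_pow_mul_odd (orderOf_pos g).ne'
  have hgT : ∀ x ∈ (T : Subgroup G), g * x * g⁻¹ ∈ (T : Subgroup G) := by
    intro x hx
    exact (Subgroup.mem_normalizer_iff.1 hgN x).1 hx
  have hgm : g ^ m ∈ (T : Subgroup G) := by
    have h2e : (g ^ m) ^ (2 ^ e) = 1 := by
      rw [← pow_mul, mul_comm, ← hem, pow_orderOf_eq_one]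
    have hle : Subgroup.zpowers (g ^ m) ≤ Subgroup.normalizer (((T : Subgroup G) : Subgroup G) : Set G) := by
      rw [Subgroup.zpowers_le]
      exact Subgroup.pow_mem _ hgN m
    have hsup := (zpowers_isPGroup h2e).to_sup_of_normal_right' T.isPGroup' hle
    have heq := T.is_maximal' hsup le_sup_right
    have : g ^ m ∈ Subgroup.zpowers (g ^ m) ⊔ (T : Subgroup G) :=
      Subgroup.mem_sup_left (Subgroup.mem_zpowers _)
    rw [heq] at this
    exact this
  have hTconj := klein_conj hTcard hTab htT h.ht2 h.ht1 hgT hm hgm hz₀ hne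
  -- every involution is conjugate to t
  have hne1 : ∀ (b x : G), x ≠ 1 → b * x * b⁻¹ ≠ 1 := by
    intro b x hx hh
    apply hx
    have : x = b⁻¹ * (b * x * b⁻¹) * b := by group
    rw [this, hh]; group
  have hconj : ∀ u : G, u * u = 1 → u ≠ 1 → ∃ g, g * t * g⁻¹ = u := by
    intro u hu hu1
    obtain ⟨r, hr⟩ := conj_of_sylow T (x := u) (e := 1) (by rw [pow_one, pow_two, hu])
    obtain ⟨b, hb⟩ := hTconj _ hr (hne1 r u hu1)
    refine ⟨r⁻¹ * b, ?_⟩
    calc r⁻¹ * b * t * (r⁻¹ * b)⁻¹ = r⁻¹ * (b * t * b⁻¹) * r := by group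
      _ = r⁻¹ * (r * u * r⁻¹) * r := by rw [hb]
      _ = u := by group
  have hsqsq : ∀ w : G, w ^ 4 = 1 → w * w = 1 := by
    intro w hw
    obtain ⟨r, hr⟩ := conj_of_sylow T (x := w) (e := 2) (by norm_num; exact hw)
    by_cases hw1 : w = 1
    · rw [hw1, one_mul]
    obtain ⟨b, hb⟩ := hTconj _ hr (hne1 r w hw1)
    have h1 : r * w * r⁻¹ * (r * w * r⁻¹) = 1 := by
      rw [← hb]
      calc b * t * b⁻¹ * (b * t * b⁻¹) = b * (t * t) * b⁻¹ := by group
        _ = 1 := by rw [h.ht2]; group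
    have h2 : r * (w * w) * r⁻¹ = 1 := by
      rw [← h1]; group
    by_contra h3
    exact hne1 r _ h3 h2
  -- an element s of T other than 1, t
  obtain ⟨s, hsT, hs1, hst⟩ : ∃ s ∈ (T : Subgroup G), s ≠ 1 ∧ s ≠ t := by
    by_contra hno
    push Not at hno
    haveI : Fintype G := Fintype.ofFinite G
    have hF : (Finset.univ.filter (· ∈ (T : Subgroup G))).card = 4 := by
      rw [← hTcard, Nat.card_eq_fintype_card]
      exact (Fintype.card_subtype _).symm
    have hsub : Finset.univ.filter (· ∈ (T : Subgroup G)) ⊆ ({1, t} : Finset G) := by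
      intro x hx
      simp only [Finset.mem_filter, Finset.mem_univ, true_and] at hx
      simp only [Finset.mem_insert, Finset.mem_singleton]
      by_cases hx1 : x = 1
      · exact Or.inl hx1
      · exact Or.inr (hno x hx hx1)
    have := Finset.card_le_card hsub
    rw [hF] at this
    have h2 : ({1, t} : Finset G).card ≤ 2 := Finset.card_le_two
    omega
  obtain ⟨b, hb⟩ := hTconj s hsT hs1
  have hss : s * s = 1 := by
    rw [← hb]
    calc b * t * b⁻¹ * (b * t * b⁻¹) = b * (t * t) * b⁻¹ := by group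
      _ = 1 := by rw [h.ht2]; group
  have hsinv : s⁻¹ = s := inv_eq_of_mul_eq_one_left hss
  have hsN : s ∈ N := hTN hsT
  have hsC : s ∉ C := by
    intro hh
    rcases h.invol_C hh hss with h1 | h1
    · exact hs1 h1
    · exact hst h1
  -- fixed points of s on Q
  have hfix : ∀ y ∈ Q, s * y = y * s → y = 1 := by
    intro y hy hsy
    by_contra hy1
    have hz : b⁻¹ * y * b ∈ N := by
      rw [hCt]
      have hs' : y * s * y⁻¹ = s := by rw [← hsy]; group
      calc b⁻¹ * y * b * t * (b⁻¹ * y * b)⁻¹ = b⁻¹ * (y * (b * t * b⁻¹) * y⁻¹) * b := by group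
        _ = b⁻¹ * (y * s * y⁻¹) * b := by rw [hb]
        _ = b⁻¹ * s * b := by rw [hs']
        _ = b⁻¹ * (b * t * b⁻¹) * b := by rw [hb]
        _ = t := by group
    have hza : (b⁻¹ * y * b) ^ a = 1 := by
      have h1 : (b⁻¹ * y * b) = b⁻¹ * y * (b⁻¹)⁻¹ := by simp
      rw [h1, conj_pow, h.pow_a hy]
      group
    have hzQ := h.mem_Q_of_N hz hza
    have hbN : b⁻¹ ∈ N := hTI y (h.hQC hy) hy1 b⁻¹ (by
      have : b⁻¹ * y * (b⁻¹)⁻¹ = b⁻¹ * y * b := by simp
      rw [this]
      exact h.hQC hzQ)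
    have hbN' : b ∈ N := by simpa using N.inv_mem hbN
    apply hst
    rw [← hb]
    exact (hCt b).1 hbN'
  -- s inverts Q
  have hinvQ : ∀ y ∈ Q, s * y * s⁻¹ = y⁻¹ := by
    intro y hy
    have hyy := h.hQn s hsN y hy
    have hw : y * (s * y * s⁻¹) ∈ Q := Q.mul_mem hy hyy
    have hcomm : s * (y * (s * y * s⁻¹)) = (y * (s * y * s⁻¹)) * s := by
      have h1 : (s * y * s⁻¹) * y = y * (s * y * s⁻¹) := h.hQc _ hyy y (h.hQC hy)
      calc s * (y * (s * y * s⁻¹)) = (s * y * s⁻¹) * (s * s) * y * s⁻¹ := by group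
        _ = (s * y * s⁻¹) * y * s⁻¹ := by rw [hss, mul_one]
        _ = y * (s * y * s⁻¹) * s⁻¹ := by rw [h1]
        _ = y * (s * y * s⁻¹) * s := by rw [hsinv]
    have := hfix _ hw hcomm
    exact eq_inv_of_mul_eq_one_right this
  have hst' : s * t * s⁻¹ = t := (hCt s).1 hsN
  have hsact : ∀ c ∈ C, c * (s * c * s⁻¹) = 1 := by
    intro c hc
    rcases h.mem_Q_or hc with hcQ | hcQ
    · rw [hinvQ c hcQ]; group
    · have e1 : c = c * t * t := by rw [mul_assoc, h.ht2, mul_one]
      set y := c * t with hy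
      have h1 : s * c * s⁻¹ = y⁻¹ * t := by
        rw [e1]
        calc s * (y * t) * s⁻¹ = (s * y * s⁻¹) * (s * t * s⁻¹) := by group
          _ = y⁻¹ * t := by rw [hinvQ y hcQ, hst']
      rw [h1, e1]
      have h2 : y * t = t * y := h.hQc y hcQ t h.htC
      calc y * t * (y⁻¹ * t) = (t * y) * (y⁻¹ * t) := by rw [h2]
        _ = t * t := by group
        _ = 1 := h.ht2
  have hNC : ∀ n ∈ N, n ∉ C → n * n = 1 := by
    intro n hn hnC
    have hc : n * s ∈ C := by
      refine index_two_mul h.hCN ?_ hn hsN hnC hsC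
      rw [h.hcardN, h.hcardC]; ring
    have h1 := hsact _ hc
    have e : n = (n * s) * s := by rw [mul_assoc, hss, mul_one]
    calc n * n = (n * s) * s * ((n * s) * s) := by rw [← e]
      _ = (n * s) * (s * (n * s) * s⁻¹) := by rw [hsinv]; group
      _ = 1 := h1
  -- the products of two involutions
  have hwC : ∀ u : G, u * u = 1 → u ≠ 1 → u ≠ t → ∃ r, r * (t * u) * r⁻¹ ∈ C := by
    intro u hu hu1 hut
    set w := t * u with hw
    have htinv : t⁻¹ = t := inv_eq_of_mul_eq_one_left h.ht2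
    have huinv : u⁻¹ = u := inv_eq_of_mul_eq_one_left hu
    have hw1 : w ≠ 1 := by
      intro hh
      apply hut
      have h1 : t * u = t * t := by rw [← hw, hh, h.ht2]
      exact mul_left_cancel h1
    have htw : t * w * t⁻¹ = w⁻¹ := by
      rw [hw, htinv, mul_inv_rev, htinv, huinv, ← mul_assoc, h.ht2, one_mul]
    have htD : t ∈ Subgroup.normalizer ((Subgroup.zpowers w : Subgroup G) : Set G) := by
      apply mem_normalizer_of_conj_le
      intro y hy
      obtain ⟨i, rfl⟩ := Subgroup.mem_zpowers_iff.1 hy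
      have : t * w ^ i * t⁻¹ = (w⁻¹) ^ i := by rw [← htw, conj_zpow]
      rw [this]
      exact Subgroup.zpow_mem _ (Subgroup.inv_mem _ (Subgroup.mem_zpowers w)) i
    have hDne : Subgroup.normalizer ((Subgroup.zpowers w : Subgroup G) : Set G) ≠ ⊤ := by
      intro htop
      rw [Subgroup.normalizer_eq_top_iff] at htop
      rcases hsimple.eq_bot_or_eq_top_of_normal _ htop with h0 | h0
      · rw [Subgroup.zpowers_eq_bot] at h0
        exact hw1 h0
      · obtain ⟨x, y, hxy⟩ := hnc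
        apply hxy
        have hx : x ∈ Subgroup.zpowers w := by rw [h0]; trivial
        have hy : y ∈ Subgroup.zpowers w := by rw [h0]; trivial
        obtain ⟨i, rfl⟩ := Subgroup.mem_zpowers_iff.1 hx
        obtain ⟨j, rfl⟩ := Subgroup.mem_zpowers_iff.1 hy
        exact zpow_mul_comm w i j
    have h5 := heven _ hDne (two_dvd_of_invol _ htD h.ht2 h.ht1)
    have hwD : w ∈ Subgroup.normalizer ((Subgroup.zpowers w : Subgroup G) : Set G) :=
      Subgroup.le_normalizer (Subgroup.mem_zpowers w)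
    have h6 : w ^ (4 * a) = 1 := by
      obtain ⟨q, hq⟩ := h5
      have h7 := pow_card_eq_one' (x := (⟨w, hwD⟩ : Subgroup.normalizer ((Subgroup.zpowers w : Subgroup G) : Set G)))
      have h8 : w ^ Nat.card (Subgroup.normalizer ((Subgroup.zpowers w : Subgroup G) : Set G)) = 1 := by
        exact congrArg Subtype.val h7
      rw [hq, pow_mul, h8, one_pow]
    by_cases hy1 : w ^ 4 = 1
    · obtain ⟨b', hb'⟩ := hconj w (hsqsq w hy1) hw1
      refine ⟨b'⁻¹, ?_⟩
      have : b'⁻¹ * w * b'⁻¹⁻¹ = t := by rw [← hb']; group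
      rw [this]
      exact h.htC
    · have hya : (w ^ 4) ^ (3 ^ k) = 1 := by
        rw [← hak, ← pow_mul, h6]
      obtain ⟨r, hr⟩ := conj_of_sylow P hya
      rw [hPQ] at hr
      refine ⟨r, ?_⟩
      set y' := r * w ^ 4 * r⁻¹ with hy'
      set x := r * w * r⁻¹ with hx
      have hy'1 : y' ≠ 1 := hne1 r _ hy1
      have hxy : y' = x ^ 4 := by rw [hx, conj_pow]
      have hcomm : x * y' = y' * x := by rw [hxy]; exact (Commute.pow_right (Commute.refl x) 4).eq
      have hxN : x ∈ N := by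
        refine hTI y' (h.hQC hr) hy'1 x ?_
        have : x * y' * x⁻¹ = y' := by rw [hcomm]; group
        rw [this]
        exact h.hQC hr
      by_contra hxC
      have h1 : x * y' ∈ N := N.mul_mem hxN (h.hCN (h.hQC hr))
      have h2 : x * y' ∉ C := fun hh => hxC (by simpa using C.mul_mem hh (C.inv_mem (h.hQC hr)))
      have h3 := hNC _ h1 h2
      have h4 := hNC _ hxN hxC
      apply hy'1
      apply h.sq_Q hr
      calc y' * y' = (x * x)⁻¹ * (x * (x * y') * y') := by group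
        _ = (x * x)⁻¹ * (x * (y' * x) * y') := by rw [hcomm]
        _ = (x * x)⁻¹ * (x * y' * (x * y')) := by group
        _ = 1 := by rw [h3, h4]; group
  exact {
    hCN := h.hCN
    hCab := fun x hx y hy => h.C_comm hx hy
    ht1 := h.ht1
    ht2 := h.ht2
    htC := h.htC
    hinv := fun c hc hcc => h.invol_C hc hcc
    hCt := hCt
    hTI := hTI
    hNC := hNC
    hconj := hconj
    hwC := hwC
    hcard := by rw [h.hcardN, h.hcardC]; ring }

end Build

theorem result {G : Type*} [Group G] [Finite G]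
    (P : Sylow 3 G) (hab : IsMulCommutative P)
    (hN : Nat.card (Subgroup.normalizer ((P : Subgroup G) : Set G)) = 4 * Nat.card P)
    (hC : Nat.card (Subgroup.centralizer (P : Set G)) = 2 * Nat.card P)
    (hTI : Cfsg.IsTISubset (Subgroup.centralizer (P : Set G) : Set G))
    (heven : ∀ H : Subgroup G, H ≠ ⊤ → 2 ∣ Nat.card H → Nat.card H ∣ 4 * Nat.card P) :
    ¬ IsSimpleGroup G := by
  intro hsimple
  classical
  haveI : Fintype G := Fintype.ofFinite G
  haveI : Fact (Nat.Prime 2) := ⟨Nat.prime_two⟩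
  haveI : Fact (Nat.Prime 3) := ⟨Nat.prime_three⟩
  set Q : Subgroup G := (P : Subgroup G) with hQ
  set C : Subgroup G := Subgroup.centralizer (P : Set G) with hCdef
  set N : Subgroup G := Subgroup.normalizer ((P : Subgroup G) : Set G) with hNdef
  set a := Nat.card P with ha
  have ha0 : a ≠ 0 := Nat.card_pos.ne'
  -- G is not commutative
  have hnc : ∃ x y : G, x * y ≠ y * x := by
    by_contra hno
    push Not at hno
    have h1 : C = N := by
      apply le_antisymm (Subgroup.centralizer_le_normalizer _)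
      intro x _
      rw [Subgroup.mem_centralizer_iff]
      intro y _
      exact hno y x
    rw [h1, hN] at hC
    omega
  have hcen : ∀ x : G, (∀ g : G, g * x = x * g) → x = 1 := by
    intro x hx
    have h1 : x ∈ Subgroup.center G := by
      rw [Subgroup.mem_center_iff]
      exact hx
    rcases hsimple.eq_bot_or_eq_top_of_normal (Subgroup.center G) inferInstance with h0 | h0
    · rw [h0] at h1
      exact h1
    · exfalso
      obtain ⟨x', y', hxy⟩ := hnc
      apply hxy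
      have : y' ∈ Subgroup.center G := by rw [h0]; trivial
      exact (Subgroup.mem_center_iff.1 this) x'
  obtain ⟨k, hk⟩ := IsPGroup.iff_card.1 P.isPGroup'
  have hak : a = 3 ^ k := hk
  have hk0 : 0 < k := by
    rcases Nat.eq_zero_or_pos k with h0 | h0
    · exfalso
      rw [h0, pow_zero] at hak
      have hQbot : Q = ⊥ := (Subgroup.card_eq_one).1 hak
      have hNtop : N = ⊤ := by
        rw [hNdef, ← hQ, hQbot]
        exact Subgroup.normalizer_eq_top ⊥
      rw [hNtop, Subgroup.card_top, hak] at hN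
      have hc : IsMulCommutative G :=
        IsPGroup.isMulCommutative_of_card_eq_prime_sq (p := 2) (by rw [hN]; norm_num)
      obtain ⟨x', y', hxy⟩ := hnc
      exact hxy (hc.is_comm.comm x' y')
    · exact h0
  have hodd : Odd a := by
    rw [hak]
    exact Odd.pow (by decide)
  -- an involution of C
  obtain ⟨t₀, ht₀⟩ := exists_prime_orderOf_dvd_card' (G := C) 2 (by rw [hC]; exact ⟨a, rfl⟩)
  set t : G := (t₀ : G) with ht
  have htC : t ∈ C := t₀.2
  have ht2 : t * t = 1 := by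
    have h1 : t₀ ^ 2 = 1 := by rw [← ht₀]; exact pow_orderOf_eq_one t₀
    have h2 := congrArg Subtype.val h1
    simpa [pow_two] using h2
  have ht1 : t ≠ 1 := by
    intro h1
    have h2 : t₀ = 1 := Subtype.ext h1
    rw [h2, orderOf_one] at ht₀
    omega
  have hb : Base1 Q C N a t := {
    hQC := Subgroup.le_centralizer_iff_isMulCommutative.2 hab
    hCN := Subgroup.centralizer_le_normalizer _
    hcardQ := rfl
    hcardC := hC
    hcardN := hN
    hodd := hodd
    hQc := fun y hy c hc => (Subgroup.mem_centralizer_iff.1 hc) y hy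
    hQn := fun n hn y hy => (Subgroup.mem_normalizer_iff.1 hn y).1 hy
    hNm := fun g hg => mem_normalizer_of_conj_le Q g hg
    hCm := fun g hg => Subgroup.mem_centralizer_iff.2 hg
    htC := htC
    ht2 := ht2
    ht1 := ht1 }
  have hCt := hb.hCt hcen heven
  have hTI2 : ∀ x ∈ C, x ≠ 1 → ∀ g, g * x * g⁻¹ ∈ C → g ∈ N :=
    fun x hx hx1 g hg => hb.hTI' hTI hx hx1 g hg
  have hkd := build hb hak hk0 P rfl hsimple hnc heven hTI2 hCt
  exact hkd.final hsimple hnc hak hk0 hC

end Cfsg.Agent.S4018
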