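import Mathlib
-- Template for statement S4040 (row 4040; see /opt/grader/pristine/manifest.json for weights).
-- Copy to Cfsg/Agent/S4040.lean and replace the sorry. The statement below is byte-identical to the frozen
-- statement Cfsg.CfsgFrozen.S4040 (Cfsg/Statements/S4040.lean; the theorem Cfsg.fg5_odd_nilpotent_maximal_subgroup_implies_solvable);
-- the grader kernel-checks Cfsg.Agent.S4040.result against that frozen type. Keep the theorem IN THIS FILE
-- (a `result` declared elsewhere and merely imported here is not credited); helpers may live anywhere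
-- under Cfsg/Agent/.
import Cfsg.Statements.S4040
import Cfsg.Agent.Lib.NilpMax
import Cfsg.Agent.Lib.ZJFusion
import Cfsg.Agent.Lib.NPCThompson

set_option autoImplicit false
open Cfsg

namespace Cfsg.Agent.S4040

/-- A finite group possessing a maximal subgroup that is nilpotent of odd order is solvable. -/
theorem result {G : Type*} [Group G] [Finite G]
    (M : Subgroup G) (hmax : IsCoatom M) (hnil : Group.IsNilpotent M) (hodd : Odd (Nat.card M)) :
    Group.IsSolvable G := by
  classical
  refine Cfsg.Agent.Lib.NilpMax.isSolvable_of_nilpotent_maximal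
    (fun X _ _ M => Odd (Nat.card M)) ?_ ?_ _ G M rfl hmax hnil hodd
  · intro X _ _ M N _ _ hΦ
    exact Odd.of_dvd_nat hΦ (Subgroup.card_map_dvd _ _)
  · intro X _ _ M hM hMn hcore hΦ p hp hpM
    haveI : Fact p.Prime := ⟨hp⟩
    have hp2 : p ≠ 2 := by
      rintro rfl
      exact (Nat.not_even_iff_odd.2 hΦ) (even_iff_two_dvd.2 hpM)
    obtain ⟨P, hPM, hPb, hMP⟩ := Cfsg.Agent.Lib.NilpMax.exists_sylow_of_coreFree hM hMn hcore hpM
    apply Cfsg.Agent.Lib.NPCThompson.hasNPC_of_centerThompsonA hp2 P
    have hZ1 : Cfsg.centerThompsonAOf (P : Subgroup X) ≠ ⊥ :=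
      Cfsg.Agent.Lib.ZJFusion.centerThompsonAOf_ne_bot P.isPGroup' hPb
    have hZ2 : Cfsg.centerThompsonAOf (P : Subgroup X) ≤ M :=
      (Cfsg.Agent.Lib.PStab.centerThompsonAOf_le _).trans hPM
    have hZ3 : M ≤ Subgroup.normalizer (Cfsg.centerThompsonAOf (P : Subgroup X) : Set X) :=
      fun x hx => Cfsg.Agent.Lib.ZJFusion.mem_normalizer_ZJ (hMP hx)
    rw [Cfsg.Agent.Lib.NilpMax.normalizer_eq_of_coreFree hM hcore hZ2 hZ1 hZ3]
    rw [Cfsg.Agent.Lib.PComplement.hasNormalPComplement_iff_forall]
    intro Q hQ g _ hgc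
    rw [Subgroup.mem_centralizer_iff]
    intro h hh
    obtain ⟨k, hk⟩ := hQ ⟨h, hh⟩
    have hk' : h ^ p ^ k = 1 := by
      have := congrArg Subtype.val hk
      simpa using this
    exact Cfsg.Agent.Lib.PComplement.commute_of_isNilpotent ⟨k, hk'⟩ hgc

end Cfsg.Agent.S4040
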