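import Cfsg.Statements.S4079
import Cfsg.Agent.Lib.MetaOmega2
import Cfsg.Agent.Lib.MaxUnif
import Cfsg.Agent.S0112
import Cfsg.Agent.Lib.MaxClass

set_option autoImplicit false
set_option linter.unusedSectionVars false
set_option linter.style.haveILetI false
set_option linter.unusedVariables false
open Cfsg

namespace Cfsg.Agent.S4079

open Cfsg.Agent.Lib.MetaOmega Cfsg.Agent.Lib.MetaOmega2 Cfsg.Agent.Lib.LCSLie Cfsg.Agent.Lib.MaxUnif
open scoped commutatorElement

section Dir1

variable {L : Type*} [Group L] {p : ℕ}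

/-- Powers of an automorphism fix what it fixes. -/
lemma fix_of (a : MulAut L) {w : L} (hw : a w = w) {t : MulAut L} (ht : t ∈ Subgroup.zpowers a) : t w = w := by
  have h1 : Subgroup.zpowers a ≤ MulAction.stabilizer (MulAut L) w := by
    rw [Subgroup.zpowers_le]
    exact hw
  exact h1 ht

/-- The self-centralizing subgroup. -/
def AG (a : MulAut L) (z : L) (hz : a z = z) :
    Subgroup (SemidirectProduct L ↥(Subgroup.zpowers a) (Subgroup.zpowers a).subtype) where
  carrier := {g | g.left ∈ Subgroup.zpowers z}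
  one_mem' := by
    show (1 : L) ∈ Subgroup.zpowers z
    exact one_mem _
  mul_mem' := by
    intro g h hg hh
    show g.left * (g.right : MulAut L) h.left ∈ Subgroup.zpowers z
    refine mul_mem hg ?_
    obtain ⟨i, hi⟩ := Subgroup.mem_zpowers_iff.1 hh
    rw [← hi, map_zpow, fix_of a hz g.right.2]
    exact zpow_mem (Subgroup.mem_zpowers _) _
  inv_mem' := by
    intro g hg
    show ((g.right⁻¹ : ↥(Subgroup.zpowers a)) : MulAut L) (g.left⁻¹) ∈ Subgroup.zpowers z
    obtain ⟨i, hi⟩ := Subgroup.mem_zpowers_iff.1 (inv_mem hg)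
    rw [← hi, map_zpow, fix_of a hz (g.right⁻¹).2]
    exact zpow_mem (Subgroup.mem_zpowers _) _

lemma mem_AG {a : MulAut L} {z : L} {hz : a z = z}
    {g : SemidirectProduct L ↥(Subgroup.zpowers a) (Subgroup.zpowers a).subtype} :
    g ∈ AG a z hz ↔ g.left ∈ Subgroup.zpowers z := Iff.rfl

lemma card_AG (a : MulAut L) (z : L) (hz : a z = z) [Finite L] :
    Nat.card (AG a z hz) = orderOf z * orderOf a := by
  rw [← Nat.card_zpowers, ← Nat.card_zpowers, ← Nat.card_prod]
  refine Nat.card_congr ⟨fun g => (⟨g.1.left, g.2⟩, g.1.right), fun x => ⟨⟨x.1.1, x.2⟩, x.1.2⟩, ?_, ?_⟩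
  · intro g
    rfl
  · intro x
    rfl

lemma centralizer_AG (a : MulAut L) (z : L) (hz : a z = z) (hfix : ∀ y, a y = y → y ∈ Subgroup.zpowers z) :
    Subgroup.centralizer ((AG a z hz : Subgroup _) : Set (SemidirectProduct L ↥(Subgroup.zpowers a) (Subgroup.zpowers a).subtype)) = AG a z hz := by
  apply le_antisymm
  · intro g hg
    have ha : (⟨1, ⟨a, Subgroup.mem_zpowers a⟩⟩ : SemidirectProduct L ↥(Subgroup.zpowers a) (Subgroup.zpowers a).subtype) ∈ AG a z hz := by
      show (1 : L) ∈ Subgroup.zpowers z
      exact one_mem _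
    have h1 := Subgroup.mem_centralizer_iff.1 hg _ ha
    have h2 := congrArg SemidirectProduct.left h1
    simp only [SemidirectProduct.mul_left] at h2
    have e1 : ((Subgroup.zpowers a).subtype ⟨a, Subgroup.mem_zpowers a⟩) g.left = a g.left := rfl
    rw [e1, one_mul, map_one, mul_one] at h2
    exact hfix _ h2
  · intro g hg
    rw [Subgroup.mem_centralizer_iff]
    intro h hh
    have hg' : g.left ∈ Subgroup.zpowers z := hg
    have hh' : h.left ∈ Subgroup.zpowers z := hh
    have e1 : ∀ (t : ↥(Subgroup.zpowers a)) {w : L}, w ∈ Subgroup.zpowers z → ((Subgroup.zpowers a).subtype t) w = w := by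
      intro t w hw
      obtain ⟨i, rfl⟩ := Subgroup.mem_zpowers_iff.1 hw
      rw [map_zpow]
      congr 1
      exact fix_of a hz t.2
    apply SemidirectProduct.ext
    · simp only [SemidirectProduct.mul_left]
      rw [e1 _ hg', e1 _ hh']
      obtain ⟨i, hi⟩ := Subgroup.mem_zpowers_iff.1 hg'
      obtain ⟨j, hj⟩ := Subgroup.mem_zpowers_iff.1 hh'
      rw [← hi, ← hj]
      exact (zpow_mul_comm z _ _).symm ▸ rfl
    · simp only [SemidirectProduct.mul_right]
      exact Subtype.ext ((Subgroup.mem_zpowers_iff.1 h.right.2).elim fun i hi =>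
        (Subgroup.mem_zpowers_iff.1 g.right.2).elim fun j hj => by
          rw [Subgroup.coe_mul, Subgroup.coe_mul, ← hi, ← hj]
          exact zpow_mul_comm a _ _)

lemma zp_comm {a : MulAut L} (s t : ↥(Subgroup.zpowers a)) : s * t = t * s := by
  obtain ⟨i, hi⟩ := Subgroup.mem_zpowers_iff.1 s.2
  obtain ⟨j, hj⟩ := Subgroup.mem_zpowers_iff.1 t.2
  apply Subtype.ext
  rw [Subgroup.coe_mul, Subgroup.coe_mul, ← hi, ← hj]
  exact zpow_mul_comm a _ _

lemma finite_SD (a : MulAut L) [Finite L] :
    Finite (SemidirectProduct L ↥(Subgroup.zpowers a) (Subgroup.zpowers a).subtype) :=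
  Finite.of_equiv _ SemidirectProduct.equivProd.symm

lemma card_SD (a : MulAut L) [Finite L] :
    Nat.card (SemidirectProduct L ↥(Subgroup.zpowers a) (Subgroup.zpowers a).subtype) = Nat.card L * orderOf a := by
  rw [Nat.card_congr SemidirectProduct.equivProd, Nat.card_prod, Nat.card_zpowers]

end Dir1

section Dir2

variable {L : Type*} [Group L] [Finite L] {p : ℕ} [hp : Fact p.Prime]

omit [Finite L] hp in
/-- `G' ` of a metacyclic group is cyclic. -/
lemma comm_cyclic_sub (hm : Cfsg.IsMetacyclic L) (K : Subgroup L) (hK : K ≤ commutator L) : IsCyclic K := by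
  obtain ⟨N, hN, hc, hq⟩ := hm
  have hcomm : ∀ u v : L ⧸ N, u * v = v * u := by
    intro x y
    obtain ⟨g, hg⟩ := hq.exists_generator
    obtain ⟨i, hi⟩ := Subgroup.mem_zpowers_iff.1 (hg x)
    obtain ⟨j, hj⟩ := Subgroup.mem_zpowers_iff.1 (hg y)
    rw [← hi, ← hj]
    exact zpow_mul_comm g _ _
  have hle : commutator L ≤ N := by
    rw [commutator_eq_closure]
    refine (Subgroup.closure_le _).2 ?_
    rintro _ ⟨x, y, rfl⟩
    show ⁅x, y⁆ ∈ N
    rw [← QuotientGroup.eq_one_iff]
    have h := map_commutatorElement (QuotientGroup.mk' N) x y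
    have e : ((⁅x, y⁆ : L) : L ⧸ N) = QuotientGroup.mk' N ⁅x, y⁆ := rfl
    rw [e, h, commutatorElement_eq_one_iff_mul_comm]
    exact hcomm _ _
  exact isCyclic_of_injective (Subgroup.inclusion (hK.trans hle)) (Subgroup.inclusion_injective _)

/-- The second direction. -/
lemma dir2 (hp2 : p ≠ 2) (hL : IsPGroup p L) (hm : Cfsg.IsMetacyclic L)
    (hnc : ∀ C : Subgroup L, IsCyclic C → C.index ≠ p) [hne : Nontrivial L] (a : MulAut L) (ha : orderOf a = p)
    (m : ℕ) (hmc : Nat.card L = p ^ m) (hp3 : p = 3)
    (hcl : Group.nilpotencyClass (SemidirectProduct L ↥(Subgroup.zpowers a) (Subgroup.zpowers a).subtype) = m)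
    (hfixall : ∀ x : L, orderOf x = p → a x = x) : False := by
  classical
  have hpp := hp.out
  haveI := finite_SD a
  have hcard : Nat.card (SemidirectProduct L ↥(Subgroup.zpowers a) (Subgroup.zpowers a).subtype) = p ^ (m + 1) := by
    rw [card_SD, hmc, ha, pow_succ]
  have hGp : IsPGroup p (SemidirectProduct L ↥(Subgroup.zpowers a) (Subgroup.zpowers a).subtype) := IsPGroup.of_card hcard
  obtain ⟨A, hA, hAc, hAp⟩ := Cfsg.Agent.S0638.main hp2 hL hm (not_cyclic hp2 hL hm hnc hne)
  -- the order of `L`
  have hm4 : 4 ≤ m := by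
    have hroot : ∀ ω : A, ∃ v : L, v ^ p = ω.1 := fun ω => exists_root hp2 hL hm hnc hne ((hA _).1 ω.2)
    choose r hr using hroot
    let f : A × A → L := fun x => r x.1 * x.2.1
    have hr2 : ∀ ω : A, (r ω) ^ p ^ 2 = 1 := by
      intro ω
      rw [pow_two, pow_mul, hr, (hA _).1 ω.2]
    have hω2 : ∀ ω : A, (ω.1) ^ p ^ 2 = 1 := by
      intro ω
      rw [pow_two, pow_mul, (hA _).1 ω.2, one_pow]
    have hfp : ∀ x : A × A, (f x) ^ p = x.1.1 := by
      intro x
      show (r x.1 * x.2.1) ^ p = _
      rw [mul_pow_W hp2 hL hm (hr2 _) (hω2 _), hr, (hA _).1 x.2.2, mul_one]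
    have hf : Function.Injective f := by
      intro x y hxy
      have h1 : x.1 = y.1 := Subtype.ext (by rw [← hfp x, ← hfp y, hxy])
      have h2 : r x.1 * x.2.1 = r y.1 * y.2.1 := hxy
      rw [h1] at h2
      have h3 : x.2 = y.2 := Subtype.ext (mul_left_cancel h2)
      exact Prod.ext h1 h3
    have h1 := Nat.card_le_card_of_injective f hf
    rw [Nat.card_prod, hAp, hmc, ← pow_add] at h1
    exact (Nat.pow_le_pow_iff_right hpp.one_lt).1 h1
  have hn : 3 ≤ m + 1 := by omega
  have hlev := Cfsg.Agent.Lib.MaxClass.card_lcs_of_maxClass hGp hcard (by simpa using hcl) hn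
  have hlev' : ∀ i, 1 ≤ i → i ≤ m + 1 - 1 → Nat.card (Gam (SemidirectProduct L ↥(Subgroup.zpowers a) (Subgroup.zpowers a).subtype) i) = p ^ (m + 1 - 1 - i) := hlev
  obtain ⟨s, hs⟩ := exists_unif (by omega) (m + 1) hn _ hcard hlev'
  obtain ⟨hC, hZ⟩ := unif_props hGp hcard hn hlev' hs
  set T := Gam (SemidirectProduct L ↥(Subgroup.zpowers a) (Subgroup.zpowers a).subtype) (m - 2) with hT
  have hTcard : Nat.card T = p ^ 2 := by
    rw [hT, hlev' (m - 2) (by omega) (by omega)]
    congr 1
    omega
  have hTexp : ∀ τ ∈ T, τ ^ p = 1 := by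
    intro τ hτ
    have h1 := pow_lev hGp hcard hn hlev' hC hZ (i := m - 2) (by omega) hτ
    rw [show m - 2 + p - 1 = m + 1 - 1 by omega, gam_bot hn hlev', Subgroup.mem_bot] at h1
    exact h1
  -- the derived subgroup is a subgroup of `L`
  have hGam1 : ∀ g ∈ Gam (SemidirectProduct L ↥(Subgroup.zpowers a) (Subgroup.zpowers a).subtype) 1, g.right = 1 := by
    have hle : Gam (SemidirectProduct L ↥(Subgroup.zpowers a) (Subgroup.zpowers a).subtype) 1 ≤
        (SemidirectProduct.rightHom : SemidirectProduct L ↥(Subgroup.zpowers a) (Subgroup.zpowers a).subtype →* _).ker := by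
      refine Subgroup.commutator_le.2 ?_
      intro x _ y _
      rw [MonoidHom.mem_ker, map_commutatorElement, commutatorElement_eq_one_iff_mul_comm]
      exact zp_comm _ _
    intro g hg
    exact hle hg
  have hTle1 : T ≤ Gam (SemidirectProduct L ↥(Subgroup.zpowers a) (Subgroup.zpowers a).subtype) 1 :=
    Subgroup.lowerCentralSeries_antitone _ (by omega)
  have hTL : ∀ τ ∈ T, τ.right = 1 := fun τ hτ => hGam1 τ (hTle1 hτ)
  have hinl : ∀ τ ∈ T, (SemidirectProduct.inl τ.left : SemidirectProduct L ↥(Subgroup.zpowers a) (Subgroup.zpowers a).subtype) = τ := by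
    intro τ hτ
    have h1 := SemidirectProduct.inl_left_mul_inr_right τ
    rw [hTL τ hτ, map_one, mul_one] at h1
    exact h1
  have hleft : ∀ τ ∈ T, τ.left ^ p = 1 := by
    intro τ hτ
    have h1 := hTexp τ hτ
    rw [← hinl τ hτ, ← map_pow] at h1
    exact congrArg SemidirectProduct.left h1
  -- the derived subgroup of `L` is small
  have hCle : Nat.card (commutator L) ≤ p := by
    by_contra hcon
    push Not at hcon
    obtain ⟨c, hc⟩ := IsPGroup.iff_card.1 (hL.to_subgroup (commutator L))
    have hc2 : 2 ≤ c := by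
      by_contra h
      have : c ≤ 1 := by omega
      have : p ^ c ≤ p ^ 1 := Nat.pow_le_pow_right hpp.pos this
      rw [← hc, pow_one] at this
      omega
    set C' := (commutator L).map (SemidirectProduct.inl : L →* SemidirectProduct L ↥(Subgroup.zpowers a) (Subgroup.zpowers a).subtype) with hC'
    have hC'card : Nat.card C' = p ^ c := by
      rw [hC', Subgroup.card_map_of_injective SemidirectProduct.inl_injective, hc]
    have hC'n : C'.Normal := by
      constructor
      rintro _ ⟨x, hx, rfl⟩ g
      have hx' : x ∈ commutator L := hx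
      refine ⟨g.left * (((Subgroup.zpowers a).subtype g.right) x) * g.left⁻¹, ?_, ?_⟩
      · have h1 : ((Subgroup.zpowers a).subtype g.right) x ∈ commutator L := by
          have := (inferInstance : (commutator L).Characteristic)
          exact (Subgroup.characteristic_iff_le_comap.1 this (((Subgroup.zpowers a).subtype g.right))) hx'
        exact (inferInstance : (commutator L).Normal).conj_mem _ h1 _
      · have hg := SemidirectProduct.inl_left_mul_inr_right g
        calc SemidirectProduct.inl (g.left * (((Subgroup.zpowers a).subtype g.right) x) * g.left⁻¹)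
            = SemidirectProduct.inl g.left * SemidirectProduct.inl (((Subgroup.zpowers a).subtype g.right) x) * (SemidirectProduct.inl g.left)⁻¹ := by
              simp only [map_mul, map_inv]
          _ = SemidirectProduct.inl g.left * (SemidirectProduct.inr g.right * SemidirectProduct.inl x * SemidirectProduct.inr g.right⁻¹) * (SemidirectProduct.inl g.left)⁻¹ := by
              rw [SemidirectProduct.inl_aut]
          _ = (SemidirectProduct.inl g.left * SemidirectProduct.inr g.right) * SemidirectProduct.inl x * (SemidirectProduct.inl g.left * SemidirectProduct.inr g.right)⁻¹ := by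
              rw [map_inv]
              group
          _ = g * SemidirectProduct.inl x * g⁻¹ := by rw [hg]
    have hC'le : C' ≤ Gam (SemidirectProduct L ↥(Subgroup.zpowers a) (Subgroup.zpowers a).subtype) 1 := by
      rw [hC', commutator_def, Subgroup.map_commutator]
      exact Subgroup.commutator_mono le_top le_top
    have hcm : c ≤ m - 1 := by
      have h1 := Subgroup.card_le_of_le hC'le
      rw [hC'card, hlev' 1 le_rfl (by omega)] at h1
      have h2 := (Nat.pow_le_pow_iff_right hpp.one_lt).1 h1
      omega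
    have hidx : C'.index = p ^ (m + 1 - c) := by
      have h1 := Subgroup.card_mul_index C'
      have e : p ^ (m + 1) = p ^ c * p ^ (m + 1 - c) := by
        rw [← pow_add]
        congr 1
        omega
      rw [hC'card, hcard, e] at h1
      exact Nat.eq_of_mul_eq_mul_left (pow_pos hpp.pos c) h1
    have hC'eq := Cfsg.Agent.Lib.MaxClass.eq_lcs_of_maxClass hGp hcard (by simpa using hcl) hn C' (m + 1 - c) (by omega) hidx
    have hTC : T ≤ C' := by
      rw [hC'eq, hT]
      exact Subgroup.lowerCentralSeries_antitone _ (by omega)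
    -- a subgroup of the cyclic group
    let T' : Subgroup L := T.comap SemidirectProduct.inl
    have hT'C : T' ≤ commutator L := by
      intro x hx
      obtain ⟨y, hy, he⟩ := hTC hx
      rwa [← SemidirectProduct.inl_injective he]
    have hT'cyc : IsCyclic T' := comm_cyclic_sub hm T' hT'C
    have hT'card : Nat.card T' = p ^ 2 := by
      rw [← hTcard]
      refine Nat.card_congr ⟨fun x => ⟨SemidirectProduct.inl x.1, x.2⟩, fun τ => ⟨τ.1.left, ?_⟩, ?_, ?_⟩
      · show (SemidirectProduct.inl τ.1.left) ∈ T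
        rw [hinl τ.1 τ.2]
        exact τ.2
      · intro x
        rfl
      · intro τ
        exact Subtype.ext (hinl τ.1 τ.2)
    obtain ⟨g, hg⟩ := hT'cyc.exists_generator
    have h1 : orderOf g = p ^ 2 := by
      rw [← hT'card]
      exact orderOf_eq_card_of_forall_mem_zpowers hg
    have h2 : (g : L) ^ p = 1 := by
      have h3 := hTexp _ g.2
      rw [← map_pow] at h3
      exact congrArg SemidirectProduct.left h3
    have h3 : g ^ p = 1 := Subtype.ext (by simpa using h2)
    have h4 := orderOf_dvd_of_pow_eq_one h3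
    rw [h1] at h4
    have h5 := Nat.le_of_dvd hpp.pos h4
    nlinarith [hpp.two_le]
  -- the elements of the derived subgroup are central of order dividing `p`
  have hCc : ∀ c ∈ commutator L, c ^ p = 1 ∧ c ∈ Subgroup.center L := by
    intro c hc
    obtain ⟨k, hk⟩ := IsPGroup.iff_card.1 (hL.to_subgroup (commutator L))
    have hk1 : k ≤ 1 := by
      by_contra h
      have : p ^ 2 ≤ p ^ k := Nat.pow_le_pow_right hpp.pos (by omega)
      rw [← hk] at this
      nlinarith [hpp.two_le]
    rcases Nat.le_one_iff_eq_zero_or_eq_one.1 hk1 with rfl | rfl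
    · have h1 : Nat.card (commutator L) = 1 := by simpa using hk
      have h2 := (Subgroup.card_eq_one).1 h1
      rw [h2, Subgroup.mem_bot] at hc
      rw [hc]
      exact ⟨one_pow _, one_mem _⟩
    · have h1 : Nat.card (commutator L) = p := by simpa using hk
      refine ⟨?_, Cfsg.Agent.Lib.ExtraBasics.le_center_of_normal_of_card hL (commutator L) h1 hc⟩
      have h2 := pow_card_eq_one' (x := (⟨c, hc⟩ : commutator L))
      rw [h1] at h2
      have := congrArg Subtype.val h2
      simpa using this
  have hOmega : ∀ ω : L, ω ^ p = 1 → ∀ t : L, t * ω = ω * t := by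
    intro ω hω t
    obtain ⟨v, rfl⟩ := exists_root hp2 hL hm hnc hne hω
    have hc : ⁅t, v⁆ ∈ commutator L := Subgroup.commutator_mem_commutator (Subgroup.mem_top _) (Subgroup.mem_top _)
    obtain ⟨h1, h2⟩ := hCc _ hc
    have e : t * v * t⁻¹ = ⁅t, v⁆ * v := by
      rw [commutatorElement_def]
      group
    have e2 : t * v ^ p * t⁻¹ = v ^ p := by
      have hcv : Commute ⁅t, v⁆ v := (Subgroup.mem_center_iff.1 h2 v).symm
      rw [← conj_pow, e, hcv.mul_pow, h1, one_mul]
    calc t * v ^ p = t * v ^ p * t⁻¹ * t := by group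
      _ = v ^ p * t := by rw [e2]
  -- the conclusion
  have hbot : Gam (SemidirectProduct L ↥(Subgroup.zpowers a) (Subgroup.zpowers a).subtype) (m - 2 + 1) ≤ ⊥ := by
    refine Subgroup.commutator_le.2 ?_
    intro τ hτ g _
    rw [Subgroup.mem_bot, commutatorElement_eq_one_iff_mul_comm]
    have hτ' : τ ∈ T := hτ
    have h1 := hleft τ hτ'
    have h2 : a τ.left = τ.left := by
      by_cases h3 : τ.left = 1
      · rw [h3, map_one]
      · exact hfixall _ (orderOf_eq_prime h1 h3)
    apply SemidirectProduct.ext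
    · simp only [SemidirectProduct.mul_left]
      rw [hTL τ hτ', map_one, MulAut.one_apply]
      have h4 : ((Subgroup.zpowers a).subtype g.right) τ.left = τ.left := fix_of a h2 g.right.2
      rw [h4]
      exact (hOmega _ h1 g.left).symm
    · simp only [SemidirectProduct.mul_right]
      rw [hTL τ hτ', one_mul, mul_one]
  have h1 := hlev' (m - 2 + 1) (by omega) (by omega)
  rw [le_bot_iff.1 hbot, Subgroup.card_bot, show m + 1 - 1 - (m - 2 + 1) = 1 by omega, pow_one] at h1
  have := hpp.two_le
  omega

end Dir2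

/-- Let p be an odd prime and L a finite metacyclic p-group with no cyclic subgroup of index p, and let a be an automorphism of L of order p. Then a moves some element of order p of L if and only if p = 3 and the semidirect product L ⋊ ⟨a⟩ (of order 3·#L) has maximal class, i.e. nilpotency class m where #L = 3^m. -/
theorem result {L : Type*} [Group L] [Finite L] {p : ℕ} [Fact p.Prime]
    (hp : p ≠ 2) (hL : IsPGroup p L) (hmc : Cfsg.IsMetacyclic L) (hnc : ∀ C : Subgroup L, IsCyclic C → C.index ≠ p)
    (a : MulAut L) (ha : orderOf a = p) (m : ℕ) (hm : Nat.card L = p ^ m) :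
    (∃ x : L, orderOf x = p ∧ a x ≠ x) ↔
    (p = 3 ∧ Group.nilpotencyClass (SemidirectProduct L ↥(Subgroup.zpowers a) (Subgroup.zpowers a).subtype) = m) := by
  have hpp : p.Prime := Fact.out
  have hnt : Nontrivial L := by
    by_contra h
    rw [not_nontrivial_iff_subsingleton] at h
    have h1 : a = 1 := by
      ext x
      exact Subsingleton.elim _ _
    rw [h1, orderOf_one] at ha
    exact hpp.one_lt.ne ha
  constructor
  · rintro ⟨x, hxo, hx⟩
    have hxp : x ^ p = 1 := by
      rw [← hxo]
      exact pow_orderOf_eq_one x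
    obtain ⟨hp3, z, hz1, hzp, hza, hfix⟩ := fixed_of_moved hp hL hmc hnc a ha hxp hx
    refine ⟨hp3, ?_⟩
    haveI := finite_SD a
    have hcard : Nat.card (SemidirectProduct L ↥(Subgroup.zpowers a) (Subgroup.zpowers a).subtype) = p ^ (m + 1) := by
      rw [card_SD, hm, ha, pow_succ]
    have hA : Nat.card (AG a z hza) = p ^ 2 := by
      rw [card_AG, orderOf_eq_prime hzp hz1, ha, pow_two]
    have h := Cfsg.Agent.S0112.result (m + 1) hcard (AG a z hza) hA (centralizer_AG a z hza hfix)
    simpa using h
  · rintro ⟨hp3, hcl⟩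
    by_contra hcon
    push Not at hcon
    exact dir2 hp hL hmc hnc a ha m hm hp3 hcl hcon

end Cfsg.Agent.S4079
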