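import Mathlib
import Cfsg.Statements.S4082
import Cfsg.Agent.Lib.PCore
import Cfsg.Agent.Lib.PClasses
import Cfsg.Agent.Lib.PiClasses
import Cfsg.Agent.Lib.DihedralIso
import Cfsg.Agent.S3912
-- import your own Cfsg.Agent.* helpers here

set_option autoImplicit false
open Cfsg

namespace Cfsg.Agent.S4082


open Cfsg.Agent.Lib.PCore Cfsg.Agent.Lib.PClasses Cfsg.Agent.Lib.PiClasses

variable {G : Type*} [Group G] [Finite G] {p : ℕ} [hpf : Fact p.Prime]

/-- The subgroup `T⟨y⟩` for `y` normalizing `T`. -/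
def mulZ (T : Subgroup G) (y : G) (hy : y ∈ Subgroup.normalizer (T : Set G)) : Subgroup G where
  carrier := {g | ∃ t ∈ T, ∃ k : ℤ, g = t * y ^ k}
  mul_mem' := by
    rintro _ _ ⟨t, ht, k, rfl⟩ ⟨t', ht', m, rfl⟩
    have hn : y ^ k ∈ Subgroup.normalizer (T : Set G) := Subgroup.zpow_mem _ hy k
    have h1 := (Subgroup.mem_normalizer_iff.mp hn t').mp ht'
    refine ⟨t * (y ^ k * t' * (y ^ k)⁻¹), T.mul_mem ht h1, k + m, ?_⟩
    rw [zpow_add]
    group
  one_mem' := ⟨1, T.one_mem, 0, by simp⟩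
  inv_mem' := by
    rintro _ ⟨t, ht, k, rfl⟩
    have hn : y ^ (-k) ∈ Subgroup.normalizer (T : Set G) := Subgroup.zpow_mem _ hy (-k)
    have h1 := (Subgroup.mem_normalizer_iff.mp hn t⁻¹).mp (T.inv_mem ht)
    refine ⟨y ^ (-k) * t⁻¹ * (y ^ (-k))⁻¹, h1, -k, ?_⟩
    group

theorem mem_mulZ_left {T : Subgroup G} {y : G} {hy : y ∈ Subgroup.normalizer (T : Set G)} {t : G}
    (ht : t ∈ T) : t ∈ mulZ T y hy := ⟨t, ht, 0, by simp⟩

theorem mem_mulZ_right {T : Subgroup G} {y : G} (hy : y ∈ Subgroup.normalizer (T : Set G)) :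
    y ∈ mulZ T y hy := ⟨1, T.one_mem, 1, by simp⟩

/-- The hypothesis on `p`-by-cyclic subgroups. -/
def RR (p : ℕ) (G : Type*) [Group G] [Fact p.Prime] [Finite G] : Prop :=
  ∀ H : Subgroup G, (∀ S : Sylow p ↥H, (S : Subgroup ↥H).Normal) →
    (∀ (S : Sylow p ↥H) [(S : Subgroup ↥H).Normal], IsCyclic (↥H ⧸ (S : Subgroup ↥H))) →
    IsCyclic H ∨ (∃ n : ℕ, Nonempty (H ≃* DihedralGroup (p ^ n)))

/-- The key lemma from the hypothesis. -/
theorem lemmaD (hR : RR p G) (hp2 : p ≠ 2) (T : Subgroup G) (hT : IsPGroup p T) (y : G)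
    (hy : y ∈ Subgroup.normalizer (T : Set G)) (hpy : ¬ p ∣ orderOf y) :
    (∀ t ∈ T, y * t = t * y) ∨ (y ^ 2 = 1 ∧ ∀ t ∈ T, y * t * y⁻¹ = t⁻¹) := by
  set H := mulZ T y hy with hH
  set yH : H := ⟨y, mem_mulZ_right hy⟩ with hyH
  set T' : Subgroup H := T.subgroupOf H with hT'
  have hT'n : T'.Normal := by
    constructor
    rintro ⟨a, ha⟩ haT' ⟨b, t0, ht0, k, hb⟩
    rw [hT', Subgroup.mem_subgroupOf] at haT' ⊢
    have hn : y ^ k ∈ Subgroup.normalizer (T : Set G) := Subgroup.zpow_mem _ hy k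
    have h1 := (Subgroup.mem_normalizer_iff.mp hn a).mp haT'
    have h2 := T.mul_mem (T.mul_mem ht0 h1) (T.inv_mem ht0)
    have h3 : b * a * b⁻¹ = t0 * (y ^ k * a * (y ^ k)⁻¹) * t0⁻¹ := by
      rw [hb]; group
    show b * a * b⁻¹ ∈ T
    rw [h3]
    exact h2
  have hT'p : IsPGroup p T' := hT.comap_of_injective H.subtype H.subtype_injective
  have hgen : ∀ (S : Subgroup H) [S.Normal], T' ≤ S → ∀ z : H ⧸ S,
      z ∈ Subgroup.zpowers ((yH : H) : H ⧸ S) := by
    intro S _ hS z
    induction z using QuotientGroup.induction_on with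
    | H h =>
      obtain ⟨b, t0, ht0, k, hb⟩ := h
      refine ⟨k, ?_⟩
      have h1 : (⟨t0, mem_mulZ_left ht0⟩ : H) ∈ S := hS (by
        rw [hT', Subgroup.mem_subgroupOf]; exact ht0)
      have h2 : ((⟨t0, mem_mulZ_left ht0⟩ : H) : H ⧸ S) = 1 := (QuotientGroup.eq_one_iff _).mpr h1
      have h3 : (⟨b, t0, ht0, k, hb⟩ : H) = ⟨t0, mem_mulZ_left ht0⟩ * yH ^ k := by
        apply Subtype.ext
        simpa [hyH] using hb
      show ((yH : H) : H ⧸ S) ^ k = _
      rw [h3, QuotientGroup.mk_mul, h2, one_mul, QuotientGroup.mk_zpow]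
  have hcardq : ¬ p ∣ Nat.card (H ⧸ T') := by
    intro hd
    have h1 := orderOf_eq_card_of_forall_mem_zpowers (hgen T' le_rfl)
    rw [← h1] at hd
    have h2 : orderOf ((yH : H) : H ⧸ T') ∣ orderOf yH := by
      have := orderOf_map_dvd (QuotientGroup.mk' T') yH
      exact this
    have h3 : orderOf yH = orderOf y := Subgroup.orderOf_mk y _
    exact hpy (h3 ▸ hd.trans h2)
  have hSyl : ∀ S : Sylow p H, (S : Subgroup H) = T' := by
    intro S
    apply le_antisymm
    · intro s hs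
      obtain ⟨k, hk⟩ := IsPGroup.iff_orderOf.mp S.isPGroup' ⟨s, hs⟩
      rw [Subgroup.orderOf_mk] at hk
      have h1 : orderOf ((s : H) : H ⧸ T') ∣ p ^ k := by
        rw [← hk]
        exact orderOf_map_dvd (QuotientGroup.mk' T') s
      have h2 : orderOf ((s : H) : H ⧸ T') ∣ Nat.card (H ⧸ T') := orderOf_dvd_natCard _
      have h3 : (Nat.card (H ⧸ T')).Coprime (p ^ k) :=
        Nat.Coprime.pow_right _ ((Nat.Prime.coprime_iff_not_dvd hpf.out).mpr hcardq).symm
      have h4 := Nat.eq_one_of_dvd_coprimes h3 h2 h1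
      rw [orderOf_eq_one_iff] at h4
      exact (QuotientGroup.eq_one_iff s).mp h4
    · exact (le_pCore hT'n hT'p).trans (pCore_le_sylow p S)
  have hS1 : ∀ S : Sylow p H, T' ≤ (S : Subgroup H) := fun S => (hSyl S).ge
  rcases hR H (fun S => by rw [hSyl S]; exact hT'n) (fun S _ => ⟨_, hgen S (hS1 S)⟩) with hc | ⟨n, ⟨e⟩⟩
  · left
    intro t ht
    have h1 := (IsCyclic.isMulCommutative (α := H)).is_comm.comm yH ⟨t, mem_mulZ_left ht⟩
    exact congrArg Subtype.val h1
  · have hrot : ∀ t (ht : t ∈ T), ∃ i, e ⟨t, mem_mulZ_left ht⟩ = DihedralGroup.r i := by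
      intro t ht
      rcases hh : e ⟨t, mem_mulZ_left ht⟩ with i | i
      · exact ⟨i, rfl⟩
      · exfalso
        have h1 : orderOf (e ⟨t, mem_mulZ_left ht⟩) = 2 := by
          rw [hh]; exact DihedralGroup.orderOf_sr i
        rw [MulEquiv.orderOf_eq] at h1
        obtain ⟨k, hk⟩ := IsPGroup.iff_orderOf.mp hT ⟨t, ht⟩
        rw [Subgroup.orderOf_mk] at hk
        rw [Subgroup.orderOf_mk, hk] at h1
        have h2 : p ∣ 2 := by
          rw [← h1]
          apply dvd_pow_self
          rintro rfl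
          simp at h1
        exact hp2 ((Nat.prime_dvd_prime_iff_eq hpf.out Nat.prime_two).mp h2)
    rcases hy' : e yH with j | j
    · left
      intro t ht
      obtain ⟨i, hi⟩ := hrot t ht
      have h1 : yH * ⟨t, mem_mulZ_left ht⟩ = ⟨t, mem_mulZ_left ht⟩ * yH := by
        apply e.injective
        rw [map_mul, map_mul, hi, hy', DihedralGroup.r_mul_r, DihedralGroup.r_mul_r, add_comm]
      exact congrArg Subtype.val h1
    · right
      have hyy : yH * yH = 1 := by
        apply e.injective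
        rw [map_mul, hy', map_one, DihedralGroup.sr_mul_self]
      constructor
      · rw [pow_two]
        exact congrArg Subtype.val hyy
      · intro t ht
        obtain ⟨i, hi⟩ := hrot t ht
        have hyi : yH⁻¹ = yH := inv_eq_of_mul_eq_one_left hyy
        have h1 : yH * ⟨t, mem_mulZ_left ht⟩ * yH⁻¹ = (⟨t, mem_mulZ_left ht⟩ : H)⁻¹ := by
          apply e.injective
          rw [hyi, map_mul, map_mul, map_inv, hi, hy', DihedralGroup.sr_mul_r, DihedralGroup.sr_mul_sr]
          apply eq_inv_of_mul_eq_one_left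
          rw [DihedralGroup.r_mul_r, DihedralGroup.one_def]
          congr 1
          ring
        exact congrArg Subtype.val h1

/-- Decomposition into the `p`-part and the `p'`-part, as powers. -/
theorem part_decomp (x : G) : ∃ y ∈ Subgroup.zpowers x, ∃ z ∈ Subgroup.zpowers x, x = y * z ∧
    (∃ k : ℕ, orderOf y = p ^ k) ∧ ¬ p ∣ orderOf z := by
  obtain ⟨y, z, hx, hc, ⟨k, hk⟩, hz, -, -⟩ := exists_part_decomp p hpf.out x
  have hcop : Nat.Coprime (orderOf z) (p ^ k) :=
    Nat.Coprime.pow_right _ ((Nat.Prime.coprime_iff_not_dvd hpf.out).mpr hz).symm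
  have hcomm : Commute y z := hc
  have hxm : x ^ orderOf z = y ^ orderOf z := by
    rw [hx, hcomm.mul_pow, pow_orderOf_eq_one, mul_one]
  have hxn : x ^ (p ^ k) = z ^ (p ^ k) := by
    rw [hx, hcomm.mul_pow, ← hk, pow_orderOf_eq_one, one_mul]
  obtain ⟨a, b, hB⟩ : ∃ a b : ℤ, (orderOf z : ℤ) * a + ((p ^ k : ℕ) : ℤ) * b = 1 := by
    refine ⟨Nat.gcdA (orderOf z) (p ^ k), Nat.gcdB (orderOf z) (p ^ k), ?_⟩
    have h0 := Nat.gcd_eq_gcd_ab (orderOf z) (p ^ k)
    rw [hcop] at h0
    simpa using h0.symm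
  have hy : y ∈ Subgroup.zpowers x := by
    refine ⟨(orderOf z : ℤ) * a, ?_⟩
    show x ^ _ = y
    have e1 : x ^ ((orderOf z : ℤ) * a) = y ^ ((orderOf z : ℤ) * a) := by
      rw [zpow_mul, zpow_natCast, hxm, ← zpow_natCast, ← zpow_mul]
    have h2 : y ^ (((p ^ k : ℕ) : ℤ) * b) = 1 := by
      rw [zpow_mul, zpow_natCast, ← hk, pow_orderOf_eq_one, one_zpow]
    have e2 : y = y ^ ((orderOf z : ℤ) * a) := by
      calc y = y ^ (1 : ℤ) := (zpow_one y).symm
        _ = y ^ ((orderOf z : ℤ) * a + ((p ^ k : ℕ) : ℤ) * b) := by rw [hB]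
        _ = y ^ ((orderOf z : ℤ) * a) * y ^ (((p ^ k : ℕ) : ℤ) * b) := zpow_add _ _ _
        _ = y ^ ((orderOf z : ℤ) * a) := by rw [h2, mul_one]
    exact e1.trans e2.symm
  have hz' : z ∈ Subgroup.zpowers x := by
    refine ⟨((p ^ k : ℕ) : ℤ) * b, ?_⟩
    show x ^ _ = z
    have e1 : x ^ (((p ^ k : ℕ) : ℤ) * b) = z ^ (((p ^ k : ℕ) : ℤ) * b) := by
      rw [zpow_mul, zpow_natCast, hxn, ← zpow_natCast, ← zpow_mul]
    have h2 : z ^ ((orderOf z : ℤ) * a) = 1 := by
      rw [zpow_mul, zpow_natCast, pow_orderOf_eq_one, one_zpow]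
    have e2 : z = z ^ (((p ^ k : ℕ) : ℤ) * b) := by
      calc z = z ^ (1 : ℤ) := (zpow_one z).symm
        _ = z ^ ((orderOf z : ℤ) * a + ((p ^ k : ℕ) : ℤ) * b) := by rw [hB]
        _ = z ^ ((orderOf z : ℤ) * a) * z ^ (((p ^ k : ℕ) : ℤ) * b) := zpow_add _ _ _
        _ = z ^ (((p ^ k : ℕ) : ℤ) * b) := by rw [h2, one_mul]
    exact e1.trans e2.symm
  exact ⟨y, hy, z, hz', hx, ⟨k, hk⟩, hz⟩

/-- A `p`-element normalizing a subgroup of order `p` centralizes it. -/
theorem p_elt_centralizes (Q : Subgroup G) (hQ : Nat.card Q = p) (y : G)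
    (hy : y ∈ Subgroup.normalizer (Q : Set G)) (hk : ∃ k : ℕ, orderOf y = p ^ k) :
    y ∈ Subgroup.centralizer (Q : Set G) := by
  obtain ⟨k, hk⟩ := hk
  have hQc : IsCyclic Q := isCyclic_of_prime_card hQ
  let f : Q ≃* Q :=
    { toFun := fun q => ⟨y * q * y⁻¹, (Subgroup.mem_normalizer_iff.mp hy q).mp q.2⟩
      invFun := fun q => ⟨y⁻¹ * q * y, by
        have h1 := (Subgroup.mem_normalizer_iff.mp (Subgroup.inv_mem _ hy) q).mp q.2
        simpa using h1⟩
      left_inv := fun q => by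
        apply Subtype.ext
        simp only
        group
      right_inv := fun q => by
        apply Subtype.ext
        simp only
        group
      map_mul' := fun a b => by
        apply Subtype.ext
        simp only [Subgroup.coe_mul]
        group }
  have hfk : ∀ (m : ℕ) (q : Q), ((f ^ m) q : G) = y ^ m * q * (y ^ m)⁻¹ := by
    intro m q
    induction m with
    | zero => simp
    | succ m ih =>
      rw [pow_succ', MulAut.mul_apply]
      have : ((f ((f ^ m) q) : Q) : G) = y * ((f ^ m) q : G) * y⁻¹ := rfl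
      rw [this, ih, pow_succ']
      group
  have h1 : f ^ (p ^ k) = 1 := by
    ext q
    rw [hfk, ← hk, pow_orderOf_eq_one]
    simp
  have h2 : orderOf f ∣ p ^ k := orderOf_dvd_of_pow_eq_one h1
  have h3 : orderOf f ∣ Nat.card (MulAut Q) := orderOf_dvd_natCard f
  rw [IsCyclic.card_mulAut, hQ, Nat.totient_prime hpf.out] at h3
  have h4 : (p - 1).Coprime (p ^ k) := by
    apply Nat.Coprime.pow_right
    have := (Nat.coprime_self_sub_right (n := p) (m := 1) hpf.out.one_lt.le).mpr (Nat.coprime_one_right p)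
    exact this.symm
  have h5 := Nat.eq_one_of_dvd_coprimes h4 h3 h2
  rw [orderOf_eq_one_iff] at h5
  rw [Subgroup.mem_centralizer_iff]
  intro q hq
  have h6 : f ⟨q, hq⟩ = ⟨q, hq⟩ := by rw [h5]; rfl
  have h7 : y * q * y⁻¹ = q := congrArg Subtype.val h6
  rw [mul_inv_eq_iff_eq_mul] at h7
  exact h7.symm


/-- `Lemma E`: elements of `N(Q)` outside `C(Q)` are involutions. -/
theorem lemmaE (hR : RR p G) (hp2 : p ≠ 2) (Q : Subgroup G) (hQ : Nat.card Q = p) (x : G)
    (hxN : x ∈ Subgroup.normalizer (Q : Set G)) (hxC : x ∉ Subgroup.centralizer (Q : Set G)) :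
    x ^ 2 = 1 := by
  obtain ⟨y, hy, z, hz, hx, hyk, hzp⟩ := part_decomp (p := p) x
  have hzx : Subgroup.zpowers x ≤ Subgroup.normalizer (Q : Set G) := Subgroup.zpowers_le.mpr hxN
  have hyN := hzx hy
  have hzN := hzx hz
  have hyC := p_elt_centralizes Q hQ y hyN hyk
  have hzC : z ∉ Subgroup.centralizer (Q : Set G) := by
    intro h
    apply hxC
    rw [hx]
    exact Subgroup.mul_mem _ hyC h
  have hQp : IsPGroup p Q := by
    rw [IsPGroup.iff_card]
    exact ⟨1, by rw [hQ, pow_one]⟩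
  have hnc : ¬ ∀ t ∈ Q, z * t = t * z := by
    intro h
    apply hzC
    rw [Subgroup.mem_centralizer_iff]
    intro t ht
    exact (h t ht).symm
  rcases lemmaD hR hp2 Q hQp z hzN hzp with h1 | ⟨hz2, hinv⟩
  · exact absurd h1 hnc
  have hzi : z⁻¹ = z := inv_eq_of_mul_eq_one_left (by rw [← pow_two]; exact hz2)
  have hyz : y * z = z * y := by
    obtain ⟨a, rfl⟩ := hy
    obtain ⟨b, rfl⟩ := hz
    show x ^ a * x ^ b = x ^ b * x ^ a
    rw [← zpow_add, ← zpow_add, add_comm]
  -- the larger `p`-group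
  set T1 := mulZ Q y hyN with hT1
  obtain ⟨k, hk⟩ := hyk
  have hT1p : IsPGroup p T1 := by
    intro ⟨g, t, ht, m, hg⟩
    have hcomm : Commute t (y ^ m) := by
      have h2 : Commute t y := Subgroup.mem_centralizer_iff.mp hyC t ht
      exact h2.zpow_right m
    refine ⟨1 + k, ?_⟩
    apply Subtype.ext
    show g ^ p ^ (1 + k) = 1
    rw [hg, hcomm.mul_pow]
    have h3 : t ^ p ^ (1 + k) = 1 := by
      have h4 : t ^ p = 1 := by
        have := pow_card_eq_one' (G := Q) (x := ⟨t, ht⟩)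
        rw [hQ] at this
        exact congrArg Subtype.val this
      rw [pow_add, pow_one, pow_mul, h4, one_pow]
    have h5 : (y ^ m) ^ p ^ (1 + k) = 1 := by
      rw [← zpow_natCast, ← zpow_mul, mul_comm, zpow_mul]
      have : y ^ (((p ^ (1 + k) : ℕ)) : ℤ) = 1 := by
        rw [zpow_natCast, pow_add, pow_one, mul_comm, pow_mul, ← hk, pow_orderOf_eq_one, one_pow]
      rw [this, one_zpow]
    rw [h3, h5, one_mul]
  have hzN1 : z ∈ Subgroup.normalizer (T1 : Set G) := by
    have hfw : ∀ h ∈ T1, z * h * z⁻¹ ∈ T1 := by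
      rintro _ ⟨t, ht, m, rfl⟩
      have h1 := (Subgroup.mem_normalizer_iff.mp hzN t).mp ht
      refine ⟨z * t * z⁻¹, h1, m, ?_⟩
      have hcomm : Commute z (y ^ m) := (Commute.symm hyz).zpow_right m
      calc z * (t * y ^ m) * z⁻¹ = z * t * (y ^ m * z⁻¹) := by group
        _ = z * t * (z⁻¹ * y ^ m) := by
          rw [(hcomm.inv_left).eq]
        _ = z * t * z⁻¹ * y ^ m := by group
    rw [Subgroup.mem_normalizer_iff]
    intro h
    constructor
    · exact hfw h
    · intro h2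
      have h3 := hfw _ h2
      rw [hzi] at h3
      have h4 : z * (z * h * z) * z = h := by
        have h5 : z * z = 1 := by rw [← pow_two]; exact hz2
        calc z * (z * h * z) * z = (z * z) * h * (z * z) := by group
          _ = h := by rw [h5]; group
      rw [hzi] at h2
      rwa [h4] at h3
  rcases lemmaD hR hp2 T1 hT1p z hzN1 hzp with h1 | ⟨-, hinv1⟩
  · exact absurd (fun t ht => h1 t (mem_mulZ_left ht)) hnc
  have hy2 : y⁻¹ = y := by
    have h2 := hinv1 y (mem_mulZ_right hyN)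
    rw [← hyz, mul_assoc, mul_inv_cancel, mul_one] at h2
    exact h2.symm
  have hy1 : y = 1 := by
    have h3 : y ^ 2 = 1 := by
      rw [pow_two]
      nth_rewrite 1 [← hy2]
      exact inv_mul_cancel y
    have h4 : orderOf y ∣ 2 := orderOf_dvd_of_pow_eq_one h3
    rw [hk] at h4
    have h5 : k = 0 := by
      by_contra h6
      have h7 : p ∣ 2 := (dvd_pow_self p h6).trans h4
      exact hp2 ((Nat.prime_dvd_prime_iff_eq hpf.out Nat.prime_two).mp h7)
    rw [h5, pow_zero] at hk
    exact orderOf_eq_one_iff.mp hk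
  rw [hx, hy1, one_mul]
  exact hz2

/-- Consequences for the centralizer of `Q`. -/
theorem lemmaF (hR : RR p G) (hp2 : p ≠ 2) (Q : Subgroup G) (hQ : Nat.card Q = p) (x : G)
    (hxN : x ∈ Subgroup.normalizer (Q : Set G)) (hxC : x ∉ Subgroup.centralizer (Q : Set G)) :
    orderOf x = 2 ∧ ∀ c ∈ Subgroup.centralizer (Q : Set G), x * c * x⁻¹ = c⁻¹ := by
  have hx2 := lemmaE hR hp2 Q hQ x hxN hxC
  have hx1 : x ≠ 1 := by
    rintro rfl
    exact hxC (Subgroup.one_mem _)
  refine ⟨orderOf_eq_prime (hp := ⟨Nat.prime_two⟩) hx2 hx1, fun c hc => ?_⟩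
  have hcN : c ∈ Subgroup.normalizer (Q : Set G) :=
    Subgroup.centralizer_le_normalizer _ hc
  have h1 : x * c ∉ Subgroup.centralizer (Q : Set G) := by
    intro h
    apply hxC
    have := Subgroup.mul_mem _ h (Subgroup.inv_mem _ hc)
    simpa using this
  have h2 := lemmaE hR hp2 Q hQ (x * c) (Subgroup.mul_mem _ hxN hcN) h1
  have hxi : x⁻¹ = x := inv_eq_of_mul_eq_one_left (by rw [← pow_two]; exact hx2)
  rw [hxi]
  apply eq_inv_of_mul_eq_one_left
  rw [pow_two] at h2
  rw [← h2]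
  group

/-- Inversion on `C(Q)` forces `C(Q)` to be abelian. -/
theorem comm_of_inverting {C : Subgroup G} {z : G} (hz : ∀ c ∈ C, z * c * z⁻¹ = c⁻¹) :
    IsMulCommutative C := by
  refine ⟨⟨?_⟩⟩
  rintro ⟨a, ha⟩ ⟨b, hb⟩
  apply Subtype.ext
  show a * b = b * a
  have h1 := hz (a * b) (C.mul_mem ha hb)
  have h2 : z * (a * b) * z⁻¹ = (z * a * z⁻¹) * (z * b * z⁻¹) := by group
  rw [h2, hz a ha, hz b hb, mul_inv_rev] at h1
  have h3 : (a⁻¹ * b⁻¹)⁻¹ = (b⁻¹ * a⁻¹)⁻¹ := by rw [h1]
  have h4 : b * a = a * b := by simpa using h3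
  exact h4.symm

/-- A Sylow subgroup of a `p`-group is everything. -/
theorem sylow_eq_top_of_pgroup {X : Type*} [Group X] [Finite X] (hX : IsPGroup p X) (S : Sylow p X) :
    (S : Subgroup X) = ⊤ := by
  obtain ⟨a, ha⟩ := IsPGroup.iff_card.mp hX
  have h1 : (S : Subgroup X).index ∣ p ^ a := ha ▸ Subgroup.index_dvd_card _
  obtain ⟨b, -, hb⟩ := (Nat.dvd_prime_pow hpf.out).mp h1
  have hb0 : b = 0 := by
    by_contra hne
    exact S.not_dvd_index (hb ▸ dvd_pow_self p hne)
  rw [hb0, pow_zero] at hb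
  exact Subgroup.index_eq_one.mp hb

theorem isCyclic_sylow_of_RR (hR : RR p G) (hp2 : p ≠ 2) (P : Sylow p G) :
    IsCyclic (P : Subgroup G) := by
  have hPp : IsPGroup p (P : Subgroup G) := P.isPGroup'
  have hA : ∀ S : Sylow p (P : Subgroup G), ((S : Subgroup (P : Subgroup G))).Normal := by
    intro S
    rw [sylow_eq_top_of_pgroup hPp S]
    infer_instance
  have hB : ∀ (S : Sylow p (P : Subgroup G)) [((S : Subgroup (P : Subgroup G))).Normal],
      IsCyclic ((P : Subgroup G) ⧸ (S : Subgroup (P : Subgroup G))) := by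
    intro S _
    refine ⟨1, fun z => ?_⟩
    induction z using QuotientGroup.induction_on with
    | H h =>
      have : h ∈ (S : Subgroup (P : Subgroup G)) := by
        rw [sylow_eq_top_of_pgroup hPp S]; trivial
      have h1 : ((h : (P : Subgroup G)) : (P : Subgroup G) ⧸ (S : Subgroup (P : Subgroup G))) = 1 :=
        (QuotientGroup.eq_one_iff h).mpr this
      rw [h1]
      exact Subgroup.mem_zpowers _
  rcases hR (P : Subgroup G) hA hB with hc | ⟨n, ⟨e⟩⟩
  · exact hc
  · exfalso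
    have : NeZero (p ^ n) := ⟨pow_ne_zero _ hpf.out.ne_zero⟩
    have h1 := Nat.card_congr e.toEquiv
    rw [DihedralGroup.nat_card] at h1
    obtain ⟨a, ha⟩ := IsPGroup.iff_card.mp hPp
    have h2 : 2 ∣ p ^ a := by
      rw [← ha, h1]
      exact dvd_mul_right _ _
    have h3 := (Nat.prime_two.dvd_of_dvd_pow h2)
    exact hp2 ((Nat.prime_dvd_prime_iff_eq Nat.prime_two hpf.out).mp h3).symm

/-- The forward direction. -/
theorem forward (hR : RR p G) (hp2 : p ≠ 2) (P : Sylow p G) :
    IsCyclic (P : Subgroup G) ∧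
      (Subgroup.normalizer ((P : Subgroup G) : Set G) = Subgroup.centralizer ((P : Subgroup G) : Set G) ∨
       ((Subgroup.centralizer ((P : Subgroup G) : Set G)).relIndex (Subgroup.normalizer ((P : Subgroup G) : Set G)) = 2 ∧
        ∀ Q : Subgroup G, Q ≤ P → Nat.card Q = p →
          IsMulCommutative ↥(Subgroup.centralizer (Q : Set G)) ∧
          ∀ x : G, x ∈ Subgroup.normalizer (Q : Set G) → x ∉ Subgroup.centralizer (Q : Set G) →
            orderOf x = 2 ∧ ∀ c : G, c ∈ Subgroup.centralizer (Q : Set G) → x * c * x⁻¹ = c⁻¹)) := by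
  have hPc := isCyclic_sylow_of_RR hR hp2 P
  refine ⟨hPc, ?_⟩
  have hPcomm : ∀ a ∈ (P : Subgroup G), ∀ b ∈ (P : Subgroup G), a * b = b * a := by
    intro a ha b hb
    have h1 := (IsCyclic.isMulCommutative (α := (P : Subgroup G))).is_comm.comm ⟨a, ha⟩ ⟨b, hb⟩
    exact congrArg Subtype.val h1
  by_cases hNC : Subgroup.normalizer ((P : Subgroup G) : Set G) ≤ Subgroup.centralizer ((P : Subgroup G) : Set G)
  · left
    exact le_antisymm hNC (Subgroup.centralizer_le_normalizer _)
  right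
  -- every element of `N(P)` outside `C(P)` inverts `P`
  have hact : ∀ b ∈ Subgroup.normalizer ((P : Subgroup G) : Set G),
      b ∉ Subgroup.centralizer ((P : Subgroup G) : Set G) →
      ∀ u ∈ (P : Subgroup G), b * u * b⁻¹ = u⁻¹ := by
    intro b hbN hbC u hu
    obtain ⟨y, hy, z, hz, hb, ⟨k, hk⟩, hzp⟩ := part_decomp (p := p) b
    have hzb : Subgroup.zpowers b ≤ Subgroup.normalizer ((P : Subgroup G) : Set G) :=
      Subgroup.zpowers_le.mpr hbN
    have hyP : y ∈ (P : Subgroup G) := by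
      have hyp : IsPGroup p (Subgroup.zpowers y) := by
        rw [IsPGroup.iff_card, Nat.card_zpowers]
        exact ⟨k, hk⟩
      have h1 := hyp.inf_normalizer_sylow P
      have h2 : y ∈ Subgroup.zpowers y ⊓ Subgroup.normalizer ((P : Subgroup G) : Set G) :=
        ⟨Subgroup.mem_zpowers y, hzb hy⟩
      exact (h1.le h2).2
    have hyC : ∀ w ∈ (P : Subgroup G), y * w = w * y := fun w hw => hPcomm y hyP w hw
    rcases lemmaD hR hp2 (P : Subgroup G) P.isPGroup' z (hzb hz) hzp with h1 | ⟨-, h2⟩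
    · exfalso
      apply hbC
      rw [Subgroup.mem_centralizer_iff]
      intro w hw
      rw [hb]
      calc w * (y * z) = (w * y) * z := by group
        _ = (y * w) * z := by rw [hyC w hw]
        _ = y * (w * z) := by group
        _ = y * (z * w) := by rw [h1 w hw]
        _ = y * z * w := by group
    · rw [hb]
      have h3 := h2 u hu
      calc y * z * u * (y * z)⁻¹ = y * (z * u * z⁻¹) * y⁻¹ := by group
        _ = y * u⁻¹ * y⁻¹ := by rw [h3]
        _ = u⁻¹ := by
          rw [hyC u⁻¹ ((P : Subgroup G).inv_mem hu), mul_assoc, mul_inv_cancel, mul_one]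
  obtain ⟨t, htN, htC⟩ := SetLike.not_le_iff_exists.mp hNC
  have hPne : ∃ u ∈ (P : Subgroup G), u⁻¹ ≠ u := by
    by_contra hcon
    push Not at hcon
    apply htC
    rw [Subgroup.mem_centralizer_iff]
    intro w hw
    have h1 := hact t htN htC w hw
    rw [hcon w hw, mul_inv_eq_iff_eq_mul] at h1
    exact h1.symm
  obtain ⟨u0, hu0, hu0i⟩ := hPne
  refine ⟨?_, ?_⟩
  · show ((Subgroup.centralizer ((P : Subgroup G) : Set G)).subgroupOf
      (Subgroup.normalizer ((P : Subgroup G) : Set G))).index = 2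
    rw [Subgroup.index_eq_two_iff]
    refine ⟨⟨t, htN⟩, fun b => ?_⟩
    rw [Subgroup.mem_subgroupOf, Subgroup.mem_subgroupOf]
    by_cases hb : (b : G) ∈ Subgroup.centralizer ((P : Subgroup G) : Set G)
    · refine Or.inr ⟨hb, fun h => hu0i ?_⟩
      have h1 : ((b * ⟨t, htN⟩ : Subgroup.normalizer ((P : Subgroup G) : Set G)) : G) = b * t := rfl
      rw [h1] at h
      have h2 := hact t htN htC u0 hu0
      have h3 : (b : G) * t * u0 = u0 * (b * t) := (Subgroup.mem_centralizer_iff.mp h u0 hu0).symm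
      have h4 : t * u0 * t⁻¹ = u0 := by
        have h5 : (b : G) * (t * u0 * t⁻¹) * (b : G)⁻¹ = u0 := by
          calc (b : G) * (t * u0 * t⁻¹) * (b : G)⁻¹ = (b * t * u0) * (b * t)⁻¹ := by group
            _ = u0 := by rw [h3]; group
        have h6 : (b : G) * u0 * (b : G)⁻¹ = u0 := by
          have := (Subgroup.mem_centralizer_iff.mp hb u0 hu0).symm
          rw [this]; group
        have h7 := (Subgroup.mem_normalizer_iff.mp htN u0).mp hu0
        have h8 : (b : G) * (t * u0 * t⁻¹) = (t * u0 * t⁻¹) * b :=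
          (Subgroup.mem_centralizer_iff.mp hb _ h7).symm
        rw [h8] at h5
        simpa using h5
      rw [h2] at h4
      exact h4
    · refine Or.inl ⟨?_, hb⟩
      show (b : G) * t ∈ Subgroup.centralizer ((P : Subgroup G) : Set G)
      rw [Subgroup.mem_centralizer_iff]
      intro w hw
      have h2 := hact b b.2 hb
      have h3 := hact t htN htC
      have hwi : w⁻¹ ∈ (P : Subgroup G) := (P : Subgroup G).inv_mem hw
      have h4 : (b : G) * t * w * ((b : G) * t)⁻¹ = w := by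
        calc (b : G) * t * w * ((b : G) * t)⁻¹ = (b : G) * (t * w * t⁻¹) * (b : G)⁻¹ := by group
          _ = (b : G) * w⁻¹ * (b : G)⁻¹ := by rw [h3 w hw]
          _ = w := by rw [h2 w⁻¹ hwi, inv_inv]
      rw [mul_inv_eq_iff_eq_mul] at h4
      exact h4.symm
  · intro Q hQP hQ
    have hF := lemmaF hR hp2 Q hQ
    refine ⟨?_, fun x hxN hxC => ⟨(hF x hxN hxC).1, fun c hc => (hF x hxN hxC).2 c hc⟩⟩
    -- a decomposition of `t`
    have htQ : t ∈ Subgroup.normalizer (Q : Set G) := by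
      have hfw : ∀ h ∈ Q, t * h * t⁻¹ ∈ Q := by
        intro h hh
        rw [hact t htN htC h (hQP hh)]
        exact Q.inv_mem hh
      rw [Subgroup.mem_normalizer_iff]
      intro h
      refine ⟨hfw h, fun h2 => ?_⟩
      have h2' : t * h * t⁻¹ ∈ Q := h2
      have h4 := hact t htN htC (t * h * t⁻¹)⁻¹ ((P : Subgroup G).inv_mem (hQP h2'))
      rw [inv_inv] at h4
      have h5 : (t * h * t⁻¹)⁻¹ = h := by
        have h6 : t * ((t * h * t⁻¹)⁻¹) * t⁻¹ = t * h * t⁻¹ := h4
        calc (t * h * t⁻¹)⁻¹ = t⁻¹ * (t * ((t * h * t⁻¹)⁻¹) * t⁻¹) * t := by group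
          _ = t⁻¹ * (t * h * t⁻¹) * t := by rw [h6]
          _ = h := by group
      have h8 := Q.inv_mem h2'
      rw [h5] at h8
      exact h8
    have htQC : t ∉ Subgroup.centralizer (Q : Set G) := by
      intro hcon
      obtain ⟨q, hq⟩ := exists_prime_orderOf_dvd_card' (G := Q) p (by rw [hQ])
      have hq1 : orderOf (q : G) = p := (Subgroup.orderOf_coe q).trans hq
      have h1 := hact t htN htC q (hQP q.2)
      have h2 := Subgroup.mem_centralizer_iff.mp hcon q q.2
      rw [← h2, mul_assoc, mul_inv_cancel, mul_one] at h1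
      have h3 : (q : G) ^ 2 = 1 := by
        rw [pow_two]
        nth_rewrite 1 [h1]
        exact inv_mul_cancel _
      have h4 := orderOf_dvd_of_pow_eq_one h3
      rw [hq1] at h4
      exact hp2 ((Nat.prime_dvd_prime_iff_eq hpf.out Nat.prime_two).mp h4)
    exact comm_of_inverting (hF t htQ htQC).2


/-- An abelian group with a cyclic normal Sylow subgroup with cyclic quotient is cyclic. -/
theorem cyclic_of_abelian {H : Type*} [Group H] [Finite H] (hab : ∀ x y : H, x * y = y * x)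
    (S : Sylow p H) [hSn : (S : Subgroup H).Normal] (hcS : IsCyclic (S : Subgroup H))
    (hq : IsCyclic (H ⧸ (S : Subgroup H))) : IsCyclic H := by
  obtain ⟨s, hs⟩ := hcS.exists_generator
  obtain ⟨g₀, hg₀⟩ := hq.exists_generator
  obtain ⟨g, rfl⟩ := QuotientGroup.mk_surjective g₀
  obtain ⟨y, -, z, -, hgd, ⟨k, hk⟩, hzp⟩ := part_decomp (p := p) g
  have hcoprimeIdx : (Nat.card (H ⧸ (S : Subgroup H))).Coprime p := by
    refine Nat.Coprime.symm ?_
    apply (Nat.Prime.coprime_iff_not_dvd hpf.out).mpr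
    exact S.not_dvd_index
  have hyS : y ∈ (S : Subgroup H) := by
    have h1 : orderOf (y : H ⧸ (S : Subgroup H)) ∣ p ^ k := by
      rw [← hk]
      exact orderOf_map_dvd (QuotientGroup.mk' (S : Subgroup H)) y
    have h2 : orderOf (y : H ⧸ (S : Subgroup H)) ∣ Nat.card (H ⧸ (S : Subgroup H)) :=
      orderOf_dvd_natCard _
    have h3 := Nat.eq_one_of_dvd_coprimes (Nat.Coprime.pow_right _ hcoprimeIdx) h2 h1
    rw [orderOf_eq_one_iff] at h3
    exact (QuotientGroup.eq_one_iff y).mp h3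
  have hmkz : ((g : H) : H ⧸ (S : Subgroup H)) = ((z : H) : H ⧸ (S : Subgroup H)) := by
    rw [hgd, QuotientGroup.mk_mul, (QuotientGroup.eq_one_iff y).mpr hyS, one_mul]
  rw [hmkz] at hg₀
  have h1 : Nat.card (H ⧸ (S : Subgroup H)) ∣ orderOf z := by
    rw [← orderOf_eq_card_of_forall_mem_zpowers hg₀]
    exact orderOf_map_dvd (QuotientGroup.mk' (S : Subgroup H)) z
  have hos : orderOf (s : H) = Nat.card (S : Subgroup H) := by
    rw [Subgroup.orderOf_coe]
    exact orderOf_eq_card_of_forall_mem_zpowers hs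
  have hcop : (orderOf (s : H)).Coprime (orderOf z) := by
    rw [hos, S.card_eq_multiplicity]
    apply Nat.Coprime.pow_left
    exact (Nat.Prime.coprime_iff_not_dvd hpf.out).mpr hzp
  have hcomm : Commute (s : H) z := hab _ _
  have hord : orderOf ((s : H) * z) = orderOf (s : H) * orderOf z :=
    hcomm.orderOf_mul_eq_mul_orderOf_of_coprime hcop
  apply isCyclic_of_orderOf_eq_card ((s : H) * z)
  apply Nat.dvd_antisymm (orderOf_dvd_natCard _)
  rw [hord, hos, Subgroup.card_eq_card_quotient_mul_card_subgroup (S : Subgroup H), mul_comm]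
  exact Nat.mul_dvd_mul_left _ h1

/-- Elements of order prime to `p` and `p`-elements: the Sylow `S` contains every `p`-element. -/
theorem mem_sylow_of_normal {H : Type*} [Group H] [Finite H] (S : Sylow p H)
    [hSn : (S : Subgroup H).Normal] {y : H} {k : ℕ} (hk : orderOf y = p ^ k) :
    y ∈ (S : Subgroup H) := by
  have hcoprimeIdx : (Nat.card (H ⧸ (S : Subgroup H))).Coprime p := by
    refine Nat.Coprime.symm ?_
    apply (Nat.Prime.coprime_iff_not_dvd hpf.out).mpr
    exact S.not_dvd_index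
  have h1 : orderOf (y : H ⧸ (S : Subgroup H)) ∣ p ^ k := by
    rw [← hk]
    exact orderOf_map_dvd (QuotientGroup.mk' (S : Subgroup H)) y
  have h2 : orderOf (y : H ⧸ (S : Subgroup H)) ∣ Nat.card (H ⧸ (S : Subgroup H)) :=
    orderOf_dvd_natCard _
  have h3 := Nat.eq_one_of_dvd_coprimes (Nat.Coprime.pow_right _ hcoprimeIdx) h2 h1
  rw [orderOf_eq_one_iff] at h3
  exact (QuotientGroup.eq_one_iff y).mp h3

/-- A `p`-subgroup of a group with cyclic Sylow `p`-subgroups is cyclic. -/
theorem isCyclic_of_le_sylow (P : Sylow p G) (hP : IsCyclic (P : Subgroup G)) (X : Subgroup G)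
    (hX : IsPGroup p X) : IsCyclic X := by
  obtain ⟨P', hP'⟩ := hX.exists_le_sylow
  have hc : IsCyclic (P' : Subgroup G) :=
    isCyclic_of_surjective (Sylow.equiv P P').toMonoidHom (Sylow.equiv P P').surjective
  exact isCyclic_of_injective (Subgroup.inclusion hP') (Subgroup.inclusion_injective hP')

/-- Case `N(P) = C(P)`. -/
theorem backward_one (P : Sylow p G) (hP : IsCyclic (P : Subgroup G))
    (hNC : Subgroup.normalizer ((P : Subgroup G) : Set G) = Subgroup.centralizer ((P : Subgroup G) : Set G))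
    (H : Subgroup G) (S : Sylow p H) [hSn : (S : Subgroup H).Normal]
    (hq : IsCyclic (H ⧸ (S : Subgroup H))) : IsCyclic H := by
  obtain ⟨M, hMn, hMp, hMi, -⟩ := normal_data_of_complement (hasNormalPComplement_of_normalizer_le P hNC.le)
  -- p'-elements lie in `M`
  have hmem : ∀ g : G, ¬ p ∣ orderOf g → g ∈ M := by
    intro g hg
    have h1 : orderOf (g : G ⧸ M) ∣ orderOf g := orderOf_map_dvd (QuotientGroup.mk' M) g
    have h2 : orderOf (g : G ⧸ M) ∣ M.index := orderOf_dvd_natCard _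
    by_contra hnot
    have h3 : orderOf (g : G ⧸ M) ≠ 1 := by
      intro h4
      rw [orderOf_eq_one_iff] at h4
      exact hnot ((QuotientGroup.eq_one_iff g).mp h4)
    obtain ⟨s, hs, hsd⟩ := Nat.exists_prime_and_dvd h3
    have h5 := hMi s hs (hsd.trans h2)
    exact hg (h5 ▸ hsd.trans h1)
  have hSp : IsPGroup p ((S : Subgroup H).map H.subtype) := S.isPGroup'.map H.subtype
  have hScyc : IsCyclic ((S : Subgroup H).map H.subtype) := isCyclic_of_le_sylow P hP _ hSp
  have hScomm : ∀ a ∈ (S : Subgroup H), ∀ b ∈ (S : Subgroup H), a * b = b * a := by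
    intro a ha b hb
    have h1 := (IsCyclic.isMulCommutative (α := ((S : Subgroup H).map H.subtype))).is_comm.comm
      ⟨a, Subgroup.mem_map_of_mem _ ha⟩ ⟨b, Subgroup.mem_map_of_mem _ hb⟩
    have h4 : (a : G) * (b : G) = (b : G) * (a : G) := congrArg Subtype.val h1
    exact Subtype.ext h4
  -- `S ∩ M = 1`
  have hSM : ∀ a : H, a ∈ (S : Subgroup H) → (a : G) ∈ M → a = 1 := by
    intro a ha haM
    obtain ⟨k, hk⟩ := IsPGroup.iff_orderOf.mp S.isPGroup' ⟨a, ha⟩
    rw [Subgroup.orderOf_mk] at hk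
    have h1 : orderOf (a : G) ∣ Nat.card M := Subgroup.orderOf_dvd_natCard M haM
    have h2 : orderOf (a : G) = orderOf a := Subgroup.orderOf_coe a
    rw [h2, hk] at h1
    have h3 : k = 0 := by
      by_contra hne
      exact hMp ((dvd_pow_self p hne).trans h1)
    rw [h3, pow_zero] at hk
    exact orderOf_eq_one_iff.mp hk
  have hqab : ∀ a b : H, a * b * a⁻¹ * b⁻¹ ∈ (S : Subgroup H) := by
    intro a b
    have h1 := (IsCyclic.isMulCommutative (α := H ⧸ (S : Subgroup H))).is_comm.comm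
      (a : H ⧸ (S : Subgroup H)) b
    apply (QuotientGroup.eq_one_iff _).mp
    simp only [QuotientGroup.mk_mul, QuotientGroup.mk_inv]
    rw [h1]
    group
  have hcomm_pp' : ∀ a b : H, ¬ p ∣ orderOf a → b ∈ (S : Subgroup H) → a * b = b * a := by
    intro a b ha hb
    have ha' : (a : G) ∈ M := hmem a (by rwa [Subgroup.orderOf_coe])
    have hc1 : a * b * a⁻¹ * b⁻¹ ∈ (S : Subgroup H) := by
      have := hSn.conj_mem b hb a
      exact (S : Subgroup H).mul_mem this ((S : Subgroup H).inv_mem hb)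
    have hc2 : ((a * b * a⁻¹ * b⁻¹ : H) : G) ∈ M := by
      have h3 := hMn.conj_mem _ (M.inv_mem ha') (b : G)
      have h4 := M.mul_mem ha' h3
      have h5 : (((a * b * a⁻¹ * b⁻¹ : H) : G)) = (a : G) * ((b : G) * (a : G)⁻¹ * (b : G)⁻¹) := by
        push_cast
        group
      rw [h5]
      exact h4
    have h6 := hSM _ hc1 hc2
    have h7 : a * b * a⁻¹ * b⁻¹ * (b * a) = b * a := by rw [h6, one_mul]
    rw [← h7]
    group
  have hcomm_p'p' : ∀ a b : H, ¬ p ∣ orderOf a → ¬ p ∣ orderOf b → a * b = b * a := by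
    intro a b ha hb
    have ha' : (a : G) ∈ M := hmem a (by rwa [Subgroup.orderOf_coe])
    have hb' : (b : G) ∈ M := hmem b (by rwa [Subgroup.orderOf_coe])
    have hc2 : ((a * b * a⁻¹ * b⁻¹ : H) : G) ∈ M := by
      have h5 : (((a * b * a⁻¹ * b⁻¹ : H) : G)) = (a : G) * (b : G) * (a : G)⁻¹ * (b : G)⁻¹ := by
        push_cast
        group
      rw [h5]
      exact M.mul_mem (M.mul_mem (M.mul_mem ha' hb') (M.inv_mem ha')) (M.inv_mem hb')
    have h6 := hSM _ (hqab a b) hc2
    have h7 : a * b * a⁻¹ * b⁻¹ * (b * a) = b * a := by rw [h6, one_mul]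
    rw [← h7]
    group
  have hab : ∀ x y : H, x * y = y * x := by
    intro x y
    obtain ⟨s, -, a, -, hx, ⟨k, hk⟩, ha⟩ := part_decomp (p := p) x
    obtain ⟨s', -, b, -, hy, ⟨k', hk'⟩, hb⟩ := part_decomp (p := p) y
    have hs : s ∈ (S : Subgroup H) := mem_sylow_of_normal S hk
    have hs' : s' ∈ (S : Subgroup H) := mem_sylow_of_normal S hk'
    have e1 := hScomm s hs s' hs'
    have e2 := hcomm_pp' a s' ha hs'
    have e3 := hcomm_pp' b s hb hs
    have e4 := hcomm_p'p' a b ha hb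
    rw [hx, hy]
    calc s * a * (s' * b) = s * (a * s') * b := by group
      _ = s * (s' * a) * b := by rw [e2]
      _ = (s * s') * (a * b) := by group
      _ = (s' * s) * (b * a) := by rw [e1, e4]
      _ = s' * (s * b) * a := by group
      _ = s' * (b * s) * a := by rw [e3]
      _ = s' * b * (s * a) := by group
  have hcS : IsCyclic (S : Subgroup H) := by
    let f : (S : Subgroup H) →* ((S : Subgroup H).map H.subtype) :=
      { toFun := fun a => ⟨a, Subgroup.mem_map_of_mem _ a.2⟩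
        map_one' := rfl
        map_mul' := fun _ _ => rfl }
    apply isCyclic_of_injective f
    intro a b hab
    have h1 : ((a : H) : G) = ((b : H) : G) :=
      congrArg (Subtype.val : ((S : Subgroup H).map H.subtype) → G) hab
    exact Subtype.ext (Subtype.ext h1)
  exact cyclic_of_abelian hab S hcS hq


theorem sq_eq_one_cyclic {C : Type*} [Group C] [Finite C] [IsCyclic C] {u v : C} (hu : u ^ 2 = 1)
    (hv : v ^ 2 = 1) (hu1 : u ≠ 1) (hv1 : v ≠ 1) : u = v := by
  classical
  letI := Fintype.ofFinite C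
  by_contra hne
  have h1 := IsCyclic.card_pow_eq_one_le (α := C) (n := 2) (by norm_num)
  have h2 : ({1, u, v} : Finset C) ⊆ Finset.univ.filter (fun a : C => a ^ 2 = 1) := by
    intro a ha
    simp only [Finset.mem_insert, Finset.mem_singleton] at ha
    rcases ha with rfl | rfl | rfl
    · simp
    · simpa using hu
    · simpa using hv
  have h3 := Finset.card_le_card h2
  have h4 : ({1, u, v} : Finset C).card = 3 := by
    rw [Finset.card_eq_three]
    exact ⟨1, u, v, hu1.symm, hv1.symm, hne, rfl⟩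
  omega

/-- Transfer of the second alternative to all subgroups of order `p`. -/
theorem transfer_two (P : Sylow p G)
    (h2 : ∀ Q : Subgroup G, Q ≤ P → Nat.card Q = p →
          IsMulCommutative ↥(Subgroup.centralizer (Q : Set G)) ∧
          ∀ x : G, x ∈ Subgroup.normalizer (Q : Set G) → x ∉ Subgroup.centralizer (Q : Set G) →
            orderOf x = 2 ∧ ∀ c : G, c ∈ Subgroup.centralizer (Q : Set G) → x * c * x⁻¹ = c⁻¹)
    (Q : Subgroup G) (hQ : Nat.card Q = p) :
    (∀ a ∈ Subgroup.centralizer (Q : Set G), ∀ b ∈ Subgroup.centralizer (Q : Set G), a * b = b * a) ∧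
    ∀ x : G, x ∈ Subgroup.normalizer (Q : Set G) → x ∉ Subgroup.centralizer (Q : Set G) →
      orderOf x = 2 ∧ ∀ c : G, c ∈ Subgroup.centralizer (Q : Set G) → x * c * x⁻¹ = c⁻¹ := by
  have hQp : IsPGroup p Q := by
    rw [IsPGroup.iff_card]
    exact ⟨1, by rw [hQ, pow_one]⟩
  obtain ⟨P', hP'⟩ := hQp.exists_le_sylow
  obtain ⟨g, hg⟩ := MulAction.exists_smul_eq G P' P
  set Q' := Q.map (MulAut.conj g).toMonoidHom with hQ'
  have hQ'P : Q' ≤ P := by
    rintro _ ⟨q, hq, rfl⟩
    rw [← hg]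
    rw [Sylow.coe_subgroup_smul, mem_conj_smul_iff]
    show g⁻¹ * (g * q * g⁻¹) * g ∈ (P' : Subgroup G)
    have e : g⁻¹ * (g * q * g⁻¹) * g = q := by group
    rw [e]
    exact hP' hq
  have hQ'c : Nat.card Q' = p := by
    rw [hQ', Subgroup.card_map_of_injective (MulAut.conj g).injective, hQ]
  obtain ⟨hA, hB⟩ := h2 Q' hQ'P hQ'c
  have hmemQ' : ∀ y, y ∈ Q' ↔ g⁻¹ * y * g ∈ Q := by
    intro y
    constructor
    · rintro ⟨q, hq, rfl⟩
      simpa [mul_assoc] using hq
    · intro h
      exact ⟨_, h, by simp [mul_assoc]⟩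
  have hC : ∀ c, c ∈ Subgroup.centralizer (Q : Set G) ↔
      g * c * g⁻¹ ∈ Subgroup.centralizer (Q' : Set G) := by
    intro c
    rw [Subgroup.mem_centralizer_iff, Subgroup.mem_centralizer_iff]
    constructor
    · rintro h _ ⟨q, hq, rfl⟩
      have := h q hq
      simp only [MulEquiv.coe_toMonoidHom, MulAut.conj_apply]
      calc g * q * g⁻¹ * (g * c * g⁻¹) = g * (q * c) * g⁻¹ := by group
        _ = g * (c * q) * g⁻¹ := by rw [this]
        _ = g * c * g⁻¹ * (g * q * g⁻¹) := by group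
    · intro h q hq
      have h1 := h (g * q * g⁻¹) ((hmemQ' _).mpr (by simpa [mul_assoc] using hq))
      have h2 : g * (q * c) * g⁻¹ = g * (c * q) * g⁻¹ := by
        calc g * (q * c) * g⁻¹ = g * q * g⁻¹ * (g * c * g⁻¹) := by group
          _ = g * c * g⁻¹ * (g * q * g⁻¹) := h1
          _ = g * (c * q) * g⁻¹ := by group
      simpa using h2
  have hN : ∀ c, c ∈ Subgroup.normalizer (Q : Set G) ↔
      g * c * g⁻¹ ∈ Subgroup.normalizer (Q' : Set G) := by
    intro c
    rw [Subgroup.mem_normalizer_iff, Subgroup.mem_normalizer_iff]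
    constructor
    · intro h y
      have h1 := h (g⁻¹ * y * g)
      rw [hmemQ', hmemQ']
      have e : g⁻¹ * (g * c * g⁻¹ * y * (g * c * g⁻¹)⁻¹) * g = c * (g⁻¹ * y * g) * c⁻¹ := by group
      rw [e]
      exact h1
    · intro h q
      have h1 := h (g * q * g⁻¹)
      rw [hmemQ', hmemQ'] at h1
      have e : g⁻¹ * (g * c * g⁻¹ * (g * q * g⁻¹) * (g * c * g⁻¹)⁻¹) * g = c * q * c⁻¹ := by group
      have e2 : g⁻¹ * (g * q * g⁻¹) * g = q := by group
      rw [e, e2] at h1
      exact h1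
  constructor
  · intro a ha b hb
    have h1 := hA.is_comm.comm ⟨_, (hC a).mp ha⟩ ⟨_, (hC b).mp hb⟩
    have h3 : g * a * g⁻¹ * (g * b * g⁻¹) = g * b * g⁻¹ * (g * a * g⁻¹) := congrArg Subtype.val h1
    have h4 : g * (a * b) * g⁻¹ = g * (b * a) * g⁻¹ := by
      calc g * (a * b) * g⁻¹ = g * a * g⁻¹ * (g * b * g⁻¹) := by group
        _ = g * b * g⁻¹ * (g * a * g⁻¹) := h3
        _ = g * (b * a) * g⁻¹ := by group
    simpa using h4
  · intro x hxN hxC
    have hxN' := (hN x).mp hxN
    have hxC' : g * x * g⁻¹ ∉ Subgroup.centralizer (Q' : Set G) := fun h => hxC ((hC x).mpr h)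
    obtain ⟨h1, h3⟩ := hB _ hxN' hxC'
    refine ⟨?_, fun c hc => ?_⟩
    · rw [← h1]
      have := orderOf_injective (MulAut.conj g).toMonoidHom (MulAut.conj g).injective x
      simpa using this.symm
    · have h4 := h3 _ ((hC c).mp hc)
      have h5 : g * (x * c * x⁻¹) * g⁻¹ = g * c⁻¹ * g⁻¹ := by
        calc g * (x * c * x⁻¹) * g⁻¹ = g * x * g⁻¹ * (g * c * g⁻¹) * (g * x * g⁻¹)⁻¹ := by group
          _ = (g * c * g⁻¹)⁻¹ := h4
          _ = g * c⁻¹ * g⁻¹ := by group
      simpa using h5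

/-- Case two of the backward direction. -/
theorem backward_two (P : Sylow p G) (hP : IsCyclic (P : Subgroup G)) (hp2 : p ≠ 2)
    (h2 : ∀ Q : Subgroup G, Nat.card Q = p →
      (∀ a ∈ Subgroup.centralizer (Q : Set G), ∀ b ∈ Subgroup.centralizer (Q : Set G), a * b = b * a) ∧
      ∀ x : G, x ∈ Subgroup.normalizer (Q : Set G) → x ∉ Subgroup.centralizer (Q : Set G) →
        orderOf x = 2 ∧ ∀ c : G, c ∈ Subgroup.centralizer (Q : Set G) → x * c * x⁻¹ = c⁻¹)
    (H : Subgroup G) (S : Sylow p H) [hSn : (S : Subgroup H).Normal]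
    (hq : IsCyclic (H ⧸ (S : Subgroup H))) :
    IsCyclic H ∨ (∃ n : ℕ, Nonempty (H ≃* DihedralGroup (p ^ n))) := by
  set X := (S : Subgroup H).map H.subtype with hX
  have hSp : IsPGroup p X := S.isPGroup'.map H.subtype
  have hXcyc : IsCyclic X := isCyclic_of_le_sylow P hP _ hSp
  have hcS : IsCyclic (S : Subgroup H) := by
    let f : (S : Subgroup H) →* X :=
      { toFun := fun a => ⟨a, Subgroup.mem_map_of_mem _ a.2⟩
        map_one' := rfl
        map_mul' := fun _ _ => rfl }
    apply isCyclic_of_injective f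
    intro a b hab
    have h1 : ((a : H) : G) = ((b : H) : G) := congrArg (Subtype.val : X → G) hab
    exact Subtype.ext (Subtype.ext h1)
  have hXcomm : ∀ a ∈ X, ∀ b ∈ X, a * b = b * a := by
    intro a ha b hb
    have h1 := (IsCyclic.isMulCommutative (α := X)).is_comm.comm ⟨a, ha⟩ ⟨b, hb⟩
    exact congrArg Subtype.val h1
  by_cases hSb : (S : Subgroup H) = ⊥
  · left
    let f : H →* H ⧸ (S : Subgroup H) := QuotientGroup.mk' _
    apply isCyclic_of_injective f
    rw [injective_iff_map_eq_one]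
    intro a ha
    have h1 : a ∈ (S : Subgroup H) := (QuotientGroup.eq_one_iff a).mp ha
    rw [hSb, Subgroup.mem_bot] at h1
    exact h1
  -- an element of order `p`
  have hne1 : Nat.card (S : Subgroup H) ≠ 1 := fun h => hSb (Subgroup.card_eq_one.mp h)
  obtain ⟨n, hn⟩ := IsPGroup.iff_card.mp S.isPGroup'
  have hn0 : n ≠ 0 := by
    rintro rfl
    exact hne1 (by simpa using hn)
  obtain ⟨q₀, hq₀⟩ := exists_prime_orderOf_dvd_card' (G := (S : Subgroup H)) p (by
    rw [hn]; exact dvd_pow_self p hn0)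
  set q : H := q₀.1 with hqdef
  have hqS : q ∈ (S : Subgroup H) := q₀.2
  have hqo : orderOf (q : G) = p := by
    rw [Subgroup.orderOf_coe, Subgroup.orderOf_coe]; exact hq₀
  set Q : Subgroup G := Subgroup.zpowers (q : G) with hQ
  have hQc : Nat.card Q = p := by rw [hQ, Nat.card_zpowers, hqo]
  obtain ⟨hCab, hF⟩ := h2 Q hQc
  -- `H` normalizes `Q`
  have hqX : (q : G) ∈ X := Subgroup.mem_map_of_mem _ hqS
  have hHN : H ≤ Subgroup.normalizer (Q : Set G) := by
    intro h hh
    have hfw : ∀ (k : G), k ∈ H → (k * (q : G) * k⁻¹) ∈ Q := by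
      intro k hk
      have h3 : (⟨k, hk⟩ : H) * q * (⟨k, hk⟩ : H)⁻¹ ∈ (S : Subgroup H) := hSn.conj_mem q hqS _
      have h4 : k * (q : G) * k⁻¹ ∈ X := ⟨_, h3, rfl⟩
      have h5 : Subgroup.zpowers (k * (q : G) * k⁻¹) = Subgroup.zpowers (q : G) := by
        have h6 := Cfsg.Agent.S3912.zpowers_eq_of_cyclic X h4 hqX (by
          have := orderOf_injective (MulAut.conj k).toMonoidHom (MulAut.conj k).injective (q : G)
          simpa using this)
        exact h6
      rw [hQ, ← h5]
      exact Subgroup.mem_zpowers _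
    have hfw' : ∀ (k : G), k ∈ H → ∀ y ∈ Q, k * y * k⁻¹ ∈ Q := by
      intro k hk y hy
      obtain ⟨m, rfl⟩ := hy
      have h3 : k * (q : G) ^ m * k⁻¹ = (k * (q : G) * k⁻¹) ^ m := by
        rw [conj_zpow]
      show k * (q : G) ^ m * k⁻¹ ∈ Q
      rw [h3]
      exact Q.zpow_mem (hfw k hk) m
    rw [Subgroup.mem_normalizer_iff]
    intro y
    constructor
    · exact hfw' h hh y
    · intro hy
      have h3 := hfw' h⁻¹ (H.inv_mem hh) _ hy
      simpa [mul_assoc] using h3
  have hXC : X ≤ Subgroup.centralizer (Q : Set G) := by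
    intro u hu
    rw [Subgroup.mem_centralizer_iff]
    rintro y ⟨m, rfl⟩
    have h3 : Commute (q : G) u := hXcomm _ hqX _ hu
    exact h3.zpow_left m
  by_cases hHC : H ≤ Subgroup.centralizer (Q : Set G)
  · left
    have hab : ∀ a b : H, a * b = b * a := by
      intro a b
      exact Subtype.ext (hCab _ (hHC a.2) _ (hHC b.2))
    exact cyclic_of_abelian hab S hcS hq
  right
  obtain ⟨x, hxH, hxC⟩ := SetLike.not_le_iff_exists.mp hHC
  obtain ⟨hxo, hxinv⟩ := hF x (hHN hxH) hxC
  have hx2 : x * x = 1 := by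
    rw [← pow_two, ← hxo]
    exact pow_orderOf_eq_one x
  have hxi : x⁻¹ = x := inv_eq_of_mul_eq_one_left hx2
  set xH : H := ⟨x, hxH⟩ with hxHdef
  have hxHS : xH ∉ (S : Subgroup H) := fun hc => hxC (hXC ⟨xH, hc, rfl⟩)
  have hqC : (q : G) ∈ Subgroup.centralizer (Q : Set G) := hXC hqX
  have hab : ∀ a b : H ⧸ (S : Subgroup H), a * b = b * a :=
    (IsCyclic.isMulCommutative (α := H ⧸ (S : Subgroup H))).is_comm.comm
  have hbarx : (xH : H ⧸ (S : Subgroup H)) ≠ 1 := fun h => hxHS ((QuotientGroup.eq_one_iff _).mp h)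
  have hbarx2 : (xH : H ⧸ (S : Subgroup H)) ^ 2 = 1 := by
    rw [pow_two, ← QuotientGroup.mk_mul]
    have : xH * xH = 1 := Subtype.ext hx2
    rw [this]
    rfl
  have hcase1 : ∀ h : H, (h : G) ∈ Subgroup.centralizer (Q : Set G) →
      (h : H ⧸ (S : Subgroup H)) = 1 ∨ (h : H ⧸ (S : Subgroup H)) = xH := by
    intro h hh
    have h1 : x * (h : G) * x⁻¹ = (h : G)⁻¹ := hxinv _ hh
    have h3 : xH * h * xH⁻¹ = h⁻¹ := Subtype.ext h1
    have h4 : (h : H ⧸ (S : Subgroup H)) ^ 2 = 1 := by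
      have h5 := congrArg (fun a : H => (a : H ⧸ (S : Subgroup H))) h3
      simp only [QuotientGroup.mk_mul, QuotientGroup.mk_inv] at h5
      rw [hab (xH : H ⧸ (S : Subgroup H)) (h : H ⧸ (S : Subgroup H)), mul_assoc, mul_inv_cancel, mul_one] at h5
      rw [pow_two]
      nth_rewrite 1 [h5]
      exact inv_mul_cancel _
    by_cases h6 : (h : H ⧸ (S : Subgroup H)) = 1
    · exact Or.inl h6
    · exact Or.inr (sq_eq_one_cyclic h4 hbarx2 h6 hbarx)
  have hclaim : ∀ z : H ⧸ (S : Subgroup H), z = 1 ∨ z = (xH : H ⧸ (S : Subgroup H)) := by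
    intro z
    induction z using QuotientGroup.induction_on with
    | H h =>
      by_cases hh : (h : G) ∈ Subgroup.centralizer (Q : Set G)
      · exact hcase1 h hh
      · obtain ⟨-, hhinv⟩ := hF h (hHN h.2) hh
        have hq1 : (h : G) * (q : G) * (h : G)⁻¹ = (q : G)⁻¹ := hhinv _ hqC
        have hq2 : x * (q : G) * x⁻¹ = (q : G)⁻¹ := hxinv _ hqC
        have hxhC : ((xH * h : H) : G) ∈ Subgroup.centralizer (Q : Set G) := by
          rw [Subgroup.mem_centralizer_iff]
          rintro y ⟨m, rfl⟩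
          have h3 : Commute (q : G) (x * (h : G)) := by
            show (q : G) * (x * (h : G)) = x * (h : G) * (q : G)
            have h4 : x * (h : G) * (q : G) * (x * (h : G))⁻¹ = (q : G) := by
              calc x * (h : G) * (q : G) * (x * (h : G))⁻¹ = x * ((h : G) * (q : G) * (h : G)⁻¹) * x⁻¹ := by group
                _ = x * (q : G)⁻¹ * x⁻¹ := by rw [hq1]
                _ = (x * (q : G) * x⁻¹)⁻¹ := by group
                _ = (q : G) := by rw [hq2, inv_inv]
            rw [mul_inv_eq_iff_eq_mul] at h4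
            exact h4.symm
          exact h3.zpow_left m
        rcases hcase1 _ hxhC with h5 | h5
        · right
          rw [QuotientGroup.mk_mul] at h5
          have h6 := eq_inv_of_mul_eq_one_right h5
          rw [h6]
          have h7 : (xH : H ⧸ (S : Subgroup H)) * xH = 1 := by
            rw [← pow_two]; exact hbarx2
          exact inv_eq_of_mul_eq_one_left h7
        · left
          rw [QuotientGroup.mk_mul] at h5
          exact mul_eq_left.mp h5
  have hcardq : Nat.card (H ⧸ (S : Subgroup H)) = 2 := by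
    rw [Nat.card_eq_two_iff]
    refine ⟨1, (xH : H ⧸ (S : Subgroup H)), hbarx.symm, ?_⟩
    ext z
    simp only [Set.mem_insert_iff, Set.mem_singleton_iff, Set.mem_univ, iff_true]
    exact hclaim z
  have hcardH : Nat.card H = 2 * p ^ n := by
    rw [Subgroup.card_eq_card_quotient_mul_card_subgroup (S : Subgroup H), hcardq, hn]
  obtain ⟨s₀, hs₀⟩ := hcS.exists_generator
  have hos : orderOf ((s₀ : (S : Subgroup H)) : H) = p ^ n := by
    rw [Subgroup.orderOf_coe, orderOf_eq_card_of_forall_mem_zpowers hs₀, hn]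
  set ζ : H := s₀.1 with hζ
  have hζS : ζ ∈ (S : Subgroup H) := s₀.2
  have hζC : (ζ : G) ∈ Subgroup.centralizer (Q : Set G) := hXC ⟨ζ, hζS, rfl⟩
  have : NeZero (p ^ n) := ⟨pow_ne_zero _ hpf.out.ne_zero⟩
  refine ⟨n, Cfsg.Agent.Lib.DihedralIso.nonempty_dihedral_of_card ζ xH ?_ ?_ ?_ hos ?_ hcardH⟩
  · rw [← hos]; exact pow_orderOf_eq_one ζ
  · exact Subtype.ext hx2
  · apply Subtype.ext
    have h1 := hxinv _ hζC
    rw [hxi] at h1
    exact h1
  · intro k hk
    apply hxHS
    rw [← hk]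
    exact Subgroup.pow_mem _ hζS k


/-- Let p be an odd prime and G a finite group with Sylow p-subgroup P. Say that G has restricted p-by-cyclic subgroups when every subgroup H of G whose Sylow p-subgroup is normal in H with cyclic quotient is itself cyclic or dihedral of order 2pⁿ for some n. Then G has restricted p-by-cyclic subgroups if and only if P is cyclic and one of the following holds: (1) N_G(P) = C_G(P); or (2) N_G(P)/C_G(P) has order 2 and, for the subgroup Q of order p of P, the centralizer C_G(Q) is abelian and every element of N_G(Q) outside C_G(Q) is an involution inverting every element of C_G(Q). -/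
theorem result {G : Type*} [Group G] [Finite G] {p : ℕ}
    [Fact p.Prime] (hp : p ≠ 2) (P : Sylow p G) :
    (∀ H : Subgroup G, (∀ S : Sylow p ↥H, (S : Subgroup ↥H).Normal) →
        (∀ (S : Sylow p ↥H) [(S : Subgroup ↥H).Normal], IsCyclic (↥H ⧸ (S : Subgroup ↥H))) →
        IsCyclic H ∨ (∃ n : ℕ, Nonempty (H ≃* DihedralGroup (p ^ n)))) ↔
    (IsCyclic P ∧
      (Subgroup.normalizer ((P : Subgroup G) : Set G) = Subgroup.centralizer ((P : Subgroup G) : Set G) ∨
       ((Subgroup.centralizer ((P : Subgroup G) : Set G)).relIndex (Subgroup.normalizer ((P : Subgroup G) : Set G)) = 2 ∧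
        ∀ Q : Subgroup G, Q ≤ P → Nat.card Q = p →
          IsMulCommutative ↥(Subgroup.centralizer (Q : Set G)) ∧
          ∀ x : G, x ∈ Subgroup.normalizer (Q : Set G) → x ∉ Subgroup.centralizer (Q : Set G) →
            orderOf x = 2 ∧ ∀ c : G, c ∈ Subgroup.centralizer (Q : Set G) → x * c * x⁻¹ = c⁻¹))) := by
  constructor
  · intro hR
    exact forward hR hp P
  · rintro ⟨hPc, h⟩ H hN hQ
    obtain ⟨S⟩ : Nonempty (Sylow p H) := inferInstance
    haveI := hN S
    have hq := hQ S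
    rcases h with h1 | ⟨-, h2⟩
    · exact Or.inl (backward_one P hPc h1 H S hq)
    · exact backward_two P hPc hp (transfer_two P h2) H S hq

end Cfsg.Agent.S4082
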