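import Mathlib
import Cfsg.Statements.S4083
import Cfsg.Agent.S4082
import Cfsg.Agent.S0228
import Cfsg.Agent.Lib.KleinTools
import Cfsg.Agent.Lib.DihedralIso
-- import your own Cfsg.Agent.* helpers here

set_option autoImplicit false
open Cfsg

namespace Cfsg.Agent.S4083


open Cfsg.Agent.Lib.PCore Cfsg.Agent.S4082 Cfsg.Agent.Lib.KleinTools DihedralGroup

section Abstract

variable {A : Type*} [Group A] [Finite A]

/-- Conjugation as an automorphism of a subgroup of a finite group that it maps into itself. -/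
theorem exists_conjAut (C : Subgroup A) (z : A) (hz : ∀ c ∈ C, z * c * z⁻¹ ∈ C) :
    ∃ f : MulAut C, ∀ (m : ℕ) (q : C), ((f ^ m) q : A) = z ^ m * q * (z ^ m)⁻¹ := by
  let f0 : C →* C :=
    { toFun := fun c => ⟨z * c * z⁻¹, hz c c.2⟩
      map_one' := by
        apply Subtype.ext
        simp
      map_mul' := fun a b => by
        apply Subtype.ext
        simp only [Subgroup.coe_mul]
        group }
  have hinj : Function.Injective f0 := by
    intro a b hab
    have h1 : z * (a : A) * z⁻¹ = z * (b : A) * z⁻¹ := congrArg Subtype.val hab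
    apply Subtype.ext
    simpa using h1
  have hbij : Function.Bijective f0 := ⟨hinj, Finite.surjective_of_injective hinj⟩
  let f : C ≃* C := MulEquiv.ofBijective f0 hbij
  refine ⟨f, fun m q => ?_⟩
  induction m with
  | zero => simp
  | succ m ih =>
    rw [pow_succ', MulAut.mul_apply]
    have h1 : ((f ((f ^ m) q) : C) : A) = z * ((f ^ m) q : A) * z⁻¹ := rfl
    rw [h1, ih, pow_succ']
    group

/-- An element of odd order normalizing a cyclic `2`-subgroup centralizes it. -/
theorem odd_centralizes_cyclic (C : Subgroup A) (hc : IsCyclic C) (hp : IsPGroup 2 C) (z : A)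
    (hz : ∀ c ∈ C, z * c * z⁻¹ ∈ C) (hzo : ¬ 2 ∣ orderOf z) : ∀ c ∈ C, z * c = c * z := by
  obtain ⟨f, hf⟩ := exists_conjAut C z hz
  have h1 : f ^ orderOf z = 1 := by
    ext q
    rw [hf, pow_orderOf_eq_one]
    simp
  have h2 : orderOf f ∣ orderOf z := orderOf_dvd_of_pow_eq_one h1
  have h3 : orderOf f ∣ Nat.card (MulAut C) := orderOf_dvd_natCard f
  rw [IsCyclic.card_mulAut] at h3
  obtain ⟨a, ha⟩ := IsPGroup.iff_card.mp hp
  rw [ha] at h3
  have h4 : ∃ b, (2 ^ a).totient = 2 ^ b := by
    rcases Nat.eq_zero_or_pos a with rfl | hpos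
    · exact ⟨0, by simp⟩
    · refine ⟨a - 1, ?_⟩
      rw [Nat.totient_prime_pow Nat.prime_two hpos]
      simp
  obtain ⟨b, hb⟩ := h4
  rw [hb] at h3
  obtain ⟨c, -, hc'⟩ := (Nat.dvd_prime_pow Nat.prime_two).mp h3
  have hc0 : c = 0 := by
    by_contra hne
    apply hzo
    rw [hc'] at h2
    exact (dvd_pow_self 2 hne).trans h2
  rw [hc0, pow_zero] at hc'
  rw [orderOf_eq_one_iff] at hc'
  intro q hq
  have h5 := hf 1 ⟨q, hq⟩
  rw [hc', one_pow, pow_one] at h5
  have h6 : q = z * q * z⁻¹ := by simpa using h5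
  calc z * q = (z * q * z⁻¹) * z := by group
    _ = q * z := by rw [← h6]

theorem exists_odd_gen (S : Sylow 2 A) [hSn : (S : Subgroup A).Normal]
    (hq : IsCyclic (A ⧸ (S : Subgroup A))) :
    ∃ z : A, ¬ 2 ∣ orderOf z ∧ ∀ h : A, ∃ s ∈ (S : Subgroup A), ∃ k : ℤ, h = s * z ^ k := by
  obtain ⟨g₀, hg₀⟩ := hq.exists_generator
  obtain ⟨g, rfl⟩ := QuotientGroup.mk_surjective g₀
  obtain ⟨y, -, z, -, hgd, ⟨k, hk⟩, hzp⟩ := part_decomp (p := 2) g
  have hyS : y ∈ (S : Subgroup A) := mem_sylow_of_normal S hk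
  have hmkz : ((g : A) : A ⧸ (S : Subgroup A)) = ((z : A) : A ⧸ (S : Subgroup A)) := by
    rw [hgd, QuotientGroup.mk_mul, (QuotientGroup.eq_one_iff y).mpr hyS, one_mul]
  rw [hmkz] at hg₀
  refine ⟨z, hzp, fun h => ?_⟩
  obtain ⟨m, hm⟩ := hg₀ (h : A ⧸ (S : Subgroup A))
  have h1 : ((z ^ m : A) : A ⧸ (S : Subgroup A)) = (h : A ⧸ (S : Subgroup A)) := by
    rw [QuotientGroup.mk_zpow]
    exact hm
  refine ⟨h * (z ^ m)⁻¹, ?_, m, by group⟩
  apply (QuotientGroup.eq_one_iff _).mp
  rw [QuotientGroup.mk_mul, QuotientGroup.mk_inv, h1, mul_inv_cancel]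

/-- The cyclic Sylow case. -/
theorem cyclic_case (S : Sylow 2 A) [hSn : (S : Subgroup A).Normal]
    (hq : IsCyclic (A ⧸ (S : Subgroup A))) (hcS : IsCyclic (S : Subgroup A)) : IsCyclic A := by
  obtain ⟨z, hzo, hgen⟩ := exists_odd_gen S hq
  have hSp : IsPGroup 2 (S : Subgroup A) := S.isPGroup'
  have hzS := odd_centralizes_cyclic (S : Subgroup A) hcS hSp z
    (fun c hc => hSn.conj_mem c hc z) hzo
  have hScomm : ∀ a ∈ (S : Subgroup A), ∀ b ∈ (S : Subgroup A), a * b = b * a := by
    intro a ha b hb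
    have h1 := (IsCyclic.isMulCommutative (α := (S : Subgroup A))).is_comm.comm ⟨a, ha⟩ ⟨b, hb⟩
    exact congrArg Subtype.val h1
  have hab : ∀ x y : A, x * y = y * x := by
    intro x y
    obtain ⟨s, hs, k, rfl⟩ := hgen x
    obtain ⟨s', hs', m, rfl⟩ := hgen y
    have e1 : Commute (z ^ k) s' := Commute.zpow_left (hzS s' hs') k
    have e2 : Commute (z ^ m) s := Commute.zpow_left (hzS s hs) m
    have e3 : Commute (z ^ k) (z ^ m) := (Commute.refl z).zpow_zpow k m
    have e4 : Commute s s' := hScomm s hs s' hs'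
    calc s * z ^ k * (s' * z ^ m) = s * (z ^ k * s') * z ^ m := by group
      _ = s * (s' * z ^ k) * z ^ m := by rw [e1.eq]
      _ = (s * s') * (z ^ k * z ^ m) := by group
      _ = (s' * s) * (z ^ m * z ^ k) := by rw [e4.eq, e3.eq]
      _ = s' * (s * z ^ m) * z ^ k := by group
      _ = s' * (z ^ m * s) * z ^ k := by rw [e2.eq]
      _ = s' * z ^ m * (s * z ^ k) := by group
  exact cyclic_of_abelian hab S hcS hq


theorem main_abstract (S : Sylow 2 A) [hSn : (S : Subgroup A).Normal]
    (hq : IsCyclic (A ⧸ (S : Subgroup A))) {n : ℕ}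
    (φ : (S : Subgroup A) →* DihedralGroup (2 ^ n)) (hφ : Function.Injective φ)
    (hV : ∀ K : Subgroup A, IsKleinFour K → ∀ x : A, (∀ k ∈ K, x * k = k * x) → x ∈ K) :
    IsCyclic A ∨ (∃ m : ℕ, Nonempty (A ≃* DihedralGroup (2 ^ m))) ∨
      Nonempty (A ≃* alternatingGroup (Fin 4)) := by
  by_cases hcS : IsCyclic (S : Subgroup A)
  · exact Or.inl (cyclic_case S hq hcS)
  have hne2 : NeZero (2 ^ n) := ⟨by positivity⟩
  have hSp : IsPGroup 2 (S : Subgroup A) := S.isPGroup'
  have hrinv : ∀ i : ZMod (2 ^ n), (r i)⁻¹ = r (-i) := by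
    intro i
    apply inv_eq_of_mul_eq_one_right
    rw [r_mul_r, add_neg_cancel]
    rfl
  -- rotations
  let Rot : Subgroup (S : Subgroup A) :=
    { carrier := {s | ∃ i, φ s = r i}
      mul_mem' := by
        rintro a b ⟨i, hi⟩ ⟨j, hj⟩
        exact ⟨i + j, by rw [map_mul, hi, hj, r_mul_r]⟩
      one_mem' := ⟨0, by rw [map_one]; rfl⟩
      inv_mem' := by
        rintro a ⟨i, hi⟩
        exact ⟨-i, by rw [map_inv, hi, hrinv]⟩ }
  have hmemRot : ∀ s, s ∈ Rot ↔ ∃ i, φ s = r i := fun s => Iff.rfl
  have hrz : ∀ i : ZMod (2 ^ n), (r i : DihedralGroup (2 ^ n)) ∈ Subgroup.zpowers (r 1 : DihedralGroup (2 ^ n)) := by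
    intro i
    refine ⟨(i.val : ℤ), ?_⟩
    show (r 1 : DihedralGroup (2 ^ n)) ^ ((i.val : ℤ)) = r i
    rw [zpow_natCast, r_one_pow, ZMod.natCast_zmod_val]
  have hRotCyc : IsCyclic Rot := by
    let f : Rot →* Subgroup.zpowers (r 1 : DihedralGroup (2 ^ n)) :=
      (φ.comp Rot.subtype).codRestrict _ (fun s => by
        obtain ⟨i, hi⟩ := s.2
        show φ s ∈ _
        rw [hi]
        exact hrz i)
    apply isCyclic_of_injective f
    intro a b hab
    have h1 : φ a = φ b := congrArg Subtype.val hab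
    exact Subtype.ext (hφ h1)
  obtain ⟨t, j, hφt⟩ : ∃ t : (S : Subgroup A), ∃ j, φ t = sr j := by
    by_contra hcon
    push Not at hcon
    apply hcS
    have hall : ∀ s : (S : Subgroup A), φ s ∈ Subgroup.zpowers (r 1 : DihedralGroup (2 ^ n)) := by
      intro s
      rcases hs : φ s with i | i
      · exact hrz i
      · exact absurd hs (hcon s i)
    exact isCyclic_of_injective (φ.codRestrict _ hall) (fun a b hab => hφ (congrArg Subtype.val hab))
  have htRot : t ∉ Rot := by
    rintro ⟨i, hi⟩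
    rw [hφt] at hi
    cases hi
  have htt : t * t = 1 := by
    apply hφ
    rw [map_mul, hφt, sr_mul_self, map_one]
  have hinv : ∀ c ∈ Rot, t * c * t = c⁻¹ := by
    rintro c ⟨i, hi⟩
    apply hφ
    rw [map_mul, map_mul, map_inv, hi, hφt, hrinv, sr_mul_r, sr_mul_sr]
    congr 1
    ring
  have hcases : ∀ s : (S : Subgroup A), s ∈ Rot ∨ ∃ c ∈ Rot, s = t * c := by
    intro s
    rcases hs : φ s with i | i
    · exact Or.inl ⟨i, hs⟩
    · refine Or.inr ⟨t * s, ⟨i - j, ?_⟩, ?_⟩
      · rw [map_mul, hφt, hs, sr_mul_sr]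
      · rw [← mul_assoc, htt, one_mul]
  have hsq : ∀ c ∈ Rot, (t * c) * (t * c) = 1 := by
    intro c hc
    calc (t * c) * (t * c) = (t * c * t) * c := by group
      _ = 1 := by rw [hinv c hc, inv_mul_cancel]
  have hindex : Rot.index = 2 := by
    rw [Subgroup.index_eq_two_iff]
    refine ⟨t, fun b => ?_⟩
    by_cases hb : b ∈ Rot
    · refine Or.inr ⟨hb, fun h => htRot ?_⟩
      have := Rot.mul_mem (Rot.inv_mem hb) h
      simpa using this
    · refine Or.inl ⟨?_, hb⟩
      rcases hcases b with h | ⟨c, hc, rfl⟩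
      · exact absurd h hb
      · rw [hinv c hc]
        exact Rot.inv_mem hc
  have hcardS : Nat.card (S : Subgroup A) = Nat.card Rot * 2 := by
    rw [← Subgroup.card_mul_index Rot, hindex]
  have hRotp : IsPGroup 2 Rot := hSp.to_subgroup Rot
  obtain ⟨m, hm⟩ := IsPGroup.iff_card.mp hRotp
  have hm0 : m ≠ 0 := by
    rintro rfl
    apply hcS
    apply isCyclic_of_prime_card (p := 2)
    rw [hcardS, hm]
    norm_num
  obtain ⟨u, hu⟩ := exists_prime_orderOf_dvd_card' (G := Rot) 2 (by
    rw [hm]; exact dvd_pow_self 2 hm0)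
  have hRotIn : ∀ c : Rot, ((c : (S : Subgroup A)) : A) ∈ (S : Subgroup A) := fun c => (c : (S : Subgroup A)).2
  set tA : A := (t : A) with htA
  set uA : A := ((u : (S : Subgroup A)) : A) with huA
  have hou : orderOf uA = 2 := by
    rw [huA, Subgroup.orderOf_coe, Subgroup.orderOf_coe]
    exact hu
  have huA2 : uA ^ 2 = 1 := by
    rw [← hou]; exact pow_orderOf_eq_one uA
  have htA2 : tA ^ 2 = 1 := by
    rw [pow_two]
    exact congrArg Subtype.val htt
  have huA1 : uA ≠ 1 := by
    intro h
    rw [h, orderOf_one] at hou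
    omega
  have htA1 : tA ≠ 1 := by
    intro h
    apply htRot
    have : t = 1 := Subtype.ext h
    rw [this]
    exact Rot.one_mem
  have hutne : uA ≠ tA := by
    intro h
    apply htRot
    have : (u : (S : Subgroup A)) = t := Subtype.ext h
    rw [← this]
    exact u.2
  have huu : (u : (S : Subgroup A))⁻¹ = u := by
    apply inv_eq_of_mul_eq_one_left
    apply Subtype.ext
    show uA * uA = 1
    rw [← pow_two]
    exact huA2
  have hutc : uA * tA = tA * uA := by
    have h1 := hinv u u.2
    rw [huu] at h1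
    have h2 : tA * uA * tA = uA := congrArg Subtype.val h1
    have h3 : tA * tA = 1 := by rw [← pow_two]; exact htA2
    calc uA * tA = (tA * uA * tA) * tA := by rw [h2]
      _ = tA * uA * (tA * tA) := by group
      _ = tA * uA := by rw [h3, mul_one]
  set K := kleinOf uA tA huA2 htA2 hutc with hK
  have hKk : IsKleinFour K := isKleinFour_kleinOf huA2 htA2 hutc huA1 htA1 hutne
  have hKS : K ≤ (S : Subgroup A) := by
    intro x hx
    rcases mem_kleinOf.mp hx with rfl | rfl | rfl | rfl
    · exact Subgroup.one_mem _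
    · exact (u : (S : Subgroup A)).2
    · exact t.2
    · exact Subgroup.mul_mem _ (u : (S : Subgroup A)).2 t.2
  obtain ⟨z, hzo, hgen⟩ := exists_odd_gen S hq
  obtain ⟨ζ₀, hζ₀⟩ := hRotCyc.exists_generator
  set ζ : A := ((ζ₀ : (S : Subgroup A)) : A) with hζ
  have hoζ : orderOf ζ = 2 ^ m := by
    rw [hζ, Subgroup.orderOf_coe, Subgroup.orderOf_coe, orderOf_eq_card_of_forall_mem_zpowers hζ₀, hm]
  have hoddone : ∀ y : A, orderOf y ∣ orderOf z → (∃ e, orderOf y = 2 ^ e) → y = 1 := by
    rintro y hy ⟨e, he⟩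
    have he0 : e = 0 := by
      by_contra hne
      apply hzo
      rw [he] at hy
      exact (dvd_pow_self 2 hne).trans hy
    rw [he0, pow_zero] at he
    exact orderOf_eq_one_iff.mp he
  by_cases hzc : ∀ s ∈ (S : Subgroup A), z * s = s * z
  · right; left
    have hzK := hV K hKk z (fun k hk => hzc k (hKS hk))
    have hz2 := pow_two_of_mem_klein hKk hzK
    have hz1 : z = 1 := by
      have h1 := orderOf_dvd_of_pow_eq_one hz2
      obtain ⟨e, -, he⟩ := (Nat.dvd_prime_pow Nat.prime_two).mp (show orderOf z ∣ 2 ^ 1 by simpa using h1)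
      exact hoddone z dvd_rfl ⟨e, he⟩
    have hSgtop : (S : Subgroup A) = ⊤ := by
      rw [eq_top_iff]
      intro h _
      obtain ⟨s, hs, k, rfl⟩ := hgen h
      rw [hz1, one_zpow, mul_one]
      exact hs
    have hcardA : Nat.card A = 2 * 2 ^ m := by
      have h1 : Nat.card (S : Subgroup A) = Nat.card A := by
        rw [hSgtop]; exact Subgroup.card_top
      rw [← h1, hcardS, hm, mul_comm]
    have : NeZero (2 ^ m) := ⟨by positivity⟩
    refine ⟨m, Cfsg.Agent.Lib.DihedralIso.nonempty_dihedral_of_card ζ tA ?_ ?_ ?_ hoζ ?_ hcardA⟩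
    · rw [← hoζ]; exact pow_orderOf_eq_one ζ
    · rw [← pow_two]; exact htA2
    · have h1 := hinv ζ₀ ζ₀.2
      exact congrArg Subtype.val h1
    · intro k hk
      apply htRot
      have h1 : ((ζ₀ : (S : Subgroup A)) ^ k : (S : Subgroup A)) = t := Subtype.ext hk
      rw [← h1]
      exact Rot.pow_mem ζ₀.2 k
  · right; right
    -- the group of rotations in `A`
    set C : Subgroup A := Rot.map (S : Subgroup A).subtype with hCdef
    have hCmem : ∀ c : (S : Subgroup A), c ∈ Rot → (c : A) ∈ C := fun c hc => ⟨c, hc, rfl⟩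
    have hCcyc : IsCyclic C := by
      let e := Rot.equivMapOfInjective (S : Subgroup A).subtype (S : Subgroup A).subtype_injective
      exact isCyclic_of_surjective e.toMonoidHom e.surjective
    have hCp : IsPGroup 2 C := hRotp.map _
    have hm1 : m = 1 := by
      by_contra hne
      have hm2 : 2 ≤ m := by omega
      apply hzc
      have hzζ : z * ζ * z⁻¹ ∈ C := by
        set s' : (S : Subgroup A) := ⟨z * ζ * z⁻¹, hSn.conj_mem ζ (ζ₀ : (S : Subgroup A)).2 z⟩ with hs'
        rcases hcases s' with h | ⟨c, hc, h⟩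
        · exact hCmem s' h
        · exfalso
          have h1 : s' * s' = 1 := by rw [h]; exact hsq c hc
          have h2 : (z * ζ * z⁻¹) * (z * ζ * z⁻¹) = 1 := congrArg Subtype.val h1
          have h3 : ζ * ζ = 1 := by
            have : z * (ζ * ζ) * z⁻¹ = 1 := by
              rw [← h2]; group
            simpa using this
          have h4 : orderOf ζ ∣ 2 := orderOf_dvd_of_pow_eq_one (by rw [pow_two]; exact h3)
          rw [hoζ] at h4
          have h5 : 2 ^ 2 ∣ 2 ^ m := pow_dvd_pow 2 hm2
          have h6 := h5.trans h4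
          norm_num at h6
      have hzC : ∀ c ∈ C, z * c * z⁻¹ ∈ C := by
        rintro _ ⟨c, hc, rfl⟩
        obtain ⟨k, hk⟩ := hζ₀ ⟨c, hc⟩
        have h1 : (c : A) = ζ ^ k := by
          have h2 := congrArg (fun x : Rot => ((x : (S : Subgroup A)) : A)) hk
          simpa using h2.symm
        show z * (c : A) * z⁻¹ ∈ C
        have h2 : z * ζ ^ k * z⁻¹ = (z * ζ * z⁻¹) ^ k := (conj_zpow).symm
        rw [h1, h2]
        exact C.zpow_mem hzζ k
      have hzcomm := odd_centralizes_cyclic C hCcyc hCp z hzC hzo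
      set s' : (S : Subgroup A) := ⟨z * tA * z⁻¹, hSn.conj_mem tA t.2 z⟩ with hs'
      have hs'A : (s' : A) = z * tA * z⁻¹ := rfl
      rcases hcases s' with h | ⟨c, hc, h⟩
      · exfalso
        have h1 := hzcomm _ (hCmem s' h)
        apply htRot
        have h2 : t = s' := by
          apply Subtype.ext
          show tA = (s' : A)
          have h3 : z⁻¹ * (s' : A) * z = (s' : A) := by
            rw [mul_assoc, ← h1]; group
          rw [← h3, hs'A]; group
        rw [h2]
        exact h
      · have hcC : ((c : (S : Subgroup A)) : A) ∈ C := hCmem c hc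
        set cA : A := (c : A) with hcA
        have hzcA : z * cA = cA * z := hzcomm cA hcC
        have hst : z * tA * z⁻¹ = tA * cA := by
          rw [← hs'A, h]; rfl
        have hpow : ∀ k : ℕ, z ^ k * tA * (z ^ k)⁻¹ = tA * cA ^ k := by
          intro k
          induction k with
          | zero => simp
          | succ k ih =>
            have h1 : Commute z (cA ^ k) := Commute.pow_right hzcA k
            calc z ^ (k + 1) * tA * (z ^ (k + 1))⁻¹ = z * (z ^ k * tA * (z ^ k)⁻¹) * z⁻¹ := by
                  rw [pow_succ']; group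
              _ = z * (tA * cA ^ k) * z⁻¹ := by rw [ih]
              _ = (z * tA * z⁻¹) * (z * cA ^ k * z⁻¹) := by group
              _ = (tA * cA) * (cA ^ k) := by
                  rw [hst, h1.eq]; group
              _ = tA * cA ^ (k + 1) := by
                  rw [pow_succ']; group
        have hco : cA ^ orderOf z = 1 := by
          have h1 := hpow (orderOf z)
          rw [pow_orderOf_eq_one] at h1
          simpa using h1.symm
        have hc1 : cA = 1 := by
          apply hoddone cA (orderOf_dvd_of_pow_eq_one hco)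
          obtain ⟨e, he⟩ := IsPGroup.iff_orderOf.mp hCp ⟨cA, hcC⟩
          rw [Subgroup.orderOf_mk] at he
          exact ⟨e, he⟩
        have hzt : z * tA = tA * z := by
          rw [hc1, mul_one, mul_inv_eq_iff_eq_mul] at hst
          exact hst
        intro x hx
        rcases hcases ⟨x, hx⟩ with h1 | ⟨d, hd, h1⟩
        · exact hzcomm x (hCmem ⟨x, hx⟩ h1)
        · have h2 : x = tA * (d : A) := congrArg Subtype.val h1
          have h3 := hzcomm _ (hCmem d hd)
          rw [h2]
          calc z * (tA * (d : A)) = (z * tA) * (d : A) := by group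
            _ = (tA * z) * (d : A) := by rw [hzt]
            _ = tA * (z * (d : A)) := by group
            _ = tA * ((d : A) * z) := by rw [h3]
            _ = tA * (d : A) * z := by group
    have hcardS4 : Nat.card (S : Subgroup A) = 4 := by
      rw [hcardS, hm, hm1]
      norm_num
    have hKS' : K = (S : Subgroup A) := by
      apply Subgroup.eq_of_le_of_card_ge hKS
      rw [hcardS4, hKk.card_four]
    have hmemS : ∀ x ∈ (S : Subgroup A), x ∈ K := fun x hx => hKS' ▸ hx
    have hScomm : ∀ x ∈ (S : Subgroup A), ∀ y ∈ (S : Subgroup A), x * y = y * x := fun x hx y hy =>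
      comm_of_mem_klein hKk (hmemS x hx) (hmemS y hy)
    have hSsq : ∀ x ∈ (S : Subgroup A), x ^ 2 = 1 := fun x hx =>
      pow_two_of_mem_klein hKk (hmemS x hx)
    obtain ⟨f, hf⟩ := exists_conjAut (S : Subgroup A) z (fun c hc => hSn.conj_mem c hc z)
    have hf1 : f ^ orderOf z = 1 := by
      ext q
      rw [hf, pow_orderOf_eq_one]
      simp
    have hf2 : orderOf f ∣ orderOf z := orderOf_dvd_of_pow_eq_one hf1
    have hf3 : orderOf f ∣ 24 := by
      have h1 : orderOf (MulAut.toPerm (S : Subgroup A) f) = orderOf f :=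
        orderOf_injective (MulAut.toPerm (S : Subgroup A)) (fun a b h => by
          ext x
          exact congrArg Subtype.val (congrFun (congrArg DFunLike.coe h) x)) f
      rw [← h1]
      have h2 := orderOf_dvd_natCard (MulAut.toPerm (S : Subgroup A) f)
      rw [Nat.card_perm, hcardS4] at h2
      simpa [Nat.factorial] using h2
    have hf4 : orderOf f ∣ 3 := by
      have hcop : (orderOf f).Coprime 8 := by
        have h1 : (orderOf f).Coprime 2 := by
          refine Nat.Coprime.symm ?_
          apply (Nat.Prime.coprime_iff_not_dvd Nat.prime_two).mpr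
          exact fun h => hzo (h.trans hf2)
        have h2 : (8 : ℕ) = 2 ^ 3 := by norm_num
        rw [h2]
        exact Nat.Coprime.pow_right 3 h1
      have h3 : orderOf f ∣ 8 * 3 := by simpa using hf3
      exact hcop.dvd_of_dvd_mul_left h3
    have hf5 : f ^ 3 = 1 := orderOf_dvd_iff_pow_eq_one.mp hf4
    have hz3c : ∀ k ∈ K, z ^ 3 * k = k * z ^ 3 := by
      intro k hk
      have h1 := hf 3 ⟨k, hKS hk⟩
      rw [hf5] at h1
      have h2 : k = z ^ 3 * k * (z ^ 3)⁻¹ := by simpa using h1
      calc z ^ 3 * k = (z ^ 3 * k * (z ^ 3)⁻¹) * z ^ 3 := by group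
        _ = k * z ^ 3 := by rw [← h2]
    have hz3K := hV K hKk (z ^ 3) hz3c
    have hz31 : z ^ 3 = 1 := by
      have h1 := pow_two_of_mem_klein hKk hz3K
      have h2 := orderOf_dvd_of_pow_eq_one h1
      obtain ⟨e, -, he⟩ := (Nat.dvd_prime_pow Nat.prime_two).mp (show orderOf (z ^ 3) ∣ 2 ^ 1 by simpa using h2)
      exact hoddone (z ^ 3) (orderOf_pow_dvd 3) ⟨e, he⟩
    have hz1 : z ≠ 1 := by
      rintro rfl
      apply hzc
      intro s _
      simp
    have hoz : orderOf z = 3 := orderOf_eq_prime hz31 hz1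
    have hzS : z ∉ (S : Subgroup A) := by
      intro h
      have h1 := Subgroup.orderOf_dvd_natCard (S : Subgroup A) h
      rw [hoz, hcardS4] at h1
      omega
    have hmkz : ∀ y : A ⧸ (S : Subgroup A), y ∈ Subgroup.zpowers ((z : A) : A ⧸ (S : Subgroup A)) := by
      intro y
      induction y using QuotientGroup.induction_on with
      | H h =>
        obtain ⟨s, hs, k, rfl⟩ := hgen h
        refine ⟨k, ?_⟩
        show ((z : A) : A ⧸ (S : Subgroup A)) ^ k = _
        rw [QuotientGroup.mk_mul, (QuotientGroup.eq_one_iff s).mpr hs, one_mul, QuotientGroup.mk_zpow]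
    have hcardq : Nat.card (A ⧸ (S : Subgroup A)) = 3 := by
      rw [← orderOf_eq_card_of_forall_mem_zpowers hmkz]
      have h1 : orderOf ((z : A) : A ⧸ (S : Subgroup A)) ∣ 3 := by
        rw [← hoz]
        exact orderOf_map_dvd (QuotientGroup.mk' (S : Subgroup A)) z
      rcases (Nat.dvd_prime Nat.prime_three).mp h1 with h2 | h2
      · rw [orderOf_eq_one_iff] at h2
        exact absurd ((QuotientGroup.eq_one_iff z).mp h2) hzS
      · exact h2
    have hcard12 : Nat.card A = 12 := by
      rw [Subgroup.card_eq_card_quotient_mul_card_subgroup (S : Subgroup A), hcardq, hcardS4]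
    refine Cfsg.Agent.S0228.result hcard12 (fun w hw hwc => hzc ?_)
    have hwS : w ∈ (S : Subgroup A) := mem_sylow_of_normal S (k := 1) (by rw [hw, pow_one])
    have hzw : z * w = w * z := Subgroup.mem_center_iff.mp hwc z
    have hw2 : w ^ 2 = 1 := hSsq w hwS
    have hw1 : w ≠ 1 := by
      rintro rfl
      rw [orderOf_one] at hw
      omega
    intro x hx
    by_cases hx1 : x = 1
    · rw [hx1]; simp
    by_cases hxw : x = w
    · rw [hxw]; exact hzw
    have hK2 := isKleinFour_kleinOf hw2 (hSsq x hx) (hScomm w hwS x hx) hw1 hx1 (Ne.symm hxw)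
    set K2 := kleinOf w x hw2 (hSsq x hx) (hScomm w hwS x hx) with hK2def
    have hK2S : K2 ≤ (S : Subgroup A) := by
      intro y hy
      rcases mem_kleinOf.mp hy with rfl | rfl | rfl | rfl
      · exact Subgroup.one_mem _
      · exact hwS
      · exact hx
      · exact Subgroup.mul_mem _ hwS hx
    have hK2S' : K2 = (S : Subgroup A) := by
      apply Subgroup.eq_of_le_of_card_ge hK2S
      rw [hcardS4, hK2.card_four]
    have hy : z * x * z⁻¹ ∈ K2 := by
      rw [hK2S']
      exact hSn.conj_mem x hx z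
    have hinvz : z⁻¹ = z * z := by
      apply inv_eq_of_mul_eq_one_right
      have h1 : z ^ 3 = z * (z * z) := by rw [pow_succ, pow_two, mul_assoc]
      rw [← h1, hz31]
    rcases mem_kleinOf.mp hy with h | h | h | h
    · exfalso
      apply hx1
      have : z * x * z⁻¹ * z = z := by rw [h, one_mul]
      simpa using this
    · exfalso
      apply hxw
      have h2 : z * x * z⁻¹ = z * w * z⁻¹ := by
        rw [h, hzw]; group
      simpa using h2
    · rw [mul_inv_eq_iff_eq_mul] at h
      exact h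
    · exfalso
      -- `z` acts with order dividing `2` on `x`
      have h2 : z * (z * x * z⁻¹) * z⁻¹ = x := by
        rw [h]
        calc z * (w * x) * z⁻¹ = (z * w * z⁻¹) * (z * x * z⁻¹) := by group
          _ = w * (w * x) := by rw [h, hzw]; group
          _ = (w * w) * x := by group
          _ = x := by
            rw [← pow_two, hw2, one_mul]
      -- `z * z = z⁻¹` acts trivially on `x`
      have h3 : z⁻¹ * x * z⁻¹⁻¹ = x := by
        rw [hinvz]
        calc z * z * x * (z * z)⁻¹ = z * (z * x * z⁻¹) * z⁻¹ := by group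
          _ = x := h2
      have h4 : z * x * z⁻¹ = x := by
        have h5 : x = z⁻¹ * x * z := by
          simpa using h3.symm
        calc z * x * z⁻¹ = z * (z⁻¹ * x * z) * z⁻¹ := by rw [← h5]
          _ = x := by group
      rw [h4] at h
      apply hw1
      have h6 : x = w * x := h
      have h7 : x * x⁻¹ = w * x * x⁻¹ := by rw [← h6]
      simpa using h7.symm


end Abstract

variable {G : Type*} [Group G] [Finite G]

theorem not_comm_A4 : ¬ ∀ a b : alternatingGroup (Fin 4), a * b = b * a := by decide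

theorem centralizer_eq_of_R
    (hR : ∀ H : Subgroup G, (∀ S : Sylow 2 ↥H, (S : Subgroup ↥H).Normal) →
        (∀ (S : Sylow 2 ↥H) [(S : Subgroup ↥H).Normal], IsCyclic (↥H ⧸ (S : Subgroup ↥H))) →
        IsCyclic H ∨ (∃ n : ℕ, Nonempty (H ≃* DihedralGroup (2 ^ n))) ∨ Nonempty (H ≃* alternatingGroup (Fin 4)))
    (K : Subgroup G) (hKc : Nat.card K = 4) (hKe : ∀ k ∈ K, k ^ 2 = 1) :
    Subgroup.centralizer (K : Set G) = K := by
  have hKcomm := Cfsg.Agent.S3912.sq_comm hKe
  apply le_antisymm
  · intro x hx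
    have hxc : ∀ k ∈ K, k * x = x * k := fun k hk => Subgroup.mem_centralizer_iff.mp hx k hk
    have hxN : x ∈ Subgroup.normalizer (K : Set G) := by
      rw [Subgroup.mem_normalizer_iff]
      intro k
      have h : x * k * x⁻¹ ∈ K ↔ k ∈ K := by
        constructor
        · intro hk
          have h2 := hxc _ hk
          have h3 : x * k * x⁻¹ = (x * k * x⁻¹) := rfl
          have h4 : (x * k * x⁻¹) * x = x * (x * k * x⁻¹) := h2
          have h5 : k = x * k * x⁻¹ := by
            have h6 : x * k = x * (x * k * x⁻¹) := by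
              rw [← h4]; group
            exact mul_left_cancel h6
          rw [h5]; exact hk
        · intro hk
          have h2 := hxc k hk
          have h5 : x * k * x⁻¹ = k := by
            rw [← h2]; group
          rw [h5]; exact hk
      exact h.symm
    set H := mulZ K x hxN with hH
    have hKH : K ≤ H := fun k hk => mem_mulZ_left hk
    have hHcomm : ∀ a b : H, a * b = b * a := by
      rintro ⟨a, t, ht, k, rfl⟩ ⟨b, t', ht', m, rfl⟩
      apply Subtype.ext
      show t * x ^ k * (t' * x ^ m) = t' * x ^ m * (t * x ^ k)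
      have e1 : Commute (x ^ k) t' := (Commute.zpow_left (show Commute x t' from (hxc t' ht').symm) k)
      have e2 : Commute (x ^ m) t := (Commute.zpow_left (show Commute x t from (hxc t ht).symm) m)
      have e3 : Commute (x ^ k) (x ^ m) := (Commute.refl x).zpow_zpow k m
      have e4 : t * t' = t' * t := hKcomm t ht t' ht'
      calc t * x ^ k * (t' * x ^ m) = t * (x ^ k * t') * x ^ m := by group
        _ = t * (t' * x ^ k) * x ^ m := by rw [e1.eq]
        _ = (t * t') * (x ^ k * x ^ m) := by group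
        _ = (t' * t) * (x ^ m * x ^ k) := by rw [e4, e3.eq]
        _ = t' * (t * x ^ m) * x ^ k := by group
        _ = t' * (x ^ m * t) * x ^ k := by rw [e2.eq]
        _ = t' * x ^ m * (t * x ^ k) := by group
    have hNorm : ∀ S : Subgroup H, S.Normal := by
      intro S
      constructor
      intro a ha b
      rw [hHcomm b a, mul_assoc, mul_inv_cancel, mul_one]
      exact ha
    have hKS : ∀ (S : Sylow 2 H) [(S : Subgroup H).Normal], ∀ k (hk : k ∈ K),
        (⟨k, hKH hk⟩ : H) ∈ (S : Subgroup H) := by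
      intro S _ k hk
      have h1 : (⟨k, hKH hk⟩ : H) ^ 2 = 1 := Subtype.ext (hKe k hk)
      have h2 := orderOf_dvd_of_pow_eq_one h1
      obtain ⟨e, -, he⟩ := (Nat.dvd_prime_pow Nat.prime_two).mp (show orderOf _ ∣ 2 ^ 1 by rw [pow_one]; exact h2)
      exact mem_sylow_of_normal S he
    have hB : ∀ (S : Sylow 2 H) [(S : Subgroup H).Normal], IsCyclic (H ⧸ (S : Subgroup H)) := by
      intro S _
      refine ⟨(⟨x, mem_mulZ_right hxN⟩ : H), fun z => ?_⟩
      induction z using QuotientGroup.induction_on with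
      | H h =>
        obtain ⟨b, t0, ht0, k, hb⟩ := h
        refine ⟨k, ?_⟩
        have h1 := hKS S t0 ht0
        have h2 : ((⟨t0, hKH ht0⟩ : H) : H ⧸ (S : Subgroup H)) = 1 := (QuotientGroup.eq_one_iff _).mpr h1
        have h3 : (⟨b, t0, ht0, k, hb⟩ : H) = ⟨t0, hKH ht0⟩ * (⟨x, mem_mulZ_right hxN⟩ : H) ^ k := by
          apply Subtype.ext
          simpa using hb
        show (((⟨x, mem_mulZ_right hxN⟩ : H) : H) : H ⧸ (S : Subgroup H)) ^ k = _
        rw [h3, QuotientGroup.mk_mul, h2, one_mul, QuotientGroup.mk_zpow]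
    rcases hR H (fun S => hNorm S) hB with hc | ⟨n, ⟨e⟩⟩ | ⟨⟨e⟩⟩
    · exfalso
      have hKcyc : IsCyclic K := isCyclic_of_injective (Subgroup.inclusion hKH) (Subgroup.inclusion_injective hKH)
      obtain ⟨g, hg⟩ := hKcyc.exists_generator
      have h1 := orderOf_eq_card_of_forall_mem_zpowers hg
      rw [hKc] at h1
      have h2 : g ^ 2 = 1 := Subtype.ext (hKe g g.2)
      have h3 := orderOf_dvd_of_pow_eq_one h2
      rw [h1] at h3
      omega
    · have hne : NeZero (2 ^ n) := ⟨by positivity⟩
      have h1 : (DihedralGroup.r (1 : ZMod (2 ^ n))) * (DihedralGroup.sr 0) =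
          (DihedralGroup.sr 0) * (DihedralGroup.r (1 : ZMod (2 ^ n))) := by
        have h2 := congrArg e (hHcomm (e.symm (DihedralGroup.r 1)) (e.symm (DihedralGroup.sr 0)))
        simpa using h2
      rw [DihedralGroup.r_mul_sr, DihedralGroup.sr_mul_r] at h1
      have h2 : (0 : ZMod (2 ^ n)) - 1 = 0 + 1 := DihedralGroup.sr.inj h1
      have h3 : ((2 : ℕ) : ZMod (2 ^ n)) = 0 := by
        have h4 : ((2 : ℕ) : ZMod (2 ^ n)) = 1 + 1 := by push_cast; ring
        rw [h4]
        linear_combination -h2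
      have h5 : 2 ^ n ∣ 2 := (ZMod.natCast_eq_zero_iff 2 (2 ^ n)).mp h3
      have h6 : 2 ^ n ≤ 2 := Nat.le_of_dvd (by norm_num) h5
      have h7 := Nat.card_congr e.toEquiv
      rw [DihedralGroup.nat_card] at h7
      have h8 : K = H := by
        apply Subgroup.eq_of_le_of_card_ge hKH
        rw [h7, hKc]
        omega
      rw [h8]
      exact mem_mulZ_right hxN
    · exfalso
      apply not_comm_A4
      intro a b
      have h2 := congrArg e (hHcomm (e.symm a) (e.symm b))
      simpa using h2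
  · intro k hk
    rw [Subgroup.mem_centralizer_iff]
    intro h hh
    exact hKcomm h hh k hk

theorem forward
    (hR : ∀ H : Subgroup G, (∀ S : Sylow 2 ↥H, (S : Subgroup ↥H).Normal) →
        (∀ (S : Sylow 2 ↥H) [(S : Subgroup ↥H).Normal], IsCyclic (↥H ⧸ (S : Subgroup ↥H))) →
        IsCyclic H ∨ (∃ n : ℕ, Nonempty (H ≃* DihedralGroup (2 ^ n))) ∨ Nonempty (H ≃* alternatingGroup (Fin 4)))
    (P : Sylow 2 G) :
    IsCyclic P ∨
      ((∃ n : ℕ, 1 ≤ n ∧ Nonempty ((P : Subgroup G) ≃* DihedralGroup (2 ^ n))) ∧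
        ∀ K : Subgroup G, K ≤ P → Nat.card K = 4 → (∀ k ∈ K, k ^ 2 = 1) → Subgroup.centralizer (K : Set G) = K) := by
  have hPp : IsPGroup 2 (P : Subgroup G) := P.isPGroup'
  have hA : ∀ S : Sylow 2 (P : Subgroup G), ((S : Subgroup (P : Subgroup G))).Normal := by
    intro S
    rw [sylow_eq_top_of_pgroup hPp S]
    infer_instance
  have hB : ∀ (S : Sylow 2 (P : Subgroup G)) [((S : Subgroup (P : Subgroup G))).Normal],
      IsCyclic ((P : Subgroup G) ⧸ (S : Subgroup (P : Subgroup G))) := by
    intro S _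
    refine ⟨1, fun z => ?_⟩
    induction z using QuotientGroup.induction_on with
    | H h =>
      have : h ∈ (S : Subgroup (P : Subgroup G)) := by
        rw [sylow_eq_top_of_pgroup hPp S]; trivial
      have h1 : ((h : (P : Subgroup G)) : (P : Subgroup G) ⧸ (S : Subgroup (P : Subgroup G))) = 1 :=
        (QuotientGroup.eq_one_iff h).mpr this
      rw [h1]
      exact Subgroup.mem_zpowers _
  rcases hR (P : Subgroup G) hA hB with hc | ⟨n, ⟨e⟩⟩ | ⟨⟨e⟩⟩
  · exact Or.inl hc
  · rcases Nat.eq_zero_or_pos n with rfl | hn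
    · left
      have h1 := Nat.card_congr e.toEquiv
      rw [DihedralGroup.nat_card] at h1
      apply isCyclic_of_prime_card (p := 2)
      rw [h1]
      norm_num
    · right
      exact ⟨⟨n, hn, ⟨e⟩⟩, fun K _ hc hk => centralizer_eq_of_R hR K hc hk⟩
  · exfalso
    have h1 := Nat.card_congr e.toEquiv
    have h2 : Nat.card (alternatingGroup (Fin 4)) = 12 := by
      rw [Nat.card_eq_fintype_card]
      decide
    rw [h2] at h1
    obtain ⟨a, ha⟩ := IsPGroup.iff_card.mp hPp
    have h3 : 3 ∣ 2 ^ a := by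
      rw [← ha, h1]
      norm_num
    have h4 := Nat.prime_three.dvd_of_dvd_pow h3
    omega

theorem backward (P : Sylow 2 G)
    (H : Subgroup G) (S : Sylow 2 H) [hSn : (S : Subgroup H).Normal]
    (hq : IsCyclic (H ⧸ (S : Subgroup H))) (h : IsCyclic P ∨
      ((∃ n : ℕ, 1 ≤ n ∧ Nonempty ((P : Subgroup G) ≃* DihedralGroup (2 ^ n))) ∧
        ∀ K : Subgroup G, K ≤ P → Nat.card K = 4 → (∀ k ∈ K, k ^ 2 = 1) → Subgroup.centralizer (K : Set G) = K)) :
    IsCyclic H ∨ (∃ n : ℕ, Nonempty (H ≃* DihedralGroup (2 ^ n))) ∨ Nonempty (H ≃* alternatingGroup (Fin 4)) := by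
  have hXp : IsPGroup 2 ((S : Subgroup H).map H.subtype) := S.isPGroup'.map _
  obtain ⟨P', hP'⟩ := hXp.exists_le_sylow
  obtain ⟨g, hg⟩ := MulAction.exists_smul_eq G P' P
  have hconj : ∀ y ∈ (P' : Subgroup G), g * y * g⁻¹ ∈ (P : Subgroup G) := by
    intro y hy
    rw [← hg, Sylow.coe_subgroup_smul]
    have h1 := Subgroup.smul_mem_pointwise_smul y (MulAut.conj g) _ hy
    simpa using h1
  have hmem : ∀ s : (S : Subgroup H), g * ((s : H) : G) * g⁻¹ ∈ (P : Subgroup G) := fun s =>
    hconj _ (hP' ⟨(s : H), s.2, rfl⟩)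
  let φ₀ : (S : Subgroup H) →* (P : Subgroup G) :=
    MonoidHom.mk' (fun s => ⟨g * ((s : H) : G) * g⁻¹, hmem s⟩) (by
      intro a b
      apply Subtype.ext
      simp only [Subgroup.coe_mul]
      group)
  have hφ₀ : Function.Injective φ₀ := by
    intro a b hab
    have h1 : g * ((a : H) : G) * g⁻¹ = g * ((b : H) : G) * g⁻¹ := congrArg Subtype.val hab
    apply Subtype.ext
    apply Subtype.ext
    simpa using h1
  rcases h with hPc | ⟨⟨n, hn, ⟨e⟩⟩, hV⟩
  · have hcS : IsCyclic (S : Subgroup H) := isCyclic_of_injective φ₀ hφ₀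
    exact Or.inl (cyclic_case S hq hcS)
  · refine main_abstract S hq (e.toMonoidHom.comp φ₀) (e.injective.comp hφ₀) ?_
    intro K' hK' x hx
    have hKS : ∀ k ∈ K', k ∈ (S : Subgroup H) := by
      intro k hk
      have h1 := pow_two_of_mem_klein hK' hk
      have h2 := orderOf_dvd_of_pow_eq_one h1
      obtain ⟨e', -, he'⟩ := (Nat.dvd_prime_pow Nat.prime_two).mp (show orderOf k ∣ 2 ^ 1 by simpa using h2)
      exact mem_sylow_of_normal S he'
    let c : H →* G := (MulAut.conj g).toMonoidHom.comp H.subtype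
    have hc : Function.Injective c := by
      intro a b hab
      apply Subtype.ext
      have h1 : g * (a : G) * g⁻¹ = g * (b : G) * g⁻¹ := hab
      simpa using h1
    have hcv : ∀ a : H, c a = g * (a : G) * g⁻¹ := fun a => rfl
    have hK1P : K'.map c ≤ P := by
      rintro _ ⟨k, hk, rfl⟩
      rw [hcv]
      exact hmem ⟨k, hKS k hk⟩
    have hK1c : Nat.card (K'.map c) = 4 := by
      rw [Subgroup.card_map_of_injective hc]
      exact hK'.card_four
    have hK1e : ∀ k ∈ K'.map c, k ^ 2 = 1 := by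
      rintro _ ⟨k, hk, rfl⟩
      rw [← map_pow, pow_two_of_mem_klein hK' hk, map_one]
    have hcent := hV (K'.map c) hK1P hK1c hK1e
    have hxc : c x ∈ Subgroup.centralizer ((K'.map c : Subgroup G) : Set G) := by
      rw [Subgroup.mem_centralizer_iff]
      rintro _ ⟨k, hk, rfl⟩
      rw [← map_mul, ← map_mul, hx k hk]
    rw [hcent] at hxc
    obtain ⟨k, hk, hkx⟩ := hxc
    rw [← hc hkx]
    exact hk


/-- Let G be a finite group with Sylow 2-subgroup P. Every subgroup H of G whose Sylow 2-subgroup is normal in H with cyclic quotient is cyclic, dihedral of 2-power order, or isomorphic to the alternating group of degree 4, if and only if either P is cyclic, or P is dihedral (of order at least 4) and every elementary abelian subgroup K of order 4 of P satisfies C_G(K) = K. -/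
theorem result {G : Type*} [Group G] [Finite G] (P : Sylow 2 G) :
    (∀ H : Subgroup G, (∀ S : Sylow 2 ↥H, (S : Subgroup ↥H).Normal) →
        (∀ (S : Sylow 2 ↥H) [(S : Subgroup ↥H).Normal], IsCyclic (↥H ⧸ (S : Subgroup ↥H))) →
        IsCyclic H ∨ (∃ n : ℕ, Nonempty (H ≃* DihedralGroup (2 ^ n))) ∨ Nonempty (H ≃* alternatingGroup (Fin 4))) ↔
    (IsCyclic P ∨
      ((∃ n : ℕ, 1 ≤ n ∧ Nonempty ((P : Subgroup G) ≃* DihedralGroup (2 ^ n))) ∧
        ∀ K : Subgroup G, K ≤ P → Nat.card K = 4 → (∀ k ∈ K, k ^ 2 = 1) → Subgroup.centralizer (K : Set G) = K)) := by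
  constructor
  · intro hR
    exact forward hR P
  · intro h H hN hQ
    obtain ⟨S⟩ : Nonempty (Sylow 2 H) := inferInstance
    have := hN S
    exact backward P H S (hQ S) h

end Cfsg.Agent.S4083
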