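import Mathlib
import Cfsg.Statements.S4113

set_option autoImplicit false
open Cfsg

namespace Cfsg.Agent.S4113

/-- Let G be a finite group, M ≤ N non-trivial proper normal subgroups, and H a subgroup with HM = G and H ∩ M = 1. Then every element of G outside N acts fixed-point-freely on M (C_G(x) ≤ N for every x ∈ M, x ≠ 1) if and only if H ∩ gHg⁻¹ ≤ H ∩ N for every g outside H, with H proper and non-trivial and H ∩ N proper in H. -/
theorem result {G : Type*} [Group G] [Finite G] (N M : Subgroup G) [N.Normal] [M.Normal] (hMN : M ≤ N) (hM1 : M ≠ ⊥) (hN2 : N ≠ ⊤)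
    (H : Subgroup G) (hHM : H ⊔ M = ⊤) (hHM' : H ⊓ M = ⊥) :
    (∀ x ∈ M, x ≠ 1 → Subgroup.centralizer ({x} : Set G) ≤ N) ↔
      (H ≠ ⊥ ∧ H ≠ ⊤ ∧ H ⊓ N < H ∧ ∀ g : G, g ∉ H → H ⊓ H.map (MulAut.conj g).toMonoidHom ≤ N) := by
  -- decomposition g = m * h
  have hdec : ∀ g : G, ∃ m ∈ M, ∃ h ∈ H, g = m * h := by
    intro g
    have hg : g ∈ (M ⊔ H : Subgroup G) := by rw [sup_comm, hHM]; trivial
    have hg' : g ∈ ((M ⊔ H : Subgroup G) : Set G) := hg
    rw [Subgroup.normal_mul] at hg'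
    obtain ⟨m, hm, h, hh, rfl⟩ := Set.mem_mul.mp hg'
    exact ⟨m, hm, h, hh, rfl⟩
  have hcomm_mem : ∀ {x y : G}, y ∈ Subgroup.centralizer ({x} : Set G) ↔ y * x = x * y := by
    intro x y
    simp [Subgroup.mem_centralizer_singleton_iff]
  constructor
  · intro hC
    refine ⟨?_, ?_, ?_, ?_⟩
    · rintro rfl
      apply hN2
      rw [bot_sup_eq] at hHM
      rw [eq_top_iff, ← hHM]
      exact hMN
    · rintro rfl
      apply hM1
      simpa using hHM'
    · refine lt_of_le_of_ne inf_le_left ?_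
      intro he
      have hle : H ≤ N := by
        rw [← he]; exact inf_le_right
      apply hN2
      rw [eq_top_iff, ← hHM]
      exact sup_le hle hMN
    · intro g hg u hu
      obtain ⟨huH, huc⟩ := Subgroup.mem_inf.mp hu
      obtain ⟨k, hk, rfl⟩ := Subgroup.mem_map.mp huc
      obtain ⟨m, hm, h0, hh0, rfl⟩ := hdec g
      have hm1 : m ≠ 1 := by
        rintro rfl
        simp only [one_mul] at hg
        exact hg hh0
      simp only [MulEquiv.coe_toMonoidHom, MulAut.conj_apply] at huH ⊢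
      set h' := h0 * k * h0⁻¹ with hh'
      have hh'H : h' ∈ H := H.mul_mem (H.mul_mem hh0 hk) (H.inv_mem hh0)
      have hu_eq : m * h0 * k * (m * h0)⁻¹ = m * h' * m⁻¹ := by
        simp only [hh', mul_inv_rev]; group
      rw [hu_eq] at huH ⊢
      -- u * h'⁻¹ ∈ H ⊓ M
      have h1 : m * h' * m⁻¹ * h'⁻¹ ∈ H := H.mul_mem huH (H.inv_mem hh'H)
      have h2 : m * h' * m⁻¹ * h'⁻¹ ∈ M := by
        have : m * h' * m⁻¹ * h'⁻¹ = m * (h' * m⁻¹ * h'⁻¹) := by group
        rw [this]
        exact M.mul_mem hm (‹M.Normal›.conj_mem _ (M.inv_mem hm) _)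
      have h3 : m * h' * m⁻¹ * h'⁻¹ = 1 := by
        have : m * h' * m⁻¹ * h'⁻¹ ∈ H ⊓ M := Subgroup.mem_inf.mpr ⟨h1, h2⟩
        rwa [hHM', Subgroup.mem_bot] at this
      have h4 : m * h' * m⁻¹ = h' := by
        rw [mul_inv_eq_one] at h3; exact h3
      rw [h4]
      apply hC m hm hm1
      rw [hcomm_mem]
      have : m * h' = h' * m := by
        rw [mul_inv_eq_iff_eq_mul] at h4
        exact h4
      exact this.symm
  · rintro ⟨-, -, hlt, hTI⟩ x hx hx1 y hy
    by_contra hyN
    obtain ⟨m, hm, h, hh, rfl⟩ := hdec y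
    have hhN : h ∉ N := fun h' => hyN (N.mul_mem (hMN hm) h')
    -- C_M(h) = 1
    have hfpf : ∀ z ∈ M, z * h = h * z → z = 1 := by
      intro z hz hzc
      by_contra hz1
      have hzH : z ∉ H := by
        intro hzH
        have : z ∈ H ⊓ M := Subgroup.mem_inf.mpr ⟨hzH, hz⟩
        rw [hHM', Subgroup.mem_bot] at this
        exact hz1 this
      apply hhN
      apply hTI z hzH
      refine Subgroup.mem_inf.mpr ⟨hh, Subgroup.mem_map.mpr ⟨h, hh, ?_⟩⟩
      simp only [MulEquiv.coe_toMonoidHom, MulAut.conj_apply]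
      rw [hzc]; group
    -- the commutator map on M is injective hence surjective
    let f : M → M := fun z => ⟨z * h * (z : G)⁻¹ * h⁻¹, by
      have : (z : G) * h * (z : G)⁻¹ * h⁻¹ = z * (h * (z : G)⁻¹ * h⁻¹) := by group
      rw [this]
      exact M.mul_mem z.2 (‹M.Normal›.conj_mem _ (M.inv_mem z.2) _)⟩
    have hfinj : Function.Injective f := by
      intro a b hab
      have h1 : (a : G) * h * (a : G)⁻¹ * h⁻¹ = b * h * (b : G)⁻¹ * h⁻¹ := congrArg Subtype.val hab
      have h2 : (a : G) * h * (a : G)⁻¹ = b * h * (b : G)⁻¹ := mul_right_cancel h1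
      have h3 : (b : G)⁻¹ * a * h = h * ((b : G)⁻¹ * a) := by
        have : (b : G)⁻¹ * ((a : G) * h * (a : G)⁻¹) * a = (b : G)⁻¹ * (b * h * (b : G)⁻¹) * a := by rw [h2]
        simpa [mul_assoc] using this
      have h4 := hfpf _ (M.mul_mem (M.inv_mem b.2) a.2) h3
      apply Subtype.ext
      have : (a : G) = b := by
        rw [inv_mul_eq_one] at h4
        exact h4.symm
      exact this
    have hfsurj : Function.Surjective f := Finite.surjective_of_injective hfinj
    obtain ⟨z, hz⟩ := hfsurj ⟨m, hm⟩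
    have hz' : (z : G) * h * (z : G)⁻¹ * h⁻¹ = m := congrArg Subtype.val hz
    have hmh : m * h = z * h * (z : G)⁻¹ := by
      rw [← hz']; group
    rw [hmh, hcomm_mem] at hy
    -- h commutes with z⁻¹ x z
    have hx' := hfpf ((z : G)⁻¹ * x * z) (by
      have := ‹M.Normal›.conj_mem x hx ((z : G)⁻¹)
      simpa using this) (by
      have : (z : G)⁻¹ * ((z : G) * h * (z : G)⁻¹ * x) * z = (z : G)⁻¹ * (x * ((z : G) * h * (z : G)⁻¹)) * z := by rw [hy]
      simpa [mul_assoc] using this.symm)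
    apply hx1
    have : x = z * ((z : G)⁻¹ * x * z) * (z : G)⁻¹ := by group
    rw [this, hx']
    group

end Cfsg.Agent.S4113
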