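import Mathlib
import Cfsg.Agent.Lib.FrobAutE
import Cfsg.Agent.S0042
import Cfsg.Agent.Lib.Frobenius
import Cfsg.Statements.S4120
-- import your own Cfsg.Agent.* helpers here

set_option autoImplicit false
open Cfsg

namespace Cfsg.Agent.S4120



/-- Let the finite group A act faithfully on the finite group G by automorphisms, and suppose A is a Frobenius group with kernel F and complement H such that F fixes only the identity of G. If the fixed-point subgroup C_G(H) is nilpotent, then G is nilpotent. -/
theorem result {G A : Type*} [Group G] [Finite G] [Group A] [Finite A] [MulDistribMulAction A G] [FaithfulSMul A G]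
    (Fk Hc : Subgroup A) [Fk.Normal] (hHc : Cfsg.IsFrobeniusComplement Hc) (hker : Cfsg.frobeniusKernel Hc = (Fk : Set A))
    (hCF : ∀ g : G, (∀ f ∈ Fk, f • g = g) → g = 1) (hnil : Group.IsNilpotent (Subgroup.closure {g : G | ∀ h ∈ Hc, h • g = g})) : Group.IsNilpotent G := by
  classical
  let φ : A →* MulAut G := MulDistribMulAction.toMulAut A G
  have hφ : ∀ a g, φ a g = a • g := fun _ _ => rfl
  obtain ⟨N, hN, _, hNnil⟩ := Cfsg.Agent.S0042.result Hc hHc
  have hNF : N = Fk := by
    apply SetLike.coe_injective
    rw [hN, hker]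
  subst hNF
  have hF : Cfsg.Agent.Lib.FrobAut.Frob N Hc := by
    refine ⟨inferInstance, hNnil, ?_⟩
    intro h hh hne f hf hcomm
    have hfk : f ∈ Cfsg.frobeniusKernel Hc := by
      rw [← hN]
      exact hf
    have h1 : f⁻¹ * h * f = h := by
      have h2 : f * h = h * f := by
        conv_lhs => rw [← hcomm]
        group
      rw [mul_assoc, ← h2]
      group
    have hfH : f ∈ Hc := Cfsg.Agent.Lib.Frobenius.mem_of_conj_mem hHc hh hne (by rw [h1]; exact hh)
    exact Cfsg.Agent.Lib.Frobenius.eq_one_of_mem_kernel_of_mem hfk hfH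
  have hfix : Cfsg.Agent.Lib.FrobAut.fixS φ Hc = Subgroup.closure {g : G | ∀ h ∈ Hc, h • g = g} := by
    symm
    apply le_antisymm
    · rw [Subgroup.closure_le]
      intro g hg h hh
      exact hg h hh
    · intro g hg
      exact Subgroup.subset_closure hg
  have hyp : Cfsg.Agent.Lib.FrobAut.Hyp φ N Hc := by
    refine ⟨fun g hg => hCF g hg, ?_⟩
    rw [hfix]
    exact hnil
  exact Cfsg.Agent.Lib.FrobAut.main_nil hF _ G φ rfl hyp

end Cfsg.Agent.S4120
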