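import Cfsg.Statements.S4137
import Cfsg.Agent.Lib.ItoGen9
import Cfsg.Agent.Lib.ItoAnti
import Cfsg.Agent.Lib.FCBase
import Cfsg.Agent.S3192
import Cfsg.Agent.S0183
import Cfsg.Agent.S2202

set_option autoImplicit false
set_option linter.style.haveILetI false
set_option linter.unusedSectionVars false
open Cfsg

namespace Cfsg.Agent.S4137

section

open Subgroup Cfsg.Agent.Lib Cfsg.Agent.Lib.CoprimeClass Cfsg.Agent.Lib.ItoChain
  Cfsg.Agent.Lib.ItoAnti Cfsg.Agent.Lib.ItoGen

universe u

variable {G : Type u} [Group G] [Finite G]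

/-- The CN property passes to subgroups. -/
theorem cn_subgroup (hCN : IsCNGroup G) (M : Subgroup G) : IsCNGroup M := by
  intro x hx
  have hx1 : (x : G) ≠ 1 := fun h => hx (Subtype.ext h)
  have hnil : Group.IsNilpotent (centralizer ({(x : G)} : Set G)) := hCN x hx1
  let f : centralizer ({x} : Set M) →* centralizer ({(x : G)} : Set G) :=
    { toFun := fun y => ⟨(y : M), by
        rw [mem_cent]
        have := mem_cent.1 y.2
        exact congrArg Subtype.val this⟩
      map_one' := rfl
      map_mul' := fun _ _ => rfl }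
  have hf : Function.Injective f := by
    intro a b hab
    have h1 : ((a : M) : G) = (b : M) := congrArg (fun z => ((z : centralizer ({(x : G)} : Set G)) : G)) hab
    exact Subtype.ext (Subtype.ext h1)
  refine Subgroup.isNilpotent_of_ker_le_center f ?_
  rw [(MonoidHom.ker_eq_bot_iff f).2 hf]
  exact bot_le

/-- A subgroup of odd order of a CN-group is solvable. -/
theorem solvable_of_odd (hCN : IsCNGroup G) (M : Subgroup G) (hodd : ¬ 2 ∣ Nat.card M) :
    Group.IsSolvable M :=
  Cfsg.Agent.S0183.result (by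
    rw [← Nat.not_even_iff_odd]
    exact fun h => hodd h.two_dvd) (cn_subgroup hCN M)

/-- The case of a cyclic Sylow `2`-subgroup. -/
theorem solvable_of_cyclic (hCN : IsCNGroup G)
    (hinv : ∀ t : G, orderOf t = 2 → ∀ a ∈ cz t, ∀ b ∈ cz t, a * b = b * a)
    (heven : Even (Nat.card G)) (hcyc : ∀ P : Sylow 2 G, IsCyclic ↥P) : Group.IsSolvable G := by
  haveI : Fact (Nat.Prime 2) := ⟨Nat.prime_two⟩
  have h2G : 2 ∣ Nat.card G := heven.two_dvd
  let P : Sylow 2 G := default
  have hPbot : (P : Subgroup G) ≠ ⊥ := P.ne_bot_of_dvd_card h2G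
  obtain ⟨z, hzP, hzo, hle⟩ := exists_central (P : Subgroup G) P.isPGroup' hPbot
  have hz1 : z ≠ 1 := by
    rintro rfl
    rw [orderOf_one] at hzo
    omega
  have hzz : z * z = 1 := by
    rw [← pow_two, ← hzo]
    exact pow_orderOf_eq_one z
  have hN : normalizer ((P : Subgroup G) : Set G) ≤ centralizer ((P : Subgroup G) : Set G) := by
    intro g hg
    have h1 : g * z * g⁻¹ ∈ (P : Subgroup G) := (mem_normalizer_iff.1 hg z).1 hzP
    have h2 : g * z * g⁻¹ = z := by
      by_contra hne
      have hc : (g * z * g⁻¹) * z = z * (g * z * g⁻¹) := mem_cent.1 (hle h1)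
      refine FCBase.no_two_invol hcyc (a := g * z * g⁻¹) (b := z) ?_ hz1 hne ?_ hzz hc
      · intro h
        apply hz1
        have : z = g⁻¹ * (g * z * g⁻¹) * g := by group
        rw [this, h]
        group
      · calc g * z * g⁻¹ * (g * z * g⁻¹) = g * (z * z) * g⁻¹ := by group
          _ = 1 := by rw [hzz]; group
    have hgz : g ∈ cz z := by
      rw [mem_cent]
      calc g * z = (g * z * g⁻¹) * g := by group
        _ = z * g := by rw [h2]
    rw [mem_centralizer_iff]
    intro u hu
    exact hinv z hzo u (hle hu) g hgz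
  have hcompl := MonoidHom.ker_transferSylow_isComplement' P hN
  set M := (MonoidHom.transferSylow P hN).ker with hM
  haveI hMn : M.Normal := inferInstance
  have hodd : ¬ 2 ∣ Nat.card M := by
    rw [← hcompl.index_eq_card]
    exact P.not_dvd_index
  have hq : IsPGroup 2 (G ⧸ M) := by
    obtain ⟨k, hk⟩ := IsPGroup.iff_card.1 P.isPGroup'
    refine IsPGroup.of_card (n := k) ?_
    rw [← Subgroup.index_eq_card, hcompl.symm.index_eq_card, hk]
  haveI : Group.IsNilpotent (G ⧸ M) := hq.isNilpotent
  exact solvable_of_normal_quot M (solvable_of_odd hCN M hodd) inferInstance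

/-- The case of a normal Sylow `2`-subgroup. -/
theorem solvable_of_normal (hCN : IsCNGroup G) (hnorm : ∀ P : Sylow 2 G, (P : Subgroup G).Normal) :
    Group.IsSolvable G := by
  haveI : Fact (Nat.Prime 2) := ⟨Nat.prime_two⟩
  let P : Sylow 2 G := default
  haveI hPn : (P : Subgroup G).Normal := hnorm P
  obtain ⟨K, hK⟩ := Subgroup.exists_right_complement'_of_coprime P.card_coprime_index
  have hodd : ¬ 2 ∣ Nat.card K := by
    rw [← hK.symm.index_eq_card]
    exact P.not_dvd_index
  have hKs := solvable_of_odd hCN K hodd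
  haveI : Group.IsNilpotent (P : Subgroup G) := P.isPGroup'.isNilpotent
  refine solvable_of_normal_quot (P : Subgroup G) inferInstance ?_
  let f : K →* G ⧸ (P : Subgroup G) := (QuotientGroup.mk' (P : Subgroup G)).comp K.subtype
  have hf : Function.Surjective f := by
    intro q
    obtain ⟨g, rfl⟩ := QuotientGroup.mk_surjective q
    obtain ⟨⟨⟨p, hp⟩, ⟨k, hk⟩⟩, hpk, -⟩ := hK.existsUnique g
    have hpk' : p * k = g := hpk
    refine ⟨⟨k, hk⟩, ?_⟩
    show ((k : G) : G ⧸ (P : Subgroup G)) = _
    rw [← hpk', QuotientGroup.mk_mul, (QuotientGroup.eq_one_iff p).2 hp, one_mul]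
  exact Group.isSolvable_of_surjective hf

/-- The isomorphism between `SL₂` of isomorphic fields. -/
noncomputable def slEquiv {F F' : Type} [Field F] [Field F'] (σ : F ≃+* F') :
    Matrix.SpecialLinearGroup (Fin 2) F ≃* Matrix.SpecialLinearGroup (Fin 2) F' :=
  MonoidHom.toMulEquiv (Matrix.SpecialLinearGroup.map σ.toRingHom)
    (Matrix.SpecialLinearGroup.map σ.symm.toRingHom)
    (by
      ext A i j
      simp)
    (by
      ext A i j
      simp)

/-- The case of `SL₂(F) × A`. -/
theorem psl_of_product (hZ : center G = ⊥) {F : Type} [hF : Field F] [hFt : Fintype F] {A : Type}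
    [CommGroup A] [CharP F 2] (e : G ≃* Matrix.SpecialLinearGroup (Fin 2) F × A) :
    ∃ a : ℕ, 0 < a ∧ Nonempty (G ≃* Matrix.ProjectiveSpecialLinearGroup (Fin 2) (GaloisField 2 a)) := by
  classical
  haveI : Fact (Nat.Prime 2) := ⟨Nat.prime_two⟩
  have hA : ∀ a : A, a = 1 := by
    intro a
    have hc : e.symm (1, a) ∈ center G := by
      rw [mem_center_iff]
      intro g
      apply e.injective
      rw [map_mul, map_mul, MulEquiv.apply_symm_apply]
      apply Prod.ext
      · simp
      · exact mul_comm _ _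
    rw [hZ, mem_bot] at hc
    have h1 : ((1 : Matrix.SpecialLinearGroup (Fin 2) F), a) = 1 := by
      rw [← e.apply_symm_apply (1, a), hc, map_one]
    exact congrArg Prod.snd h1
  let π : G →* Matrix.SpecialLinearGroup (Fin 2) F := (MonoidHom.fst _ _).comp e.toMonoidHom
  have hπs : Function.Surjective π := by
    intro y
    refine ⟨e.symm (y, 1), ?_⟩
    show (e (e.symm (y, 1))).1 = y
    rw [MulEquiv.apply_symm_apply]
  have hπi : Function.Injective π := by
    intro a b hab
    apply e.injective
    apply Prod.ext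
    · exact hab
    · rw [hA (e a).2, hA (e b).2]
  let e' : G ≃* Matrix.SpecialLinearGroup (Fin 2) F := MulEquiv.ofBijective π ⟨hπi, hπs⟩
  obtain ⟨n, hn, hcard⟩ := FiniteField.card F 2
  letI : Algebra (ZMod 2) F := ZMod.algebra F 2
  have hcard' : Nat.card F = 2 ^ (n : ℕ) := by
    rw [Nat.card_eq_fintype_card, hcard]
  let σ : F ≃+* GaloisField 2 (n : ℕ) :=
    (GaloisField.algEquivGaloisField 2 (n : ℕ) hcard').toRingEquiv
  exact ⟨(n : ℕ), n.pos, ⟨e'.trans ((slEquiv σ).trans
    (S3192.pslEquiv (GaloisField 2 (n : ℕ))).symm)⟩⟩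

/-- The whole theorem. -/
theorem main (hZ : center G = ⊥)
    (h : Nat.card {n : ℕ | 1 < n ∧ ∃ x : G, (centralizer ({x} : Set G)).index = n} ≤ 3) :
    Group.IsSolvable G ∨
      ∃ a : ℕ, 0 < a ∧ Nonempty (G ≃* Matrix.ProjectiveSpecialLinearGroup (Fin 2) (GaloisField 2 a)) := by
  classical
  by_cases hA : Anti G
  · have hCN := isCN hA
    by_cases hodd : Odd (Nat.card G)
    · exact Or.inl (Cfsg.Agent.S0183.result hodd hCN)
    have heven : Even (Nat.card G) := Nat.not_odd_iff_even.1 hodd
    have hinv := fun t ht => comm_of_invol hA t ht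
    have hmain := Cfsg.Agent.S2202.result heven (fun t ht => ⟨⟨fun a b =>
      Subtype.ext (hinv t ht a a.2 b b.2)⟩⟩)
    rcases hmain with h1 | h1 | h1
    · exact Or.inl (solvable_of_cyclic hCN hinv heven h1)
    · exact Or.inl (solvable_of_normal hCN h1)
    · obtain ⟨F, hF, hFt, A, hAg, hAf, hchar, hAodd, ⟨e⟩⟩ := h1
      haveI := hchar
      exact Or.inr (psl_of_product hZ e)
  · left
    unfold Anti at hA
    push Not at hA
    obtain ⟨x, y, hx, hy, hle, hne⟩ := hA
    have hd : cs y ∣ cs x := cs_dvd_of_le hle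
    have hcs : cs y ≠ cs x := fun h => hne (eq_of_le_of_cs hle h.symm)
    set S : Set ℕ := {n : ℕ | 1 < n ∧ ∃ x : G, (centralizer ({x} : Set G)).index = n} with hSdef
    have hmem : ∀ z : G, z ≠ 1 → cs z ∈ S := by
      intro z hz
      refine ⟨?_, z, rfl⟩
      have h1 := cs_ne_one_z hZ hz
      have h0 : cs z ≠ 0 := cs_ne_zero z
      omega
    have hfin : S.Finite := (Set.finite_range (fun x : G => cs x)).subset (by
      rintro n ⟨-, w, rfl⟩
      exact ⟨w, rfl⟩)
    rw [Nat.card_coe_set_eq] at h
    -- a third class size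
    have hy1 : cs y ≠ 1 := cs_ne_one_z hZ hy
    obtain ⟨r, hr, hry⟩ := Nat.exists_prime_and_dvd hy1
    haveI : Fact r.Prime := ⟨hr⟩
    let R : Sylow r G := default
    have hrG : r ∣ Nat.card G := hry.trans (index_dvd_card _)
    obtain ⟨z, hzR, hzo, hzle⟩ := exists_central (R : Subgroup G) R.isPGroup'
      (R.ne_bot_of_dvd_card hrG)
    have hz1 : z ≠ 1 := by
      rintro rfl
      rw [orderOf_one] at hzo
      exact hr.one_lt.ne hzo
    have hnd := not_dvd_cs_of_sylow R hzle
    have hzy : cs z ≠ cs y := fun h0 => hnd (by rw [h0]; exact hry)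
    have hzx : cs z ≠ cs x := fun h0 => hnd (by rw [h0]; exact hry.trans hd)
    have hST : S = {cs y, cs x, cs z} := by
      symm
      refine Set.eq_of_subset_of_ncard_le ?_ ?_ hfin
      · intro w hw
        simp only [Set.mem_insert_iff, Set.mem_singleton_iff] at hw
        rcases hw with rfl | rfl | rfl
        · exact hmem _ hy
        · exact hmem _ hx
        · exact hmem _ hz1
      · rw [Set.ncard_eq_three.2 ⟨cs y, cs x, cs z, hcs, Ne.symm hzy, Ne.symm hzx, rfl⟩]
        exact h
    have hnab : ∃ a b : G, a * b ≠ b * a := by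
      by_contra hcon
      push Not at hcon
      apply hx
      have : x ∈ center G := by
        rw [mem_center_iff]
        intro g
        exact hcon g x
      rw [hZ] at this
      exact this
    have hH : Hyp G (cs y) (cs x) (cs z) :=
      { nab := hnab
        all := fun w hw => by
          have := hmem w hw
          rw [hST] at this
          simpa using this
        dvd := hd
        hij := hcs
        hki := hzy
        hkj := hzx
        exi := ⟨y, hy, rfl⟩
        exj := ⟨x, hx, rfl⟩
        exk := ⟨z, hz1, rfl⟩ }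
    exact (HZ.mk hH hZ).solvable

end

/-- Let G be a finite group with trivial centre and at most three distinct sizes of conjugacy classes other than 1. Then G is solvable or G is isomorphic to PSL₂(2^a) for some a ≥ 1. -/
theorem result {G : Type*} [Group G] [Finite G]
    (hZ : Subgroup.center G = ⊥) (h : Nat.card {n : ℕ | 1 < n ∧ ∃ x : G, (Subgroup.centralizer ({x} : Set G)).index = n} ≤ 3) :
    Group.IsSolvable G ∨ ∃ a : ℕ, 0 < a ∧ Nonempty (G ≃* Matrix.ProjectiveSpecialLinearGroup (Fin 2) (GaloisField 2 a)) :=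
  main hZ h

end Cfsg.Agent.S4137
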