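import Mathlib
import Cfsg.Statements.S4140
import Cfsg.Agent.Lib.Kegel
import Cfsg.Agent.Lib.FpfGeneral

set_option autoImplicit false
set_option linter.all false
open Cfsg

namespace Cfsg.Agent.S4140

universe u

/-- Every element outside `N` that is an `s`-element modulo `N` is an `s`-element. -/
def WP {G : Type*} [Group G] (N : Subgroup G) : Prop :=
  ∀ g : G, g ∉ N → ∀ s : ℕ, s.Prime → ∀ k : ℕ, g ^ s ^ k ∈ N → ∃ m : ℕ, g ^ s ^ m = 1

/-- `B / N` is an abelian non-cyclic `s`-group. -/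
structure NC {G : Type*} [Group G] (N B : Subgroup G) (s : ℕ) : Prop where
  le : N ≤ B
  comm : ∀ x ∈ B, ∀ y ∈ B, x * y * x⁻¹ * y⁻¹ ∈ N
  spow : ∀ x ∈ B, ∃ k : ℕ, x ^ s ^ k ∈ N
  noncyc : ¬ ∃ c ∈ B, ∀ x ∈ B, ∃ k : ℤ, x * c ^ k ∈ N

section
variable {G : Type*} [Group G]

theorem pow_coprime_one (w : G) (a b : ℕ) (ha : w ^ a = 1) (hb : w ^ b = 1)
    (hab : Nat.Coprime a b) : w = 1 := by
  have h1 := orderOf_dvd_of_pow_eq_one ha
  have h2 := orderOf_dvd_of_pow_eq_one hb
  have h3 : orderOf w = 1 := Nat.dvd_one.mp (hab ▸ Nat.dvd_gcd h1 h2)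
  exact orderOf_eq_one_iff.mp h3

/-- An element of `N` commuting with an `s`-element outside `N` is an `s`-element. -/
theorem comm_elem {N : Subgroup G} (hw : WP N) {a u : G} {s k : ℕ} (hs : s.Prime)
    (ha : a ∉ N) (hak : a ^ s ^ k = 1) (hu : u ∈ N) (hc : a * u = u * a) :
    ∃ m : ℕ, u ^ s ^ m = 1 := by
  have hau : a * u ∉ N := fun h => ha (by simpa using N.mul_mem h (N.inv_mem hu))
  have hcm : Commute a u := hc
  have h1 : (a * u) ^ s ^ k ∈ N := by
    rw [hcm.mul_pow, hak, one_mul]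
    exact N.pow_mem hu _
  obtain ⟨m, hm⟩ := hw _ hau s hs k h1
  refine ⟨m + k, ?_⟩
  have h2 : (a * u) ^ s ^ (m + k) = 1 := by
    rw [pow_add, pow_mul, hm, one_pow]
  rw [hcm.mul_pow] at h2
  have h3 : a ^ s ^ (m + k) = 1 := by
    rw [add_comm, pow_add, pow_mul, hak, one_pow]
  rwa [h3, one_mul] at h2

variable [Finite G]

theorem M1 (N B : Subgroup G) [hNn : N.Normal] (hw : WP N) (s : ℕ) [hsp : Fact s.Prime]
    (hB : NC N B s) (hs : ¬ s ∣ Nat.card N) (hN : N ≠ ⊥) : False := by
  classical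
  have hs' : s.Prime := hsp.out
  -- the quotient `B / N` is an `s`-group
  let N' : Subgroup B := N.subgroupOf B
  have hN'card : Nat.card N' = Nat.card N :=
    Nat.card_congr (Subgroup.subgroupOfEquivOfLe hB.le).toEquiv
  have hq : IsPGroup s (B ⧸ N') := by
    intro t
    obtain ⟨x, rfl⟩ := QuotientGroup.mk_surjective t
    obtain ⟨k, hk⟩ := hB.spow x.1 x.2
    refine ⟨k, ?_⟩
    rw [← QuotientGroup.mk_pow, QuotientGroup.eq_one_iff]
    exact hk
  obtain ⟨m, hm⟩ := IsPGroup.iff_card.mp hq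
  have hcop : Nat.Coprime (Nat.card N') N'.index := by
    rw [hN'card, Subgroup.index, hm]
    exact Nat.Coprime.pow_right _ ((Nat.Prime.coprime_iff_not_dvd hs').mpr hs).symm
  obtain ⟨H, hH⟩ := Subgroup.exists_right_complement'_of_coprime hcop
  -- `A` is the image of `H`
  let A : Subgroup G := H.map B.subtype
  have hAB : A ≤ B := Subgroup.map_subtype_le _
  have hAN : ∀ a ∈ A, a ∈ N → a = 1 := by
    rintro _ ⟨h, hh, rfl⟩ hN2
    have : h ∈ N' ⊓ H := ⟨hN2, hh⟩
    rw [hH.disjoint.eq_bot] at this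
    have h1 : h = 1 := by simpa using this
    simp [h1]
  have hcover : ∀ x ∈ B, ∃ a ∈ A, x * a⁻¹ ∈ N := by
    intro x hx
    obtain ⟨n, h, hnh⟩ : ∃ (n : N') (h : H), (n : B) * (h : B) = ⟨x, hx⟩ := by
      have := hH.sup_eq_top
      have hm : (⟨x, hx⟩ : B) ∈ N' ⊔ H := by rw [this]; trivial
      obtain ⟨n, hn, h, hh, hnh⟩ := Subgroup.mem_sup_of_normal_left.mp hm
      exact ⟨⟨n, hn⟩, ⟨h, hh⟩, hnh⟩
    refine ⟨(h : B), Subgroup.mem_map_of_mem _ h.2, ?_⟩
    have : x = ((n : B) : G) * ((h : B) : G) := (congrArg Subtype.val hnh).symm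
    rw [this, mul_inv_cancel_right]
    exact n.2
  -- elements of `A` are `s`-elements
  have hAs : ∀ a ∈ A, ∃ k : ℕ, a ^ s ^ k = 1 := by
    intro a ha
    obtain ⟨k, hk⟩ := hB.spow a (hAB ha)
    exact ⟨k, hAN _ (A.pow_mem ha _) hk⟩
  -- `A` is commutative
  have hAc : ∀ a ∈ A, ∀ b ∈ A, a * b = b * a := by
    intro a ha b hb
    have h1 : a * b * a⁻¹ * b⁻¹ = 1 :=
      hAN _ (A.mul_mem (A.mul_mem (A.mul_mem ha hb) (A.inv_mem ha)) (A.inv_mem hb))
        (hB.comm a (hAB ha) b (hAB hb))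
    have h2 : a * b * a⁻¹ = b := by
      rwa [mul_inv_eq_one] at h1
    rw [mul_inv_eq_iff_eq_mul] at h2
    exact h2
  have hAcomm : IsMulCommutative A := ⟨⟨fun a b => Subtype.ext (hAc a a.2 b b.2)⟩⟩
  -- fixed-point-freeness
  have hfpf : ∀ a ∈ A, a ≠ 1 → N ⊓ Subgroup.centralizer {a} = ⊥ := by
    intro a ha ha1
    rw [eq_bot_iff]
    rintro u ⟨huN, huc⟩
    have haN : a ∉ N := fun h => ha1 (hAN a ha h)
    obtain ⟨k, hk⟩ := hAs a ha
    have hc : a * u = u * a := by
      have := Subgroup.mem_centralizer_iff.mp huc a (by simp)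
      exact this
    obtain ⟨m, hm⟩ := comm_elem hw hs' haN hk huN hc
    have h2 : u ^ Nat.card N = 1 := by
      have := pow_card_eq_one' (x := (⟨u, huN⟩ : N))
      exact congrArg Subtype.val this
    have h3 := pow_coprime_one u _ _ hm h2
      (Nat.Coprime.pow_left _ ((Nat.Prime.coprime_iff_not_dvd hs').mpr hs))
    simp [h3]
  have hcyc := Cfsg.Agent.Lib.FpfGeneral.isCyclic_of_fpf A N hN
    (by rw [Subgroup.normalizer_eq_top]; exact le_top) hfpf (Or.inl hAcomm)
  obtain ⟨c, hc⟩ := hcyc.exists_generator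
  apply hB.noncyc
  refine ⟨c, hAB c.2, ?_⟩
  intro x hx
  obtain ⟨a, ha, hxa⟩ := hcover x hx
  obtain ⟨k, hk⟩ := Subgroup.mem_zpowers_iff.mp (hc ⟨a, ha⟩)
  have hk' : (c : G) ^ k = a := congrArg Subtype.val hk
  refine ⟨-k, ?_⟩
  rw [zpow_neg, hk']
  exact hxa

end

section transfer
variable {G : Type*} [Group G]

theorem WP_subgroup (N L : Subgroup G) (hw : WP N) : WP (N.subgroupOf L) := by
  intro g hg s hs k hk
  have h1 : (g : G) ∉ N := fun h => hg (Subgroup.mem_subgroupOf.mpr h)
  have h2 : (g : G) ^ s ^ k ∈ N := by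
    have := Subgroup.mem_subgroupOf.mp hk
    simpa using this
  obtain ⟨m, hm⟩ := hw _ h1 s hs k h2
  exact ⟨m, Subtype.ext (by simpa using hm)⟩

theorem NC_subgroup (N L B : Subgroup G) [N.Normal] (s : ℕ) (hB : NC N B s)
    (hL : ∀ g : G, ∃ l ∈ L, ∃ n ∈ N, l * n = g) : NC (N.subgroupOf L) (B.subgroupOf L) s := by
  refine ⟨?_, ?_, ?_, ?_⟩
  · intro x hx
    exact hB.le hx
  · intro x hx y hy
    have := hB.comm x hx y hy
    simpa [Subgroup.mem_subgroupOf] using this
  · intro x hx
    obtain ⟨k, hk⟩ := hB.spow x hx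
    refine ⟨k, ?_⟩
    simpa [Subgroup.mem_subgroupOf] using hk
  · rintro ⟨c, hc, hcx⟩
    apply hB.noncyc
    refine ⟨c, hc, ?_⟩
    intro x hx
    obtain ⟨l, hl, n, hn, rfl⟩ := hL x
    have hlB : l ∈ B := by
      have := B.mul_mem hx (hB.le (N.inv_mem hn))
      simpa using this
    obtain ⟨k, hk⟩ := hcx ⟨l, hl⟩ hlB
    refine ⟨k, ?_⟩
    have h1 : l * (c : G) ^ k ∈ N := by
      have := Subgroup.mem_subgroupOf.mp hk
      simpa using this
    have h2 : l * n * (c : G) ^ k
        = (l * (c : G) ^ k) * (((c : G) ^ k)⁻¹ * n * (c : G) ^ k) := by group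
    rw [h2]
    exact N.mul_mem h1 (‹N.Normal›.conj_mem' _ hn _)

theorem mem_map_iff (N M : Subgroup G) [M.Normal] (hMN : M ≤ N) (x : G) :
    QuotientGroup.mk' M x ∈ N.map (QuotientGroup.mk' M) ↔ x ∈ N := by
  constructor
  · rintro ⟨y, hy, hxy⟩
    have h1 : y⁻¹ * x ∈ M := (QuotientGroup.eq (s := M)).mp hxy
    have := N.mul_mem hy (hMN h1)
    simpa using this
  · intro h
    exact Subgroup.mem_map_of_mem _ h

theorem WP_quot (N M : Subgroup G) [M.Normal] (hMN : M ≤ N) (hw : WP N) :
    WP (N.map (QuotientGroup.mk' M)) := by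
  intro g hg s hs k hk
  obtain ⟨x, rfl⟩ := QuotientGroup.mk'_surjective M g
  have h1 : x ∉ N := fun h => hg ((mem_map_iff N M hMN x).mpr h)
  have h2 : x ^ s ^ k ∈ N := by
    rw [← mem_map_iff N M hMN, map_pow]
    exact hk
  obtain ⟨m, hm⟩ := hw x h1 s hs k h2
  refine ⟨m, ?_⟩
  rw [← map_pow, hm, map_one]

theorem NC_quot (N M B : Subgroup G) [M.Normal] (hMN : M ≤ N) (s : ℕ) (hB : NC N B s) :
    NC (N.map (QuotientGroup.mk' M)) (B.map (QuotientGroup.mk' M)) s := by
  refine ⟨Subgroup.map_mono hB.le, ?_, ?_, ?_⟩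
  · rintro _ ⟨x, hx, rfl⟩ _ ⟨y, hy, rfl⟩
    have := hB.comm x hx y hy
    have h2 := (mem_map_iff N M hMN _).mpr this
    simpa using h2
  · rintro _ ⟨x, hx, rfl⟩
    obtain ⟨k, hk⟩ := hB.spow x hx
    refine ⟨k, ?_⟩
    have h2 := (mem_map_iff N M hMN _).mpr hk
    simpa using h2
  · rintro ⟨_, ⟨c, hc, rfl⟩, hcx⟩
    apply hB.noncyc
    refine ⟨c, hc, ?_⟩
    intro x hx
    obtain ⟨k, hk⟩ := hcx _ (Subgroup.mem_map_of_mem _ hx)
    refine ⟨k, ?_⟩
    rw [← mem_map_iff N M hMN]
    simpa using hk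

end transfer

/-- counting with cosets -/
theorem card_fiber {A X : Type*} [Group A] [Finite A] (K : Subgroup A) (f : A → X)
    (hsurj : Function.Surjective f) (hf : ∀ a b, f a = f b ↔ a⁻¹ * b ∈ K) :
    Nat.card A = Nat.card X * Nat.card K := by
  rw [K.card_eq_card_quotient_mul_card_subgroup]
  congr 1
  let g : A ⧸ K → X := Quotient.lift f (by
    intro a b hab
    have : a⁻¹ * b ∈ K := QuotientGroup.leftRel_apply.mp hab
    exact (hf a b).mpr this)
  have hg : Function.Bijective g := by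
    constructor
    · intro x y
      obtain ⟨a, rfl⟩ := QuotientGroup.mk_surjective x
      obtain ⟨b, rfl⟩ := QuotientGroup.mk_surjective y
      intro hab
      apply QuotientGroup.eq.mpr
      exact (hf a b).mp hab
    · intro x
      obtain ⟨a, rfl⟩ := hsurj x
      exact ⟨QuotientGroup.mk a, rfl⟩
  exact Nat.card_congr (Equiv.ofBijective g hg)

theorem card_map_quot {G : Type*} [Group G] [Finite G] (N M : Subgroup G) [M.Normal] (hMN : M ≤ N) :
    Nat.card N = Nat.card (N.map (QuotientGroup.mk' M)) * Nat.card M := by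
  let f : N → N.map (QuotientGroup.mk' M) := fun x => ⟨QuotientGroup.mk' M x, Subgroup.mem_map_of_mem _ x.2⟩
  have h := card_fiber (M.subgroupOf N) f
    (by
      rintro ⟨_, x, hx, rfl⟩
      exact ⟨⟨x, hx⟩, rfl⟩)
    (by
      intro a b
      constructor
      · intro hab
        have h1 : QuotientGroup.mk' M (a : G) = QuotientGroup.mk' M (b : G) :=
          congrArg Subtype.val hab
        exact Subgroup.mem_subgroupOf.mpr (by simpa using (QuotientGroup.eq (s := M)).mp h1)
      · intro hab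
        apply Subtype.ext
        have h1 : (a : G)⁻¹ * (b : G) ∈ M := by
          have := Subgroup.mem_subgroupOf.mp hab
          simpa using this
        exact (QuotientGroup.eq (s := M)).mpr h1)
  rw [h]
  congr 1
  exact Nat.card_congr (Subgroup.subgroupOfEquivOfLe hMN).toEquiv

theorem M2 (p₁ p₂ : ℕ) [hp₁ : Fact p₁.Prime] [hp₂ : Fact p₂.Prime] (hne : p₁ ≠ p₂) :
    ∀ (n : ℕ) (G : Type u) [Group G] [Finite G] (N B₁ B₂ : Subgroup G) [N.Normal],
      Nat.card N ≤ n → WP N → NC N B₁ p₁ → NC N B₂ p₂ → N = ⊥ := by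
  intro n
  induction n with
  | zero =>
    intro G _ _ N B₁ B₂ _ hn
    have := Nat.card_pos (α := N)
    omega
  | succ n ih =>
    intro G _ _ N B₁ B₂ hNn hn hw hB₁ hB₂
    by_contra hN
    have hc1 : Nat.card N ≠ 1 := fun h => hN (Subgroup.card_eq_one.mp h)
    obtain ⟨q, hq, hqd⟩ := Nat.exists_prime_and_dvd hc1
    obtain ⟨s, hsp, hsq, B, hB⟩ : ∃ s : ℕ, Fact s.Prime ∧ s ≠ q ∧ ∃ B, NC N B s := by
      by_cases h : p₁ = q
      · exact ⟨p₂, hp₂, fun h2 => hne (h.trans h2.symm), B₂, hB₂⟩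
      · exact ⟨p₁, hp₁, h, B₁, hB₁⟩
    haveI := hsp
    obtain ⟨P⟩ := (inferInstance : Nonempty (Sylow s N))
    let P' : Subgroup G := (P : Subgroup N).map N.subtype
    have hP'N : P' ≤ N := Subgroup.map_subtype_le _
    have hP'card : Nat.card P' = s ^ (Nat.card N).factorization s := by
      have h1 : Nat.card P' = Nat.card (P : Subgroup N) :=
        Nat.card_congr (Subgroup.equivMapOfInjective _ _ N.subtype_injective).symm.toEquiv
      rw [h1]
      exact Sylow.card_eq_multiplicity P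
    by_cases hP' : P' = ⊥
    · -- `s` does not divide the order of `N`
      have hsN : ¬ s ∣ Nat.card N := by
        intro hd
        have h1 : (Nat.card N).factorization s ≠ 0 := by
          have := (hsp.out.dvd_iff_one_le_factorization Nat.card_pos.ne').mp hd
          omega
        rw [hP'] at hP'card
        simp at hP'card
        have h2 := hP'card.symm
        rcases pow_eq_one_iff.mp h2 with h3 | h3
        · exact hsp.out.one_lt.ne' h3
        · exact h1 h3
      exact M1 N B hw s hB hsN hN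
    by_cases hnorm : P'.Normal
    · -- quotient step
      haveI := hnorm
      have hcard := card_map_quot N P' hP'N
      have hP'gt : 1 < Nat.card P' := by
        by_contra hle
        have : Nat.card P' = 1 := by
          have := Nat.card_pos (α := P')
          omega
        exact hP' (Subgroup.card_eq_one.mp this)
      have hlt : Nat.card (N.map (QuotientGroup.mk' P')) ≤ n := by
        have h2 := Nat.card_pos (α := N.map (QuotientGroup.mk' P'))
        have h3 : Nat.card (N.map (QuotientGroup.mk' P')) * 2 ≤ Nat.card N := by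
          rw [hcard]
          exact Nat.mul_le_mul_left _ hP'gt
        omega
      haveI : (N.map (QuotientGroup.mk' P')).Normal :=
        Subgroup.Normal.map hNn _ (QuotientGroup.mk'_surjective P')
      have h1 := ih (G ⧸ P') (N.map (QuotientGroup.mk' P')) (B₁.map (QuotientGroup.mk' P'))
        (B₂.map (QuotientGroup.mk' P')) hlt (WP_quot N P' hP'N hw)
        (NC_quot N P' B₁ hP'N p₁ hB₁) (NC_quot N P' B₂ hP'N p₂ hB₂)
      rw [h1] at hcard
      simp only [Subgroup.card_bot, one_mul] at hcard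
      rw [hcard, hP'card] at hqd
      have := (Nat.prime_dvd_prime_iff_eq hq hsp.out).mp (hq.dvd_of_dvd_pow hqd)
      exact hsq this.symm
    · -- normalizer step
      let L : Subgroup G := Subgroup.normalizer (P' : Set G)
      have hLtop : L ≠ ⊤ := fun h => hnorm (Subgroup.normalizer_eq_top_iff.mp h)
      have hfr : L ⊔ N = ⊤ := Sylow.normalizer_sup_eq_top P
      have hL : ∀ g : G, ∃ l ∈ L, ∃ n ∈ N, l * n = g := by
        intro g
        have : g ∈ L ⊔ N := by rw [hfr]; trivial
        exact Subgroup.mem_sup_of_normal_right.mp this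
      have hNL : ¬ N ≤ L := by
        intro h
        apply hLtop
        rw [← hfr, sup_eq_left.mpr h]
      have hcardlt : Nat.card (N.subgroupOf L) ≤ n := by
        have h2 : Nat.card (N.subgroupOf L) < Nat.card N := by
          by_contra hge
          push Not at hge
          let f : N.subgroupOf L → N := fun x => ⟨x.1.1, x.2⟩
          have hf : Function.Injective f := by
            intro x y hxy
            apply Subtype.ext
            apply Subtype.ext
            exact congrArg (fun z : N => (z : G)) hxy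
          have hb := hf.bijective_of_nat_card_le hge
          apply hNL
          intro x hx
          obtain ⟨y, hy⟩ := hb.2 ⟨x, hx⟩
          have : (y.1.1 : G) = x := congrArg Subtype.val hy
          rw [← this]
          exact y.1.2
        omega
      have h1 := ih L (N.subgroupOf L) (B₁.subgroupOf L) (B₂.subgroupOf L) hcardlt
        (WP_subgroup N L hw) (NC_subgroup N L B₁ p₁ hB₁ hL) (NC_subgroup N L B₂ p₂ hB₂ hL)
      apply hP'
      rw [eq_bot_iff]
      intro t ht
      have htL : t ∈ L := Subgroup.le_normalizer ht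
      have h2 : (⟨t, htL⟩ : L) ∈ N.subgroupOf L := Subgroup.mem_subgroupOf.mpr (hP'N ht)
      rw [h1] at h2
      have h3 : (⟨t, htL⟩ : L) = 1 := by simpa using h2
      have h4 : t = 1 := congrArg Subtype.val h3
      simp [h4]

section camina
variable {G : Type*} [Group G] [Finite G]

theorem WP_of_camina (N : Subgroup G) [hNn : N.Normal]
    (hcam : ∀ g : G, g ∉ N → ∀ n ∈ N, ∃ x : G, x * g * x⁻¹ = g * n) : WP N := by
  intro g hg s hs k hk
  have hk0 : k ≠ 0 := by
    rintro rfl
    simp at hk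
    exact hg hk
  have hgpos : orderOf g ≠ 0 := (orderOf_pos g).ne'
  obtain ⟨a, m, hsm, hfac⟩ := Nat.exists_eq_pow_mul_and_not_dvd hgpos s hs.ne_one
  have hcop : Nat.Coprime m (s ^ k) :=
    Nat.Coprime.pow_right _ ((Nat.Prime.coprime_iff_not_dvd hs).mpr hsm).symm
  have hsk : 1 < s ^ k := Nat.one_lt_pow hk0 hs.one_lt
  obtain ⟨u, -, hu⟩ := Nat.exists_mul_mod_eq_one_of_coprime hcop hsk
  -- `t = m * u = 1 + s ^ k * w`
  set t := m * u with ht
  have htdiv : t = s ^ k * (t / s ^ k) + 1 := by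
    have := Nat.div_add_mod t (s ^ k)
    omega
  set w := t / s ^ k with hw
  -- the `s`-element in the coset
  have h1 : g ^ t = g * (g ^ s ^ k) ^ w := by
    rw [htdiv, pow_succ', pow_mul]
  have hn : (g ^ s ^ k) ^ w ∈ N := N.pow_mem hk w
  obtain ⟨x, hx⟩ := hcam g hg _ hn
  have h2 : (g ^ t) ^ s ^ a = 1 := by
    rw [← pow_mul]
    have : orderOf g ∣ t * s ^ a := by
      rw [hfac, ht]
      exact ⟨u, by ring⟩
    exact orderOf_dvd_iff_pow_eq_one.mp this
  refine ⟨a, ?_⟩
  rw [← h1] at hx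
  have h3 : (x * g * x⁻¹) ^ s ^ a = 1 := by rw [hx, h2]
  rw [conj_pow] at h3
  have h4 : x * g ^ s ^ a = x := by
    have := congrArg (fun z => z * x) h3
    simpa using this
  simpa using h4

/-- `|C_G(ρ)| = |C_{G/N}(ρN)|` for `ρ ∉ N`. -/
theorem card_centralizer_eq (N : Subgroup G) [hNn : N.Normal]
    (hcam : ∀ g : G, g ∉ N → ∀ n ∈ N, ∃ x : G, x * g * x⁻¹ = g * n) (ρ : G) (hρ : ρ ∉ N) :
    Nat.card (Subgroup.centralizer ({ρ} : Set G))
      = Nat.card (Subgroup.centralizer ({QuotientGroup.mk' N ρ} : Set (G ⧸ N))) := by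
  classical
  set π := QuotientGroup.mk' N with hπ
  let Z : Subgroup (G ⧸ N) := Subgroup.centralizer ({π ρ} : Set (G ⧸ N))
  let D : Subgroup G := Z.comap π
  let C : Subgroup G := Subgroup.centralizer ({ρ} : Set G)
  have hCD : C ≤ D := by
    intro c hc
    show π c ∈ Subgroup.centralizer ({π ρ} : Set (G ⧸ N))
    rw [Subgroup.mem_centralizer_singleton_iff]
    have : c * ρ = ρ * c := (Subgroup.mem_centralizer_singleton_iff.mp hc)
    have h2 := congrArg π this
    simpa using h2
  have hND : N ≤ D := by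
    intro n hn
    show π n ∈ Subgroup.centralizer ({π ρ} : Set (G ⧸ N))
    have : π n = 1 := (QuotientGroup.eq_one_iff n).mpr hn
    rw [this]
    exact Subgroup.one_mem _
  have hDmem : ∀ h : G, h ∈ D ↔ ρ⁻¹ * (h * ρ * h⁻¹) ∈ N := by
    intro h
    show π h ∈ Subgroup.centralizer ({π ρ} : Set (G ⧸ N)) ↔ _
    rw [Subgroup.mem_centralizer_singleton_iff]
    have e : π (ρ⁻¹ * (h * ρ * h⁻¹)) = (π ρ)⁻¹ * (π h * π ρ * (π h)⁻¹) := by simp
    constructor
    · intro hc
      apply (QuotientGroup.eq_one_iff _).mp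
      show π _ = 1
      rw [e, hc]
      group
    · intro hm
      have h0 : π (ρ⁻¹ * (h * ρ * h⁻¹)) = 1 := (QuotientGroup.eq_one_iff _).mpr hm
      rw [e, inv_mul_eq_one, eq_mul_inv_iff_mul_eq] at h0
      exact h0.symm
  -- first count
  have h1 : Nat.card D = Nat.card Z * Nat.card N := by
    let f : D → Z := fun x => ⟨π x, x.2⟩
    have := card_fiber (N.subgroupOf D) f
      (by
        rintro ⟨z, hz⟩
        obtain ⟨x, rfl⟩ := QuotientGroup.mk'_surjective N z
        exact ⟨⟨x, hz⟩, rfl⟩)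
      (by
        intro a b
        constructor
        · intro hab
          have h2 : π (a : G) = π (b : G) := congrArg (fun z : Z => (z : G ⧸ N)) hab
          exact Subgroup.mem_subgroupOf.mpr (by simpa using (QuotientGroup.eq (s := N)).mp h2)
        · intro hab
          apply Subtype.ext
          have h2 : (a : G)⁻¹ * (b : G) ∈ N := by
            have := Subgroup.mem_subgroupOf.mp hab
            simpa using this
          exact (QuotientGroup.eq (s := N)).mpr h2)
    rw [this]
    congr 1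
    exact Nat.card_congr (Subgroup.subgroupOfEquivOfLe hND).toEquiv
  -- second count
  have h2 : Nat.card D = Nat.card N * Nat.card C := by
    let f : D → N := fun h => ⟨ρ⁻¹ * ((h : G) * ρ * (h : G)⁻¹), (hDmem h).mp h.2⟩
    have := card_fiber (C.subgroupOf D) f
      (by
        rintro ⟨n, hn⟩
        obtain ⟨x, hx⟩ := hcam ρ hρ n hn
        have hxD : x ∈ D := by
          rw [hDmem, hx]
          simpa using hn
        refine ⟨⟨x, hxD⟩, Subtype.ext ?_⟩
        show ρ⁻¹ * (x * ρ * x⁻¹) = n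
        rw [hx]; simp)
      (by
        intro a b
        have key : f a = f b ↔ (a : G) * ρ * (a : G)⁻¹ = (b : G) * ρ * (b : G)⁻¹ := by
          constructor
          · intro hab
            have h3 : ρ⁻¹ * ((a : G) * ρ * (a : G)⁻¹) = ρ⁻¹ * ((b : G) * ρ * (b : G)⁻¹) :=
              congrArg (fun z : N => (z : G)) hab
            exact mul_left_cancel h3
          · intro hab
            apply Subtype.ext
            show ρ⁻¹ * ((a : G) * ρ * (a : G)⁻¹) = ρ⁻¹ * ((b : G) * ρ * (b : G)⁻¹)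
            rw [hab]
        rw [key, Subgroup.mem_subgroupOf]
        show _ ↔ ((a⁻¹ * b : D) : G) ∈ Subgroup.centralizer ({ρ} : Set G)
        rw [Subgroup.mem_centralizer_singleton_iff]
        simp only [Subgroup.coe_mul, Subgroup.coe_inv]
        constructor
        · intro hab
          have h3 : ρ = (a : G)⁻¹ * (b : G) * ρ * ((a : G)⁻¹ * (b : G))⁻¹ := by
            have h4 : (a : G)⁻¹ * ((a : G) * ρ * (a : G)⁻¹) * (a : G) = ρ := by group
            rw [hab] at h4
            rw [show (a : G)⁻¹ * (b : G) * ρ * ((a : G)⁻¹ * (b : G))⁻¹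
              = (a : G)⁻¹ * ((b : G) * ρ * (b : G)⁻¹) * (a : G) by group]
            exact h4.symm
          calc (a : G)⁻¹ * (b : G) * ρ
              = ((a : G)⁻¹ * (b : G) * ρ * ((a : G)⁻¹ * (b : G))⁻¹) * ((a : G)⁻¹ * (b : G)) := by group
            _ = ρ * ((a : G)⁻¹ * (b : G)) := by rw [← h3]
        · intro hab
          have h3 : (a : G)⁻¹ * (b : G) * ρ * ((a : G)⁻¹ * (b : G))⁻¹ = ρ := by
            rw [hab]; group
          calc (a : G) * ρ * (a : G)⁻¹
              = (a : G) * ((a : G)⁻¹ * (b : G) * ρ * ((a : G)⁻¹ * (b : G))⁻¹) * (a : G)⁻¹ := by rw [h3]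
            _ = (b : G) * ρ * (b : G)⁻¹ := by group)
    rw [this]
    congr 1
    exact Nat.card_congr (Subgroup.subgroupOfEquivOfLe hCD).toEquiv
  have h3 : Nat.card Z * Nat.card N = Nat.card N * Nat.card C := by rw [← h1, h2]
  rw [mul_comm] at h3
  exact (Nat.eq_of_mul_eq_mul_left Nat.card_pos h3).symm

theorem mem_norm_of_comm {T : Type*} [Group T] (K : Subgroup T) (a : T)
    (h : ∀ x ∈ K, a * x = x * a) : a ∈ Subgroup.normalizer (K : Set T) := by
  rw [Subgroup.mem_normalizer_iff]
  intro n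
  constructor
  · intro hn
    rw [h n hn]
    simpa using hn
  · intro hn
    have h1 := h _ hn
    have h2 : a * n * a⁻¹ = n := by
      have h3 : a * (a * n * a⁻¹) * a⁻¹ = (a * n * a⁻¹) * a * a⁻¹ := by rw [h1]
      simp only [mul_inv_cancel_right] at h3
      -- `a * a * n * a⁻¹ * a⁻¹ = a * n * a⁻¹`
      have h4 : a * (a * n * a⁻¹) * a⁻¹ = a * n * a⁻¹ := h3
      have h5 : a⁻¹ * (a * (a * n * a⁻¹) * a⁻¹) * a = a⁻¹ * (a * n * a⁻¹) * a := by rw [h4]
      have h6 : a⁻¹ * (a * (a * n * a⁻¹) * a⁻¹) * a = a * n * a⁻¹ := by group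
      have h7 : a⁻¹ * (a * n * a⁻¹) * a = n := by group
      rw [h6, h7] at h5
      exact h5
    rwa [h2] at hn

theorem pgroup_zpowers {T : Type*} [Group T] (p m : ℕ) (x : T) (hx : x ^ p ^ m = 1) :
    IsPGroup p (Subgroup.zpowers x) := by
  rintro ⟨_, i, rfl⟩
  refine ⟨m, Subtype.ext ?_⟩
  show ((fun k : ℤ => x ^ k) i) ^ p ^ m = 1
  simp only
  rw [← zpow_natCast, ← zpow_mul, mul_comm, zpow_mul, zpow_natCast, hx, one_zpow]

/-- commuting elements generate a commutative `p`-group. -/
theorem sup_zpowers {T : Type*} [Group T] (p a b : ℕ) [Fact p.Prime] (x y : T) (hxy : x * y = y * x)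
    (hx : x ^ p ^ a = 1) (hy : y ^ p ^ b = 1) :
    IsPGroup p (Subgroup.zpowers x ⊔ Subgroup.zpowers y : Subgroup T) ∧
      ∀ u ∈ (Subgroup.zpowers x ⊔ Subgroup.zpowers y : Subgroup T),
        ∀ v ∈ (Subgroup.zpowers x ⊔ Subgroup.zpowers y : Subgroup T), u * v = v * u := by
  have hc : Commute x y := hxy
  constructor
  · apply IsPGroup.to_sup_of_normal_right' (pgroup_zpowers p a x hx) (pgroup_zpowers p b y hy)
    rintro _ ⟨i, rfl⟩
    apply mem_norm_of_comm
    rintro _ ⟨j, rfl⟩
    exact (hc.zpow_zpow i j)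
  · set A : Subgroup T := Subgroup.zpowers x ⊔ Subgroup.zpowers y with hA
    have h1 : A ≤ Subgroup.centralizer (Subgroup.zpowers x : Set T) := by
      apply sup_le
      · rintro _ ⟨i, rfl⟩
        rw [Subgroup.mem_centralizer_iff]
        rintro _ ⟨j, rfl⟩
        exact (Commute.refl x).zpow_zpow j i
      · rintro _ ⟨i, rfl⟩
        rw [Subgroup.mem_centralizer_iff]
        rintro _ ⟨j, rfl⟩
        exact hc.zpow_zpow j i
    have h2 : A ≤ Subgroup.centralizer (Subgroup.zpowers y : Set T) := by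
      apply sup_le
      · rintro _ ⟨i, rfl⟩
        rw [Subgroup.mem_centralizer_iff]
        rintro _ ⟨j, rfl⟩
        exact (hc.zpow_zpow i j).symm
      · rintro _ ⟨i, rfl⟩
        rw [Subgroup.mem_centralizer_iff]
        rintro _ ⟨j, rfl⟩
        exact (Commute.refl y).zpow_zpow j i
    have h3 : A ≤ Subgroup.centralizer (A : Set T) := by
      apply sup_le
      · intro z hz
        rw [Subgroup.mem_centralizer_iff]
        intro w hw
        exact ((Subgroup.mem_centralizer_iff.mp (h1 hw)) z hz).symm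
      · intro z hz
        rw [Subgroup.mem_centralizer_iff]
        intro w hw
        exact ((Subgroup.mem_centralizer_iff.mp (h2 hw)) z hz).symm
    intro u hu v hv
    exact (Subgroup.mem_centralizer_iff.mp (h3 hv)) u hu

theorem mixed (N : Subgroup G) [hNn : N.Normal]
    (hcam : ∀ g : G, g ∉ N → ∀ n ∈ N, ∃ x : G, x * g * x⁻¹ = g * n) (p : ℕ) [hp : Fact p.Prime]
    (hpN : p ∣ Nat.card N) (hpG : p ∣ N.index) : ∃ B, NC N B p := by
  classical
  by_contra hno
  have hw := WP_of_camina N hcam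
  have hp' : p.Prime := hp.out
  set π := QuotientGroup.mk' N with hπ
  have hπone : ∀ x, π x = 1 ↔ x ∈ N := fun x => QuotientGroup.eq_one_iff x
  have hpT : p ∣ Nat.card (G ⧸ N) := hpG
  obtain ⟨t₀, ht₀⟩ := exists_prime_orderOf_dvd_card' p hpT
  -- element of maximal order
  let X := {t : G ⧸ N // ∃ k : ℕ, t ^ p ^ k = 1}
  haveI : Nonempty X := ⟨⟨t₀, 1, by rw [pow_one, ← ht₀]; exact pow_orderOf_eq_one t₀⟩⟩
  obtain ⟨⟨ρb, kρ, hkρ⟩, hmaxo⟩ := Finite.exists_max (fun t : X => orderOf t.1)
  simp only at hmaxo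
  have hele : p ≤ orderOf ρb := by
    have := hmaxo ⟨t₀, 1, by rw [pow_one, ← ht₀]; exact pow_orderOf_eq_one t₀⟩
    simpa [ht₀] using this
  have hρb1 : ρb ≠ 1 := by
    rintro rfl
    rw [orderOf_one] at hele
    have := hp'.one_lt
    omega
  set e := orderOf ρb with he
  -- all `p`-elements of the centralizer lie in `⟨ρb⟩`
  have hmax : ∀ w ∈ Subgroup.centralizer ({ρb} : Set (G ⧸ N)), (∃ k : ℕ, w ^ p ^ k = 1) →
      w ∈ Subgroup.zpowers ρb := by
    rintro w hwc ⟨kw, hkw⟩
    have hcm : ρb * w = w * ρb := (Subgroup.mem_centralizer_singleton_iff.mp hwc).symm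
    obtain ⟨hpA, hcA⟩ := sup_zpowers p kρ kw ρb w hcm hkρ hkw
    set A₀ : Subgroup (G ⧸ N) := Subgroup.zpowers ρb ⊔ Subgroup.zpowers w with hA₀
    have hρA : ρb ∈ A₀ := (le_sup_left : Subgroup.zpowers ρb ≤ A₀) (Subgroup.mem_zpowers ρb)
    have hwA : w ∈ A₀ := (le_sup_right : Subgroup.zpowers w ≤ A₀) (Subgroup.mem_zpowers w)
    by_cases hcyc : IsCyclic A₀
    · obtain ⟨c₀, hc₀⟩ := hcyc.exists_generator
      obtain ⟨kc, hkc⟩ := hpA c₀
      have hkc' : (c₀ : G ⧸ N) ^ p ^ kc = 1 := congrArg Subtype.val hkc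
      have hle := hmaxo ⟨c₀, kc, hkc'⟩
      simp only at hle
      have hmem : ∀ t ∈ A₀, t ∈ Subgroup.zpowers (c₀ : G ⧸ N) := by
        intro t ht
        obtain ⟨k, hk⟩ := Subgroup.mem_zpowers_iff.mp (hc₀ ⟨t, ht⟩)
        exact Subgroup.mem_zpowers_iff.mpr ⟨k, congrArg Subtype.val hk⟩
      have hle2 : Subgroup.zpowers ρb ≤ Subgroup.zpowers (c₀ : G ⧸ N) := by
        rw [Subgroup.zpowers_le]
        exact hmem ρb hρA
      have heq : Subgroup.zpowers ρb = Subgroup.zpowers (c₀ : G ⧸ N) :=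
        Subgroup.eq_of_le_of_card_ge hle2 (by
          rw [Nat.card_zpowers, Nat.card_zpowers]
          exact hle)
      rw [heq]
      exact hmem w hwA
    · exfalso
      apply hno
      refine ⟨A₀.comap π, ⟨?_, ?_, ?_, ?_⟩⟩
      · intro n hn
        show π n ∈ A₀
        rw [(hπone n).mpr hn]
        exact A₀.one_mem
      · intro x hx y hy
        rw [← hπone]
        have := hcA _ hx _ hy
        simp only [map_mul, map_inv]
        rw [this]
        group
      · intro x hx
        obtain ⟨k, hk⟩ := hpA ⟨π x, hx⟩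
        refine ⟨k, ?_⟩
        rw [← hπone, map_pow]
        exact congrArg Subtype.val hk
      · rintro ⟨c, hc, hcx⟩
        apply hcyc
        refine ⟨⟨⟨π c, hc⟩, ?_⟩⟩
        rintro ⟨t, ht⟩
        obtain ⟨x, rfl⟩ := QuotientGroup.mk'_surjective N t
        obtain ⟨k, hk⟩ := hcx x ht
        have h2 := (hπone _).mpr hk
        rw [map_mul, map_zpow] at h2
        refine Subgroup.mem_zpowers_iff.mpr ⟨-k, Subtype.ext ?_⟩
        show (π c) ^ (-k) = π x
        rw [zpow_neg]
        exact (eq_inv_of_mul_eq_one_left h2).symm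
  -- any `p`-subgroup of `C_G(ρ)` has order at most `e`
  obtain ⟨P⟩ := (inferInstance : Nonempty (Sylow p N))
  let P' : Subgroup G := (P : Subgroup N).map N.subtype
  have hP'N : P' ≤ N := Subgroup.map_subtype_le _
  have hP'p : IsPGroup p P' := P.2.map _
  have hP'card : p ∣ Nat.card P' := by
    have h1 : Nat.card P' = Nat.card (P : Subgroup N) :=
      Nat.card_congr (Subgroup.equivMapOfInjective _ _ N.subtype_injective).symm.toEquiv
    rw [h1, Sylow.card_eq_multiplicity P]
    have h2 := (hp'.dvd_iff_one_le_factorization Nat.card_pos.ne').mp hpN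
    exact dvd_pow_self p (by omega)
  obtain ⟨g₀, hg₀⟩ := QuotientGroup.mk'_surjective N ρb
  have hfr : Subgroup.normalizer (P' : Set G) ⊔ N = ⊤ := Sylow.normalizer_sup_eq_top P
  have hg₀mem : g₀ ∈ Subgroup.normalizer (P' : Set G) ⊔ N := by rw [hfr]; trivial
  obtain ⟨ρ, hρn, n, hn, hρ⟩ := Subgroup.mem_sup_of_normal_right.mp hg₀mem
  have hπρ : π ρ = ρb := by
    rw [← hg₀, ← hρ, map_mul, (hπone n).mpr hn, mul_one]
  have hρN : ρ ∉ N := by
    intro h
    apply hρb1
    rw [← hπρ]
    exact (hπone ρ).mpr h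
  obtain ⟨mρ, hmρ⟩ : ∃ m : ℕ, ρ ^ p ^ m = 1 := by
    apply hw ρ hρN p hp' kρ
    rw [← hπone, map_pow, hπρ, hkρ]
  -- fixed point in `P'`
  have hzp : IsPGroup p (Subgroup.zpowers ρ) := pgroup_zpowers p mρ ρ hmρ
  have hznorm : ∀ z ∈ Subgroup.zpowers ρ, z ∈ Subgroup.normalizer (P' : Set G) := by
    intro z hz
    have : Subgroup.zpowers ρ ≤ Subgroup.normalizer (P' : Set G) := by
      rw [Subgroup.zpowers_le]; exact hρn
    exact this hz
  letI act : MulAction (Subgroup.zpowers ρ) P' :=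
    { smul := fun z u => ⟨(z : G) * u * (z : G)⁻¹,
        (Subgroup.mem_normalizer_iff.mp (hznorm z z.2) u).mp u.2⟩
      one_smul := fun u => Subtype.ext (by
        show ((1 : Subgroup.zpowers ρ) : G) * u * ((1 : Subgroup.zpowers ρ) : G)⁻¹ = u
        simp)
      mul_smul := fun a b u => Subtype.ext (by
        show ((a * b : Subgroup.zpowers ρ) : G) * u * ((a * b : Subgroup.zpowers ρ) : G)⁻¹
          = (a : G) * ((b : G) * u * (b : G)⁻¹) * (a : G)⁻¹
        simp only [Subgroup.coe_mul]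
        group) }
  have hone : (1 : P') ∈ MulAction.fixedPoints (Subgroup.zpowers ρ) P' := by
    intro z
    apply Subtype.ext
    show (z : G) * ((1 : P') : G) * (z : G)⁻¹ = ((1 : P') : G)
    simp
  obtain ⟨u, hu, hu1⟩ := hzp.exists_fixed_point_of_prime_dvd_card_of_fixed_point P' hP'card hone
  have huρ : ρ * (u : G) * ρ⁻¹ = u := by
    have := hu ⟨ρ, Subgroup.mem_zpowers ρ⟩
    exact congrArg Subtype.val this
  have hcomm : ρ * (u : G) = u * ρ := by
    rw [mul_inv_eq_iff_eq_mul] at huρ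
    exact huρ
  have hu1' : (u : G) ≠ 1 := fun h => hu1 (Subtype.ext h.symm)
  obtain ⟨ku, hku⟩ := hP'p u
  have hku' : (u : G) ^ p ^ ku = 1 := congrArg Subtype.val hku
  obtain ⟨hpH, hcH⟩ := sup_zpowers p mρ ku ρ (u : G) hcomm hmρ hku'
  set H : Subgroup G := Subgroup.zpowers ρ ⊔ Subgroup.zpowers (u : G) with hH
  have hρH : ρ ∈ H := (le_sup_left : Subgroup.zpowers ρ ≤ H) (Subgroup.mem_zpowers ρ)
  have huH : (u : G) ∈ H := (le_sup_right : Subgroup.zpowers (u : G) ≤ H) (Subgroup.mem_zpowers _)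
  -- `|H| > e`
  have hHgt : 2 * e ≤ Nat.card H := by
    let f : H → H.map π := fun x => ⟨π x, Subgroup.mem_map_of_mem _ x.2⟩
    have hfib := card_fiber (N.subgroupOf H) f
      (by
        rintro ⟨_, x, hx, rfl⟩
        exact ⟨⟨x, hx⟩, rfl⟩)
      (by
        intro a b
        constructor
        · intro hab
          have h1 : π (a : G) = π (b : G) := congrArg (fun z : H.map π => (z : G ⧸ N)) hab
          exact Subgroup.mem_subgroupOf.mpr (by simpa using (QuotientGroup.eq (s := N)).mp h1)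
        · intro hab
          apply Subtype.ext
          have h1 : (a : G)⁻¹ * (b : G) ∈ N := by
            have := Subgroup.mem_subgroupOf.mp hab
            simpa using this
          exact (QuotientGroup.eq (s := N)).mpr h1)
    have h1 : e ∣ Nat.card (H.map π) := by
      rw [he, ← Nat.card_zpowers]
      apply Subgroup.card_dvd_of_le
      rw [Subgroup.zpowers_le, ← hπρ]
      exact Subgroup.mem_map_of_mem _ hρH
    have h2 : 2 ≤ Nat.card (N.subgroupOf H) := by
      have : Nontrivial (N.subgroupOf H) := by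
        refine ⟨⟨⟨⟨u, huH⟩, hP'N u.2⟩, 1, ?_⟩⟩
        intro h3
        apply hu1'
        have := congrArg (fun z : N.subgroupOf H => ((z : H) : G)) h3
        simpa using this
      exact Finite.one_lt_card
    rw [hfib, mul_comm 2]
    exact Nat.mul_le_mul (Nat.le_of_dvd Nat.card_pos h1) h2
  -- `|H| ≤ e`
  have hHle : Nat.card H ≤ e := by
    obtain ⟨j, hj⟩ := IsPGroup.iff_card.mp hpH
    have hHC : H ≤ Subgroup.centralizer ({ρ} : Set G) := by
      intro z hz
      rw [Subgroup.mem_centralizer_singleton_iff]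
      exact hcH z hz ρ hρH
    have h1 : Nat.card H ∣ Nat.card (Subgroup.centralizer ({ρ} : Set G)) :=
      Subgroup.card_dvd_of_le hHC
    rw [card_centralizer_eq N hcam ρ hρN, hπρ, hj] at h1
    set Z : Subgroup (G ⧸ N) := Subgroup.centralizer ({ρb} : Set (G ⧸ N)) with hZ
    obtain ⟨W⟩ := (inferInstance : Nonempty (Sylow p Z))
    have hWcard := Sylow.card_eq_multiplicity W
    have hWe : Nat.card (W : Subgroup Z) ≤ e := by
      have hf : Function.Injective (fun x : (W : Subgroup Z) =>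
          (⟨((x : Z) : G ⧸ N), hmax _ (x : Z).2 (by
            obtain ⟨k, hk⟩ := W.2 x
            refine ⟨k, ?_⟩
            have := congrArg (fun z : (W : Subgroup Z) => ((z : Z) : G ⧸ N)) hk
            simpa using this)⟩ : Subgroup.zpowers ρb)) := by
        intro x y hxy
        apply Subtype.ext
        apply Subtype.ext
        exact congrArg (fun z : Subgroup.zpowers ρb => (z : G ⧸ N)) hxy
      have := Nat.card_le_card_of_injective _ hf
      rwa [Nat.card_zpowers] at this
    have hjle : j ≤ (Nat.card Z).factorization p :=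
      (hp'.pow_dvd_iff_le_factorization Nat.card_pos.ne').mp h1
    rw [hj]
    calc p ^ j ≤ p ^ (Nat.card Z).factorization p := Nat.pow_le_pow_right hp'.pos hjle
      _ = Nat.card (W : Subgroup Z) := hWcard.symm
      _ ≤ e := hWe
  have hepos : 0 < e := orderOf_pos ρb
  omega

end camina

/-- Let G be a finite group and N a proper non-trivial normal subgroup such that for every g outside N the conjugacy class of g is a union of cosets of N (equivalently gn is conjugate to g for every n ∈ N). Then either every element of G outside N acts fixed-point-freely on N (C_G(x) ≤ N for all x ∈ N, x ≠ 1, so G is a Frobenius group with kernel N), or N has prime-power order, or G/N has prime-power order. -/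
theorem result {G : Type*} [Group G] [Finite G] (N : Subgroup G) [N.Normal] (hN1 : N ≠ ⊥) (hN2 : N ≠ ⊤)
    (hcam : ∀ g : G, g ∉ N → ∀ n ∈ N, ∃ x : G, x * g * x⁻¹ = g * n) :
    (∀ x ∈ N, x ≠ 1 → Subgroup.centralizer ({x} : Set G) ≤ N) ∨ IsPrimePow (Nat.card N) ∨ IsPrimePow N.index := by
  classical
  by_contra hcon
  push Not at hcon
  obtain ⟨⟨x, hxN, hx1, hxc⟩, hNp, hIp⟩ := hcon
  have hw := WP_of_camina N hcam
  set π := QuotientGroup.mk' N with hπ
  have hπone : ∀ x, π x = 1 ↔ x ∈ N := fun x => QuotientGroup.eq_one_iff x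
  obtain ⟨y, hyc, hyN⟩ := Set.not_subset.mp hxc
  have hyc' : y * x = x * y := Subgroup.mem_centralizer_singleton_iff.mp hyc
  -- a prime power part of `y` outside `N`
  have hm1 : orderOf (π y) ≠ 1 := by
    intro h
    exact hyN ((hπone y).mp (orderOf_eq_one_iff.mp h))
  obtain ⟨s, hs, hsd⟩ := Nat.exists_prime_and_dvd hm1
  haveI : Fact s.Prime := ⟨hs⟩
  obtain ⟨a, m, hsm, hfac⟩ := Nat.exists_eq_pow_mul_and_not_dvd (orderOf_pos (π y)).ne' s hs.ne_one
  have ha0 : a ≠ 0 := by
    rintro rfl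
    apply hsm
    simpa [hfac] using hsd
  set y₁ := y ^ m with hy₁
  have hmpos : 0 < m := by
    rcases Nat.eq_zero_or_pos m with h | h
    · subst h
      rw [mul_zero] at hfac
      exact absurd hfac (orderOf_pos (π y)).ne'
    · exact h
  have hy₁N : y₁ ∉ N := by
    intro h
    have h1 : (π y) ^ m = 1 := by rw [← map_pow, ← hy₁]; exact (hπone _).mpr h
    have h2 := orderOf_dvd_of_pow_eq_one h1
    rw [hfac] at h2
    have h3 : s ^ a ∣ m := (Nat.dvd_mul_right _ _).trans h2
    have h4 : s ∣ m := (dvd_pow_self s ha0).trans h3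
    exact hsm h4
  have hy₁k : y₁ ^ s ^ a ∈ N := by
    rw [← hπone, map_pow, hy₁, map_pow, ← pow_mul, mul_comm, ← hfac]
    exact pow_orderOf_eq_one _
  obtain ⟨b, hb⟩ := hw y₁ hy₁N s hs a hy₁k
  have hcy₁ : y₁ * x = x * y₁ := ((Commute.pow_left hyc' m)).eq
  obtain ⟨c, hc⟩ := comm_elem hw hs hy₁N hb hxN hcy₁
  -- `s` divides both
  have hsN : s ∣ Nat.card N := by
    have h1 : orderOf x ∣ s ^ c := orderOf_dvd_of_pow_eq_one hc
    have h2 : orderOf x ≠ 1 := fun h => hx1 (orderOf_eq_one_iff.mp h)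
    obtain ⟨j, -, hj⟩ := (Nat.dvd_prime_pow hs).mp h1
    have hj0 : j ≠ 0 := by
      rintro rfl
      simp at hj
      exact hx1 hj
    have h3 : orderOf x ∣ Nat.card N := by
      have := orderOf_dvd_natCard (⟨x, hxN⟩ : N)
      rwa [Subgroup.orderOf_mk] at this
    rw [hj] at h3
    exact (dvd_pow_self s hj0).trans h3
  have hsI : s ∣ N.index := by
    have h1 : orderOf (π y) ∣ Nat.card (G ⧸ N) := orderOf_dvd_natCard _
    exact hsd.trans h1
  obtain ⟨B, hB⟩ := mixed N hcam s hsN hsI
  -- another prime on each side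
  have hN0 : Nat.card N ≠ 0 := Nat.card_pos.ne'
  have hI0 : N.index ≠ 0 := Subgroup.index_ne_zero_of_finite
  have hN1' : Nat.card N ≠ 1 := fun h => hN1 (Subgroup.card_eq_one.mp h)
  have hI1 : N.index ≠ 1 := fun h => hN2 (Subgroup.index_eq_one.mp h)
  obtain ⟨q, hq, hqd, hqs⟩ : ∃ q : ℕ, q.Prime ∧ q ∣ Nat.card N ∧ q ≠ s := by
    by_contra hno
    push Not at hno
    have := Nat.eq_prime_pow_of_unique_prime_dvd hN0 (fun {d} hd hdd => hno d hd hdd)
    apply hNp
    rw [this]
    refine (hs.isPrimePow.pow ?_)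
    intro h0
    rw [h0, pow_zero] at this
    exact hN1' this
  obtain ⟨r, hr, hrd, hrs⟩ : ∃ r : ℕ, r.Prime ∧ r ∣ N.index ∧ r ≠ s := by
    by_contra hno
    push Not at hno
    have := Nat.eq_prime_pow_of_unique_prime_dvd hI0 (fun {d} hd hdd => hno d hd hdd)
    apply hIp
    rw [this]
    refine (hs.isPrimePow.pow ?_)
    intro h0
    rw [h0, pow_zero] at this
    exact hI1 this
  haveI : Fact r.Prime := ⟨hr⟩
  by_cases hrN : r ∣ Nat.card N
  · -- two mixed primes
    obtain ⟨B', hB'⟩ := mixed N hcam r hrN hrd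
    exact hN1 (M2 s r hrs.symm _ G N B B' le_rfl hw hB hB')
  -- `r` is coprime to `|N|`: Thompson
  obtain ⟨t, ht⟩ := exists_prime_orderOf_dvd_card' (G := G ⧸ N) r hrd
  obtain ⟨w, rfl⟩ := QuotientGroup.mk'_surjective N t
  have hwN : w ∉ N := by
    intro h
    rw [(hπone w).mpr h, orderOf_one] at ht
    exact hr.one_lt.ne ht
  have hwr : w ^ r ∈ N := by
    rw [← hπone, map_pow, ← ht]
    exact pow_orderOf_eq_one _
  obtain ⟨mw, hmw⟩ := hw w hwN r hr 1 (by simpa using hwr)
  have hfix : ∀ u ∈ N, w * u = u * w → u = 1 := by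
    intro u hu hcu
    obtain ⟨m', hm'⟩ := comm_elem hw hr hwN hmw hu hcu
    have h2 : u ^ Nat.card N = 1 := by
      have := pow_card_eq_one' (x := (⟨u, hu⟩ : N))
      exact congrArg Subtype.val this
    exact pow_coprime_one u _ _ hm' h2
      (Nat.Coprime.pow_left _ ((Nat.Prime.coprime_iff_not_dvd hr).mpr hrN))
  have hwr1 : w ^ r = 1 := hfix _ hwr (by
    rw [← pow_succ', pow_succ])
  have hnil : Group.IsNilpotent N := by
    refine Cfsg.Agent.Lib.Kegel.nilpotent_of_fpf (MulAut.conjNormal w) ?_ hr ?_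
    · intro u hu
      apply Subtype.ext
      have h1 : w * (u : G) * w⁻¹ = u := by
        have := congrArg Subtype.val hu
        simpa using this
      have h2 : w * (u : G) = u * w := by
        rwa [mul_inv_eq_iff_eq_mul] at h1
      exact hfix _ u.2 h2
    · rw [← map_pow, hwr1, map_one]
  -- pass to the quotient by the Sylow `s`-subgroup of `N`
  obtain ⟨P⟩ := (inferInstance : Nonempty (Sylow s N))
  have hPn : (P : Subgroup N).Normal := by
    have hN3 := (Group.isNilpotent_of_finite_tfae (G := N)).out 0 3 rfl rfl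
    exact hN3.1 hnil s inferInstance P
  haveI hPc : (P : Subgroup N).Characteristic := Sylow.characteristic_of_normal P hPn
  let P' : Subgroup G := (P : Subgroup N).map N.subtype
  haveI hP'n : P'.Normal := inferInstance
  have hP'N : P' ≤ N := Subgroup.map_subtype_le _
  have hP'card : Nat.card P' = s ^ (Nat.card N).factorization s := by
    have h1 : Nat.card P' = Nat.card (P : Subgroup N) :=
      Nat.card_congr (Subgroup.equivMapOfInjective _ _ N.subtype_injective).symm.toEquiv
    rw [h1]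
    exact Sylow.card_eq_multiplicity P
  have hcard := card_map_quot N P' hP'N
  haveI : (N.map (QuotientGroup.mk' P')).Normal :=
    Subgroup.Normal.map inferInstance _ (QuotientGroup.mk'_surjective P')
  refine M1 (N.map (QuotientGroup.mk' P')) (B.map (QuotientGroup.mk' P')) (WP_quot N P' hP'N hw) s
    (NC_quot N P' B hP'N s hB) ?_ ?_
  · intro hd
    have h1 : s * s ^ (Nat.card N).factorization s ∣ Nat.card N := by
      have h2 : Nat.card N = Nat.card (N.map (QuotientGroup.mk' P')) * s ^ (Nat.card N).factorization s := by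
        rw [← hP'card]; exact hcard
      generalize (Nat.card N).factorization s = v at h2 ⊢
      rw [h2]
      exact Nat.mul_dvd_mul_right hd _
    rw [← pow_succ'] at h1
    exact Nat.pow_succ_factorization_not_dvd hN0 hs h1
  · intro h0
    rw [h0] at hcard
    simp only [Subgroup.card_bot, one_mul] at hcard
    rw [hcard, hP'card] at hqd
    have := (Nat.prime_dvd_prime_iff_eq hq hs).mp (hq.dvd_of_dvd_pow hqd)
    exact hqs this

end Cfsg.Agent.S4140
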