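import Cfsg.Statements.S4144
import Cfsg.Agent.Lib.MaxUnif
import Cfsg.Agent.Lib.MaxClassTwo

set_option autoImplicit false
set_option linter.unusedSectionVars false
set_option linter.style.haveILetI false
open Cfsg

namespace Cfsg.Agent.S4144

open Cfsg.Agent.Lib.LCSLie Cfsg.Agent.Lib.MaxExp Cfsg.Agent.Lib.MaxClassPow Cfsg.Agent.Lib.MaxUnif

section Aux

variable {X : Type*} [Group X] [Finite X] {p : ℕ} [hp : Fact p.Prime]

/-- The group generated by the `p`-th powers. -/
abbrev Pw (p : ℕ) (H : Subgroup X) : Subgroup X := Subgroup.closure {y : X | ∃ h ∈ H, y = h ^ p}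

lemma pw_le (H : Subgroup X) : Pw p H ≤ H := by
  refine (Subgroup.closure_le _).2 ?_
  rintro _ ⟨h, hh, rfl⟩
  exact pow_mem hh p

lemma pw_mem (H : Subgroup X) {y : X} (hy : y ∈ H) : y ^ p ∈ Pw p H := Subgroup.subset_closure ⟨y, hy, rfl⟩

lemma relIndex_le_of_card (H : Subgroup X) {c : ℕ} (h : Nat.card H ≤ Nat.card (Pw p H) * c) :
    (Pw p H).relIndex H ≤ c := by
  have h1 := Cfsg.Agent.Lib.ExtraBasics.relIndex_mul_card (pw_le (p := p) H)
  rw [← h1, mul_comm] at h
  exact Nat.le_of_mul_le_mul_left h Nat.card_pos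

/-- The case of `2`-groups. -/
lemma two_case {n : ℕ} (hn : 3 ≤ n) (hX : Nat.card X = 2 ^ n)
    (hlev : ∀ i, 1 ≤ i → i ≤ n - 1 → Nat.card (Gam X i) = 2 ^ (n - 1 - i)) (H : Subgroup X) :
    Nat.card H ≤ Nat.card (Pw 2 H) * 2 ^ 2 := by
  classical
  haveI : Fact (Nat.Prime 2) := ⟨Nat.prime_two⟩
  have hcomm : 4 * Nat.card (commutator X) = Nat.card X := by
    have h1 := hlev 1 le_rfl (by omega)
    have e : commutator X = Gam X 1 := rfl
    rw [e, h1, hX, show (4 : ℕ) = 2 ^ 2 by norm_num, ← pow_add]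
    congr 1
    omega
  obtain ⟨m, rfl⟩ : ∃ m, n = m + 3 := ⟨n - 3, by omega⟩
  obtain ⟨c, hc⟩ := Cfsg.Agent.Lib.MaxClassTwo.taussky m X hX hcomm
  haveI hN : (Subgroup.zpowers c).Normal := Subgroup.normal_of_index_eq_two hc
  have hW : Nat.card (⊤ : Subgroup X) = 2 * Nat.card (Subgroup.zpowers c) := by
    rw [Subgroup.card_top, ← Subgroup.card_mul_index (Subgroup.zpowers c), hc, mul_comm]
  have h1 := card_le_of_level (p := 2) (X := H) (Y := Subgroup.zpowers c) (W := ⊤) le_top le_top hW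
  -- the cyclic part
  let D : Subgroup X := H ⊓ Subgroup.zpowers c
  have hcyc : IsCyclic D :=
    isCyclic_of_injective (Subgroup.inclusion (inf_le_right : D ≤ Subgroup.zpowers c)) (Subgroup.inclusion_injective _)
  obtain ⟨d, hd⟩ := hcyc.exists_generator
  have h2 : Nat.card D ≤ orderOf (d : X) := by
    rw [← Nat.card_zpowers]
    refine Subgroup.card_le_of_le ?_
    intro x hx
    obtain ⟨z, hz⟩ := Subgroup.mem_zpowers_iff.1 (hd ⟨x, hx⟩)
    refine Subgroup.mem_zpowers_iff.2 ⟨z, ?_⟩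
    have := congrArg Subtype.val hz
    simpa using this
  have hdH : (d : X) ∈ H := d.2.1
  have h3 : orderOf (d : X) ≤ 2 * orderOf ((d : X) ^ 2) := by
    refine Nat.le_of_dvd (Nat.mul_pos (by norm_num) (orderOf_pos _)) ?_
    refine orderOf_dvd_of_pow_eq_one ?_
    rw [pow_mul, pow_orderOf_eq_one]
  have h4 : orderOf ((d : X) ^ 2) ≤ Nat.card (Pw 2 H) := by
    rw [← Nat.card_zpowers]
    refine Subgroup.card_le_of_le ?_
    rw [Subgroup.zpowers_le]
    exact pw_mem H hdH
  calc Nat.card H ≤ 2 * Nat.card D := h1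
    _ ≤ 2 * (2 * Nat.card (Pw 2 H)) := by
      apply Nat.mul_le_mul_left
      omega
    _ = _ := by ring

/-- The case of an odd prime. -/
lemma odd_case (hp3 : 3 ≤ p) {n : ℕ} (hnp : p + 1 ≤ n) (hX : Nat.card X = p ^ n)
    (hlev : ∀ i, 1 ≤ i → i ≤ n - 1 → Nat.card (Gam X i) = p ^ (n - 1 - i)) (H : Subgroup X) :
    Nat.card H ≤ Nat.card (Pw p H) * p ^ p := by
  have hpp := hp.out
  have hn : 3 ≤ n := by omega
  have hG : IsPGroup p X := IsPGroup.of_card hX
  obtain ⟨a, ha⟩ := exists_unif hp3 n hn X hX hlev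
  obtain ⟨hC, hZ⟩ := unif_props hG hX hn hlev ha
  have hppos : 0 < p := hpp.pos
  have hsucc : p ^ p = p ^ (p - 1) * p := by
    rw [← pow_succ]
    congr 1
    omega
  have hK : ∀ y ∈ H, y ^ p ∈ Pw p H := fun y hy => pw_mem H hy
  by_cases hle : H ≤ Gam X 1
  · have h1 := card_le_of_pow hG hX hn hlev hC hZ hle hK
    calc _ ≤ _ := h1
      _ ≤ _ := Nat.mul_le_mul_left _ (Nat.pow_le_pow_right hppos (by omega))
  by_cases htop : H = ⊤
  · subst htop
    set K := Pw p (⊤ : Subgroup X) with hKdef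
    have hK' : ∀ y : X, y ^ p ∈ K := fun y => pw_mem ⊤ (Subgroup.mem_top y)
    -- the last level is contained in `K`
    have hpl : ∀ y ∈ Gam X 1, y ^ p ∈ (K ⊓ Gam X p : Subgroup X) := by
      intro y hy
      refine ⟨hK' y, ?_⟩
      have := pow_lev hG hX hn hlev hC hZ (i := 1) le_rfl hy
      rwa [show 1 + p - 1 = p by omega] at this
    have h1 := card_le_of_pow hG hX hn hlev hC hZ (H := Gam X 1) (K := K ⊓ Gam X p) le_rfl hpl
    rw [hlev 1 le_rfl (by omega), show n - 1 - 1 = (n - 1 - p) + (p - 1) by omega, pow_add] at h1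
    have h2 : p ^ (n - 1 - p) ≤ Nat.card (K ⊓ Gam X p : Subgroup X) :=
      Nat.le_of_mul_le_mul_right h1 (pow_pos hppos _)
    have h3 : (K ⊓ Gam X p : Subgroup X) = Gam X p := by
      refine Subgroup.eq_of_le_of_card_ge inf_le_right ?_
      rw [hlev p (by omega) (by omega)]
      exact h2
    have h4 : Gam X p ≤ K := inf_eq_right.1 h3
    -- a `p`-th power outside the last level
    obtain ⟨hq1, hq2⟩ := quot_hlev hX hn hlev (m := p) (by omega) (by omega)
    have h5 : ¬ ∀ x : X ⧸ Gam X p, x ^ p = 1 := fun h => not_exp hp3 hq1 hq2 h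
    push Not at h5
    obtain ⟨x, hx⟩ := h5
    obtain ⟨s, rfl⟩ := QuotientGroup.mk_surjective x
    have hs : s ^ p ∉ Gam X p := by
      intro h
      apply hx
      rw [← QuotientGroup.mk_pow]
      exact (QuotientGroup.eq_one_iff _).2 h
    have hlt : Gam X p < K := lt_of_le_of_ne h4 fun h => hs (h ▸ hK' s)
    have h6 := mul_card_le_of_lt hlt (hG.to_subgroup K)
    rw [hlev p (by omega) (by omega), ← pow_succ'] at h6
    rw [Subgroup.card_top, hX]
    calc p ^ n = p ^ (n - 1 - p + 1) * p ^ p := by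
          rw [← pow_add]
          congr 1
          omega
      _ ≤ Nat.card K * p ^ p := Nat.mul_le_mul_right _ h6
  · obtain ⟨t, htH, htΓ⟩ := SetLike.not_le_iff_exists.1 hle
    have hWtop : H ⊔ Gam X 1 ≠ ⊤ := fun h => htop (Cfsg.Agent.Lib.RegularP.eq_top_of_sup_commutator hG H h)
    have hlt1 : Gam X 1 < H ⊔ Gam X 1 := by
      refine lt_of_le_of_ne le_sup_right fun h => htΓ ?_
      rw [h]
      exact Subgroup.mem_sup_left htH
    have h1 := mul_card_le_of_lt hlt1 (hG.to_subgroup _)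
    have h2 := mul_card_le_of_lt (lt_top_iff_ne_top.2 hWtop) (hG.to_subgroup _)
    rw [Subgroup.card_top, card_top_eq hX hn hlev, pow_two, mul_assoc] at h2
    have hW : Nat.card (H ⊔ Gam X 1 : Subgroup X) = p * Nat.card (Gam X 1) :=
      le_antisymm (Nat.le_of_mul_le_mul_left h2 hppos) h1
    have h3 : Nat.card H ≤ p * Nat.card (H ⊓ Gam X 1 : Subgroup X) := card_le_of_level le_sup_left le_sup_right hW
    have h4 := card_le_of_pow hG hX hn hlev hC hZ (H := H ⊓ Gam X 1) (K := Pw p H) inf_le_right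
      (fun y hy => hK y hy.1)
    calc Nat.card H ≤ p * Nat.card (H ⊓ Gam X 1 : Subgroup X) := h3
      _ ≤ p * (Nat.card (Pw p H) * p ^ (p - 1)) := Nat.mul_le_mul_left _ h4
      _ = Nat.card (Pw p H) * p ^ p := by
        rw [hsucc]
        ring

end Aux

/-- Let X be a finite p-group of order p^n, n ≥ 2, of nilpotency class n − 1 (maximal class), and H any subgroup of X. Then the index in H of the subgroup generated by the p-th powers of elements of H is at most p^p. -/
theorem result {X : Type*} [Group X] [Finite X] {p : ℕ} [Fact p.Prime] (n : ℕ) (hn : 2 ≤ n) (hX : Nat.card X = p ^ n)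
    (hmax : Group.nilpotencyClass X = n - 1) (H : Subgroup X) :
    (Subgroup.closure {y : X | ∃ h ∈ H, y = h ^ p}).relIndex H ≤ p ^ p := by
  have hpp : p.Prime := Fact.out
  have hG : IsPGroup p X := IsPGroup.of_card hX
  by_cases hnp : n ≤ p
  · have h1 := Cfsg.Agent.Lib.ExtraBasics.relIndex_mul_card (pw_le (p := p) H)
    have h2 : Nat.card H ≤ Nat.card X := Subgroup.card_le_card_group H
    have h3 : (Pw p H).relIndex H ≤ Nat.card H := by
      rw [← h1]
      exact Nat.le_mul_of_pos_right _ Nat.card_pos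
    calc _ ≤ _ := h3
      _ ≤ _ := h2
      _ = p ^ n := hX
      _ ≤ p ^ p := Nat.pow_le_pow_right hpp.pos hnp
  push Not at hnp
  have hlev := Cfsg.Agent.Lib.MaxClass.card_lcs_of_maxClass hG hX hmax (by have := hpp.two_le; omega)
  apply relIndex_le_of_card (p := p) H
  rcases hpp.eq_two_or_odd' with rfl | hodd
  · exact two_case (by omega) hX hlev H
  · have hp3 : 3 ≤ p := by
      have := hpp.two_le
      obtain ⟨k, hk⟩ := hodd
      omega
    exact odd_case hp3 (by omega) hX hlev H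

end Cfsg.Agent.S4144
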