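import Cfsg.Statements.S4172
import Cfsg.Agent.H28.TwoGenB

set_option autoImplicit false
open Cfsg

namespace Cfsg.Agent.S4172

open Cfsg.Agent.Lib.LocalCore Cfsg.Agent.Lib.PCore Cfsg.Agent.Lib.ComponentKnown
  Cfsg.Agent.H28.TwoGen

/-- Let p be a prime and G a finite group with a non-commutative Sylow p-subgroup P whose Frattini subgroup has index p² in P (P is generated by two elements). Suppose G has no nontrivial normal subgroup of order prime to p and the Frattini subgroup of P contains no nontrivial normal subgroup of G. Then the generalized Fitting subgroup F*(G) is the unique minimal normal subgroup of G, the image of P in G/F*(G) is cyclic, and if F*(G) is not commutative then P permutes the components of G transitively by conjugation. -/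
theorem result {G : Type*} [Group G] [Finite G] (p : ℕ) [Fact p.Prime] (P : Sylow p G) (hna : ¬ IsMulCommutative (P : Subgroup G)) (hgen : (frattini ↥(P : Subgroup G)).index = p ^ 2) (hcore : Cfsg.pPrimeCore p G = ⊥) (hfrat : ((frattini ↥(P : Subgroup G)).map (P : Subgroup G).subtype).normalCore = ⊥) [hFn : (Cfsg.generalizedFittingSubgroup G).Normal] :
    (Cfsg.generalizedFittingSubgroup G ≠ ⊥ ∧ ∀ K : Subgroup G, K.Normal → K ≠ ⊥ → Cfsg.generalizedFittingSubgroup G ≤ K) ∧
      IsCyclic ↥((P : Subgroup G).map (QuotientGroup.mk' (Cfsg.generalizedFittingSubgroup G))) ∧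
      (¬ IsMulCommutative (Cfsg.generalizedFittingSubgroup G) → ∀ K L : Subgroup G, Cfsg.IsComponent K → Cfsg.IsComponent L → ∃ x ∈ (P : Subgroup G), L = K.map (MulAut.conj x).toMonoidHom) := by
  classical
  obtain ⟨N, hNn, hN, hmin⟩ := exists_smallest P hna hgen hcore hfrat
  have hFne : generalizedFittingSubgroup G ≠ ⊥ := by
    intro hb
    have h1 := centralizer_generalizedFitting_le (G := G)
    rw [hb] at h1
    have h2 : Subgroup.centralizer (((⊥ : Subgroup G)) : Set G) = ⊤ := by
      rw [eq_top_iff]
      intro x _
      rw [Subgroup.mem_centralizer_iff]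
      intro y hy
      have hy1 : y = 1 := hy
      rw [hy1, one_mul, mul_one]
    rw [h2] at h1
    exact hN (le_bot_iff.mp (le_top.trans h1))
  have hFit : fittingSubgroup G = pCore p G :=
    fittingSubgroup_eq_pCore_of_pPrimeCore_eq_bot p hcore
  have hCycl := map_cyclic P hgen (not_le_of_normal P hcore hfrat hFne)
  by_cases hNab : ∀ a ∈ N, ∀ b ∈ N, a * b = b * a
  · -- abelian case
    have hNp : IsPGroup p N := by
      have hcoreN : pPrimeCore p N = ⊥ :=
        pPrimeCore_eq_bot_of_isSubnormal p hNn.isSubnormal hcore
      have hc := isPGroup_center_of_pPrimeCore_eq_bot (Fact.out : p.Prime) hcoreN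
      intro x
      have hx : x ∈ Subgroup.center N := by
        rw [Subgroup.mem_center_iff]
        intro y
        exact Subtype.ext (hNab _ y.2 _ x.2)
      obtain ⟨k, hk⟩ := hc ⟨x, hx⟩
      exact ⟨k, by simpa using congrArg Subtype.val hk⟩
    have hlay : layer G ≤ N := by
      apply sSup_le
      intro L hL
      exact (no_component_of_abelian P hgen hcore hfrat hN hNab hNp hmin hL).elim
    have hfitN : fittingSubgroup G ≤ N := by
      rw [hFit]
      exact pCore_le_of_abelian P hna hgen hcore hfrat hN hmin
    have hFN : generalizedFittingSubgroup G ≤ N := sup_le hlay hfitN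
    refine ⟨⟨hFne, fun K hK hKb => hFN.trans (hmin K hK hKb)⟩, hCycl, ?_⟩
    intro hnc
    exfalso
    apply hnc
    refine ⟨⟨fun x y => Subtype.ext ?_⟩⟩
    exact hNab _ (hFN x.2) _ (hFN y.2)
  · -- non-abelian case
    have hpc : pCore p G = ⊥ := by
      by_contra hne
      apply hNab
      have hNle : N ≤ pCore p G := hmin _ inferInstance hne
      intro a ha b hb
      exact normal_pgroup_abelian P hfrat (Q := pCore p G) (isPGroup_pCore p) (hNle ha) (hNle hb)
    have hfit0 : fittingSubgroup G = ⊥ := hFit.trans hpc
    have hlay : layer G ≤ N := by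
      apply sSup_le
      intro L hL
      rcases comp_le_or_commute hL hNn.isSubnormal with h | h
      · exact h
      · exfalso
        apply hNab
        have hLC : L ≤ Subgroup.centralizer (N : Set G) :=
          Subgroup.commutator_eq_bot_iff_le_centralizer.mp h
        have hCne : Subgroup.centralizer (N : Set G) ≠ ⊥ := by
          intro hb
          apply comp_ne_bot hL
          rw [eq_bot_iff, ← hb]
          exact hLC
        have hNC : N ≤ Subgroup.centralizer (N : Set G) :=
          hmin _ Subgroup.normal_centralizer hCne
        intro a ha b hb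
        exact (Subgroup.mem_centralizer_iff.mp (hNC hb)) a ha
    have hFN : generalizedFittingSubgroup G ≤ N := by
      apply sup_le hlay
      rw [hfit0]; exact bot_le
    refine ⟨⟨hFne, fun K hK hKb => hFN.trans (hmin K hK hKb)⟩, hCycl, ?_⟩
    intro _ K L hK hL
    exact transitive_on_components P hna hgen hcore hfit0 hK hL

end Cfsg.Agent.S4172
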