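import Mathlib
import Cfsg.Statements.S4249
import Cfsg.Agent.Lib.Kegel
import Cfsg.Agent.Lib.PComplement

set_option autoImplicit false
open Cfsg

namespace Cfsg.Agent.S4249

/-- Let G be a finite group and p a prime such that G is not a p-group, and suppose the Hughes subgroup H_p(G), generated by all elements g with g^p ≠ 1, is a proper subgroup. Then H_p(G) is nilpotent and has index p in G. -/
theorem result {G : Type*} [Group G] [Finite G] (p : ℕ) (hp : p.Prime) (hG : ¬ IsPGroup p G)
    (hH : Subgroup.closure {g : G | g ^ p ≠ 1} ≠ ⊤) :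
    Group.IsNilpotent (Subgroup.closure {g : G | g ^ p ≠ 1}) ∧ (Subgroup.closure {g : G | g ^ p ≠ 1}).index = p := by
  classical
  set H := Subgroup.closure {g : G | g ^ p ≠ 1} with hHdef
  have hmemH : ∀ g : G, g ^ p ≠ 1 → g ∈ H := fun g hg => Subgroup.subset_closure hg
  have hout : ∀ g : G, g ∉ H → g ^ p = 1 := by
    intro g hg
    by_contra h
    exact hg (hmemH g h)
  haveI hHn : H.Normal := by
    constructor
    intro n hn g
    induction hn using Subgroup.closure_induction with
    | mem x hx =>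
      apply hmemH
      intro h0
      apply hx
      have h1 : (g * x * g⁻¹) ^ p = g * x ^ p * g⁻¹ := conj_pow
      rw [h1] at h0
      have h2 : x ^ p = g⁻¹ * (g * x ^ p * g⁻¹) * g := by group
      rw [h2, h0]
      group
    | one => simp [H.one_mem]
    | mul x y _ _ hx hy =>
      have h1 : g * (x * y) * g⁻¹ = (g * x * g⁻¹) * (g * y * g⁻¹) := by group
      rw [h1]
      exact H.mul_mem hx hy
    | inv x _ hx =>
      have h1 : g * x⁻¹ * g⁻¹ = (g * x * g⁻¹)⁻¹ := by group
      rw [h1]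
      exact H.inv_mem hx
  haveI : Fact p.Prime := ⟨hp⟩
  -- the quotient is a `p`-group
  have hQp : IsPGroup p (G ⧸ H) := by
    intro x
    obtain ⟨g, rfl⟩ := QuotientGroup.mk_surjective x
    refine ⟨1, ?_⟩
    by_cases hg : g ∈ H
    · rw [(QuotientGroup.eq_one_iff g).2 hg, one_pow]
    · rw [pow_one, ← QuotientGroup.mk_pow, hout g hg]
      rfl
  obtain ⟨k, hk⟩ := IsPGroup.iff_card.mp hQp
  have hk0 : k ≠ 0 := by
    rintro rfl
    apply hH
    rw [pow_zero, ← Subgroup.index_eq_card, Subgroup.index_eq_one] at hk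
    exact hk
  obtain ⟨k', rfl⟩ := Nat.exists_eq_succ_of_ne_zero hk0
  obtain ⟨K₀, hK₀, -⟩ := Sylow.exists_subgroup_card_pow_prime_le p (n := 0) (m := k') (H := (⊥ : Subgroup (G ⧸ H)))
    (by rw [hk]; exact pow_dvd_pow p (Nat.le_succ k')) (by simp) (Nat.zero_le _)
  have hK₀idx : K₀.index = p := by
    have h1 := Subgroup.card_mul_index K₀
    rw [hK₀, hk, pow_succ] at h1
    exact Nat.eq_of_mul_eq_mul_left (pow_pos hp.pos k') h1
  haveI hK₀n : K₀.Normal := by
    apply Subgroup.normal_of_index_eq_minFac_card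
    rw [hK₀idx, hk, Nat.Prime.pow_minFac hp (Nat.succ_ne_zero k')]
  set M : Subgroup G := K₀.comap (QuotientGroup.mk' H) with hM
  haveI hMn : M.Normal := hK₀n.comap _
  have hHM : H ≤ M := by
    intro g hg
    show ((g : G) : G ⧸ H) ∈ K₀
    rw [(QuotientGroup.eq_one_iff g).2 hg]
    exact K₀.one_mem
  have hMidx : M.index = p := by
    rw [hM, Subgroup.index_comap_of_surjective _ (QuotientGroup.mk'_surjective H)]
    exact hK₀idx
  obtain ⟨x, hx⟩ : ∃ x, x ∉ M := by
    by_contra hcon
    push_neg at hcon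
    have h1 : M = ⊤ := (Subgroup.eq_top_iff' M).2 hcon
    rw [h1, Subgroup.index_top] at hMidx
    exact hp.one_lt.ne hMidx
  have hxp : x ^ p = 1 := hout x (fun h => hx (hHM h))
  have hinv : ∀ y ∈ M, (MulAut.conj x) y ∈ M := by
    intro y hy
    rw [MulAut.conj_apply]
    exact hMn.conj_mem y hy x
  have hform : ∀ (i : ℕ) (y : G), Cfsg.Agent.Lib.Kegel.nm (MulAut.conj x) i y * x ^ i = (y * x) ^ i := by
    intro i y
    induction i with
    | zero => simp [Cfsg.Agent.Lib.Kegel.nm]
    | succ i ih =>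
      rw [Cfsg.Agent.Lib.Kegel.nm_succ, pow_succ (y * x), ← ih, ← map_pow, MulAut.conj_apply, pow_succ x i]
      group
  have hsplit : Cfsg.Agent.Lib.Kegel.IsSplit (Cfsg.Agent.Lib.Kegel.restr (MulAut.conj x) M hinv) p := by
    intro y
    apply Subtype.ext
    rw [Cfsg.Agent.Lib.Kegel.coe_nm_restr]
    have h1 := hform p y
    have h2 : (y : G) * x ∉ M := fun h => hx (by simpa using M.mul_mem (M.inv_mem y.2) h)
    rw [hxp, mul_one, hout _ (fun h => h2 (hHM h))] at h1
    exact h1
  haveI hMnil : Group.IsNilpotent M := Cfsg.Agent.Lib.Kegel.nilpotent_of_split hp _ M _ rfl hsplit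
  -- a prime `q ≠ p`
  obtain ⟨q, hq, hqd, hqp⟩ : ∃ q, q.Prime ∧ q ∣ Nat.card G ∧ q ≠ p := by
    by_contra hcon
    push_neg at hcon
    exact hG (IsPGroup.of_card (Nat.eq_prime_pow_of_unique_prime_dvd Nat.card_pos.ne'
      (fun {d} hd h => hcon d hd h)))
  haveI : Fact q.Prime := ⟨hq⟩
  have hqM : q ∣ Nat.card M := by
    have h1 := Subgroup.card_mul_index M
    rw [hMidx] at h1
    rw [← h1] at hqd
    rcases (Nat.Prime.dvd_mul hq).mp hqd with h | h
    · exact h
    · exact absurd ((Nat.prime_dvd_prime_iff_eq hq hp).mp h) hqp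
  obtain ⟨u, hu⟩ := exists_prime_orderOf_dvd_card' q hqM
  have hup : (u : G) ^ p ≠ 1 := by
    intro h0
    have h1 : u ^ p = 1 := Subtype.ext h0
    have h2 := orderOf_dvd_of_pow_eq_one h1
    rw [hu] at h2
    exact hqp ((Nat.prime_dvd_prime_iff_eq hq hp).mp h2)
  have huH : (u : G) ∈ H := hmemH _ hup
  have hMH : M ≤ H := by
    intro y hy
    by_cases hyp : y ^ p = 1
    · have hcomm : (⟨y, hy⟩ : M) * u = u * ⟨y, hy⟩ := by
        apply Cfsg.Agent.Lib.PComplement.commute_of_isNilpotent (p := p)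
        · exact ⟨1, by rw [pow_one]; exact Subtype.ext hyp⟩
        · rw [hu]
          exact (Nat.coprime_primes hq hp).mpr hqp
      have hcomm' : Commute y (u : G) := congrArg Subtype.val hcomm
      have h1 : (y * u) ^ p ≠ 1 := by
        rw [hcomm'.mul_pow, hyp, one_mul]
        exact hup
      have h2 := H.mul_mem (hmemH _ h1) (H.inv_mem huH)
      simpa using h2
    · exact hmemH y hyp
  have hEq : H = M := le_antisymm hHM hMH
  rw [hEq]
  exact ⟨hMnil, hMidx⟩

end Cfsg.Agent.S4249
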