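import Cfsg.Statements.S4273
import Cfsg.Agent.S0449
import Cfsg.Agent.Lib.O175Wrap
import Cfsg.Agent.Lib.O175P1
import Cfsg.Agent.Lib.O175P2
import Cfsg.Agent.Lib.O175P3
import Cfsg.Agent.Lib.O175P4
import Cfsg.Agent.Lib.O175P5
import Cfsg.Agent.Lib.O175P6
import Cfsg.Agent.Lib.O175P7
import Cfsg.Agent.Lib.O175P8

set_option autoImplicit false
open Cfsg

namespace Cfsg.Agent.S4273

open Subgroup Cfsg.Agent.Lib.O175 in
theorem exists_inv_O175 {G : Type*} [Group G] [Finite G] [IsSimpleGroup G] (hG : Nat.card G = 175560) :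
    ∃ t : G, Cfsg.IsTwoCentralInvolution t ∧
      Nonempty (centralizer ({t} : Set G) ≃* Multiplicative (ZMod 2) × alternatingGroup (Fin 5)) := by
  have hE : ∀ P : Sylow 2 G, ∀ x ∈ (P : Subgroup G), x * x = 1 := fun P => elem_of hG (fun P s u a b c d e => no_d8 hG P s u a b c d e) P
  have hconj : ∀ a b : G, orderOf a = 2 → orderOf b = 2 → IsConj a b := all_conj hG hE
  have hcc : ∀ t : G, orderOf t = 2 → Nat.card (centralizer ({t} : Set G)) = 120 := by
    intro t ht
    have h := card_cent hG hE hconj t ht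
    simp only [Finset.mem_insert, Finset.mem_singleton] at h
    rcases h with h | h | h | h | h | h | h | h
    · exact (no_56 hG hE hconj t ht h).elim
    · exact h
    · exact (no_440 hG hE hconj t ht h).elim
    · exact (no_760 hG hE hconj t ht h).elim
    · exact (no_1848 hG t ht h).elim
    · exact (no_3192 hG t ht h).elim
    · exact (no_small hG t ht (Or.inl h)).elim
    · exact (no_small hG t ht (Or.inr h)).elim
  exact exists_inv_of_pieces hG hE hcc (fun t _ t' ht' htc hES hn5 => iso120 (hcc t ‹_›) t' ht' htc hES hn5)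

/-- Uniqueness of the simple group of order 175560: any two finite simple groups of order 175560 are isomorphic. -/
theorem result {G : Type*} {H : Type*} [Group G] [Finite G] [IsSimpleGroup G] [Group H] [Finite H] [IsSimpleGroup H] (hG : Nat.card G = 175560) (hH : Nat.card H = 175560) : Nonempty (G ≃* H) := by
  obtain ⟨t, ht, ⟨e⟩⟩ := exists_inv_O175 hG
  obtain ⟨u, hu, ⟨f⟩⟩ := exists_inv_O175 hH
  exact Cfsg.Agent.S0449.result t u ht hu e f

end Cfsg.Agent.S4273
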