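import Cfsg.Statements.S4284
import Cfsg.Agent.Lib.H73CaseB4

set_option autoImplicit false
set_option linter.style.haveILetI false
open Cfsg

namespace Cfsg.Agent.S4284

open Subgroup Cfsg.Agent.Lib.ItoTwo Cfsg.Agent.Lib.H73CS Cfsg.Agent.Lib.H73CaseS Cfsg.Agent.Lib.H73CaseB1
  Cfsg.Agent.Lib.H73CaseB2 Cfsg.Agent.Lib.H73CaseB3 Cfsg.Agent.Lib.H73CaseB4

/-- Let G be a finite group with no nontrivial abelian direct factor whose conjugacy class sizes are exactly 1, m and m·n with m, n > 1 coprime. Then m is a prime p dividing n − 1; the elements whose class has size 1 or p form an abelian normal subgroup of index p; G has a normal p-complement; and the commutator subgroup of a Sylow p-subgroup of G has order p. -/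
theorem result {G : Type*} [Group G] [Finite G] (hnodf : ∀ A B : Subgroup G, A.Normal → B.Normal → A ⊓ B = ⊥ → A ⊔ B = ⊤ → IsMulCommutative A → A = ⊥) (m n : ℕ) (hm : 1 < m) (hn : 1 < n) (hcop : m.Coprime n) (h : Set.range (fun x : G => (Subgroup.centralizer ({x} : Set G)).index) = ({1, m, m * n} : Set ℕ)) : m.Prime ∧ m ∣ n - 1 ∧ (∃ M : Subgroup G, M.Normal ∧ (M : Set G) = {x : G | (Subgroup.centralizer ({x} : Set G)).index = 1 ∨ (Subgroup.centralizer ({x} : Set G)).index = m} ∧ M.index = m ∧ IsMulCommutative M) ∧ (∃ N : Subgroup G, N.Normal ∧ (Nat.card N).Coprime m ∧ ∃ a : ℕ, N.index = m ^ a) ∧ ∀ P : Sylow m G, Nat.card (commutator (P : Subgroup G)) = m := by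
  classical
  have hall : ∀ x : G, (cen x).index = 1 ∨ (cen x).index = m ∨ (cen x).index = m * n := by
    intro x
    have h1 : (cen x).index ∈ Set.range (fun x : G => (Subgroup.centralizer ({x} : Set G)).index) := ⟨x, rfl⟩
    rw [h] at h1
    simpa using h1
  have hexm : ∃ x : G, (cen x).index = m := by
    have h1 : m ∈ Set.range (fun x : G => (Subgroup.centralizer ({x} : Set G)).index) := by
      rw [h]
      simp
    exact h1
  have hexb : ∃ x : G, (cen x).index = m * n := by
    have h1 : m * n ∈ Set.range (fun x : G => (Subgroup.centralizer ({x} : Set G)).index) := by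
      rw [h]
      simp
    exact h1
  have hprimes : ∀ s : ℕ, s.Prime → s ∣ Nat.card G → s ∣ m * n := by
    intro s hs hsd
    by_contra hsmn
    haveI : Fact s.Prime := ⟨hs⟩
    have hns : ∀ x : G, ¬ s ∣ (cen x).index := by
      intro x hx
      rcases hall x with h1 | h1 | h1
      · rw [h1] at hx
        exact hs.one_lt.ne' (Nat.dvd_one.1 hx)
      · rw [h1] at hx
        exact hsmn (hx.trans (dvd_mul_right _ _))
      · rw [h1] at hx
        exact hsmn hx
    let P : Sylow s G := default
    have hcl : ∀ x : G, (orderOf x).Coprime s → ¬ s ∣ (ConjClasses.mk x).carrier.ncard := by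
      intro x _
      rw [Cfsg.Agent.S4034.class_card_eq]
      exact hns x
    obtain ⟨hPn, H, hHn, hHp, hdisj, hsup⟩ := Cfsg.Agent.S4035.result hcl P
    have hPab : IsMulCommutative (P : Subgroup G) := by
      constructor
      constructor
      rintro ⟨a, ha⟩ ⟨b, hb⟩
      apply Subtype.ext
      show a * b = b * a
      obtain ⟨Q, hQ⟩ := exists_sylow_le_of_not_dvd (q := s) (cen b) (hns b)
      haveI := Sylow.unique_of_normal P hPn
      have hQP : Q = P := Subsingleton.elim Q P
      rw [hQP] at hQ
      exact mem_cen.1 (hQ ha)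
    have hbot := hnodf P H hPn hHn hdisj hsup hPab
    exact Sylow.ne_bot_of_dvd_card P hsd hbot
  have hC : CS m n G :=
    { hm := hm, hn := hn, hcop := hcop, all := hall, exm := hexm, exb := hexb, primes := hprimes }
  by_cases hS : ∃ p : ℕ, p.Prime ∧ p ∣ m ∧ ∃ u : G, u ∉ center G ∧ IsPrimary p u ∧ (cen u).index = m
  · obtain ⟨p, hp, hpm, u, huz, hup, hus⟩ := hS
    haveI : Fact p.Prime := ⟨hp⟩
    exact case_S hC hpm huz hup hus
  · exfalso
    have hB : ∀ p : ℕ, p.Prime → p ∣ m → ∀ a : G, a ∉ center G → IsPrimary p a → (cen a).index = m * n := by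
      intro p hp hpm a' haz hap
      rcases noncentral hC a' haz with h1 | h1
      · exact absurd ⟨p, hp, hpm, a', haz, hap, h1⟩ hS
      · exact h1
    obtain ⟨q, hq, hqn, y, hyp, hys⟩ := exists_small_primary hC hB
    obtain ⟨p, a, b, hp, hpq, hma, hnb⟩ := prime_powers hC hB hq hqn hyp hys
    haveI : Fact p.Prime := ⟨hp⟩
    haveI : Fact q.Prime := ⟨hq⟩
    have hH : BH m n p q a b G :=
      { hC := hC, hpq := hpq, hma := hma, hnb := hnb,
        hB := fun x hxz hxp => hB p hp (hma ▸ dvd_pow_self p (by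
          rintro rfl
          rw [pow_zero] at hma
          omega)) x hxz hxp,
        hs := ⟨y, hyp, hys⟩ }
    let P : Sylow p G := default
    obtain ⟨w, hwP, hwz, hwg⟩ := anchor_m hC (hpm hH) P
    have hmp := m_eq_p hH P hwP hwz hwg
    exact false_of_BH hH hmp

end Cfsg.Agent.S4284
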