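import Mathlib
import Cfsg.Statements.S4291
import Cfsg.Agent.Lib.FCSolv
import Cfsg.Agent.Lib.FCNonsolv
import Cfsg.Agent.Lib.FrobConj

set_option autoImplicit false
open Cfsg

namespace Cfsg.Agent.S4291

open Cfsg.Agent.Lib.FpfNorm Cfsg.Agent.Lib.ZPerfD Cfsg.Agent.Lib.FCGood

theorem main {G : Type*} {V : Type*} [Group G] [Finite G] [CommGroup V] [Finite V] [Nontrivial V]
    {φ : G →* MulAut V} (hφ : IsFpf φ) : ∃! N : Subgroup G, Good N := by
  have hS : SylHyp G := fun q _ A hA =>
    Cfsg.Agent.Lib.FrobCompl.cyclic_or_quaternion_of_fpf hA (hφ.comp A.subtype A.subtype_injective)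
  obtain ⟨N, hN⟩ : ∃ N : Subgroup G, Good N := by
    by_cases hns : Group.IsSolvable G
    · by_cases hc : ∀ P : Sylow 2 G, IsCyclic P
      · exact ⟨⊤, Cfsg.Agent.Lib.FCSolv.good_top hS hc⟩
      · exact Cfsg.Agent.Lib.FCSolv.exists_good_solv hφ hc
    · exact Cfsg.Agent.Lib.FCNonsolv.exists_good_nonsolv hns hφ
  exact ⟨N, hN, fun N' hN' => le_antisymm (good_le hS hN hN') (good_le hS hN' hN)⟩

/-- Let G be a finite group that occurs as a Frobenius complement. Then G has exactly one normal subgroup N such that every Sylow subgroup of N is cyclic and the quotient of G by N is trivial or isomorphic to one of the following five groups: the Klein four-group, the alternating group of degree 4, the symmetric group of degree 4, the alternating group of degree 5, the symmetric group of degree 5. (The quotient is described by a surjective homomorphism with kernel N; the Klein four-group is written as the dihedral group of order 4.) -/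
theorem result {G : Type*} [Group G] [Finite G]
    (hFC : (∃ (L : Type) (_ : Group L) (_ : Finite L) (H : Subgroup L), Cfsg.IsFrobeniusComplement H ∧ Nonempty (G ≃* H))) :
    ∃! N : Subgroup G, N.Normal ∧ (∀ (p : ℕ) [Fact p.Prime] (P : Sylow p N), IsCyclic P) ∧
      (N = ⊤ ∨
        (∃ f : G →* DihedralGroup 2, Function.Surjective f ∧ f.ker = N) ∨
        (∃ f : G →* alternatingGroup (Fin 4), Function.Surjective f ∧ f.ker = N) ∨
        (∃ f : G →* Equiv.Perm (Fin 4), Function.Surjective f ∧ f.ker = N) ∨
        (∃ f : G →* alternatingGroup (Fin 5), Function.Surjective f ∧ f.ker = N) ∨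
        (∃ f : G →* Equiv.Perm (Fin 5), Function.Surjective f ∧ f.ker = N)) := by
  obtain ⟨L, _, _, H, hH, ⟨e⟩⟩ := hFC
  obtain ⟨V, hVc, φ, hV, hφ⟩ := Cfsg.Agent.Lib.FrobConj.exists_fpf_of_isFrobeniusComplement hH
  letI : CommGroup V := { (inferInstance : Group V) with mul_comm := fun a b => hVc.is_comm.comm a b }
  haveI : Nontrivial V := (Subgroup.nontrivial_iff_ne_bot V).mpr hV
  exact main (φ := φ.comp e.toMonoidHom) (hφ.comp e.toMonoidHom e.injective)

end Cfsg.Agent.S4291
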