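import Mathlib
import Cfsg.Statements.S4294
import Cfsg.Agent.S4293
import Cfsg.Agent.S3359
import Cfsg.Agent.Lib.AmitsurCore85
import Cfsg.Agent.Lib.AmitsurGauss66
import Cfsg.Agent.Lib.AmitsurArith85

set_option autoImplicit false
set_option linter.style.haveILetI false
open Cfsg

namespace Cfsg.Agent.S4294

open Cfsg.Agent.Lib.AmitsurSL85 Cfsg.Agent.Lib.AmitsurCore85

section aux

variable {D : Type*} [DivisionRing D]

/-- A finite subgroup of the units of a division ring of positive characteristic is commutative. -/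
theorem comm_of_charP (p : ℕ) [Fact p.Prime] [CharP D p] (H : Subgroup Dˣ) [Finite H] (a b : H) :
    a * b = b * a := by
  letI : Algebra (ZMod p) D := ZMod.algebra D p
  let S₀ : Submonoid D := H.toSubmonoid.map (Units.coeHom D)
  have hS₀fin : (S₀ : Set D).Finite := by
    have h1 : (H : Set Dˣ).Finite := Set.toFinite _
    exact h1.image _
  let A := Algebra.adjoin (ZMod p) (S₀ : Set D)
  have hA : Subalgebra.toSubmodule A = Submodule.span (ZMod p) (S₀ : Set D) := by
    rw [Algebra.adjoin_eq_span, Submonoid.closure_eq]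
  haveI hfin : Module.Finite (ZMod p) (Subalgebra.toSubmodule A) := by
    rw [hA]
    exact Module.Finite.span_of_finite (ZMod p) hS₀fin
  haveI : Finite (Subalgebra.toSubmodule A) := Module.finite_of_finite (ZMod p)
  haveI : Finite A := by
    have : Finite (Subalgebra.toSubmodule A) := inferInstance
    exact this
  have hF := Finite.isDomain_to_isField A
  have hmem : ∀ c : H, (((c : Dˣ) : D)) ∈ A := fun c =>
    Algebra.subset_adjoin ⟨(c : Dˣ), c.2, rfl⟩
  have h := hF.mul_comm ⟨_, hmem a⟩ ⟨_, hmem b⟩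
  have h2 := congrArg Subtype.val h
  apply Subtype.ext
  apply Units.ext
  simpa using h2

/-- The characteristic is zero. -/
theorem charZero_of_nonsolvable (H : Subgroup Dˣ) [Finite H] (hH : ¬ Group.IsSolvable H) :
    CharZero D := by
  obtain ⟨p, hp⟩ := CharP.exists D
  rcases CharP.char_is_prime_or_zero D p with hpp | hp0
  · exfalso
    haveI := Fact.mk hpp
    exact hH (Group.isSolvable_of_comm (comm_of_charP p H))
  · subst hp0
    exact CharP.charP_to_charZero D

/-- No central element of prime order at least 7. -/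
theorem no_central [CharZero D] {f : Gam →* Dˣ} (hf : Function.Injective f) {ρ : Dˣ}
    (hρ : ∀ x, Commute ρ (f x)) (r : ℕ) (hr : r.Prime) (h7 : 7 ≤ r) (hρr : ρ ^ r = 1)
    (hρ1 : ρ ≠ 1) : False := by
  obtain ⟨l, hl, hl20, hrl⟩ := Cfsg.Agent.Lib.AmitsurArith85.exists_prime85 r hr h7
  haveI := Fact.mk hl
  have hl4 : l % 4 = 3 := by omega
  obtain ⟨Y, Z, hYZ⟩ := Cfsg.Agent.Lib.AmitsurGauss66.gauss_identity66 l hl4
  obtain ⟨t, s, hts⟩ := Cfsg.Agent.Lib.AmitsurArith85.two_mul_eq85 l hl hl20
  have hmul : ρ * ρ ^ l = 1 := by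
    obtain ⟨c, hc⟩ := hrl
    rw [← pow_succ', hc, pow_mul, hρr, one_pow]
  have hodd : (r + 1) / 2 + (r + 1) / 2 = r + 1 := by
    have : r % 2 = 1 := by
      rcases hr.eq_two_or_odd with h | h
      · omega
      · exact h
    omega
  have hττ : ρ ^ ((r + 1) / 2) * ρ ^ ((r + 1) / 2) = ρ := by
    rw [← pow_add, hodd, pow_succ, hρr, one_mul]
  have hR1 : (ρ : D) - 1 ≠ 0 := by
    intro h
    apply hρ1
    apply Units.ext
    simpa using sub_eq_zero.mp h
  have hS : ∑ n ∈ Finset.range l, (ρ : D) ^ n = -((ρ ^ l : Dˣ) : D) := by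
    apply mul_right_cancel₀ hR1
    rw [geom_sum_mul]
    have e1 : (ρ : D) ^ l = ((ρ ^ l : Dˣ) : D) := by simp
    have e2 : ((ρ ^ l : Dˣ) : D) * (ρ : D) = 1 := by
      have : (ρ ^ l * ρ : Dˣ) = 1 := by rw [← pow_succ, pow_succ', hmul]
      have h3 := congrArg (Units.val) this
      simpa using h3
    rw [e1]
    have e3 : -((ρ ^ l : Dˣ) : D) * ((ρ : D) - 1) = -(((ρ ^ l : Dˣ) : D) * (ρ : D)) + ((ρ ^ l : Dˣ) : D) := by
      noncomm_ring
    rw [e3, e2]
    abel
  refine core_a hf (r := (ρ : D)) (ri := ((ρ ^ l : Dˣ) : D)) (τ := ((ρ ^ ((r + 1) / 2) : Dˣ) : D))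
    ?_ ?_ ?_ ?_ ?_ l Y Z hYZ hS t s hts
  · intro x
    exact (hρ x).units_val
  · intro x
    exact ((hρ x).pow_left _).units_val
  · exact ((Commute.refl ρ).pow_left _).units_val
  · have := congrArg (Units.val) hττ
    simpa using this
  · have := congrArg (Units.val) hmul
    simpa using this

end aux

/-- Let D be a division ring. Every non-solvable finite subgroup of D^× is isomorphic to SL(2,5). -/
theorem result {D : Type*} [DivisionRing D] (H : Subgroup Dˣ) [Finite H] (hH : ¬ Group.IsSolvable H) :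
    Nonempty (H ≃* Matrix.SpecialLinearGroup (Fin 2) (ZMod 5)) := by
  have hne : H ≠ ⊥ := by
    rintro rfl
    apply hH
    apply Group.isSolvable_of_comm
    intro a b
    exact Subsingleton.elim _ _
  have hFC := Cfsg.Agent.S4293.result H hne
  obtain ⟨G₀, hG₀n, hidx, S, M, hSM, -, hcomm, ⟨e⟩, -, hcop⟩ :=
    Cfsg.Agent.S3359.result (G := H) hH hFC
  haveI : CharZero D := charZero_of_nonsolvable H hH
  let f : Gam →* Dˣ := (H.subtype).comp ((S.subtype).comp e.symm.toMonoidHom)
  have hf : Function.Injective f := by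
    intro a b hab
    have h1 : ((e.symm a : S) : H) = ((e.symm b : S) : H) := Subtype.ext hab
    exact e.symm.injective (Subtype.ext h1)
  have hM : M = ⊥ := by
    by_contra hne2
    haveI : Nontrivial M := (Subgroup.nontrivial_iff_ne_bot M).mpr hne2
    obtain ⟨r, hr, hrd⟩ := Nat.exists_prime_and_dvd (n := Nat.card M) Finite.one_lt_card.ne'
    haveI := Fact.mk hr
    obtain ⟨x, hx⟩ := exists_prime_orderOf_dvd_card' r hrd
    have h7 : 7 ≤ r := by
      by_contra hlt
      have hr30 : r ∣ 30 := by
        have : r < 7 := by omega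
        have h2 := hr.two_le
        interval_cases r
        · norm_num
        · norm_num
        · exact absurd hr (by norm_num)
        · norm_num
        · exact absurd hr (by norm_num)
      have := Nat.dvd_gcd hrd hr30
      rw [Nat.Coprime.gcd_eq_one hcop] at this
      exact hr.one_lt.ne' (Nat.dvd_one.mp this)
    refine no_central hf (ρ := (((x : M) : H) : Dˣ)) ?_ r hr h7 ?_ ?_
    · intro w
      have h1 := hcomm _ (e.symm w).2 _ x.2
      have h2 := congrArg (fun c : H => (c : Dˣ)) h1
      exact h2.symm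
    · have h1 : x ^ r = 1 := by rw [← hx]; exact pow_orderOf_eq_one x
      have h2 := congrArg (fun c : M => ((c : H) : Dˣ)) h1
      simpa using h2
    · intro h1
      have h2 : x = 1 := by
        apply Subtype.ext
        apply Subtype.ext
        simpa using h1
      rw [h2, orderOf_one] at hx
      exact hr.one_lt.ne hx
  have hSG : S = G₀ := by rw [← hSM, hM, sup_bot_eq]
  subst hSG
  rcases hidx with h1 | h2
  · have hS : S = ⊤ := Subgroup.index_eq_one.mp h1
    exact ⟨(Subgroup.topEquiv (G := H)).symm.trans ((MulEquiv.subgroupCongr hS.symm).trans e)⟩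
  · exfalso
    have hnt : S ≠ ⊤ := by
      intro h
      rw [h, Subgroup.index_top] at h2
      omega
    obtain ⟨y, hy⟩ : ∃ y : H, y ∉ S := by
      by_contra hall
      push Not at hall
      exact hnt (eq_top_iff.mpr fun c _ => hall c)
    refine no_index_two hf (Y := (((y : H) : Dˣ) : D)) (Yi := (((y⁻¹ : H) : Dˣ) : D)) ?_ ?_ ?_ ?_
    · have h3 : y * y⁻¹ = 1 := mul_inv_cancel y
      have h4 := congrArg (fun c : H => (((c : H) : Dˣ) : D)) h3
      simpa using h4
    · intro w
      have hm : y * (e.symm w : S) * y⁻¹ ∈ S := hG₀n.conj_mem _ (e.symm w).2 y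
      refine ⟨e ⟨_, hm⟩, ?_⟩
      have h5 : F f (e ⟨_, hm⟩) = ((((y * (e.symm w : S) * y⁻¹ : H)) : Dˣ) : D) := by
        simp [F, f]
      rw [h5]
      have h6 : F f w = ((((e.symm w : S) : H) : Dˣ) : D) := rfl
      rw [h6]
      have h7 : (y * (e.symm w : S) * y⁻¹ : H) * y = y * (e.symm w : S) := by group
      have h8 := congrArg (fun c : H => (((c : H) : Dˣ) : D)) h7
      simpa using h8.symm
    · have hm : y * y ∈ S := Subgroup.mul_self_mem_of_index_two h2 y
      refine ⟨e ⟨_, hm⟩, ?_⟩
      simp [F, f]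
    · intro x hx
      apply hy
      have h9 : y = (e.symm x : S) := by
        apply Subtype.ext
        apply Units.ext
        exact hx
      rw [h9]
      exact (e.symm x).2

end Cfsg.Agent.S4294
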