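import Mathlib
import Cfsg.Statements.S4302
import Cfsg.Agent.Lib.JSolvB
import Cfsg.Agent.Lib.AbReplace
import Cfsg.Agent.Lib.StableW
import Cfsg.Agent.S0250

set_option autoImplicit false
set_option linter.unusedSectionVars false
set_option linter.style.haveILetI false

open Cfsg
open scoped commutatorElement

namespace Cfsg.Agent.S4302

open Cfsg.Agent.Lib.FFMod Cfsg.Agent.Lib.FFTv Cfsg.Agent.Lib.FFStruct Cfsg.Agent.Lib.FFBridge Cfsg.Agent.Lib.PCore
  Cfsg.Agent.Lib.ThompsonJ Cfsg.Agent.Lib.FFLin Cfsg.Agent.Lib.Replacement Cfsg.Agent.Lib.JSolvB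
  Cfsg.Agent.Lib.AbReplace

universe u

section Frattini

variable {G : Type*} [Group G] [Finite G] {p : ℕ} [hp : Fact p.Prime]

theorem frattini_inf (S : Sylow p G) (M : Subgroup G) [hM : M.Normal] :
    Subgroup.normalizer (((S : Subgroup G) ⊓ M : Subgroup G) : Set G) ⊔ M = ⊤ := by
  obtain ⟨P⟩ : Nonempty (Sylow p M) := inferInstance
  obtain ⟨Q, hQ⟩ := P.exists_comap_subtype_eq
  have h1 := Sylow.normalizer_sup_eq_top P
  have hPQ : P.map M.subtype = (Q : Subgroup G) ⊓ M := by
    have h2 : (P : Subgroup M) = (Q : Subgroup G).subgroupOf M := hQ.symm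
    rw [h2, Subgroup.subgroupOf_map_subtype]
  rw [hPQ] at h1
  obtain ⟨h, rfl⟩ := MulAction.exists_smul_eq G S Q
  let c := (MulAut.conj h⁻¹).toMonoidHom
  have hcinj : Function.Injective c := (MulAut.conj h⁻¹).injective
  have hMc : M.map c = M := Cfsg.Agent.Lib.PResid.conj_map_eq_of_mem_normalizer (by
    rw [Subgroup.normalizer_eq_top_iff.mpr hM]; trivial)
  have hSc : ((h • S : Sylow p G) : Subgroup G).map c = (S : Subgroup G) := by
    rw [Cfsg.Agent.Lib.PResid.coe_smul_eq_conj_map]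
    exact Cfsg.Agent.Lib.PResid.conj_map_inv_conj _ _
  have h5 := congrArg (Subgroup.map c) h1
  rw [Subgroup.map_sup, hMc, ← MonoidHom.range_eq_map, MonoidHom.range_eq_top.mpr (MulAut.conj h⁻¹).surjective] at h5
  have h6 : Subgroup.map c (Subgroup.normalizer
      ((((h • S : Sylow p G) : Subgroup G) ⊓ M : Subgroup G) : Set G)) ≤
      Subgroup.normalizer (((S : Subgroup G) ⊓ M : Subgroup G) : Set G) := by
    have h7 := Subgroup.le_normalizer_map (H := ((h • S : Sylow p G) : Subgroup G) ⊓ M) c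
    rwa [Subgroup.map_inf _ _ _ hcinj, hSc, hMc] at h7
  rw [eq_top_iff, ← h5]
  exact sup_le_sup_right h6 _

/-- The abelian subgroups of largest order in `T`, as subgroups of `G`. -/
def AX (T : Subgroup G) : Set (Subgroup G) :=
  {A | A ≤ T ∧ (∀ a ∈ A, ∀ b ∈ A, a * b = b * a) ∧
    ∀ B : Subgroup G, B ≤ T → (∀ a ∈ B, ∀ b ∈ B, a * b = b * a) → Nat.card B ≤ Nat.card A}

theorem thompsonA_eq (T : Subgroup G) : thompsonSubgroupAOf T = sSup (AX T) := by
  apply le_antisymm
  · unfold thompsonSubgroupAOf thompsonSubgroupA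
    rw [Subgroup.map_le_iff_le_comap]
    refine sSup_le fun A hA => ?_
    rw [← Subgroup.map_le_iff_le_comap]
    apply le_sSup
    refine ⟨Subgroup.map_subtype_le A, ?_, ?_⟩
    · rintro _ ⟨a, ha, rfl⟩ _ ⟨b, hb, rfl⟩
      exact congrArg Subtype.val (forall_of_isMulCommutative hA.1 a ha b hb)
    · intro B hBT hBc
      rw [Subgroup.card_map_of_injective T.subtype_injective]
      have h1 := hA.2 (B.subgroupOf T) (isMulCommutative_of_forall (by
        intro a ha b hb
        apply Subtype.ext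
        exact hBc _ ha _ hb))
      rwa [card_subgroupOf_of_le hBT] at h1
  · refine sSup_le ?_
    rintro A ⟨hAT, hAc, hAm⟩
    have hmem : A.subgroupOf T ∈ maxAbelianSubgroups T := by
      refine ⟨isMulCommutative_of_forall ?_, ?_⟩
      · intro a ha b hb
        apply Subtype.ext
        exact hAc _ ha _ hb
      · intro B hB
        rw [card_subgroupOf_of_le hAT]
        have h1 := hAm (B.map T.subtype) (Subgroup.map_subtype_le B) (by
          rintro _ ⟨a, ha, rfl⟩ _ ⟨b, hb, rfl⟩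
          exact congrArg Subtype.val (forall_of_isMulCommutative hB a ha b hb))
        rwa [Subgroup.card_map_of_injective T.subtype_injective] at h1
    have h2 := Subgroup.map_mono (f := T.subtype) (le_sSup hmem)
    rwa [Subgroup.map_subgroupOf_eq_of_le hAT] at h2

theorem le_thompsonA {T A : Subgroup G} (hA : A ∈ AX T) : A ≤ thompsonSubgroupAOf T := by
  rw [thompsonA_eq]
  exact le_sSup hA

theorem normalizer_le_of_le {T M : Subgroup G} (hJ : thompsonSubgroupAOf T ≤ M) :
    Subgroup.normalizer ((T ⊓ M : Subgroup G) : Set G) ≤ Subgroup.normalizer (thompsonSubgroupAOf T : Set G) := by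
  intro g hg
  rw [thompsonA_eq]
  apply mem_normalizer_of_forall
  intro x hx
  have hle : sSup (AX T) ≤ (sSup (AX T)).comap (MulAut.conj g).toMonoidHom := by
    refine sSup_le ?_
    rintro A ⟨hAT, hAc, hAm⟩
    rw [← Subgroup.map_le_iff_le_comap]
    apply le_sSup
    have hAM : A ≤ T ⊓ M := le_inf hAT ((le_thompsonA ⟨hAT, hAc, hAm⟩).trans hJ)
    refine ⟨?_, ?_, ?_⟩
    · rintro _ ⟨a, ha, rfl⟩
      exact ((Subgroup.mem_normalizer_iff.mp hg a).mp (hAM ha)).1
    · rintro _ ⟨a, ha, rfl⟩ _ ⟨b, hb, rfl⟩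
      show g * a * g⁻¹ * (g * b * g⁻¹) = g * b * g⁻¹ * (g * a * g⁻¹)
      have := hAc a ha b hb
      calc g * a * g⁻¹ * (g * b * g⁻¹) = g * (a * b) * g⁻¹ := by group
        _ = g * (b * a) * g⁻¹ := by rw [this]
        _ = _ := by group
    · intro B hBT hBc
      rw [Subgroup.card_map_of_injective (MulAut.conj g).injective]
      exact hAm B hBT hBc
  exact hle hx

end Frattini

section Odd

variable {G : Type*} [Group G]

/-- An element of odd order trivial on the involutions of an abelian normal subgroup. -/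
theorem comm_of_odd {V : Subgroup G} [hVn : V.Normal] (hVc : ∀ x ∈ V, ∀ y ∈ V, x * y = y * x) {y : G} {m : ℕ}
    (hm : Odd m) (hy : y ^ m = 1) (hfix : ∀ v ∈ V, v ^ 2 = 1 → y * v = v * y) (k : ℕ) :
    ∀ v ∈ V, v ^ (2 ^ k) = 1 → y * v = v * y := by
  induction k with
  | zero =>
    intro v _ hv
    have : v = 1 := by simpa using hv
    rw [this, one_mul, mul_one]
  | succ k ih =>
    intro v hv hvk
    have h1 : y * v ^ 2 = v ^ 2 * y := by
      apply ih _ (V.pow_mem hv 2)
      rw [← pow_mul, ← pow_succ']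
      exact hvk
    -- the commutator
    set v' := y * v * y⁻¹ with hv'
    have hv'V : v' ∈ V := hVn.conj_mem v hv y
    have h2 : v' ^ 2 = v ^ 2 := by
      have : v' ^ 2 = y * v ^ 2 * y⁻¹ := by
        rw [hv', pow_two, pow_two]; group
      rw [this, h1]; group
    set w := v' * v⁻¹ with hw
    have hwV : w ∈ V := V.mul_mem hv'V (V.inv_mem hv)
    have hw2 : w ^ 2 = 1 := by
      have hc : Commute v' v⁻¹ := hVc _ hv'V _ (V.inv_mem hv)
      rw [hw, hc.mul_pow, h2, inv_pow, mul_inv_cancel]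
    have h3 := hfix w hwV hw2
    have h4 : y * v * y⁻¹ = w * v := by
      rw [hw, hv']; group
    have h5 : y * y * v = v * (y * y) := by
      have h6 : y * (w * v) * y⁻¹ = w * (w * v) := by
        calc y * (w * v) * y⁻¹ = (y * w) * v * y⁻¹ := by group
          _ = (w * y) * v * y⁻¹ := by rw [h3]
          _ = w * (y * v * y⁻¹) := by group
          _ = _ := by rw [h4]
      have h7 : w * (w * v) = v := by
        rw [← mul_assoc, ← pow_two, hw2, one_mul]
      rw [h7] at h6
      have h8 : y * (y * v * y⁻¹) * y⁻¹ = v := by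
        rw [show y * v * y⁻¹ = w * v from h4]
        exact h6
      calc y * y * v = (y * (y * v * y⁻¹) * y⁻¹) * (y * y) := by group
        _ = v * (y * y) := by rw [h8]
    obtain ⟨r, hr⟩ := hm
    have h9 : (y * y) ^ (r + 1) = y := by
      rw [← pow_two, ← pow_mul, show 2 * (r + 1) = m + 1 by omega, pow_succ, hy, one_mul]
    have h10 : Commute ((y * y) ^ (r + 1)) v := Commute.pow_left h5 (r + 1)
    rw [h9] at h10
    exact h10

end Odd

section Local

variable {X : Type u} [Group X] [Finite X]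

/-- Normal `2`-subgroups of a quotient lie in the image of a Sylow subgroup. -/
theorem comap_le_cent {Γ₂ : Type*} [Group Γ₂] [Finite Γ₂] (T : Sylow 2 X) (f : X →* Γ₂)
    (hf : Function.Surjective f) {Z : Subgroup X}
    (hZ : Z ≤ Subgroup.centralizer ((T : Subgroup X) : Set X))
    (hker : f.ker ≤ Subgroup.centralizer (Z : Set X)) (P : Subgroup Γ₂) (hPn : P.Normal) (hP2 : IsPGroup 2 P) :
    P.comap f ≤ Subgroup.centralizer (Z : Set X) := by
  intro x hx
  have h1 : f x ∈ pCore 2 Γ₂ := le_pCore hPn hP2 hx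
  have h2 : f x ∈ ((T.mapSurjective hf : Sylow 2 Γ₂) : Subgroup Γ₂) := pCore_le_sylow 2 _ h1
  rw [Sylow.coe_mapSurjective] at h2
  obtain ⟨t, ht, htx⟩ := h2
  have h3 : t⁻¹ * x ∈ f.ker := by
    rw [MonoidHom.mem_ker, map_mul, map_inv, show f t = f x from htx, inv_mul_cancel]
  have h4 := Subgroup.mem_centralizer_iff.mp (hker h3)
  rw [Subgroup.mem_centralizer_iff]
  intro z hz
  have h5 : t * z = z * t := Subgroup.mem_centralizer_iff.mp (hZ hz) t ht
  have h6 : z * (t⁻¹ * x) = (t⁻¹ * x) * z := h4 z hz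
  have e : x = t * (t⁻¹ * x) := by group
  rw [e]
  calc z * (t * (t⁻¹ * x)) = (z * t) * (t⁻¹ * x) := by group
    _ = (t * z) * (t⁻¹ * x) := by rw [h5]
    _ = t * (z * (t⁻¹ * x)) := by group
    _ = t * ((t⁻¹ * x) * z) := by rw [h6]
    _ = _ := by group

variable {E : Type u} [AddCommGroup E] [Module (ZMod 2) E] [Finite E] {ρ₀ : X →* Module.End (ZMod 2) E}

theorem pCore_map_eq_bot {Y : Subgroup X} [hYn : Y.Normal] (h : pCore 2 ↥(rh ρ₀).range = ⊥) :
    pCore 2 ↥(Y.map (rh ρ₀)) = ⊥ := by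
  set Γ₀ := Y.map (rh ρ₀) with hΓ₀
  have hle : Γ₀ ≤ (rh ρ₀).range := Subgroup.map_le_range _ _
  have hnorm : (rh ρ₀).range ≤ Subgroup.normalizer (Γ₀ : Set (GLE 2 E)) := by
    rintro _ ⟨g, rfl⟩
    apply mem_normalizer_of_forall
    rintro _ ⟨j, hj, rfl⟩
    refine ⟨g * j * g⁻¹, hYn.conj_mem j hj g, ?_⟩
    simp
  set P := (pCore 2 ↥Γ₀).map Γ₀.subtype with hP
  have hPle : P ≤ Γ₀ := Subgroup.map_subtype_le _
  have h1 : P.subgroupOf (rh ρ₀).range ≤ pCore 2 ↥(rh ρ₀).range := by
    apply le_pCore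
    · constructor
      intro n hn g
      rw [Subgroup.mem_subgroupOf] at hn ⊢
      exact Cfsg.Agent.Lib.PResid.conj_mem_map_of_characteristic (pCore_characteristic 2) (hnorm g.2) hn
    · have e : P.subgroupOf (rh ρ₀).range ≃* P := Subgroup.subgroupOfEquivOfLe (hPle.trans hle)
      have e2 : ↥(pCore 2 ↥Γ₀) ≃* P := Subgroup.equivMapOfInjective _ _ Γ₀.subtype_injective
      exact ((isPGroup_pCore 2).of_equiv e2).of_equiv e.symm
  rw [h] at h1
  rw [eq_bot_iff]
  intro x hx
  have h2 : (x : GLE 2 E) ∈ P := ⟨x, hx, rfl⟩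
  have h3 : (⟨x, hle x.2⟩ : (rh ρ₀).range) ∈ P.subgroupOf (rh ρ₀).range := h2
  have h4 := h1 h3
  rw [Subgroup.mem_bot] at h4 ⊢
  apply Subtype.ext
  have h5 : ((⟨x, hle x.2⟩ : (rh ρ₀).range) : GLE 2 E) = 1 := congrArg Subtype.val h4
  exact h5

/-- The hypothesis on the `2'`-core. -/
theorem cen_of_solvable {H : Type*} [Group H] [Finite H] [Group.IsSolvable H] (h : pCore 2 H = ⊥) :
    Subgroup.centralizer (pPrimeCore 2 H : Set H) ≤ pPrimeCore 2 H := by
  have h1 : fittingSubgroup H ≤ pPrimeCore 2 H := by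
    have := fittingSubgroup_le_sup (G := H) 2
    rwa [h, bot_sup_eq] at this
  exact (Subgroup.centralizer_le h1).trans (centralizer_fittingSubgroup_le.trans h1)

/-- Maximal abelian subgroups are best for elementary abelian subgroups of `T`. -/
theorem fB_le {T W A : Subgroup X} (hWT : W ≤ T) (hWc : ∀ x ∈ W, ∀ y ∈ W, x * y = y * x) (hA : A ∈ AX T)
    (D : Subgroup X) (hD : D ≤ A) : fB W D ≤ fB W A := by
  obtain ⟨hAT, hAc, hAm⟩ := hA
  set W' := W ⊓ Subgroup.centralizer (D : Set X) with hW'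
  have hcomm := comm_sup D W' (fun a ha b hb => hAc a (hD ha) b (hD hb))
    (fun a ha b hb => hWc a ha.1 b hb.1)
    (fun a ha b hb => Subgroup.mem_centralizer_iff.mp hb.2 a ha)
  have h1 := hAm (D ⊔ W') (sup_le (hD.trans hAT) (inf_le_left.trans hWT)) hcomm
  have h2 := card_sup_mul_card_inf_of_comm hcomm (le_sup_left : D ≤ D ⊔ W') (le_sup_right : W' ≤ D ⊔ W')
  have h3 : D ⊓ W' ≤ W ⊓ Subgroup.centralizer (A : Set X) := by
    rintro x ⟨hx1, hx2⟩
    refine ⟨hx2.1, Subgroup.mem_centralizer_iff.mpr ?_⟩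
    intro a ha
    exact hAc a ha x (hD hx1)
  have h4 := Subgroup.card_le_of_le h3
  calc fB W D = Nat.card D * Nat.card W' := rfl
    _ = Nat.card ↥(D ⊔ W') * Nat.card ↥(D ⊓ W') := h2.symm
    _ ≤ Nat.card A * Nat.card ↥(W ⊓ Subgroup.centralizer (A : Set X)) := Nat.mul_le_mul h1 h4

end Local

section Iso

variable {Γ₁ : Type*} [Group Γ₁] [Finite Γ₁] {E : Type*} [AddCommGroup E] [Module (ZMod 2) E] [Finite E]
  {ρ : Γ₁ →* Module.End (ZMod 2) E}

theorem sl2_equiv : Nonempty (Matrix.SpecialLinearGroup (Fin 2) (ZMod 2) ≃* Equiv.Perm (Fin 3)) :=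
  Cfsg.Agent.S0250.result (F := ZMod 2) (ZMod.card 2)

/-- The structure of a group generated by transvections. -/
theorem final_iso (h : FFH (p := 2) ρ) (hgen : Subgroup.closure {s | IsTv ρ s} = ⊤) :
    ∃ n : ℕ, Nonempty (Γ₁ ≃* (Fin n → Equiv.Perm (Fin 3))) := by
  classical
  set K := pPrimeCore 2 Γ₁ with hK
  have hKc : (Nat.card K).Coprime 2 := card_pPrimeCore_coprime 2
  let ι₀ := {L : Subgroup Γ₁ // ∃ s, IsTv ρ s ∧ L = ee K s}
  haveI : Finite ι₀ := Subtype.finite
  let F : ι₀ → Subgroup Γ₁ := Subtype.val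
  obtain ⟨hind, htop, _, _⟩ := family h.inj hKc h.cen hgen F Subtype.val_injective (fun i => i.2)
    (fun s hs => ⟨⟨ee K s, s, hs, rfl⟩, rfl⟩)
  have hnorm : ∀ i, (F i).Normal := by
    rintro ⟨L, s, hs, rfl⟩
    exact normal_of_gen h.inj hKc h.cen hgen hs
  have hiso : ∀ i, Nonempty (F i ≃* Equiv.Perm (Fin 3)) := by
    rintro ⟨L, s, hs, rfl⟩
    obtain ⟨e⟩ := (fac_ee h.inj hKc h.cen hs).iso
    obtain ⟨e2⟩ := sl2_equiv
    exact ⟨e.trans e2⟩
  let e : ∀ i, F i ≃* Equiv.Perm (Fin 3) := fun i => Classical.choice (hiso i)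
  have hcomm : Pairwise fun i j : ι₀ => ∀ x y : Γ₁, x ∈ F i → y ∈ F j → Commute x y := by
    intro i j hij x y hx hy
    haveI := hnorm i
    haveI := hnorm j
    exact Subgroup.commute_of_normal_of_disjoint _ _ (hnorm i) (hnorm j) (hind.pairwiseDisjoint hij) x y hx hy
  haveI := Fintype.ofFinite ι₀
  have hinj : Function.Injective (Subgroup.noncommPiCoprod hcomm) :=
    Subgroup.injective_noncommPiCoprod_of_iSupIndep hind
  have hrange := Subgroup.noncommPiCoprod_range (hcomm := hcomm)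
  rw [htop] at hrange
  let E₁ : (∀ i, F i) ≃* Γ₁ := ((MonoidHom.ofInjective hinj).trans (MulEquiv.subgroupCongr hrange)).trans
    Subgroup.topEquiv
  let E₂ : (∀ i, F i) ≃* (ι₀ → Equiv.Perm (Fin 3)) := MulEquiv.piCongrRight e
  let e₀ : ι₀ ≃ Fin (Fintype.card ι₀) := Fintype.equivFin ι₀
  exact ⟨Fintype.card ι₀, ⟨E₁.symm.trans (E₂.trans (MulEquiv.arrowCongr e₀ (MulEquiv.refl _)))⟩⟩

end Iso

section Main

theorem part2 {X : Type u} [Group X] [Finite X] [Group.IsSolvable X] (hF : fittingSubgroup X = pCore 2 X)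
    (T : Sylow 2 X) :
    (Subgroup.normalClosure (thompsonSubgroupAOf (T : Subgroup X) : Set X)
        ≤ (Subgroup.centralizer (((T : Subgroup X) ⊓ Subgroup.centralizer ((T : Subgroup X) : Set X) : Subgroup X) : Set X)).normalCore
      ∨ ∃ n : ℕ, 1 ≤ n ∧
        Nonempty (↥(Subgroup.normalClosure (thompsonSubgroupAOf (T : Subgroup X) : Set X)) ⧸
            ((Subgroup.centralizer (((T : Subgroup X) ⊓ Subgroup.centralizer ((T : Subgroup X) : Set X) : Subgroup X) : Set X)).normalCore).subgroupOf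
              (Subgroup.normalClosure (thompsonSubgroupAOf (T : Subgroup X) : Set X))
          ≃* (Fin n → Equiv.Perm (Fin 3)))) := by
  set Tt : Subgroup X := (T : Subgroup X) with hTt
  set Z : Subgroup X := Tt ⊓ Subgroup.centralizer (Tt : Set X) with hZ
  set C : Subgroup X := (Subgroup.centralizer (Z : Set X)).normalCore with hC
  set J : Subgroup X := thompsonSubgroupAOf Tt with hJ
  set Y : Subgroup X := Subgroup.normalClosure (J : Set X) with hY
  haveI hYn : Y.Normal := by rw [hY]; infer_instance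
  haveI hCn : C.Normal := by rw [hC]; infer_instance
  set Q := pCore 2 X with hQ
  haveI hQn : Q.Normal := pCore_normal 2 X
  have hQT : Q ≤ Tt := pCore_le_sylow 2 T
  have hZQ : Z ≤ Q ⊓ Subgroup.centralizer (Q : Set X) := by
    rintro z ⟨_, hz2⟩
    have h1 : z ∈ Subgroup.centralizer (Q : Set X) := Subgroup.centralizer_le (SetLike.coe_mono hQT) hz2
    refine ⟨?_, h1⟩
    have h2 : z ∈ Subgroup.centralizer (fittingSubgroup X : Set X) := by
      rw [hF]
      exact h1
    have h3 := centralizer_fittingSubgroup_le h2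
    rwa [hF] at h3
  set V : Subgroup X := Subgroup.normalClosure (Z : Set X) with hV
  haveI hVn : V.Normal := by rw [hV]; infer_instance
  have hVle : V ≤ Q ⊓ Subgroup.centralizer (Q : Set X) := Subgroup.normalClosure_le_normal hZQ
  have hVc : ∀ x ∈ V, ∀ y ∈ V, x * y = y * x := by
    intro x hx y hy
    exact Subgroup.mem_centralizer_iff.mp (hVle hy).2 x (hVle hx).1
  have hV2 : IsPGroup 2 V := (isPGroup_pCore 2).to_le (hVle.trans inf_le_left)
  have hVT : V ≤ Tt := (hVle.trans inf_le_left).trans hQT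
  set W : Subgroup X := omegaOne 2 V with hW
  haveI hWn : W.Normal := Cfsg.Agent.Lib.StableW.omegaOne_normal 2 V hVn
  have hWV : W ≤ V := Cfsg.Agent.Lib.PLocalTools.omegaOne_le 2 V
  have hWea : IsElementaryAbelian 2 W :=
    isElementaryAbelian_closure (fun a ha b hb => hVc a ha.1 b hb.1) (fun a ha => ha.2)
  have hWc : ∀ x ∈ W, ∀ y ∈ W, x * y = y * x := fun x hx y hy => hVc x (hWV hx) y (hWV hy)
  have hZV : Z ≤ V := fun x hx => Subgroup.subset_normalClosure hx
  -- the subgroup `C`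
  have hCle : C ≤ Subgroup.centralizer (Z : Set X) := Subgroup.normalCore_le _
  have hCV : C ≤ Subgroup.centralizer (V : Set X) := by
    have h1 : V ≤ Subgroup.centralizer (C : Set X) := by
      apply Subgroup.normalClosure_le_normal
      intro z hz
      rw [SetLike.mem_coe, Subgroup.mem_centralizer_iff]
      intro c hc
      exact (Subgroup.mem_centralizer_iff.mp (hCle hc) z hz).symm
    intro c hc
    rw [Subgroup.mem_centralizer_iff]
    intro v hv
    exact (Subgroup.mem_centralizer_iff.mp (h1 hv) c hc).symm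
  have hodd : ∀ x ∈ Subgroup.centralizer (W : Set X), ∃ n : ℕ, x ^ (2 ^ n) ∈ Subgroup.centralizer (V : Set X) := by
    intro x hx
    obtain ⟨n, m, hm, ho⟩ := Nat.exists_eq_two_pow_mul_odd (orderOf_pos x).ne'
    refine ⟨n, ?_⟩
    have hy : (x ^ (2 ^ n)) ^ m = 1 := by
      rw [← pow_mul, ← ho, pow_orderOf_eq_one]
    have hyW : x ^ (2 ^ n) ∈ Subgroup.centralizer (W : Set X) := Subgroup.pow_mem _ hx _
    rw [Subgroup.mem_centralizer_iff]
    intro v hv
    obtain ⟨k, hk⟩ := hV2 ⟨v, hv⟩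
    have hk' : v ^ (2 ^ k) = 1 := by
      have := congrArg Subtype.val hk
      simpa using this
    refine (comm_of_odd hVc hm hy ?_ k v hv hk').symm
    intro u hu hu2
    have hu3 : u ∈ W := Subgroup.subset_closure ⟨hu, hu2⟩
    exact (Subgroup.mem_centralizer_iff.mp hyW u hu3).symm
  have hCWC : Subgroup.centralizer (W : Set X) ≤ C := by
    rw [hC, Subgroup.normal_le_normalCore]
    let f₂ := QuotientGroup.mk' (Subgroup.centralizer (V : Set X))
    have hf₂ : Function.Surjective f₂ := QuotientGroup.mk'_surjective _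
    have h1 := comap_le_cent T f₂ hf₂ (Z := Z) inf_le_right (by
      rw [QuotientGroup.ker_mk']
      exact Subgroup.centralizer_le (SetLike.coe_mono hZV))
      ((Subgroup.centralizer (W : Set X)).map f₂) (Subgroup.Normal.map inferInstance _ hf₂) (by
        rintro ⟨_, x, hx, rfl⟩
        obtain ⟨n, hn⟩ := hodd x hx
        refine ⟨n, ?_⟩
        apply Subtype.ext
        show f₂ x ^ (2 ^ n) = 1
        rw [← map_pow, ← MonoidHom.mem_ker, QuotientGroup.ker_mk']
        exact hn)
    exact (Subgroup.le_comap_map _ _).trans h1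
  have hCW : Subgroup.centralizer (W : Set X) = C :=
    le_antisymm hCWC (hCV.trans (Subgroup.centralizer_le (SetLike.coe_mono hWV)))
  -- the module
  obtain ⟨E, _, _, _, ρ₀, ι, hn⟩ := exists_nm (p := 2) hWea
  have hker : (rh ρ₀).ker = C := by
    rw [ker_rh hn, hCW]
  have hrange : pCore 2 ↥(rh ρ₀).range = ⊥ := by
    let f := (rh ρ₀).rangeRestrict
    have hf : Function.Surjective f := (rh ρ₀).rangeRestrict_surjective
    have hkerf : f.ker = C := by
      rw [MonoidHom.ker_rangeRestrict, hker]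
    have h1 := comap_le_cent T f hf (Z := Z) inf_le_right (by rw [hkerf]; exact hCle) (pCore 2 ↥(rh ρ₀).range)
      (pCore_normal 2 _) (isPGroup_pCore 2)
    have hN : ((pCore 2 ↥(rh ρ₀).range).comap f).Normal := by
      haveI : (pCore 2 ↥(rh ρ₀).range).Normal := pCore_normal 2 _
      infer_instance
    have h2 : (pCore 2 ↥(rh ρ₀).range).comap f ≤ C := by
      rw [hC, Subgroup.normal_le_normalCore]
      exact h1
    rw [eq_bot_iff]
    intro y hy
    obtain ⟨x, rfl⟩ := hf y
    have h3 : x ∈ f.ker := by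
      rw [hkerf]
      exact h2 hy
    rw [Subgroup.mem_bot]
    exact h3
  set Γ₁ := Y.map (rh ρ₀) with hΓ₁
  have hY2 : pCore 2 ↥Γ₁ = ⊥ := pCore_map_eq_bot hrange
  haveI : Group.IsSolvable ↥Γ₁ := solvable_of_surjective ((rh ρ₀).subgroupMap_surjective Y)
  have hff : FFH (p := 2) (lin Γ₁) := ⟨lin_inj Γ₁, cen_of_solvable hY2⟩
  have hJY : J ≤ Y := fun x hx => Subgroup.subset_normalClosure hx
  -- each `A` is generated by transvections
  have hA : ∀ A ∈ AX Tt, (A.map (rh ρ₀)).subgroupOf Γ₁ ≤ Subgroup.closure {s | IsTv (lin Γ₁) s} := by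
    intro A hA
    have hAY : A ≤ Y := (le_thompsonA hA).trans hJY
    have hAΓ : A.map (rh ρ₀) ≤ Γ₁ := Subgroup.map_mono hAY
    have hA2 : IsPGroup 2 A := T.isPGroup'.to_le hA.1
    have hmax : ∀ B : Subgroup X, B ≤ A → fB W B ≤ fB W A := fun B hB => fB_le (hWV.trans hVT) hWc hA B hB
    have hexp := exp_two hn hWea hff hAΓ hA2 hA.2.1 hmax
    have hbest : IsBestOffenderOn 2 W A := by
      refine ⟨hmax, ?_, hexp⟩
      rw [Subgroup.commutator_le]
      intro x hx y hy
      rw [commutatorElement_eq_one_iff_mul_comm.mpr (hA.2.1 x hx y hy)]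
      exact Subgroup.one_mem _
    have hbo := bo_restrict (bo_image hn hbest) hAΓ
    obtain ⟨k, D, hD, _, hsup⟩ := decomp hff hbo
    rw [← hsup]
    refine iSup_le ?_
    intro i
    obtain ⟨h1, h2, h3⟩ := hD i
    have hDo : IsBO (p := 2) (lin Γ₁) (D i) := hbo.mono _ h1 (by rw [h3, fF_eq_card hff hbo])
    obtain ⟨s, hs, hDs⟩ := tv_of_BO hff hDo h2
    rw [hDs, Subgroup.zpowers_le]
    exact Subgroup.subset_closure hs
  -- generation
  have hgen : Subgroup.closure {s | IsTv (lin Γ₁) s} = ⊤ := by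
    set S₁ := Subgroup.closure {s | IsTv (lin Γ₁) s} with hS₁
    have hconj : ∀ (g : X), ∀ h ∈ S₁.map Γ₁.subtype, rh ρ₀ g * h * (rh ρ₀ g)⁻¹ ∈ S₁.map Γ₁.subtype := by
      rintro g _ ⟨s, hs, rfl⟩
      induction hs using Subgroup.closure_induction with
      | mem s hs =>
        obtain ⟨u, f, hT⟩ := hs
        have hT' : Tv (coeE 2 E) (s : GLE 2 E) u f := ⟨hT.app, hT.fu, hT.u0, hT.f0⟩
        have hT2 := hT'.conj (rh ρ₀ g)
        have hmem : rh ρ₀ g * (s : GLE 2 E) * (rh ρ₀ g)⁻¹ ∈ Γ₁ := by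
          obtain ⟨y, hy, hys⟩ := s.2
          refine ⟨g * y * g⁻¹, hYn.conj_mem y hy g, ?_⟩
          rw [map_mul, map_mul, map_inv, show rh ρ₀ y = (s : GLE 2 E) from hys]
        exact ⟨⟨_, hmem⟩, Subgroup.subset_closure ⟨_, _, ⟨hT2.app, hT2.fu, hT2.u0, hT2.f0⟩⟩, rfl⟩
      | one =>
        simp only [map_one, mul_one, mul_inv_cancel]
        exact Subgroup.one_mem _
      | mul a b _ _ ha hb =>
        have e : rh ρ₀ g * Γ₁.subtype (a * b) * (rh ρ₀ g)⁻¹ =
            (rh ρ₀ g * Γ₁.subtype a * (rh ρ₀ g)⁻¹) * (rh ρ₀ g * Γ₁.subtype b * (rh ρ₀ g)⁻¹) := by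
          rw [map_mul]; group
        rw [e]
        exact Subgroup.mul_mem _ ha hb
      | inv a _ ha =>
        have e : rh ρ₀ g * Γ₁.subtype a⁻¹ * (rh ρ₀ g)⁻¹ = (rh ρ₀ g * Γ₁.subtype a * (rh ρ₀ g)⁻¹)⁻¹ := by
          rw [map_inv]; group
        rw [e]
        exact Subgroup.inv_mem _ ha
    have hN : ((S₁.map Γ₁.subtype).comap (rh ρ₀)).Normal := by
      constructor
      intro x hx g
      rw [Subgroup.mem_comap, map_mul, map_mul, map_inv]
      exact hconj g _ hx
    have hJN : J ≤ (S₁.map Γ₁.subtype).comap (rh ρ₀) := by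
      rw [hJ, thompsonA_eq]
      refine sSup_le ?_
      intro A hAA a ha
      rw [Subgroup.mem_comap]
      have hAY : A ≤ Y := (le_thompsonA hAA).trans hJY
      refine ⟨⟨rh ρ₀ a, ⟨a, hAY ha, rfl⟩⟩, hA A hAA ?_, rfl⟩
      exact ⟨a, ha, rfl⟩
    have hYN : Y ≤ (S₁.map Γ₁.subtype).comap (rh ρ₀) := Subgroup.normalClosure_le_normal hJN
    rw [eq_top_iff]
    rintro ⟨_, y, hy, rfl⟩ -
    obtain ⟨s, hs, hse⟩ := hYN hy
    have : s = ⟨rh ρ₀ y, y, hy, rfl⟩ := Subtype.ext hse
    rwa [← this]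
  obtain ⟨n, ⟨e⟩⟩ := final_iso hff hgen
  rcases Nat.eq_zero_or_pos n with rfl | hn0
  · left
    intro y hy
    have h1 : (⟨rh ρ₀ y, y, hy, rfl⟩ : Γ₁) = 1 := by
      apply e.injective
      rw [map_one]
      exact Subsingleton.elim _ _
    have h2 : rh ρ₀ y = 1 := congrArg Subtype.val h1
    show y ∈ C
    rw [← hker]
    exact h2
  · right
    refine ⟨n, hn0, ⟨?_⟩⟩
    let g := (rh ρ₀).subgroupMap Y
    have hg : Function.Surjective g := (rh ρ₀).subgroupMap_surjective Y
    have hk : C.subgroupOf Y = g.ker := by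
      ext x
      rw [Subgroup.mem_subgroupOf, MonoidHom.mem_ker, ← hker, MonoidHom.mem_ker]
      constructor
      · intro h
        exact Subtype.ext h
      · intro h
        exact congrArg Subtype.val h
    exact (QuotientGroup.quotientMulEquivOfEq hk).trans ((QuotientGroup.quotientKerEquivOfSurjective g hg).trans e)

/-- Let `X` be a finite solvable group whose Fitting subgroup is a 2-group (equivalently `F(X) = O₂(X)`), `T` a Sylow 2-subgroup of `X`, `J(T)` the subgroup generated by the abelian subgroups of `T` of largest order, `C` the largest normal subgroup of `X` centralizing the centre `Z(T)`, and `Y` the normal closure of `J(T)` in `X`. Then `X = C · Y · N_X(J(T))`, and either `Y ≤ C`, or `CY/C` is isomorphic to a direct product of at least one copy of the symmetric group of degree 3. -/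
theorem result {X : Type*} [Group X] [Finite X]
    [Group.IsSolvable X] (hF : Cfsg.fittingSubgroup X = Cfsg.pCore 2 X) (T : Sylow 2 X) :
    ((Subgroup.centralizer (((T : Subgroup X) ⊓ Subgroup.centralizer ((T : Subgroup X) : Set X) : Subgroup X) : Set X)).normalCore
        ⊔ Subgroup.normalClosure (Cfsg.thompsonSubgroupAOf (T : Subgroup X) : Set X)
        ⊔ Subgroup.normalizer (Cfsg.thompsonSubgroupAOf (T : Subgroup X) : Set X) = ⊤) ∧
    (Subgroup.normalClosure (Cfsg.thompsonSubgroupAOf (T : Subgroup X) : Set X)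
        ≤ (Subgroup.centralizer (((T : Subgroup X) ⊓ Subgroup.centralizer ((T : Subgroup X) : Set X) : Subgroup X) : Set X)).normalCore
      ∨ ∃ n : ℕ, 1 ≤ n ∧
        Nonempty (↥(Subgroup.normalClosure (Cfsg.thompsonSubgroupAOf (T : Subgroup X) : Set X)) ⧸
            ((Subgroup.centralizer (((T : Subgroup X) ⊓ Subgroup.centralizer ((T : Subgroup X) : Set X) : Subgroup X) : Set X)).normalCore).subgroupOf
              (Subgroup.normalClosure (Cfsg.thompsonSubgroupAOf (T : Subgroup X) : Set X))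
          ≃* (Fin n → Equiv.Perm (Fin 3)))) := by
  refine ⟨?_, part2 hF T⟩
  set Y := Subgroup.normalClosure (Cfsg.thompsonSubgroupAOf (T : Subgroup X) : Set X) with hY
  haveI hYn : Y.Normal := by rw [hY]; infer_instance
  have hJY : thompsonSubgroupAOf (T : Subgroup X) ≤ Y := fun x hx => Subgroup.subset_normalClosure hx
  have h1 := frattini_inf T Y
  rw [eq_top_iff, ← h1]
  refine sup_le ?_ ?_
  · exact (normalizer_le_of_le hJY).trans le_sup_right
  · exact le_sup_right.trans le_sup_left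

end Main

end Cfsg.Agent.S4302
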