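import Mathlib
import Cfsg.Statements.S4347
import Cfsg.Agent.Lib.SylowNum
-- import your own Cfsg.Agent.* helpers here

set_option autoImplicit false
open Cfsg

namespace Cfsg.Agent.S4347

open Cfsg.Agent.Lib.SylowNum


/-- Let G be a finite group and p a prime. Say a Sylow p-subgroup Q is redundant when every element of p-power order lies in some Sylow p-subgroup other than Q. Then G has no redundant Sylow p-subgroup if and only if some element of p-power order lies in exactly one Sylow p-subgroup. -/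
theorem result {G : Type*} [Group G] [Finite G]
    (p : ℕ) [Fact p.Prime] :
    (¬ ∃ Q : Sylow p G, ∀ x : G, (∃ k : ℕ, orderOf x = p ^ k) → ∃ P : Sylow p G, P ≠ Q ∧ x ∈ P) ↔
      ∃ x : G, (∃ k : ℕ, orderOf x = p ^ k) ∧ ∃! P : Sylow p G, x ∈ P := by
  constructor
  · intro h
    obtain ⟨Q⟩ : Nonempty (Sylow p G) := inferInstance
    have h1 : ¬ ∀ x : G, (∃ k : ℕ, orderOf x = p ^ k) → ∃ P : Sylow p G, P ≠ Q ∧ x ∈ P :=
      fun hh => h ⟨Q, hh⟩
    simp only [not_forall] at h1
    obtain ⟨x, hx, hne⟩ := h1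
    refine ⟨x, hx, ?_⟩
    have hall : ∀ P : Sylow p G, x ∈ P → P = Q := by
      intro P hP
      by_contra hPQ
      exact hne ⟨P, hPQ, hP⟩
    obtain ⟨R, hR⟩ := exists_sylow_of_pelt (p := p) x hx
    exact ⟨R, hR, fun P hP => (hall P hP).trans (hall R hR).symm⟩
  · rintro ⟨x, hx, P₀, hP₀, huniq⟩ ⟨Q, hQ⟩
    obtain ⟨g, hg⟩ := MulAction.exists_smul_eq G P₀ Q
    have hy : ∃ k : ℕ, orderOf (g * x * g⁻¹) = p ^ k := by
      obtain ⟨k, hk⟩ := hx
      refine ⟨k, ?_⟩
      rw [← hk]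
      have : g * x * g⁻¹ = MulAut.conj g x := rfl
      rw [this]
      exact MulEquiv.orderOf_eq _ x
    obtain ⟨P, hPQ, hP⟩ := hQ _ hy
    apply hPQ
    have h1 : x ∈ g⁻¹ • P := by
      rw [mem_smul_sylow]
      simpa using hP
    have h2 := huniq _ h1
    rw [← hg, ← h2, smul_inv_smul]

end Cfsg.Agent.S4347
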