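import Mathlib
import Cfsg.Statements.S4348
import Cfsg.Agent.Lib.SylowNum
import Cfsg.Agent.Lib.PCore
-- import your own Cfsg.Agent.* helpers here

set_option autoImplicit false
open Cfsg

namespace Cfsg.Agent.S4348

open Cfsg.Agent.Lib.SylowNum


/-- Let G be a finite group, p a prime and P a Sylow p-subgroup of G, and let O_p(G) be the largest normal p-subgroup of G. If P/O_p(G) is cyclic, then some element of p-power order of G lies in exactly one Sylow p-subgroup. -/
theorem result {G : Type*} [Group G] [Finite G]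
    (p : ℕ) [Fact p.Prime] (P : Sylow p G)
    [hn : ((Cfsg.pCore p G).subgroupOf (P : Subgroup G)).Normal]
    (hc : IsCyclic ((P : Subgroup G) ⧸ (Cfsg.pCore p G).subgroupOf (P : Subgroup G))) :
    ∃ x : G, (∃ k : ℕ, orderOf x = p ^ k) ∧ ∃! Q : Sylow p G, x ∈ Q := by
  obtain ⟨g, hg⟩ := hc.exists_generator
  obtain ⟨x, rfl⟩ := QuotientGroup.mk_surjective g
  refine ⟨(x : G), pelt_of_mem P _ x.2, P, x.2, ?_⟩
  intro Q hxQ
  symm
  apply sylow_eq_of_le
  intro y hy
  have hgen := hg (QuotientGroup.mk (⟨y, hy⟩ : (P : Subgroup G)))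
  obtain ⟨k, hk⟩ := Subgroup.mem_zpowers_iff.1 hgen
  have h1 : (((x ^ k : (P : Subgroup G)) : (P : Subgroup G)) : (P : Subgroup G) ⧸ (Cfsg.pCore p G).subgroupOf (P : Subgroup G))
      = QuotientGroup.mk (⟨y, hy⟩ : (P : Subgroup G)) := by
    rw [QuotientGroup.mk_zpow]; exact hk
  rw [QuotientGroup.eq] at h1
  have h2 := Subgroup.mem_subgroupOf.1 h1
  have h3 := Cfsg.Agent.Lib.PCore.pCore_le_sylow p Q h2
  have hxk : ((x : G)) ^ k ∈ (Q : Subgroup G) := (Q : Subgroup G).zpow_mem hxQ k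
  have e : y = (x : G) ^ k * (((x ^ k)⁻¹ * ⟨y, hy⟩ : (P : Subgroup G)) : G) := by
    simp
  rw [e]
  exact (Q : Subgroup G).mul_mem hxk h3

end Cfsg.Agent.S4348
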