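import Mathlib
import Cfsg.Statements.S4349
import Cfsg.Agent.Lib.SymSylow2
-- import your own Cfsg.Agent.* helpers here

set_option autoImplicit false
open Cfsg

namespace Cfsg.Agent.S4349

section Helpers

open scoped Pointwise
open Equiv Equiv.Perm Cfsg.Agent.Lib.SymSylow2
open Function hiding swap

variable {n : ℕ}

theorem Q_dist {y : Perm (Fin n)} (hy : y ∈ Q n) (u v : Fin n) :
    dist2 (y u).val (y v).val = dist2 u.val v.val := (mem_Q_iff_dist.1 hy).1 u v

theorem Q_dist_n {y : Perm (Fin n)} (hy : y ∈ Q n) (u : Fin n) :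
    dist2 (y u).val n = dist2 u.val n := (mem_Q_iff_dist.1 hy).2 u

theorem dist_pow_le {y : Perm (Fin n)} (hy : y ∈ Q n) (u : Fin n) (k : ℕ) :
    dist2 u.val ((y ^ k) u).val ≤ dist2 u.val (y u).val := by
  induction k with
  | zero => simp
  | succ k ih =>
    have h1 := dist2_ultra u.val ((y ^ k) u).val ((y ^ (k + 1)) u).val
    have h2 : dist2 ((y ^ k) u).val ((y ^ (k + 1)) u).val = dist2 u.val (y u).val := by
      rw [pow_succ, Perm.mul_apply]
      exact Q_dist (pow_mem hy k) u (y u)
    rw [h2] at h1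
    exact h1.trans (max_le ih le_rfl)

/-- Squaring an isometry lowers the displacement. -/
theorem dist_sq_le {y : Perm (Fin n)} (hy : y ∈ Q n) (u : Fin n) {d : ℕ}
    (h : dist2 u.val (y u).val ≤ d + 1) : dist2 u.val ((y * y) u).val ≤ d := by
  have h2 : dist2 (y u).val ((y * y) u).val = dist2 u.val (y u).val := by
    rw [Perm.mul_apply]
    exact Q_dist hy u (y u)
  by_cases h3 : dist2 u.val (y u).val ≤ d
  · have h1 := dist2_ultra u.val (y u).val ((y * y) u).val
    rw [h2] at h1
    exact h1.trans (max_le h3 h3)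
  · have h4 : dist2 u.val (y u).val = d + 1 := by omega
    exact dist2_isosceles (a := (y u).val) (by rw [dist2_comm, h4]) (by rw [h2, h4])

theorem dist_two_pow_le {y : Perm (Fin n)} (hy : y ∈ Q n) (u : Fin n) {D : ℕ}
    (h : dist2 u.val (y u).val ≤ D) (i : ℕ) (hi : i ≤ D) :
    dist2 u.val ((y ^ (2 ^ i)) u).val ≤ D - i := by
  induction i with
  | zero => simpa using h
  | succ i ih =>
    have h1 := ih (by omega)
    have h2 : y ^ (2 ^ (i + 1)) = y ^ (2 ^ i) * y ^ (2 ^ i) := by
      rw [pow_succ 2 i, mul_two, pow_add]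
    rw [h2]
    exact dist_sq_le (pow_mem hy _) u (by omega)

/-! ### Dyadic balls -/

/-- The dyadic ball around `u`. -/
def bl (u : Fin n) (j : ℕ) : Finset (Fin n) :=
  Finset.univ.filter (fun z => z.val / 2 ^ j = u.val / 2 ^ j)

theorem mem_bl {u z : Fin n} {j : ℕ} : z ∈ bl u j ↔ dist2 u.val z.val ≤ j := by
  simp only [bl, Finset.mem_filter, Finset.mem_univ, true_and]
  rw [eq_comm, agree_iff]

theorem card_bl_of_lt {u : Fin n} {j : ℕ} (h : j < dist2 u.val n) : (bl u j).card = 2 ^ j := by
  have h1 : u.val / 2 ^ j ≠ n / 2 ^ j := fun he => by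
    have := agree_iff.1 he
    omega
  have h2 := block_complete u.isLt.le h1
  have h3 := ncard_block n j (u.val / 2 ^ j) h2
  rw [← h3, ← Set.ncard_coe_finset]
  congr 1
  ext z
  simp [bl]

theorem card_bl_lt_of_le {u : Fin n} {j : ℕ} (h : dist2 u.val n ≤ j) : (bl u j).card < 2 ^ j := by
  have h1 : u.val / 2 ^ j = n / 2 ^ j := agree_iff.2 h
  set m := n / 2 ^ j with hm
  have hpos : 0 < 2 ^ j := by positivity
  have h2 : n < (m + 1) * 2 ^ j := by
    exact (Nat.div_lt_iff_lt_mul hpos).1 (show n / 2 ^ j < m + 1 by omega)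
  have h3 : m * 2 ^ j ≤ n := Nat.div_mul_le_self _ _
  have h4 : (bl u j).card ≤ (Finset.Ico (m * 2 ^ j) n).card := by
    apply Finset.card_le_card_of_injOn (fun z => z.val)
    · intro z hz
      simp only [bl, Finset.coe_filter, Finset.mem_univ, true_and, Set.mem_ofPred_eq] at hz
      simp only [Finset.coe_Ico, Set.mem_Ico]
      refine ⟨?_, z.isLt⟩
      rw [← h1, ← hz]
      exact Nat.div_mul_le_self _ _
    · intro a _ b _ hab
      exact Fin.ext hab
  rw [Nat.card_Ico] at h4
  have h5 : (m + 1) * 2 ^ j = m * 2 ^ j + 2 ^ j := by ring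
  omega

theorem card_bl_le (u : Fin n) (j : ℕ) : (bl u j).card ≤ 2 ^ j := by
  by_cases h : j < dist2 u.val n
  · exact (card_bl_of_lt h).le
  · exact (card_bl_lt_of_le (by omega)).le

theorem minimalPeriod_le {y : Perm (Fin n)} (hy : y ∈ Q n) (u : Fin n) :
    minimalPeriod y u ≤ 2 ^ dist2 u.val (y u).val := by
  have h1 : ((Finset.range (minimalPeriod y u)).image (fun i => (y ^ i) u)).card =
      minimalPeriod y u := by
    rw [Finset.card_image_of_injOn, Finset.card_range]
    intro a ha b hb hab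
    have := iterate_injOn_Iio_minimalPeriod (f := y) (x := u)
    apply this (by simpa using ha) (by simpa using hb)
    simpa [iterate_eq_pow] using hab
  have h2 : ((Finset.range (minimalPeriod y u)).image (fun i => (y ^ i) u)) ⊆
      bl u (dist2 u.val (y u).val) := by
    intro z hz
    obtain ⟨i, -, rfl⟩ := Finset.mem_image.1 hz
    exact mem_bl.2 (dist_pow_le hy u i)
  calc minimalPeriod y u = _ := h1.symm
    _ ≤ _ := Finset.card_le_card h2
    _ ≤ _ := card_bl_le _ _

/-! ### Periods -/

section Periods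

variable {x : Perm (Fin n)}

theorem periodic_mem (u : Fin n) : u ∈ periodicPts x := by
  apply mk_mem_periodicPts (orderOf_pos x)
  show x^[orderOf x] u = u
  rw [iterate_eq_pow, pow_orderOf_eq_one]
  rfl

theorem mp_pos (u : Fin n) : 0 < minimalPeriod x u :=
  minimalPeriod_pos_of_mem_periodicPts (periodic_mem u)

/-- exponent of the period -/
noncomputable def ex (x : Perm (Fin n)) (u : Fin n) : ℕ := Nat.log 2 (minimalPeriod x u)

theorem two_pow_ex (hx : x ∈ Q n) (u : Fin n) : 2 ^ ex x u = minimalPeriod x u := by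
  obtain ⟨k, hk⟩ := Q_isPGroup n ⟨x, hx⟩
  have h1 : x ^ (2 ^ k) = 1 := by
    have := congrArg Subtype.val hk
    simpa using this
  have h2 : IsPeriodicPt x (2 ^ k) u := by
    show x^[2 ^ k] u = u
    rw [iterate_eq_pow, h1]
    rfl
  have h3 := h2.minimalPeriod_dvd
  obtain ⟨e, -, he⟩ := (Nat.dvd_prime_pow Nat.prime_two).1 h3
  unfold ex
  rw [he, Nat.log_pow (by norm_num)]

theorem fixed_iff_ex (hx : x ∈ Q n) (u : Fin n) : x u = u ↔ ex x u = 0 := by
  constructor
  · intro h
    have : minimalPeriod x u = 1 := minimalPeriod_eq_one_iff_isFixedPt.2 h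
    unfold ex
    rw [this]
    simp
  · intro h
    have h1 := two_pow_ex hx u
    rw [h, pow_zero] at h1
    exact minimalPeriod_eq_one_iff_isFixedPt.1 h1.symm

theorem exists_pow_of_sameCycle {u w : Fin n} (h : SameCycle x u w) :
    ∃ i, i < minimalPeriod x u ∧ (x ^ i) u = w := by
  obtain ⟨i, hi⟩ := h.exists_nat_pow_eq
  refine ⟨i % minimalPeriod x u, Nat.mod_lt _ (mp_pos u), ?_⟩
  have := iterate_mod_minimalPeriod_eq (f := x) (x := u) (n := i)
  rw [iterate_eq_pow, iterate_eq_pow] at this
  rw [this, hi]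

theorem sameCycle_pow (u : Fin n) (i : ℕ) : SameCycle x u ((x ^ i) u) :=
  ⟨i, by simp⟩

theorem mp_of_sameCycle {u w : Fin n} (h : SameCycle x u w) :
    minimalPeriod x w = minimalPeriod x u := by
  obtain ⟨i, -, rfl⟩ := exists_pow_of_sameCycle h
  rw [← iterate_eq_pow]
  exact minimalPeriod_apply_iterate (periodic_mem u) i

/-- The cycle of `u`. -/
noncomputable def cyc (x : Perm (Fin n)) (u : Fin n) : Finset (Fin n) :=
  (Finset.range (minimalPeriod x u)).image (fun i => (x ^ i) u)

theorem card_cyc (u : Fin n) : (cyc x u).card = minimalPeriod x u := by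
  unfold cyc
  rw [Finset.card_image_of_injOn, Finset.card_range]
  intro a ha b hb hab
  have := iterate_injOn_Iio_minimalPeriod (f := x) (x := u)
  apply this (by simpa using ha) (by simpa using hb)
  simpa [iterate_eq_pow] using hab

theorem mem_cyc {u w : Fin n} : w ∈ cyc x u ↔ SameCycle x u w := by
  unfold cyc
  constructor
  · intro h
    obtain ⟨i, -, rfl⟩ := Finset.mem_image.1 h
    exact sameCycle_pow u i
  · intro h
    obtain ⟨i, hi, rfl⟩ := exists_pow_of_sameCycle h
    exact Finset.mem_image.2 ⟨i, Finset.mem_range.2 hi, rfl⟩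

end Periods

/-- Powers of two and the final chain. -/
theorem chain_sum (r : ℕ) (hr : 1 ≤ r) : 2 + ∑ j ∈ Finset.Ico 1 r, 2 ^ j = 2 ^ r := by
  induction r, hr using Nat.le_induction with
  | base => simp
  | succ r hr ih =>
    rw [Finset.sum_Ico_succ_top hr, ← add_assoc, ih, pow_succ]
    ring

section Main

variable {x : Perm (Fin n)} (hx : x ∈ Q n)
  (hfix : ∀ F : Finset (Fin n), (∀ z ∈ F, x z = z) → F.card ≤ 2)
  (hcyc : ∀ u v : Fin n, minimalPeriod x u = minimalPeriod x v → x u ≠ u → SameCycle x u v)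

include hx hcyc in
theorem fiber_card {B : Finset (Fin n)} (hB : ∀ z ∈ B, x z ∈ B) {z₀ : Fin n} (hz₀ : z₀ ∈ B)
    (hne : x z₀ ≠ z₀) :
    (B.filter (fun z => x z ≠ z ∧ ex x z = ex x z₀)).card = 2 ^ ex x z₀ := by
  have hsub : cyc x z₀ ⊆ B := by
    intro w hw
    obtain ⟨i, -, rfl⟩ := Finset.mem_image.1 hw
    clear hw
    induction i with
    | zero => simpa using hz₀
    | succ i ih =>
      rw [pow_succ', Perm.mul_apply]
      exact hB _ ih
  have : B.filter (fun z => x z ≠ z ∧ ex x z = ex x z₀) = cyc x z₀ := by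
    ext w
    simp only [Finset.mem_filter]
    constructor
    · rintro ⟨-, h2, h3⟩
      rw [mem_cyc]
      apply hcyc z₀ w _ hne
      rw [← two_pow_ex hx, ← two_pow_ex hx, h3]
    · intro hw
      have h1 : minimalPeriod x w = minimalPeriod x z₀ := mp_of_sameCycle (mem_cyc.1 hw)
      have h2 : ex x w = ex x z₀ := by unfold ex; rw [h1]
      refine ⟨hsub hw, ?_, h2⟩
      intro h3
      apply hne
      rw [fixed_iff_ex hx] at h3 ⊢
      omega
  rw [this, card_cyc, two_pow_ex hx]

include hx hcyc hfix in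
theorem ball_dichotomy {B : Finset (Fin n)} (hB : ∀ z ∈ B, x z ∈ B) {r : ℕ} (hr : 1 ≤ r)
    (hcard : B.card = 2 ^ r) :
    (B.filter (fun z => x z = z) = ∅ ∧ ∀ z ∈ B, ex x z = r) ∨
    ((B.filter (fun z => x z = z)).card = 2 ∧
      ∀ j, 1 ≤ j → j < r → ∃ z ∈ B, x z ≠ z ∧ ex x z = j) := by
  classical
  set F := B.filter (fun z => x z = z) with hF
  set N := B.filter (fun z => ¬ x z = z) with hN
  have h1 : F.card + N.card = B.card := Finset.card_filter_add_card_filter_not _
  have hFle : F.card ≤ 2 := hfix F (fun z hz => (Finset.mem_filter.1 hz).2)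
  set E := N.image (ex x) with hE
  have h2 : N.card = ∑ e ∈ E, 2 ^ e := by
    rw [Finset.card_eq_sum_card_image (ex x) N]
    apply Finset.sum_congr rfl
    intro e he
    obtain ⟨z₀, hz₀, rfl⟩ := Finset.mem_image.1 he
    have hz₀' := Finset.mem_filter.1 hz₀
    rw [← fiber_card hx hcyc hB hz₀'.1 hz₀'.2]
    congr 1
    ext w
    simp only [hN, Finset.mem_filter, ne_eq]
    tauto
  have hEpos : ∀ e ∈ E, 1 ≤ e := by
    intro e he
    obtain ⟨z₀, hz₀, rfl⟩ := Finset.mem_image.1 he
    have hz₀' := Finset.mem_filter.1 hz₀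
    by_contra hc
    exact hz₀'.2 ((fixed_iff_ex hx z₀).2 (by omega))
  have hevenN : Even N.card := by
    rw [h2]
    apply Finset.even_sum
    intro e he
    have := hEpos e he
    exact (Nat.even_pow.2 ⟨even_two, by omega⟩)
  have hevenB : Even B.card := by
    rw [hcard]
    exact Nat.even_pow.2 ⟨even_two, by omega⟩
  have hevenF : Even F.card := by
    rw [← h1] at hevenB
    exact (Nat.even_add.1 hevenB).2 hevenN
  have hF02 : F.card = 0 ∨ F.card = 2 := by
    obtain ⟨t, ht⟩ := hevenF
    omega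
  rcases hF02 with h0 | h0
  · left
    have hF0 : F = ∅ := Finset.card_eq_zero.1 h0
    refine ⟨hF0, ?_⟩
    have h3 : ∑ e ∈ E, 2 ^ e = ∑ e ∈ ({r} : Finset ℕ), 2 ^ e := by
      rw [← h2, Finset.sum_singleton]
      omega
    have h4 : E = {r} := Finset.geomSum_injective (le_refl 2) h3
    intro z hz
    have hzN : z ∈ N := by
      refine Finset.mem_filter.2 ⟨hz, fun hc => ?_⟩
      have : z ∈ F := Finset.mem_filter.2 ⟨hz, hc⟩
      rw [hF0] at this
      simp at this
    have h5 : ex x z ∈ E := Finset.mem_image_of_mem _ hzN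
    rw [h4] at h5
    simpa using h5
  · right
    refine ⟨h0, ?_⟩
    have h3 : ∑ e ∈ E, 2 ^ e = ∑ e ∈ Finset.Ico 1 r, 2 ^ e := by
      have := chain_sum r hr
      rw [← h2]
      omega
    have h4 : E = Finset.Ico 1 r := Finset.geomSum_injective (le_refl 2) h3
    intro j hj1 hj2
    have h5 : j ∈ E := by
      rw [h4]
      exact Finset.mem_Ico.2 ⟨hj1, hj2⟩
    obtain ⟨z, hz, rfl⟩ := Finset.mem_image.1 h5
    have hz' := Finset.mem_filter.1 hz
    exact ⟨z, hz'.1, hz'.2, rfl⟩

include hx hcyc hfix in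
/-- The displacement of `u` is the exponent of its period. -/
theorem dist_eq_ex (u : Fin n) : dist2 u.val (x u).val = ex x u := by
  by_cases hu : x u = u
  · rw [hu, dist2_self]
    exact ((fixed_iff_ex hx u).1 hu).symm
  set r := dist2 u.val (x u).val with hr
  have hr0 : r ≠ 0 := fun h => hu (Fin.ext (dist2_eq_zero.1 h).symm)
  obtain ⟨d, hd⟩ := Nat.exists_eq_succ_of_ne_zero hr0
  have hcomplete : r < dist2 u.val n := by
    by_contra hc
    have hle : dist2 u.val n ≤ r := by omega
    have h2 := Q_dist_n hx u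
    rcases hle.lt_or_eq with h3 | h3
    · have h4 := dist2_ultra u.val n (x u).val
      rw [dist2_comm n, h2] at h4
      have := h4.trans_lt (max_lt h3 h3)
      omega
    · have h4 : dist2 (n : ℕ) u.val = d + 1 := by rw [dist2_comm, h3, hd]
      have h5 : dist2 (n : ℕ) (x u).val = d + 1 := by rw [dist2_comm, h2, h3, hd]
      have := dist2_isosceles h4 h5
      omega
  have hB : ∀ z ∈ bl u r, x z ∈ bl u r := by
    intro z hz
    rw [mem_bl] at hz ⊢
    have h1 := dist2_ultra u.val (x u).val (x z).val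
    rw [Q_dist hx] at h1
    exact h1.trans (max_le le_rfl hz)
  have hnofix : (bl u r).filter (fun z => x z = z) = ∅ := by
    apply Finset.filter_eq_empty_iff.2
    intro z hz hfz
    rw [mem_bl] at hz
    have h1 : dist2 (x u).val z.val = dist2 u.val z.val := by
      have := Q_dist hx u z
      rwa [hfz] at this
    rcases hz.lt_or_eq with h3 | h3
    · have h4 := dist2_ultra u.val z.val (x u).val
      rw [dist2_comm z.val, h1] at h4
      have := h4.trans_lt (max_lt h3 h3)
      omega
    · have h4 : dist2 z.val u.val = d + 1 := by rw [dist2_comm, h3, hd]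
      have h5 : dist2 z.val (x u).val = d + 1 := by rw [dist2_comm, h1, h3, hd]
      have := dist2_isosceles h4 h5
      omega
  rcases ball_dichotomy hx hfix hcyc hB (r := r) (by omega) (card_bl_of_lt hcomplete) with
    ⟨-, h⟩ | ⟨h, -⟩
  · exact (h u (mem_bl.2 (by simp))).symm
  · rw [hnofix] at h
    simp at h

include hx hcyc hfix in
theorem dist_sameCycle_le {u w : Fin n} (h : SameCycle x u w) : dist2 u.val w.val ≤ ex x u := by
  obtain ⟨i, -, rfl⟩ := exists_pow_of_sameCycle h
  rw [← dist_eq_ex hx hfix hcyc]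
  exact dist_pow_le hx u i

include hx hcyc hfix in
/-- The displacement under a power. -/
theorem dist_pow_eq (u : Fin n) (i m : ℕ) (hm : Odd m) (hne : (x ^ (2 ^ i * m)) u ≠ u) :
    dist2 u.val ((x ^ (2 ^ i * m)) u).val = ex x u - i := by
  set e := ex x u with he
  have hmp : minimalPeriod x u = 2 ^ e := (two_pow_ex hx u).symm
  have hi : i < e := by
    by_contra hc
    apply hne
    have h1 : 2 ^ e ∣ 2 ^ i * m := Dvd.dvd.mul_right (pow_dvd_pow 2 (by omega)) m
    rw [← hmp] at h1
    have h2 : IsPeriodicPt x (2 ^ i * m) u := isPeriodicPt_iff_minimalPeriod_dvd.2 h1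
    have h3 : x^[2 ^ i * m] u = u := h2
    rwa [iterate_eq_pow] at h3
  have hm0 : m ≠ 0 := by
    rintro rfl
    simp at hm
  apply le_antisymm
  · have h1 : dist2 u.val ((x ^ m) u).val ≤ e := by
      rw [he, ← dist_eq_ex hx hfix hcyc]
      exact dist_pow_le hx u m
    have h2 := dist_two_pow_le (pow_mem hx m) u h1 i hi.le
    rwa [← pow_mul, mul_comm] at h2
  · have h1 := minimalPeriod_le (pow_mem hx (2 ^ i * m)) u
    have h2 : minimalPeriod (x ^ (2 ^ i * m)) u = 2 ^ (e - i) := by
      have h3 : (2 ^ i * m) ≠ 0 := by positivity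
      have h4 := minimalPeriod_iterate_eq_div_gcd (f := x) (x := u) h3
      rw [iterate_eq_pow, hmp] at h4
      rw [h4]
      have h5 : (2 : ℕ) ^ e = 2 ^ i * 2 ^ (e - i) := by
        rw [← pow_add]
        congr 1
        omega
      have h6 : Nat.gcd (2 ^ (e - i)) m = 1 :=
        Nat.Coprime.pow_left _ (Nat.coprime_two_left.2 hm)
      rw [h5, Nat.gcd_mul_left, h6, mul_one, Nat.mul_div_cancel_left _ (by positivity)]
    rw [h2] at h1
    have := (Nat.pow_le_pow_iff_right (by norm_num : 1 < 2)).1 h1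
    exact this

include hx hcyc hfix in
/-- Points of different cycles, the larger of exponent `b ≥ 1`. -/
theorem dist_diff {u v : Fin n} (hnot : ¬ SameCycle x u v) (hb : 1 ≤ ex x v)
    (hab : ex x u ≤ ex x v) : dist2 u.val v.val = ex x v + 1 := by
  set b := ex x v with hbdef
  have hvne : x v ≠ v := fun h => by
    have := (fixed_iff_ex hx v).1 h
    omega
  have hbu : dist2 u.val (x u).val ≤ b := by rw [dist_eq_ex hx hfix hcyc]; exact hab
  have hbv : dist2 v.val (x v).val ≤ b := by rw [dist_eq_ex hx hfix hcyc]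
  have hlow : b < dist2 u.val v.val := by
    by_contra hc
    have h1 : cyc x v ⊆ bl v b := by
      intro w hw
      exact mem_bl.2 (dist_sameCycle_le hx hfix hcyc (mem_cyc.1 hw))
    have h2 : (bl v b).card ≤ (cyc x v).card := by
      rw [card_cyc, ← two_pow_ex hx]
      exact card_bl_le _ _
    have h3 := Finset.eq_of_subset_of_card_le h1 h2
    have h4 : u ∈ bl v b := mem_bl.2 (by rw [dist2_comm]; omega)
    rw [← h3, mem_cyc] at h4
    exact hnot h4.symm
  by_contra hne
  obtain ⟨r, hr⟩ : ∃ r, dist2 u.val v.val = r + 1 := ⟨dist2 u.val v.val - 1, by omega⟩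
  have hrb : b + 1 ≤ r := by omega
  have hdisj : ∀ z : Fin n, dist2 u.val z.val ≤ r → dist2 v.val z.val ≤ r → False := by
    intro z h1 h2
    have h3 := dist2_ultra u.val z.val v.val
    rw [dist2_comm z.val] at h3
    have := h3.trans (max_le h1 h2)
    omega
  have hinv : ∀ w : Fin n, dist2 w.val (x w).val ≤ r → ∀ z ∈ bl w r, x z ∈ bl w r := by
    intro w hw z hz
    rw [mem_bl] at hz ⊢
    have h1 := dist2_ultra w.val (x w).val (x z).val
    rw [Q_dist hx] at h1
    exact h1.trans (max_le hw hz)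
  have hcomp : r < dist2 u.val n ∨ r < dist2 v.val n := by
    by_contra hc
    push Not at hc
    have h3 := dist2_ultra u.val n v.val
    rw [dist2_comm (n : ℕ)] at h3
    have := h3.trans (max_le hc.1 hc.2)
    omega
  rcases hcomp with hc | hc
  · rcases ball_dichotomy hx hfix hcyc (hinv u (by omega)) (r := r) (by omega) (card_bl_of_lt hc)
      with ⟨-, h⟩ | ⟨-, h⟩
    · have := h u (mem_bl.2 (by simp))
      omega
    · obtain ⟨z, hz, hzne, hzb⟩ := h b hb (by omega)
      have h1 : SameCycle x v z :=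
        hcyc v z (by rw [← two_pow_ex hx, ← two_pow_ex hx, hzb]) hvne
      have h2 := dist_sameCycle_le hx hfix hcyc h1
      exact hdisj z (mem_bl.1 hz) (by omega)
  · rcases ball_dichotomy hx hfix hcyc (hinv v (by omega)) (r := r) (by omega) (card_bl_of_lt hc)
      with ⟨-, h⟩ | ⟨h0, h⟩
    · have := h v (mem_bl.2 (by simp))
      omega
    · by_cases hu0 : ex x u = 0
      · have hufix : x u = u := (fixed_iff_ex hx u).2 hu0
        have huin : u ∉ (bl v r).filter (fun z => x z = z) := by
          intro hc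
          have h1 := mem_bl.1 (Finset.mem_filter.1 hc).1
          exact hdisj u (by simp) h1
        have h3 := hfix (insert u ((bl v r).filter (fun z => x z = z))) (by
          intro z hz
          rcases Finset.mem_insert.1 hz with rfl | hz
          · exact hufix
          · exact (Finset.mem_filter.1 hz).2)
        rw [Finset.card_insert_of_notMem huin, h0] at h3
        omega
      · obtain ⟨z, hz, hzne, hzb⟩ := h (ex x u) (by omega) (by omega)
        have h1 : SameCycle x z u :=
          hcyc z u (by rw [← two_pow_ex hx, ← two_pow_ex hx, hzb]) hzne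
        have h2 := dist_sameCycle_le hx hfix hcyc h1.symm
        have h3 : dist2 v.val u.val ≤ r := by
          have h4 := dist2_ultra v.val z.val u.val
          rw [dist2_comm z.val] at h4
          exact h4.trans (max_le (mem_bl.1 hz) (by omega))
        rw [dist2_comm] at h3
        omega

include hx hcyc hfix in
/-- Two distinct fixed points are dyadic neighbours. -/
theorem dist_fixed {u v : Fin n} (hu : x u = u) (hv : x v = v) (huv : u ≠ v) :
    dist2 u.val v.val = 1 := by
  have h0 : dist2 u.val v.val ≠ 0 := fun h => huv (Fin.ext (dist2_eq_zero.1 h))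
  by_contra hne
  obtain ⟨r, hr⟩ : ∃ r, dist2 u.val v.val = r + 1 := ⟨dist2 u.val v.val - 1, by omega⟩
  have hr1 : 1 ≤ r := by omega
  have hinv : ∀ w : Fin n, x w = w → ∀ z ∈ bl w r, x z ∈ bl w r := by
    intro w hw z hz
    rw [mem_bl] at hz ⊢
    have h1 := Q_dist hx w z
    rw [hw] at h1
    rwa [h1]
  have hcomp : r < dist2 u.val n ∨ r < dist2 v.val n := by
    by_contra hc
    push Not at hc
    have h3 := dist2_ultra u.val n v.val
    rw [dist2_comm (n : ℕ)] at h3
    have := h3.trans (max_le hc.1 hc.2)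
    omega
  -- a complete ball around a fixed point `w`, with another fixed point `w'` outside
  have key : ∀ w w' : Fin n, x w = w → x w' = w' → dist2 w.val w'.val = r + 1 →
      r < dist2 w.val n → False := by
    intro w w' hw hw' hd hc
    rcases ball_dichotomy hx hfix hcyc (hinv w hw) (r := r) hr1 (card_bl_of_lt hc) with
      ⟨h, -⟩ | ⟨h, -⟩
    · have : w ∈ (bl w r).filter (fun z => x z = z) :=
        Finset.mem_filter.2 ⟨mem_bl.2 (by simp), hw⟩
      rw [h] at this
      simp at this
    · have hout : w' ∉ (bl w r).filter (fun z => x z = z) := by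
        intro hc'
        have := mem_bl.1 (Finset.mem_filter.1 hc').1
        omega
      have h3 := hfix (insert w' ((bl w r).filter (fun z => x z = z))) (by
        intro z hz
        rcases Finset.mem_insert.1 hz with rfl | hz
        · exact hw'
        · exact (Finset.mem_filter.1 hz).2)
      rw [Finset.card_insert_of_notMem hout, h] at h3
      omega
  rcases hcomp with hc | hc
  · exact key u v hu hv hr hc
  · exact key v u hv hu (by rw [dist2_comm]; exact hr) hc

end Main

section Conj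

variable {x x' h : Perm (Fin n)}

theorem mp_conj (hh : x' = h * x * h⁻¹) (u : Fin n) :
    minimalPeriod x' (h u) = minimalPeriod x u := by
  subst hh
  rw [minimalPeriod_eq_minimalPeriod_iff]
  intro k
  simp only [IsPeriodicPt, IsFixedPt, iterate_eq_pow, conj_pow, Perm.mul_apply]
  rw [show h⁻¹ (h u) = u by simp]
  exact h.injective.eq_iff

theorem ex_conj (hh : x' = h * x * h⁻¹) (u : Fin n) : ex x' (h u) = ex x u := by
  unfold ex
  rw [mp_conj hh]

theorem dist_conj (hx : x ∈ Q n) (hx' : x' ∈ Q n)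
    (hfix : ∀ F : Finset (Fin n), (∀ z ∈ F, x z = z) → F.card ≤ 2)
    (hcyc : ∀ u v : Fin n, minimalPeriod x u = minimalPeriod x v → x u ≠ u → SameCycle x u v)
    (hfix' : ∀ F : Finset (Fin n), (∀ z ∈ F, x' z = z) → F.card ≤ 2)
    (hcyc' : ∀ u v : Fin n, minimalPeriod x' u = minimalPeriod x' v → x' u ≠ u → SameCycle x' u v)
    (hh : x' = h * x * h⁻¹) (u v : Fin n) :
    dist2 (h u).val (h v).val = dist2 u.val v.val := by
  have hS : SameCycle x' (h u) (h v) ↔ SameCycle x u v := by
    rw [hh, sameCycle_conj]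
    simp
  by_cases hs : SameCycle x u v
  · obtain ⟨k, -, rfl⟩ := exists_pow_of_sameCycle hs
    by_cases hk : (x ^ k) u = u
    · rw [hk]
      simp
    have hk0 : k ≠ 0 := by
      rintro rfl
      simp at hk
    obtain ⟨i, m, hm, rfl⟩ := Nat.exists_eq_two_pow_mul_odd hk0
    have h1 := dist_pow_eq hx hfix hcyc u i m hm hk
    have h2 : h ((x ^ (2 ^ i * m)) u) = (x' ^ (2 ^ i * m)) (h u) := by
      rw [hh, conj_pow]
      simp [Perm.mul_apply]
    have h3 : (x' ^ (2 ^ i * m)) (h u) ≠ h u := by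
      rw [← h2]
      exact fun hc => hk (h.injective hc)
    rw [h2, dist_pow_eq hx' hfix' hcyc' (h u) i m hm h3, h1, ex_conj hh]
  · have hs' : ¬ SameCycle x' (h u) (h v) := fun hc => hs (hS.1 hc)
    have hu1 := ex_conj hh u
    have hv1 := ex_conj hh v
    by_cases hab : ex x u ≤ ex x v
    · by_cases hb : 1 ≤ ex x v
      · rw [dist_diff hx hfix hcyc hs hb hab,
          dist_diff hx' hfix' hcyc' hs' (by omega) (by omega), hv1]
      · have hu0 : x u = u := (fixed_iff_ex hx u).2 (by omega)
        have hv0 : x v = v := (fixed_iff_ex hx v).2 (by omega)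
        have huv : u ≠ v := fun hc => hs (by rw [hc])
        have hu0' : x' (h u) = h u := (fixed_iff_ex hx' _).2 (by omega)
        have hv0' : x' (h v) = h v := (fixed_iff_ex hx' _).2 (by omega)
        rw [dist_fixed hx hfix hcyc hu0 hv0 huv,
          dist_fixed hx' hfix' hcyc' hu0' hv0' (fun hc => huv (h.injective hc))]
    · have hs2 : ¬ SameCycle x v u := fun hc => hs hc.symm
      have hs2' : ¬ SameCycle x' (h v) (h u) := fun hc => hs' hc.symm
      rw [dist2_comm (h u).val, dist2_comm u.val,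
        dist_diff hx hfix hcyc hs2 (by omega) (by omega),
        dist_diff hx' hfix' hcyc' hs2' (by omega) (by omega), hu1]

theorem lt_dist_iff (u : Fin n) (j : ℕ) : j < dist2 u.val n ↔ (bl u j).card = 2 ^ j := by
  constructor
  · exact card_bl_of_lt
  · intro h1
    by_contra hc
    have := card_bl_lt_of_le (u := u) (j := j) (by omega)
    omega

theorem mem_Q_of_dist (H : ∀ u v : Fin n, dist2 (h u).val (h v).val = dist2 u.val v.val) :
    h ∈ Q n := by
  refine mem_Q_iff_dist.2 ⟨H, fun u => ?_⟩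
  apply eq_of_forall_lt_iff
  intro j
  rw [lt_dist_iff, lt_dist_iff]
  have : (bl (h u) j).card = (bl u j).card := by
    symm
    apply Finset.card_bij (fun z _ => h z)
    · intro z hz
      rw [mem_bl] at hz ⊢
      rwa [H]
    · intro a _ b _ hab
      exact h.injective hab
    · intro z hz
      refine ⟨h⁻¹ z, ?_, by simp⟩
      rw [mem_bl] at hz ⊢
      have := H u (h⁻¹ z)
      rw [show h (h⁻¹ z) = z by simp] at this
      rwa [← this]
  rw [this]

end Conj

/-! ### From the conditions on the cycle type -/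

theorem hfix_of {y : Perm (Fin n)} (hy : n ≤ y.support.card + 2) (F : Finset (Fin n))
    (hF : ∀ z ∈ F, y z = z) : F.card ≤ 2 := by
  have h1 : F ⊆ y.supportᶜ := by
    intro z hz
    simpa [Perm.mem_support] using hF z hz
  have h2 := Finset.card_le_card h1
  rw [Finset.card_compl, Fintype.card_fin] at h2
  omega

theorem mp_eq_card {y : Perm (Fin n)} {w : Fin n} (hw : y w ≠ w) :
    minimalPeriod y w = (y.cycleOf w).support.card := by
  have hc : IsCycle (y.cycleOf w) := isCycle_cycleOf y hw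
  have hcw : (y.cycleOf w) w ≠ w := by
    rw [cycleOf_apply_self]
    exact hw
  rw [← hc.orderOf]
  apply Nat.dvd_antisymm
  · apply isPeriodicPt_iff_minimalPeriod_dvd.1
    show y^[_] w = w
    rw [iterate_eq_pow, ← cycleOf_pow_apply_self, pow_orderOf_eq_one]
    rfl
  · apply orderOf_dvd_of_pow_eq_one
    rw [hc.pow_eq_one_iff' hcw, cycleOf_pow_apply_self]
    have : y^[minimalPeriod y w] w = w := isPeriodicPt_minimalPeriod y w
    rwa [iterate_eq_pow] at this

theorem hcyc_of {y : Perm (Fin n)} (hy : y.cycleType.Nodup) (u v : Fin n)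
    (h : minimalPeriod y u = minimalPeriod y v) (hu : y u ≠ u) : SameCycle y u v := by
  have hv : y v ≠ v := by
    intro hv
    have h1 : minimalPeriod y v = 1 := minimalPeriod_eq_one_iff_isFixedPt.2 hv
    rw [h1] at h
    exact hu (minimalPeriod_eq_one_iff_isFixedPt.1 h)
  rw [cycleType_def, Multiset.nodup_map_iff_inj_on y.cycleFactorsFinset.nodup] at hy
  have h1 := hy (y.cycleOf u) (Finset.mem_def.1 (cycleOf_mem_cycleFactorsFinset_iff.2 (Perm.mem_support.2 hu)))
    (y.cycleOf v) (Finset.mem_def.1 (cycleOf_mem_cycleFactorsFinset_iff.2 (Perm.mem_support.2 hv)))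
    (by
      simp only [Function.comp]
      rw [← mp_eq_card hu, ← mp_eq_card hv, h])
  have h2 : v ∈ (y.cycleOf u).support := by
    rw [h1, mem_support_cycleOf_iff]
    exact ⟨SameCycle.refl _ _, Perm.mem_support.2 hv⟩
  exact (mem_support_cycleOf_iff.1 h2).1

theorem isP_zpowers {G : Type*} [Group G] [Finite G] (y : G) (k : ℕ) (h : y ^ (2 ^ k) = 1) :
    IsPGroup 2 (Subgroup.zpowers y) := by
  obtain ⟨t, -, ht⟩ := (Nat.dvd_prime_pow Nat.prime_two).1 (orderOf_dvd_of_pow_eq_one h)
  apply IsPGroup.of_card (n := t)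
  rw [Nat.card_zpowers, ht]

theorem conj_mem_Sylow {G : Type*} [Group G] (P : Sylow 2 G) (g x : G) :
    x ∈ (g • P : Sylow 2 G) ↔ g⁻¹ * x * g ∈ (P : Subgroup G) := by
  have : x ∈ (g • P : Sylow 2 G) ↔ x ∈ (MulAut.conj g • (P : Subgroup G)) := Iff.rfl
  rw [this, Subgroup.mem_pointwise_smul_iff_inv_smul_mem]
  simp [MulAut.smul_def]

/-- The direction from the cycle conditions to uniqueness. -/
theorem unique_of_cond (x : Perm (Fin n)) (hk : ∃ k : ℕ, orderOf x = 2 ^ k)
    (h1 : n ≤ x.support.card + 2) (h2 : x.cycleType.Nodup) :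
    ∃! P : Sylow 2 (Perm (Fin n)), x ∈ P := by
  obtain ⟨k, hk⟩ := hk
  have hxp : IsPGroup 2 (Subgroup.zpowers x) :=
    isP_zpowers x k (by rw [← hk]; exact pow_orderOf_eq_one x)
  obtain ⟨P₀, hP₀⟩ := hxp.exists_le_sylow
  refine ⟨P₀, hP₀ (Subgroup.mem_zpowers x), ?_⟩
  obtain ⟨Q₀, hQ₀⟩ := exists_sylow_Q n
  -- any two Sylow subgroups containing `x` coincide
  have key : ∀ g₁ g₂ : Perm (Fin n), x ∈ (g₁ • Q₀ : Sylow 2 _) → x ∈ (g₂ • Q₀ : Sylow 2 _) →
      (g₁ • Q₀ : Sylow 2 _) = g₂ • Q₀ := by
    intro g₁ g₂ hg₁ hg₂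
    rw [conj_mem_Sylow, hQ₀] at hg₁ hg₂
    set x₁ := g₁⁻¹ * x * g₁ with hx₁
    set x₂ := g₂⁻¹ * x * g₂ with hx₂
    have hc₁ : x₁.cycleType = x.cycleType := by
      have := cycleType_conj (σ := x) (τ := g₁⁻¹)
      rwa [inv_inv] at this
    have hc₂ : x₂.cycleType = x.cycleType := by
      have := cycleType_conj (σ := x) (τ := g₂⁻¹)
      rwa [inv_inv] at this
    have hs₁ : x₁.support.card = x.support.card := by
      have := card_support_conj (σ := g₁⁻¹) (τ := x)
      rwa [inv_inv] at this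
    have hs₂ : x₂.support.card = x.support.card := by
      have := card_support_conj (σ := g₂⁻¹) (τ := x)
      rwa [inv_inv] at this
    have hh : x₂ = (g₂⁻¹ * g₁) * x₁ * (g₂⁻¹ * g₁)⁻¹ := by
      rw [hx₁, hx₂]
      group
    have hd := dist_conj hg₁ hg₂ (hfix_of (by omega)) (hcyc_of (by rw [hc₁]; exact h2))
      (hfix_of (by omega)) (hcyc_of (by rw [hc₂]; exact h2)) hh
    have hmem := mem_Q_of_dist hd
    have hg : g₁ = g₂ * (g₂⁻¹ * g₁) := by group
    have hfixQ : ((g₂⁻¹ * g₁) • Q₀ : Sylow 2 _) = Q₀ := by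
      rw [Sylow.smul_eq_iff_mem_normalizer]
      apply Subgroup.le_normalizer
      rw [hQ₀]
      exact hmem
    conv_lhs => rw [hg, mul_smul, hfixQ]
  intro P hP
  obtain ⟨g₁, rfl⟩ := MulAction.exists_smul_eq (Perm (Fin n)) Q₀ P
  obtain ⟨g₂, rfl⟩ := MulAction.exists_smul_eq (Perm (Fin n)) Q₀ P₀
  exact key g₁ g₂ hP (hP₀ (Subgroup.mem_zpowers x))

/-! ### The converse -/

theorem two_swaps_absurd (S : Sylow 2 (Perm (Fin n))) {p q r : Fin n} (hpq : p ≠ q) (hpr : p ≠ r)
    (hqr : q ≠ r) (h1 : swap p q ∈ (S : Subgroup _)) (h2 : swap p r ∈ (S : Subgroup _)) : False := by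
  have h3 := mul_mem h1 h2
  have h4 := (isThreeCycle_swap_mul_swap_same hpq hpr hqr).orderOf
  obtain ⟨t, ht⟩ := (IsPGroup.iff_orderOf.1 S.isPGroup') ⟨_, h3⟩
  rw [Subgroup.orderOf_mk, h4] at ht
  rcases t with _ | t
  · simp at ht
  · rw [pow_succ] at ht
    omega

theorem le_of_unique {x : Perm (Fin n)} {S : Sylow 2 (Perm (Fin n))}
    (hu : ∀ P : Sylow 2 (Perm (Fin n)), x ∈ P → P = S)
    (hxp : IsPGroup 2 (Subgroup.zpowers x)) {K : Subgroup (Perm (Fin n))} (hK : IsPGroup 2 K)
    (hn : Subgroup.zpowers x ≤ Subgroup.normalizer (K : Set (Perm (Fin n)))) : K ≤ S := by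
  have hT := hxp.to_sup_of_normal_right' hK hn
  obtain ⟨P, hP⟩ := hT.exists_le_sylow
  have hxP : x ∈ P := hP (Subgroup.mem_sup_left (Subgroup.mem_zpowers x))
  rw [← hu P hxP]
  exact le_sup_right.trans hP

theorem zpowers_le_normalizer {G : Type*} [Group G] {x s : G} (h : Commute x s) :
    Subgroup.zpowers x ≤ Subgroup.normalizer ((Subgroup.zpowers s : Subgroup G) : Set G) := by
  rw [Subgroup.zpowers_le, Subgroup.mem_normalizer_iff]
  intro t
  constructor
  · rintro ⟨i, rfl⟩
    have : Commute x (s ^ i) := h.zpow_right i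
    have h2 : x * s ^ i * x⁻¹ = s ^ i := by
      rw [this.eq, mul_assoc, mul_inv_cancel, mul_one]
    simp only [] at *
    rw [h2]
    exact ⟨i, rfl⟩
  · rintro ⟨i, hi⟩
    have : Commute x (s ^ i) := h.zpow_right i
    have h2 : x * t * x⁻¹ = s ^ i := hi.symm
    have h3 : t = x⁻¹ * (s ^ i) * x := by
      rw [← h2]
      group
    have h4 : x⁻¹ * s ^ i * x = s ^ i := by
      rw [mul_assoc, this.symm.eq, ← mul_assoc, inv_mul_cancel, one_mul]
    rw [h3, h4]
    exact ⟨i, rfl⟩

/-- The elements moving every point at most through `σ`. -/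
def involGroup (σ : Perm (Fin n)) (hσ : ∀ z, σ (σ z) = z) : Subgroup (Perm (Fin n)) where
  carrier := {g | ∀ z, g z = z ∨ g z = σ z}
  one_mem' := fun z => Or.inl rfl
  mul_mem' := by
    intro a b ha hb z
    rw [Perm.mul_apply]
    rcases hb z with h | h
    · rw [h]
      exact ha z
    · rw [h]
      rcases ha (σ z) with h2 | h2
      · exact Or.inr h2
      · exact Or.inl (h2.trans (hσ z))
  inv_mem' := by
    intro a ha z
    rcases ha (a⁻¹ z) with h | h
    · left
      have h2 : a (a⁻¹ z) = z := by simp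
      rw [h2] at h
      exact h.symm
    · right
      have h2 : a (a⁻¹ z) = z := by simp
      rw [h2] at h
      have h3 : σ z = a⁻¹ z := by
        conv_lhs => rw [h]
        exact hσ _
      exact h3.symm

theorem involGroup_isP (σ : Perm (Fin n)) (hσ : ∀ z, σ (σ z) = z) :
    IsPGroup 2 (involGroup σ hσ) := by
  intro g
  refine ⟨1, Subtype.ext (Equiv.ext fun z => ?_)⟩
  have hg := g.2
  show ((g : Perm (Fin n)) ^ 2 ^ 1) z = z
  rw [pow_one, pow_two, Perm.mul_apply]
  rcases hg z with h | h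
  · rw [h, h]
  · rw [h]
    rcases hg (σ z) with h2 | h2
    · have h3 : (g : Perm (Fin n)) z = (g : Perm (Fin n)) (σ z) := by rw [h, h2]
      have h4 := (g : Perm (Fin n)).injective h3
      rw [h2, ← h4]
    · rw [h2, hσ]

theorem involGroup_norm (σ : Perm (Fin n)) (hσ : ∀ z, σ (σ z) = z) {x : Perm (Fin n)}
    (hc : Commute x σ) :
    Subgroup.zpowers x ≤ Subgroup.normalizer ((involGroup σ hσ : Subgroup _) : Set (Perm (Fin n))) := by
  have key : ∀ y : Perm (Fin n), Commute y σ → ∀ g ∈ involGroup σ hσ,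
      y * g * y⁻¹ ∈ involGroup σ hσ := by
    intro y hy g hg z
    simp only [Perm.mul_apply]
    rcases hg (y⁻¹ z) with h | h
    · left
      rw [h]
      simp
    · right
      rw [h]
      have h2 : y (σ (y⁻¹ z)) = σ (y (y⁻¹ z)) := by
        have := congrArg (fun f : Perm (Fin n) => f (y⁻¹ z)) hy.eq
        simpa [Perm.mul_apply] using this
      rw [h2]
      simp
  rw [Subgroup.zpowers_le, Subgroup.mem_normalizer_iff]
  intro g
  constructor
  · exact key x hc g
  · intro hg
    have := key x⁻¹ hc.inv_left _ hg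
    have h2 : x⁻¹ * (x * g * x⁻¹) * x⁻¹⁻¹ = g := by group
    rwa [h2] at this

theorem cond_of_unique (x : Perm (Fin n)) (hk : ∃ k : ℕ, orderOf x = 2 ^ k)
    (hu : ∃! P : Sylow 2 (Perm (Fin n)), x ∈ P) :
    n ≤ x.support.card + 2 ∧ x.cycleType.Nodup := by
  classical
  obtain ⟨k, hk⟩ := hk
  have hxk : x ^ (2 ^ k) = 1 := by rw [← hk]; exact pow_orderOf_eq_one x
  have hxp : IsPGroup 2 (Subgroup.zpowers x) := isP_zpowers x k hxk
  obtain ⟨S, hxS, huS⟩ := hu
  constructor
  · by_contra hc
    have h1 : 2 < (x.supportᶜ).card := by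
      rw [Finset.card_compl, Fintype.card_fin]
      omega
    obtain ⟨p, hp, q, hq, r, hr, hpq, hpr, hqr⟩ := Finset.two_lt_card.1 h1
    have hfx : ∀ z ∈ x.supportᶜ, x z = z := by
      intro z hz
      simpa [Perm.mem_support] using hz
    have hcomm : ∀ a b : Fin n, a ∈ x.supportᶜ → b ∈ x.supportᶜ → Commute x (swap a b) := by
      intro a b ha hb
      have := Equiv.swap_apply_apply x a b
      rw [hfx a ha, hfx b hb] at this
      exact (eq_mul_inv_iff_mul_eq.1 this).symm
    have hP : ∀ a b : Fin n, a ∈ x.supportᶜ → b ∈ x.supportᶜ →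
        swap a b ∈ (S : Subgroup (Perm (Fin n))) := by
      intro a b ha hb
      have h2 : IsPGroup 2 (Subgroup.zpowers (swap a b)) :=
        isP_zpowers _ 1 (by simp [pow_two])
      exact le_of_unique huS hxp h2 (zpowers_le_normalizer (hcomm a b ha hb))
        (Subgroup.mem_zpowers _)
    exact two_swaps_absurd S hpq hpr hqr (hP p q hp hq) (hP p r hp hr)
  · by_contra hc
    rw [cycleType_def, Multiset.nodup_map_iff_inj_on x.cycleFactorsFinset.nodup] at hc
    push Not at hc
    obtain ⟨c₁, hc₁, c₂, hc₂, hcard, hne⟩ := hc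
    simp only [Function.comp] at hcard
    have hc₁' : c₁ ∈ x.cycleFactorsFinset := hc₁
    have hc₂' : c₂ ∈ x.cycleFactorsFinset := hc₂
    obtain ⟨hcy₁, hag₁⟩ := mem_cycleFactorsFinset_iff.1 hc₁'
    obtain ⟨hcy₂, hag₂⟩ := mem_cycleFactorsFinset_iff.1 hc₂'
    have hdis : Disjoint c₁ c₂ := cycleFactorsFinset_pairwise_disjoint x hc₁' hc₂' hne
    obtain ⟨a, ha, -⟩ := id hcy₁
    obtain ⟨b, hb, -⟩ := id hcy₂
    have hd₁ : ∀ z, c₁ z ≠ z → c₂ z = z := by
      intro z hz
      rcases hdis z with h | h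
      · exact absurd h hz
      · exact h
    have hd₂ : ∀ z, c₂ z ≠ z → c₁ z = z := by
      intro z hz
      rcases hdis z with h | h
      · exact h
      · exact absurd h hz
    have hab : a ≠ b := by
      rintro rfl
      exact hb (hd₁ a ha)
    obtain ⟨g₀, hg₀⟩ := isConj_iff.1 (hcy₁.isConj hcy₂ hcard)
    have hg₀a : c₂ (g₀ a) ≠ g₀ a := by
      rw [← hg₀]
      simpa [Perm.mul_apply] using ha
    obtain ⟨i, hi⟩ := hcy₂.sameCycle hg₀a hb
    set g := c₂ ^ i * g₀ with hg
    have hgc : g * c₁ * g⁻¹ = c₂ := by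
      rw [hg]
      calc c₂ ^ i * g₀ * c₁ * (c₂ ^ i * g₀)⁻¹ = c₂ ^ i * (g₀ * c₁ * g₀⁻¹) * (c₂ ^ i)⁻¹ := by group
        _ = c₂ := by
          rw [hg₀]
          have : Commute (c₂ ^ i) c₂ := (Commute.refl c₂).zpow_left i
          rw [this.eq, mul_assoc, mul_inv_cancel, mul_one]
    have hga : g a = b := by
      rw [hg, Perm.mul_apply]
      exact hi
    have hgcz : ∀ z, g (c₁ z) = c₂ (g z) := by
      intro z
      rw [← hgc]
      simp [Perm.mul_apply]
    have hgcz' : ∀ z, g⁻¹ (c₂ z) = c₁ (g⁻¹ z) := by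
      intro z
      rw [← hgc]
      simp [Perm.mul_apply]
    have hA : ∀ z, c₁ z ≠ z → c₂ (g z) ≠ g z := by
      intro z hz
      rw [← hgcz]
      exact fun hc => hz (g.injective hc)
    have hB : ∀ z, c₂ z ≠ z → c₁ (g⁻¹ z) ≠ g⁻¹ z := by
      intro z hz
      rw [← hgcz']
      exact fun hc => hz (g⁻¹.injective hc)
    -- the exchange of the two cycles
    let σf : Fin n → Fin n := fun z =>
      if c₁ z ≠ z then g z else if c₂ z ≠ z then g⁻¹ z else z
    have hσA : ∀ z, c₁ z ≠ z → σf z = g z := fun z hz => if_pos hz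
    have hσB : ∀ z, c₁ z = z → c₂ z ≠ z → σf z = g⁻¹ z := by
      intro z h1 h2
      simp only [σf]
      rw [if_neg (not_not.2 h1), if_pos h2]
    have hσC : ∀ z, c₁ z = z → c₂ z = z → σf z = z := by
      intro z h1 h2
      simp only [σf]
      rw [if_neg (not_not.2 h1), if_neg (not_not.2 h2)]
    have hinv : ∀ z, σf (σf z) = z := by
      intro z
      by_cases h1 : c₁ z ≠ z
      · rw [hσA z h1, hσB _ (hd₂ _ (hA z h1)) (hA z h1)]
        simp
      · have h1' : c₁ z = z := not_not.1 h1
        by_cases h2 : c₂ z ≠ z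
        · rw [hσB z h1' h2, hσA _ (hB z h2)]
          simp
        · rw [hσC z h1' (not_not.1 h2), hσC z h1' (not_not.1 h2)]
    let σ : Perm (Fin n) := Function.Involutive.toPerm σf hinv
    have hσ : ∀ z, σ (σ z) = z := hinv
    have hσz : ∀ z, σ z = σf z := fun z => rfl
    have hcomm₁ : Commute c₁ x := self_mem_cycle_factors_commute hc₁'
    have hcomm₂ : Commute c₂ x := self_mem_cycle_factors_commute hc₂'
    have hxσ : Commute x σ := by
      apply Equiv.ext
      intro z
      rw [Perm.mul_apply, Perm.mul_apply, hσz, hσz]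
      by_cases h1 : c₁ z ≠ z
      · have hxz : x z = c₁ z := (hag₁ z (Perm.mem_support.2 h1)).symm
        have h3 : c₁ (x z) ≠ x z := by
          rw [hxz]
          exact fun hc => h1 (c₁.injective hc)
        rw [hσA z h1, hσA _ h3, hxz, hgcz]
        exact (hag₂ _ (Perm.mem_support.2 (hA z h1))).symm
      · have h1' : c₁ z = z := not_not.1 h1
        by_cases h2 : c₂ z ≠ z
        · have hxz : x z = c₂ z := (hag₂ z (Perm.mem_support.2 h2)).symm
          have h3 : c₂ (x z) ≠ x z := by
            rw [hxz]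
            exact fun hc => h2 (c₂.injective hc)
          rw [hσB z h1' h2, hσB _ (hd₂ _ h3) h3, hxz, hgcz']
          exact (hag₁ _ (Perm.mem_support.2 (hB z h2))).symm
        · have h2' : c₂ z = z := not_not.1 h2
          have h3 : c₁ (x z) = x z := by
            have := congrArg (fun f : Perm (Fin n) => f z) hcomm₁.eq
            simp only [Perm.mul_apply] at this
            rw [this, h1']
          have h4 : c₂ (x z) = x z := by
            have := congrArg (fun f : Perm (Fin n) => f z) hcomm₂.eq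
            simp only [Perm.mul_apply] at this
            rw [this, h2']
          rw [hσC z h1' h2', hσC _ h3 h4]
    have hσa : σ a = b := by
      rw [hσz, hσA a ha, hga]
    have hσb : σ b = a := by
      rw [← hσa, hσ]
    have hvE : swap a b ∈ involGroup σ hσ := by
      intro z
      by_cases h1 : z = a
      · right
        rw [h1, swap_apply_left, hσa]
      by_cases h2 : z = b
      · right
        rw [h2, swap_apply_right, hσb]
      left
      exact swap_apply_of_ne_of_ne h1 h2
    have hvS : swap a b ∈ (S : Subgroup (Perm (Fin n))) :=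
      le_of_unique huS hxp (involGroup_isP σ hσ) (involGroup_norm σ hσ hxσ) hvE
    have hc₁eq : c₁ = x.cycleOf a := cycle_is_cycleOf (Perm.mem_support.2 ha) hc₁'
    have hc₁k : c₁ ^ (2 ^ k) = 1 := by
      rw [← orderOf_dvd_iff_pow_eq_one, ← hk, hc₁eq]
      exact orderOf_cycleOf_dvd_orderOf x a
    have hc₁S : c₁ ∈ (S : Subgroup (Perm (Fin n))) :=
      le_of_unique huS hxp (isP_zpowers c₁ k hc₁k) (zpowers_le_normalizer hcomm₁.symm)
        (Subgroup.mem_zpowers _)
    have hconj : swap (c₁⁻¹ a) (c₁⁻¹ b) ∈ (S : Subgroup (Perm (Fin n))) := by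
      rw [Equiv.swap_apply_apply]
      exact mul_mem (mul_mem (inv_mem hc₁S) hvS) (inv_mem (inv_mem hc₁S))
    have hb1 : c₁ b = b := hd₂ b hb
    have hb2 : c₁⁻¹ b = b := by
      rw [Perm.inv_eq_iff_eq]
      exact hb1.symm
    rw [hb2] at hconj
    have ha1 : c₁⁻¹ a ≠ a := by
      intro hc
      rw [Perm.inv_eq_iff_eq] at hc
      exact ha hc.symm
    have ha2 : b ≠ c₁⁻¹ a := by
      intro hc
      apply hab
      have : c₁ b = a := by
        rw [hc]
        simp
      rw [← this, hb1]
    have hv2 : swap b a ∈ (S : Subgroup (Perm (Fin n))) := by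
      rw [swap_comm]
      exact hvS
    have hv3 : swap b (c₁⁻¹ a) ∈ (S : Subgroup (Perm (Fin n))) := by
      rw [swap_comm]
      exact hconj
    exact two_swaps_absurd S hab.symm ha2 ha1.symm hv2 hv3

theorem main_thm (n : ℕ) (x : Perm (Fin n)) (hx : ∃ k : ℕ, orderOf x = 2 ^ k) :
    (∃! P : Sylow 2 (Perm (Fin n)), x ∈ P) ↔ (n ≤ x.support.card + 2 ∧ x.cycleType.Nodup) :=
  ⟨cond_of_unique x hx, fun h => unique_of_cond x hx h.1 h.2⟩

end Helpers


/-- Let n ≥ 2 and let x be an element of 2-power order of the symmetric group of degree n. Then x lies in exactly one Sylow 2-subgroup if and only if x has at most two fixed points and the nontrivial cycles of x have pairwise different lengths. -/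
theorem result (n : ℕ) (hn : 2 ≤ n)
    (x : Equiv.Perm (Fin n)) (hx : ∃ k : ℕ, orderOf x = 2 ^ k) :
    (∃! P : Sylow 2 (Equiv.Perm (Fin n)), x ∈ P) ↔ (n ≤ x.support.card + 2 ∧ x.cycleType.Nodup) := by
  exact main_thm n x hx

end Cfsg.Agent.S4349
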