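import Mathlib
import Cfsg.Statements.S4394
import Cfsg.Agent.Lib.SchmidtP
import Cfsg.Agent.Lib.SchmidtAct
import Cfsg.Agent.Lib.HHB5
import Cfsg.Agent.Lib.PLengthSeries
import Cfsg.Agent.Lib.LocalTools

set_option autoImplicit false
set_option linter.unusedSectionVars false
set_option linter.unusedVariables false
set_option linter.style.haveILetI false
open Cfsg

namespace Cfsg.Agent.S4394

open scoped commutatorElement
open Cfsg.Agent.Lib.SchmidtP Cfsg.Agent.Lib.SchmidtAct Cfsg.Agent.Lib.PCore Cfsg.Agent.Lib.PSolv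
  Cfsg.Agent.Lib.FrattAct Cfsg.Agent.Lib.PLengthSeries

universe u

/-- The Hall--Higman bound for quadratic elements, additive form. -/
theorem le_three_add {N : Type*} [AddCommGroup N] {p : ℕ} [hp : Fact p.Prime] [Module (ZMod p) N] [Finite N]
    {H : Type*} [Group H] [Finite H] (hsol : IsPSolvable p H) (hOp : pCore p H = ⊥)
    (ψ : H →* AddMonoid.End N) (hψ : Function.Injective ψ) (x : H) (hx1 : x ≠ 1) (hxp : x ^ p = 1)
    (hq : ∀ m, ψ x (ψ x m - m) = ψ x m - m) : p ≤ 3 := by
  have hpp : p.Prime := hp.out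
  have hfd : FiniteDimensional (ZMod p) N := Module.Finite.of_finite
  let toE : AddMonoid.End N →* Module.End (ZMod p) N :=
    { toFun := fun a => AddMonoidHom.toZModLinearMap p (a : N →+ N)
      map_one' := by
        ext v
        rfl
      map_mul' := by
        intro a b
        ext v
        rfl }
  have htoE : ∀ (a : AddMonoid.End N) (v : N), toE a v = a v := fun _ _ => rfl
  have hinj : Function.Injective toE := by
    intro a b hab
    ext v
    have h3 := LinearMap.congr_fun hab v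
    simpa only [htoE] using h3
  have hnt : Nontrivial N := by
    by_contra hcon
    rw [not_nontrivial_iff_subsingleton] at hcon
    apply hx1
    apply hψ
    rw [map_one]
    ext v
    exact Subsingleton.elim _ _
  have hc := Cfsg.Agent.Lib.HHB5.concl_of_rep (F := ZMod p) hsol hOp (toE.comp ψ) (hinj.comp hψ) x 0
    (by simpa using hxp) (by simpa using hx1)
  have hsq : ((toE.comp ψ) x - 1) ^ 2 = 0 := by
    ext m
    rw [pow_two]
    show (toE (ψ x) - 1) ((toE (ψ x) - 1) m) = 0
    have e : ∀ w : N, (toE (ψ x) - 1) w = ψ x w - w := fun w => rfl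
    rw [e, e, hq, sub_self]
  rcases hc with hc | ⟨n₀, q, m, h1, h2, h3, h4, h5, -, h6⟩
  · have := hc 2 hsq
    simp only [zero_add, pow_one] at this
    omega
  · have hn₀ : n₀ = 1 := by omega
    subst hn₀
    have := h6 2 hsq
    simp only [zero_add, pow_one, Nat.sub_self, pow_zero, one_mul] at this
    omega

/-- The Hall--Higman bound for quadratic elements, multiplicative form. -/
theorem le_three_of_quadratic {M : Type*} [hM : Group M] [Finite M] (hcomm : ∀ a b : M, a * b = b * a) {p : ℕ}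
    [hp : Fact p.Prime] (hexp : ∀ a : M, a ^ p = 1)
    {H : Type*} [Group H] [Finite H] (hsol : IsPSolvable p H) (hOp : pCore p H = ⊥)
    (ψ : H →* MulAut M) (hψ : Function.Injective ψ) (x : H) (hx1 : x ≠ 1) (hxp : x ^ p = 1)
    (hq : ∀ m, ψ x (ψ x m * m⁻¹) = ψ x m * m⁻¹) : p ≤ 3 := by
  letI iM : CommGroup M := { hM with mul_comm := hcomm }
  have hexp' : ∀ x : Additive M, p • x = 0 := by
    intro x
    have h3 : p • x = Additive.ofMul ((Additive.toMul x) ^ p) := rfl
    rw [h3, hexp]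
    rfl
  letI iMod : Module (ZMod p) (Additive M) := AddCommGroup.zmodModule hexp'
  have hfin : Finite (Additive M) := inferInstanceAs (Finite M)
  let ψ' : H →* AddMonoid.End (Additive M) :=
    { toFun := fun y => MonoidHom.toAdditive ((ψ y : M ≃* M) : M →* M)
      map_one' := by
        ext v
        show Additive.ofMul (ψ 1 (Additive.toMul (Additive.ofMul v))) = Additive.ofMul v
        rw [map_one]
        rfl
      map_mul' := by
        intro a a'
        ext v
        show Additive.ofMul (ψ (a * a') (Additive.toMul (Additive.ofMul v))) =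
          Additive.ofMul (ψ a (ψ a' (Additive.toMul (Additive.ofMul v))))
        rw [map_mul]
        rfl }
  have hψ'app : ∀ (y : H) (m : M), ψ' y (Additive.ofMul m) = Additive.ofMul (ψ y m) := fun _ _ => rfl
  have hψ'inj : Function.Injective ψ' := by
    intro a a' haa
    apply hψ
    ext v
    have h3 : ψ' a (Additive.ofMul v) = ψ' a' (Additive.ofMul v) := by rw [haa]
    exact Additive.ofMul.injective h3
  refine @le_three_add (Additive M) _ p hp iMod hfin H _ _ hsol hOp ψ' hψ'inj x hx1 hxp ?_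
  intro m
  have h1 : ψ' x m - m = Additive.ofMul (ψ x (Additive.toMul m) * (Additive.toMul m)⁻¹) := by
    rw [sub_eq_add_neg]
    rfl
  rw [h1]
  show Additive.ofMul (ψ x (ψ x (Additive.toMul m) * (Additive.toMul m)⁻¹)) = _
  rw [hq]

/-- Commuting of coprime elements of a nilpotent group. -/
theorem commute_of_nilpotent {E : Type*} [Group E] [Finite E] [Group.IsNilpotent E] {m n : ℕ}
    (hcop : Nat.Coprime m n) {a b : E} (ha : a ^ m = 1) (hb : b ^ n = 1) : a * b = b * a := by
  classical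
  obtain ⟨e⟩ := (Group.isNilpotent_of_finite_tfae (G := E)).out 0 4 |>.mp ‹_›
  have hcomp : ∀ (c : E) (t : ℕ) (r : (Nat.card E).primeFactors) (P : Sylow r E), c ^ t = 1 →
      ((e.symm c) r P) ^ t = 1 := by
    intro c t r P hc
    have h1 : (e.symm c) ^ t = 1 := by rw [← map_pow, hc, map_one]
    have h2 := congrFun (congrFun h1 r) P
    simpa using h2
  have hzero : ∀ (c : E) (t : ℕ) (r : (Nat.card E).primeFactors) (P : Sylow r E), c ^ t = 1 →
      ¬ (r : ℕ) ∣ t → (e.symm c) r P = 1 := by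
    intro c t r P hc hrt
    haveI hrr : Fact (r : ℕ).Prime := ⟨Nat.prime_of_mem_primeFactors r.2⟩
    have h1 := hcomp c t r P hc
    obtain ⟨s, hs⟩ := P.isPGroup' ((e.symm c) r P)
    have h3 : Nat.Coprime (r ^ s) t :=
      Nat.Coprime.pow_left s ((Nat.Prime.coprime_iff_not_dvd hrr.out).mpr hrt)
    have h4 : orderOf ((e.symm c) r P) = 1 := Nat.eq_one_of_dvd_coprimes h3 (orderOf_dvd_of_pow_eq_one hs)
      (orderOf_dvd_of_pow_eq_one h1)
    exact orderOf_eq_one_iff.1 h4
  apply e.symm.injective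
  rw [map_mul, map_mul]
  funext r P
  show (e.symm a) r P * (e.symm b) r P = (e.symm b) r P * (e.symm a) r P
  by_cases hrm : (r : ℕ) ∣ m
  · have hrn : ¬ (r : ℕ) ∣ n := by
      intro hrn
      have hrr : (r : ℕ).Prime := Nat.prime_of_mem_primeFactors r.2
      have := Nat.dvd_gcd hrm hrn
      rw [hcop] at this
      exact hrr.one_lt.ne' (Nat.dvd_one.1 this)
    rw [hzero b n r P hb hrn, mul_one, one_mul]
  · rw [hzero a m r P ha hrm, mul_one, one_mul]

/-- The main step: the Sylow subgroup lies in `O_p(G)`. -/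
theorem sylow_le_core {G : Type*} [Group G] [Finite G] {p q : ℕ} [hp : Fact p.Prime]
    (hsol : IsPSolvable p G) (hcore : pPrimeCore p G = ⊥) (S : Sylow p G) {τ : MulAut (S : Subgroup G)}
    (hd : Data p q τ) : (S : Subgroup G) ≤ pCore p G := by
  classical
  have hpp := hp.out
  by_contra hnot
  obtain ⟨x, hxS, hxR⟩ := SetLike.not_le_iff_exists.1 hnot
  have hRS : pCore p G ≤ (S : Subgroup G) := pCore_le_sylow p S
  have hcent : Subgroup.centralizer (pCore p G : Set G) ≤ pCore p G := centralizer_pCore_le_of_pSolvable hsol hcore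
  have hc := hd.comm_mem_center
  have hna : Subgroup.center (S : Subgroup G) ≠ ⊤ := by
    intro h0
    apply hxR
    apply hcent
    rw [Subgroup.mem_centralizer_iff]
    intro r hr
    have h1 : (⟨x, hxS⟩ : (S : Subgroup G)) ∈ Subgroup.center (S : Subgroup G) := by
      rw [h0]
      trivial
    exact congrArg Subtype.val (Subgroup.mem_center_iff.1 h1 ⟨r, hRS hr⟩)
  have hZR : ∀ u : (S : Subgroup G), u ∈ Subgroup.center (S : Subgroup G) → (u : G) ∈ pCore p G := by
    intro u hu
    apply hcent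
    rw [Subgroup.mem_centralizer_iff]
    intro r hr
    exact congrArg Subtype.val (Subgroup.mem_center_iff.1 hu ⟨r, hRS hr⟩)
  let inc : pCore p G →* (S : Subgroup G) := Subgroup.inclusion hRS
  have hinc : ∀ r, ((inc r : (S : Subgroup G)) : G) = (r : G) := fun _ => rfl
  let mkV : pCore p G →* pCore p G ⧸ frattini (pCore p G) := QuotientGroup.mk' (frattini (pCore p G))
  have hmkV : Function.Surjective mkV := QuotientGroup.mk'_surjective _
  have hmk : ∀ r, mkV r = (r : pCore p G ⧸ frattini (pCore p G)) := fun _ => rfl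
  let ZR : Subgroup (pCore p G) := (Subgroup.center (S : Subgroup G)).comap inc
  have hZRmem : ∀ r, r ∈ ZR ↔ inc r ∈ Subgroup.center (S : Subgroup G) := fun _ => Iff.rfl
  let Zb : Subgroup (pCore p G ⧸ frattini (pCore p G)) := ZR.map mkV
  -- the commutator formula
  have hcom : ∀ (s : (S : Subgroup G)) (r : pCore p G),
      psi p G (s : G) (mkV r) * (mkV r)⁻¹ = mkV (MulAut.conjNormal (s : G) r * r⁻¹) := by
    intro s r
    rw [map_mul, map_inv]
    rfl
  have hcom2 : ∀ (s : (S : Subgroup G)) (r : pCore p G), inc (MulAut.conjNormal (s : G) r * r⁻¹) = ⁅s, inc r⁆ := by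
    intro s r
    apply Subtype.ext
    simp [hinc, commutatorElement_def, MulAut.conjNormal_apply]
  have hcomZ : ∀ (s : (S : Subgroup G)) (r : pCore p G), MulAut.conjNormal (s : G) r * r⁻¹ ∈ ZR := by
    intro s r
    rw [hZRmem, hcom2]
    exact hc _ _
  let π := QuotientGroup.mk' (pCore p G)
  have hπ : ∀ y, π y = (y : G ⧸ pCore p G) := fun _ => rfl
  let A : Subgroup (G ⧸ pCore p G) := (S : Subgroup G).map π
  have hAmem : ∀ a ∈ A, ∃ s : (S : Subgroup G), a = π (s : G) := by
    rintro _ ⟨s, hs, rfl⟩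
    exact ⟨⟨s, hs⟩, rfl⟩
  have hρ : ∀ y, psiBar (π y) = psi p G y := fun _ => rfl
  have hinto : ∀ (s : (S : Subgroup G)) v, psi p G (s : G) v * v⁻¹ ∈ Zb := by
    intro s v
    obtain ⟨r, rfl⟩ := hmkV v
    rw [hcom]
    exact ⟨_, hcomZ s r, rfl⟩
  have hfixed : ∀ (s : (S : Subgroup G)), ∀ z ∈ Zb, psi p G (s : G) z = z := by
    rintro s _ ⟨z, hz, rfl⟩
    have h1 : MulAut.conjNormal (s : G) z = z := by
      apply Subtype.ext
      have h2 := Subgroup.mem_center_iff.1 ((hZRmem z).1 hz) s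
      have h3 : (s : G) * (z : G) = (z : G) * (s : G) := congrArg Subtype.val h2
      rw [MulAut.conjNormal_apply, h3]
      group
    show psi p G (s : G) (z : pCore p G ⧸ frattini (pCore p G)) = _
    rw [psi_mk, h1]
    rfl
  have hπx : π x ≠ 1 := fun h0 => hxR ((QuotientGroup.eq_one_iff _).1 h0)
  have hAct : Act p (psiBar (p := p) (G := G)) A Zb := by
    refine ⟨V_comm, V_exp, psiBar_injective hsol hcore, ?_, ?_, ?_, ?_, ?_, ?_⟩
    · intro a ha z hz
      obtain ⟨s, rfl⟩ := hAmem a ha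
      rw [hρ]
      exact hfixed s z hz
    · intro a ha v
      obtain ⟨s, rfl⟩ := hAmem a ha
      rw [hρ]
      exact hinto s v
    · intro h0
      apply hxR
      apply ker_psi_le hsol hcore
      rw [MonoidHom.mem_ker]
      ext v
      have h1 := hinto ⟨x, hxS⟩ v
      rw [h0, Subgroup.mem_bot] at h1
      exact mul_inv_eq_one.1 h1
    · -- (S3)
      intro Z₁ hZ₁ hne v hv
      by_contra hvZ
      obtain ⟨w, rfl⟩ := hmkV v
      have hw : inc w ∉ Subgroup.center (S : Subgroup G) := fun h0 => hvZ ⟨w, h0, rfl⟩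
      let Z₀ : Subgroup (S : Subgroup G) := Subgroup.center (S : Subgroup G) ⊓ (Z₁.comap mkV).map inc
      have hZ₀ne : Z₀ ≠ Subgroup.center (S : Subgroup G) := by
        intro h0
        apply hne
        refine le_antisymm hZ₁ ?_
        rintro _ ⟨z, hz, rfl⟩
        have h1 : inc z ∈ Z₀ := by
          rw [h0]
          exact hz
        obtain ⟨r, hr, hre⟩ := h1.2
        have h2 : r = z := Subtype.ext (congrArg (fun t : (S : Subgroup G) => (t : G)) hre)
        rw [← h2]
        exact hr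
      obtain ⟨s, hs⟩ := hd.S3 hna hw (inf_le_left : Z₀ ≤ _) hZ₀ne
      apply hs
      have h1 : ⁅s, inc w⁆ ∈ Z₀ := by
        refine ⟨hc _ _, ?_⟩
        refine ⟨MulAut.conjNormal (s : G) w * w⁻¹, ?_, hcom2 s w⟩
        show mkV _ ∈ Z₁
        rw [← hcom]
        have h2 := hv (π (s : G)) ⟨s, s.2, rfl⟩
        rw [hρ] at h2
        exact h2
      have h2 := Z₀.inv_mem h1
      rwa [commutatorElement_inv] at h2
    · intro a ha b hb
      obtain ⟨s, rfl⟩ := hAmem a ha
      obtain ⟨t, rfl⟩ := hAmem b hb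
      rw [← map_mul, ← map_mul]
      have h1 : (s : G) * (t : G) = ⁅(s : G), (t : G)⁆ * ((t : G) * (s : G)) := by
        rw [commutatorElement_def]
        group
      rw [h1, map_mul]
      have h2 : π ⁅(s : G), (t : G)⁆ = 1 := by
        apply (QuotientGroup.eq_one_iff _).2
        exact hZR ⁅s, t⁆ (hc s t)
      rw [h2, one_mul]
    · intro a ha
      obtain ⟨s, rfl⟩ := hAmem a ha
      rw [← map_pow]
      apply (QuotientGroup.eq_one_iff _).2
      exact hZR (s ^ p) (hd.pow_mem_center s)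
  let x' : (S : Subgroup G) := ⟨x, hxS⟩
  have hax : π x ∈ A := ⟨x, hxS, rfl⟩
  have hsolH : IsPSolvable p (G ⧸ pCore p G) := isPSolvable_quotient hsol _
  have hOpH : pCore p (G ⧸ pCore p G) = ⊥ := pCore_quotient_pCore p
  have hple : p ≤ 3 := le_three_of_quadratic V_comm V_exp hsolH hOpH psiBar (psiBar_injective hsol hcore) (π x) hπx
    (hAct.Aexp _ hax) (fun m => hAct.fixed _ hax _ (hAct.into _ hax m))
  obtain ⟨rb, hrb⟩ := hAct.exists_not_mem hax hπx
  obtain ⟨r₀, rfl⟩ := hmkV rb
  have hgenV := hAct.exists_gen hsolH hOpH hax hπx hrb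
  have hZRcent : ∀ z ∈ ZR, ∀ g : pCore p G, g * z = z * g := by
    intro z hz g
    exact Subtype.ext (congrArg (fun t : (S : Subgroup G) => (t : G))
      (Subgroup.mem_center_iff.1 ((hZRmem z).1 hz) (inc g)))
  haveI hZRn : ZR.Normal := ⟨fun n hn g => by
    rw [hZRcent n hn g, mul_inv_cancel_right]
    exact hn⟩
  have hL : (Subgroup.zpowers r₀ ⊔ ZR) ⊔ frattini (pCore p G) = ⊤ := by
    rw [eq_top_iff]
    intro w _
    obtain ⟨k, z, hz, hze⟩ := hgenV (mkV w)
    have h1 : z⁻¹ * (w * (r₀ ^ k)⁻¹) ∈ frattini (pCore p G) := by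
      have h2 : mkV z = mkV (w * (r₀ ^ k)⁻¹) := by rw [hze, map_mul, map_inv, map_pow]
      exact QuotientGroup.eq.1 h2
    have e : w = z * (z⁻¹ * (w * (r₀ ^ k)⁻¹)) * r₀ ^ k := by group
    rw [e]
    exact Subgroup.mul_mem _ (Subgroup.mul_mem _ (Subgroup.mem_sup_left (Subgroup.mem_sup_right hz))
      (Subgroup.mem_sup_right h1))
      (Subgroup.mem_sup_left (Subgroup.mem_sup_left (Subgroup.pow_mem _ (Subgroup.mem_zpowers r₀) k)))
  have hLtop := frattini_nongenerating hL
  have hw : ∀ w : pCore p G, ∃ j : ℕ, ∃ z ∈ ZR, w = r₀ ^ j * z := by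
    intro w
    have h1 : w ∈ Subgroup.zpowers r₀ ⊔ ZR := by
      rw [hLtop]
      trivial
    rw [Subgroup.mem_sup_of_normal_right] at h1
    obtain ⟨y, hy, z, hz, rfl⟩ := h1
    rw [← mem_powers_iff_mem_zpowers] at hy
    obtain ⟨j, rfl⟩ := hy
    exact ⟨j, z, hz, rfl⟩
  have hgenS : ∀ s : (S : Subgroup G), ∃ i j : ℕ, ∃ z ∈ Subgroup.center (S : Subgroup G),
      s = x' ^ i * (inc r₀) ^ j * z := by
    intro s
    obtain ⟨i, hi⟩ := hAct.exists_pow hsolH hOpH hax hπx (b := π (s : G)) ⟨s, s.2, rfl⟩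
    have h1 : (x ^ i)⁻¹ * (s : G) ∈ pCore p G := by
      rw [← QuotientGroup.eq_one_iff]
      show π ((x ^ i)⁻¹ * (s : G)) = 1
      rw [map_mul, map_inv, map_pow, hi, inv_mul_cancel]
    obtain ⟨j, z, hz, hwe⟩ := hw ⟨_, h1⟩
    refine ⟨i, j, inc z, hz, ?_⟩
    apply Subtype.ext
    have h2 : (x ^ i)⁻¹ * (s : G) = (r₀ : G) ^ j * (z : G) := by
      simpa using congrArg Subtype.val hwe
    show (s : G) = x ^ i * (r₀ : G) ^ j * (z : G)
    rw [mul_assoc, ← h2]
    group
  have hcard := hd.card_quot_eq hna x' (inc r₀) hgenS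
  have hr₀ : inc r₀ ∉ Subgroup.center (S : Subgroup G) := fun h0 => hrb ⟨r₀, h0, rfl⟩
  have hp23 : p = 2 ∨ p = 3 := by
    have := hpp.two_le
    omega
  rcases hp23 with rfl | rfl
  · let Y : Subgroup (S : Subgroup G) := (frattini (pCore 2 G)).map inc
    have hZY : Subgroup.center (S : Subgroup G) ≤ Y := by
      refine hd.two_center_le hna hcard hr₀ ?_ ?_
      · exact ⟨r₀ ^ 2, Cfsg.Agent.Lib.Frat.pow_mem_frattini (isPGroup_pCore 2) r₀, map_pow _ _ _⟩
      · intro z hz
        exact ⟨⟨z, hZR z hz⟩ ^ 2, Cfsg.Agent.Lib.Frat.pow_mem_frattini (isPGroup_pCore 2) _,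
          by rw [map_pow]; rfl⟩
    apply hAct.ne
    rw [eq_bot_iff]
    rintro _ ⟨z, hz, rfl⟩
    obtain ⟨f, hf, hfe⟩ := hZY hz
    have h2 : f = z := Subtype.ext (congrArg (fun t : (S : Subgroup G) => (t : G)) hfe)
    rw [← h2, Subgroup.mem_bot]
    exact (QuotientGroup.eq_one_iff _).2 hf
  · exact hd.three_false hna hcard

/-- Transport along isomorphisms. -/
theorem Data_of_equiv {P P' : Type*} [Group P] [Group P'] [Finite P] [Finite P'] {p q : ℕ} [hp : Fact p.Prime]
    (φ : P ≃* P') {τ : MulAut P} (hd : Data p q τ) : ∃ τ' : MulAut P', Data p q τ' := by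
  let τ' : MulAut P' := φ.symm.trans (τ.trans φ)
  have hτ' : ∀ u, τ' u = φ (τ (φ.symm u)) := fun _ => rfl
  have hpow : ∀ (i : ℕ) (u : P'), (τ' ^ i) u = φ ((τ ^ i) (φ.symm u)) := by
    intro i u
    induction i with
    | zero => simp
    | succ i ih =>
      rw [pow_succ', pow_succ', MulAut.mul_apply, MulAut.mul_apply, ih, hτ']
      simp
  refine ⟨τ', hd.hP.of_surjective (φ : P →* P') φ.surjective, hd.hq, hd.hqp, ?_, ?_, ?_⟩
  · ext u
    rw [hpow, hd.pow]
    simp
  · intro h0
    apply hd.ne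
    ext u
    have h1 : τ' (φ u) = φ u := by rw [h0]; rfl
    rw [hτ'] at h1
    simpa using h1
  · intro D hD hinv u hu
    have hstar := hd.star (D.comap (φ : P →* P')) ?_ ?_ (φ.symm u) ?_
    · rw [hτ', hstar]
      simp
    · intro h0
      apply hD
      rw [eq_top_iff]
      intro v _
      have h1 : φ.symm v ∈ D.comap (φ : P →* P') := by
        rw [h0]
        trivial
      simpa using h1
    · intro v hv
      have h1 := hinv _ hv
      rw [hτ'] at h1
      simpa using h1
    · simpa using hu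

/-- The reduction: data on a Sylow subgroup implies `p`-length at most one. -/
theorem main_of_data {G : Type u} [Group G] [Finite G] {p q : ℕ} [hp : Fact p.Prime]
    (hsol : IsPSolvable p G) (S : Sylow p G) {τ : MulAut (S : Subgroup G)}
    (hd : Data p q τ) : PLengthLE p 1 G := by
  have hpp := hp.out
  let N := pPrimeCore p G
  let G₁ := G ⧸ N
  let π₁ : G →* G₁ := QuotientGroup.mk' N
  have hπ₁ : Function.Surjective π₁ := QuotientGroup.mk'_surjective N
  have hker : Nat.Coprime (Nat.card π₁.ker) p := by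
    have : π₁.ker = N := QuotientGroup.ker_mk' N
    rw [this]
    exact card_pPrimeCore_coprime p
  refine pLengthLE_of_ker_coprime p π₁ hπ₁ hker ?_
  have hsol₁ : IsPSolvable p G₁ := isPSolvable_quotient hsol N
  have hcore₁ : pPrimeCore p G₁ = ⊥ := pPrimeCore_quotient_pPrimeCore p
  let S₁ : Sylow p G₁ := S.mapSurjective hπ₁
  have hS₁ : (S₁ : Subgroup G₁) = (S : Subgroup G).map π₁ := Sylow.coe_mapSurjective _ _
  -- `S ≃ S₁`
  have hinj : Function.Injective (π₁.subgroupMap (S : Subgroup G)) := by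
    rw [injective_iff_map_eq_one]
    rintro ⟨s, hs⟩ h0
    have h1 : π₁ s = 1 := congrArg Subtype.val h0
    have h2 : s ∈ N := (QuotientGroup.eq_one_iff s).1 h1
    obtain ⟨k, hk⟩ := (IsPGroup.iff_orderOf).1 S.isPGroup' ⟨s, hs⟩
    have h3 : orderOf (⟨s, h2⟩ : N) ∣ Nat.card N := orderOf_dvd_natCard _
    have h4 : orderOf (⟨s, h2⟩ : N) = p ^ k := by
      rw [Subgroup.orderOf_mk, ← hk, Subgroup.orderOf_mk]
    have h5 : Nat.Coprime (p ^ k) (Nat.card N) := Nat.Coprime.pow_left k (card_pPrimeCore_coprime p).symm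
    rw [h4] at h3
    have h6 : p ^ k = 1 := Nat.Coprime.eq_one_of_dvd h5 h3
    have h7 : orderOf (⟨s, hs⟩ : (S : Subgroup G)) = 1 := by rw [hk, h6]
    exact orderOf_eq_one_iff.1 h7
  have hsurj : Function.Surjective (π₁.subgroupMap (S : Subgroup G)) := MonoidHom.subgroupMap_surjective _ _
  let e₁ : (S : Subgroup G) ≃* ((S : Subgroup G).map π₁ : Subgroup G₁) := MulEquiv.ofBijective _ ⟨hinj, hsurj⟩
  let e₂ : ((S : Subgroup G).map π₁ : Subgroup G₁) ≃* (S₁ : Subgroup G₁) := MulEquiv.subgroupCongr hS₁.symm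
  obtain ⟨τ₁, hd₁⟩ := Data_of_equiv (e₁.trans e₂) hd
  have hle := sylow_le_core hsol₁ hcore₁ S₁ hd₁
  let R := pCore p G₁
  let Y := G₁ ⧸ R
  let π₂ : G₁ →* Y := QuotientGroup.mk' R
  have hπ₂ : Function.Surjective π₂ := QuotientGroup.mk'_surjective R
  have hker₂ : PLengthLE p 1 π₂.ker := by
    refine pLengthLE_one_of_isPGroup p ?_
    have : π₂.ker = R := QuotientGroup.ker_mk' R
    rw [this]
    exact isPGroup_pCore p
  have hY : PLengthLE p 0 Y := by
    refine pLengthLE_zero_of_coprime p ?_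
    rw [Nat.coprime_comm, hpp.coprime_iff_not_dvd]
    intro hd'
    apply S₁.not_dvd_index
    exact hd'.trans (Subgroup.index_dvd_of_le hle)
  have := pLengthLE_of_ker 1 0 p G₁ Y π₂ hπ₂ hker₂ hY
  simpa using this

/-- The data from a minimal non-nilpotent group. -/
theorem exists_data {X : Type*} [Group X] [Finite X] {p : ℕ} [hp : Fact p.Prime]
    (hX : Cfsg.IsMinimalNonNilpotent X) (P : Sylow p X) (hPn : (P : Subgroup X).Normal) (hP1 : (P : Subgroup X) ≠ ⊥) :
    ∃ (q : ℕ) (τ : MulAut (P : Subgroup X)), Data p q τ := by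
  classical
  have hpp := hp.out
  -- an element of order prime to `p` not centralizing `P`
  have hex : ∃ m : ℕ, ∃ y : X, orderOf y = m ∧ ¬ p ∣ m ∧ ∃ u ∈ (P : Subgroup X), y * u ≠ u * y := by
    by_contra hcon
    push Not at hcon
    obtain ⟨K, hK⟩ := Subgroup.exists_left_complement'_of_coprime (P.card_coprime_index)
    have hKi : (P : Subgroup X).index = Nat.card K := hK.index_eq_card
    have hKp : ¬ p ∣ Nat.card K := by
      rw [← hKi]
      exact P.not_dvd_index
    have hcomm : ∀ k ∈ K, ∀ u ∈ (P : Subgroup X), k * u = u * k := by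
      intro k hk u hu
      refine hcon _ k rfl (fun hd => hKp (hd.trans ?_)) u hu
      have h1 : orderOf (⟨k, hk⟩ : K) ∣ Nat.card K := orderOf_dvd_natCard _
      rwa [Subgroup.orderOf_mk] at h1
    have hsup : K ⊔ (P : Subgroup X) = ⊤ := hK.sup_eq_top
    have hKn : K.Normal := by
      refine ⟨fun k hk g => ?_⟩
      have h1 : g ∈ K ⊔ (P : Subgroup X) := by
        rw [hsup]
        trivial
      rw [Subgroup.mem_sup_of_normal_right] at h1
      obtain ⟨a, ha, u, hu, rfl⟩ := h1
      have e : a * u * k * (a * u)⁻¹ = a * (u * k * u⁻¹) * a⁻¹ := by group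
      have h2 : u * k * u⁻¹ = k := by
        rw [← hcomm k hk u hu]
        group
      rw [e, h2]
      exact K.mul_mem (K.mul_mem ha hk) (K.inv_mem ha)
    have hKtop : K ≠ ⊤ := by
      intro h0
      rw [h0] at hK
      exact hP1 (Subgroup.isComplement'_top_left.1 hK)
    have hKnil : Group.IsNilpotent K := hX.2 K hKtop
    have hPnil : Group.IsNilpotent (P : Subgroup X) := P.isPGroup'.isNilpotent
    have hF : fittingSubgroup X = ⊤ := by
      rw [eq_top_iff, ← hsup]
      exact sup_le (le_fittingSubgroup hKn hKnil) (le_fittingSubgroup hPn hPnil)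
    have hFnil : Group.IsNilpotent (fittingSubgroup X) := isNilpotent_fittingSubgroup
    apply hX.1
    exact Group.nilpotent_of_surjective (fittingSubgroup X).subtype (fun x => ⟨⟨x, by rw [hF]; trivial⟩, rfl⟩)
  obtain ⟨y, hym, hpm, u₀, hu₀, hyu⟩ := Nat.find_spec hex
  have hmin : ∀ y' : X, orderOf y' < orderOf y → ¬ p ∣ orderOf y' → ∀ u ∈ (P : Subgroup X), y' * u = u * y' := by
    intro y' h1 h2 u hu
    by_contra hne
    refine Nat.find_min hex (by rw [← hym]; exact h1) ⟨y', rfl, h2, u, hu, hne⟩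
  rw [← hym] at hpm
  have hy1 : orderOf y ≠ 1 := by
    intro h0
    apply hyu
    rw [orderOf_eq_one_iff.1 h0, one_mul, mul_one]
  have hy0 : orderOf y ≠ 0 := (orderOf_pos y).ne'
  have hq : (Nat.minFac (orderOf y)).Prime := Nat.minFac_prime hy1
  have hqd : Nat.minFac (orderOf y) ∣ orderOf y := Nat.minFac_dvd _
  set q := Nat.minFac (orderOf y) with hqdef
  have hqp : q ≠ p := by
    intro h0
    rw [h0] at hqd
    exact hpm hqd
  have hyq : ∀ u ∈ (P : Subgroup X), y ^ q * u = u * y ^ q := by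
    apply hmin
    · rw [orderOf_pow_of_dvd hq.ne_zero hqd]
      exact Nat.div_lt_self (orderOf_pos y) hq.one_lt
    · rw [orderOf_pow_of_dvd hq.ne_zero hqd]
      exact fun hd => hpm (hd.trans (Nat.div_dvd_of_dvd hqd))
  haveI := hPn
  have hτa : ∀ u : (P : Subgroup X), ((MulAut.conjNormal y u : (P : Subgroup X)) : X) = y * u * y⁻¹ := by
    intro u
    rw [MulAut.conjNormal_apply]
  refine ⟨q, MulAut.conjNormal y, P.isPGroup', hq, hqp, ?_, ?_, ?_⟩
  · rw [← map_pow]
    ext u
    rw [MulAut.conjNormal_apply, hyq u u.2]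
    simp
  · intro h0
    apply hyu
    have h1 := hτa ⟨u₀, hu₀⟩
    rw [h0] at h1
    have h2 : u₀ = y * u₀ * y⁻¹ := h1
    calc y * u₀ = y * u₀ * y⁻¹ * y := by group
      _ = u₀ * y := by rw [← h2]
  · intro D hD hinv u hu
    let D' : Subgroup X := D.map (P : Subgroup X).subtype
    have hy1D : ∀ d ∈ D', y * d * y⁻¹ ∈ D' := by
      rintro _ ⟨d, hd, rfl⟩
      exact ⟨_, hinv d hd, hτa d⟩
    have hyD : ∀ k : ℕ, ∀ d ∈ D', y ^ k * d * (y ^ k)⁻¹ ∈ D' := by
      intro k
      induction k with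
      | zero =>
        intro d hd
        simpa using hd
      | succ k ih =>
        intro d hd
        have e : y ^ (k + 1) * d * (y ^ (k + 1))⁻¹ = y * (y ^ k * d * (y ^ k)⁻¹) * y⁻¹ := by
          rw [pow_succ']
          group
        rw [e]
        exact hy1D _ (ih d hd)
    have hnorm : Subgroup.zpowers y ≤ Subgroup.normalizer (D' : Set X) := by
      refine Subgroup.le_normalizer_iff.2 fun a ha d hd => ?_
      rw [← mem_powers_iff_mem_zpowers] at ha
      obtain ⟨k, rfl⟩ := ha
      exact hyD k d hd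
    have hLne : Subgroup.zpowers y ⊔ D' ≠ ⊤ := by
      intro h0
      apply hD
      rw [eq_top_iff]
      rintro ⟨v, hv⟩ _
      have h1 : v ∈ Subgroup.zpowers y ⊔ D' := by
        rw [h0]
        trivial
      rw [Cfsg.Agent.Lib.LocalTools.mem_sup_of_le_normalizer hnorm] at h1
      obtain ⟨a, ha, b, hb, hab⟩ := h1
      have hbP : b ∈ (P : Subgroup X) := by
        obtain ⟨d, _, rfl⟩ := hb
        exact d.2
      have haP : a ∈ (P : Subgroup X) := by
        have e : a = v * b⁻¹ := by rw [hab]; group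
        rw [e]
        exact Subgroup.mul_mem _ hv (Subgroup.inv_mem _ hbP)
      have ha1 : a = 1 := by
        rw [← mem_powers_iff_mem_zpowers] at ha
        obtain ⟨i, rfl⟩ := ha
        have h3 : (y ^ i) ^ orderOf y = 1 := by
          rw [← pow_mul, mul_comm, pow_mul, pow_orderOf_eq_one, one_pow]
        obtain ⟨k, hk⟩ := P.isPGroup' ⟨_, haP⟩
        have h4 : (y ^ i) ^ p ^ k = 1 := congrArg Subtype.val hk
        have h5 : Nat.Coprime (p ^ k) (orderOf y) :=
          Nat.Coprime.pow_left k ((Nat.Prime.coprime_iff_not_dvd hpp).2 hpm)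
        have h6 : orderOf (y ^ i) = 1 := Nat.eq_one_of_dvd_coprimes h5 (orderOf_dvd_of_pow_eq_one h4)
          (orderOf_dvd_of_pow_eq_one h3)
        exact orderOf_eq_one_iff.1 h6
      have hvb : v = b := by rw [hab, ha1, one_mul]
      obtain ⟨d, hd, hde⟩ := hb
      have h7 : (⟨v, hv⟩ : (P : Subgroup X)) = d := Subtype.ext (hvb.trans hde.symm)
      rw [h7]
      exact hd
    have hnil : Group.IsNilpotent ↥(Subgroup.zpowers y ⊔ D') := hX.2 _ hLne
    have hyL : y ∈ Subgroup.zpowers y ⊔ D' := Subgroup.mem_sup_left (Subgroup.mem_zpowers y)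
    have huL : (u : X) ∈ Subgroup.zpowers y ⊔ D' := Subgroup.mem_sup_right ⟨u, hu, rfl⟩
    obtain ⟨k, hk⟩ := P.isPGroup' u
    have h4 : (u : X) ^ p ^ k = 1 := congrArg Subtype.val hk
    have h5 : Nat.Coprime (p ^ k) (orderOf y) :=
      Nat.Coprime.pow_left k ((Nat.Prime.coprime_iff_not_dvd hpp).2 hpm)
    have h6 := commute_of_nilpotent (E := ↥(Subgroup.zpowers y ⊔ D')) h5 (a := ⟨u, huL⟩) (b := ⟨y, hyL⟩)
      (Subtype.ext h4) (Subtype.ext (pow_orderOf_eq_one y))
    have h7 : (u : X) * y = y * u := congrArg Subtype.val h6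
    apply Subtype.ext
    rw [hτa, ← h7]
    group

/-- Let X be a finite minimal non-nilpotent group (not nilpotent, every proper subgroup nilpotent) with a nontrivial normal Sylow p-subgroup P. If G is a finite p-solvable group whose Sylow p-subgroups are isomorphic to P, then G has p-length at most 1. -/
theorem result {G X : Type*} [Group G] [Finite G] [Group X] [Finite X] (p : ℕ) [Fact p.Prime]
    (hX : Cfsg.IsMinimalNonNilpotent X) (P : Sylow p X) (hPn : (P : Subgroup X).Normal) (hP1 : (P : Subgroup X) ≠ ⊥)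
    (hG : Cfsg.IsPSolvable p G) (Q : Sylow p G) (hQ : Nonempty (↥(Q : Subgroup G) ≃* ↥(P : Subgroup X))) : Cfsg.PLengthLE p 1 G := by
  obtain ⟨q, τ, hd⟩ := exists_data hX P hPn hP1
  obtain ⟨φ⟩ := hQ
  obtain ⟨τ', hd'⟩ := Data_of_equiv φ.symm hd
  exact main_of_data hG Q hd'

end Cfsg.Agent.S4394
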