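import Cfsg.Statements.S4395
import Cfsg.Agent.Lib.SchmidtUni7

set_option autoImplicit false
universe u
open Cfsg

namespace Cfsg.Agent.S4395

open Polynomial
open scoped commutatorElement
open Multiplicative (toAdd ofAdd)
open Cfsg.Agent.Lib.SchmidtUni1 Cfsg.Agent.Lib.SchmidtUni2 Cfsg.Agent.Lib.SchmidtUni6 Cfsg.Agent.Lib.SchmidtUni7

/-- Let p ≠ q be primes, r ≥ 1, a the multiplicative order of p modulo q, and a₀ = a when a is odd, a₀ = 3a/2 when a is even. Call a finite group minimal non-p-nilpotent when it has no normal p-complement but every proper subgroup has one. Then there is a minimal non-p-nilpotent group G₀ of order p^a₀ · q^r such that every minimal non-p-nilpotent group of order p^t · q^r (any t) is a quotient of G₀ by a central subgroup. -/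
theorem result (p q r : ℕ) [Fact p.Prime] [Fact q.Prime] (hpq : p ≠ q) (hr : 1 ≤ r) (a a₀ : ℕ)
    (ha : a = orderOf (p : ZMod q)) (ha₀ : a₀ = if a % 2 = 1 then a else 3 * a / 2) :
    ∃ (G₀ : Type u) (_ : Group G₀) (_ : Finite G₀),
      (¬ Cfsg.HasNormalPComplement p G₀ ∧ ∀ K : Subgroup G₀, K ≠ ⊤ → Cfsg.HasNormalPComplement p ↥K) ∧ Nat.card G₀ = p ^ a₀ * q ^ r ∧
      ∀ (X : Type u) [Group X] [Finite X], (¬ Cfsg.HasNormalPComplement p X ∧ ∀ K : Subgroup X, K ≠ ⊤ → Cfsg.HasNormalPComplement p ↥K) →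
        (∃ t : ℕ, Nat.card X = p ^ t * q ^ r) → ∃ φ : G₀ →* X, Function.Surjective φ ∧ φ.ker ≤ Subgroup.center G₀ := by
  classical
  have hpp : p.Prime := Fact.out
  have hq : q.Prime := Fact.out
  have hcop : ((p : ZMod q)) ≠ 0 := by
    intro h0
    rw [ZMod.natCast_eq_zero_iff] at h0
    exact hpq ((Nat.prime_dvd_prime_iff_eq hq hpp).1 h0).symm
  have ha0 : a ≠ 0 := by
    rw [ha]
    apply (orderOf_pos_iff.2 _).ne'
    rw [isOfFinOrder_iff_pow_eq_one]
    exact ⟨q - 1, by have := hq.two_le; omega, ZMod.pow_card_sub_one_eq_one hcop⟩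
  let F := GaloisField p a
  haveI : Finite F := inferInstance
  have hcard : Nat.card F = p ^ a := GaloisField.card p a ha0
  haveI hchar : CharP F p := inferInstance
  obtain ⟨ζ, hζ, Hs⟩ := exists_zeta (F := F) hq hpq ha hcard
  obtain ⟨m, hm, Hm⟩ := exists_m (p := p) ζ
  have hma : aeval ζ m = 0 := by
    rw [← aeval_map_cast (p := p), hm, minpoly.aeval]
  have hζ1 : ζ ≠ 1 := hζ.ne_one hq.one_lt
  have hζ0 : ζ ≠ 0 := hζ.ne_zero hq.ne_zero
  have hζq : ζ ^ q = 1 := hζ.pow_eq_one
  have h1W : (1 : F) ∈ WW ζ := one_mem_WW hpp hq hpq ζ hζq hζ1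
  by_cases hodd : a % 2 = 1
  · -- the abelian model
    rw [if_pos hodd] at ha₀
    have ha₀s : a = a₀ := ha₀.symm
    subst ha₀s
    let P₀ := Multiplicative F
    let ρ₀ : P₀ →* Multiplicative F := MonoidHom.id _
    let η₀ : MulAut P₀ :=
      { toFun := fun v => ofAdd (ζ * toAdd v)
        invFun := fun v => ofAdd (ζ⁻¹ * toAdd v)
        left_inv := by
          intro v
          show ofAdd (ζ⁻¹ * (ζ * toAdd v)) = v
          rw [inv_mul_cancel_left₀ hζ0]
          rfl
        right_inv := by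
          intro v
          show ofAdd (ζ * (ζ⁻¹ * toAdd v)) = v
          rw [mul_inv_cancel_left₀ hζ0]
          rfl
        map_mul' := by
          intro u v
          show ofAdd (ζ * (toAdd u + toAdd v)) = ofAdd (ζ * toAdd u + ζ * toAdd v)
          rw [mul_add] }
    have hit : ∀ (i : ℕ) (v : P₀), (⇑η₀.toMonoidHom)^[i] v = ofAdd (ζ ^ i * toAdd v) := by
      intro i v
      induction i with
      | zero => simp
      | succ i ih =>
        rw [Function.iterate_succ_apply', ih, pow_succ', mul_assoc]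
        rfl
    refine final_of_model (ρ₀ := ρ₀) (η₀ := η₀) hq hpq hr hζ Hs hm Hm ?_ ?_ ?_ ?_
    · refine ⟨fun w => ⟨w, rfl⟩, fun _ => rfl, ?_, ?_, ?_, ?_, ?_, ?_⟩
      · intro u _
        rw [Subgroup.mem_center_iff]
        intro g
        exact mul_comm g u
      · intro u hu
        have hu1 : u = 1 := hu
        rw [hu1, map_one]
      · apply IsPGroup.of_card (n := a)
        rw [← hcard]
        exact Nat.card_congr Multiplicative.toAdd
      · intro v
        rw [hit, hζq, one_mul]
        rfl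
      · intro e
        rw [nsmul_eq_mul, CharP.cast_eq_zero F p, zero_mul]
      · ext t
        rw [aeval_mulLeft, hma, zero_mul]
        rfl
    · intro u hu
      have hu1 : u = 1 := hu
      rw [hu1]
      exact Subgroup.one_mem _
    · intro x u _ _
      exact mem_WW_of_odd hpp hcard hodd hζ0 h1W Hs _
    · rw [← hcard]
      exact Nat.card_congr Multiplicative.toAdd
  · -- the Heisenberg model
    rw [if_neg hodd] at ha₀
    obtain ⟨b, hb⟩ : ∃ b, a = 2 * b := ⟨a / 2, by omega⟩
    have hb1 : 1 ≤ b := by omega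
    have ha₀' : a₀ = 3 * b := by
      rw [ha₀, hb]
      omega
    subst ha₀'
    set Q := p ^ b with hQ
    have hcard2 : Nat.card F = Q ^ 2 := by
      rw [hcard, hb, hQ, ← pow_mul, mul_comm]
    haveI hexp : ExpChar F p := ExpChar.prime hpp
    let τ : F →+* F := iterateFrobenius F p b
    have hτ : ∀ t, τ t = t ^ Q := fun t => iterateFrobenius_def p b t
    have hτ2 : ∀ t, τ (τ t) = t := by
      intro t
      rw [hτ, hτ, ← pow_mul]
      have h1 : Q * Q = Nat.card F := by
        rw [hcard2]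
        ring
      rw [h1]
      haveI : Fintype F := Fintype.ofFinite F
      rw [Nat.card_eq_fintype_card]
      exact FiniteField.pow_card t
    -- `q` divides `Q + 1`
    have hx : ((p : ZMod q)) ^ b = -1 := by
      have h1 : ((p : ZMod q) ^ b) ^ 2 = 1 := by
        rw [← pow_mul, mul_comm, ← hb, ha]
        exact pow_orderOf_eq_one _
      have h2 : ((p : ZMod q)) ^ b ≠ 1 := by
        intro h0
        have h3 : a ∣ b := by
          rw [ha]
          exact orderOf_dvd_of_pow_eq_one h0
        have h4 := Nat.le_of_dvd (by omega) h3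
        omega
      have h3 : (((p : ZMod q)) ^ b - 1) * (((p : ZMod q)) ^ b + 1) = 0 := by
        linear_combination h1
      rcases mul_eq_zero.1 h3 with h4 | h4
      · exact absurd (sub_eq_zero.1 h4) h2
      · exact eq_neg_of_add_eq_zero_left h4
    have hqdvd : q ∣ Q + 1 := by
      rw [← ZMod.natCast_eq_zero_iff, hQ]
      push_cast
      rw [hx]
      ring
    have hζτ : τ ζ = ζ⁻¹ := by
      rw [hτ]
      apply eq_inv_of_mul_eq_one_left
      rw [← pow_succ]
      obtain ⟨c, hc⟩ := hqdvd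
      rw [hc, pow_mul, hζq, one_pow]
    have hq2 : q ≠ 2 := by
      intro h2
      subst h2
      have h3 : Odd p := hpp.odd_of_ne_two hpq
      have h4 : ((p : ZMod 2)) = 1 := by
        rw [ZMod.natCast_eq_one_iff_odd]
        exact h3
      rw [h4, orderOf_one] at ha
      rw [ha] at hodd
      exact hodd rfl
    have hζ2 : ζ ^ 2 ≠ 1 := by
      intro h0
      have h1 := hζ.dvd_of_pow_eq_one 2 h0
      exact hq2 ((Nat.prime_dvd_prime_iff_eq hq Nat.prime_two).1 h1)
    obtain ⟨P₀, iG, iF, ρ₀, η₀, hS, hMC, hMW, hc⟩ := even_model (p := p) (q := q) (m := m) hQ hb1 hcard2 τ hτ hτ2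
      hζτ hζq hζ0 hζ2 h1W Hs hma
    exact final_of_model hq hpq hr hζ Hs hm Hm hS hMC hMW hc

end Cfsg.Agent.S4395
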