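import Mathlib
import Cfsg.Statements.S4419
import Cfsg.Agent.Lib.PComplement
import Cfsg.Agent.Lib.Glauberman
import Cfsg.Agent.Lib.PPrimeP
import Cfsg.Agent.Lib.Frat
import Cfsg.Agent.Lib.PCore
import Cfsg.Agent.Lib.TransferEval

set_option autoImplicit false
open Cfsg

namespace Cfsg.Agent.S4419

open Cfsg.Agent.Lib.PCore Cfsg.Agent.Lib.PPrimeP

/-- A group of the form `⟨u⟩⟨v⟩` which is a `p`-group has a Frattini quotient of order at most `p²`. -/
lemma card_frattini_quot_le {X : Type*} [Group X] [Finite X] (p : ℕ) [hp : Fact p.Prime]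
    (hX : IsPGroup p X) (u v : X) (h : ∀ x : X, ∃ i j : ℤ, x = u ^ i * v ^ j) :
    Nat.card (X ⧸ frattini X) ≤ p ^ 2 := by
  have hpos : 0 < p := hp.out.pos
  let f : Fin p × Fin p → X ⧸ frattini X :=
    fun a => (QuotientGroup.mk (u ^ (a.1 : ℕ) * v ^ (a.2 : ℕ)) : X ⧸ frattini X)
  have hpow : ∀ (w : X) (i : ℤ), ∃ i' : Fin p,
      (QuotientGroup.mk (w ^ i) : X ⧸ frattini X) = QuotientGroup.mk (w ^ (i' : ℕ)) := by
    intro w i
    refine ⟨⟨(i % p).toNat, ?_⟩, ?_⟩
    · have h1 := Int.emod_lt_of_pos i (by exact_mod_cast hpos : (0 : ℤ) < p)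
      have h2 := Int.emod_nonneg i (by exact_mod_cast hpos.ne' : (p : ℤ) ≠ 0)
      omega
    · have h2 := Int.emod_nonneg i (by exact_mod_cast hpos.ne' : (p : ℤ) ≠ 0)
      simp only
      rw [← zpow_natCast, Int.toNat_of_nonneg h2]
      have h3 : i = p * (i / p) + i % p := (Int.mul_ediv_add_emod i p).symm
      conv_lhs => rw [h3]
      rw [zpow_add, zpow_mul, zpow_natCast]
      rw [QuotientGroup.mk_mul]
      have h4 : (QuotientGroup.mk ((w ^ p) ^ (i / p)) : X ⧸ frattini X) = 1 := by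
        rw [QuotientGroup.eq_one_iff]
        exact zpow_mem (Cfsg.Agent.Lib.Frat.pow_mem_frattini hX w) _
      rw [h4, one_mul]
  have hsurj : Function.Surjective f := by
    intro y
    obtain ⟨x, rfl⟩ := QuotientGroup.mk_surjective y
    obtain ⟨i, j, rfl⟩ := h x
    obtain ⟨i', hi⟩ := hpow u i
    obtain ⟨j', hj⟩ := hpow v j
    refine ⟨(i', j'), ?_⟩
    simp only [f]
    rw [QuotientGroup.mk_mul, QuotientGroup.mk_mul, hi, hj]
  have h5 := Nat.card_le_card_of_surjective f hsurj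
  simpa [Nat.card_prod, Nat.card_fin, sq] using h5

/-- Subgroups of metacyclic groups have two generators in the strong form. -/
lemma exists_two_gens {X : Type*} [Group X] (hX : Cfsg.IsMetacyclic X) (Y : Subgroup X) :
    ∃ u ∈ Y, ∃ v ∈ Y, ∀ x ∈ Y, ∃ i j : ℤ, x = u ^ i * v ^ j := by
  obtain ⟨N, hN, hc1, hc2⟩ := hX
  have hc3 : IsCyclic ↥(Y.map (QuotientGroup.mk' N)) := Subgroup.isCyclic _
  obtain ⟨⟨t, ht⟩, htg⟩ := hc3.exists_generator
  obtain ⟨u, huY, hu⟩ := Subgroup.mem_map.1 ht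
  have hc4 : IsCyclic ↥(Y ⊓ N) := by
    have : IsCyclic ↥((Y ⊓ N).subgroupOf N) := Subgroup.isCyclic _
    have e : ↥((Y ⊓ N).subgroupOf N) ≃* ↥(Y ⊓ N) :=
      Subgroup.subgroupOfEquivOfLe inf_le_right
    exact isCyclic_of_surjective e e.surjective
  obtain ⟨⟨v, hv⟩, hvg⟩ := hc4.exists_generator
  refine ⟨u, huY, v, hv.1, ?_⟩
  intro x hx
  have hx1 : (QuotientGroup.mk' N x) ∈ Y.map (QuotientGroup.mk' N) := Subgroup.mem_map_of_mem _ hx
  obtain ⟨i, hi⟩ := Subgroup.mem_zpowers_iff.1 (htg ⟨_, hx1⟩)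
  have hi' : t ^ i = QuotientGroup.mk' N x := by
    have := congrArg Subtype.val hi
    simpa using this
  have hmem : u⁻¹ ^ i * x ∈ N := by
    rw [← QuotientGroup.eq_one_iff]
    have : (QuotientGroup.mk (u⁻¹ ^ i * x) : X ⧸ N) = (QuotientGroup.mk' N u)⁻¹ ^ i * QuotientGroup.mk' N x := by
      simp
    rw [this, hu, ← hi', inv_zpow, inv_mul_cancel]
  have hmemY : u⁻¹ ^ i * x ∈ Y := mul_mem (zpow_mem (inv_mem huY) i) hx
  obtain ⟨j, hj⟩ := Subgroup.mem_zpowers_iff.1 (hvg ⟨_, hmemY, hmem⟩)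
  have hj' : v ^ j = u⁻¹ ^ i * x := by
    have := congrArg Subtype.val hj
    simpa using this
  refine ⟨i, j, ?_⟩
  rw [hj', inv_zpow, mul_inv_cancel_left]

/-- Arithmetic step: the fixed points of a `q`-element on a group of order at most `p²`. -/
lemma card_eq_of_modEq {p q a b : ℕ} (hp : p.Prime) (hq : q.Prime) (hqp : q ≠ p)
    (hq2 : ¬ q ∣ p ^ 2 - 1) (ha : a ≤ 2) (hb : b ≤ a) (h : p ^ a ≡ p ^ b [MOD q]) : a = b := by
  by_contra hne
  have hlt : b < a := lt_of_le_of_ne hb (Ne.symm hne)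
  have hd : q ∣ p ^ a - p ^ b := (Nat.modEq_iff_dvd' (Nat.pow_le_pow_right hp.pos hb)).1 h.symm
  have e : p ^ a - p ^ b = p ^ b * (p ^ (a - b) - 1) := by
    have h1 : a = b + (a - b) := by omega
    conv_lhs => rw [h1, pow_add]
    rw [Nat.mul_sub, mul_one]
  rw [e] at hd
  rcases (Nat.Prime.dvd_mul hq).1 hd with h2 | h2
  · exact hqp ((Nat.prime_dvd_prime_iff_eq hq hp).1 (hq.dvd_of_dvd_pow h2))
  · apply hq2
    have : a - b = 1 ∨ a - b = 2 := by omega
    rcases this with h3 | h3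
    · rw [h3, pow_one] at h2
      have : p ^ 2 - 1 = (p - 1) * (p + 1) := by
        have := hp.pos
        obtain ⟨m, rfl⟩ : ∃ m, p = m + 1 := ⟨p - 1, by omega⟩
        simp only [Nat.add_sub_cancel]
        have : (m + 1) ^ 2 = m * (m + 1 + 1) + 1 := by ring
        omega
      rw [this]
      exact h2.mul_right _
    · rwa [h3] at h2

/-- A `q`-element normalizing `Q` acts trivially on the Frattini quotient of `Q`, when the latter
has order at most `p²`, and `q` is prime to `p (p² - 1)`. -/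
lemma acts_trivially {G : Type*} [Group G] [Finite G] {p q : ℕ} [hp : Fact p.Prime] [hq : Fact q.Prime]
    (hqp : q ≠ p) (hq2 : ¬ q ∣ p ^ 2 - 1) (Q : Subgroup G) (hQ : IsPGroup p Q)
    (hcard : Nat.card (↥Q ⧸ frattini ↥Q) ≤ p ^ 2) (a : G)
    (ha : a ∈ Subgroup.normalizer (Q : Set G)) (k : ℕ) (hak : a ^ (q ^ k) = 1) :
    ∀ x ∈ Q, a * x * a⁻¹ * x⁻¹ ∈ (frattini ↥Q).map Q.subtype := by
  classical
  let φ : MulAut ↥Q := Q.normalizerMonoidHom ⟨a, ha⟩
  have hφ : ∀ x : ↥Q, ((φ x : ↥Q) : G) = a * x * a⁻¹ := fun x => rfl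
  have hφk : φ ^ (q ^ k) = 1 := by
    have : (⟨a, ha⟩ : Subgroup.normalizer (Q : Set G)) ^ (q ^ k) = 1 := Subtype.ext hak
    change (Q.normalizerMonoidHom ⟨a, ha⟩) ^ (q ^ k) = 1
    rw [← map_pow, this, map_one]
  have hle : frattini ↥Q ≤ (frattini ↥Q).comap φ.toMonoidHom := by
    intro x hx
    have hc : (frattini ↥Q).Characteristic := inferInstance
    have := (Subgroup.characteristic_iff_le_comap.1 hc φ) hx
    exact this
  let V := ↥Q ⧸ frattini ↥Q
  let f : V →* V := QuotientGroup.map (frattini ↥Q) (frattini ↥Q) φ.toMonoidHom hle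
  have hfmk : ∀ x : ↥Q, f (QuotientGroup.mk x) = QuotientGroup.mk (φ x) := fun x => rfl
  let F : Function.End V := fun v => f v
  have hFn : ∀ (n : ℕ) (x : ↥Q), (F ^ n) (QuotientGroup.mk x) = QuotientGroup.mk ((φ ^ n) x) := by
    intro n
    induction n with
    | zero => intro x; rfl
    | succ n ih =>
      intro x
      rw [pow_succ, pow_succ]
      change (F ^ n) (f (QuotientGroup.mk x)) = QuotientGroup.mk ((φ ^ n) (φ x))
      exact (congrArg (F ^ n) (hfmk x)).trans (ih (φ x))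
  have hF1 : F ^ (q ^ k) = 1 := by
    funext v
    obtain ⟨x, rfl⟩ := QuotientGroup.mk_surjective v
    have := hFn (q ^ k) x
    rw [hφk] at this
    exact this
  have : Fintype V := Fintype.ofFinite V
  have hmod := Equiv.Perm.card_fixedPoints_modEq (f := F) hF1
  let E : Subgroup V := f.eqLocus (MonoidHom.id V)
  have hmod' : Nat.card V ≡ Nat.card (Function.fixedPoints F) [MOD q] := by
    simpa only [Nat.card_eq_fintype_card] using hmod
  have hcE : Nat.card E = Nat.card (Function.fixedPoints F) := by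
    exact Nat.card_congr (Equiv.subtypeEquivRight (fun x => ⟨fun h => h, fun h => h⟩))
  have hVp : IsPGroup p V := hQ.to_quotient _
  obtain ⟨A, hA⟩ := IsPGroup.iff_card.1 hVp
  have hA2 : A ≤ 2 := (Nat.pow_le_pow_iff_right hp.out.one_lt).1 (hA ▸ hcard)
  have hd : Nat.card E ∣ p ^ A := hA ▸ Subgroup.card_subgroup_dvd_card E
  obtain ⟨B, hB, hEB⟩ := (Nat.dvd_prime_pow hp.out).1 hd
  have hm2 : p ^ A ≡ p ^ B [MOD q] := by
    rw [← hA, ← hEB, hcE]
    exact hmod'
  have hAB := card_eq_of_modEq hp.out hq.out hqp hq2 hA2 hB hm2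
  have hE : E = ⊤ := by
    apply Subgroup.eq_top_of_card_eq
    rw [hA, hEB, hAB]
  intro x hx
  have h1 : (QuotientGroup.mk ⟨x, hx⟩ : V) ∈ E := hE ▸ Subgroup.mem_top _
  have h2 : f (QuotientGroup.mk ⟨x, hx⟩) = QuotientGroup.mk ⟨x, hx⟩ := h1
  rw [hfmk] at h2
  have h3 : φ ⟨x, hx⟩ / ⟨x, hx⟩ ∈ frattini ↥Q := (QuotientGroup.eq_iff_div_mem).1 h2
  refine ⟨_, h3, ?_⟩
  simp only [Subgroup.subtype_apply, div_eq_mul_inv, Subgroup.coe_mul, Subgroup.coe_inv, hφ]

/-- Prime power order elements normalizing a subgroup of the metacyclic Sylow centralize it. -/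
lemma centralizes {G : Type*} [Group G] [Finite G] {p q : ℕ} [hp : Fact p.Prime] [hq : Fact q.Prime]
    (hqp : q ≠ p) (hco : Nat.Coprime (Nat.card (G ⧸ Cfsg.pPrimePCore p G)) (p ^ 2 - 1))
    (Q : Subgroup G) (hQ : IsPGroup p Q) (hcard : Nat.card (↥Q ⧸ frattini ↥Q) ≤ p ^ 2) (y : G)
    (hy : y ∈ Subgroup.normalizer (Q : Set G)) (k : ℕ) (hyk : y ^ (q ^ k) = 1) :
    y ∈ Subgroup.centralizer (Q : Set G) := by
  classical
  by_cases hq2 : q ∣ p ^ 2 - 1
  · -- `y` lies in `O_{p',p}`, then in `O_{p'}`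
    have hcq : Nat.Coprime (q ^ k) (Nat.card (G ⧸ Cfsg.pPrimePCore p G)) :=
      Nat.Coprime.pow_left k (Nat.Coprime.coprime_dvd_left hq2 hco.symm)
    have h1 : (QuotientGroup.mk y : G ⧸ Cfsg.pPrimePCore p G) = 1 := by
      have h2 : (QuotientGroup.mk y : G ⧸ Cfsg.pPrimePCore p G) ^ (q ^ k) = 1 := by
        rw [← QuotientGroup.mk_pow, hyk, QuotientGroup.mk_one]
      have h3 := pow_card_eq_one' (x := (QuotientGroup.mk y : G ⧸ Cfsg.pPrimePCore p G))
      have h4 := pow_gcd_eq_one.2 ⟨h2, h3⟩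
      rwa [Nat.Coprime.gcd_eq_one hcq, pow_one] at h4
    have hyR : y ∈ Cfsg.pPrimePCore p G := (QuotientGroup.eq_one_iff y).1 h1
    have hyO : y ∈ Cfsg.pPrimeCore p G := by
      have h5 : (QuotientGroup.mk y : G ⧸ Cfsg.pPrimeCore p G) ∈ Cfsg.pCore p (G ⧸ Cfsg.pPrimeCore p G) := hyR
      obtain ⟨m, hm⟩ := (isPGroup_pCore (G := G ⧸ Cfsg.pPrimeCore p G) p) ⟨_, h5⟩
      have h6 : (QuotientGroup.mk y : G ⧸ Cfsg.pPrimeCore p G) ^ (p ^ m) = 1 := by
        have := congrArg Subtype.val hm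
        simpa using this
      have h7 : (QuotientGroup.mk y : G ⧸ Cfsg.pPrimeCore p G) ^ (q ^ k) = 1 := by
        rw [← QuotientGroup.mk_pow, hyk, QuotientGroup.mk_one]
      have h8 := pow_gcd_eq_one.2 ⟨h6, h7⟩
      have hcpq : Nat.Coprime (p ^ m) (q ^ k) :=
        Nat.Coprime.pow _ _ ((Nat.coprime_primes hp.out hq.out).2 (Ne.symm hqp))
      rw [Nat.Coprime.gcd_eq_one hcpq, pow_one] at h8
      exact (QuotientGroup.eq_one_iff y).1 h8
    rw [Subgroup.mem_centralizer_iff]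
    intro x hx
    have hxQ : x ∈ Q := hx
    have hc : x * y * x⁻¹ * y⁻¹ ∈ Q ⊓ Cfsg.pPrimeCore p G := by
      rw [Subgroup.mem_inf]
      constructor
      · have h3 : y * x⁻¹ * y⁻¹ ∈ Q := (Subgroup.mem_normalizer_iff.1 hy x⁻¹).1 (inv_mem hxQ)
        have : x * y * x⁻¹ * y⁻¹ = x * (y * x⁻¹ * y⁻¹) := by group
        rw [this]
        exact mul_mem hxQ h3
      · have hN : (Cfsg.pPrimeCore p G).Normal := inferInstance
        exact mul_mem (hN.conj_mem y hyO x) (inv_mem hyO)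
    rw [inf_pPrimeCore_eq_bot hQ, Subgroup.mem_bot] at hc
    calc x * y = (x * y * x⁻¹ * y⁻¹) * (y * x) := by group
      _ = y * x := by rw [hc, one_mul]
  · -- `y` acts trivially on the Frattini quotient
    have hA : Subgroup.zpowers y ≤ Subgroup.normalizer (Q : Set G) :=
      (Subgroup.zpowers_le).2 hy
    have hcop : (Nat.card (Subgroup.zpowers y)).Coprime (Nat.card (frattini ↥Q)) := by
      have h1 : Nat.card (Subgroup.zpowers y) ∣ q ^ k := by
        rw [Nat.card_zpowers]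
        exact orderOf_dvd_of_pow_eq_one hyk
      have h2 : IsPGroup p (frattini ↥Q) := hQ.to_subgroup _
      obtain ⟨m, hm⟩ := IsPGroup.iff_card.1 h2
      rw [hm]
      exact Nat.Coprime.coprime_dvd_left h1
        (Nat.Coprime.pow _ _ ((Nat.coprime_primes hq.out hp.out).2 hqp))
    have htriv : ∀ a ∈ Subgroup.zpowers y, ∀ x ∈ Q,
        a * x * a⁻¹ * x⁻¹ ∈ (frattini ↥Q).map Q.subtype := by
      intro a ha x hx
      refine acts_trivially hqp hq2 Q hQ hcard a (hA ha) k ?_ x hx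
      obtain ⟨n, rfl⟩ := Subgroup.mem_zpowers_iff.1 ha
      rw [← zpow_natCast, ← zpow_mul, mul_comm, zpow_mul, zpow_natCast, hyk, one_zpow]
    exact Cfsg.Agent.Lib.Glauberman.le_centralizer_of_frattini hA hcop htriv
      (Subgroup.mem_zpowers y)

theorem forward {G : Type*} [Group G] [Finite G] (p : ℕ) [hp : Fact p.Prime]
    (h : Cfsg.HasNormalPComplement p G) :
    Nat.Coprime (Nat.card (G ⧸ Cfsg.pPrimePCore p G)) (p ^ 2 - 1) := by
  obtain ⟨P, N, hN, hc⟩ := h
  have h1 : Nat.card N * Nat.card (P : Subgroup G) = Nat.card G := hc.card_mul_card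
  have hidx : (P : Subgroup G).index = Nat.card N := by
    have h2 := Subgroup.card_mul_index (P : Subgroup G)
    have hpos : 0 < Nat.card (P : Subgroup G) := Nat.card_pos
    rw [← h1, mul_comm (Nat.card N)] at h2
    exact Nat.eq_of_mul_eq_mul_left hpos h2
  have hcN : Nat.Coprime (Nat.card N) p := by
    rw [Nat.coprime_comm, Nat.Prime.coprime_iff_not_dvd hp.out, ← hidx]
    exact P.not_dvd_index
  have hle : N ≤ Cfsg.pPrimeCore p G := le_pPrimeCore hN hcN
  have hindex : N.index = Nat.card (P : Subgroup G) := by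
    have h2 := Subgroup.card_mul_index N
    rw [← h1] at h2
    have hpos : 0 < Nat.card N := Nat.card_pos
    exact Nat.eq_of_mul_eq_mul_left hpos h2
  have hd : (Cfsg.pPrimeCore p G).index ∣ Nat.card (P : Subgroup G) :=
    hindex ▸ Subgroup.index_dvd_of_le hle
  obtain ⟨m, hm⟩ := IsPGroup.iff_card.1 P.isPGroup'
  rw [hm] at hd
  obtain ⟨b, -, hb⟩ := (Nat.dvd_prime_pow hp.out).1 hd
  have hpg : IsPGroup p (G ⧸ Cfsg.pPrimeCore p G) := by
    rw [IsPGroup.iff_card]
    exact ⟨b, by rw [← hb, Subgroup.index]⟩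
  have htop : Cfsg.pPrimePCore p G = ⊤ := by
    unfold Cfsg.pPrimePCore
    rw [(pCore_eq_top_iff p).2 hpg, Subgroup.comap_top]
  rw [htop]
  have : Nat.card (G ⧸ (⊤ : Subgroup G)) = 1 := Subgroup.index_top
  rw [this]
  exact Nat.coprime_one_left _

/-- **Statement**. -/
theorem result {G : Type*} [Group G] [Finite G] (p : ℕ) [Fact p.Prime] (S : Sylow p G) (hS : Cfsg.IsMetacyclic ↥(S : Subgroup G)) : Cfsg.HasNormalPComplement p G ↔ Nat.Coprime (Nat.card (G ⧸ Cfsg.pPrimePCore p G)) (p ^ 2 - 1) := by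
  refine ⟨forward p, fun hco => ?_⟩
  rw [Cfsg.Agent.Lib.TransferEval.hasNormalPComplement_iff S, Cfsg.Agent.Lib.PComplement.frobenius_criterion S]
  intro Q hQS g hg hgc
  have hQp : IsPGroup p Q := S.isPGroup'.to_le hQS
  -- the Frattini quotient is small
  have hcard : Nat.card (↥Q ⧸ frattini ↥Q) ≤ p ^ 2 := by
    obtain ⟨u, hu, v, hv, huv⟩ := exists_two_gens hS (Q.subgroupOf (S : Subgroup G))
    refine card_frattini_quot_le p hQp ⟨(u : G), hu⟩ ⟨(v : G), hv⟩ ?_
    rintro ⟨x, hx⟩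
    obtain ⟨i, j, hij⟩ := huv ⟨x, hQS hx⟩ hx
    refine ⟨i, j, Subtype.ext ?_⟩
    have := congrArg Subtype.val hij
    simpa using this
  -- reduce to prime power order
  let Z := Subgroup.zpowers g
  let C : Subgroup Z := (Subgroup.centralizer (Q : Set G)).subgroupOf Z
  have hC : C = ⊤ := by
    apply eq_top_of_forall_sylow_le
    intro r hr
    obtain ⟨T⟩ : Nonempty (Sylow r Z) := inferInstance
    refine ⟨T, ?_⟩
    intro t ht
    change (t : G) ∈ Subgroup.centralizer (Q : Set G)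
    obtain ⟨k, hk⟩ := T.isPGroup' ⟨t, ht⟩
    have hk' : (t : G) ^ (r ^ k) = 1 := by
      have := congrArg (fun z : T => ((z : Z) : G)) hk
      simpa using this
    have htN : (t : G) ∈ Subgroup.normalizer (Q : Set G) :=
      (Subgroup.zpowers_le).2 hg t.2
    by_cases hrp : r = p
    · subst hrp
      have h1 : orderOf (t : G) ∣ orderOf g := by
        rw [← Nat.card_zpowers, ← Nat.card_zpowers]
        exact Subgroup.card_dvd_of_le ((Subgroup.zpowers_le).2 t.2)
      have h2 : orderOf (t : G) ∣ r ^ k := orderOf_dvd_of_pow_eq_one hk'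
      have h3 : Nat.Coprime (orderOf (t : G)) r := Nat.Coprime.coprime_dvd_left h1 hgc
      have h4 : orderOf (t : G) = 1 :=
        Nat.Coprime.eq_one_of_dvd (Nat.Coprime.pow_right k h3) h2
      rw [orderOf_eq_one_iff.1 h4]
      exact one_mem _
    · exact centralizes hrp hco Q hQp hcard _ htN k hk'
  have hgZ : g ∈ Z := Subgroup.mem_zpowers g
  have : (⟨g, hgZ⟩ : Z) ∈ C := hC ▸ Subgroup.mem_top _
  exact this

end Cfsg.Agent.S4419
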