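import Mathlib
import Cfsg.Statements.S4468
import Cfsg.Agent.Lib.FTBlichMain
import Cfsg.Agent.Lib.PSolv
import Cfsg.Agent.Lib.Hall

set_option autoImplicit false
set_option linter.unusedSectionVars false
set_option linter.unusedVariables false
set_option linter.style.haveILetI false

open Cfsg Cfsg.Agent.Lib.CharBasic Cfsg.Agent.Lib.CharKernel Cfsg.Agent.Lib.FTBlich
  Cfsg.Agent.Lib.FTBlichMain
open scoped ComplexConjugate

namespace Cfsg.Agent.S4468

universe u

/-- A natural decomposition having a constituent of full degree is that constituent. -/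
theorem eq_single_of_degree {A : Type u} [Group A] [Fintype A] (m : IrrCharacter A → ℕ)
    (θ : IrrCharacter A) (hθ : m θ ≠ 0)
    (hdeg : charDegree (θ : A → ℂ) = ∑ i, m i * charDegree (i : A → ℂ)) :
    ∑ i, m i • (i : A → ℂ) = (θ : A → ℂ) := by
  classical
  have hpos : 0 < charDegree (θ : A → ℂ) := charDegree_pos θ.2
  have h1 : m θ * charDegree (θ : A → ℂ) + ∑ i ∈ Finset.univ.erase θ, m i * charDegree (i : A → ℂ) =
      charDegree (θ : A → ℂ) := by
    have h0 := Finset.add_sum_erase Finset.univ (fun i => m i * charDegree (i : A → ℂ))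
      (Finset.mem_univ θ)
    rw [← hdeg] at h0
    exact h0
  have h2 : m θ = 1 := by
    have h3 : m θ * charDegree (θ : A → ℂ) ≤ charDegree (θ : A → ℂ) := by omega
    have h4 : m θ ≤ 1 := by
      by_contra h5
      have h6 : 2 ≤ m θ := by omega
      nlinarith
    omega
  have h3 : ∑ i ∈ Finset.univ.erase θ, m i * charDegree (i : A → ℂ) = 0 := by
    rw [h2] at h1
    omega
  have h4 : ∀ i ∈ Finset.univ.erase θ, m i = 0 := by
    intro i hi
    have h5 := (Finset.sum_eq_zero_iff.mp h3) i hi
    rcases Nat.mul_eq_zero.mp h5 with h6 | h6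
    · exact h6
    · exact absurd h6 (charDegree_ne_zero i.2)
  rw [Finset.sum_eq_single θ]
  · rw [h2, one_smul]
  · intro b _ hb
    rw [h4 b (Finset.mem_erase.mpr ⟨hb, Finset.mem_univ b⟩), zero_smul]
  · intro h
    exact absurd (Finset.mem_univ θ) h

/-- A character which is irreducible on a subgroup is irreducible. -/
theorem irr_of_restrict {A : Type u} [Group A] [Finite A] (Y : Subgroup A) {χ : A → ℂ}
    (hχ : IsCharacter A χ) (h : IsIrrCharacter Y (fun t : Y => χ t)) : IsIrrCharacter A χ := by
  classical
  letI := Fintype.ofFinite A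
  letI : Fintype Y := Fintype.ofFinite Y
  obtain ⟨m, rfl⟩ := exists_nat_decomp hχ
  -- the inner product on the subgroup
  have hdecompY : (fun t : Y => (∑ i, m i • (i : A → ℂ)) t) =
      ∑ i, m i • (fun t : Y => ((i : IrrCharacter A) : A → ℂ) t) := by
    funext t
    simp [Finset.sum_apply]
  have hinner : classInner (fun t : Y => (∑ i, m i • (i : A → ℂ)) t)
      (fun t : Y => (∑ i, m i • (i : A → ℂ)) t) = 1 := classInner_irr_self h
  have h1 : ∃ i, m i ≠ 0 ∧ classInner (fun t : Y => ((i : IrrCharacter A) : A → ℂ) t)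
      (fun t : Y => (∑ i, m i • (i : A → ℂ)) t) ≠ 0 := by
    by_contra hcon
    push Not at hcon
    rw [hdecompY] at hinner
    have h2 : classInner (∑ i, m i • (fun t : Y => ((i : IrrCharacter A) : A → ℂ) t))
        (∑ i, m i • (fun t : Y => ((i : IrrCharacter A) : A → ℂ) t)) = 0 := by
      rw [classInner_sum_left]
      refine Finset.sum_eq_zero fun i _ => ?_
      by_cases hi : m i = 0
      · rw [hi, zero_smul, classInner_zero_left]
      · rw [← Nat.cast_smul_eq_nsmul ℂ, classInner_smul_left]
        have h3 := hcon i hi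
        rw [hdecompY] at h3
        rw [h3, mul_zero]
    rw [h2] at hinner
    exact zero_ne_one hinner
  obtain ⟨i, hi, hi2⟩ := h1
  have hic : IsCharacter Y (fun t : Y => ((i : IrrCharacter A) : A → ℂ) t) :=
    isCharacter_restrict Y (IsIrrCharacter.isCharacter i.2)
  obtain ⟨m', hm'⟩ := exists_nat_decomp hic
  set ψ : IrrCharacter Y := ⟨_, h⟩ with hψ
  have hm'ne : m' ψ ≠ 0 := by
    intro h0
    apply hi2
    rw [hm']
    have := classInner_nat_decomp m' _ ψ.2
    show classInner (∑ j, m' j • (j : Y → ℂ)) (ψ : Y → ℂ) = 0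
    rw [this, h0]
    simp
  have hdle : charDegree (ψ : Y → ℂ) ≤ charDegree ((i : IrrCharacter A) : A → ℂ) := by
    have h2 := degree_le_of_constituent m' (n := charDegree ((i : IrrCharacter A) : A → ℂ))
      (by
        rw [← hm']
        show ((i : IrrCharacter A) : A → ℂ) ((1 : Y) : A) = _
        exact one_eq_charDegree (IsIrrCharacter.isCharacter i.2)) ψ hm'ne
    exact h2
  have hdeq : charDegree (ψ : Y → ℂ) = charDegree (∑ j, m j • (j : A → ℂ)) := rfl
  have hsum : charDegree (∑ j, m j • (j : A → ℂ)) = ∑ j, m j * charDegree (j : A → ℂ) := by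
    have h1 : (∑ i, m i • (i : A → ℂ)) 1 = ((∑ i, m i * charDegree (i : A → ℂ) : ℕ) : ℂ) := by
      simp only [Finset.sum_apply, Pi.smul_apply]
      push_cast
      refine Finset.sum_congr rfl fun i _ => ?_
      rw [one_eq_charDegree (IsIrrCharacter.isCharacter i.2)]
      simp
    show ⌊((∑ i, m i • (i : A → ℂ)) 1).re⌋₊ = _
    rw [h1, Complex.natCast_re, Nat.floor_natCast]
  have hsingle : ∑ j, m j • (j : A → ℂ) = ((i : IrrCharacter A) : A → ℂ) := by
    apply eq_single_of_degree m i hi
    apply le_antisymm
    · exact Finset.single_le_sum (f := fun j : IrrCharacter A => m j * charDegree (j : A → ℂ))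
        (fun _ _ => Nat.zero_le _) (Finset.mem_univ i) |>.trans' (Nat.le_mul_of_pos_left _ (Nat.pos_of_ne_zero hi))
    · rw [← hsum, ← hdeq]
      exact hdle
  rw [hsingle]
  exact i.2

section Main

/-- An automorphism of `p`-power order of a `q`-group preserving a faithful character of degree
`n`, `n + 1 ≤ p`, is trivial, or `n + 1 = p`, `n` is a power of `2` and the character is irreducible. -/
theorem aut_main (p q n : ℕ) (hp : p.Prime) (hq : q.Prime) (hpq : p ≠ q) (hlt : n + 1 ≤ p)
    (N : ℕ) : ∀ (A : Type u) [Group A] [Finite A], Nat.card A = N → IsPGroup q A →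
      ∀ (α : A ≃* A) (k : ℕ), (∀ y, (⇑α)^[p ^ k] y = y) → ∀ χ : A → ℂ, IsCharacter A χ →
      (∀ y, χ (α y) = χ y) → (∀ y, χ y = χ 1 → y = 1) → χ 1 = n →
      (∀ y, α y = y) ∨ (n + 1 = p ∧ (∃ j, n = 2 ^ j) ∧ IsIrrCharacter A χ) := by
  induction N using Nat.strong_induction_on with
  | _ N ih =>
    intro A _ _ hcard hA α k hα χ hχ hinv hf hn
    classical
    letI := Fintype.ofFinite A
    haveI := Fact.mk hp
    haveI := Fact.mk hq
    by_cases hne : ∀ y, α y = y
    · exact Or.inl hne
    right
    push Not at hne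
    obtain ⟨y₀, hy₀⟩ := hne
    have hcop : Nat.Coprime p q := (Nat.coprime_primes hp hq).mpr hpq
    by_cases hinvsub : ∀ Y : Subgroup A, (∀ y ∈ Y, α y ∈ Y) → Y ≠ ⊤ → ∀ y ∈ Y, α y = y
    swap
    · -- a proper invariant subgroup on which `α` acts nontrivially
      push Not at hinvsub
      obtain ⟨Y, hY, hne, y, hy, hyne⟩ := hinvsub
      have hlt' : Nat.card Y < N := by
        rw [← hcard, ← Subgroup.card_mul_index Y]
        have h1 := Subgroup.one_lt_index_of_ne_top hne
        have h2 : 0 < Nat.card Y := Nat.card_pos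
        nlinarith
      have h3 := ih _ hlt' Y rfl (hA.to_subgroup Y) (restrictAut α Y hY) k
        (fun t => Subtype.ext (by rw [restrictAut_iterate, hα])) (fun t : Y => χ t)
        (isCharacter_restrict Y hχ) (fun t => hinv t)
        (fun t ht => Subtype.ext (hf t ht)) hn
      rcases h3 with h3 | ⟨h3, h4, h5⟩
      · exact absurd (congrArg Subtype.val (h3 ⟨y, hy⟩)) hyne
      · exact ⟨h3, h4, irr_of_restrict Y hχ h5⟩
    -- the subgroup generated by the displacements
    let w : A → A := fun y => y⁻¹ * α y
    let W : Subgroup A := Subgroup.closure (Set.range w)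
    have hWinv : ∀ y ∈ W, α y ∈ W := by
      intro y hy
      induction hy using Subgroup.closure_induction with
      | mem x hx =>
        obtain ⟨t, rfl⟩ := hx
        have h1 : α (w t) = w (α t) := by simp [w]
        rw [h1]
        exact Subgroup.subset_closure ⟨_, rfl⟩
      | one => simp [one_mem]
      | mul a b _ _ ha hb =>
        rw [map_mul]
        exact mul_mem ha hb
      | inv a _ ha =>
        rw [map_inv]
        exact inv_mem ha
    have hWtop : W = ⊤ := by
      by_contra hWne
      have hfix := hinvsub W hWinv hWne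
      apply hy₀
      have hw : α (w y₀) = w y₀ := hfix _ (Subgroup.subset_closure ⟨y₀, rfl⟩)
      have hstep : α y₀ = y₀ * w y₀ := by simp [w]
      have hit : ∀ j, (⇑α)^[j] y₀ = y₀ * (w y₀) ^ j := by
        intro j
        induction j with
        | zero => simp
        | succ j ih' =>
          rw [Function.iterate_succ', Function.comp_apply, ih', map_mul, map_pow, hw, hstep,
            pow_succ', mul_assoc]
      have h1 := hα y₀
      rw [hit] at h1
      have h2 : (w y₀) ^ (p ^ k) = 1 := mul_eq_left.mp h1
      obtain ⟨m, hm⟩ := hA (w y₀)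
      have h3 : orderOf (w y₀) ∣ p ^ k := orderOf_dvd_of_pow_eq_one h2
      have h4 : orderOf (w y₀) ∣ q ^ m := orderOf_dvd_of_pow_eq_one hm
      have h5 : Nat.Coprime (p ^ k) (q ^ m) := Nat.Coprime.pow k m hcop
      have h6 : orderOf (w y₀) = 1 := Nat.Coprime.eq_one_of_dvd (h5.coprime_dvd_left h3) h4
      rw [orderOf_eq_one_iff] at h6
      rw [hstep, h6, mul_one]
    -- the commutator subgroup is fixed
    have hy₀1 : y₀ ≠ 1 := by
      intro h
      apply hy₀
      rw [h, map_one]
    haveI : Nontrivial A := ⟨y₀, 1, hy₀1⟩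
    haveI : Group.IsNilpotent A := hA.isNilpotent
    have hcne : commutator A ≠ ⊤ := (Group.IsSolvable.commutator_lt_top_of_nontrivial A).ne
    have hcfix : ∀ y ∈ commutator A, α y = y := by
      apply hinvsub _ _ hcne
      intro y hy
      have h1 := (Subgroup.characteristic_iff_le_comap.mp
        (inferInstance : (commutator A).Characteristic)) α hy
      exact h1
    have hcommem : ∀ a b : A, a * b * a⁻¹ * b⁻¹ ∈ commutator A := by
      intro a b
      exact Subgroup.commutator_mem_commutator (Subgroup.mem_top a) (Subgroup.mem_top b)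
    -- fixed elements are central
    have hcentral : ∀ c, α c = c → ∀ y, y * c = c * y := by
      intro c hc y
      have hle : W ≤ Subgroup.centralizer ({c} : Set A) := by
        rw [Subgroup.closure_le]
        rintro _ ⟨t, rfl⟩
        have h1 := hcfix _ (hcommem t c)
        simp only [map_mul, map_inv, hc] at h1
        have h2 : α t * c * (α t)⁻¹ = t * c * t⁻¹ := mul_right_cancel h1
        show w t ∈ Subgroup.centralizer ({c} : Set A)
        rw [Subgroup.mem_centralizer_singleton_iff]
        show t⁻¹ * α t * c = c * (t⁻¹ * α t)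
        have h3 : α t * c = t * c * t⁻¹ * α t := by
          rw [← h2]
          group
        rw [mul_assoc, h3]
        group
      have hy : y ∈ W := by rw [hWtop]; exact Subgroup.mem_top y
      exact Subgroup.mem_centralizer_singleton_iff.mp (hle hy)
    -- decomposition
    have hχ₀ := hχ
    obtain ⟨m, hm⟩ := exists_nat_decomp hχ
    subst hm
    have hval : ∀ y, (∑ i, m i • (i : A → ℂ)) y = ∑ i, (m i : ℂ) * (i : A → ℂ) y := by
      intro y
      simp [Finset.sum_apply]
    have hconst := constituent_invariant p k n hp α hα m hinv hn (by omega)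
    -- a nonlinear constituent
    obtain ⟨θ, hθm, hθ1⟩ : ∃ θ : IrrCharacter A, m θ ≠ 0 ∧ (θ : A → ℂ) 1 ≠ 1 := by
      by_contra hcon
      push Not at hcon
      apply hy₀
      have h1 : (∑ i, m i • (i : A → ℂ)) (α y₀ * y₀⁻¹) = (∑ i, m i • (i : A → ℂ)) 1 := by
        rw [hval, hval]
        refine Finset.sum_congr rfl fun i _ => ?_
        by_cases hi : m i = 0
        · simp [hi]
        · congr 1
          obtain ⟨f, hf'⟩ := exists_hom_of_degree_one (IsIrrCharacter.isCharacter i.2) (hcon i hi)
          have h2 := hconst i hi y₀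
          rw [hf', hf'] at h2
          have h3 : f (α y₀) = f y₀ := Units.ext h2
          rw [hf', hf', map_mul, map_inv, h3, mul_inv_cancel, map_one]
      have h2 := hf _ h1
      exact mul_inv_eq_one.mp h2
    have hθc := IsIrrCharacter.isCharacter θ.2
    have hθinv := hconst θ hθm
    set d : ℕ := charDegree (θ : A → ℂ) with hd
    have hθd : (θ : A → ℂ) 1 = d := one_eq_charDegree hθc
    have hd2 : 2 ≤ d := by
      have h1 := charDegree_pos θ.2
      have h2 : d ≠ 1 := by
        intro h3
        apply hθ1
        rw [hθd, h3]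
        simp
      omega
    have hdn : d ≤ n := by
      have hsum : (n : ℕ) = ∑ i, m i * charDegree (i : A → ℂ) := by
        have h1 : (∑ i, m i • (i : A → ℂ)) 1 = ((∑ i, m i * charDegree (i : A → ℂ) : ℕ) : ℂ) := by
          simp only [Finset.sum_apply, Pi.smul_apply]
          push_cast
          refine Finset.sum_congr rfl fun i _ => ?_
          rw [one_eq_charDegree (IsIrrCharacter.isCharacter i.2)]
          simp
        rw [hn] at h1
        exact_mod_cast h1
      rw [hsum]
      calc d ≤ m θ * d := Nat.le_mul_of_pos_left d (Nat.pos_of_ne_zero hθm)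
        _ ≤ _ := Finset.single_le_sum (f := fun i : IrrCharacter A => m i * charDegree (i : A → ℂ))
          (fun _ _ => Nat.zero_le _) (Finset.mem_univ θ)
    -- the second centre modulo the kernel
    let K : Subgroup A := charKer hθc
    haveI hKn : K.Normal := charKer_normal hθc
    let Z₁ : Subgroup A :=
      { carrier := {y | ∀ u, u * y * u⁻¹ * y⁻¹ ∈ K}
        one_mem' := by
          intro u
          simp [one_mem]
        mul_mem' := by
          intro a b ha hb u
          have h1 : u * (a * b) * u⁻¹ * (a * b)⁻¹ =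
              (u * a * u⁻¹ * a⁻¹) * (a * (u * b * u⁻¹ * b⁻¹) * a⁻¹) := by group
          rw [h1]
          exact mul_mem (ha u) (hKn.conj_mem _ (hb u) a)
        inv_mem' := by
          intro a ha u
          have h1 : u * a⁻¹ * u⁻¹ * a⁻¹⁻¹ = a⁻¹ * (u * a * u⁻¹ * a⁻¹)⁻¹ * a⁻¹⁻¹ := by group
          rw [h1]
          exact hKn.conj_mem _ (inv_mem (ha u)) a⁻¹ }
    have hZ₁inv : ∀ y ∈ Z₁, α y ∈ Z₁ := by
      intro y hy u
      have h1 : u * α y * u⁻¹ * (α y)⁻¹ = α (α.symm u * y * (α.symm u)⁻¹ * y⁻¹) := by
        simp only [map_mul, map_inv, MulEquiv.apply_symm_apply]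
      rw [h1]
      show (θ : A → ℂ) (α _) = (θ : A → ℂ) 1
      rw [hθinv]
      exact hy (α.symm u)
    have hZ₁ne : Z₁ ≠ ⊤ := by
      intro htop
      apply hθ1
      have hmem : ∀ a b : A, a * b * a⁻¹ * b⁻¹ ∈ K := fun a b =>
        (show b ∈ Z₁ by rw [htop]; exact Subgroup.mem_top b) a
      obtain ⟨θ', hθ', hθθ'⟩ := exists_quotient_irr K θ.2 (fun x hx => hx)
      have hc : ∀ a b : A ⧸ K, a * b = b * a := by
        intro a b
        induction a using QuotientGroup.induction_on with
        | H a =>
          induction b using QuotientGroup.induction_on with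
          | H b =>
            rw [← QuotientGroup.mk_mul, ← QuotientGroup.mk_mul, QuotientGroup.eq]
            have h1 := hmem b⁻¹ a⁻¹
            have h2 : b⁻¹ * a⁻¹ * b⁻¹⁻¹ * a⁻¹⁻¹ = (a * b)⁻¹ * (b * a) := by group
            rw [h2] at h1
            exact h1
      have h1 := Cfsg.Agent.Lib.CharCodegP.irr_one_of_comm hc hθ'
      have h2 := hθθ' 1
      rw [QuotientGroup.mk_one, h1] at h2
      exact h2.symm
    have hZ₁fix := hinvsub Z₁ hZ₁inv hZ₁ne
    -- vanishing
    have hvanish : ∀ y, α y ≠ y → (θ : A → ℂ) y = 0 := by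
      intro y hy
      have hyZ : y ∉ Z₁ := fun h => hy (hZ₁fix y h)
      have h1 : ∃ u, u * y * u⁻¹ * y⁻¹ ∉ K := by
        by_contra hcon
        push Not at hcon
        exact hyZ hcon
      obtain ⟨u, hu⟩ := h1
      set z := u * y * u⁻¹ * y⁻¹ with hz
      have hzfix : α z = z := hcfix _ (hcommem u y)
      have hzc : ∀ g, z * g = g * z := fun g => (hcentral z hzfix g).symm
      have h2 := Cfsg.Agent.Lib.CharCentral.central_mul θ.2 hzc y
      have h3 : z * y = u * y * u⁻¹ := by
        rw [hz]
        group
      rw [h3, isClassFunction_of_isCharacter hθc] at h2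
      have h4 : ((θ : A → ℂ) 1 - (θ : A → ℂ) z) * (θ : A → ℂ) y = 0 := by
        rw [sub_mul, h2, sub_self]
      rcases mul_eq_zero.mp h4 with h5 | h5
      · exact absurd (sub_eq_zero.mp h5).symm hu
      · exact h5
    -- the count
    let Cs : Finset A := Finset.univ.filter (fun y => α y = y)
    have hnorm : Nat.card A = Cs.card * d ^ 2 := by
      have h1 := classInner_irr_self θ.2
      have hne : (Nat.card A : ℂ) ≠ 0 := natCard_ne_zero'
      unfold classInner at h1
      have h2 : ∑ y, (θ : A → ℂ) y * conj ((θ : A → ℂ) y) = (Nat.card A : ℂ) := by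
        field_simp at h1
        exact h1
      have h3 : ∑ y, (θ : A → ℂ) y * conj ((θ : A → ℂ) y) = ((Cs.card * d ^ 2 : ℕ) : ℂ) := by
        rw [← Finset.sum_filter_add_sum_filter_not Finset.univ (fun y => α y = y)]
        have h4 : ∑ y ∈ Finset.univ.filter (fun y => ¬ α y = y),
            (θ : A → ℂ) y * conj ((θ : A → ℂ) y) = 0 := by
          refine Finset.sum_eq_zero fun y hy => ?_
          rw [hvanish y (Finset.mem_filter.mp hy).2, zero_mul]
        have h5 : ∑ y ∈ Finset.univ.filter (fun y => α y = y),
            (θ : A → ℂ) y * conj ((θ : A → ℂ) y) = ∑ y ∈ Cs, (d : ℂ) * d := by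
          refine Finset.sum_congr rfl fun y hy => ?_
          have hy' : α y = y := (Finset.mem_filter.mp hy).2
          rw [Cfsg.Agent.Lib.CharCentral.central_norm θ.2 (fun g => (hcentral y hy' g).symm), hθd]
        rw [h4, h5, add_zero]
        simp [sq]
      rw [h3] at h2
      exact_mod_cast h2.symm
    -- fixed points modulo `p`
    let Γ : Subgroup (MulAut A) := Subgroup.zpowers (α : MulAut A)
    have hαpow : (α : MulAut A) ^ (p ^ k) = 1 := by
      ext y
      have h1 : ((α : MulAut A) ^ (p ^ k)) y = (⇑α)^[p ^ k] y := by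
        have h2 : ∀ j, ((α : MulAut A) ^ j) y = (⇑α)^[j] y := by
          intro j
          induction j with
          | zero => rfl
          | succ j ih' =>
            rw [Function.iterate_succ', Function.comp_apply, ← ih', pow_succ']
            rfl
        exact h2 _
      rw [h1, hα]
      rfl
    have hΓ : IsPGroup p Γ := by
      rintro ⟨γ, hγ⟩
      obtain ⟨i, rfl⟩ := Subgroup.mem_zpowers_iff.mp hγ
      refine ⟨k, Subtype.ext ?_⟩
      show ((α : MulAut A) ^ i) ^ (p ^ k) = 1
      rw [← zpow_natCast, ← zpow_mul, mul_comm, zpow_mul, zpow_natCast, hαpow, one_zpow]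
    have hmod := hΓ.card_modEq_card_fixedPoints A
    have hfixcard : Nat.card (MulAction.fixedPoints Γ A) = Cs.card := by
      have h1 : (Cs : Set A) = MulAction.fixedPoints Γ A := by
        ext y
        simp only [Cs, Finset.coe_filter, Finset.mem_univ, true_and, Set.mem_ofPred_eq,
          MulAction.mem_fixedPoints]
        constructor
        · intro hy γ
          have h2 : Γ ≤ MulAction.stabilizer (MulAut A) y := by
            apply Subgroup.zpowers_le.mpr
            exact hy
          exact h2 γ.2
        · intro hy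
          exact hy ⟨(α : MulAut A), Subgroup.mem_zpowers _⟩
      rw [← h1]
      simp
    rw [hfixcard] at hmod
    -- arithmetic
    have hCcop : Nat.Coprime Cs.card p := by
      let C : Subgroup A :=
        { carrier := {y | α y = y}
          one_mem' := map_one α
          mul_mem' := by
            intro a b ha hb
            show α (a * b) = a * b
            rw [map_mul, show α a = a from ha, show α b = b from hb]
          inv_mem' := by
            intro a ha
            show α a⁻¹ = a⁻¹
            rw [map_inv, show α a = a from ha] }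
      have h1 : Cs.card = Nat.card C := by
        rw [Nat.card_eq_fintype_card, Fintype.card_subtype]
        rfl
      have h2 := hA.to_subgroup C
      obtain ⟨s, hs⟩ := IsPGroup.iff_card.mp h2
      rw [h1, hs]
      exact (Nat.Coprime.pow_left s hcop.symm)
    rw [hnorm] at hmod
    have h1 : Cs.card * d ^ 2 ≡ Cs.card * 1 [MOD p] := by
      rw [mul_one]
      exact hmod
    have h2 : d ^ 2 ≡ 1 [MOD p] := Nat.ModEq.cancel_left_of_coprime hCcop.symm h1
    have h3 : p ∣ d ^ 2 - 1 := (Nat.modEq_iff_dvd' (Nat.one_le_pow _ _ (by omega))).mp h2.symm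
    have h4 : ∀ d' : ℕ, 2 ≤ d' → d' ^ 2 - 1 = (d' - 1) * (d' + 1) := by
      intro d' hd'
      obtain ⟨e, rfl⟩ : ∃ e, d' = e + 1 := ⟨d' - 1, by omega⟩
      simp only [Nat.add_sub_cancel]
      have : (e + 1) ^ 2 = e * (e + 1 + 1) + 1 := by ring
      rw [this, Nat.add_sub_cancel]
    rw [h4 d hd2] at h3
    rcases hp.dvd_mul.mp h3 with h5 | h5
    · have h6 := Nat.le_of_dvd (by omega) h5
      omega
    · have h6 := Nat.le_of_dvd (by omega) h5
      have hdeq : d = n := by omega
      have hnp : n + 1 = p := by omega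
      refine ⟨hnp, ?_, ?_⟩
      · -- `n` is a power of `2`
        have hdq : d ∣ Nat.card A := charDegree_dvd_card θ.2
        obtain ⟨s, hs⟩ := IsPGroup.iff_card.mp hA
        rw [hs] at hdq
        obtain ⟨j, -, hj⟩ := (Nat.dvd_prime_pow hq).mp hdq
        have hp2 : p ≠ 2 := by
          intro h2
          omega
        have hodd : Odd p := hp.odd_of_ne_two hp2
        have heven : Even d := by
          have : d + 1 = p := by omega
          rw [← this] at hodd
          by_contra hcon
          rw [Nat.not_even_iff_odd] at hcon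
          exact (Nat.not_even_iff_odd.mpr hodd) (hcon.add_one)
        have hq2 : q = 2 := by
          rw [hj] at heven
          have h7 : 2 ∣ q ^ j := heven.two_dvd
          have h8 := hq.eq_one_or_self_of_dvd 2 (Nat.prime_two.dvd_of_dvd_pow h7)
          omega
        refine ⟨j, ?_⟩
        rw [← hdeq, hj, hq2]
      · -- the character is `θ`
        have hsum : (n : ℕ) = ∑ i, m i * charDegree (i : A → ℂ) := by
          have h1 : (∑ i, m i • (i : A → ℂ)) 1 = ((∑ i, m i * charDegree (i : A → ℂ) : ℕ) : ℂ) := by
            simp only [Finset.sum_apply, Pi.smul_apply]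
            push_cast
            refine Finset.sum_congr rfl fun i _ => ?_
            rw [one_eq_charDegree (IsIrrCharacter.isCharacter i.2)]
            simp
          rw [hn] at h1
          exact_mod_cast h1
        have h9 := eq_single_of_degree m θ hθm (by rw [← hsum]; exact hdeq)
        rw [h9]
        exact θ.2

/-- A `p`-element normalizing a `q`-subgroup centralizes it, unless we are in the exceptional case. -/
theorem centralize_or {G : Type u} [Group G] [Finite G] {χ : G → ℂ} (hχ : IsCharacter G χ)
    (hf : ∀ g, χ g = χ 1 → g = 1) {n : ℕ} (hn : χ 1 = n) (p q : ℕ) (hp : p.Prime) (hq : q.Prime)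
    (hpq : p ≠ q) (hlt : n + 1 ≤ p) (R : Subgroup G) (hR : IsPGroup q R) (x : G) (k : ℕ)
    (hx : x ^ (p ^ k) = 1) (hxR : ∀ r ∈ R, x * r * x⁻¹ ∈ R) :
    (∀ r ∈ R, x * r * x⁻¹ = r) ∨ (n + 1 = p ∧ (∃ j, n = 2 ^ j) ∧ IsIrrCharacter G χ) := by
  classical
  have hmem : ∀ y ∈ R, (MulAut.conj x) y ∈ R := fun y hy => hxR y hy
  let α : R ≃* R := restrictAut (MulAut.conj x) R hmem
  have hit : ∀ (j : ℕ) (y : G), (⇑(MulAut.conj x))^[j] y = x ^ j * y * (x ^ j)⁻¹ := by
    intro j y
    induction j with
    | zero => simp
    | succ j ih =>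
      rw [Function.iterate_succ', Function.comp_apply, ih, MulAut.conj_apply, pow_succ']
      group
  have h1 := aut_main.{u} p q n hp hq hpq hlt _ R rfl hR α k
    (fun y => Subtype.ext (by
      rw [restrictAut_iterate, hit, hx]
      simp))
    (fun y : R => χ y) (isCharacter_restrict R hχ)
    (fun y => isClassFunction_of_isCharacter hχ (y : G) x)
    (fun y hy => Subtype.ext (hf _ hy))
    hn
  rcases h1 with h1 | ⟨h2, h3, h4⟩
  · left
    intro r hr
    exact congrArg Subtype.val (h1 ⟨r, hr⟩)
  · exact Or.inr ⟨h2, h3, irr_of_restrict R hχ h4⟩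

/-- The local hypothesis. -/
def HL (p : ℕ) (G : Type u) [Group G] : Prop :=
  ∀ q : ℕ, q.Prime → q ≠ p → ∀ R : Subgroup G, IsPGroup q R → ∀ (x : G) (k : ℕ),
      x ^ (p ^ k) = 1 → (∀ r ∈ R, x * r * x⁻¹ ∈ R) → ∀ r ∈ R, x * r * x⁻¹ = r

theorem HL_subgroup {p : ℕ} {G : Type u} [Group G] (h : HL p G) (M : Subgroup G) : HL p M := by
  intro q hq hqp R hR x k hx hxR r hr
  have h1 := h q hq hqp (R.map M.subtype) (hR.map M.subtype) (x : G) k
    (by exact_mod_cast congrArg Subtype.val hx)
    (by
      rintro _ ⟨y, hy, rfl⟩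
      exact ⟨_, hxR y hy, rfl⟩)
    (r : G) ⟨r, hr, rfl⟩
  exact Subtype.ext h1

/-- A `p`-solvable group satisfying the local hypothesis has normal Sylow `p`-subgroups. -/
theorem normal_of_HL (p : ℕ) [hp : Fact p.Prime] (N : ℕ) : ∀ (G : Type u) [Group G] [Finite G],
    Nat.card G = N → IsPSolvable p G → HL p G → ∀ P : Sylow p G, (P : Subgroup G).Normal := by
  induction N using Nat.strong_induction_on with
  | _ N ih =>
    intro G _ _ hcard hsol hL P
    classical
    have hpp := hp.out
    have hsmall : ∀ M : Subgroup G, M ≠ ⊤ → ∀ Q : Sylow p M, (Q : Subgroup M).Normal := by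
      intro M hM Q
      have hlt' : Nat.card M < N := by
        rw [← hcard, ← Subgroup.card_mul_index M]
        have h1 := Subgroup.one_lt_index_of_ne_top hM
        have h2 : 0 < Nat.card M := Nat.card_pos
        nlinarith
      exact ih _ hlt' M rfl (Cfsg.Agent.Lib.PSolv.isPSolvable_subgroup hsol M) (HL_subgroup hL M) Q
    obtain ⟨n, H, h0, hlast, hmono, hnorm, hidx⟩ := hsol
    by_cases hbot : (⊤ : Subgroup G) = ⊥
    · have h1 : (P : Subgroup G) = ⊥ := by
        rw [eq_bot_iff, ← hbot]
        exact le_top
      exact h1 ▸ (inferInstance : (⊥ : Subgroup G).Normal)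
    -- the top step of the chain
    have hex : ∃ i : Fin n, H i.castSucc ≠ ⊤ ∧ H i.succ = ⊤ := by
      by_contra hcon
      push Not at hcon
      have hall : ∀ (j : ℕ) (hj : j ≤ n), H ⟨n - j, by omega⟩ = ⊤ := by
        intro j
        induction j with
        | zero =>
          intro _
          simpa [Fin.last] using hlast
        | succ j ihj =>
          intro hj
          have h1 := ihj (by omega)
          by_contra hne
          have h2 := hcon ⟨n - (j + 1), by omega⟩ hne
          apply h2
          have h3 : (⟨n - (j + 1), by omega⟩ : Fin n).succ = ⟨n - j, by omega⟩ := by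
            apply Fin.ext
            simp only [Fin.val_succ]
            omega
          rw [h3, h1]
      have h1 := hall n le_rfl
      have h2 : (⟨n - n, by omega⟩ : Fin (n + 1)) = 0 := by
        apply Fin.ext
        simp
      rw [h2, h0] at h1
      exact hbot h1.symm
    obtain ⟨i, hi1, hi2⟩ := hex
    haveI hMn : (H i.castSucc).Normal := hnorm _
    set M₀ := H i.castSucc with hM₀
    have hidx' : (∃ m : ℕ, M₀.index = p ^ m) ∨ M₀.index.Coprime p := by
      have h1 := hidx i
      rw [hi2, Subgroup.relIndex_top_right] at h1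
      exact h1
    rcases hidx' with ⟨m, hm⟩ | hcop
    · -- a normal subgroup of index `p`
      have hm0 : m ≠ 0 := by
        intro h
        rw [h, pow_zero, Subgroup.index_eq_one] at hm
        exact hi1 hm
      have hcardQ : Nat.card (G ⧸ M₀) = p ^ m := hm
      obtain ⟨K, hK⟩ := Sylow.exists_subgroup_card_pow_prime (G := G ⧸ M₀) p
        (n := m - 1) (by
          rw [hcardQ]
          exact pow_dvd_pow p (by omega))
      have hKidx : K.index = p := by
        have h1 := Subgroup.card_mul_index K
        rw [hK, hcardQ] at h1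
        have h2 : p ^ m = p ^ (m - 1) * p := by
          rw [← pow_succ]
          congr 1
          omega
        rw [h2] at h1
        exact Nat.eq_of_mul_eq_mul_left (pow_pos hpp.pos _) h1
      have hKn : K.Normal := by
        apply Subgroup.normal_of_index_eq_minFac_card
        rw [hKidx, hcardQ]
        exact (Nat.Prime.pow_minFac hpp hm0).symm
      let M : Subgroup G := K.comap (QuotientGroup.mk' M₀)
      haveI hMnorm : M.Normal := hKn.comap _
      have hMidx : M.index = p := by
        show (K.comap (QuotientGroup.mk' M₀)).index = p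
        rw [Subgroup.index_comap_of_surjective _ (QuotientGroup.mk'_surjective M₀), hKidx]
      have hMne : M ≠ ⊤ := by
        intro h
        rw [h, Subgroup.index_top] at hMidx
        exact hpp.ne_one hMidx.symm
      exact normal_of_index_eq p hL M (hsmall M hMne) hMidx P
    · -- index prime to `p`
      have hPM : (P : Subgroup G) ≤ M₀ := by
        obtain ⟨g, hg⟩ := Cfsg.Agent.Lib.Hall.exists_conj_le_of_not_dvd_index (p := p)
          (N := (P : Subgroup G)) (H := M₀) P.isPGroup'
          ((Nat.Prime.coprime_iff_not_dvd hpp).mp hcop.symm)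
        intro x hx
        have h1 := hg hx
        rw [Subgroup.mem_pointwise_smul_iff_inv_smul_mem] at h1
        have h2 := hMn.conj_mem _ h1 g
        have h3 : g * ((MulAut.conj g)⁻¹ • x) * g⁻¹ = x := by
          show g * ((MulAut.conj g)⁻¹ x) * g⁻¹ = x
          rw [MulAut.conj_inv_apply]
          group
        rwa [h3] at h2
      exact normal_of_le_normal p M₀ (hsmall M₀ hi1) P hPM

end Main

theorem result {G : Type*} [Group G] [Finite G] (χ : G → ℂ) (hχ : Cfsg.IsCharacter G χ) (hfaith : ∀ g : G, χ g = χ 1 → g = 1) (n : ℕ) (hn : Cfsg.charDegree χ = n) (p : ℕ) (hp : p.Prime) (hsolv : Cfsg.IsPSolvable p G) (hnp : n + 1 ≤ p) (P : Sylow p G) (hP : ¬ (P : Subgroup G).Normal) : n + 1 = p ∧ (∃ k : ℕ, n = 2 ^ k) ∧ Cfsg.IsIrrCharacter G χ := by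
  classical
  haveI := Fact.mk hp
  have hn1 : χ 1 = n := by
    rw [← hn]
    exact one_eq_charDegree hχ
  by_cases hL : HL p G
  · exact absurd (normal_of_HL p _ G rfl hsolv hL P) hP
  · unfold HL at hL
    push Not at hL
    obtain ⟨q, hq, hqp, R, hR, x, k, hx, hxR, r, hr, hne⟩ := hL
    rcases centralize_or hχ hfaith hn1 p q hp hq hqp.symm hnp R hR x k hx hxR with h | h
    · exact absurd (h r hr) hne
    · exact h

end Cfsg.Agent.S4468
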