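import Mathlib
import Cfsg.Statements.S4571
import Cfsg.Agent.Lib.DefectCount
import Cfsg.Agent.Lib.BlockPrincipal
import Cfsg.Agent.Lib.BlockNormal

set_option autoImplicit false
set_option linter.style.haveILetI false
set_option linter.unusedVariables false
set_option linter.unusedSectionVars false
open Cfsg

namespace Cfsg.Agent.S4571

open Cfsg.Agent.Lib.CharBasic Cfsg.Agent.Lib.BlockLocal Cfsg.Agent.Lib.BlockIdem
open Cfsg.Agent.Lib.DefectCount Cfsg.Agent.Lib.BlockOrtho Cfsg.Agent.Lib.BlockNormal
open Cfsg.Agent.Lib.BlockPrincipal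

universe u

section Facts

variable {G : Type u} [Group G] [Finite G] {p : ℕ} [hp : Fact p.Prime] {Q : Subgroup G}

/-- `p`-regular elements centralize `Q`. -/
theorem reg_mem_centralizer [hQn : Q.Normal] (hQ : IsPGroup p Q)
    (hsup : Q ⊔ Subgroup.centralizer (Q : Set G) = ⊤) {x : G} (hx : ¬ p ∣ orderOf x) :
    x ∈ Subgroup.centralizer (Q : Set G) := by
  classical
  have h1 : x ∈ (Q ⊔ Subgroup.centralizer (Q : Set G) : Subgroup G) := by
    rw [hsup]
    exact Subgroup.mem_top x
  have h2 : x ∈ ((Q ⊔ Subgroup.centralizer (Q : Set G) : Subgroup G) : Set G) := h1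
  rw [Subgroup.normal_mul] at h2
  obtain ⟨q, hq, c, hc, rfl⟩ := Set.mem_mul.mp h2
  have hcomm : Commute q c := Subgroup.mem_centralizer_iff.mp hc q hq
  obtain ⟨n, hn⟩ := IsPGroup.iff_card.mp hQ
  have h3 : q ^ Nat.card Q = 1 := by
    have h4 : (⟨q, hq⟩ : Q) ^ Nat.card Q = 1 := pow_card_eq_one'
    have h5 : ((⟨q, hq⟩ : Q) ^ Nat.card Q : Q).1 = ((1 : Q) : G) := congrArg Subtype.val h4
    exact h5
  have h6 : (q * c) ^ Nat.card Q = c ^ Nat.card Q := by
    rw [hcomm.mul_pow, h3, one_mul]
  have hcop : (Nat.card Q).Coprime (orderOf (q * c)) := by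
    rw [hn]
    apply Nat.Coprime.pow_left
    exact (Nat.Prime.coprime_iff_not_dvd hp.out).mpr hx
  obtain ⟨j, hj⟩ := exists_pow_eq_self_of_coprime hcop
  rw [← hj, h6]
  exact Subgroup.pow_mem _ (Subgroup.pow_mem _ hc _) _

/-- Two `p`-regular elements in a coset of `Q` are equal. -/
theorem reg_unique [hQn : Q.Normal] (hQ : IsPGroup p Q)
    (hsup : Q ⊔ Subgroup.centralizer (Q : Set G) = ⊤) {x y : G} (hx : ¬ p ∣ orderOf x)
    (hy : ¬ p ∣ orderOf y) (hxy : x⁻¹ * y ∈ Q) : x = y := by
  set z := x⁻¹ * y with hz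
  have h1 : y = x * z := by rw [hz, mul_inv_cancel_left]
  have hC := reg_mem_centralizer hQ hsup hx
  have hcomm : Commute z x := by
    exact Subgroup.mem_centralizer_iff.mp hC z hxy
  obtain ⟨k, hk⟩ := hQ ⟨z, hxy⟩
  have hk' : z ^ p ^ k = 1 := by
    have := congrArg Subtype.val hk
    simpa using this
  have h2 : z * x = y := by rw [hcomm.eq, ← h1]
  have h3 := Cfsg.Agent.Lib.BlockPrincipal.eq_one_of_commute_regular hp.out ⟨k, hk'⟩ hcomm hx
    (by rw [h2]; exact hy)
  rw [h1, h3, mul_one]

theorem reg_map [hQn : Q.Normal] {x : G} (hx : ¬ p ∣ orderOf x) :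
    ¬ p ∣ orderOf (QuotientGroup.mk' Q x) := fun h =>
  hx (h.trans (orderOf_map_dvd _ _))

/-- A `p`-regular element of the quotient has a `p`-regular lift. -/
theorem exists_reg_lift [hQn : Q.Normal] {y : G ⧸ Q} (hy : ¬ p ∣ orderOf y) :
    ∃ x : G, ¬ p ∣ orderOf x ∧ QuotientGroup.mk' Q x = y := by
  classical
  haveI : Fintype G := Fintype.ofFinite G
  obtain ⟨g, rfl⟩ := QuotientGroup.mk'_surjective Q y
  obtain ⟨u, v, huv, hc, ⟨j, hj⟩, hv⟩ := Cfsg.Agent.Lib.BlockOrth.exists_isPPart (p := p) hp.out g
  refine ⟨v, hv, ?_⟩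
  set π := QuotientGroup.mk' Q with hπ
  have h1 : (π u) ^ p ^ j = 1 := by
    rw [← map_pow, ← hj, pow_orderOf_eq_one, map_one]
  have h2 : Commute (π u) (π v) := hc.map π
  have h3 : π u * π v = π g := by rw [← map_mul, huv]
  have h4 := Cfsg.Agent.Lib.BlockPrincipal.eq_one_of_commute_regular hp.out ⟨j, h1⟩ h2 (reg_map hv)
    (by rw [h3]; exact hy)
  rw [← h3, h4, one_mul]

/-- The centralizer of the image of a `p`-regular element. -/
theorem index_centralizer_map [hQn : Q.Normal] (hQ : IsPGroup p Q)
    (hsup : Q ⊔ Subgroup.centralizer (Q : Set G) = ⊤) {x : G} (hx : ¬ p ∣ orderOf x) :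
    (Subgroup.centralizer ({QuotientGroup.mk' Q x} : Set (G ⧸ Q))).index =
      (Subgroup.centralizer ({x} : Set G)).index := by
  rw [← Subgroup.index_comap_of_surjective _ (QuotientGroup.mk'_surjective Q)]
  congr 1
  ext h
  rw [Subgroup.mem_comap, Subgroup.mem_centralizer_singleton_iff,
    Subgroup.mem_centralizer_singleton_iff]
  constructor
  · intro h1
    have h2 : QuotientGroup.mk' Q (h * x * h⁻¹) = QuotientGroup.mk' Q x := by
      rw [map_mul, map_mul, h1, map_inv, mul_inv_cancel_right]
    have h3 := (QuotientGroup.eq (s := Q)).mp h2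
    have hreg : ¬ p ∣ orderOf (h * x * h⁻¹) := by
      have h4 : orderOf (h * x * h⁻¹) = orderOf x :=
        orderOf_injective (MulAut.conj h).toMonoidHom (MulAut.conj h).injective x
      rwa [h4]
    have h5 := reg_unique hQ hsup hreg hx h3
    rw [mul_inv_eq_iff_eq_mul] at h5
    exact h5
  · intro h1
    rw [← map_mul, ← map_mul, h1]

end Facts

section Blocks

variable {H : Type u} [Group H] [Fintype H] {p : ℕ} {M : Ideal AlgInt}

/-- Central characters agreeing on `p`-regular classes imply being in the same block. -/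
theorem sameBlock_of_reg (hM : IsPModular p M) (χ ψ : IrrCharacter H)
    (h : ∀ x : H, ¬ p ∣ orderOf x →
      MemLocalIdeal M (centralChar (χ : H → ℂ) x - centralChar (ψ : H → ℂ) x)) :
    SameBlock M (χ : H → ℂ) (ψ : H → ℂ) := by
  classical
  haveI := hM.2.1.isPrime
  letI : Fintype (ConjClasses H) := Fintype.ofFinite _
  by_contra hne
  set B := blockOf M (χ : H → ℂ) with hB
  have hBb : IsPBlock M B := ⟨χ, rfl⟩
  have hχB : χ ∈ B := mem_blockOf_self χ
  have hψB : ψ ∉ B := hne
  have h1 := sum_classes B χ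
  have h2 := sum_classes B ψ
  rw [indB_of_mem hχB] at h1
  rw [indB_of_not_mem hψB] at h2
  apply not_memLocalIdeal_one (M := M)
  have h3 : (1 : ℂ) = ∑ K : ConjClasses H, (blockCoeff B (Quotient.out K) *
      centralChar (χ : H → ℂ) (Quotient.out K) - blockCoeff B (Quotient.out K) *
      centralChar (ψ : H → ℂ) (Quotient.out K)) := by
    rw [Finset.sum_sub_distrib, h1, h2, sub_zero]
  rw [h3]
  refine memLocalIdeal_sum _ _ fun K _ => ?_
  set x := Quotient.out K with hx
  rw [← mul_sub]
  by_cases hreg : p ∣ orderOf x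
  · rw [Cfsg.Agent.Lib.BlockOrth.blockCoeff_eq_zero hM hBb hreg, zero_mul]
    exact memLocalIdeal_zero
  · exact memLocalIdeal_mul_left (memLocalRing_blockCoeff hBb x) (h x hreg)

end Blocks

/-- Let Q be a normal p-subgroup of the finite group G with G = Q·C_G(Q), and M a maximal ideal of the algebraic integers containing p. Then the principal p-blocks of G and of G/Q have the same p-regular rank (the same number of irreducible Brauer characters). -/
theorem result {G : Type*} [Group G] [Finite G] (p : ℕ) [Fact p.Prime] (M : Ideal Cfsg.AlgInt) (hM : Cfsg.IsPModular p M) (Q : Subgroup G) [Q.Normal] (hQ : IsPGroup p Q) (hsup : Q ⊔ Subgroup.centralizer (Q : Set G) = ⊤) : Cfsg.blockRank p (Cfsg.principalBlock M G) = Cfsg.blockRank p (Cfsg.principalBlock M (G ⧸ Q)) := by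
  classical
  haveI : Fintype G := Fintype.ofFinite G
  haveI : Fintype (G ⧸ Q) := Fintype.ofFinite _
  haveI := hM.2.1.isPrime
  set π : G →* G ⧸ Q := QuotientGroup.mk' Q with hπ
  have hπs : Function.Surjective π := QuotientGroup.mk'_surjective Q
  -- inflation
  let infl : IrrCharacter (G ⧸ Q) → IrrCharacter G := fun β =>
    ⟨(β : G ⧸ Q → ℂ) ∘ π, isIrrCharacter_comp_of_surjective π hπs β.2⟩
  set B := principalBlock M G with hB
  set b := principalBlock M (G ⧸ Q) with hb
  have hBb : IsPBlock M B := isPBlock_principalBlock M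
  -- the inflation of the principal block
  have hup : ∀ β ∈ b, infl β ∈ B := fun β hβ =>
    comp_mem_principalBlock Q (β : G ⧸ Q → ℂ) hβ
  have hdown : ∀ β, infl β ∈ B → β ∈ b := by
    intro β hβ
    have h1 : ∀ y : G ⧸ Q, ¬ p ∣ orderOf y → MemLocalIdeal M
        (centralChar (irrOne (G ⧸ Q) : G ⧸ Q → ℂ) y - centralChar (β : G ⧸ Q → ℂ) y) := by
      intro y hy
      obtain ⟨x, hx, rfl⟩ := exists_reg_lift (p := p) hy
      have h2 := hβ x
      have h3 : centralChar (fun _ : G => (1 : ℂ)) x =
          centralChar (irrOne (G ⧸ Q) : G ⧸ Q → ℂ) (π x) := by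
        unfold centralChar
        rw [index_centralizer_map hQ hsup hx]
        rfl
      have h4 : centralChar (infl β : G → ℂ) x = centralChar (β : G ⧸ Q → ℂ) (π x) := by
        unfold centralChar
        rw [index_centralizer_map hQ hsup hx]
        simp [infl]
      rw [h3, h4] at h2
      exact h2
    exact sameBlock_of_reg hM (irrOne (G ⧸ Q)) β h1
  -- the linear map
  let Φ : (G ⧸ Q → ℂ) →ₗ[ℂ] (G → ℂ) :=
    { toFun := fun f => pRegularPart p (f ∘ π)
      map_add' := fun f g => by
        funext x
        by_cases hx : p ∣ orderOf x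
        · simp [pRegularPart_of_sing _ hx]
        · simp [pRegularPart_of_reg _ hx]
      map_smul' := fun c f => by
        funext x
        by_cases hx : p ∣ orderOf x
        · simp [pRegularPart_of_sing _ hx]
        · simp [pRegularPart_of_reg _ hx] }
  have hΦ : ∀ f x, Φ f x = pRegularPart p (f ∘ π) x := fun f x => rfl
  have hΦreg : ∀ f : G ⧸ Q → ℂ, Φ (pRegularPart p f) = Φ f := by
    intro f
    funext x
    rw [hΦ, hΦ]
    by_cases hx : p ∣ orderOf x
    · rw [pRegularPart_of_sing _ hx, pRegularPart_of_sing _ hx]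
    · rw [pRegularPart_of_reg _ hx, pRegularPart_of_reg _ hx]
      simp only [Function.comp_apply]
      rw [pRegularPart_of_reg _ (reg_map hx)]
  have hΦinfl : ∀ β : IrrCharacter (G ⧸ Q), Φ (β : G ⧸ Q → ℂ) = pRegularPart p (infl β : G → ℂ) :=
    fun β => rfl
  set Sb := Submodule.span ℂ ((fun χ : IrrCharacter (G ⧸ Q) => pRegularPart p (χ : G ⧸ Q → ℂ)) '' b)
    with hSb
  set SB := Submodule.span ℂ ((fun χ : IrrCharacter G => pRegularPart p (χ : G → ℂ)) '' B) with hSB
  -- the image
  have himg : Sb.map Φ = SB := by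
    apply le_antisymm
    · rw [hSb, Submodule.map_span, Submodule.span_le]
      rintro _ ⟨_, ⟨β, hβ, rfl⟩, rfl⟩
      apply Submodule.subset_span
      refine ⟨infl β, hup β hβ, ?_⟩
      simp only
      rw [← hΦinfl, hΦreg]
    · rw [hSB, Submodule.span_le]
      rintro _ ⟨χ, hχ, rfl⟩
      -- the function on the quotient
      have hlift : ∀ y : G ⧸ Q, ¬ p ∣ orderOf y → ∃ x : G, ¬ p ∣ orderOf x ∧ π x = y :=
        fun y hy => exists_reg_lift hy
      let r : G ⧸ Q → G := fun y => if hy : ¬ p ∣ orderOf y then (hlift y hy).choose else 1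
      have hr : ∀ y, ¬ p ∣ orderOf y → ¬ p ∣ orderOf (r y) ∧ π (r y) = y := by
        intro y hy
        simp only [r, dif_pos hy]
        exact (hlift y hy).choose_spec
      have hru : ∀ x : G, ¬ p ∣ orderOf x → r (π x) = x := by
        intro x hx
        obtain ⟨h1, h2⟩ := hr (π x) (reg_map hx)
        apply reg_unique hQ hsup h1 hx
        exact (QuotientGroup.eq (s := Q)).mp h2
      let f : G ⧸ Q → ℂ := fun y => if p ∣ orderOf y then 0 else (χ : G → ℂ) (r y)
      have hfcl : IsClassFunction (G ⧸ Q) f := by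
        intro y h
        have h1 : orderOf (h * y * h⁻¹) = orderOf y :=
          orderOf_injective (MulAut.conj h).toMonoidHom (MulAut.conj h).injective y
        simp only [f]
        rw [h1]
        by_cases hy : p ∣ orderOf y
        · simp [hy]
        · simp only [hy, if_false]
          obtain ⟨h2, h3⟩ := hr y hy
          obtain ⟨c, rfl⟩ := hπs h
          have h4 : π c * y * (π c)⁻¹ = π (c * r y * c⁻¹) := by
            rw [map_mul, map_mul, map_inv, h3]
          have h5 : ¬ p ∣ orderOf (c * r y * c⁻¹) := by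
            have h6 : orderOf (c * r y * c⁻¹) = orderOf (r y) :=
              orderOf_injective (MulAut.conj c).toMonoidHom (MulAut.conj c).injective _
            rwa [h6]
          rw [h4, hru _ h5]
          exact isClassFunction_of_isCharacter (IsIrrCharacter.isCharacter χ.2) _ _
      have hΦf : Φ f = pRegularPart p (χ : G → ℂ) := by
        funext x
        rw [hΦ]
        by_cases hx : p ∣ orderOf x
        · rw [pRegularPart_of_sing _ hx, pRegularPart_of_sing _ hx]
        · rw [pRegularPart_of_reg _ hx, pRegularPart_of_reg _ hx]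
          simp only [Function.comp_apply, f]
          rw [if_neg (reg_map hx), hru x hx]
      have hexp := classFunction_eq_sum hfcl
      have hχproj := blockProj_pRegularPart hM hBb (blockProj_of_mem hχ)
      -- apply the projection
      have hproj_sum : ∀ (s : Finset (IrrCharacter (G ⧸ Q))) (c : IrrCharacter (G ⧸ Q) → ℂ),
          blockProj B (∑ β ∈ s, c β • pRegularPart p (infl β : G → ℂ)) =
            ∑ β ∈ s, c β • blockProj B (pRegularPart p (infl β : G → ℂ)) := by
        intro s c
        induction s using Finset.induction_on with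
        | empty =>
          funext g
          simp [blockProj, classInner_zero_left]
        | insert a s ha ih =>
          rw [Finset.sum_insert ha, Finset.sum_insert ha, blockProj_add, blockProj_smul, ih]
      have h8 : Φ f = ∑ β : IrrCharacter (G ⧸ Q), classInner f (β : G ⧸ Q → ℂ) •
          pRegularPart p (infl β : G → ℂ) := by
        have h9 : Φ f = Φ (∑ χ : IrrCharacter (G ⧸ Q), classInner f (χ : G ⧸ Q → ℂ) • (χ : G ⧸ Q → ℂ)) :=
          congrArg Φ hexp
        rw [h9, map_sum]
        refine Finset.sum_congr rfl fun β _ => ?_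
        rw [map_smul, hΦinfl]
      have h7 : pRegularPart p (χ : G → ℂ) =
          ∑ β : IrrCharacter (G ⧸ Q), classInner f (β : G ⧸ Q → ℂ) •
            blockProj B (pRegularPart p (infl β : G → ℂ)) := by
        calc pRegularPart p (χ : G → ℂ) = blockProj B (pRegularPart p (χ : G → ℂ)) := hχproj.symm
          _ = blockProj B (∑ β : IrrCharacter (G ⧸ Q), classInner f (β : G ⧸ Q → ℂ) •
                pRegularPart p (infl β : G → ℂ)) := by rw [← h8, hΦf]
          _ = _ := hproj_sum _ _
      show pRegularPart p (χ : G → ℂ) ∈ Sb.map Φ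
      rw [h7]
      refine Submodule.sum_mem _ fun β _ => Submodule.smul_mem _ _ ?_
      by_cases hβ : infl β ∈ B
      · rw [blockProj_pRegularPart hM hBb (blockProj_of_mem hβ)]
        refine ⟨pRegularPart p (β : G ⧸ Q → ℂ), Submodule.subset_span ⟨β, hdown β hβ, rfl⟩, ?_⟩
        rw [hΦreg, hΦinfl]
      · have h0 : blockProj B (pRegularPart p (infl β : G → ℂ)) = 0 := by
          funext g
          unfold blockProj
          refine Finset.sum_eq_zero fun ξ _ => ?_
          by_cases hξ : ξ ∈ B
          · have hB' : IsPBlock M (blockOf M (infl β : G → ℂ)) := ⟨infl β, rfl⟩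
            have hξ' : ξ ∉ blockOf M (infl β : G → ℂ) := by
              intro h
              rcases eq_or_disjoint_of_isPBlock hBb hB' with h1 | h1
              · apply hβ
                rw [h1]
                exact mem_blockOf_self _
              · exact Set.disjoint_left.mp h1 hξ h
            rw [classInner_pRegularPart_eq_zero hM hB' (mem_blockOf_self _) hξ']
            simp
          · rw [indB_of_not_mem hξ]
            simp
        rw [h0]
        exact Submodule.zero_mem _
  -- dimension
  have hsupp : ∀ f ∈ Sb, ∀ y : G ⧸ Q, p ∣ orderOf y → f y = 0 := by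
    intro f hf y hy
    induction hf using Submodule.span_induction with
    | mem x hx =>
      obtain ⟨β, _, rfl⟩ := hx
      exact pRegularPart_of_sing _ hy
    | zero => rfl
    | add u v _ _ hu hv =>
      rw [Pi.add_apply, hu, hv, add_zero]
    | smul c u _ hu =>
      rw [Pi.smul_apply, hu, smul_zero]
  have hinj : Function.Injective (Φ ∘ₗ Sb.subtype) := by
    rw [← LinearMap.ker_eq_bot, LinearMap.ker_eq_bot']
    intro f hf
    apply Subtype.ext
    funext y
    by_cases hy : p ∣ orderOf y
    · exact hsupp f.1 f.2 y hy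
    · obtain ⟨x, hx, rfl⟩ := exists_reg_lift (p := p) hy
      have h1 := congrFun hf x
      have h2 : Φ f.1 x = f.1 (π x) := by
        rw [hΦ, pRegularPart_of_reg _ hx]
        rfl
      exact h2.symm.trans h1
  have hfin := LinearMap.finrank_range_of_inj hinj
  rw [LinearMap.range_comp, Submodule.range_subtype] at hfin
  show Module.finrank ℂ SB = Module.finrank ℂ Sb
  rw [← himg]
  exact hfin

end Cfsg.Agent.S4571
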