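import Mathlib
import Cfsg.Statements.S4490
import Cfsg.Agent.Lib.RealChars
import Cfsg.Agent.Lib.GenChar
import Cfsg.Agent.Lib.BlkFirst
import Cfsg.Agent.Lib.BlkFMT
import Cfsg.Agent.Lib.BlockPrincipal
import Cfsg.Agent.Lib.BrauerInd
import Cfsg.Agent.S4521
import Cfsg.Agent.S4571

set_option autoImplicit false
set_option linter.style.haveILetI false
set_option linter.unusedVariables false
set_option linter.unusedSectionVars false
open Cfsg

namespace Cfsg.Agent.S4490

open Cfsg.Agent.Lib.CharBasic Cfsg.Agent.Lib.BlockLocal Cfsg.Agent.Lib.BlockIdem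
open Cfsg.Agent.Lib.BlockNormal Cfsg.Agent.Lib.RealChars
open scoped ComplexConjugate

universe u

section Structure

variable {G : Type u} [Group G] [Finite G] [hp : Fact (Nat.Prime 2)]

theorem mem_of_two_elt (P : Sylow 2 G) {x : G} (hx : x ∈ Subgroup.normalizer ((P : Subgroup G) : Set G))
    {k : ℕ} (hk : orderOf x = 2 ^ k) : x ∈ (P : Subgroup G) := by
  have h1 : IsPGroup 2 (Subgroup.zpowers x) := by
    rw [IsPGroup.iff_orderOf]
    rintro ⟨y, hy⟩
    obtain ⟨i, rfl⟩ := Subgroup.mem_zpowers_iff.mp hy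
    have h2 : orderOf (⟨x ^ i, hy⟩ : Subgroup.zpowers x) ∣ 2 ^ k := by
      rw [← Subgroup.orderOf_coe, ← hk]
      exact orderOf_dvd_of_pow_eq_one (by
        show (x ^ i) ^ orderOf x = 1
        rw [← zpow_natCast, ← zpow_mul, mul_comm, zpow_mul, zpow_natCast, pow_orderOf_eq_one, one_zpow])
    obtain ⟨j, _, hj⟩ := (Nat.dvd_prime_pow hp.out).mp h2
    exact ⟨j, hj⟩
  have h2 := h1.inf_normalizer_sylow P
  have h4 := (Subgroup.ext_iff.mp h2 x).mp ⟨Subgroup.mem_zpowers x, hx⟩
  exact h4.2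

theorem exists_L (P : Sylow 2 G) : ∃ L : Subgroup G,
    (∀ x, x ∈ L ↔ x ∈ Subgroup.centralizer ((P : Subgroup G) : Set G) ∧ ¬ 2 ∣ orderOf x) ∧
    Odd (Nat.card L) ∧
    ∀ x ∈ Subgroup.centralizer ((P : Subgroup G) : Set G), ∃ z ∈ (P : Subgroup G), ∃ l ∈ L, z * l = x := by
  classical
  set C := Subgroup.centralizer ((P : Subgroup G) : Set G) with hC
  have hCN : C ≤ Subgroup.normalizer ((P : Subgroup G) : Set G) := Subgroup.centralizer_le_normalizer _
  let Z : Subgroup C := (P : Subgroup G).subgroupOf C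
  have hZcentral : ∀ (z : Z) (c : C), (z : C) * c = c * z := by
    intro z c
    have h1 : ((z : C) : G) ∈ (P : Subgroup G) := z.2
    apply Subtype.ext
    exact Subgroup.mem_centralizer_iff.mp c.2 _ h1
  haveI hZn : Z.Normal := ⟨fun n hn g => by
    have h1 := hZcentral ⟨n, hn⟩ g
    have h2 : g * n * g⁻¹ = n := by
      have : (n : C) * g = g * n := h1
      rw [← this]
      group
    rw [h2]
    exact hn⟩
  have hZp : IsPGroup 2 Z := IsPGroup.comap_of_injective P.isPGroup' C.subtype C.subtype_injective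
  -- a Sylow subgroup of `C` containing `Z`
  obtain ⟨S, hZS⟩ := hZp.exists_le_sylow
  have hSZ : (S : Subgroup C) ≤ Z := by
    intro x hx
    obtain ⟨k, hk⟩ := (IsPGroup.iff_orderOf.mp S.isPGroup') ⟨x, hx⟩
    have h1 : orderOf ((x : C) : G) = 2 ^ k := by
      rw [Subgroup.orderOf_coe, ← hk]
      exact (Subgroup.orderOf_mk x hx).symm
    exact mem_of_two_elt P (hCN x.2) h1
  have hZS' : Z = (S : Subgroup C) := le_antisymm hZS hSZ
  have hidx : ¬ 2 ∣ Z.index := by
    rw [hZS']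
    exact S.not_dvd_index
  obtain ⟨n, hn⟩ := IsPGroup.iff_card.mp hZp
  have hcop : Nat.Coprime (Nat.card Z) Z.index := by
    rw [hn]
    exact Nat.Coprime.pow_left _ ((Nat.Prime.coprime_iff_not_dvd hp.out).mpr hidx)
  obtain ⟨L₀, hL₀⟩ := Subgroup.exists_right_complement'_of_coprime hcop
  have hcardL₀ : Nat.card L₀ = Z.index := by
    have h1 := hL₀.card_mul
    have h2 := Z.card_mul_index
    have h3 : 0 < Nat.card Z := Nat.card_pos
    exact Nat.eq_of_mul_eq_mul_left h3 (h1.trans h2.symm)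
  have hoddL₀ : ¬ 2 ∣ Nat.card L₀ := by rwa [hcardL₀]
  refine ⟨L₀.map C.subtype, ?_, ?_, ?_⟩
  · intro x
    constructor
    · rintro ⟨y, hy, rfl⟩
      refine ⟨y.2, fun h => hoddL₀ ?_⟩
      have h1 : orderOf (C.subtype y) = orderOf (⟨y, hy⟩ : L₀) := by
        rw [Subgroup.orderOf_mk]
        exact Subgroup.orderOf_coe y
      rw [h1] at h
      exact h.trans (orderOf_dvd_natCard _)
    · rintro ⟨hxC, hxo⟩
      obtain ⟨⟨z, l⟩, hzl, -⟩ := hL₀.existsUnique ⟨x, hxC⟩
      have hzl' : ((z : C) : G) * ((l : C) : G) = x := congrArg Subtype.val hzl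
      have hcomm : Commute ((z : C) : G) ((l : C) : G) := by
        have := hZcentral z (l : C)
        exact congrArg Subtype.val this
      obtain ⟨k, hk⟩ := (IsPGroup.iff_orderOf.mp hZp) z
      have hk' : orderOf ((z : C) : G) = 2 ^ k := by
        rw [Subgroup.orderOf_coe, Subgroup.orderOf_coe, hk]
      have hlodd : ¬ 2 ∣ orderOf ((l : C) : G) := by
        rw [Subgroup.orderOf_coe, Subgroup.orderOf_coe]
        exact fun h => hoddL₀ (h.trans (orderOf_dvd_natCard _))
      have hco : (orderOf ((z : C) : G)).Coprime (orderOf ((l : C) : G)) := by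
        rw [hk']
        exact Nat.Coprime.pow_left _ ((Nat.Prime.coprime_iff_not_dvd hp.out).mpr hlodd)
      have h1 := hcomm.orderOf_mul_eq_mul_orderOf_of_coprime hco
      rw [hzl', hk'] at h1
      have hk0 : k = 0 := by
        by_contra hk0
        apply hxo
        rw [h1]
        exact Dvd.dvd.mul_right (dvd_pow_self 2 hk0) _
      have hz1 : ((z : C) : G) = 1 := by
        rw [hk0, pow_zero] at hk'
        exact orderOf_eq_one_iff.mp hk'
      rw [hz1, one_mul] at hzl'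
      exact ⟨l, l.2, hzl'⟩
  · rw [Subgroup.card_map_of_injective C.subtype_injective]
    exact Nat.odd_iff.mpr (Nat.two_dvd_ne_zero.mp hoddL₀)
  · intro x hx
    obtain ⟨⟨z, l⟩, hzl, -⟩ := hL₀.existsUnique ⟨x, hx⟩
    exact ⟨(z : C), z.2, (l : C), ⟨l, l.2, rfl⟩, congrArg Subtype.val hzl⟩

end Structure

section Phi

variable {G : Type u} [Group G] [Fintype G] {M : Ideal AlgInt}

open Classical in
/-- The sum of a normalised function over the part of a class in a subgroup. -/
noncomputable def phi (L : Subgroup G) [Fintype L] (f : L → ℂ) (g : G) : ℂ :=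
  ∑ l : L, if IsConj g (l : G) then f l / f 1 else 0

/-- Rewriting a sum over `L` as a sum over classes. -/
theorem exists_class_coeff (L : Subgroup G) [Fintype L] [Fintype (ConjClasses G)] (c : L → ℂ)
    (hc : ∀ l l' : L, IsConj (l : G) (l' : G) → c l = c l') :
    ∃ d : ConjClasses G → ℂ, (∀ K, d K = 0 ∨ ∃ l : L, d K = c l ∧ IsConj (Quotient.out K) (l : G)) ∧
      ∀ f : L → ℂ, ∑ l : L, c l * (f l / f 1) = ∑ K : ConjClasses G, d K * phi L f (Quotient.out K) := by
  classical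
  refine ⟨fun K => if h : ∃ l : L, IsConj (Quotient.out K) (l : G) then c h.choose else 0, ?_, ?_⟩
  · intro K
    by_cases h : ∃ l : L, IsConj (Quotient.out K) (l : G)
    · right
      refine ⟨h.choose, ?_, h.choose_spec⟩
      simp only [dif_pos h]
    · left
      simp only [dif_neg h]
  · intro f
    have hfib := Finset.sum_fiberwise (Finset.univ : Finset L) (fun l : L => (ConjClasses.mk (l : G) : ConjClasses G))
      (fun l => c l * (f l / f 1))
    rw [← hfib]
    refine Finset.sum_congr rfl fun K _ => ?_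
    have hconj : ∀ l : L, IsConj (Quotient.out K) (l : G) ↔ ConjClasses.mk (l : G) = K := by
      intro l
      have h0 : ConjClasses.mk (Quotient.out K) = K := Quotient.out_eq K
      constructor
      · intro h
        rw [← h0]
        exact (ConjClasses.mk_eq_mk_iff_isConj.mpr h).symm
      · intro h
        rw [← ConjClasses.mk_eq_mk_iff_isConj, h0, h]
    unfold phi
    rw [Finset.mul_sum]
    rw [Finset.sum_filter]
    refine Finset.sum_congr rfl fun l _ => ?_
    by_cases h : ConjClasses.mk (l : G) = K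
    · rw [if_pos h, if_pos ((hconj l).mpr h)]
      have h1 : ∃ l : L, IsConj (Quotient.out K) (l : G) := ⟨l, (hconj l).mpr h⟩
      simp only [dif_pos h1]
      rw [hc h1.choose l (h1.choose_spec.symm.trans ((hconj l).mpr h))]
    · rw [if_neg h, if_neg (fun h' => h ((hconj l).mp h')), mul_zero]


/-- Orbit argument at the level of `L`: a group acting on `L` by automorphisms. -/
theorem exists_conj_of_congr (hM : IsPModular 2 M) (L : Subgroup G) [Fintype L] [Fintype (ConjClasses G)]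
    (hodd : ¬ 2 ∣ Nat.card L) {A : Type*} [Group A] [Fintype A] (α : A →* MulAut L)
    (hfus : ∀ l l' : L, IsConj (l : G) (l' : G) → ∃ a : A, α a l = l')
    (hreg : ∀ l : L, ¬ 2 ∣ orderOf (l : G))
    (θ θ₁ : IrrCharacter L)
    (hcong : ∀ g : G, ¬ 2 ∣ orderOf g →
      MemLocalIdeal M (phi L (θ : L → ℂ) g - phi L (θ₁ : L → ℂ) g)) :
    ∃ a : A, (θ₁ : L → ℂ) = (θ : L → ℂ) ∘ α a := by
  classical
  haveI := hM.2.1.isPrime
  by_contra hcon
  push Not at hcon
  set orb : Finset (L → ℂ) := Finset.univ.image (fun a : A => (θ : L → ℂ) ∘ α a) with horb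
  have hirr : ∀ ψ ∈ orb, IsIrrCharacter L ψ := by
    intro ψ hψ
    obtain ⟨a, -, rfl⟩ := Finset.mem_image.mp hψ
    exact isIrrCharacter_comp_of_surjective (α a).toMonoidHom (α a).surjective θ.2
  have hθ : (θ : L → ℂ) ∈ orb := by
    refine Finset.mem_image.mpr ⟨1, Finset.mem_univ _, ?_⟩
    funext l
    simp
  set B : L → ℂ := ∑ ψ ∈ orb, ψ with hB
  -- invariance
  have hinv : ∀ (a : A) (l : L), B (α a l) = B l := by
    intro a l
    have h1 : ∀ f : L → ℂ, (∑ ψ ∈ orb, ψ) (α a l) = ∑ ψ ∈ orb, ψ (α a l) := by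
      intro f
      rw [Finset.sum_apply]
    rw [hB, h1 0, Finset.sum_apply]
    refine Finset.sum_nbij' (fun ψ => ψ ∘ α a) (fun ψ => ψ ∘ α a⁻¹) ?_ ?_ ?_ ?_ ?_
    · intro ψ hψ
      obtain ⟨b, -, rfl⟩ := Finset.mem_image.mp hψ
      refine Finset.mem_image.mpr ⟨b * a, Finset.mem_univ _, ?_⟩
      funext x
      simp [map_mul]
    · intro ψ hψ
      obtain ⟨b, -, rfl⟩ := Finset.mem_image.mp hψ
      refine Finset.mem_image.mpr ⟨b * a⁻¹, Finset.mem_univ _, ?_⟩
      funext x
      simp [map_mul]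
    · intro ψ hψ
      funext x
      simp [map_inv]
    · intro ψ hψ
      funext x
      simp [map_inv]
    · intro ψ hψ
      rfl
  -- inner products
  have hinner : ∀ f : IrrCharacter L, classInner (f : L → ℂ) B = if (f : L → ℂ) ∈ orb then 1 else 0 := by
    intro f
    rw [hB, classInner_sum_right]
    by_cases hf : (f : L → ℂ) ∈ orb
    · rw [if_pos hf, Finset.sum_eq_single (f : L → ℂ)]
      · exact classInner_irr_self f.2
      · intro ψ hψ hne
        exact classInner_irr_ne f.2 (hirr ψ hψ) (Ne.symm hne)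
      · exact fun h => absurd hf h
    · rw [if_neg hf]
      refine Finset.sum_eq_zero fun ψ hψ => ?_
      refine classInner_irr_ne f.2 (hirr ψ hψ) ?_
      rintro rfl
      exact hf hψ
  -- the coefficient
  set c : L → ℂ := fun l => (Nat.card L : ℂ)⁻¹ * conj (B l) with hc
  have hcinv : ∀ l l' : L, IsConj (l : G) (l' : G) → c l = c l' := by
    intro l l' h
    obtain ⟨a, ha⟩ := hfus l l' h
    simp only [hc]
    rw [← ha, hinv]
  have hclocal : ∀ l, MemLocalRing M (c l) := by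
    intro l
    refine memLocalRing_mul (memLocalRing_inv_natCast hM hodd) ?_
    refine memLocalRing_of_isIntegral ?_
    have h1 : conj (B l) = ∑ ψ ∈ orb, conj (ψ l) := by
      rw [hB, Finset.sum_apply, map_sum]
    rw [h1]
    refine IsIntegral.sum _ fun ψ hψ => ?_
    have h2 := char_conj_eq_inv (IsIrrCharacter.isCharacter (hirr ψ hψ)) l
    rw [h2]
    exact Cfsg.Agent.Lib.GenChar.char_isIntegral (IsIrrCharacter.isCharacter (hirr ψ hψ)) _
  obtain ⟨d, hd, hdf⟩ := exists_class_coeff L c hcinv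
  have hval : ∀ f : IrrCharacter L, ∑ l : L, c l * ((f : L → ℂ) l / (f : L → ℂ) 1) =
      ((f : L → ℂ) 1)⁻¹ * (if (f : L → ℂ) ∈ orb then 1 else 0) := by
    intro f
    rw [← hinner f]
    unfold classInner
    rw [Finset.mul_sum, Finset.mul_sum]
    refine Finset.sum_congr rfl fun l _ => ?_
    simp only [hc]
    ring
  have hθ₁ : (θ₁ : L → ℂ) ∉ orb := by
    intro h
    obtain ⟨a, -, ha⟩ := Finset.mem_image.mp h
    exact hcon a ha.symm
  have hdiff : MemLocalIdeal M (((θ : L → ℂ) 1)⁻¹) := by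
    have h1 := hval θ
    have h2 := hval θ₁
    rw [if_pos hθ, mul_one] at h1
    rw [if_neg hθ₁, mul_zero] at h2
    rw [hdf] at h1 h2
    rw [← h1, ← sub_zero (∑ K : ConjClasses G, d K * phi L (θ : L → ℂ) (Quotient.out K)), ← h2,
      ← Finset.sum_sub_distrib]
    refine memLocalIdeal_sum _ _ fun K _ => ?_
    rw [← mul_sub]
    rcases hd K with h0 | ⟨l, hl, hlc⟩
    · rw [h0, zero_mul]
      exact memLocalIdeal_zero
    · rw [hl]
      refine memLocalIdeal_mul_left (hclocal l) (hcong _ ?_)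
      obtain ⟨w, hw⟩ := isConj_iff.mp hlc
      rw [← Cfsg.Agent.Lib.BlockPrincipal.orderOf_conj_eq w, hw]
      exact hreg l
  have hone : MemLocalIdeal M (1 : ℂ) := by
    have hne := Cfsg.Agent.Lib.GenChar.isIrr_one_ne_zero θ.2
    obtain ⟨d', -, hd'⟩ := Cfsg.Agent.Lib.GenChar.isIrr_one_pos θ.2
    have h2 := memLocalIdeal_mul_left (memLocalRing_natCast (M := M) d') hdiff
    rw [← hd', mul_inv_cancel₀ hne] at h2
    exact h2
  exact not_memLocalIdeal_one hone

end Phi


section Final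

variable {G : Type u} [Group G] [Fintype G] {M : Ideal AlgInt}

open Cfsg.Agent.Lib.BlkBrauer Cfsg.Agent.Lib.BlkFirst Cfsg.Agent.Lib.BlkFMT Cfsg.Agent.Lib.BlockPrincipal

/-- A constituent with the same normalised values. -/
theorem exists_theta {L Q H : Subgroup G} [Fintype H] [Fintype L] (hLH : L ≤ H) (hQH : Q ≤ H)
    (hcomm : ∀ u ∈ L, ∀ v ∈ Q, u * v = v * u) (hgen : L ⊔ Q = H) (ξ : IrrCharacter H) :
    ∃ θ : IrrCharacter L, ∀ l : L, (ξ : H → ℂ) ⟨l, hLH l.2⟩ / (ξ : H → ℂ) 1 = (θ : L → ℂ) l / (θ : L → ℂ) 1 := by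
  classical
  set U₁ := L.subgroupOf H with hU₁
  set U₂ := Q.subgroupOf H with hU₂
  have hc : ∀ u ∈ U₁, ∀ v ∈ U₂, u * v = v * u := by
    intro u hu v hv
    apply Subtype.ext
    exact hcomm u hu v hv
  have hg : U₁ ⊔ U₂ = ⊤ := by
    apply Subgroup.map_injective H.subtype_injective
    rw [Subgroup.map_sup, hU₁, hU₂, Subgroup.map_subgroupOf_eq_of_le hLH, Subgroup.map_subgroupOf_eq_of_le hQH, hgen,
      ← MonoidHom.range_eq_map, Subgroup.range_subtype]
  letI : Fintype U₁ := Fintype.ofFinite _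
  have hres : IsCharacter U₁ (fun u : U₁ => (ξ : H → ℂ) u) := isCharacter_restrict _ (IsIrrCharacter.isCharacter ξ.2)
  have h1 : (fun u : U₁ => (ξ : H → ℂ) u) 1 ≠ 0 := by
    simpa using Cfsg.Agent.Lib.GenChar.isIrr_one_ne_zero ξ.2
  obtain ⟨θ₀, hθ₀, hin⟩ := Cfsg.Agent.Lib.BrauerInd.exists_constituent hres h1
  have hr := Cfsg.Agent.S4521.ratio_left hc hg ξ.2 hθ₀ hin
  let e : U₁ ≃* L := Subgroup.subgroupOfEquivOfLe hLH
  refine ⟨⟨θ₀ ∘ e.symm, isIrrCharacter_comp_of_surjective e.symm.toMonoidHom e.symm.surjective hθ₀⟩, fun l => ?_⟩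
  have h2 := hr (e.symm l)
  have h3 : e.symm 1 = 1 := map_one _
  simp only [Function.comp_apply, h3]
  convert h2 using 2
  rfl

/-- Regular elements of a commuting product with a `2`-group. -/
theorem mem_of_reg {L Q H : Subgroup G} [Fintype H] (hLH : L ≤ H) (hQH : Q ≤ H)
    (hcomm : ∀ u ∈ L, ∀ v ∈ Q, u * v = v * u) (hgen : L ⊔ Q = H) (hQ : IsPGroup 2 Q)
    (h : H) (hh : ¬ 2 ∣ orderOf h) : (h : G) ∈ L := by
  classical
  haveI : Fact (Nat.Prime 2) := ⟨Nat.prime_two⟩
  set U₁ := L.subgroupOf H with hU₁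
  set U₂ := Q.subgroupOf H with hU₂
  have hc : ∀ u ∈ U₁, ∀ v ∈ U₂, u * v = v * u := by
    intro u hu v hv
    apply Subtype.ext
    exact hcomm u hu v hv
  have hg : U₁ ⊔ U₂ = ⊤ := by
    apply Subgroup.map_injective H.subtype_injective
    rw [Subgroup.map_sup, hU₁, hU₂, Subgroup.map_subgroupOf_eq_of_le hLH, Subgroup.map_subgroupOf_eq_of_le hQH, hgen,
      ← MonoidHom.range_eq_map, Subgroup.range_subtype]
  obtain ⟨a, ha, b, hb, hab, hra, hrb⟩ := Cfsg.Agent.S4521.exists_reg_factor hc hg h hh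
  have hb' : (b : G) ∈ Q := hb
  obtain ⟨k, hk⟩ := (IsPGroup.iff_orderOf.mp hQ) ⟨b, hb'⟩
  have hk' : orderOf b = 2 ^ k := by
    rw [← hk, ← Subgroup.orderOf_coe b]
    exact (Subgroup.orderOf_mk (b : G) hb').symm
  have hb1 : b = 1 := by
    rw [hk'] at hrb
    have hk0 : k = 0 := by
      by_contra hk0
      exact hrb (dvd_pow_self 2 hk0)
    rw [hk0, pow_zero] at hk'
    exact orderOf_eq_one_iff.mp hk'
  rw [hb1, mul_one] at hab
  rw [← hab]
  exact ha

theorem phi_conj (L : Subgroup G) [Fintype L] (θ : IrrCharacter L) (g : G) :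
    phi L (conjIrr θ : L → ℂ) g = phi L (θ : L → ℂ) g⁻¹ := by
  classical
  unfold phi
  refine Fintype.sum_equiv (Equiv.inv L) _ _ fun l => ?_
  have h1 : IsConj g⁻¹ (((Equiv.inv L) l : L) : G) ↔ IsConj g (l : G) := by
    have h2 : (((Equiv.inv L) l : L) : G) = (l : G)⁻¹ := rfl
    rw [h2]
    constructor
    · intro h
      simpa using isConj_inv_inv h
    · exact fun h => isConj_inv_inv h
  simp only [h1]
  split_ifs with h
  · have h3 : (conjIrr θ : L → ℂ) l = (θ : L → ℂ) l⁻¹ :=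
      char_conj_eq_inv (IsIrrCharacter.isCharacter θ.2) l
    have h4 : (conjIrr θ : L → ℂ) 1 = (θ : L → ℂ) 1 := by
      have := char_conj_eq_inv (IsIrrCharacter.isCharacter θ.2) (1 : L)
      rw [inv_one] at this
      exact this
    rw [h3, h4]
    rfl
  · rfl

theorem centralChar_conjIrr (χ : IrrCharacter G) (g : G) :
    centralChar (conjIrr χ : G → ℂ) g = centralChar (χ : G → ℂ) g⁻¹ := by
  unfold centralChar
  rw [centralizer_inv_eq]
  have h3 : (conjIrr χ : G → ℂ) g = (χ : G → ℂ) g⁻¹ :=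
    char_conj_eq_inv (IsIrrCharacter.isCharacter χ.2) g
  have h4 : (conjIrr χ : G → ℂ) 1 = (χ : G → ℂ) 1 := by
    have := char_conj_eq_inv (IsIrrCharacter.isCharacter χ.2) (1 : G)
    rw [inv_one] at this
    exact this
  rw [h3, h4]

/-- The Brauer central character of a regular element. -/
theorem brauer_eq_phi {P L H : Subgroup G} [Fintype H] [Fintype L] (hLH : L ≤ H)
    (hL : ∀ x, x ∈ L ↔ x ∈ Subgroup.centralizer (P : Set G) ∧ ¬ 2 ∣ orderOf x)
    (ξ : IrrCharacter H) (θ : IrrCharacter L)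
    (hθ : ∀ l : L, (ξ : H → ℂ) ⟨l, hLH l.2⟩ / (ξ : H → ℂ) 1 = (θ : L → ℂ) l / (θ : L → ℂ) 1)
    (g : G) (hg : ¬ 2 ∣ orderOf g) :
    brauerCentralChar P H (ξ : H → ℂ) g = phi L (θ : L → ℂ) g := by
  classical
  unfold brauerCentralChar phi
  let i : L → H := fun l => ⟨l, hLH l.2⟩
  have hi : Function.Injective i := fun a b h => Subtype.ext (congrArg (fun x : H => (x : G)) h)
  have hset : {h : H | IsConj g (h : G) ∧ (h : G) ∈ Subgroup.centralizer (P : Set G)} =
      i '' {l : L | IsConj g (l : G)} := by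
    ext h
    constructor
    · rintro ⟨h1, h2⟩
      have h3 : (h : G) ∈ L := by
        rw [hL]
        refine ⟨h2, ?_⟩
        obtain ⟨w, hw⟩ := isConj_iff.mp h1
        rw [← hw, Cfsg.Agent.Lib.BlockPrincipal.orderOf_conj_eq]
        exact hg
      exact ⟨⟨h, h3⟩, h1, rfl⟩
    · rintro ⟨l, hl, rfl⟩
      exact ⟨hl, ((hL l).mp l.2).1⟩
  rw [hset, finsum_mem_image hi.injOn, finsum_mem_eq_sum_of_inter_support_eq
    (s := {l : L | IsConj g (l : G)}) (t := Finset.univ.filter (fun l : L => IsConj g (l : G)))]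
  · rw [Finset.sum_filter]
    refine Finset.sum_congr rfl fun l _ => ?_
    split_ifs
    · exact hθ l
    · rfl
  · ext l
    simp

theorem sylow_in_centralizer (P : Sylow 2 G) {l : G} (hl : l ∈ Subgroup.centralizer ((P : Subgroup G) : Set G)) :
    Cfsg.Agent.Lib.BlkSylow.IsSylowIn 2 (P : Subgroup G) (Subgroup.centralizer ({l} : Set G)) := by
  refine ⟨P.isPGroup', ?_, ?_⟩
  · intro x hx
    rw [Subgroup.mem_centralizer_singleton_iff]
    exact Subgroup.mem_centralizer_iff.mp hl x hx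
  · intro h
    have hle : (P : Subgroup G) ≤ Subgroup.centralizer ({l} : Set G) := by
      intro x hx
      rw [Subgroup.mem_centralizer_singleton_iff]
      exact Subgroup.mem_centralizer_iff.mp hl x hx
    have h2 := Subgroup.relIndex_mul_index hle
    exact P.not_dvd_index (h2 ▸ Dvd.dvd.mul_right h _)


theorem main (hM : IsPModular 2 M) (B : Set (IrrCharacter G)) (hB : IsPBlock M B) (P : Sylow 2 G)
    (hfull : IsDefectGroup 2 M B (P : Subgroup G))
    (hreal : {ψ : IrrCharacter G | ∃ χ ∈ B, (ψ : G → ℂ) = fun g => (starRingEnd ℂ) ((χ : G → ℂ) g)} = B) :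
    B = principalBlock M G := by
  classical
  haveI := hM.2.1.isPrime
  obtain ⟨L, hL, hLodd, hfact⟩ := exists_L P
  set C := Subgroup.centralizer ((P : Subgroup G) : Set G) with hC
  set N := Subgroup.normalizer ((P : Subgroup G) : Set G) with hN
  have hCN : C ≤ N := Subgroup.centralizer_le_normalizer _
  have hPN : (P : Subgroup G) ≤ N := Subgroup.le_normalizer
  set H := (P : Subgroup G) ⊔ C with hH
  have hPH : (P : Subgroup G) ≤ H := le_sup_left
  have hCH : C ≤ H := le_sup_right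
  have hHN : H ≤ N := sup_le hPN hCN
  have hLC : L ≤ C := fun x hx => ((hL x).mp hx).1
  have hLH : L ≤ H := hLC.trans hCH
  have hgen : L ⊔ (P : Subgroup G) = H := by
    apply le_antisymm
    · exact sup_le hLH hPH
    · refine sup_le le_sup_right ?_
      intro x hx
      obtain ⟨z, hz, l, hl, rfl⟩ := hfact x hx
      exact Subgroup.mul_mem _ (Subgroup.mem_sup_right hz) (Subgroup.mem_sup_left hl)
  have hcomm : ∀ u ∈ L, ∀ v ∈ (P : Subgroup G), u * v = v * u := fun u hu v hv =>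
    (Subgroup.mem_centralizer_iff.mp (hLC hu) v hv).symm
  letI : Fintype H := Fintype.ofFinite _
  letI : Fintype L := Fintype.ofFinite _
  letI : Fintype N := Fintype.ofFinite _
  letI : Fintype (ConjClasses G) := Fintype.ofFinite _
  have hPp : IsPGroup 2 (P : Subgroup G) := P.isPGroup'
  obtain ⟨ξ, hξ⟩ := exists_irr_of_isDefectGroup hM hPH hCH hHN hB hfull
  have hind := isInducedBlock_of_lam hM hPp hPH hCH hHN ξ hB hξ
  have hbr : ∀ χ ∈ B, ∀ g, MemLocalIdeal M (brauerCentralChar (P : Subgroup G) H (ξ : H → ℂ) g - centralChar (χ : G → ℂ) g) :=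
    fun χ hχ g => brauer_sub_central_of_lam hM hPp hCH hHN ξ hB hξ hχ g
  obtain ⟨θ, hθ⟩ := exists_theta hLH hPH hcomm hgen ξ
  have hphi := brauer_eq_phi (P := (P : Subgroup G)) hLH hL ξ θ hθ
  obtain ⟨χ₀, hχ₀⟩ := hB
  have hχ₀B : χ₀ ∈ B := by rw [hχ₀]; exact mem_blockOf_self χ₀
  have hχ₀c : conjIrr χ₀ ∈ B := by
    rw [← hreal]
    exact ⟨χ₀, hχ₀B, rfl⟩
  -- congruence
  have hcong : ∀ g : G, ¬ 2 ∣ orderOf g →
      MemLocalIdeal M (phi L (θ : L → ℂ) g - phi L (conjIrr θ : L → ℂ) g) := by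
    intro g hg
    have hg' : ¬ 2 ∣ orderOf g⁻¹ := by rwa [orderOf_inv]
    have h1 := hbr _ hχ₀c g
    have h2 := hbr _ hχ₀B g⁻¹
    rw [centralChar_conjIrr] at h1
    rw [hphi g hg] at h1
    rw [hphi _ hg'] at h2
    rw [phi_conj]
    have h3 := memLocalIdeal_sub h1 h2
    convert h3 using 1
    ring
  -- the action
  have hNL : N ≤ Subgroup.normalizer (L : Set G) := by
    intro n hn
    rw [Subgroup.mem_normalizer_iff]
    intro x
    have hord : orderOf (n * x * n⁻¹) = orderOf x := Cfsg.Agent.Lib.BlockPrincipal.orderOf_conj_eq n x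
    rw [hL, hL, hord]
    have h1 := Cfsg.Agent.Lib.BlkBrauer.conj_mem_centralizer_iff' (P := (P : Subgroup G)) hn (x := x)
    rw [← hC] at h1
    rw [h1]
  let α : N →* MulAut L := (Subgroup.normalizerMonoidHom L).comp (Subgroup.inclusion hNL)
  have hα : ∀ (n : N) (l : L), ((α n l : L) : G) = (n : G) * l * (n : G)⁻¹ := fun n l => rfl
  have hfus : ∀ l l' : L, IsConj (l : G) (l' : G) → ∃ a : N, α a l = l' := by
    intro l l' h
    obtain ⟨n, hn, hn2⟩ := exists_normalizer_conj hPp (sylow_in_centralizer P ((hL l).mp l.2).1)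
      (IsConj.refl _) h ((hL l).mp l.2).1 ((hL l').mp l'.2).1
    refine ⟨⟨n, hn⟩, Subtype.ext ?_⟩
    rw [hα]
    exact hn2
  have hreg : ∀ l : L, ¬ 2 ∣ orderOf (l : G) := fun l => ((hL l).mp l.2).2
  have hodd' : ¬ 2 ∣ Nat.card L := by
    obtain ⟨k, hk⟩ := hLodd
    omega
  obtain ⟨a, ha⟩ := exists_conj_of_congr hM L hodd' α hfus hreg θ (conjIrr θ) hcong
  -- `θ` is real
  have hpt : ∀ x : L, (θ : L → ℂ) (α a x) = conj ((θ : L → ℂ) x) := fun x =>
    (congrFun ha x).symm
  have hsq : ∀ x : L, (θ : L → ℂ) (α a (α a x)) = (θ : L → ℂ) x := by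
    intro x
    rw [hpt, hpt, Complex.conj_conj]
  have hpowers : ∀ (j : ℕ) (l : L), (θ : L → ℂ) (α (a ^ (2 * j + 1)) l) = conj ((θ : L → ℂ) l) := by
    intro j
    induction j with
    | zero =>
      intro l
      simpa using hpt l
    | succ j ih =>
      intro l
      have h2 : a ^ (2 * (j + 1) + 1) = a * a * a ^ (2 * j + 1) := by
        rw [show 2 * (j + 1) + 1 = 2 + (2 * j + 1) by ring, pow_add, sq]
      rw [h2, map_mul, map_mul]
      have h3 : (α a * α a * α (a ^ (2 * j + 1))) l = α a (α a (α (a ^ (2 * j + 1)) l)) := rfl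
      rw [h3, hsq, ih]
  obtain ⟨k, e, he, hke⟩ := Nat.exists_eq_pow_mul_and_not_dvd (n := orderOf a) (orderOf_pos a).ne' 2 (by norm_num)
  have hb : (((a ^ e : N) : G)) ∈ (P : Subgroup G) := by
    have h1 : (a ^ e) ^ 2 ^ k = 1 := by
      rw [← pow_mul, mul_comm, ← hke, pow_orderOf_eq_one]
    have h2 : orderOf (a ^ e) ∣ 2 ^ k := orderOf_dvd_of_pow_eq_one h1
    obtain ⟨i, _, hi⟩ := (Nat.dvd_prime_pow Nat.prime_two).mp h2
    exact mem_of_two_elt P (a ^ e).2 (by rw [Subgroup.orderOf_coe, hi])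
  have hfix : ∀ l : L, α (a ^ e) l = l := by
    intro l
    apply Subtype.ext
    rw [hα]
    have h1 := Subgroup.mem_centralizer_iff.mp ((hL l).mp l.2).1 _ hb
    rw [h1, mul_inv_cancel_right]
  obtain ⟨j, hj⟩ : ∃ j, e = 2 * j + 1 := by
    refine ⟨e / 2, ?_⟩
    omega
  have hθreal : ∀ l : L, ((θ : L → ℂ) l).im = 0 := by
    intro l
    have h1 := hpowers j l
    rw [← hj, hfix] at h1
    exact Complex.conj_eq_iff_im.mp h1.symm
  have hθ1 := eq_one_of_real hLodd θ hθreal
  -- `ξ` is in the principal block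
  have hξ0 : ξ ∈ principalBlock M H := by
    refine Cfsg.Agent.S4571.sameBlock_of_reg hM (irrOne H) ξ fun h hh => ?_
    have hhL := mem_of_reg hLH hPH hcomm hgen hPp h hh
    have h1 := hθ ⟨h, hhL⟩
    rw [hθ1] at h1
    have h2 : (ξ : H → ℂ) h / (ξ : H → ℂ) 1 = 1 := by
      simpa using h1
    rw [centralChar_irrOne]
    unfold centralChar
    rw [mul_div_assoc, h2, mul_one, sub_self]
    exact memLocalIdeal_zero
  have hone : irrOne H ∈ blockOf M (ξ : H → ℂ) := sameBlock_symm hξ0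
  have hχ₀0 : χ₀ ∈ principalBlock M G := by
    refine mem_principalBlock_of_induced_one hM H χ₀ fun g => ?_
    exact hind.2.2 _ hone _ hχ₀B g
  rw [hχ₀]
  exact blockOf_eq_of_mem (χ := irrOne G) hχ₀0

end Final

theorem result {G : Type*} [Group G] [Finite G] (M : Ideal Cfsg.AlgInt) (hM : Cfsg.IsPModular 2 M) (B : Set (Cfsg.IrrCharacter G)) (hB : Cfsg.IsPBlock M B) (P : Sylow 2 G) (hfull : Cfsg.IsDefectGroup 2 M B (P : Subgroup G)) (hnp : B ≠ Cfsg.principalBlock M G) : {ψ : Cfsg.IrrCharacter G | ∃ χ ∈ B, (ψ : G → ℂ) = fun g => (starRingEnd ℂ) ((χ : G → ℂ) g)} ≠ B := by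
  classical
  letI := Fintype.ofFinite G
  exact fun h => hnp (main hM B hB P hfull h)

end Cfsg.Agent.S4490
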