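import Mathlib
import Cfsg.Statements.S4519
import Cfsg.Agent.Lib.CharPow
import Cfsg.Agent.Lib.CharClifford
import Cfsg.Agent.Lib.RealChars
import Cfsg.Agent.Lib.DegreeDiv
import Cfsg.Agent.Lib.ImplGroup
import Cfsg.Agent.Lib.Clifford
import Cfsg.Agent.Lib.DetChar

set_option autoImplicit false
set_option linter.style.haveILetI false
set_option linter.unusedVariables false
set_option linter.unusedSectionVars false
open Cfsg

namespace Cfsg.Agent.S4519

open Subgroup Cfsg.Agent.Lib.CharBasic Cfsg.Agent.Lib.CharInd Cfsg.Agent.Lib.CharInduction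
open Cfsg.Agent.Lib.CharClifford Cfsg.Agent.Lib.CharPow Cfsg.Agent.Lib
open scoped ComplexConjugate

universe u

/-- Parity with weights for a permutation of 2-power order. -/
theorem sum_weight_modEq {α : Type*} [Fintype α] [DecidableEq α] (e : ℕ) :
    ∀ (f : α → α), f^[2 ^ e] = id → ∀ (w : α → ℕ), (∀ a, w (f a) = w a) →
      ((∑ a, w a : ℕ) : ZMod 2) = ∑ a ∈ Finset.univ.filter (fun a => f a = a), (w a : ZMod 2) := by
  induction e with
  | zero =>
    intro f hf w _
    have hf' : ∀ a, f a = a := fun a => by simpa using congrFun hf a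
    simp [hf']
  | succ e ih =>
    intro f hf w hw
    have hg : (f ∘ f)^[2 ^ e] = id := by
      have h2 : (f ∘ f) = f^[2] := rfl
      rw [h2, ← Function.iterate_mul]
      have h3 : 2 * 2 ^ e = 2 ^ (e + 1) := by ring
      rw [h3]
      exact hf
    rw [ih (f ∘ f) hg w (fun a => by simp [hw])]
    have hsplit : Finset.univ.filter (fun a => (f ∘ f) a = a) =
        Finset.univ.filter (fun a => f a = a) ∪
          Finset.univ.filter (fun a => (f ∘ f) a = a ∧ f a ≠ a) := by
      ext a
      simp only [Function.comp_apply, Finset.mem_filter, Finset.mem_univ, true_and,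
        Finset.mem_union]
      constructor
      · intro h
        by_cases h1 : f a = a
        · exact Or.inl h1
        · exact Or.inr ⟨h, h1⟩
      · rintro (h | h)
        · rw [h, h]
        · exact h.1
    rw [hsplit, Finset.sum_union]
    · have h0 : ∑ a ∈ Finset.univ.filter (fun a => (f ∘ f) a = a ∧ f a ≠ a), (w a : ZMod 2) = 0 := by
        apply Finset.sum_involution (fun a _ => f a)
        · intro a _
          rw [hw]
          have : (2 : ZMod 2) = 0 := rfl
          calc (w a : ZMod 2) + w a = 2 * w a := by ring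
            _ = 0 := by rw [this, zero_mul]
        · intro a ha _
          exact (Finset.mem_filter.mp ha).2.2
        · intro a ha
          have h1 := (Finset.mem_filter.mp ha).2
          simp only [Finset.mem_filter, Finset.mem_univ, true_and, Function.comp_apply] at h1 ⊢
          refine ⟨by rw [h1.1], ?_⟩
          intro h2
          apply h1.2
          rw [← h1.1, h2, h2]
        · intro a ha
          exact (Finset.mem_filter.mp ha).2.1
      rw [h0, add_zero]
    · rw [Finset.disjoint_left]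
      intro a h1 h2
      exact (Finset.mem_filter.mp h2).2.2 (Finset.mem_filter.mp h1).2

/-- The data of a field automorphism of 2-power order inverting odd-order roots of unity. -/
structure KData (G : Type*) [Group G] (k e : ℕ) : Prop where
  hk : Nat.Coprime k (Nat.card G)
  hke : k ^ (2 ^ e) ≡ 1 [MOD Nat.card G]
  hk₂ : ∀ g : G, Odd (orderOf g) → g ^ k = g⁻¹

theorem KData.subgroup {G : Type*} [Group G] [Finite G] {k e : ℕ} (h : KData G k e)
    (H : Subgroup G) : KData H k e where
  hk := Nat.Coprime.coprime_dvd_right (Subgroup.card_subgroup_dvd_card H) h.hk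
  hke := Nat.ModEq.of_dvd (Subgroup.card_subgroup_dvd_card H) h.hke
  hk₂ := fun g hg => by
    apply Subtype.ext
    have h1 := h.hk₂ (g : G) (by rwa [Subgroup.orderOf_coe])
    simpa using h1

theorem KData.pow_mul_mem {G : Type*} [Group G] [Finite G] {k e : ℕ} (h : KData G k e)
    (N : Subgroup G) [N.Normal] (hidx : Odd N.index) (g : G) : g ^ k * g ∈ N := by
  obtain ⟨a, m, hm, hcard⟩ := Nat.exists_eq_two_pow_mul_odd (n := Nat.card G) Nat.card_pos.ne'
  have hord : Odd (orderOf (g ^ (2 ^ a))) := by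
    apply Odd.of_dvd_nat hm
    apply orderOf_dvd_of_pow_eq_one
    rw [← pow_mul, ← hcard, pow_card_eq_one']
  have h1 := h.hk₂ _ hord
  have h2 : (g ^ k * g) ^ (2 ^ a) = 1 := by
    have h3 : g ^ k * g = g ^ (k + 1) := by rw [pow_succ]
    rw [h3, ← pow_mul, mul_comm, pow_mul, pow_succ, h1, inv_mul_cancel]
  -- pass to the quotient
  have h4 : (QuotientGroup.mk (g ^ k * g) : G ⧸ N) = 1 := by
    have h5 : orderOf (QuotientGroup.mk (g ^ k * g) : G ⧸ N) ∣ 2 ^ a := by
      apply orderOf_dvd_of_pow_eq_one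
      rw [← QuotientGroup.mk_pow, h2, QuotientGroup.mk_one]
    have h6 : orderOf (QuotientGroup.mk (g ^ k * g) : G ⧸ N) ∣ N.index := by
      rw [Subgroup.index_eq_card]
      exact orderOf_dvd_natCard _
    have h7 : Nat.Coprime (2 ^ a) N.index := Nat.Coprime.pow_left _ (Nat.coprime_two_left.mpr hidx)
    have h8 := Nat.eq_one_of_dvd_coprimes h7 h5 h6
    exact orderOf_eq_one_iff.mp h8
  exact (QuotientGroup.eq_one_iff _).mp h4

/-- The number of constituents etc. -/
theorem D_odd {G : Type u} [Group G] [Fintype G] (N : Subgroup G) [hN : N.Normal] [Fintype N]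
    (hidx : Odd N.index) {χ χ' : G → ℂ} (hχ : IsIrrCharacter G χ) (hχ' : IsIrrCharacter G χ')
    {θ : N → ℂ} (hθ : IsIrrCharacter N θ) (h1 : classInner (fun n : N => χ n) θ ≠ 0)
    (h2 : classInner (fun n : N => χ' n) θ ≠ 0) :
    ∃ D : ℕ, Odd D ∧ classInner (fun n : N => χ n) (fun n : N => χ' n) = D := by
  classical
  set O := Finset.univ.image (fun g : G => conjBy N hN g θ) with hO
  have hr1 := restrict_eq_smul_sum N hN hχ hθ h1
  have hr2 := restrict_eq_smul_sum N hN hχ' hθ h2
  obtain ⟨e, he⟩ := classInner_char_irr (isCharacter_restrict N (IsIrrCharacter.isCharacter hχ)) hθ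
  obtain ⟨e', he'⟩ := classInner_char_irr (isCharacter_restrict N (IsIrrCharacter.isCharacter hχ')) hθ
  rw [he] at hr1
  rw [he'] at hr2
  obtain ⟨d, hd⟩ := isCharacter_one_eq (IsIrrCharacter.isCharacter hθ)
  obtain ⟨c, hc⟩ := isCharacter_one_eq (IsIrrCharacter.isCharacter hχ)
  obtain ⟨c', hc'⟩ := isCharacter_one_eq (IsIrrCharacter.isCharacter hχ')
  have hd0 : d ≠ 0 := by
    intro h0
    have := Cfsg.Agent.Lib.Clifford.irr_degree_ne_zero hθ
    rw [hd, h0] at this
    exact this (by simp)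
  have hψ1 : ∀ ψ ∈ O, ψ 1 = d := by
    intro ψ hψ
    obtain ⟨g, -, rfl⟩ := Finset.mem_image.mp hψ
    rw [conjBy_apply, ← hd]
    congr 1
    ext
    simp
  have hsum1 : (∑ ψ ∈ O, ψ) 1 = (O.card : ℂ) * d := by
    rw [Finset.sum_apply, Finset.sum_congr rfl hψ1, Finset.sum_const, nsmul_eq_mul]
  have hcc : ∀ (c e : ℕ) (χ : G → ℂ), χ 1 = c →
      (fun n : N => χ n) = ((e : ℕ) : ℂ) • ∑ ψ ∈ O, ψ → c = e * O.card * d := by
    intro c e χ hc hr
    have h3 := congrFun hr 1
    simp only [Pi.smul_apply, smul_eq_mul, hsum1] at h3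
    have h4 : χ ((1 : N) : G) = c := by simpa using hc
    rw [h4] at h3
    have : (c : ℂ) = ((e * O.card * d : ℕ) : ℂ) := by
      rw [h3]
      push_cast
      ring
    exact_mod_cast this
  have hc1 := hcc c e χ hc hr1
  have hc2 := hcc c' e' χ' hc' hr2
  have hdiv1 := (Cfsg.Agent.Lib.DegreeDiv.degree_div N hχ hθ h1 hc hd).2
  have hdiv2 := (Cfsg.Agent.Lib.DegreeDiv.degree_div N hχ' hθ h2 hc' hd).2
  have hq1 : c / d = e * O.card := by
    rw [hc1]
    exact Nat.mul_div_cancel _ (Nat.pos_of_ne_zero hd0)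
  have hq2 : c' / d = e' * O.card := by
    rw [hc2]
    exact Nat.mul_div_cancel _ (Nat.pos_of_ne_zero hd0)
  rw [hq1] at hdiv1
  rw [hq2] at hdiv2
  have hodd1 : Odd (e * O.card) := Odd.of_dvd_nat hidx hdiv1
  have hodd2 : Odd (e' * O.card) := Odd.of_dvd_nat hidx hdiv2
  rw [Nat.odd_mul] at hodd1 hodd2
  refine ⟨e * e' * O.card, (hodd1.1.mul hodd2.1).mul hodd1.2, ?_⟩
  rw [hr1, hr2, classInner_smul_left, classInner_smul_right, classInner_sum_left]
  have h5 : ∑ ψ ∈ O, classInner ψ (∑ ψ ∈ O, ψ) = (O.card : ℂ) := by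
    have h6 : ∀ ψ ∈ O, classInner ψ (∑ ψ ∈ O, ψ) = 1 := by
      intro ψ hψ
      rw [classInner_sum_right, Finset.sum_eq_single ψ]
      · refine classInner_irr_self ?_
        obtain ⟨g, -, rfl⟩ := Finset.mem_image.mp hψ
        exact isIrrCharacter_conjBy N hN g hθ
      · intro ψ' hψ' hne
        apply classInner_irr_ne
        · obtain ⟨g, -, rfl⟩ := Finset.mem_image.mp hψ
          exact isIrrCharacter_conjBy N hN g hθ
        · obtain ⟨g, -, rfl⟩ := Finset.mem_image.mp hψ'
          exact isIrrCharacter_conjBy N hN g hθ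
        · exact fun h => hne h.symm
      · intro h; exact absurd hψ h
    rw [Finset.sum_congr rfl h6]
    simp
  rw [h5]
  push_cast
  simp
  ring


/-- The uniqueness core: a parity argument on the characters of the odd quotient. -/
theorem unique_core {G : Type u} [Group G] [Fintype G] (N : Subgroup G) [hN : N.Normal] [Fintype N]
    (hidx : Odd N.index) {k e : ℕ} (hK : KData G k e) {χ χ' : G → ℂ} (hχ : IsIrrCharacter G χ)
    (hχ' : IsIrrCharacter G χ') (hf : ∀ g, χ (g ^ k) = χ g) (hf' : ∀ g, χ' (g ^ k) = χ' g)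
    {D : ℕ} (hD : Odd D) (hDeq : classInner (fun n : N => χ n) (fun n : N => χ' n) = D) : χ = χ' := by
  classical
  let Q := G ⧸ N
  haveI : Fintype Q := Fintype.ofFinite Q
  let π : G →* Q := QuotientGroup.mk' N
  have hπ : Function.Surjective π := QuotientGroup.mk'_surjective N
  have hoddQ : Odd (Nat.card Q) := by
    rw [← Subgroup.index_eq_card]
    exact hidx
  let ξ : G → ℂ := χ * fun g => conj (χ' g)
  have hξc : IsCharacter G ξ := isCharacter_mul (IsIrrCharacter.isCharacter hχ)
    (RealChars.isCharacter_conj (IsIrrCharacter.isCharacter hχ'))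
  have hlift : ∀ β : IrrCharacter Q, IsIrrCharacter G ((β : Q → ℂ) ∘ π) := fun β =>
    isIrrCharacter_comp_of_surjective π hπ β.2
  have hm : ∀ β : IrrCharacter Q, ∃ m : ℕ, classInner ξ ((β : Q → ℂ) ∘ π) = m := fun β =>
    classInner_char_irr hξc (hlift β)
  choose m hm using hm
  have hb : ∀ β : IrrCharacter Q, ∃ b : ℕ, (β : Q → ℂ) 1 = b := fun β =>
    isCharacter_one_eq (IsIrrCharacter.isCharacter β.2)
  choose b hb using hb
  -- column orthogonality
  have hcol : ∀ g : G, ∑ β : IrrCharacter Q, (b β : ℂ) * conj (((β : Q → ℂ) ∘ π) g) =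
      if g ∈ N then (Nat.card Q : ℂ) else 0 := by
    intro g
    have h1 := sum_irr_mul_conj (1 : Q) (π g)
    simp only [hb] at h1
    simp only [Function.comp_apply]
    rw [h1]
    by_cases hg : g ∈ N
    · have h2 : π g = 1 := (QuotientGroup.eq_one_iff g).mpr hg
      rw [if_pos hg, h2, if_pos (IsConj.refl _)]
      have h3 : Subgroup.centralizer ({1} : Set Q) = ⊤ := by
        ext x
        simp [Subgroup.mem_centralizer_singleton_iff]
      rw [h3, Subgroup.card_top]
    · have h2 : π g ≠ 1 := fun h => hg ((QuotientGroup.eq_one_iff g).mp h)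
      rw [if_neg hg, if_neg]
      rw [isConj_one_right]
      exact h2
  -- the identity
  have hsum : (D : ℂ) = ∑ β : IrrCharacter Q, (b β : ℂ) * (m β : ℂ) := by
    simp only [← hm]
    unfold classInner
    have h1 : ∀ β : IrrCharacter Q, (b β : ℂ) * ((Nat.card G : ℂ)⁻¹ * ∑ g, ξ g * conj (((β : Q → ℂ) ∘ π) g))
        = (Nat.card G : ℂ)⁻¹ * ∑ g, ξ g * ((b β : ℂ) * conj (((β : Q → ℂ) ∘ π) g)) := by
      intro β
      rw [mul_left_comm, Finset.mul_sum]
      congr 1
      refine Finset.sum_congr rfl fun g _ => ?_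
      ring
    simp only [h1]
    rw [← Finset.mul_sum, Finset.sum_comm]
    simp only [← Finset.mul_sum, hcol]
    have h2 : ∑ g : G, ξ g * (if g ∈ N then (Nat.card Q : ℂ) else 0) =
        ∑ n : N, ξ n * (Nat.card Q : ℂ) := by
      rw [sum_of_vanish_off N]
      · refine Finset.sum_congr rfl fun n _ => ?_
        simp
      · intro g hg
        simp [hg]
    rw [h2, ← hDeq]
    unfold classInner
    rw [← Finset.sum_mul]
    have hcard : (Nat.card G : ℂ) = (Nat.card N : ℂ) * (Nat.card Q : ℂ) := by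
      have := Subgroup.card_mul_index N
      rw [Subgroup.index_eq_card] at this
      rw [← this]
      push_cast
      rfl
    have hQ : (Nat.card Q : ℂ) ≠ 0 := by exact_mod_cast Nat.card_pos.ne'
    have hNN : (Nat.card N : ℂ) ≠ 0 := by exact_mod_cast Nat.card_pos.ne'
    rw [hcard]
    field_simp
    rfl
  -- invariance
  have hpowQ : ∀ g : G, π (g ^ k) = (π g)⁻¹ := by
    intro g
    have h1 := hK.pow_mul_mem N hidx g
    have h2 : π (g ^ k * g) = 1 := (QuotientGroup.eq_one_iff _).mpr h1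
    rw [map_mul] at h2
    exact eq_inv_of_mul_eq_one_left h2
  have hk' : (Nat.card G).Coprime k := hK.hk.symm
  have hξf : ∀ g, ξ (g ^ k) = ξ g := by
    intro g
    simp only [ξ, Pi.mul_apply, hf, hf']
  have hmconj : ∀ β : IrrCharacter Q, m (RealChars.conjIrr β) = m β := by
    intro β
    have h1 : classInner ξ (((RealChars.conjIrr β : IrrCharacter Q) : Q → ℂ) ∘ π) =
        classInner ξ ((β : Q → ℂ) ∘ π) := by
      unfold classInner
      congr 1
      rw [← Equiv.sum_comp (powCoprime hk') (fun g => ξ g * conj (((β : Q → ℂ) ∘ π) g))]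
      refine Finset.sum_congr rfl fun g _ => ?_
      have h2 : (powCoprime hk' g) = g ^ k := rfl
      rw [h2, hξf]
      congr 1
      simp only [Function.comp_apply, map_pow, hpowQ, RealChars.conjIrr]
      rw [char_conj_eq_inv (IsIrrCharacter.isCharacter β.2)]
    rw [hm, hm] at h1
    exact_mod_cast h1
  have hbconj : ∀ β : IrrCharacter Q, b (RealChars.conjIrr β) = b β := by
    intro β
    have h1 := hb (RealChars.conjIrr β)
    have h2 : ((RealChars.conjIrr β : IrrCharacter Q) : Q → ℂ) 1 = conj ((β : Q → ℂ) 1) := rfl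
    rw [h2, hb β] at h1
    simp only [map_natCast] at h1
    exact_mod_cast h1.symm
  -- parity
  have hpar := sum_weight_modEq (e := 1) (RealChars.conjIrr (G := Q))
    (by
      funext β
      show RealChars.conjIrr (RealChars.conjIrr β) = β
      exact RealChars.conjIrr_conjIrr β)
    (fun β => b β * m β) (fun β => by rw [hbconj, hmconj])
  have hDnat : D = ∑ β : IrrCharacter Q, b β * m β := by
    have : (D : ℂ) = ((∑ β : IrrCharacter Q, b β * m β : ℕ) : ℂ) := by
      rw [hsum]
      push_cast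
      rfl
    exact_mod_cast this
  rw [← hDnat] at hpar
  have hDz : (D : ZMod 2) = 1 := by
    rw [ZMod.natCast_eq_one_iff_odd]
    exact hD
  rw [hDz] at hpar
  -- a fixed character with nonzero multiplicity
  obtain ⟨β, hβ, hne⟩ : ∃ β ∈ Finset.univ.filter (fun β => RealChars.conjIrr β = β),
      ((b β * m β : ℕ) : ZMod 2) ≠ 0 := by
    by_contra hall
    push Not at hall
    rw [Finset.sum_eq_zero hall] at hpar
    exact one_ne_zero hpar
  have hβreal := (RealChars.conjIrr_eq_iff β).mp (Finset.mem_filter.mp hβ).2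
  have hβone := RealChars.eq_one_of_real hoddQ β hβreal
  have hm0 : m β ≠ 0 := by
    intro h0
    apply hne
    simp [h0]
  by_contra hne'
  apply hm0
  have h3 := hm β
  have h4 : ((β : Q → ℂ) ∘ π) = fun _ => 1 := by
    rw [hβone]
    rfl
  rw [h4] at h3
  have h5 : classInner ξ (fun _ => (1 : ℂ)) = classInner χ χ' := by
    unfold classInner
    simp [ξ]
  rw [h5, classInner_irr_ne hχ hχ' hne'] at h3
  exact_mod_cast h3.symm

/-- Uniqueness of the fixed character over `θ`. -/
theorem unique_fixed {G : Type u} [Group G] [Fintype G] (N : Subgroup G) [hN : N.Normal] [Fintype N]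
    (hidx : Odd N.index) {k e : ℕ} (hK : KData G k e) {χ χ' : G → ℂ} (hχ : IsIrrCharacter G χ)
    (hχ' : IsIrrCharacter G χ') (hf : ∀ g, χ (g ^ k) = χ g) (hf' : ∀ g, χ' (g ^ k) = χ' g)
    {θ : N → ℂ} (hθ : IsIrrCharacter N θ) (h1 : classInner (fun n : N => χ n) θ ≠ 0)
    (h2 : classInner (fun n : N => χ' n) θ ≠ 0) : χ = χ' := by
  obtain ⟨D, hD, hDeq⟩ := D_odd N hidx hχ hχ' hθ h1 h2
  exact unique_core N hidx hK hχ hχ' hf hf' hD hDeq

/-- The power map on irreducible characters. -/
noncomputable def powIrr {G : Type u} [Group G] [Fintype G] {k e : ℕ} (hK : KData G k e)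
    (χ : IrrCharacter G) : IrrCharacter G :=
  ⟨fun g => (χ : G → ℂ) (g ^ k), isIrr_pow χ.2 hK.hk.symm⟩

theorem powIrr_iterate {G : Type u} [Group G] [Fintype G] {k e : ℕ} (hK : KData G k e) (m : ℕ)
    (χ : IrrCharacter G) (g : G) :
    ((powIrr hK)^[m] χ : G → ℂ) g = (χ : G → ℂ) (g ^ k ^ m) := by
  induction m generalizing χ g with
  | zero => simp
  | succ m ih =>
    rw [Function.iterate_succ_apply, ih]
    show (χ : G → ℂ) ((g ^ k ^ m) ^ k) = _
    rw [← pow_mul, pow_succ]

theorem powIrr_order {G : Type u} [Group G] [Fintype G] {k e : ℕ} (hK : KData G k e) :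
    (powIrr hK)^[2 ^ e] = id := by
  funext χ
  apply Subtype.ext
  funext g
  rw [powIrr_iterate]
  show (χ : G → ℂ) _ = (χ : G → ℂ) g
  congr 1
  have h1 : g ^ (k ^ 2 ^ e) = g ^ 1 := by
    rw [pow_eq_pow_iff_modEq]
    exact Nat.ModEq.of_dvd (orderOf_dvd_natCard g) hK.hke
  rw [h1, pow_one]

/-- The norm of an induced character from a normal subgroup. -/
theorem norm_indFun {G : Type u} [Group G] [Fintype G] (N : Subgroup G) [hN : N.Normal] [Fintype N]
    (hidx : Odd N.index) {θ : N → ℂ} (hθ : IsIrrCharacter N θ) :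
    ∃ r : ℕ, Odd r ∧ classInner (indFun N θ) (indFun N θ) = r := by
  classical
  have hcl := isClassFunction_of_isCharacter (indFun_isCharacter N (IsIrrCharacter.isCharacter hθ))
  have h0 : classInner (indFun N θ) (indFun N θ) =
      (Nat.card N : ℂ)⁻¹ * ∑ x : G, classInner θ (conjBy N hN x θ) := by
    rw [frobenius N θ hcl, indFun_restrict_normal N hN, classInner_smul_right, classInner_sum_right]
    simp
  let T := Cfsg.Agent.Lib.DegreeDiv.inertia N hN θ
  have hT : ∀ x : G, conjBy N hN x θ = θ ↔ x ∈ T := by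
    intro x
    rw [Cfsg.Agent.Lib.DegreeDiv.mem_inertia, funext_iff]
    rfl
  have hNT : N ≤ T := Cfsg.Agent.Lib.DegreeDiv.le_inertia N hN (IsIrrCharacter.isCharacter hθ)
  have h1 : ∀ x : G, classInner θ (conjBy N hN x θ) = if x ∈ T then 1 else 0 := by
    intro x
    by_cases hx : x ∈ T
    · rw [if_pos hx, (hT x).mpr hx, classInner_irr_self hθ]
    · rw [if_neg hx]
      apply classInner_irr_ne hθ (isIrrCharacter_conjBy N hN x hθ)
      intro h
      exact hx ((hT x).mp h.symm)
  simp only [h1] at h0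
  rw [Finset.sum_boole] at h0
  have h2 : (Finset.univ.filter (fun x => x ∈ T)).card = Nat.card T := by
    rw [Nat.card_eq_fintype_card, Fintype.card_subtype]
  rw [h2] at h0
  obtain ⟨r, hr⟩ : Nat.card N ∣ Nat.card T := Subgroup.card_dvd_of_le hNT
  refine ⟨r, ?_, ?_⟩
  · -- `r` divides the index of `N`
    apply Odd.of_dvd_nat hidx
    have h3 := Subgroup.card_mul_index N
    have h4 := Subgroup.card_mul_index T
    have h5 : Nat.card N * N.index = Nat.card N * (r * T.index) := by
      rw [h3, ← h4, hr]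
      ring
    have h6 := Nat.eq_of_mul_eq_mul_left Nat.card_pos h5
    exact ⟨T.index, h6⟩
  · rw [h0, hr]
    have hne : (Nat.card N : ℂ) ≠ 0 := by exact_mod_cast Nat.card_pos.ne'
    push_cast
    field_simp

/-- Existence of a fixed character over `θ`. -/
theorem exists_fixed {G : Type u} [Group G] [Fintype G] (N : Subgroup G) [hN : N.Normal] [Fintype N]
    (hidx : Odd N.index) {k e : ℕ} (hK : KData G k e) {θ : N → ℂ} (hθ : IsIrrCharacter N θ)
    (hfix : ∀ n : N, θ (n ^ k) = θ n) :
    ∃ χ : G → ℂ, IsIrrCharacter G χ ∧ (∀ g, χ (g ^ k) = χ g) ∧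
      classInner (fun n : N => χ n) θ ≠ 0 := by
  classical
  have hindc := indFun_isCharacter N (IsIrrCharacter.isCharacter hθ)
  have hcl := isClassFunction_of_isCharacter hindc
  obtain ⟨r, hr, hnorm⟩ := norm_indFun N hidx hθ
  obtain ⟨m, hm⟩ := exists_nat_decomp hindc
  have hmul : ∀ i : IrrCharacter G, classInner (indFun N θ) (i : G → ℂ) = m i := by
    intro i
    rw [hm]
    exact classInner_nat_decomp m i i.2
  have hk' : (Nat.card G).Coprime k := hK.hk.symm
  have hkN : (Nat.card N).Coprime k :=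
    Nat.Coprime.coprime_dvd_left (Subgroup.card_subgroup_dvd_card N) hk'
  have hinv : ∀ i : IrrCharacter G, m (powIrr hK i) = m i := by
    intro i
    have h1 : classInner (indFun N θ) ((powIrr hK i : IrrCharacter G) : G → ℂ) =
        classInner (indFun N θ) (i : G → ℂ) := by
      have hc1 := isClassFunction_of_isCharacter (IsIrrCharacter.isCharacter (powIrr hK i).2)
      have hc2 := isClassFunction_of_isCharacter (IsIrrCharacter.isCharacter i.2)
      rw [frobenius N θ hc1, frobenius N θ hc2]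
      unfold classInner
      congr 1
      rw [← Equiv.sum_comp (powCoprime hkN) (fun n : N => θ n * conj ((i : G → ℂ) n))]
      refine Finset.sum_congr rfl fun n _ => ?_
      have h2 : powCoprime hkN n = n ^ k := rfl
      rw [h2, hfix]
      rfl
    rw [hmul, hmul] at h1
    exact_mod_cast h1
  have hsq : (r : ℂ) = ((∑ i, m i * m i : ℕ) : ℂ) := by
    rw [← hnorm, hm]
    rw [classInner_nat_decomp_self]
    push_cast
    simp only [sq]
  have hsq' : r = ∑ i, m i * m i := by exact_mod_cast hsq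
  have hpar := sum_weight_modEq e (powIrr hK) (powIrr_order hK) (fun i => m i * m i)
    (fun i => by rw [hinv])
  rw [← hsq'] at hpar
  have hrz : (r : ZMod 2) = 1 := by
    rw [ZMod.natCast_eq_one_iff_odd]
    exact hr
  rw [hrz] at hpar
  obtain ⟨i, hi, hne⟩ : ∃ i ∈ Finset.univ.filter (fun i => powIrr hK i = i),
      ((m i * m i : ℕ) : ZMod 2) ≠ 0 := by
    by_contra hall
    push Not at hall
    rw [Finset.sum_eq_zero hall] at hpar
    exact one_ne_zero hpar
  have hm0 : m i ≠ 0 := by
    intro h0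
    apply hne
    simp [h0]
  refine ⟨i, i.2, ?_, ?_⟩
  · intro g
    have h1 := (Finset.mem_filter.mp hi).2
    exact congrFun (congrArg Subtype.val h1) g
  · intro h0
    apply hm0
    have hc2 := isClassFunction_of_isCharacter (IsIrrCharacter.isCharacter i.2)
    have h1 := hmul i
    rw [frobenius N θ hc2] at h1
    have h2 := classInner_conj_symm (fun n : N => (i : G → ℂ) n) θ
    rw [h0, map_zero] at h2
    rw [← h2] at h1
    exact_mod_cast h1.symm

/-- A fixed extension from an extension. -/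
theorem exists_fixed_ext {G : Type u} [Group G] [Fintype G] (N : Subgroup G) [hN : N.Normal]
    (hidx : Odd N.index) {k e : ℕ} (hK : KData G k e) {θ : N → ℂ} (hθ : IsIrrCharacter N θ)
    (hfix : ∀ n : N, θ (n ^ k) = θ n) {η₀ : G → ℂ} (hη₀ : IsIrrCharacter G η₀)
    (hext : ∀ n : N, η₀ n = θ n) :
    ∃ η₁ : G → ℂ, IsIrrCharacter G η₁ ∧ (∀ g, η₁ (g ^ k) = η₁ g) ∧ ∀ n : N, η₁ n = θ n := by
  classical
  have hηN : IsIrrCharacter N (fun n : N => η₀ n) := by
    rw [funext hext]
    exact hθ
  have hσ : IsIrrCharacter G (fun g => η₀ (g ^ k)) := isIrr_pow hη₀ hK.hk.symm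
  obtain ⟨lam, hlamN, hlam⟩ := Cfsg.Agent.Lib.DetChar.exists_eq_mul_of_extends N hη₀ hηN hσ (fun n => by
    have h1 : ((n : G) ^ k) = ((n ^ k : N) : G) := by simp
    rw [h1, hext, hext, hfix])
  obtain ⟨a, ha⟩ := hidx
  let μ : G →* ℂˣ := lam ^ (a + 1)
  have hlamindex : ∀ g, lam g ^ N.index = 1 := by
    intro g
    rw [← map_pow]
    exact hlamN ⟨_, Subgroup.pow_index_mem N g⟩
  have hμ2 : ∀ g, μ g * μ g = lam g := by
    intro g
    show lam g ^ (a + 1) * lam g ^ (a + 1) = lam g
    rw [← pow_add]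
    have h1 : a + 1 + (a + 1) = N.index + 1 := by omega
    rw [h1, pow_succ, hlamindex, one_mul]
  have hμN : ∀ n : N, μ n = 1 := by
    intro n
    show lam n ^ (a + 1) = 1
    rw [hlamN, one_pow]
  have hμk : ∀ g, μ (g ^ k) * μ g = 1 := by
    intro g
    rw [← map_mul]
    exact hμN ⟨_, hK.pow_mul_mem N ⟨a, ha⟩ g⟩
  refine ⟨(fun g => ((μ g : ℂˣ) : ℂ)) * η₀, Cfsg.Agent.Lib.DetChar.isIrr_mul_hom μ hη₀, ?_, ?_⟩
  · intro g
    have h1 := congrFun hlam g
    simp only [Pi.mul_apply] at h1 ⊢
    rw [h1, ← mul_assoc, ← Units.val_mul]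
    congr 2
    have h2 := hμk g
    calc μ (g ^ k) * lam g = μ (g ^ k) * (μ g * μ g) := by rw [hμ2]
      _ = (μ (g ^ k) * μ g) * μ g := by rw [mul_assoc]
      _ = μ g := by rw [h2, one_mul]
  · intro n
    simp only [Pi.mul_apply]
    rw [hμN, hext]
    simp

/-- An intermediate normal subgroup of the right index. -/
theorem exists_intermediate {H : Type u} [Group H] [Finite H] (p : ℕ) [Fact p.Prime] (a : ℕ)
    (N : Subgroup H) [hN : N.Normal] (hidx : N.index = p ^ (a + 1)) :
    ∃ M : Subgroup H, N ≤ M ∧ M.Normal ∧ M.index = p ^ a := by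
  classical
  let Q := H ⧸ N
  let π : H →* Q := QuotientGroup.mk' N
  have hπ : Function.Surjective π := QuotientGroup.mk'_surjective N
  have hcard : Nat.card Q = p ^ (a + 1) := by
    rw [← Subgroup.index_eq_card]
    exact hidx
  have hP : IsPGroup p Q := IsPGroup.of_card hcard
  haveI : Nontrivial Q := by
    rw [hP.nontrivial_iff_card]
    exact ⟨a + 1, Nat.succ_pos a, hcard⟩
  haveI hZ : Nontrivial (Subgroup.center Q) := hP.center_nontrivial
  have hPZ : IsPGroup p (Subgroup.center Q) := hP.to_subgroup _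
  obtain ⟨j, hj, hcZ⟩ := hPZ.nontrivial_iff_card.mp hZ
  have hdvd : p ∣ Nat.card (Subgroup.center Q) := by
    rw [hcZ]
    exact dvd_pow_self p hj.ne'
  obtain ⟨c, hc⟩ := exists_prime_orderOf_dvd_card' p hdvd
  let C : Subgroup Q := Subgroup.zpowers ((c : Subgroup.center Q) : Q)
  have hCcard : Nat.card C = p := by
    rw [Nat.card_zpowers, Subgroup.orderOf_coe, hc]
  haveI hCn : C.Normal := by
    constructor
    intro x hx g
    obtain ⟨i, rfl⟩ := Subgroup.mem_zpowers_iff.mp hx
    have h1 : g * ((c : Q) ^ i) * g⁻¹ = (c : Q) ^ i := by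
      have h2 : Commute g ((c : Q) ^ i) := by
        apply Commute.zpow_right
        exact Subgroup.mem_center_iff.mp c.2 g
      rw [h2.eq, mul_inv_cancel_right]
    rw [h1]
    exact Subgroup.zpow_mem_zpowers _ _
  refine ⟨C.comap π, ?_, hCn.comap π, ?_⟩
  · intro n hn
    have h1 : π n = 1 := (QuotientGroup.eq_one_iff n).mpr hn
    rw [Subgroup.mem_comap, h1]
    exact C.one_mem
  · rw [Subgroup.index_comap_of_surjective C hπ]
    have h1 := Subgroup.card_mul_index C
    rw [hCcard, hcard, pow_succ, mul_comm] at h1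
    exact Nat.eq_of_mul_eq_mul_right (Fact.out : p.Prime).pos h1

/-- Extension to a group with `p`-power odd index. -/
theorem ext_of_pPower {H : Type u} [Group H] [Fintype H] {k e : ℕ} (hK : KData H k e) (p : ℕ)
    [Fact p.Prime] (a : ℕ) :
    ∀ (N : Subgroup H) [hN : N.Normal], N.index = p ^ a → Odd N.index → ∀ (θ : N → ℂ),
      IsIrrCharacter N θ → (∀ n : N, θ (n ^ k) = θ n) →
      (∀ (g : H) (n : N), θ ⟨g * n * g⁻¹, hN.conj_mem (n : H) n.2 g⟩ = θ n) →
      ∃ η : H → ℂ, IsIrrCharacter H η ∧ ∀ n : N, η n = θ n := by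
  classical
  induction a with
  | zero =>
    intro N hN hidx _ θ hθ _ hinv
    refine Cfsg.Agent.Lib.ImplGroup.exists_ext_of_cyclic N ?_ hθ hinv
    have hc : Nat.card (H ⧸ N) = 1 := by
      rw [← Subgroup.index_eq_card, hidx, pow_zero]
    haveI : Subsingleton (H ⧸ N) := (Nat.card_eq_one_iff_unique.mp hc).1
    exact isCyclic_of_subsingleton
  | succ a ih =>
    intro N hN hidx hodd θ hθ hfix hinv
    obtain ⟨M, hNM, hMn, hMi⟩ := exists_intermediate p a N hidx
    haveI : Fintype M := Fintype.ofFinite _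
    let N' : Subgroup M := N.subgroupOf M
    haveI hN' : N'.Normal := Subgroup.normal_subgroupOf
    haveI : Fintype N' := Fintype.ofFinite _
    let ε : N' ≃* N := Subgroup.subgroupOfEquivOfLe hNM
    have hε : ∀ n : N', ((ε n : N) : H) = ((n : M) : H) := fun n => rfl
    have hθ' : IsIrrCharacter N' (θ ∘ ε) :=
      isIrrCharacter_comp_of_surjective ε.toMonoidHom ε.surjective hθ
    have hfix' : ∀ n : N', (θ ∘ ε) (n ^ k) = (θ ∘ ε) n := by
      intro n
      simp only [Function.comp_apply, map_pow, hfix]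
    have hinv' : ∀ (g : M) (n : N'), (θ ∘ ε) ⟨g * n * g⁻¹, hN'.conj_mem (n : M) n.2 g⟩ = (θ ∘ ε) n := by
      intro g n
      have h1 := hinv g (ε n)
      rw [Function.comp_apply, Function.comp_apply, ← h1]
      rfl
    have hrel : N'.index = p := by
      have h1 := Subgroup.relIndex_mul_index hNM
      rw [hidx, hMi, pow_succ'] at h1
      have h2 : 0 < p ^ a := pow_pos (Fact.out : p.Prime).pos a
      exact Nat.eq_of_mul_eq_mul_right h2 h1
    have hN'odd : Odd N'.index := by
      rw [hrel]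
      apply Odd.of_dvd_nat hodd
      rw [hidx]
      exact dvd_pow_self p (Nat.succ_ne_zero a)
    have hcyc : IsCyclic (M ⧸ N') := by
      haveI : Fact (Nat.card (M ⧸ N')).Prime := ⟨by
        rw [← Subgroup.index_eq_card, hrel]
        exact Fact.out⟩
      exact isCyclic_of_prime_card rfl
    obtain ⟨η₀, hη₀, hη₀e⟩ := Cfsg.Agent.Lib.ImplGroup.exists_ext_of_cyclic N' hcyc hθ' hinv'
    have hKM := hK.subgroup M
    obtain ⟨η₁, hη₁, hf₁, he₁⟩ := exists_fixed_ext N' hN'odd hKM hθ' hfix' hη₀ hη₀e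
    have hMidxodd : Odd M.index := by
      apply Odd.of_dvd_nat hodd
      rw [hidx, hMi]
      exact pow_dvd_pow p (Nat.le_succ a)
    -- invariance by uniqueness
    have hover₁ : classInner (fun n : N' => η₁ n) (θ ∘ ε) ≠ 0 := by
      rw [funext he₁, classInner_irr_self hθ']
      exact one_ne_zero
    have hinv₁ : ∀ (g : H) (m : M), η₁ ⟨g * m * g⁻¹, hMn.conj_mem (m : H) m.2 g⟩ = η₁ m := by
      intro g m
      have hη₂ : IsIrrCharacter M (conjBy M hMn g η₁) := isIrrCharacter_conjBy M hMn g hη₁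
      have hf₂ : ∀ x : M, conjBy M hMn g η₁ (x ^ k) = conjBy M hMn g η₁ x := by
        intro x
        rw [conjBy_apply, conjBy_apply, ← hf₁ ⟨g * x * g⁻¹, _⟩]
        apply congrArg
        ext
        simp [conj_pow]
      have he₂ : ∀ n : N', conjBy M hMn g η₁ n = (θ ∘ ε) n := by
        intro n
        rw [conjBy_apply]
        have hmem : g * (((n : M) : H)) * g⁻¹ ∈ N := by
          have := hN.conj_mem _ n.2 g
          exact this
        have h1 := he₁ ⟨⟨g * ((n : M) : H) * g⁻¹, hNM hmem⟩, hmem⟩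
        refine Eq.trans h1 ?_
        rw [Function.comp_apply, Function.comp_apply]
        have h2 := hinv g (ε n)
        exact h2
      have hover₂ : classInner (fun n : N' => conjBy M hMn g η₁ n) (θ ∘ ε) ≠ 0 := by
        rw [funext he₂, classInner_irr_self hθ']
        exact one_ne_zero
      have h3 := unique_fixed N' hN'odd hKM hη₂ hη₁ hf₂ hf₁ hθ' hover₂ hover₁
      exact congrFun h3 m
    obtain ⟨η, hη, hηe⟩ := ih M hMi hMidxodd η₁ hη₁ hf₁ hinv₁
    refine ⟨η, hη, ?_⟩
    intro n
    have h1 := hηe ⟨(n : H), hNM n.2⟩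
    refine h1.trans ?_
    have h2 := he₁ ⟨⟨(n : H), hNM n.2⟩, n.2⟩
    exact h2

/-- Let N be a normal subgroup of odd index in the finite group G, and let k be coprime to the order of G with k ^ (2 ^ e) ≡ 1 modulo the order of G for some e and g ^ k = g⁻¹ for every element g of odd order (so g ↦ g ^ k induces a field automorphism of 2-power order inverting the roots of unity of odd order). If an irreducible character θ of N satisfies θ (n ^ k) = θ n for all n, then there is exactly one irreducible character χ of G with θ a constituent of its restriction to N and χ (g ^ k) = χ g for all g; moreover, if θ is invariant under conjugation by G, that χ restricts to θ. -/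
theorem result {G : Type*} [Group G] [Fintype G] (N : Subgroup G) [hN : N.Normal] [Fintype N] (hidx : Odd N.index) (k e : ℕ) (hk : Nat.Coprime k (Nat.card G)) (hke : k ^ (2 ^ e) ≡ 1 [MOD Nat.card G]) (hk₂ : ∀ g : G, Odd (orderOf g) → g ^ k = g⁻¹) (θ : Cfsg.IrrCharacter N) (hθ : ∀ n : N, (θ : N → ℂ) (n ^ k) = (θ : N → ℂ) n) : ∃ χ : Cfsg.IrrCharacter G, (Cfsg.classInner (fun n : N => (χ : G → ℂ) n) (θ : N → ℂ) ≠ 0 ∧ (∀ g : G, (χ : G → ℂ) (g ^ k) = (χ : G → ℂ) g) ∧ ((∀ g : G, ∀ n : N, (θ : N → ℂ) ⟨g * n * g⁻¹, hN.conj_mem n n.2 g⟩ = (θ : N → ℂ) n) → ∀ n : N, (χ : G → ℂ) n = (θ : N → ℂ) n)) ∧ ∀ χ' : Cfsg.IrrCharacter G, Cfsg.classInner (fun n : N => (χ' : G → ℂ) n) (θ : N → ℂ) ≠ 0 → (∀ g : G, (χ' : G → ℂ) (g ^ k) = (χ' : G → ℂ) g) → χ' = χ := by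
  classical
  have hK : KData G k e := ⟨hk, hke, hk₂⟩
  obtain ⟨χ, hχ, hf, hov⟩ := exists_fixed N hidx hK θ.2 hθ
  refine ⟨⟨χ, hχ⟩, ⟨hov, hf, ?_⟩, ?_⟩
  · intro hinv n
    have hloc : ∀ p : ℕ, p.Prime → ∃ (P : Subgroup G) (hNP : N ≤ P) (η : P → ℂ),
        Nat.Coprime P.index p ∧ IsCharacter P η ∧ ∀ n : N, η ⟨(n : G), hNP n.2⟩ = (θ : N → ℂ) n := by
      intro p hp
      haveI : Fact p.Prime := ⟨hp⟩
      let π : G →* G ⧸ N := QuotientGroup.mk' N
      have hπ : Function.Surjective π := QuotientGroup.mk'_surjective N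
      let S : Sylow p (G ⧸ N) := default
      let P : Subgroup G := (S : Subgroup (G ⧸ N)).comap π
      have hNP : N ≤ P := by
        intro x hx
        have h1 : π x = 1 := (QuotientGroup.eq_one_iff x).mpr hx
        rw [Subgroup.mem_comap, h1]
        exact Subgroup.one_mem _
      have hPidx : P.index = (S : Subgroup (G ⧸ N)).index :=
        Subgroup.index_comap_of_surjective _ hπ
      have hcop : Nat.Coprime P.index p := by
        rw [hPidx, Nat.coprime_comm, Nat.Prime.coprime_iff_not_dvd hp]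
        exact S.not_dvd_index
      haveI : Fintype P := Fintype.ofFinite _
      let N' : Subgroup P := N.subgroupOf P
      haveI hN' : N'.Normal := Subgroup.normal_subgroupOf
      haveI : Fintype N' := Fintype.ofFinite _
      let ε : N' ≃* N := Subgroup.subgroupOfEquivOfLe hNP
      have hθ' : IsIrrCharacter N' ((θ : N → ℂ) ∘ ε) :=
        isIrrCharacter_comp_of_surjective ε.toMonoidHom ε.surjective θ.2
      have hfix' : ∀ n : N', ((θ : N → ℂ) ∘ ε) (n ^ k) = ((θ : N → ℂ) ∘ ε) n := by
        intro n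
        simp only [Function.comp_apply, map_pow, hθ]
      have hinv' : ∀ (g : P) (n : N'), ((θ : N → ℂ) ∘ ε) ⟨g * n * g⁻¹, hN'.conj_mem (n : P) n.2 g⟩
          = ((θ : N → ℂ) ∘ ε) n := by
        intro g n
        have h1 := hinv g (ε n)
        rw [Function.comp_apply, Function.comp_apply, ← h1]
        rfl
      have hrelmul : N'.index * P.index = N.index := Subgroup.relIndex_mul_index hNP
      have hN'odd : Odd N'.index := Odd.of_dvd_nat hidx ⟨P.index, hrelmul.symm⟩
      obtain ⟨j, hj⟩ := (IsPGroup.iff_card (p := p) (G := S)).mp S.isPGroup'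
      have hN'pow : N'.index = p ^ j := by
        have h1 := Subgroup.card_mul_index (S : Subgroup (G ⧸ N))
        rw [← hPidx, ← Subgroup.index_eq_card, ← hrelmul, hj] at h1
        have hpos : 0 < P.index := Nat.pos_of_ne_zero (Subgroup.index_ne_zero_of_finite)
        exact (Nat.eq_of_mul_eq_mul_right hpos h1).symm
      obtain ⟨η, hη, hηe⟩ := ext_of_pPower (hK.subgroup P) p j N' hN'pow hN'odd _ hθ' hfix' hinv'
      refine ⟨P, hNP, η, hcop, IsIrrCharacter.isCharacter hη, ?_⟩
      intro n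
      exact hηe ⟨⟨(n : G), hNP n.2⟩, n.2⟩
    obtain ⟨η₀, hη₀, hext⟩ := Cfsg.Agent.Lib.ImplGroup.exists_ext_of_local N θ.2 hinv hloc
    obtain ⟨η₁, hη₁, hf₁, hext₁⟩ := exists_fixed_ext N hidx hK θ.2 hθ hη₀ hext
    have hover₁ : classInner (fun n : N => η₁ n) (θ : N → ℂ) ≠ 0 := by
      rw [funext hext₁, classInner_irr_self θ.2]
      exact one_ne_zero
    have h1 := unique_fixed N hidx hK hχ hη₁ hf hf₁ θ.2 hov hover₁
    show χ n = _
    rw [h1]
    exact hext₁ n
  · intro χ' hov' hf'
    apply Subtype.ext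
    exact unique_fixed N hidx hK χ'.2 hχ hf' hf θ.2 hov' hov

end Cfsg.Agent.S4519
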