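import Mathlib
import Cfsg.Statements.S4553
import Cfsg.Agent.Lib.DetChar
import Cfsg.Agent.Lib.DegreeDiv
import Cfsg.Agent.Lib.CharPow
import Cfsg.Agent.Lib.CharDecomp
import Cfsg.Agent.Lib.CharKernel
import Cfsg.Agent.Lib.PResid
import Cfsg.Agent.Lib.BlockOrth
import Cfsg.Agent.Lib.BlockNormal
import Cfsg.Agent.S4571

set_option autoImplicit false
set_option linter.style.haveILetI false
set_option linter.unusedVariables false
set_option linter.unusedSectionVars false
open Cfsg

namespace Cfsg.Agent.S4553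

open Cfsg.Agent.Lib.CharBasic Cfsg.Agent.Lib.BlockLocal Cfsg.Agent.Lib.BlockIdem
open Cfsg.Agent.Lib.DetChar Cfsg.Agent.Lib.CharPow Cfsg.Agent.Lib.CharInduction
open Cfsg.Agent.Lib.BlockNormal
open scoped ComplexConjugate

universe u

section Det

variable {G : Type u} [Group G] [Finite G]

/-- The determinant of a power-twisted character. -/
theorem detChar_pow (k : ℕ) {χ : G → ℂ} (hχ : IsCharacter G χ)
    (hχk : IsCharacter G (fun g => χ (g ^ k))) (g : G) :
    detChar (fun g => χ (g ^ k)) g = detChar χ (g ^ k) := by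
  let C : Subgroup G := Subgroup.zpowers g
  have hcomm : ∀ x y : C, Commute (x : G) (y : G) := by
    rintro ⟨x, hx⟩ ⟨y, hy⟩
    obtain ⟨a, rfl⟩ := Subgroup.mem_zpowers_iff.mp hx
    obtain ⟨b, rfl⟩ := Subgroup.mem_zpowers_iff.mp hy
    exact (Commute.refl g).zpow_zpow a b
  let f₂ : C →* G :=
    { toFun := fun x => (x : G) ^ k
      map_one' := by simp
      map_mul' := fun x y => by
        rw [Subgroup.coe_mul, (hcomm x y).mul_pow] }
  let g' : C := ⟨g, Subgroup.mem_zpowers g⟩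
  have h1 := detChar_comp C.subtype hχk g'
  have h2 := detChar_comp f₂ hχ g'
  have h3 : (fun g => χ (g ^ k)) ∘ C.subtype = χ ∘ f₂ := rfl
  rw [h3, h2] at h1
  exact h1.symm

end Det

section Hyp

variable {G : Type u} [Group G] [Finite G] {p k : ℕ} [hp : Fact p.Prime]

/-- The exponent is coprime to the group order. -/
theorem coprime_of_hyps (hk₁ : ∀ g : G, (∃ j : ℕ, orderOf g = p ^ j) → g ^ k = g ^ (1 + p))
    (hk₂ : ∀ g : G, Nat.Coprime (orderOf g) p → g ^ k = g) : (Nat.card G).Coprime k := by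
  by_contra hcon
  obtain ⟨r, hr, hr1, hr2⟩ := Nat.Prime.not_coprime_iff_dvd.mp hcon
  haveI : Fact r.Prime := ⟨hr⟩
  obtain ⟨g, hg⟩ := exists_prime_orderOf_dvd_card' r hr1
  have h1 : g ^ k = 1 := by
    rw [← orderOf_dvd_iff_pow_eq_one, hg]
    exact hr2
  have hg1 : g ≠ 1 := by
    rintro rfl
    rw [orderOf_one] at hg
    exact hr.one_lt.ne hg
  by_cases hrp : r = p
  · subst hrp
    have h3 := hk₁ g ⟨1, by rw [hg, pow_one]⟩
    have h4 : g ^ r = 1 := by
      rw [← hg]
      exact pow_orderOf_eq_one g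
    have h5 : g ^ (1 + r) = g := by rw [pow_add, pow_one, h4, mul_one]
    rw [h1, h5] at h3
    exact hg1 h3.symm
  · have h3 := hk₂ g (by rw [hg]; exact (Nat.coprime_primes hr hp.out).mpr hrp)
    rw [h1] at h3
    exact hg1 h3.symm

/-- The decomposition into a `p`-part and a `p'`-part. -/
theorem exists_decomp (g : G) : ∃ x y : G, x * y = g ∧ Commute x y ∧ (∃ j : ℕ, orderOf x = p ^ j) ∧
    Nat.Coprime (orderOf y) p := by
  classical
  haveI : Fintype G := Fintype.ofFinite G
  obtain ⟨x, y, h1, h2, h3, h4⟩ := Cfsg.Agent.Lib.BlockOrth.exists_isPPart (p := p) hp.out g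
  exact ⟨x, y, h1, h2, h3, ((Nat.Prime.coprime_iff_not_dvd hp.out).mpr h4).symm⟩

end Hyp

section Main

variable {G : Type u} [Group G] [Fintype G] {p k : ℕ} [hp : Fact p.Prime]

/-- A normal subgroup containing all `p'`-elements and generated by them has no `p`-quotient. -/
theorem hom_trivial (N : Subgroup G) (hNres : N = Cfsg.pResidual p G) (lam : N →* ℂˣ) (j : ℕ)
    (hlam : ∀ n, lam n ^ p ^ j = 1) (n : N) : lam n = 1 := by
  have hle : Cfsg.pResidual p G ≤ (lam.ker).map N.subtype := by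
    unfold Cfsg.pResidual
    rw [Subgroup.closure_le]
    intro x hx
    have hxN : x ∈ N := by
      rw [hNres]
      exact Subgroup.subset_closure hx
    refine ⟨⟨x, hxN⟩, ?_, rfl⟩
    rw [SetLike.mem_coe, MonoidHom.mem_ker]
    have h1 : lam ⟨x, hxN⟩ ^ orderOf x = 1 := by
      rw [← map_pow]
      have h2 : (⟨x, hxN⟩ : N) ^ orderOf x = 1 := by
        apply Subtype.ext
        simp [pow_orderOf_eq_one]
      rw [h2, map_one]
    exact Cfsg.Agent.Lib.PResid.eq_one_of_pow_eq_one_of_coprime (hlam _) h1 hx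
  have h1 : (n : G) ∈ (lam.ker).map N.subtype := hle (hNres ▸ n.2)
  obtain ⟨m, hm, hmn⟩ := h1
  have : m = n := Subtype.ext hmn
  rw [← this]
  exact hm

/-- Existence of a fixed extension. -/
theorem exists_fixed_ext (N : Subgroup G) [hN : N.Normal] (hNres : N = Cfsg.pResidual p G)
    (hcyc : IsCyclic (G ⧸ N))
    (hk₁ : ∀ g : G, (∃ j : ℕ, orderOf g = p ^ j) → g ^ k = g ^ (1 + p))
    (hk₂ : ∀ g : G, Nat.Coprime (orderOf g) p → g ^ k = g) {θ : N → ℂ}
    (hθ : IsIrrCharacter N θ) (hinv : ∀ (g : G) (n : N), θ ⟨g * n * g⁻¹, hN.conj_mem (n : G) n.2 g⟩ = θ n)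
    (hfix : ∀ n : N, θ (n ^ k) = θ n) {d : ℕ} (hd : θ 1 = d) (hpd : ¬ p ∣ d)
    {c : ℕ} (hidx : N.index = p ^ c) :
    ∃ χ : G → ℂ, IsIrrCharacter G χ ∧ (∀ n : N, χ n = θ n) ∧ ∀ g, χ (g ^ k) = χ g := by
  classical
  have hpp : p.Prime := hp.out
  have hcop : Nat.Coprime N.index d := by
    rw [hidx]
    exact Nat.Coprime.pow_left _ ((Nat.Prime.coprime_iff_not_dvd hpp).mpr hpd)
  obtain ⟨χ₁, hχ₁, hres₁⟩ := Cfsg.Agent.Lib.ImplGroup.exists_ext_of_cyclic N hcyc hθ hinv
  have hχ₁c := IsIrrCharacter.isCharacter hχ₁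
  obtain ⟨D, hD⟩ := exists_detHom hχ₁c
  -- splitting the order
  set a := (Nat.card G).factorization p with ha
  set m := ordCompl[p] (Nat.card G) with hm
  have hcard : p ^ a * m = Nat.card G := Nat.ordProj_mul_ordCompl_eq_self _ _
  have hm2 : ¬ p ∣ m := Nat.not_dvd_ordCompl hpp Nat.card_pos.ne'
  have hcopm : Nat.Coprime (p ^ a) m :=
    Nat.Coprime.pow_left _ ((Nat.Prime.coprime_iff_not_dvd hpp).mpr hm2)
  obtain ⟨u, hu0, hu1⟩ := Nat.chineseRemainder hcopm 0 1
  let μ : G →* ℂˣ := D ^ u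
  have hμapply : ∀ g, μ g = D g ^ u := fun g => rfl
  have hDcard : ∀ g, D g ^ Nat.card G = 1 := by
    intro g
    rw [← map_pow, pow_card_eq_one', map_one]
  have hμm : ∀ g, μ g ^ m = 1 := by
    intro g
    rw [hμapply, ← pow_mul]
    have h1 : p ^ a ∣ u := (Nat.modEq_zero_iff_dvd).mp hu0
    obtain ⟨t, ht⟩ := h1
    have h2 : u * m = Nat.card G * t := by
      rw [ht, ← hcard]
      ring
    rw [h2, pow_mul, hDcard, one_pow]
  -- on `N`
  let DN : N →* ℂˣ := (D ^ m).comp N.subtype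
  have hDN : ∀ n : N, DN n = 1 := by
    apply hom_trivial N hNres DN a
    intro n
    show (D (n : G) ^ m) ^ p ^ a = 1
    rw [← pow_mul, mul_comm, hcard, hDcard]
  have hμN : ∀ n : N, μ n = D n := by
    intro n
    have h1 : D (n : G) ^ m = 1 := hDN n
    rw [hμapply]
    have h2 : D (n : G) ^ u = D (n : G) ^ 1 := by
      rw [pow_eq_pow_iff_modEq]
      exact Nat.ModEq.of_dvd (orderOf_dvd_of_pow_eq_one h1) hu1
    rw [h2, pow_one]
  have hμdet : ∀ n : N, ((μ n : ℂˣ) : ℂ) = detChar θ n := by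
    intro n
    rw [hμN, ← hD, ← detChar_restrict N hχ₁c]
    congr 1
    exact funext hres₁
  -- the canonical extension
  have hμc : IsCharacter G (fun g => ((μ g : ℂˣ) : ℂ)) ∧ (fun g => ((μ g : ℂˣ) : ℂ)) 1 = 1 := by
    refine ⟨IsIrrCharacter.isCharacter (isIrrCharacter_of_hom μ), ?_⟩
    simp
  obtain ⟨χ₀, ⟨hχ₀, hres₀, hdet₀⟩, huniq⟩ := exists_unique_ext N hθ hd hcop hχ₁ hres₁ hμc hμdet
  refine ⟨χ₀, hχ₀, hres₀, ?_⟩
  have hkG := coprime_of_hyps hk₁ hk₂
  have hσ : IsIrrCharacter G (fun g => χ₀ (g ^ k)) := isIrr_pow hχ₀ hkG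
  have hμσ : ∀ g, μ (g ^ k) = μ g := by
    intro g
    obtain ⟨x, y, hxy, hc, ⟨j, hj⟩, hy⟩ := exists_decomp (p := p) g
    have hx1 : μ x = 1 := by
      apply Cfsg.Agent.Lib.PResid.eq_one_of_pow_eq_one_of_coprime (p := p) (n := j) _ (hμm x)
        ((Nat.Prime.coprime_iff_not_dvd hpp).mpr hm2).symm
      rw [← map_pow, ← hj, pow_orderOf_eq_one, map_one]
    rw [← hxy, hc.mul_pow, hk₁ x ⟨j, hj⟩, hk₂ y hy, map_mul, map_mul, map_pow, hx1]
    simp
  have h5 := huniq (fun g => χ₀ (g ^ k)) ⟨hσ, ?_, ?_⟩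
  · intro g
    exact congrFun h5 g
  · intro n
    have h6 : ((n : G) ^ k) = ((n ^ k : N) : G) := by simp
    show χ₀ ((n : G) ^ k) = _
    rw [h6, hres₀, hfix]
  · funext g
    rw [detChar_pow k (IsIrrCharacter.isCharacter hχ₀) (IsIrrCharacter.isCharacter hσ), hdet₀]
    show ((μ (g ^ k) : ℂˣ) : ℂ) = _
    rw [hμσ]

end Main


section Blocks

variable {G : Type u} [Group G] [Fintype G] {p : ℕ} {M : Ideal AlgInt}

/-- A character with `p`-power-index irreducible restriction: the restriction of a `p'`-degree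
character to a normal subgroup of `p`-power index is irreducible. -/
theorem restrict_irr [hp : Fact p.Prime] (N : Subgroup G) [hN : N.Normal] [Fintype N] {c : ℕ}
    (hidx : N.index = p ^ c) {χ : G → ℂ} (hχ : IsIrrCharacter G χ)
    (hpd : ¬ p ∣ charDegree χ) : IsIrrCharacter N (fun n : N => χ n) := by
  classical
  have hχc := IsIrrCharacter.isCharacter hχ
  have hres := isCharacter_restrict N hχc
  have hcl : IsClassFunction N (fun n : N => χ n) := isClassFunction_of_isCharacter hres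
  obtain ⟨θ, hθ⟩ : ∃ θ : IrrCharacter N, classInner (fun n : N => χ n) (θ : N → ℂ) ≠ 0 := by
    by_contra hall
    push Not at hall
    have h1 := classFunction_eq_sum hcl
    simp only [hall, zero_smul, Finset.sum_const_zero] at h1
    have h2 := congrFun h1 1
    have h3 := Cfsg.Agent.Lib.BlockIdem.irr_one_ne_zero' hχ
    apply h3
    simpa using h2
  have hc := Cfsg.Agent.Lib.CharKernel.one_eq_charDegree hχc
  have hd := Cfsg.Agent.Lib.CharKernel.one_eq_charDegree (IsIrrCharacter.isCharacter θ.2)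
  obtain ⟨h1, h2⟩ := Cfsg.Agent.Lib.DegreeDiv.degree_div N hχ θ.2 hθ hc hd
  rw [hidx] at h2
  obtain ⟨i, hi, hq⟩ := (Nat.dvd_prime_pow hp.out).mp h2
  have hq1 : charDegree χ / charDegree (θ : N → ℂ) = 1 := by
    rcases Nat.eq_zero_or_pos i with h0 | hpos
    · rw [hq, h0, pow_zero]
    · exfalso
      apply hpd
      have h3 : p ∣ charDegree χ / charDegree (θ : N → ℂ) := by
        rw [hq]
        exact dvd_pow_self p hpos.ne'
      exact h3.trans (Nat.div_dvd_of_dvd h1)
  have hdeg : charDegree χ = charDegree (θ : N → ℂ) := by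
    have h4 := Nat.div_mul_cancel h1
    rw [hq1, one_mul] at h4
    exact h4.symm
  have heq := Cfsg.Agent.Lib.CharDecomp.eq_of_inner_ne_zero_of_le hres θ.2 hθ (by
    have h5 : charDegree (fun n : N => χ n) = charDegree χ := rfl
    rw [h5, hdeg])
  rw [heq]
  exact θ.2

/-- An indicator sum over a class. -/
theorem sum_class_indicator (N : Subgroup G) [hN : N.Normal] [Fintype N] {x : G} (hx : x ∈ N)
    {ψ : G → ℂ} (hψ : IsClassFunction G ψ) :
    (∑ n : N, @ite ℂ (IsConj (n : G) x) (Classical.propDecidable _) 1 0 * ψ n) =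
      ((Subgroup.centralizer ({x} : Set G)).index : ℂ) * ψ x := by
  classical
  have h1 : (∑ n : N, @ite ℂ (IsConj (n : G) x) (Classical.propDecidable _) 1 0 * ψ n) =
      ∑ g : G, @ite ℂ (IsConj g x) (Classical.propDecidable _) 1 0 * ψ g := by
    symm
    refine Cfsg.Agent.Lib.CharInduction.sum_of_vanish_off N
      (fun g => @ite ℂ (IsConj g x) (Classical.propDecidable _) 1 0 * ψ g) ?_
    intro g hg
    have h2 : ¬ IsConj g x := by
      intro h3
      apply hg
      obtain ⟨c, hc⟩ := isConj_iff.mp (h3.symm)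
      rw [← hc]
      exact hN.conj_mem x hx c
    show @ite ℂ (IsConj g x) (Classical.propDecidable _) 1 0 * ψ g = 0
    rw [if_neg h2, zero_mul]
  rw [h1]
  have h2 : ∀ g : G, @ite ℂ (IsConj g x) (Classical.propDecidable _) 1 0 * ψ g =
      if IsConj x g then ψ x else 0 := by
    intro g
    by_cases h3 : IsConj x g
    · rw [if_pos h3, if_pos h3.symm, one_mul]
      obtain ⟨c, hc⟩ := isConj_iff.mp h3
      rw [← hc]
      exact hψ x c
    · rw [if_neg h3, if_neg (fun h => h3 h.symm), zero_mul]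
  simp only [h2]
  rw [Finset.sum_ite, Finset.sum_const_zero, add_zero, Finset.sum_const, nsmul_eq_mul]
  congr 1
  have hcard := Cfsg.Agent.Lib.CharInd.card_conj_mul_card_centralizer x
  have h3 := Subgroup.card_mul_index (Subgroup.centralizer ({x} : Set G))
  have h4 : Nat.card {y : G // IsConj x y} = (Subgroup.centralizer ({x} : Set G)).index := by
    have h5 : Nat.card (Subgroup.centralizer ({x} : Set G)) ≠ 0 := Nat.card_pos.ne'
    apply Nat.eq_of_mul_eq_mul_right (Nat.pos_of_ne_zero h5)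
    rw [hcard, mul_comm, h3]
  rw [← h4, Nat.card_eq_fintype_card, Fintype.card_subtype]

/-- Blocks upward. -/
theorem block_up (hM : IsPModular p M) (N : Subgroup G) [hN : N.Normal] [Fintype N]
    (hreg : ∀ x : G, ¬ p ∣ orderOf x → x ∈ N) (χ : IrrCharacter G) (θ : IrrCharacter N)
    (hres : ∀ n : N, (χ : G → ℂ) n = (θ : N → ℂ) n) (hθ : θ ∈ principalBlock M N) :
    χ ∈ principalBlock M G := by
  classical
  haveI := hM.2.1.isPrime
  have h := Cfsg.Agent.S4571.sameBlock_of_reg hM (irrOne G) χ ?_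
  · exact h
  intro x hx
  have hxN : x ∈ N := hreg x hx
  let f : N → ℂ := fun n => @ite ℂ (IsConj (n : G) x) (Classical.propDecidable _) 1 0
  have hfcl : IsClassFunction N f := by
    intro n m
    have h1 : IsConj ((m * n * m⁻¹ : N) : G) (n : G) := by
      rw [isConj_comm, isConj_iff]
      exact ⟨(m : G), by simp⟩
    simp only [f]
    by_cases h2 : IsConj (n : G) x
    · rw [if_pos h2, if_pos (h1.trans h2)]
    · rw [if_neg h2, if_neg (fun h3 => h2 (h1.symm.trans h3))]
  have hfR : ∀ n, MemLocalRing M (f n) := by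
    intro n
    simp only [f]
    split_ifs
    · exact memLocalRing_one
    · exact memLocalRing_zero
  have hc := mem_Zc_of_classFunction hfcl hfR
  have h1 := memLocalIdeal_sub_of_mem_Zc hc (χ := irrOne N) (ψ := θ) hθ
  have h2 : omega (irrOne N : N → ℂ) f = centralChar (irrOne G : G → ℂ) x := by
    unfold omega centralChar
    have h3 := sum_class_indicator N hxN (ψ := fun _ => (1 : ℂ)) (fun _ _ => rfl)
    simp only [f]
    show (∑ n : N, @ite ℂ (IsConj (n : G) x) (Classical.propDecidable _) 1 0 * (1 : ℂ)) / 1 = _ * 1 / 1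
    rw [h3]
  have h4 : omega (θ : N → ℂ) f = centralChar (χ : G → ℂ) x := by
    unfold omega centralChar
    have h3 := sum_class_indicator N hxN
      (isClassFunction_of_isCharacter (IsIrrCharacter.isCharacter χ.2))
    have h5 : ∑ n : N, f n * (θ : N → ℂ) n =
        ∑ n : N, @ite ℂ (IsConj (n : G) x) (Classical.propDecidable _) 1 0 * (χ : G → ℂ) n := by
      refine Finset.sum_congr rfl fun n _ => ?_
      rw [hres]
    rw [h5, h3]
    have h6 : (θ : N → ℂ) 1 = (χ : G → ℂ) 1 := by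
      rw [← hres 1]
      rfl
    rw [h6]
  rw [h2, h4] at h1
  exact h1

/-- A central character under an automorphism. -/
theorem centralChar_comp_equiv {H : Type*} [Group H] (α : H ≃* H) (ψ : H → ℂ) (n : H) :
    centralChar (ψ ∘ α) n = centralChar ψ (α n) := by
  unfold centralChar
  have h1 : Subgroup.centralizer ({α n} : Set H) =
      (Subgroup.centralizer ({n} : Set H)).map α.toMonoidHom := by
    ext y
    rw [Subgroup.mem_centralizer_singleton_iff]
    constructor
    · intro h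
      refine ⟨α.symm y, ?_, by simp⟩
      rw [SetLike.mem_coe, Subgroup.mem_centralizer_singleton_iff]
      apply α.injective
      simpa using h
    · rintro ⟨z, hz, rfl⟩
      rw [SetLike.mem_coe, Subgroup.mem_centralizer_singleton_iff] at hz
      show α z * α n = α n * α z
      rw [← map_mul, ← map_mul, hz]
  have h2 : ((Subgroup.centralizer ({n} : Set H)).map α.toMonoidHom).index =
      (Subgroup.centralizer ({n} : Set H)).index :=
    Subgroup.index_map_of_bijective α.bijective _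
  rw [h1, h2]
  simp

/-- Blocks downward. -/
theorem block_down [hp : Fact p.Prime] (hM : IsPModular p M) (N : Subgroup G) [hN : N.Normal] [Fintype N]
    (χ : IrrCharacter G) (θ : IrrCharacter N)
    (hres : ∀ n : N, (χ : G → ℂ) n = (θ : N → ℂ) n)
    (hinv : ∀ (g : G) (n : N), (θ : N → ℂ) ⟨g * n * g⁻¹, hN.conj_mem (n : G) n.2 g⟩ = (θ : N → ℂ) n)
    (hχ : χ ∈ principalBlock M G) : θ ∈ principalBlock M N := by
  classical
  haveI := hM.2.1.isPrime
  by_contra hθ
  set b := blockOf M (θ : N → ℂ) with hb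
  have hbb : IsPBlock M b := ⟨θ, rfl⟩
  have hθb : θ ∈ b := mem_blockOf_self θ
  have h1b : irrOne N ∉ b := fun h => hθ (sameBlock_symm h)
  -- stability of the block
  have hθα : ∀ g : G, (θ : N → ℂ) ∘ conjAut N hN g = θ := by
    intro g
    funext n
    exact hinv g n
  have hcc : ∀ (g : G) (n : N), centralChar (θ : N → ℂ) (conjAut N hN g n) =
      centralChar (θ : N → ℂ) n := by
    intro g n
    rw [← centralChar_comp_equiv, hθα]
  let τ : G → Equiv.Perm (IrrCharacter N) := fun g =>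
    { toFun := fun ψ => ⟨(ψ : N → ℂ) ∘ conjAut N hN g,
        isIrrCharacter_comp_of_surjective (conjAut N hN g).toMonoidHom (conjAut N hN g).surjective ψ.2⟩
      invFun := fun ψ => ⟨(ψ : N → ℂ) ∘ (conjAut N hN g).symm,
        isIrrCharacter_comp_of_surjective (conjAut N hN g).symm.toMonoidHom
          (conjAut N hN g).symm.surjective ψ.2⟩
      left_inv := fun ψ => by
        apply Subtype.ext
        funext n
        simp
      right_inv := fun ψ => by
        apply Subtype.ext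
        funext n
        simp }
  have hstable : ∀ (g : G) (ψ : IrrCharacter N), τ g ψ ∈ b ↔ ψ ∈ b := by
    intro g ψ
    constructor
    · intro h n
      obtain ⟨m, rfl⟩ := (conjAut N hN g).surjective n
      have h2 := h m
      have h3 : centralChar ((τ g ψ : IrrCharacter N) : N → ℂ) m =
          centralChar (ψ : N → ℂ) (conjAut N hN g m) := centralChar_comp_equiv _ _ _
      rw [h3, ← hcc g m] at h2
      exact h2
    · intro h n
      have h2 := h (conjAut N hN g n)
      have h3 : centralChar ((τ g ψ : IrrCharacter N) : N → ℂ) n =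
          centralChar (ψ : N → ℂ) (conjAut N hN g n) := centralChar_comp_equiv _ _ _
      rw [h3]
      rw [hcc g n] at h2
      exact h2
  -- the coefficient function
  set f : N → ℂ := blockCoeff b with hf
  have hfα : ∀ (g : G) (n : N), f (conjAut N hN g n) = f n := by
    intro g n
    simp only [hf]
    unfold blockCoeff
    rw [Cfsg.Agent.Lib.BlockOrtho.finsum_mem_eq_sum_indB, Cfsg.Agent.Lib.BlockOrtho.finsum_mem_eq_sum_indB]
    congr 1
    rw [← Equiv.sum_comp (τ g) (fun ψ : IrrCharacter N =>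
      Cfsg.Agent.Lib.BlockOrtho.indB b ψ * ((ψ : N → ℂ) 1 * conj ((ψ : N → ℂ) n)))]
    refine Finset.sum_congr rfl fun ψ _ => ?_
    have h2 : Cfsg.Agent.Lib.BlockOrtho.indB b (τ g ψ) = Cfsg.Agent.Lib.BlockOrtho.indB b ψ := by
      by_cases h : ψ ∈ b
      · rw [Cfsg.Agent.Lib.BlockOrtho.indB_of_mem h,
          Cfsg.Agent.Lib.BlockOrtho.indB_of_mem ((hstable g ψ).mpr h)]
      · rw [Cfsg.Agent.Lib.BlockOrtho.indB_of_not_mem h,
          Cfsg.Agent.Lib.BlockOrtho.indB_of_not_mem (fun h2 => h ((hstable g ψ).mp h2))]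
    rw [h2]
    have h3 : ((τ g ψ : IrrCharacter N) : N → ℂ) 1 = (ψ : N → ℂ) 1 := by
      show (ψ : N → ℂ) (conjAut N hN g 1) = _
      rw [map_one]
    rw [h3]
    rfl
  let F : G → ℂ := extendByZero N f
  have hFcl : IsClassFunction G F := by
    intro g h
    by_cases hg : g ∈ N
    · have hg' : h * g * h⁻¹ ∈ N := hN.conj_mem g hg h
      simp only [F]
      rw [Cfsg.Agent.Lib.CharInd.extendByZero_of_mem N f hg,
        Cfsg.Agent.Lib.CharInd.extendByZero_of_mem N f hg']
      exact hfα h ⟨g, hg⟩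
    · have hg' : h * g * h⁻¹ ∉ N := fun h1 => hg (by
        have := hN.conj_mem _ h1 h⁻¹
        simpa [mul_assoc] using this)
      simp only [F]
      rw [Cfsg.Agent.Lib.CharInd.extendByZero_of_not_mem N f hg,
        Cfsg.Agent.Lib.CharInd.extendByZero_of_not_mem N f hg']
  have hFR : ∀ g, MemLocalRing M (F g) := by
    intro g
    by_cases hg : g ∈ N
    · simp only [F]
      rw [Cfsg.Agent.Lib.CharInd.extendByZero_of_mem N f hg]
      exact memLocalRing_blockCoeff hbb _
    · simp only [F]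
      rw [Cfsg.Agent.Lib.CharInd.extendByZero_of_not_mem N f hg]
      exact memLocalRing_zero
  have hc := mem_Zc_of_classFunction hFcl hFR
  have h1 := memLocalIdeal_sub_of_mem_Zc hc (χ := irrOne G) (ψ := χ) hχ
  -- computation of the values
  have hsum : ∀ ξ : G → ℂ, ∑ g, F g * ξ g = ∑ n : N, f n * ξ n := by
    intro ξ
    rw [Cfsg.Agent.Lib.CharInduction.sum_of_vanish_off N (fun g => F g * ξ g) (fun g hg => by
      simp only [F]
      rw [Cfsg.Agent.Lib.CharInd.extendByZero_of_not_mem N f hg, zero_mul])]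
    refine Finset.sum_congr rfl fun n _ => ?_
    simp only [F]
    rw [Cfsg.Agent.Lib.CharInd.extendByZero_coe]
  have homega : ∀ ψ : IrrCharacter N, omega (ψ : N → ℂ) f =
      Cfsg.Agent.Lib.BlockOrtho.indB b ψ := by
    intro ψ
    simp only [hf]
    rw [blockCoeff_eq_invF]
    exact omega_invF _ _
  have h2 : omega (χ : G → ℂ) F = 1 := by
    have h3 := homega θ
    rw [Cfsg.Agent.Lib.BlockOrtho.indB_of_mem hθb] at h3
    rw [← h3]
    unfold omega
    rw [hsum]
    have h4 : (θ : N → ℂ) 1 = (χ : G → ℂ) 1 := by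
      rw [← hres 1]
      rfl
    rw [h4]
    congr 1
    refine Finset.sum_congr rfl fun n _ => ?_
    rw [hres]
  have h5 : omega (irrOne G : G → ℂ) F = 0 := by
    have h3 := homega (irrOne N)
    rw [Cfsg.Agent.Lib.BlockOrtho.indB_of_not_mem h1b] at h3
    rw [← h3]
    unfold omega
    rw [hsum]
    rfl
  rw [h2, h5, zero_sub] at h1
  have h6 := memLocalIdeal_neg h1
  rw [neg_neg] at h6
  exact not_memLocalIdeal_one h6

end Blocks

section Count

/-- The number of homomorphisms of exponent `p` from a cyclic group of order `p ^ c`, `c ≥ 1`. -/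
theorem card_hom_exponent {Q : Type*} [Group Q] [Finite Q] {p : ℕ} [hp : Fact p.Prime]
    (hcyc : IsCyclic Q) {c : ℕ} (hc : c ≠ 0) (hcard : Nat.card Q = p ^ c) :
    Nat.card {l : Q →* ℂˣ // ∀ q, l q ^ p = 1} = p := by
  classical
  obtain ⟨z, hz⟩ := hcyc.exists_generator
  have hord : orderOf z = p ^ c := by
    rw [← hcard]
    exact orderOf_eq_card_of_forall_mem_zpowers hz
  haveI : NeZero p := ⟨hp.out.ne_zero⟩
  refine Eq.trans (Nat.card_congr ?_) (Complex.card_rootsOfUnity p)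
  refine Equiv.ofBijective (fun l => ⟨l.1 z, (mem_rootsOfUnity _ _).mpr (l.2 z)⟩) ⟨?_, ?_⟩
  · intro l l' h
    apply Subtype.ext
    rw [MonoidHom.eq_iff_eq_on_generator hz]
    exact congrArg Subtype.val h
  · intro ζ
    have hζ : (ζ : ℂˣ) ^ p = 1 := (mem_rootsOfUnity _ _).mp ζ.2
    have hdvd : orderOf (ζ : ℂˣ) ∣ orderOf z := by
      rw [hord]
      exact (orderOf_dvd_of_pow_eq_one hζ).trans (dvd_pow_self p hc)
    let l : Q →* ℂˣ := monoidHomOfForallMemZpowers hz hdvd
    have hl : l z = (ζ : ℂˣ) := monoidHomOfForallMemZpowers_apply_gen hz hdvd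
    refine ⟨⟨l, fun q => ?_⟩, Subtype.ext hl⟩
    obtain ⟨i, rfl⟩ := Subgroup.mem_zpowers_iff.mp (hz q)
    rw [map_zpow, hl, ← zpow_natCast, ← zpow_mul, mul_comm, zpow_mul, zpow_natCast, hζ, one_zpow]

end Count

/-- Let G be a finite group, p a prime, P a Sylow p-subgroup, N the p-residual of G (the subgroup generated by the elements of order prime to p, the smallest normal subgroup with G/N a p-group), and M a maximal ideal of the algebraic integers containing p; suppose G/N is cyclic and nontrivial. Let k be a natural number with g ^ k = g ^ (1 + p) for every p-element g and g ^ k = g for every element g of order prime to p (so that χ (g ^ k) is the image of χ g under the field automorphism that raises p-power roots of unity to the power 1 + p and fixes the roots of unity of order prime to p). Then the number of members χ of the principal block of G of degree prime to p with χ (g ^ k) = χ g for all g equals p times the number of members θ of the principal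 block of N of degree prime to p that are invariant under conjugation by P and satisfy θ (n ^ k) = θ n for all n. -/
theorem result {G : Type*} [Group G] [Finite G] (p : ℕ) [Fact p.Prime] (M : Ideal Cfsg.AlgInt) (hM : Cfsg.IsPModular p M) (P : Sylow p G) (N : Subgroup G) [hN : N.Normal] (hNres : N = Cfsg.pResidual p G) (hcyc : IsCyclic (G ⧸ N)) (hnt : N ≠ ⊤) (k : ℕ) (hk₁ : ∀ g : G, (∃ j : ℕ, orderOf g = p ^ j) → g ^ k = g ^ (1 + p)) (hk₂ : ∀ g : G, Nat.Coprime (orderOf g) p → g ^ k = g) : Nat.card {χ : Cfsg.IrrCharacter G // χ ∈ Cfsg.principalBlock M G ∧ ¬ p ∣ Cfsg.charDegree (χ : G → ℂ) ∧ ∀ g : G, (χ : G → ℂ) (g ^ k) = (χ : G → ℂ) g} = p * Nat.card {θ : Cfsg.IrrCharacter ↥N // θ ∈ Cfsg.principalBlock M ↥N ∧ ¬ p ∣ Cfsg.charDegree (θ : ↥N → ℂ) ∧ (∀ x ∈ (P : Subgroup G), ∀ n : ↥N, (θ : ↥N → ℂ) ⟨x * n * x⁻¹, hN.conj_mem n n.2 x⟩ = (θ : ↥N → ℂ) n) ∧ ∀ n : ↥N, (θ : ↥N → ℂ) (n ^ k) = (θ : ↥N → ℂ) n} := by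
  classical
  haveI : Fintype G := Fintype.ofFinite G
  haveI : Fintype N := Fintype.ofFinite N
  haveI := hM.2.1.isPrime
  have hpp : p.Prime := Fact.out
  -- basic facts on `N`
  have hPQ : IsPGroup p (G ⧸ N) := by
    subst hNres
    exact Cfsg.Agent.Lib.PResid.isPGroup_quotient_pResidual p
  obtain ⟨c, hc⟩ := IsPGroup.iff_card.mp hPQ
  have hidx : N.index = p ^ c := by
    rw [Subgroup.index_eq_card, hc]
  have hc0 : c ≠ 0 := by
    rintro rfl
    apply hnt
    rw [pow_zero] at hidx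
    exact Subgroup.index_eq_one.mp hidx
  have hregN : ∀ x : G, Nat.Coprime (orderOf x) p → x ∈ N := fun x hx => by
    rw [hNres]
    exact Cfsg.Agent.Lib.PResid.mem_pResidual_of_coprime hx
  have hregN' : ∀ x : G, ¬ p ∣ orderOf x → x ∈ N := fun x hx =>
    hregN x ((Nat.Prime.coprime_iff_not_dvd hpp).mpr hx).symm
  have hkG := coprime_of_hyps hk₁ hk₂
  have hsup : N ⊔ (P : Subgroup G) = ⊤ := by
    rw [← Subgroup.index_eq_one]
    have h1 : (N ⊔ (P : Subgroup G)).index ∣ N.index := Subgroup.index_dvd_of_le le_sup_left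
    have h2 : (N ⊔ (P : Subgroup G)).index ∣ (P : Subgroup G).index :=
      Subgroup.index_dvd_of_le le_sup_right
    have h3 : Nat.Coprime (p ^ c) (P : Subgroup G).index :=
      Nat.Coprime.pow_left _ ((Nat.Prime.coprime_iff_not_dvd hpp).mpr P.not_dvd_index)
    rw [hidx] at h1
    exact Nat.eq_one_of_dvd_coprimes h3 h1 h2
  -- `P`-invariance gives `G`-invariance
  have hinvG : ∀ (θ : N → ℂ), IsIrrCharacter N θ →
      (∀ x ∈ (P : Subgroup G), ∀ n : N, θ ⟨x * n * x⁻¹, hN.conj_mem n n.2 x⟩ = θ n) →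
      ∀ (g : G) (n : N), θ ⟨g * n * g⁻¹, hN.conj_mem n n.2 g⟩ = θ n := by
    intro θ hθ hPinv g n
    have hg : g ∈ ((N ⊔ (P : Subgroup G) : Subgroup G) : Set G) := by
      rw [hsup]
      trivial
    rw [Subgroup.normal_mul] at hg
    obtain ⟨a, ha, x, hx, rfl⟩ := Set.mem_mul.mp hg
    have h1 := hPinv x hx n
    have h2 := isClassFunction_of_isCharacter (IsIrrCharacter.isCharacter hθ)
      ⟨x * n * x⁻¹, hN.conj_mem n n.2 x⟩ ⟨a, ha⟩
    rw [← h1, ← h2]
    congr 1
    apply Subtype.ext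
    simp only [Subgroup.coe_mul, Subgroup.coe_inv]
    group
  -- the homomorphisms
  let H := {l : (G ⧸ N) →* ℂˣ // ∀ q, l q ^ p = 1}
  have hHcard : Nat.card H = p := card_hom_exponent hcyc hc0 hc
  let lift : ((G ⧸ N) →* ℂˣ) → G →* ℂˣ := fun l => l.comp (QuotientGroup.mk' N)
  have hliftN : ∀ (l : (G ⧸ N) →* ℂˣ) (n : N), lift l n = 1 := by
    intro l n
    show l (QuotientGroup.mk' N n) = 1
    have : QuotientGroup.mk' N (n : G) = 1 := (QuotientGroup.eq_one_iff _).mpr n.2
    rw [this, map_one]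
  have hliftinj : ∀ l l' : (G ⧸ N) →* ℂˣ, lift l = lift l' → l = l' := by
    intro l l' h
    ext q
    have := congrArg (fun f : G →* ℂˣ => ((f q : ℂˣ) : ℂ)) h
    exact this
  -- the power map on linear characters
  have hpowlin : ∀ β : G →* ℂˣ, (∀ n : N, β n = 1) → ∀ g, β (g ^ k) = β g * β g ^ p := by
    intro β hβ g
    obtain ⟨x, y, hxy, hc', ⟨j, hj⟩, hy⟩ := exists_decomp (p := p) g
    have hy1 : β y = 1 := hβ ⟨y, hregN y hy⟩
    rw [← hxy, hc'.mul_pow, hk₁ x ⟨j, hj⟩, hk₂ y hy, map_mul, map_mul, hy1, mul_one, mul_one,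
      map_pow, pow_add, pow_one]
  -- multiplication by linear characters is injective
  have htw : ∀ {χ₀ : G → ℂ}, IsIrrCharacter G χ₀ → IsIrrCharacter N (fun n : N => χ₀ n) →
      ∀ β γ : G →* ℂˣ, (∀ n : N, β n = 1) → (∀ n : N, γ n = 1) →
      (fun g => ((β g : ℂˣ) : ℂ)) * χ₀ = (fun g => ((γ g : ℂˣ) : ℂ)) * χ₀ → β = γ := by
    intro χ₀ hχ₀ hχ₀N β γ hβ hγ h
    have hinvβ : ∀ (n : N) (g : G), ((β (n * g) : ℂˣ) : ℂ) = β g := by
      intro n g
      rw [map_mul, hβ, one_mul]
    have hinvγ : ∀ (n : N) (g : G), ((γ (n * g) : ℂˣ) : ℂ) = γ g := by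
      intro n g
      rw [map_mul, hγ, one_mul]
    have h1 := Cfsg.Agent.Lib.CosetAvg.classInner_mul_mul_of_invariant N
      (IsIrrCharacter.isCharacter hχ₀) hχ₀N (β := fun g => ((β g : ℂˣ) : ℂ))
      (γ := fun g => ((γ g : ℂˣ) : ℂ)) hinvβ hinvγ
    rw [h] at h1
    have h2 := Cfsg.Agent.Lib.CosetAvg.classInner_mul_mul_of_invariant N
      (IsIrrCharacter.isCharacter hχ₀) hχ₀N (β := fun g => ((γ g : ℂˣ) : ℂ))
      (γ := fun g => ((γ g : ℂˣ) : ℂ)) hinvγ hinvγ
    rw [h2, classInner_irr_self (isIrrCharacter_of_hom γ)] at h1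
    by_contra hne
    have h3 : (fun g => ((β g : ℂˣ) : ℂ)) ≠ fun g => ((γ g : ℂˣ) : ℂ) := by
      intro h4
      apply hne
      ext g
      exact congrFun h4 g
    rw [classInner_irr_ne (isIrrCharacter_of_hom β) (isIrrCharacter_of_hom γ) h3] at h1
    exact one_ne_zero h1
  -- the canonical extensions
  let X := {χ : IrrCharacter G // χ ∈ principalBlock M G ∧ ¬ p ∣ charDegree (χ : G → ℂ) ∧
    ∀ g : G, (χ : G → ℂ) (g ^ k) = (χ : G → ℂ) g}
  let Y := {θ : IrrCharacter N // θ ∈ principalBlock M N ∧ ¬ p ∣ charDegree (θ : N → ℂ) ∧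
    (∀ x ∈ (P : Subgroup G), ∀ n : N, (θ : N → ℂ) ⟨x * n * x⁻¹, hN.conj_mem n n.2 x⟩ = (θ : N → ℂ) n) ∧
    ∀ n : N, (θ : N → ℂ) (n ^ k) = (θ : N → ℂ) n}
  have hcan : ∀ θ : Y, ∃ χ : G → ℂ, IsIrrCharacter G χ ∧ (∀ n : N, χ n = (θ.1 : N → ℂ) n) ∧
      ∀ g, χ (g ^ k) = χ g := fun θ =>
    exists_fixed_ext N hNres hcyc hk₁ hk₂ θ.1.2 (hinvG _ θ.1.2 θ.2.2.2.1) θ.2.2.2.2
      (Cfsg.Agent.Lib.CharKernel.one_eq_charDegree (IsIrrCharacter.isCharacter θ.1.2)) θ.2.2.1 hidx
  choose can hcan1 hcan2 hcan3 using hcan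
  have hcanN : ∀ y : Y, IsIrrCharacter N (fun n : N => can y n) := by
    intro y
    rw [funext (hcan2 y)]
    exact y.1.2
  let Φf : Y × H → G → ℂ := fun a => (fun g => ((lift a.2.1 g : ℂˣ) : ℂ)) * can a.1
  have hΦirr : ∀ a, IsIrrCharacter G (Φf a) := fun a => isIrr_mul_hom (lift a.2.1) (hcan1 a.1)
  have hΦres : ∀ a (n : N), Φf a n = (a.1.1 : N → ℂ) n := by
    intro a n
    simp only [Φf, Pi.mul_apply]
    rw [hliftN, hcan2]
    simp
  have hΦdeg : ∀ a, charDegree (Φf a) = charDegree (a.1.1 : N → ℂ) := by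
    intro a
    unfold charDegree
    have h1 := hΦres a 1
    have h2 : Φf a ((1 : N) : G) = Φf a 1 := rfl
    rw [h2] at h1
    rw [h1]
  have hΦfix : ∀ a g, Φf a (g ^ k) = Φf a g := by
    intro a g
    simp only [Φf, Pi.mul_apply]
    rw [hcan3, hpowlin _ (hliftN a.2.1)]
    have h1 : lift a.2.1 g ^ p = 1 := a.2.2 _
    rw [h1, mul_one]
  let Φ : Y × H → X := fun a => ⟨⟨Φf a, hΦirr a⟩,
    block_up hM N hregN' ⟨Φf a, hΦirr a⟩ a.1.1 (hΦres a) a.1.2.1,
    by
      show ¬ p ∣ charDegree (Φf a)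
      rw [hΦdeg]
      exact a.1.2.2.1,
    hΦfix a⟩
  have hΦinj : Function.Injective Φ := by
    rintro ⟨y, l⟩ ⟨y', l'⟩ h
    have h1 : Φf (y, l) = Φf (y', l') := congrArg (fun x : X => ((x.1 : IrrCharacter G) : G → ℂ)) h
    have h2 : y = y' := by
      apply Subtype.ext
      apply Subtype.ext
      funext n
      have h3 := congrFun h1 n
      rw [hΦres, hΦres] at h3
      exact h3
    subst h2
    have h3 : lift l.1 = lift l'.1 := htw (hcan1 y) (hcanN y) _ _ (hliftN _) (hliftN _) h1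
    have h4 : l = l' := Subtype.ext (hliftinj _ _ h3)
    rw [h4]
  have hΦsurj : Function.Surjective Φ := by
    intro χ
    have hirrN := restrict_irr N hidx χ.1.2 χ.2.2.1
    have hcl := isClassFunction_of_isCharacter (IsIrrCharacter.isCharacter χ.1.2)
    let θ₀ : IrrCharacter N := ⟨fun n => (χ.1 : G → ℂ) n, hirrN⟩
    have hinvθ : ∀ (g : G) (n : N), (θ₀ : N → ℂ) ⟨g * n * g⁻¹, hN.conj_mem (n : G) n.2 g⟩ =
        (θ₀ : N → ℂ) n := fun g n => hcl (n : G) g
    have hblock := block_down hM N χ.1 θ₀ (fun n => rfl) hinvθ χ.2.1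
    have hdeg : charDegree (θ₀ : N → ℂ) = charDegree (χ.1 : G → ℂ) := rfl
    let y : Y := ⟨θ₀, hblock, by rw [hdeg]; exact χ.2.2.1, fun x _ n => hinvθ x n, fun n => by
      show (χ.1 : G → ℂ) ((n ^ k : N) : G) = (χ.1 : G → ℂ) n
      rw [Subgroup.coe_pow]
      exact χ.2.2.2 (n : G)⟩
    obtain ⟨β, hβN, hβ⟩ := exists_eq_mul_of_extends N (hcan1 y) (hcanN y) χ.1.2 (fun n => by
      rw [hcan2])
    -- the exponent
    have hβp : (β * β ^ p : G →* ℂˣ) = β := by
      apply htw (hcan1 y) (hcanN y) _ _ _ hβN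
      · funext g
        have h1 := χ.2.2.2 g
        rw [hβ] at h1
        simp only [Pi.mul_apply] at h1
        rw [hcan3, hpowlin β hβN] at h1
        simp only [Pi.mul_apply]
        exact h1
      · intro n
        show β n * β n ^ p = 1
        rw [hβN]
        simp
    have hβp1 : ∀ g, β g ^ p = 1 := by
      intro g
      have h1 := DFunLike.congr_fun hβp g
      have h2 : β g * β g ^ p = β g := h1
      exact mul_eq_left.mp h2
    let l₀ : (G ⧸ N) →* ℂˣ := QuotientGroup.lift N β (fun n hn => hβN ⟨n, hn⟩)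
    have hl₀ : lift l₀ = β := by
      ext g
      rfl
    have hl₀p : ∀ q, l₀ q ^ p = 1 := by
      intro q
      obtain ⟨g, rfl⟩ := QuotientGroup.mk'_surjective N q
      exact hβp1 g
    refine ⟨(y, ⟨l₀, hl₀p⟩), ?_⟩
    apply Subtype.ext
    apply Subtype.ext
    show Φf (y, ⟨l₀, hl₀p⟩) = (χ.1 : G → ℂ)
    rw [hβ]
    simp only [Φf]
    rw [hl₀]
  have hcardX : Nat.card X = Nat.card (Y × H) := (Nat.card_congr (Equiv.ofBijective Φ ⟨hΦinj, hΦsurj⟩)).symm
  rw [Nat.card_prod, hHcard, mul_comm] at hcardX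
  exact hcardX

end Cfsg.Agent.S4553
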