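import Mathlib
import Cfsg.Statements.S4520
import Cfsg.Agent.Lib.RealChars
import Cfsg.Agent.Lib.GenChar
import Cfsg.Agent.Lib.DegreeDiv
import Cfsg.Agent.Lib.CharClifford
import Cfsg.Agent.Lib.CharPow
import Cfsg.Agent.Lib.BlockDefect
import Cfsg.Agent.Lib.BlockNormal
import Cfsg.Agent.S4571
import Cfsg.Agent.S4553

set_option autoImplicit false
set_option linter.style.haveILetI false
set_option linter.unusedVariables false
set_option linter.unusedSectionVars false
open Cfsg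

namespace Cfsg.Agent.S4520

open Cfsg.Agent.Lib.CharBasic Cfsg.Agent.Lib.BlockLocal Cfsg.Agent.Lib.BlockIdem
open Cfsg.Agent.Lib.BlockNormal Cfsg.Agent.Lib.RealChars Cfsg.Agent.Lib.CharClifford
open Cfsg.Agent.Lib.CharInd Cfsg.Agent.Lib.CharInduction
open scoped ComplexConjugate

universe u

variable {G : Type u} [Group G] [Fintype G] {M : Ideal AlgInt}

section Quot

variable (N : Subgroup G) [hN : N.Normal]

/-- `k`-th powers act as inversion in the quotient of odd order. -/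
theorem mk_pow_eq_inv (hidx : Odd N.index) {k : ℕ} (hk₂ : ∀ g : G, Odd (orderOf g) → g ^ k = g⁻¹) (g : G) :
    (QuotientGroup.mk' N g) ^ k = (QuotientGroup.mk' N g)⁻¹ := by
  obtain ⟨a, m', hm', hfac⟩ := Nat.exists_eq_pow_mul_and_not_dvd (n := orderOf g) (orderOf_pos g).ne' 2 (by norm_num)
  have hcard : Nat.card (G ⧸ N) = N.index := rfl
  have hcop : (2 ^ a).Coprime N.index :=
    Nat.Coprime.pow_left _ ((Nat.Prime.coprime_iff_not_dvd Nat.prime_two).mpr (by
      rw [← even_iff_two_dvd, Nat.not_even_iff_odd]; exact hidx))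
  have hbez := Nat.gcd_eq_gcd_ab (2 ^ a) N.index
  rw [hcop, Nat.cast_one] at hbez
  set v := Nat.gcdA (2 ^ a) N.index
  set w := Nat.gcdB (2 ^ a) N.index
  set h : G := (g ^ 2 ^ a) ^ v with hh
  have hord : Odd (orderOf h) := by
    have h1 : h ^ m' = 1 := by
      rw [hh, ← zpow_natCast, ← zpow_natCast, ← zpow_mul, ← zpow_mul]
      have : ((2 ^ a : ℕ) : ℤ) * (v * m') = ((orderOf g : ℕ) : ℤ) * v := by
        rw [hfac]; push_cast; ring
      rw [this, zpow_mul, zpow_natCast, pow_orderOf_eq_one, one_zpow]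
    have h2 : orderOf h ∣ m' := orderOf_dvd_of_pow_eq_one h1
    rw [← Nat.not_even_iff_odd, even_iff_two_dvd]
    exact fun h3 => hm' (h3.trans h2)
  have hmk : QuotientGroup.mk' N h = QuotientGroup.mk' N g := by
    have h1 : (QuotientGroup.mk' N g) ^ N.index = 1 := by
      rw [← hcard]; exact pow_card_eq_one'
    rw [hh, map_zpow, map_pow, ← zpow_natCast, ← zpow_mul]
    have : (((2 ^ a : ℕ) : ℤ) * v) = 1 - (N.index : ℤ) * w := by
      rw [hbez]; ring
    rw [this, sub_eq_add_neg, zpow_add, zpow_one, ← mul_neg, zpow_mul, zpow_natCast, h1, one_zpow, mul_one]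
  rw [← hmk, ← map_pow, hk₂ h hord, map_inv]

/-- Inflation from the quotient. -/
noncomputable def infl (lam : IrrCharacter (G ⧸ N)) : IrrCharacter G :=
  ⟨(lam : G ⧸ N → ℂ) ∘ QuotientGroup.mk' N,
    isIrrCharacter_comp_of_surjective (QuotientGroup.mk' N) (QuotientGroup.mk'_surjective N) lam.2⟩

theorem infl_apply (lam : IrrCharacter (G ⧸ N)) (g : G) :
    (infl N lam : G → ℂ) g = (lam : G ⧸ N → ℂ) (QuotientGroup.mk' N g) := rfl

/-- The indicator of `N` through the irreducible characters of the quotient. -/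
theorem sum_infl (g : G) [Fintype (G ⧸ N)] [DecidableEq G] [DecidablePred (· ∈ N)] :
    ∑ lam : IrrCharacter (G ⧸ N), (lam : G ⧸ N → ℂ) 1 * conj ((infl N lam : G → ℂ) g) =
      if g ∈ N then (N.index : ℂ) else 0 := by
  classical
  have h := sum_irr_mul_conj (G := G ⧸ N) 1 (QuotientGroup.mk' N g)
  simp only [infl_apply]
  rw [h]
  by_cases hg : g ∈ N
  · have h1 : QuotientGroup.mk' N g = 1 := (QuotientGroup.eq_one_iff g).mpr hg
    rw [if_pos hg, h1, if_pos (IsConj.refl _)]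
    congr 1
    have : Subgroup.centralizer ({(1 : G ⧸ N)} : Set (G ⧸ N)) = ⊤ := by
      ext x
      simp [Subgroup.mem_centralizer_singleton_iff]
    rw [this, Nat.card_congr Subgroup.topEquiv.toEquiv]
    rfl
  · rw [if_neg hg, if_neg]
    intro hc
    apply hg
    rw [isConj_one_right] at hc
    exact (QuotientGroup.eq_one_iff g).mp hc

end Quot


section Over

variable (N : Subgroup G) [hN : N.Normal] [Fintype N]

open Classical in
/-- The orbit of a character of `N`. -/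
noncomputable def orb (ϑ : N → ℂ) : Finset (N → ℂ) :=
  Finset.univ.image (fun g : G => conjBy N hN g ϑ)

/-- The data of the restriction of an irreducible character. -/
theorem over_data (hidx : Odd N.index) {χ : G → ℂ} (hχ : IsIrrCharacter G χ) {ϑ : N → ℂ}
    (hϑ : IsIrrCharacter N ϑ) (hover : classInner (fun n : N => χ n) ϑ ≠ 0) :
    ∃ e : ℕ, classInner (fun n : N => χ n) ϑ = e ∧ Odd e ∧ Odd (orb N ϑ).card ∧
      (fun n : N => χ n) = (e : ℂ) • ∑ ψ ∈ orb N ϑ, ψ ∧ χ 1 = (e : ℂ) * ((orb N ϑ).card : ℂ) * ϑ 1 := by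
  classical
  obtain ⟨e, he⟩ := classInner_char_irr (isCharacter_restrict N (IsIrrCharacter.isCharacter hχ)) hϑ
  have hres := restrict_eq_smul_sum N hN hχ hϑ hover
  rw [he] at hres
  have hone : ∀ ψ ∈ orb N ϑ, ψ 1 = ϑ 1 := by
    intro ψ hψ
    obtain ⟨g, -, rfl⟩ := Finset.mem_image.mp hψ
    rw [conjBy_apply]
    congr 1
    apply Subtype.ext
    simp
  have h1 : χ 1 = (e : ℂ) * ((orb N ϑ).card : ℂ) * ϑ 1 := by
    have h2 := congrFun hres 1
    simp only [OneMemClass.coe_one, Pi.smul_apply, Finset.sum_apply, smul_eq_mul] at h2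
    rw [h2]
    have h3 : ∑ ψ ∈ Finset.univ.image (fun g : G => conjBy N hN g ϑ), ψ 1 = ((orb N ϑ).card : ℂ) * ϑ 1 := by
      show ∑ ψ ∈ orb N ϑ, ψ 1 = _
      rw [Finset.sum_congr rfl hone, Finset.sum_const, nsmul_eq_mul]
    rw [h3]
    ring
  obtain ⟨c, hc⟩ := isCharacter_one_eq (IsIrrCharacter.isCharacter hχ)
  obtain ⟨d, hd0, hd⟩ := Cfsg.Agent.Lib.GenChar.isIrr_one_pos hϑ
  have hcd := Cfsg.Agent.Lib.DegreeDiv.degree_div N hχ hϑ hover hc hd
  have hcn : c = e * (orb N ϑ).card * d := by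
    have : (c : ℂ) = ((e * (orb N ϑ).card * d : ℕ) : ℂ) := by
      rw [← hc, h1, hd]
      push_cast
      ring
    exact_mod_cast this
  have hq : c / d = e * (orb N ϑ).card := by
    rw [hcn]
    exact Nat.mul_div_cancel _ hd0
  have hdvd : e * (orb N ϑ).card ∣ N.index := hq ▸ hcd.2
  have hodd : Odd (e * (orb N ϑ).card) := hidx.of_dvd_nat hdvd
  obtain ⟨h2, h3⟩ := Nat.odd_mul.mp hodd
  exact ⟨e, he, h2, h3, hres, h1⟩

/-- The norm of the orbit sum. -/
theorem classInner_orb {ϑ : N → ℂ} (hϑ : IsIrrCharacter N ϑ) :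
    classInner (∑ ψ ∈ orb N ϑ, ψ) (∑ ψ ∈ orb N ϑ, ψ) = ((orb N ϑ).card : ℂ) := by
  classical
  have hirr : ∀ ψ ∈ orb N ϑ, IsIrrCharacter N ψ := by
    intro ψ hψ
    obtain ⟨g, -, rfl⟩ := Finset.mem_image.mp hψ
    exact isIrrCharacter_conjBy N hN g hϑ
  rw [classInner_sum_left]
  have h1 : ∀ ψ ∈ orb N ϑ, classInner ψ (∑ ψ ∈ orb N ϑ, ψ) = 1 := by
    intro ψ hψ
    rw [classInner_sum_right, Finset.sum_eq_single ψ]
    · exact classInner_irr_self (hirr ψ hψ)
    · intro ψ' hψ' hne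
      exact classInner_irr_ne (hirr ψ hψ) (hirr ψ' hψ') (Ne.symm hne)
    · exact fun h => absurd hψ h
  rw [Finset.sum_congr rfl h1]
  simp

/-- The degree of the quotient character `χ₁ χ̄₂ ↓ N`: it is odd. -/
theorem inner_over_odd (hidx : Odd N.index) {χ₁ χ₂ : G → ℂ} (h₁ : IsIrrCharacter G χ₁) (h₂ : IsIrrCharacter G χ₂)
    {ϑ : N → ℂ} (hϑ : IsIrrCharacter N ϑ) (hover₁ : classInner (fun n : N => χ₁ n) ϑ ≠ 0)
    (hover₂ : classInner (fun n : N => χ₂ n) ϑ ≠ 0) :
    ∃ d : ℕ, classInner (fun n : N => χ₁ n) (fun n : N => χ₂ n) = d ∧ Odd d := by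
  obtain ⟨e₁, -, ho₁, ho, hr₁, -⟩ := over_data N hidx h₁ hϑ hover₁
  obtain ⟨e₂, -, ho₂, -, hr₂, -⟩ := over_data N hidx h₂ hϑ hover₂
  refine ⟨e₁ * e₂ * (orb N ϑ).card, ?_, (ho₁.mul ho₂).mul ho⟩
  rw [hr₁, hr₂, classInner_smul_left, classInner_smul_right, classInner_orb N hϑ]
  push_cast
  simp only [map_natCast]
  ring

end Over


section Unique

variable (N : Subgroup G) [hN : N.Normal] [Fintype N]

theorem classInner_pow {k : ℕ} (hk : (Nat.card G).Coprime k) (a b : G → ℂ) :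
    classInner (fun g => a (g ^ k)) (fun g => b (g ^ k)) = classInner a b := by
  unfold classInner
  congr 1
  exact Fintype.sum_equiv (powCoprime hk) _ _ fun g => rfl

/-- **Uniqueness**: at most one `k`-invariant character lies over `ϑ`. -/
theorem unique_over (hidx : Odd N.index) {k : ℕ} (hk : (Nat.card G).Coprime k)
    (hk₂ : ∀ g : G, Odd (orderOf g) → g ^ k = g⁻¹) {ϑ : N → ℂ} (hϑ : IsIrrCharacter N ϑ)
    (χ₁ χ₂ : IrrCharacter G) (hover₁ : classInner (fun n : N => (χ₁ : G → ℂ) n) ϑ ≠ 0)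
    (hover₂ : classInner (fun n : N => (χ₂ : G → ℂ) n) ϑ ≠ 0)
    (hs₁ : ∀ g, (χ₁ : G → ℂ) (g ^ k) = (χ₁ : G → ℂ) g) (hs₂ : ∀ g, (χ₂ : G → ℂ) (g ^ k) = (χ₂ : G → ℂ) g) :
    χ₁ = χ₂ := by
  classical
  by_contra hne
  letI : Fintype (G ⧸ N) := Fintype.ofFinite _
  haveI : Finite (IrrCharacter (G ⧸ N)) := inferInstance
  letI : Fintype (IrrCharacter (G ⧸ N)) := Fintype.ofFinite _
  obtain ⟨d, hd, hdodd⟩ := inner_over_odd N hidx χ₁.2 χ₂.2 hϑ hover₁ hover₂
  set ψ : G → ℂ := fun g => (χ₁ : G → ℂ) g * conj ((χ₂ : G → ℂ) g) with hψ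
  have hψc : IsCharacter G ψ := isCharacter_mul (IsIrrCharacter.isCharacter χ₁.2)
    (isCharacter_conj (IsIrrCharacter.isCharacter χ₂.2))
  have hψk : ∀ g, ψ (g ^ k) = ψ g := by
    intro g
    simp only [hψ, hs₁, hs₂]
  choose n hn using fun lam : IrrCharacter (G ⧸ N) => classInner_char_irr hψc (infl N lam).2
  choose D hD using fun lam : IrrCharacter (G ⧸ N) => isCharacter_one_eq (IsIrrCharacter.isCharacter lam.2)
  -- the degree formula
  have hform : (d : ℂ) = ∑ lam : IrrCharacter (G ⧸ N), (D lam : ℂ) * (n lam : ℂ) := by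
    have hGN : (Nat.card G : ℂ) = (Nat.card N : ℂ) * (N.index : ℂ) := by
      rw [← Subgroup.card_mul_index N]
      push_cast
      rfl
    have hNne : (Nat.card N : ℂ) ≠ 0 := by exact_mod_cast Nat.card_pos.ne'
    have hIne : (N.index : ℂ) ≠ 0 := by exact_mod_cast (Nat.pos_of_ne_zero hidx.pos.ne').ne'
    calc (d : ℂ) = (Nat.card N : ℂ)⁻¹ * ∑ x : N, ψ x := hd.symm
      _ = (Nat.card G : ℂ)⁻¹ * ∑ g : G, ψ g * (if g ∈ N then (N.index : ℂ) else 0) := by
        rw [hGN]
        have h1 : ∑ g : G, ψ g * (if g ∈ N then (N.index : ℂ) else 0) = (N.index : ℂ) * ∑ x : N, ψ x := by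
          rw [Finset.mul_sum, ← sum_subgroup_eq_sum N (fun g : G => ψ g * (if g ∈ N then (N.index : ℂ) else 0))
            (fun y hy => by simp [hy])]
          refine Finset.sum_congr rfl fun x _ => ?_
          rw [if_pos x.2]
          ring
        rw [h1]
        have h2 : (d : ℂ) = (Nat.card N : ℂ)⁻¹ * ∑ x : N, ψ x := hd.symm
        field_simp
      _ = ∑ lam : IrrCharacter (G ⧸ N), (D lam : ℂ) * (n lam : ℂ) := by
        have h3 : ∀ g : G, (if g ∈ N then (N.index : ℂ) else 0) =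
            ∑ lam : IrrCharacter (G ⧸ N), (D lam : ℂ) * conj ((infl N lam : G → ℂ) g) := by
          intro g
          rw [← sum_infl N]
          exact Finset.sum_congr rfl fun lam _ => by rw [hD]
        simp_rw [h3]
        have h4 : ∀ lam : IrrCharacter (G ⧸ N), (D lam : ℂ) * (n lam : ℂ) =
            ∑ g : G, (Nat.card G : ℂ)⁻¹ * (ψ g * ((D lam : ℂ) * conj ((infl N lam : G → ℂ) g))) := by
          intro lam
          rw [← hn lam]
          unfold classInner
          rw [Finset.mul_sum, Finset.mul_sum]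
          refine Finset.sum_congr rfl fun g _ => ?_
          ring
        simp_rw [h4]
        rw [Finset.sum_comm, Finset.mul_sum]
        refine Finset.sum_congr rfl fun g _ => ?_
        rw [Finset.mul_sum, Finset.mul_sum]
  have hformℕ : d = ∑ lam : IrrCharacter (G ⧸ N), D lam * n lam := by
    have : (d : ℂ) = ((∑ lam : IrrCharacter (G ⧸ N), D lam * n lam : ℕ) : ℂ) := by
      rw [hform]
      push_cast
      rfl
    exact_mod_cast this
  -- conjugation
  have hinfl : ∀ (lam : IrrCharacter (G ⧸ N)) (g : G),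
      (infl N (conjIrr lam) : G → ℂ) g = (infl N lam : G → ℂ) (g ^ k) := by
    intro lam g
    rw [infl_apply, infl_apply, map_pow, mk_pow_eq_inv N hidx hk₂ g]
    exact char_conj_eq_inv (IsIrrCharacter.isCharacter lam.2) _
  have hDc : ∀ lam : IrrCharacter (G ⧸ N), D (conjIrr lam) = D lam := by
    intro lam
    have h1 : ((conjIrr lam : IrrCharacter (G ⧸ N)) : G ⧸ N → ℂ) 1 = conj ((lam : G ⧸ N → ℂ) 1) := rfl
    rw [hD, hD, map_natCast] at h1
    exact_mod_cast h1
  have hnc : ∀ lam : IrrCharacter (G ⧸ N), n (conjIrr lam) = n lam := by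
    intro lam
    have h1 : classInner ψ (infl N (conjIrr lam) : G → ℂ) = classInner ψ (infl N lam : G → ℂ) := by
      rw [← classInner_pow hk ψ (infl N lam : G → ℂ)]
      congr 1
      · funext g
        exact (hψk g).symm
      · funext g
        exact hinfl lam g
    rw [hn, hn] at h1
    exact_mod_cast h1
  have hodd : Odd (Nat.card (G ⧸ N)) := hidx
  have hf1 : ∀ lam : IrrCharacter (G ⧸ N), conjIrr lam = lam → n lam = 0 := by
    intro lam h
    have h1 : (lam : G ⧸ N → ℂ) = fun _ => 1 := by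
      refine eq_one_of_real hodd lam fun g => ?_
      have := congrFun (congrArg Subtype.val h) g
      exact Complex.conj_eq_iff_im.mp this
    have h2 : (infl N lam : G → ℂ) = fun _ => 1 := by
      funext g
      rw [infl_apply, h1]
    have h3 : classInner ψ (infl N lam : G → ℂ) = classInner (χ₁ : G → ℂ) (χ₂ : G → ℂ) := by
      rw [h2]
      unfold classInner
      simp [hψ]
    have h4 : classInner (χ₁ : G → ℂ) (χ₂ : G → ℂ) = 0 :=
      classInner_irr_ne χ₁.2 χ₂.2 (fun h => hne (Subtype.ext h))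
    rw [hn, h4] at h3
    exact_mod_cast h3
  have heven : ((∑ lam : IrrCharacter (G ⧸ N), D lam * n lam : ℕ) : ZMod 2) = 0 := by
    push_cast
    refine Finset.sum_involution (fun lam _ => conjIrr lam) ?_ ?_ (fun _ _ => Finset.mem_univ _) ?_
    · intro lam _
      rw [hDc, hnc]
      exact CharTwo.add_self_eq_zero _
    · intro lam _ h0 h
      apply h0
      rw [hf1 lam h]
      simp
    · intro lam _
      exact conjIrr_conjIrr lam
  rw [← hformℕ, ZMod.natCast_eq_zero_iff_even] at heven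
  exact (Nat.not_even_iff_odd.mpr hdodd) heven

end Unique


section Parity

variable (N : Subgroup G) [hN : N.Normal] [Fintype N]

open Classical in
/-- The members of `B` over `ϑ`. -/
noncomputable def Xfin (B : Set (IrrCharacter G)) (ϑ : N → ℂ) : Finset (IrrCharacter G) :=
  Finset.univ.filter (fun χ₁ : IrrCharacter G => χ₁ ∈ B ∧ classInner (fun n : N => (χ₁ : G → ℂ) n) ϑ ≠ 0)

/-- The sum counted in the block. -/
theorem exists_count (hidx : Odd N.index) (B : Set (IrrCharacter G)) (ϑ : IrrCharacter N) :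
    ∃ c : ℕ, (N.index : ℂ) * omega (ϑ : N → ℂ) (fun n : N => blockCoeff B (n : G)) = (c : ℂ) ∧
      (c : ZMod 2) = ((Xfin N B (ϑ : N → ℂ)).card : ZMod 2) := by
  classical
  have hϑ1 : (ϑ : N → ℂ) 1 ≠ 0 := Cfsg.Agent.Lib.GenChar.isIrr_one_ne_zero ϑ.2
  have ht : ∀ χ₁ : IrrCharacter G, ∃ t : ℕ,
      (χ₁ : G → ℂ) 1 / (ϑ : N → ℂ) 1 * classInner (fun n : N => (χ₁ : G → ℂ) n) (ϑ : N → ℂ) = t ∧
      (classInner (fun n : N => (χ₁ : G → ℂ) n) (ϑ : N → ℂ) ≠ 0 → Odd t) ∧
      (classInner (fun n : N => (χ₁ : G → ℂ) n) (ϑ : N → ℂ) = 0 → t = 0) := by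
    intro χ₁
    by_cases h : classInner (fun n : N => (χ₁ : G → ℂ) n) (ϑ : N → ℂ) = 0
    · exact ⟨0, by rw [h]; simp, fun h' => absurd h h', fun _ => rfl⟩
    · obtain ⟨e, he, ho, ho2, -, h1⟩ := over_data N hidx χ₁.2 ϑ.2 h
      refine ⟨e * (orb N (ϑ : N → ℂ)).card * e, ?_, fun _ => (ho.mul ho2).mul ho, fun h' => absurd h' h⟩
      rw [he, h1]
      push_cast
      field_simp
  choose t ht1 ht2 ht3 using ht
  set Bf : Finset (IrrCharacter G) := Finset.univ.filter (· ∈ B) with hBf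
  refine ⟨∑ χ₁ ∈ Bf, t χ₁, ?_, ?_⟩
  · have hcoef : ∀ g : G, blockCoeff B g = (Nat.card G : ℂ)⁻¹ * ∑ χ₁ ∈ Bf, (χ₁ : G → ℂ) 1 * conj ((χ₁ : G → ℂ) g) := by
      intro g
      unfold blockCoeff
      congr 1
      rw [finsum_mem_eq_finite_toFinset_sum _ (Set.toFinite B)]
      apply Finset.sum_congr
      · ext x
        simp [hBf]
      · intro _ _
        rfl
    have hGN : (Nat.card G : ℂ) = (Nat.card N : ℂ) * (N.index : ℂ) := by
      rw [← Subgroup.card_mul_index N]
      push_cast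
      rfl
    have hNne : (Nat.card N : ℂ) ≠ 0 := by exact_mod_cast Nat.card_pos.ne'
    have hIne : (N.index : ℂ) ≠ 0 := by exact_mod_cast hidx.pos.ne'
    have hconj : ∀ χ₁ : IrrCharacter G,
        (Nat.card N : ℂ)⁻¹ * ∑ n : N, (ϑ : N → ℂ) n * conj ((χ₁ : G → ℂ) n) =
          classInner (fun n : N => (χ₁ : G → ℂ) n) (ϑ : N → ℂ) := by
      intro χ₁
      obtain ⟨e, he⟩ := classInner_char_irr (isCharacter_restrict N (IsIrrCharacter.isCharacter χ₁.2)) ϑ.2
      have h1 := classInner_conj_symm (fun n : N => (χ₁ : G → ℂ) n) (ϑ : N → ℂ)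
      rw [he, map_natCast] at h1
      rw [he, h1]
      rfl
    unfold omega
    simp only [hcoef]
    push_cast
    rw [← Finset.sum_congr rfl (fun χ₁ _ => ht1 χ₁)]
    have hterm : ∀ χ₁ : IrrCharacter G, (χ₁ : G → ℂ) 1 / (ϑ : N → ℂ) 1 * classInner (fun n : N => (χ₁ : G → ℂ) n) (ϑ : N → ℂ) =
        ∑ n : N, (N.index : ℂ) * ((Nat.card G : ℂ)⁻¹ * ((χ₁ : G → ℂ) 1 * conj ((χ₁ : G → ℂ) n)) * (ϑ : N → ℂ) n / (ϑ : N → ℂ) 1) := by
      intro χ₁
      rw [← hconj χ₁, hGN, Finset.mul_sum, Finset.mul_sum]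
      refine Finset.sum_congr rfl fun n _ => ?_
      field_simp
    simp_rw [hterm]
    rw [Finset.sum_comm, Finset.sum_div, Finset.mul_sum]
    refine Finset.sum_congr rfl fun n _ => ?_
    rw [Finset.mul_sum, Finset.sum_mul, Finset.sum_div, Finset.mul_sum]
  · push_cast
    have h1 : ∀ χ₁ ∈ Bf, (t χ₁ : ZMod 2) =
        if classInner (fun n : N => (χ₁ : G → ℂ) n) (ϑ : N → ℂ) ≠ 0 then 1 else 0 := by
      intro χ₁ _
      split_ifs with h
      · exact ZMod.natCast_eq_one_iff_odd.mpr (ht2 χ₁ h)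
      · push Not at h
        rw [ht3 χ₁ h]
        simp
    have h2 : Bf.filter (fun χ₁ : IrrCharacter G => classInner (fun n : N => (χ₁ : G → ℂ) n) (ϑ : N → ℂ) ≠ 0) =
        Xfin N B (ϑ : N → ℂ) := by
      ext x
      simp [Xfin, hBf]
    rw [Finset.sum_congr rfl h1, ← Finset.sum_filter, Finset.sum_const, nsmul_eq_mul, mul_one, h2]

theorem parity_block (hidx : Odd N.index) (hM : IsPModular 2 M) {B : Set (IrrCharacter G)} (hB : IsPBlock M B)
    (ϑ : IrrCharacter N) (hϑ : ϑ ∈ principalBlock M N) :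
    ((Xfin N B (ϑ : N → ℂ)).card : ZMod 2) = ((Xfin N B (irrOne N : N → ℂ)).card : ZMod 2) := by
  classical
  haveI := hM.2.1.isPrime
  obtain ⟨c₁, hc₁, hz₁⟩ := exists_count N hidx B ϑ
  obtain ⟨c₂, hc₂, hz₂⟩ := exists_count N hidx B (irrOne N)
  rw [← hz₁, ← hz₂]
  have hcl : IsClassFunction N (fun n : N => blockCoeff B (n : G)) := by
    intro x y
    exact Cfsg.Agent.Lib.BlkBasic.blockCoeff_isClassFunction B (x : G) (y : G)
  have hR : ∀ n : N, MemLocalRing M ((fun n : N => blockCoeff B (n : G)) n) :=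
    fun n => memLocalRing_blockCoeff hB _
  have hc := mem_Zc_of_classFunction hcl hR
  have h1 := memLocalIdeal_sub_of_mem_Zc hc (χ := irrOne N) (ψ := ϑ) hϑ
  have h2 := memLocalIdeal_mul_left (memLocalRing_natCast (M := M) N.index) h1
  rw [mul_sub, hc₁, hc₂] at h2
  have h3 : ((c₂ : ℂ) - (c₁ : ℂ)) = (((c₂ : ℤ) - (c₁ : ℤ) : ℤ) : ℂ) := by
    push_cast
    rfl
  rw [h3, memLocalIdeal_intCast_iff hM] at h2
  have h4 : ((c₂ : ℤ) - (c₁ : ℤ) : ZMod 2) = 0 := by
    have := (ZMod.intCast_zmod_eq_zero_iff_dvd ((c₂ : ℤ) - (c₁ : ℤ)) 2).mpr (by exact_mod_cast h2)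
    push_cast at this
    exact this
  have h5 : ((c₂ : ZMod 2)) - (c₁ : ZMod 2) = 0 := by
    simpa using h4
  exact (sub_eq_zero.mp h5).symm

end Parity


section Sigma

/-- Fixed points and parity. -/
theorem card_modEq_fixed {α : Type*} [DecidableEq α] (σ : α → α) (e : ℕ)
    (hσ : σ^[2 ^ e] = id) (X : Finset α) (hX : ∀ x ∈ X, σ x ∈ X) :
    (X.card : ZMod 2) = ((X.filter (fun x => σ x = x)).card : ZMod 2) := by
  classical
  haveI : Fact (Nat.Prime 2) := ⟨Nat.prime_two⟩
  let f : Function.End X := fun x => ⟨σ x, hX x x.2⟩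
  have hiter : ∀ (n : ℕ) (x : X), (((f ^ n : Function.End X) x : X) : α) = σ^[n] x := by
    intro n
    induction n with
    | zero => intro x; rfl
    | succ n ih =>
      intro x
      rw [pow_succ', Function.iterate_succ_apply']
      show ((f ((f ^ n : Function.End X) x) : X) : α) = _
      show σ (((f ^ n : Function.End X) x : X) : α) = _
      rw [ih]
  have hf : f ^ 2 ^ e = 1 := by
    funext x
    apply Subtype.ext
    rw [hiter, hσ]
    rfl
  have h1 := Equiv.Perm.card_fixedPoints_modEq (p := 2) (n := e) hf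
  have h2 : Fintype.card X = X.card := by simp
  have h3 : Fintype.card (Function.fixedPoints f) = (X.filter (fun x => σ x = x)).card := by
    rw [← Fintype.card_coe]
    refine Fintype.card_congr
      { toFun := fun x => ⟨x.1, Finset.mem_filter.mpr ⟨x.1.2, congrArg Subtype.val x.2⟩⟩
        invFun := fun x => ⟨⟨x.1, (Finset.mem_filter.mp x.2).1⟩, Subtype.ext (Finset.mem_filter.mp x.2).2⟩
        left_inv := fun x => rfl
        right_inv := fun x => rfl }
  rw [h2, h3] at h1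
  exact (ZMod.natCast_eq_natCast_iff _ _ _).mpr h1

variable {k : ℕ}

/-- The Galois twist. -/
noncomputable def sig (hk : (Nat.card G).Coprime k) (ψ : IrrCharacter G) : IrrCharacter G :=
  ⟨fun g => (ψ : G → ℂ) (g ^ k), Cfsg.Agent.Lib.CharPow.isIrr_pow ψ.2 hk⟩

theorem sig_apply (hk : (Nat.card G).Coprime k) (ψ : IrrCharacter G) (g : G) :
    (sig hk ψ : G → ℂ) g = (ψ : G → ℂ) (g ^ k) := rfl

theorem sig_iter (hk : (Nat.card G).Coprime k) {e : ℕ} (hke : k ^ (2 ^ e) ≡ 1 [MOD Nat.card G]) :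
    (sig hk)^[2 ^ e] = id := by
  have h : ∀ (j : ℕ) (ψ : IrrCharacter G) (g : G), ((sig hk)^[j] ψ : G → ℂ) g = (ψ : G → ℂ) (g ^ k ^ j) := by
    intro j
    induction j with
    | zero => intro ψ g; simp
    | succ j ih =>
      intro ψ g
      rw [Function.iterate_succ_apply, ih, sig_apply, ← pow_mul, pow_succ', mul_comm]
  funext ψ
  apply Subtype.ext
  funext g
  rw [h]
  have h1 : g ^ k ^ 2 ^ e = g := by
    have h2 : k ^ 2 ^ e ≡ 1 [MOD orderOf g] := hke.of_dvd (orderOf_dvd_natCard g)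
    have := pow_eq_pow_iff_modEq.mpr h2
    rwa [pow_one] at this
  rw [h1]
  rfl

theorem sig_over (N : Subgroup G) [Fintype N] (hk : (Nat.card G).Coprime k) {ϑ : N → ℂ}
    (hϑ : ∀ n : N, ϑ (n ^ k) = ϑ n) (χ₁ : IrrCharacter G) :
    classInner (fun n : N => (sig hk χ₁ : G → ℂ) n) ϑ = classInner (fun n : N => (χ₁ : G → ℂ) n) ϑ := by
  have hkN : (Nat.card N).Coprime k := Nat.Coprime.coprime_dvd_left (Subgroup.card_subgroup_dvd_card N) hk
  have h1 := Cfsg.Agent.S4520.classInner_pow (G := N) hkN (fun n : N => (χ₁ : G → ℂ) n) ϑ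
  rw [← h1]
  congr 1
  funext n
  exact (hϑ n).symm

theorem sig_mem (hM : IsPModular 2 M) (hk : (Nat.card G).Coprime k)
    (hk₂ : ∀ g : G, Odd (orderOf g) → g ^ k = g⁻¹) (χ : IrrCharacter G)
    (hχ : ∀ g, (χ : G → ℂ) (g ^ k) = (χ : G → ℂ) g) {χ₁ : IrrCharacter G}
    (h₁ : χ₁ ∈ blockOf M (χ : G → ℂ)) : sig hk χ₁ ∈ blockOf M (χ : G → ℂ) := by
  haveI := hM.2.1.isPrime
  refine Cfsg.Agent.S4571.sameBlock_of_reg hM χ (sig hk χ₁) fun x hx => ?_
  have hodd : Odd (orderOf x) := by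
    rw [← Nat.not_even_iff_odd, even_iff_two_dvd]
    exact hx
  have hxk := hk₂ x hodd
  have e1 : centralChar (sig hk χ₁ : G → ℂ) x = centralChar (χ₁ : G → ℂ) x⁻¹ := by
    unfold centralChar
    rw [sig_apply, hxk, Cfsg.Agent.Lib.RealChars.centralizer_inv_eq]
    have : (sig hk χ₁ : G → ℂ) 1 = (χ₁ : G → ℂ) 1 := by
      rw [sig_apply, one_pow]
    rw [this]
  have e2 : centralChar (χ : G → ℂ) x = centralChar (χ : G → ℂ) x⁻¹ := by
    unfold centralChar
    rw [Cfsg.Agent.Lib.RealChars.centralizer_inv_eq, ← hxk, hχ]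
  rw [e1, e2]
  exact h₁ x⁻¹

end Sigma


section Main

variable (N : Subgroup G) [hN : N.Normal] [Fintype N]

/-- `⟸`. -/
theorem mem_of_mem (hM : IsPModular 2 M) (hidx : Odd N.index) {k e : ℕ} (hk : (Nat.card G).Coprime k)
    (hke : k ^ (2 ^ e) ≡ 1 [MOD Nat.card G]) (hk₂ : ∀ g : G, Odd (orderOf g) → g ^ k = g⁻¹)
    (θ : IrrCharacter N) (hθ : ∀ n : N, (θ : N → ℂ) (n ^ k) = (θ : N → ℂ) n) (χ : IrrCharacter G)
    (hχ : ∀ g : G, (χ : G → ℂ) (g ^ k) = (χ : G → ℂ) g)
    (hover : classInner (fun n : N => (χ : G → ℂ) n) (θ : N → ℂ) ≠ 0)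
    (hθ0 : θ ∈ principalBlock M N) : χ ∈ principalBlock M G := by
  classical
  haveI := hM.2.1.isPrime
  set B := blockOf M (χ : G → ℂ) with hB
  have hχB : χ ∈ B := mem_blockOf_self χ
  have hBb : IsPBlock M B := ⟨χ, rfl⟩
  have hit := sig_iter (G := G) hk hke
  have hstable : ∀ (ϑ : N → ℂ), (∀ n : N, ϑ (n ^ k) = ϑ n) → ∀ x ∈ Xfin N B ϑ, sig hk x ∈ Xfin N B ϑ := by
    intro ϑ hϑ x hx
    simp only [Xfin, Finset.mem_filter, Finset.mem_univ, true_and] at hx ⊢
    refine ⟨sig_mem hM hk hk₂ χ hχ hx.1, ?_⟩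
    rw [sig_over N hk hϑ]
    exact hx.2
  have h1 := card_modEq_fixed (sig hk) e hit (Xfin N B (θ : N → ℂ)) (hstable _ hθ)
  have hfix : (Xfin N B (θ : N → ℂ)).filter (fun x => sig hk x = x) = {χ} := by
    ext x
    simp only [Finset.mem_filter, Finset.mem_singleton, Xfin, Finset.mem_univ, true_and]
    constructor
    · rintro ⟨⟨-, h2⟩, h3⟩
      refine unique_over N hidx hk hk₂ θ.2 x χ h2 hover (fun g => ?_) hχ
      have := congrArg (fun ψ : IrrCharacter G => (ψ : G → ℂ) g) h3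
      exact this
    · rintro rfl
      refine ⟨⟨hχB, hover⟩, ?_⟩
      apply Subtype.ext
      funext g
      exact hχ g
  rw [hfix, Finset.card_singleton] at h1
  have h2 := parity_block N hidx hM hBb θ hθ0
  rw [h1] at h2
  have hone : ∀ n : N, (irrOne N : N → ℂ) (n ^ k) = (irrOne N : N → ℂ) n := fun n => rfl
  have h3 := card_modEq_fixed (sig hk) e hit (Xfin N B (irrOne N : N → ℂ)) (hstable _ hone)
  rw [← h2] at h3
  -- a fixed point over the trivial character
  have hne : ((Xfin N B (irrOne N : N → ℂ)).filter (fun x => sig hk x = x)).Nonempty := by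
    rw [Finset.nonempty_iff_ne_empty]
    intro h4
    rw [h4] at h3
    simp at h3
  obtain ⟨χ', hχ'⟩ := hne
  simp only [Finset.mem_filter, Xfin, Finset.mem_univ, true_and] at hχ'
  obtain ⟨⟨h5, h6⟩, h7⟩ := hχ'
  have h8 : χ' = irrOne G := by
    refine unique_over N hidx hk hk₂ (irrOne N).2 χ' (irrOne G) h6 ?_ (fun g => ?_) (fun g => rfl)
    · have : (fun n : N => (irrOne G : G → ℂ) n) = (irrOne N : N → ℂ) := rfl
      rw [this, classInner_irr_self (irrOne N).2]
      exact one_ne_zero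
    · have := congrArg (fun ψ : IrrCharacter G => (ψ : G → ℂ) g) h7
      exact this
  rw [h8] at h5
  exact sameBlock_symm h5


/-- `⟹`. -/
theorem mem_of_mem' (hM : IsPModular 2 M) (θ : IrrCharacter N) (χ : IrrCharacter G)
    (hover : classInner (fun n : N => (χ : G → ℂ) n) (θ : N → ℂ) ≠ 0)
    (hχ : χ ∈ principalBlock M G) : θ ∈ principalBlock M N := by
  classical
  haveI := hM.2.1.isPrime
  by_contra hθ
  set b := principalBlock M N with hb
  have hbb : IsPBlock M b := isPBlock_principalBlock M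
  have hone : irrOne N ∈ b := irrOne_mem_principalBlock M
  let τ : G → Equiv.Perm (IrrCharacter N) := fun g =>
    { toFun := fun ψ => ⟨(ψ : N → ℂ) ∘ conjAut N hN g,
        isIrrCharacter_comp_of_surjective (conjAut N hN g).toMonoidHom (conjAut N hN g).surjective ψ.2⟩
      invFun := fun ψ => ⟨(ψ : N → ℂ) ∘ (conjAut N hN g).symm,
        isIrrCharacter_comp_of_surjective (conjAut N hN g).symm.toMonoidHom
          (conjAut N hN g).symm.surjective ψ.2⟩
      left_inv := fun ψ => by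
        apply Subtype.ext
        funext n
        simp
      right_inv := fun ψ => by
        apply Subtype.ext
        funext n
        simp }
  have hcc : ∀ (g : G) (n : N), centralChar (fun _ : N => (1 : ℂ)) (conjAut N hN g n) =
      centralChar (fun _ : N => (1 : ℂ)) n := by
    intro g n
    rw [← Cfsg.Agent.S4553.centralChar_comp_equiv]
    rfl
  have hstable : ∀ (g : G) (ψ : IrrCharacter N), τ g ψ ∈ b ↔ ψ ∈ b := by
    intro g ψ
    constructor
    · intro h n
      obtain ⟨m, rfl⟩ := (conjAut N hN g).surjective n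
      have h2 := h m
      have h3 : centralChar ((τ g ψ : IrrCharacter N) : N → ℂ) m =
          centralChar (ψ : N → ℂ) (conjAut N hN g m) := Cfsg.Agent.S4553.centralChar_comp_equiv _ _ _
      rw [h3, ← hcc g m] at h2
      exact h2
    · intro h n
      have h2 := h (conjAut N hN g n)
      have h3 : centralChar ((τ g ψ : IrrCharacter N) : N → ℂ) n =
          centralChar (ψ : N → ℂ) (conjAut N hN g n) := Cfsg.Agent.S4553.centralChar_comp_equiv _ _ _
      rw [h3]
      rw [hcc g n] at h2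
      exact h2
  set f : N → ℂ := blockCoeff b with hf
  have hfα : ∀ (g : G) (n : N), f (conjAut N hN g n) = f n := by
    intro g n
    simp only [hf]
    unfold blockCoeff
    rw [Cfsg.Agent.Lib.BlockOrtho.finsum_mem_eq_sum_indB, Cfsg.Agent.Lib.BlockOrtho.finsum_mem_eq_sum_indB]
    congr 1
    rw [← Equiv.sum_comp (τ g) (fun ψ : IrrCharacter N =>
      Cfsg.Agent.Lib.BlockOrtho.indB b ψ * ((ψ : N → ℂ) 1 * conj ((ψ : N → ℂ) n)))]
    refine Finset.sum_congr rfl fun ψ _ => ?_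
    have h2 : Cfsg.Agent.Lib.BlockOrtho.indB b (τ g ψ) = Cfsg.Agent.Lib.BlockOrtho.indB b ψ := by
      by_cases h : ψ ∈ b
      · rw [Cfsg.Agent.Lib.BlockOrtho.indB_of_mem h,
          Cfsg.Agent.Lib.BlockOrtho.indB_of_mem ((hstable g ψ).mpr h)]
      · rw [Cfsg.Agent.Lib.BlockOrtho.indB_of_not_mem h,
          Cfsg.Agent.Lib.BlockOrtho.indB_of_not_mem (fun h2 => h ((hstable g ψ).mp h2))]
    rw [h2]
    have h3 : ((τ g ψ : IrrCharacter N) : N → ℂ) 1 = (ψ : N → ℂ) 1 := by
      show (ψ : N → ℂ) (conjAut N hN g 1) = _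
      rw [map_one]
    rw [h3]
    rfl
  let F : G → ℂ := extendByZero N f
  have hFcl : IsClassFunction G F := by
    intro g h
    by_cases hg : g ∈ N
    · have hg' : h * g * h⁻¹ ∈ N := hN.conj_mem g hg h
      simp only [F]
      rw [Cfsg.Agent.Lib.CharInd.extendByZero_of_mem N f hg,
        Cfsg.Agent.Lib.CharInd.extendByZero_of_mem N f hg']
      exact hfα h ⟨g, hg⟩
    · have hg' : h * g * h⁻¹ ∉ N := fun h1 => hg (by
        have := hN.conj_mem _ h1 h⁻¹
        simpa [mul_assoc] using this)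
      simp only [F]
      rw [Cfsg.Agent.Lib.CharInd.extendByZero_of_not_mem N f hg,
        Cfsg.Agent.Lib.CharInd.extendByZero_of_not_mem N f hg']
  have hFR : ∀ g, MemLocalRing M (F g) := by
    intro g
    by_cases hg : g ∈ N
    · simp only [F]
      rw [Cfsg.Agent.Lib.CharInd.extendByZero_of_mem N f hg]
      exact memLocalRing_blockCoeff hbb _
    · simp only [F]
      rw [Cfsg.Agent.Lib.CharInd.extendByZero_of_not_mem N f hg]
      exact memLocalRing_zero
  have hc := mem_Zc_of_classFunction hFcl hFR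
  have h1 := memLocalIdeal_sub_of_mem_Zc hc (χ := irrOne G) (ψ := χ) hχ
  have hsum : ∀ ξ : G → ℂ, ∑ g, F g * ξ g = ∑ n : N, f n * ξ n := by
    intro ξ
    rw [Cfsg.Agent.Lib.CharInduction.sum_of_vanish_off N (fun g => F g * ξ g) (fun g hg => by
      simp only [F]
      rw [Cfsg.Agent.Lib.CharInd.extendByZero_of_not_mem N f hg, zero_mul])]
    refine Finset.sum_congr rfl fun n _ => ?_
    simp only [F]
    rw [Cfsg.Agent.Lib.CharInd.extendByZero_coe]
  have homega : ∀ ψ : IrrCharacter N, omega (ψ : N → ℂ) f =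
      Cfsg.Agent.Lib.BlockOrtho.indB b ψ := by
    intro ψ
    simp only [hf]
    rw [blockCoeff_eq_invF]
    exact omega_invF _ _
  have h5 : omega (irrOne G : G → ℂ) F = 1 := by
    have h3 := homega (irrOne N)
    rw [Cfsg.Agent.Lib.BlockOrtho.indB_of_mem hone] at h3
    rw [← h3]
    unfold omega
    rw [hsum]
    rfl
  have h2 : omega (χ : G → ℂ) F = 0 := by
    unfold omega
    rw [hsum]
    have hres := restrict_eq_smul_sum N hN χ.2 θ.2 hover
    have h3 : ∑ n : N, f n * (χ : G → ℂ) n =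
        classInner (fun n : N => (χ : G → ℂ) n) (θ : N → ℂ) *
          ∑ ψ ∈ Finset.univ.image (fun g : G => conjBy N hN g (θ : N → ℂ)), ∑ n : N, f n * ψ n := by
      rw [Finset.sum_comm, Finset.mul_sum]
      refine Finset.sum_congr rfl fun n _ => ?_
      have h4 := congrFun hres n
      simp only [Pi.smul_apply, Finset.sum_apply, smul_eq_mul] at h4
      rw [h4, Finset.mul_sum, Finset.mul_sum, Finset.mul_sum]
      refine Finset.sum_congr rfl fun ψ _ => ?_
      ring
    rw [h3, Finset.sum_eq_zero, mul_zero, zero_div]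
    intro ψ hψ
    obtain ⟨g, -, rfl⟩ := Finset.mem_image.mp hψ
    have h4 := homega (τ g θ)
    rw [Cfsg.Agent.Lib.BlockOrtho.indB_of_not_mem (fun h => hθ ((hstable g θ).mp h))] at h4
    unfold omega at h4
    have hne : ((τ g θ : IrrCharacter N) : N → ℂ) 1 ≠ 0 :=
      Cfsg.Agent.Lib.GenChar.isIrr_one_ne_zero (τ g θ).2
    have h6 := (div_eq_zero_iff.mp h4).resolve_right hne
    exact h6
  rw [h5, h2, sub_zero] at h1
  exact not_memLocalIdeal_one h1

end Main

/-- Let N be a normal subgroup of odd index in the finite group G, M a maximal ideal of the algebraic integers containing 2, and k coprime to the order of G with k ^ (2 ^ e) ≡ 1 modulo the order of G for some e and g ^ k = g⁻¹ for every element g of odd order. Let θ be an irreducible character of N and χ an irreducible character of G over θ, both unchanged by composing with g ↦ g ^ k. Then χ lies in the principal 2-block of G if and only if θ lies in the principal 2-block of N. -/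
theorem result {G : Type*} [Group G] [Fintype G] (M : Ideal Cfsg.AlgInt) (hM : Cfsg.IsPModular 2 M) (N : Subgroup G) [N.Normal] [Fintype N] (hidx : Odd N.index) (k e : ℕ) (hk : Nat.Coprime k (Nat.card G)) (hke : k ^ (2 ^ e) ≡ 1 [MOD Nat.card G]) (hk₂ : ∀ g : G, Odd (orderOf g) → g ^ k = g⁻¹) (θ : Cfsg.IrrCharacter N) (hθ : ∀ n : N, (θ : N → ℂ) (n ^ k) = (θ : N → ℂ) n) (χ : Cfsg.IrrCharacter G) (hχ : ∀ g : G, (χ : G → ℂ) (g ^ k) = (χ : G → ℂ) g) (hover : Cfsg.classInner (fun n : N => (χ : G → ℂ) n) (θ : N → ℂ) ≠ 0) : χ ∈ Cfsg.principalBlock M G ↔ θ ∈ Cfsg.principalBlock M N :=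
  ⟨mem_of_mem' N hM θ χ hover, mem_of_mem N hM hidx hk.symm hke hk₂ θ hθ χ hχ hover⟩

end Cfsg.Agent.S4520
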