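import Mathlib
import Cfsg.Statements.S4550
import Cfsg.Agent.Lib.BlockOrth
import Cfsg.Agent.Lib.BlkBasic
import Cfsg.Agent.Lib.BlkLink
import Cfsg.Agent.Lib.BlockNormal
import Cfsg.Agent.Lib.CharPow
import Cfsg.Agent.Lib.CharValues
import Cfsg.Agent.Lib.CharKernel
import Cfsg.Agent.S4519

set_option autoImplicit false
set_option linter.style.haveILetI false
set_option linter.unusedVariables false
set_option linter.unusedSectionVars false
open Cfsg

namespace Cfsg.Agent.S4550

open Cfsg.Agent.Lib.CharBasic Cfsg.Agent.Lib.BlkBasic Cfsg.Agent.Lib.BlockOrth Cfsg.Agent.Lib.BlockNormal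
open Cfsg.Agent.Lib.BlkLink Cfsg.Agent.Lib.CharPow Cfsg.Agent.Lib.BlockIdem Cfsg.Agent.Lib.CharValues
open Cfsg.Agent.Lib.CharKernel
open scoped ComplexConjugate

universe u

theorem three_pow (e : ℕ) : 3 ^ (2 ^ e) ≡ 1 [MOD 2 ^ (e + 1)] := by
  induction e with
  | zero => decide
  | succ e ih =>
    rw [Nat.modEq_iff_dvd] at ih ⊢
    have h1 : (3 : ℕ) ^ 2 ^ (e + 1) = 3 ^ 2 ^ e * 3 ^ 2 ^ e := by
      rw [pow_succ 2 e, pow_mul, sq]
    have h2 : (2 : ℤ) ∣ ((3 ^ 2 ^ e : ℕ) : ℤ) + 1 := by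
      have h3 : Odd (3 ^ 2 ^ e : ℕ) := Odd.pow (by decide)
      obtain ⟨t, ht⟩ := h3
      rw [ht]
      exact ⟨t + 1, by push_cast; ring⟩
    have h4 := mul_dvd_mul ih h2
    have h5 : ((2 ^ (e + 1 + 1) : ℕ) : ℤ) = ((2 ^ (e + 1) : ℕ) : ℤ) * 2 := by
      push_cast
      ring
    have h6 : (((1 : ℕ) : ℤ) - ((3 ^ 2 ^ e * 3 ^ 2 ^ e : ℕ) : ℤ)) =
        (((1 : ℕ) : ℤ) - ((3 ^ 2 ^ e : ℕ) : ℤ)) * (((3 ^ 2 ^ e : ℕ) : ℤ) + 1) := by
      push_cast
      ring
    rw [h5, h1, h6]
    exact h4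

/-- An involution has character value congruent to the degree modulo 2. -/
theorem char_invol {G : Type u} [Group G] [Finite G] {χ : G → ℂ} (hχ : IsCharacter G χ) {x : G}
    (hx : x ^ 2 = 1) : ∃ b : ℕ, χ 1 = χ x + 2 * b := by
  classical
  obtain ⟨n, ρ, rfl⟩ := hχ
  obtain ⟨b, μ, h1, h2, h3, h4⟩ := exists_eigenbasis_rep ρ x
  have hμ : ∀ i, μ i = 1 ∨ μ i = -1 := by
    intro i
    have h5 : ρ x (ρ x (b i)) = b i := by
      have h6 : ρ (x * x) (b i) = b i := by
        rw [← sq, hx, map_one]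
        rfl
      rw [map_mul] at h6
      exact h6
    rw [h1, map_smul, h1, smul_smul] at h5
    have h7 : (μ i * μ i - 1) • b i = 0 := by
      rw [sub_smul, h5, one_smul, sub_self]
    have h8 : μ i * μ i - 1 = 0 := by
      rcases smul_eq_zero.mp h7 with h | h
      · exact h
      · exact absurd h (b.ne_zero i)
    have h9 : (μ i - 1) * (μ i + 1) = 0 := by
      rw [← h8]
      ring
    rcases mul_eq_zero.mp h9 with h | h
    · left
      exact sub_eq_zero.mp h
    · right
      exact eq_neg_of_add_eq_zero_left h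
  refine ⟨(Finset.univ.filter (fun i => μ i = -1)).card, ?_⟩
  rw [h4, char_one_eq_rep]
  have h10 : (n : ℂ) = ∑ _i : Fin (Module.finrank ℂ (Fin n → ℂ)), (1 : ℂ) := by
    simp
  rw [h10, Finset.card_filter]
  push_cast
  rw [Finset.mul_sum, ← Finset.sum_add_distrib]
  refine Finset.sum_congr rfl fun i _ => ?_
  rcases hμ i with h | h
  · rw [h]
    have : (1 : ℂ) ≠ -1 := by norm_num
    simp [this]
  · rw [h]
    simp
    norm_num

section main

variable {G : Type u} [Group G] [Fintype G] {k : ℕ}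

/-- The exponent is coprime to the group order. -/
theorem coprime_of_hyps (hk₁ : ∀ g : G, (∃ j : ℕ, orderOf g = 2 ^ j) → g ^ k = g ^ 3)
    (hk₂ : ∀ g : G, Odd (orderOf g) → g ^ k = g) : (Nat.card G).Coprime k := by
  by_contra hcon
  obtain ⟨r, hr, hr1, hr2⟩ := Nat.Prime.not_coprime_iff_dvd.mp hcon
  haveI : Fact r.Prime := ⟨hr⟩
  obtain ⟨g, hg⟩ := exists_prime_orderOf_dvd_card' r hr1
  have h1 : g ^ k = 1 := by
    rw [← orderOf_dvd_iff_pow_eq_one, hg]
    exact hr2
  rcases hr.eq_two_or_odd' with h2 | h2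
  · subst h2
    have h3 := hk₁ g ⟨1, by rw [hg, pow_one]⟩
    rw [h1] at h3
    have h4 : g ^ 2 = 1 := by rw [← hg, pow_orderOf_eq_one]
    have h5 : g ^ 3 = g := by
      rw [pow_succ, h4, one_mul]
    rw [h5] at h3
    have h6 : orderOf g = 1 := by
      rw [← h3]
      exact orderOf_one
    rw [hg] at h6
    omega
  · have h3 := hk₂ g (by rw [hg]; exact h2)
    rw [h1] at h3
    have h6 : orderOf g = 1 := by
      rw [← h3]
      exact orderOf_one
    rw [hg] at h6
    exact hr.one_lt.ne' h6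

theorem pow_order (hk₁ : ∀ g : G, (∃ j : ℕ, orderOf g = 2 ^ j) → g ^ k = g ^ 3)
    (hk₂ : ∀ g : G, Odd (orderOf g) → g ^ k = g) (g : G) :
    g ^ (k ^ (2 ^ (Nat.card G))) = g := by
  obtain ⟨x, y, hxy, hc, ⟨j, hj⟩, hy⟩ := exists_isPPart (p := 2) Nat.prime_two g
  set e := Nat.card G with he
  have hy1 : ∀ m : ℕ, y ^ (k ^ m) = y := by
    intro m
    induction m with
    | zero => simp
    | succ m ih =>
      rw [pow_succ, pow_mul, ih]
      exact hk₂ y (by rwa [← Nat.not_even_iff_odd, even_iff_two_dvd])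
  have hx1 : ∀ m : ℕ, x ^ (k ^ m) = x ^ (3 ^ m) := by
    intro m
    induction m with
    | zero => simp
    | succ m ih =>
      rw [pow_succ, pow_mul, ih, ← pow_mul, mul_comm, pow_mul, hk₁ x ⟨j, hj⟩, ← pow_mul, pow_succ,
        mul_comm]
  rw [← hxy, hc.mul_pow, hy1, hx1]
  congr 1
  have h1 : x ^ (3 ^ 2 ^ e) = x ^ 1 := by
    rw [pow_eq_pow_iff_modEq, hj]
    apply Nat.ModEq.of_dvd _ (three_pow e)
    apply pow_dvd_pow
    have h2 : 2 ^ j ≤ e := by
      rw [← hj]
      exact Nat.le_of_dvd Nat.card_pos (orderOf_dvd_natCard x)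
    have h3 : j < 2 ^ j := Nat.lt_two_pow_self
    omega
  rw [h1, pow_one]

/-- The Galois action. -/
noncomputable def powAct (hk : (Nat.card G).Coprime k) (χ : IrrCharacter G) : IrrCharacter G :=
  ⟨fun g => (χ : G → ℂ) (g ^ k), isIrr_pow χ.2 hk⟩

theorem powAct_iterate (hk : (Nat.card G).Coprime k) (m : ℕ) (χ : IrrCharacter G) (g : G) :
    ((powAct hk)^[m] χ : G → ℂ) g = (χ : G → ℂ) (g ^ k ^ m) := by
  induction m generalizing χ g with
  | zero => simp
  | succ m ih =>
    rw [Function.iterate_succ_apply, ih]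
    show (χ : G → ℂ) ((g ^ k ^ m) ^ k) = _
    rw [← pow_mul, pow_succ]

/-- Agreeing on regular elements implies being in the same block. -/
theorem sameBlock_powAct {M : Ideal AlgInt} (hM : IsPModular 2 M) (hk : (Nat.card G).Coprime k)
    (hk₂ : ∀ g : G, Odd (orderOf g) → g ^ k = g) (χ : IrrCharacter G) :
    SameBlock M (χ : G → ℂ) (powAct hk χ : G → ℂ) := by
  apply sameBlock_of_linked hM
  apply Relation.EqvGen.rel
  show regInner 2 (χ : G → ℂ) (powAct hk χ : G → ℂ) ≠ 0
  have h1 : regInner 2 (χ : G → ℂ) (powAct hk χ : G → ℂ) =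
      ((∑ x : G, @ite ℝ (¬ 2 ∣ orderOf x) (Classical.propDecidable _)
        (Complex.normSq ((χ : G → ℂ) x)) 0 : ℝ) : ℂ) := by
    unfold regInner
    push_cast
    refine Finset.sum_congr rfl fun x _ => ?_
    by_cases hx : 2 ∣ orderOf x
    · simp [hx]
    · rw [if_pos hx, if_pos hx]
      have h2 : x ^ k = x := hk₂ x (by rwa [← Nat.not_even_iff_odd, even_iff_two_dvd])
      show (χ : G → ℂ) x * conj ((χ : G → ℂ) (x ^ k)) = _
      rw [h2, Complex.mul_conj]
  rw [h1]
  norm_cast
  apply ne_of_gt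
  apply Finset.sum_pos'
  · intro x _
    split_ifs <;> first | exact Complex.normSq_nonneg _ | exact le_rfl
  · refine ⟨1, Finset.mem_univ _, ?_⟩
    rw [if_pos (by simp)]
    rw [Complex.normSq_pos]
    exact Cfsg.Agent.Lib.Clifford.irr_degree_ne_zero χ.2

end main

/-- Let G be a finite group of even order and M a maximal ideal of the algebraic integers containing 2. Let k be a natural number with g ^ k = g ^ 3 for every 2-element g and g ^ k = g for every element g of odd order (such k exist); an irreducible character χ is unchanged by g ↦ g ^ k exactly when it is fixed by the field automorphism that cubes the 2-power roots of unity and fixes the roots of unity of odd order. Then the number of members χ of the principal 2-block of odd degree with χ (g ^ k) = χ g for all g is even. -/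
theorem result {G : Type*} [Group G] [Finite G] (M : Ideal Cfsg.AlgInt) (hM : Cfsg.IsPModular 2 M) (hev : Even (Nat.card G)) (k : ℕ) (hk₁ : ∀ g : G, (∃ j : ℕ, orderOf g = 2 ^ j) → g ^ k = g ^ 3) (hk₂ : ∀ g : G, Odd (orderOf g) → g ^ k = g) : Even (Nat.card {χ : Cfsg.IrrCharacter G // χ ∈ Cfsg.principalBlock M G ∧ Odd (Cfsg.charDegree (χ : G → ℂ)) ∧ ∀ g : G, (χ : G → ℂ) (g ^ k) = (χ : G → ℂ) g}) := by
  classical
  haveI : Fintype G := Fintype.ofFinite G
  haveI := hM.2.1.isPrime
  have hk := coprime_of_hyps hk₁ hk₂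
  set B := principalBlock M G with hB
  have hBb : IsPBlock M B := isPBlock_principalBlock M
  obtain ⟨x, hx⟩ := exists_prime_orderOf_dvd_card' 2 hev.two_dvd
  have hx2 : x ^ 2 = 1 := by rw [← hx, pow_orderOf_eq_one]
  have hxinv : x⁻¹ = x := by
    rw [inv_eq_iff_mul_eq_one, ← sq, hx2]
  -- weak block orthogonality
  have h0 := weak_block_orthogonality hM hBb (x := (1 : G)) (y := x) (by simp) (by rw [hx])
  rw [finsum_mem_eq_sum_blkInd, hxinv] at h0
  have hb : ∀ χ : IrrCharacter G, ∃ b : ℕ, (χ : G → ℂ) 1 = (χ : G → ℂ) x + 2 * b := fun χ =>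
    char_invol (IsIrrCharacter.isCharacter χ.2) hx2
  choose b hb using hb
  let a : IrrCharacter G → ℕ := fun χ => charDegree (χ : G → ℂ)
  have ha : ∀ χ : IrrCharacter G, (χ : G → ℂ) 1 = a χ := fun χ =>
    one_eq_charDegree (IsIrrCharacter.isCharacter χ.2)
  -- integer identity
  have h1 : (∑ χ : IrrCharacter G, (if χ ∈ B then (a χ : ℤ) * ((a χ : ℤ) - 2 * b χ) else 0)) = 0 := by
    have h2 : ((∑ χ : IrrCharacter G, (if χ ∈ B then (a χ : ℤ) * ((a χ : ℤ) - 2 * b χ) else 0) : ℤ) : ℂ) = 0 := by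
      rw [← h0]
      push_cast
      refine Finset.sum_congr rfl fun χ _ => ?_
      have h3 : (χ : G → ℂ) x = a χ - 2 * b χ := by
        rw [← ha χ, hb χ]
        ring
      by_cases h : χ ∈ B
      · rw [if_pos h, blkInd_of_mem h, ha χ, h3]
        simp
      · rw [if_neg h, blkInd_of_not_mem h]
        simp
    exact_mod_cast h2
  -- the weight
  let w : IrrCharacter G → ℕ := fun χ => if χ ∈ B ∧ Odd (a χ) then 1 else 0
  have hw : ((∑ χ, w χ : ℕ) : ZMod 2) = 0 := by
    have h2 := congrArg (Int.cast : ℤ → ZMod 2) h1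
    push_cast at h2
    refine Eq.trans ?_ h2
    push_cast
    refine Finset.sum_congr rfl fun χ _ => ?_
    have h20 : (2 : ZMod 2) = 0 := rfl
    by_cases h : χ ∈ B
    · rw [if_pos h]
      simp only [w, h, true_and]
      rw [h20, zero_mul, sub_zero]
      by_cases h3 : Odd (a χ)
      · rw [if_pos h3]
        have h4 : ((a χ : ℕ) : ZMod 2) = 1 := (ZMod.natCast_eq_one_iff_odd).mpr h3
        rw [h4]
        simp
      · rw [if_neg h3]
        have h4 : ((a χ : ℕ) : ZMod 2) = 0 :=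
          (ZMod.natCast_eq_zero_iff_even).mpr (Nat.not_odd_iff_even.mp h3)
        rw [h4]
        simp
    · rw [if_neg h]
      simp [w, h]
  -- the action
  let f := powAct hk
  have hforder : f^[2 ^ (Nat.card G)] = id := by
    funext χ
    apply Subtype.ext
    funext g
    rw [powAct_iterate hk, pow_order hk₁ hk₂]
    rfl
  have hfa : ∀ χ, a (f χ) = a χ := by
    intro χ
    show charDegree (f χ : G → ℂ) = charDegree (χ : G → ℂ)
    unfold charDegree
    show ⌊((χ : G → ℂ) ((1 : G) ^ k)).re⌋₊ = _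
    rw [one_pow]
  have hfB : ∀ χ, f χ ∈ B ↔ χ ∈ B := by
    intro χ
    have h2 := sameBlock_powAct hM hk hk₂ χ
    constructor
    · intro h
      exact sameBlock_trans h (sameBlock_symm h2)
    · intro h
      exact sameBlock_trans h h2
  have hpar := Cfsg.Agent.S4519.sum_weight_modEq _ f hforder w (fun χ => by
    simp only [w, hfa, hfB])
  rw [hw] at hpar
  rw [← ZMod.natCast_eq_zero_iff_even]
  rw [Nat.card_eq_fintype_card, Fintype.card_subtype, Finset.card_filter]
  refine Eq.trans ?_ hpar.symm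
  rw [Finset.sum_filter]
  push_cast
  refine Finset.sum_congr rfl fun χ _ => ?_
  have hfix : f χ = χ ↔ ∀ g, (χ : G → ℂ) (g ^ k) = (χ : G → ℂ) g := by
    constructor
    · intro h g
      exact congrFun (congrArg Subtype.val h) g
    · intro h
      apply Subtype.ext
      funext g
      exact h g
  by_cases h3 : ∀ g, (χ : G → ℂ) (g ^ k) = (χ : G → ℂ) g
  · have h4 := hfix.mpr h3
    simp only [w, h3, h4, a]
    simp
  · have h4 : ¬ f χ = χ := fun h => h3 (hfix.mp h)
    simp [h3, h4]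

end Cfsg.Agent.S4550
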