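import Mathlib
import Cfsg.Statements.S4708
import Cfsg.Agent.Lib.BlockCover
import Cfsg.Agent.Lib.BlockNormal

set_option autoImplicit false

open Cfsg

namespace Cfsg.Agent.S4708

open Cfsg.Agent.Lib.CharBasic Cfsg.Agent.Lib.CharInd Cfsg.Agent.Lib.BlockLocal Cfsg.Agent.Lib.BlockIdem
open Cfsg.Agent.Lib.BlockNormal Cfsg.Agent.Lib.BlkNormalSub Cfsg.Agent.Lib.CharKernel

theorem irrOne_constituent {G : Type*} [Group G] [Fintype G] (H : Subgroup G) [Fintype H] :
    classInner (fun n : H => (irrOne G : G → ℂ) n) (irrOne H : H → ℂ) ≠ 0 :=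
  constituent_one_of_forall (irrOne G) (fun _ => rfl)

theorem mem_principal_of_constituent {G : Type*} [Group G] [Fintype G] {H : Subgroup G} [hN : H.Normal]
    [Fintype H] {M : Ideal Cfsg.AlgInt} [M.IsPrime] (χ : IrrCharacter G)
    (hχ : χ ∈ principalBlock M G) (θ : IrrCharacter H)
    (hc : classInner (fun n : H => (χ : G → ℂ) n) (θ : H → ℂ) ≠ 0) : θ ∈ principalBlock M H := by
  have h1 := mem_orbitSet_of_congr (M := M) hN (b := principalBlock M H)
    (blockClosed_of_isPBlock (isPBlock_principalBlock M)) (irrOne_mem_principalBlock M)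
    (fun n => memLocalIdeal_of_covers hN (χ₀ := irrOne G) (θ₀ := irrOne H) hχ (sameBlock_refl _)
      (irrOne_constituent H) n) hc
  obtain ⟨g, hg⟩ := h1
  have h2 : SameBlock M (irrOne H : H → ℂ) (conjIrr H hN g θ : H → ℂ) := hg
  have h3 := sameBlock_conjIrr (hN := hN) h2 g⁻¹
  rw [conjIrr_inv_conjIrr] at h3
  exact h3
theorem result {G : Type*} [Group G] [Finite G] (p : ℕ) [Fact p.Prime] (M : Ideal Cfsg.AlgInt) (hM : Cfsg.IsPModular p M) (H : Subgroup G) [H.Normal] : (∑ᶠ θ ∈ Cfsg.principalBlock M H, Cfsg.charDegree (θ : H → ℂ) ^ 2) ≤ (∑ᶠ χ ∈ Cfsg.principalBlock M G, Cfsg.charDegree (χ : G → ℂ) ^ 2) ∧ (∑ᶠ χ ∈ Cfsg.principalBlock M G, Cfsg.charDegree (χ : G → ℂ) ^ 2) ≤ H.index * ∑ᶠ θ ∈ Cfsg.principalBlock M H, Cfsg.charDegree (θ : H → ℂ) ^ 2 := by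
  classical
  letI := Fintype.ofFinite G
  letI : Fintype H := Fintype.ofFinite H
  haveI := isPrime_of_isPModular hM
  have hm0 : ∀ (χ : IrrCharacter G) (θ : IrrCharacter H), ∃ k : ℕ,
      classInner (fun n : H => (χ : G → ℂ) n) (θ : H → ℂ) = k := fun χ θ =>
    classInner_char_irr (isCharacter_restrict H (IsIrrCharacter.isCharacter χ.2)) θ.2
  choose m hm using hm0
  have hdeg : ∀ χ : IrrCharacter G, charDegree (χ : G → ℂ) =
      ∑ θ : IrrCharacter H, m χ θ * charDegree (θ : H → ℂ) := by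
    intro χ
    have hχ := IsIrrCharacter.isCharacter χ.2
    have h1 := classFunction_eq_sum (isClassFunction_of_isCharacter (isCharacter_restrict H hχ))
    have h2 := congrFun h1 1
    simp only [Finset.sum_apply, Pi.smul_apply, smul_eq_mul] at h2
    have h3 : ((charDegree (χ : G → ℂ) : ℕ) : ℂ) =
        ((∑ θ : IrrCharacter H, m χ θ * charDegree (θ : H → ℂ) : ℕ) : ℂ) := by
      rw [← one_eq_charDegree hχ]
      push_cast
      have h4 : (χ : G → ℂ) 1 = (χ : G → ℂ) ((1 : H) : G) := by simp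
      rw [h4, h2]
      refine Finset.sum_congr rfl fun θ _ => ?_
      rw [hm, ← one_eq_charDegree (IsIrrCharacter.isCharacter θ.2)]
    exact_mod_cast h3
  have hind : ∀ θ : IrrCharacter H, ∑ χ : IrrCharacter G, m χ θ * charDegree (χ : G → ℂ) =
      H.index * charDegree (θ : H → ℂ) := by
    intro θ
    have hθ := IsIrrCharacter.isCharacter θ.2
    have h1 := classFunction_eq_sum (indFun_isClassFunction H (θ : H → ℂ))
    have h2 := congrFun h1 1
    simp only [Finset.sum_apply, Pi.smul_apply, smul_eq_mul] at h2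
    have h3 : ((H.index * charDegree (θ : H → ℂ) : ℕ) : ℂ) =
        ((∑ χ : IrrCharacter G, m χ θ * charDegree (χ : G → ℂ) : ℕ) : ℂ) := by
      push_cast
      rw [← one_eq_charDegree hθ, ← indFun_one, h2]
      refine Finset.sum_congr rfl fun χ _ => ?_
      have hχ := IsIrrCharacter.isCharacter χ.2
      rw [← one_eq_charDegree hχ, frobenius H _ (isClassFunction_of_isCharacter hχ),
        ← classInner_conj_symm, hm]
      simp
    exact_mod_cast h3.symm
  have hF1 : ∀ χ ∈ principalBlock M G, ∀ θ : IrrCharacter H, θ ∉ principalBlock M H → m χ θ = 0 := by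
    intro χ hχ θ hθ
    by_contra hne
    apply hθ
    exact mem_principal_of_constituent χ hχ θ (by rw [hm]; exact_mod_cast hne)
  have hF2 : ∀ θ ∈ principalBlock M H, ∃ χ ∈ principalBlock M G, m χ θ ≠ 0 := by
    intro θ hθ
    have hB := isPBlock_principalBlock (G := G) M
    have hb := isPBlock_principalBlock (G := H) M
    obtain ⟨χ, hχ, hne⟩ := Cfsg.Agent.Lib.BlockCover.exists_constituent_of_cover hB hb
      ⟨irrOne G, irrOne_mem_principalBlock M, irrOne H, irrOne_mem_principalBlock M,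
        irrOne_constituent H⟩ hθ
    refine ⟨χ, hχ, ?_⟩
    intro h0
    apply hne
    rw [hm, h0]
    simp
  set A : Finset (IrrCharacter H) := (principalBlock M H).toFinset with hA
  set C : Finset (IrrCharacter G) := (principalBlock M G).toFinset with hC
  have hAm : ∀ θ, θ ∈ A ↔ θ ∈ principalBlock M H := fun θ => Set.mem_toFinset
  have hCm : ∀ χ, χ ∈ C ↔ χ ∈ principalBlock M G := fun χ => Set.mem_toFinset
  rw [finsum_mem_eq_toFinset_sum, finsum_mem_eq_toFinset_sum]
  have hdeg' : ∀ χ ∈ C, charDegree (χ : G → ℂ) = ∑ θ ∈ A, m χ θ * charDegree (θ : H → ℂ) := by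
    intro χ hχ
    rw [hdeg χ]
    refine (Finset.sum_subset (Finset.subset_univ A) fun θ _ hθ => ?_).symm
    rw [hF1 χ ((hCm χ).mp hχ) θ (fun h => hθ ((hAm θ).mpr h)), zero_mul]
  have hS : ∑ χ ∈ C, charDegree (χ : G → ℂ) ^ 2 =
      ∑ θ ∈ A, charDegree (θ : H → ℂ) * ∑ χ ∈ C, m χ θ * charDegree (χ : G → ℂ) := by
    calc ∑ χ ∈ C, charDegree (χ : G → ℂ) ^ 2
        = ∑ χ ∈ C, ∑ θ ∈ A, m χ θ * charDegree (θ : H → ℂ) * charDegree (χ : G → ℂ) := by
          refine Finset.sum_congr rfl fun χ hχ => ?_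
          rw [← Finset.sum_mul, ← hdeg' χ hχ, sq]
      _ = ∑ θ ∈ A, ∑ χ ∈ C, m χ θ * charDegree (θ : H → ℂ) * charDegree (χ : G → ℂ) :=
          Finset.sum_comm
      _ = _ := by
          refine Finset.sum_congr rfl fun θ _ => ?_
          rw [Finset.mul_sum]
          refine Finset.sum_congr rfl fun χ _ => ?_
          ring
  rw [show (Set.toFinset (principalBlock M H)) = A from rfl,
    show (Set.toFinset (principalBlock M G)) = C from rfl, hS]
  constructor
  · refine Finset.sum_le_sum fun θ hθ => ?_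
    rw [sq]
    apply Nat.mul_le_mul_left
    obtain ⟨χ, hχ, hne⟩ := hF2 θ ((hAm θ).mp hθ)
    have h1 : charDegree (θ : H → ℂ) ≤ charDegree (χ : G → ℂ) := by
      rw [hdeg χ]
      refine le_trans ?_ (Finset.single_le_sum (fun _ _ => Nat.zero_le _) (Finset.mem_univ θ))
      exact Nat.le_mul_of_pos_left _ (Nat.pos_of_ne_zero hne)
    refine le_trans h1 ?_
    refine le_trans ?_ (Finset.single_le_sum (f := fun χ => m χ θ * charDegree (χ : G → ℂ))
      (fun _ _ => Nat.zero_le _) ((hCm χ).mpr hχ))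
    exact Nat.le_mul_of_pos_left _ (Nat.pos_of_ne_zero hne)
  · rw [Finset.mul_sum]
    refine Finset.sum_le_sum fun θ _ => ?_
    have h2 : ∑ χ ∈ C, m χ θ * charDegree (χ : G → ℂ) ≤ H.index * charDegree (θ : H → ℂ) := by
      rw [← hind θ]
      exact Finset.sum_le_sum_of_subset (Finset.subset_univ C)
    calc charDegree (θ : H → ℂ) * ∑ χ ∈ C, m χ θ * charDegree (χ : G → ℂ)
        ≤ charDegree (θ : H → ℂ) * (H.index * charDegree (θ : H → ℂ)) :=
          Nat.mul_le_mul_left _ h2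
      _ = H.index * charDegree (θ : H → ℂ) ^ 2 := by ring

end Cfsg.Agent.S4708
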