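import Mathlib
import Cfsg.Statements.S4551
import Cfsg.Agent.Lib.AlperinDade4
import Cfsg.Agent.S4708
import Cfsg.Agent.Lib.FongExt

set_option autoImplicit false
set_option linter.style.haveILetI false
set_option linter.unusedVariables false
set_option linter.unusedSectionVars false

open Cfsg

namespace Cfsg.Agent.S4551

open Cfsg.Agent.Lib.CharBasic Cfsg.Agent.Lib.CharInd Cfsg.Agent.Lib.CharInduction
open Cfsg.Agent.Lib.CentralExt Cfsg.Agent.Lib.ImplGroup Cfsg.Agent.Lib.CosetAvg
open Cfsg.Agent.Lib.BlockLocal Cfsg.Agent.Lib.BlockIdem Cfsg.Agent.Lib.AlperinDade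
open Cfsg.Agent.Lib.AlperinDade2 Cfsg.Agent.Lib.AlperinDade3 Cfsg.Agent.Lib.AlperinDade4
open Cfsg.Agent.Lib.FongExt Cfsg.Agent.Lib.BlockNormal Cfsg.Agent.Lib.BlkNormalSub
open Module
open scoped ComplexConjugate Classical Pointwise

universe u

section CardCl

variable {N Γ : Type u} [Group N] [Fintype N] [Group Γ] (hat : N →* Γ)

theorem card_Cl_eq (y : Γ) :
    (Cl hat y).card = ((Subgroup.centralizer ({y} : Set Γ)).comap hat).index := by
  letI : MulAction N Γ := MulAction.compHom Γ ((MulAut.conj : Γ →* MulAut Γ).comp hat)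
  have hsmul : ∀ (n : N) (x : Γ), n • x = hat n * x * (hat n)⁻¹ := fun n x => rfl
  have h1 : (MulAction.stabilizer N y).index = (MulAction.orbit N y).ncard :=
    MulAction.index_stabilizer N y
  have h2 : (MulAction.orbit N y) = ((Cl hat y : Finset Γ) : Set Γ) := by
    ext x
    simp only [MulAction.mem_orbit_iff, hsmul, Finset.mem_coe, mem_Cl]
  rw [h2, Set.ncard_coe_finset] at h1
  rw [← h1]
  congr 1
  ext n
  rw [MulAction.mem_stabilizer_iff, hsmul, Subgroup.mem_comap,
    Subgroup.mem_centralizer_singleton_iff, mul_inv_eq_iff_eq_mul]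

end CardCl

section Main

variable {G : Type u} [Group G] [Fintype G] {p : ℕ} [hp : Fact p.Prime]
  {M : Ideal AlgInt} (hM : IsPModular p M) {N : Subgroup G} [hN : N.Normal] [Fintype N] {k : ℕ}
  (hk : 0 < k)
  {ρ : Representation ℂ N (Fin k → ℂ)} (hρ : ρ.IsIrreducible)
  (hθ : (⟨ρ.character, ⟨k, ρ, hρ, rfl⟩⟩ : IrrCharacter N) ∈ principalBlock M N)
  {W : Subgroup G} {P₀ : Subgroup N} (hP₀ : ¬ p ∣ P₀.index)
  (hWP : ∀ w ∈ W, ∀ u ∈ P₀, w * (u : G) = u * w)
  (hNW : ∀ g : G, ∃ n ∈ N, ∃ w ∈ W, g = n * w)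
  {R₁ : Representation ℂ G (Fin k → ℂ)} (hR₁ : ∀ n : N, R₁ n = ρ n)
  (hW : ∀ w ∈ W, MemLocalIdeal M (R₁.character w / k - 1))

include hM hk hρ hθ hP₀ hWP hR₁ hW in
/-- Sums of a stable set in one coset are congruent to their sizes. -/
theorem congr_fiber {S : Finset G} (hS : StableS N.subtype S) {w : G} (hw : w ∈ W)
    (hSw : ∀ u ∈ S, (u : G ⧸ N) = (w : G ⧸ N)) :
    MemLocalIdeal M (tauS R₁ S - (S.card : ℂ)) := by
  haveI := isPrime_of_isPModular hM
  have hk0 : (k : ℂ) ≠ 0 := by exact_mod_cast hk.ne'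
  have hRρ : ∀ n : N, R₁ (N.subtype n) = ρ n := hR₁
  have hw' : w⁻¹ ∈ W := W.inv_mem hw
  have hprod : ∀ u₁ ∈ S, ∀ u₂ ∈ Cl N.subtype w⁻¹, ∀ u₃ ∈ ({1} : Finset G),
      ∃ n : N, u₁ * u₂ * u₃ = N.subtype n := by
    intro u₁ hu₁ u₂ hu₂ u₃ hu₃
    rw [Finset.mem_singleton] at hu₃
    subst hu₃
    rw [mul_one]
    have h1 : w * u₂ ∈ N := conj_sub_mem' N w (by simpa using hu₂)
    have h2 : (u₁ : G ⧸ N) = w := hSw u₁ hu₁
    have h3 : u₁⁻¹ * w ∈ N := QuotientGroup.eq.mp h2
    have h5 : u₁ * u₂ ∈ N := by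
      -- `u₁ u₂ = u₁ w⁻¹ (w u₂)` and `u₁ w⁻¹ ∈ N`
      have h8 : u₁ * w⁻¹ ∈ N := by
        have := hN.conj_mem _ (N.inv_mem h3) u₁
        have h9 : u₁ * (u₁⁻¹ * w)⁻¹ * u₁⁻¹ = u₁ * w⁻¹ := by group
        rwa [h9] at this
      have h10 : u₁ * u₂ = (u₁ * w⁻¹) * (w * u₂) := by group
      rw [h10]
      exact N.mul_mem h8 h1
    exact ⟨⟨_, h5⟩, rfl⟩
  have h := tauS_congr R₁ ρ hRρ hρ N.subtype_injective hk hS (stable_Cl N.subtype w⁻¹)
    (stable_singleton_one N.subtype) hprod hθ
  have hone : tauS R₁ ({1} : Finset G) = 1 := by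
    unfold tauS
    rw [Finset.sum_singleton, char_one_eq_rep R₁, div_self hk0]
  rw [hone, tauS_Cl R₁ w⁻¹, Finset.card_singleton] at h
  have hcl : ¬ p ∣ (Cl N.subtype w⁻¹).card := by
    refine not_dvd_card_Cl N.subtype P₀ hP₀ fun u hu => ?_
    exact (hWP w⁻¹ hw' u hu).symm
  set a := (Cl N.subtype w⁻¹).card
  have ha0 : (a : ℂ) ≠ 0 := by
    intro h0
    have : a = 0 := by exact_mod_cast h0
    rw [this] at hcl
    exact hcl (dvd_zero p)
  have hτ : MemLocalRing M (tauS R₁ S) :=
    memLocalRing_of_isIntegral (tauS_isIntegral R₁ ρ hRρ hρ hS hk)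
  have ht := hW _ hw'
  set t := R₁.character w⁻¹ / k
  have h2 : tauS R₁ S - (S.card : ℂ) = (a : ℂ)⁻¹ * (tauS R₁ S * ((a : ℂ) * t) * 1 -
      (S.card : ℂ) * (a : ℂ) * ((1 : ℕ) : ℂ)) - tauS R₁ S * (t - 1) := by
    have h3 : tauS R₁ S * ((a : ℂ) * t) * 1 - (S.card : ℂ) * (a : ℂ) * ((1 : ℕ) : ℂ) =
      (a : ℂ) * (tauS R₁ S * t - (S.card : ℂ)) := by
      push_cast
      ring
    rw [h3, ← mul_assoc, inv_mul_cancel₀ ha0, one_mul]
    ring
  rw [h2]
  exact memLocalIdeal_sub (memLocalIdeal_mul_left (memLocalRing_inv_natCast hM hcl) h)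
    (memLocalIdeal_mul_left hτ ht)

include hM hk hρ hθ hP₀ hWP hNW hR₁ hW in
/-- **The good extension lies in the principal block.** -/
theorem sameBlock_ext : SameBlock M (fun _ : G => (1 : ℂ)) R₁.character := by
  intro g
  haveI := isPrime_of_isPModular hM
  have hk0 : (k : ℂ) ≠ 0 := by exact_mod_cast hk.ne'
  letI : Fintype (G ⧸ N) := Fintype.ofFinite _
  let K : Finset G := Cl (MonoidHom.id G) g
  have hcard : K.card = (Subgroup.centralizer ({g} : Set G)).index := by
    have := card_Cl_eq (MonoidHom.id G) g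
    rwa [Subgroup.comap_id] at this
  have h1 : centralChar (fun _ : G => (1 : ℂ)) g - centralChar R₁.character g =
      -(tauS R₁ K - (K.card : ℂ)) := by
    have h2 : tauS R₁ K = (K.card : ℂ) * (R₁.character g / k) := tauS_Cl R₁ g
    unfold centralChar
    rw [h2, hcard, char_one_eq_rep R₁]
    simp only [mul_one, div_one]
    ring
  rw [h1]
  apply memLocalIdeal_neg
  have h3 : tauS R₁ K - (K.card : ℂ) = ∑ c : G ⧸ N, (tauS R₁ (K.filter fun u : G => (u : G ⧸ N) = c) -
      ((K.filter fun u : G => (u : G ⧸ N) = c).card : ℂ)) := by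
    have h4 : ∀ S : Finset G, tauS R₁ S - (S.card : ℂ) = ∑ u ∈ S, (R₁.character u / k - 1) := by
      intro S
      unfold tauS
      rw [Finset.sum_sub_distrib, Finset.sum_div]
      simp
    rw [h4]
    simp_rw [h4]
    exact (Finset.sum_fiberwise K (fun u : G => (u : G ⧸ N)) _).symm
  rw [h3]
  refine memLocalIdeal_sum _ _ fun c _ => ?_
  -- a representative in `W`
  obtain ⟨g₀, rfl⟩ := QuotientGroup.mk_surjective c
  obtain ⟨n, hn, w, hw, rfl⟩ := hNW g₀
  have hc : ((n * w : G) : G ⧸ N) = (w : G ⧸ N) := by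
    rw [QuotientGroup.mk_mul, (QuotientGroup.eq_one_iff n).mpr hn, one_mul]
  refine congr_fiber hM hk hρ hθ hP₀ hWP hR₁ hW ?_ hw ?_
  · intro m u hu
    rw [Finset.mem_filter] at hu ⊢
    constructor
    · have h5 := stable_Cl (MonoidHom.id G) g (m : G) u hu.1
      exact h5
    · rw [← hu.2]
      simp only [Subgroup.subtype_apply]
      rw [QuotientGroup.mk_mul, QuotientGroup.mk_mul, QuotientGroup.mk_inv,
        (QuotientGroup.eq_one_iff (m : G)).mpr m.2]
      simp
  · intro u hu
    rw [(Finset.mem_filter.mp hu).2, hc]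

include hM hk hρ hNW hR₁ hW in
/-- **The key uniqueness.** -/
theorem eq_of_good_ext {χ : G → ℂ} (hχ : IsIrrCharacter G χ)
    (hχB : SameBlock M (fun _ : G => (1 : ℂ)) χ)
    (hc : classInner (fun n : N => χ n) ρ.character ≠ 0)
    (hidx : ¬ p ∣ N.index) (hCw : ∀ w ∈ W, ¬ p ∣ (Subgroup.centralizer ({w} : Set G)).index) :
    χ = R₁.character := by
  haveI := isPrime_of_isPModular hM
  have hk0 : (k : ℂ) ≠ 0 := by exact_mod_cast hk.ne'
  have hθc : IsCharacter G R₁.character := isCharacter_of_rep' R₁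
  have hres : (fun n : N => R₁.character n) = ρ.character := by
    funext n
    show LinearMap.trace ℂ _ (R₁ n) = LinearMap.trace ℂ _ (ρ n)
    rw [hR₁]
  have hθN : IsIrrCharacter N (fun n : N => R₁.character n) := by
    rw [hres]
    exact ⟨k, ρ, hρ, rfl⟩
  have h0 : classInner (fun n : N => χ n) (fun n : N => R₁.character n) ≠ 0 := by
    rw [hres]
    exact hc
  have hmul := eq_cosetAvg_mul N hθc hθN hχ h0
  set β := cosetAvg N χ R₁.character with hβ
  have hβirr : IsIrrCharacter G β := isIrr_cosetAvg N hθc hθN hχ h0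
  have hβN : ∀ (m : N) (g : G), β (m * g) = β g := cosetAvg_mul_left N χ R₁.character
  have hβ1 : β 1 ≠ 0 := irr_one_ne_zero' hβirr
  have hχ1 : χ 1 ≠ 0 := irr_one_ne_zero' hχ
  -- congruence for `χ`
  have hχw : ∀ w ∈ W, MemLocalIdeal M (χ w / χ 1 - 1) := by
    intro w hw
    have h1 := hχB w
    unfold centralChar at h1
    set a := (Subgroup.centralizer ({w} : Set G)).index
    have hne : (a : ℂ) ≠ 0 := by
      intro h
      have h2 : a = 0 := by exact_mod_cast h
      have h3 := hCw w hw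
      rw [show (Subgroup.centralizer ({w} : Set G)).index = a from rfl, h2] at h3
      exact h3 (dvd_zero p)
    have h4 : χ w / χ 1 - 1 = -((a : ℂ)⁻¹ * ((a : ℂ) * 1 / 1 - (a : ℂ) * χ w / χ 1)) := by
      field_simp
      ring
    rw [h4]
    exact memLocalIdeal_neg (memLocalIdeal_mul_left (memLocalRing_inv_natCast hM (hCw w hw)) h1)
  -- congruence for `β`
  have hβw : ∀ w ∈ W, MemLocalIdeal M (β w / β 1 - 1) := by
    intro w hw
    have h1 := hχw w hw
    have h2 := hW w hw
    set t := R₁.character w / k with ht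
    have hl : MemLocalRing M t := by
      have := memLocalRing_add (memLocalRing_of_memLocalIdeal h2) (memLocalRing_one (M := M))
      simpa using this
    have hnot : ¬ MemLocalIdeal M t := by
      intro h3
      apply not_memLocalIdeal_one (M := M)
      have := memLocalIdeal_sub h3 h2
      simpa using this
    have e1 : χ w / χ 1 = β w / β 1 * t := by
      have e2 : χ w = β w * R₁.character w := by
        conv_lhs => rw [hmul]
        rfl
      have e3 : χ 1 = β 1 * k := by
        conv_lhs => rw [hmul]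
        show β 1 * R₁.character 1 = _
        rw [char_one_eq_rep R₁]
      rw [e2, e3, ht]
      field_simp
    rw [e1] at h1
    refine memLocalIdeal_cancel hl hnot ?_
    have e4 : (β w / β 1 - 1) * t = (β w / β 1 * t - 1) - (t - 1) := by ring
    rw [e4]
    exact memLocalIdeal_sub h1 h2
  -- the average over the quotient
  letI : Fintype (G ⧸ N) := Fintype.ofFinite _
  have hβone : β = fun _ => 1 := by
    by_contra hne
    have h1 := classInner_irr_ne hβirr isIrrCharacter_one hne
    unfold classInner at h1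
    have h2 : ∑ g : G, β g * conj (1 : ℂ) = 0 := by
      rcases mul_eq_zero.mp h1 with h3 | h3
      · exfalso
        have h4 : (Nat.card G : ℂ) ≠ 0 := by exact_mod_cast Nat.card_pos.ne'
        exact inv_ne_zero h4 h3
      · exact h3
    simp only [map_one, mul_one] at h2
    -- representatives
    have hrep : ∀ c : G ⧸ N, ∃ w ∈ W, (w : G ⧸ N) = c := by
      intro c
      obtain ⟨g₀, rfl⟩ := QuotientGroup.mk_surjective c
      obtain ⟨n, hn, w, hw, rfl⟩ := hNW g₀
      refine ⟨w, hw, ?_⟩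
      rw [QuotientGroup.mk_mul, (QuotientGroup.eq_one_iff n).mpr hn, one_mul]
    choose r hrW hrc using hrep
    have hfib : ∀ c : G ⧸ N, (Finset.univ.filter fun g : G => (g : G ⧸ N) = c).card = Fintype.card N := by
      intro c
      symm
      rw [← Finset.card_univ]
      refine Finset.card_bij (fun (n : N) _ => (n : G) * r c) ?_ ?_ ?_
      · intro n _
        rw [Finset.mem_filter]
        refine ⟨Finset.mem_univ _, ?_⟩
        rw [QuotientGroup.mk_mul, (QuotientGroup.eq_one_iff (n : G)).mpr n.2, one_mul, hrc]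
      · intro a _ b _ hab
        exact Subtype.ext (mul_right_cancel hab)
      · intro g hg
        rw [Finset.mem_filter] at hg
        have h3 : (g : G ⧸ N) = (r c : G ⧸ N) := by rw [hg.2, hrc]
        have h4 : g * (r c)⁻¹ ∈ N := by
          have h5 := QuotientGroup.eq.mp h3
          have h6 := hN.conj_mem _ h5 g
          have h7 : g * (g⁻¹ * r c) * g⁻¹ = r c * g⁻¹ := by group
          rw [h7] at h6
          have h8 := N.inv_mem h6
          simpa using h8
        exact ⟨⟨_, h4⟩, Finset.mem_univ _, by simp⟩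
    have h3 : ∑ g : G, β g = (Fintype.card N : ℂ) * ∑ c : G ⧸ N, β (r c) := by
      rw [← Finset.sum_fiberwise Finset.univ (fun g : G => (g : G ⧸ N)) β, Finset.mul_sum]
      refine Finset.sum_congr rfl fun c _ => ?_
      have h4 : ∀ g ∈ Finset.univ.filter fun g : G => (g : G ⧸ N) = c, β g = β (r c) := by
        intro g hg
        rw [Finset.mem_filter] at hg
        have h3 : (g : G ⧸ N) = (r c : G ⧸ N) := by rw [hg.2, hrc]
        have h5 := QuotientGroup.eq.mp h3
        have h6 := hN.conj_mem _ h5 g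
        have h7 : g * (g⁻¹ * r c) * g⁻¹ = r c * g⁻¹ := by group
        rw [h7] at h6
        have h8 := hβN ⟨_, h6⟩ g
        simp only at h8
        rw [inv_mul_cancel_right] at h8
        exact h8.symm
      rw [Finset.sum_congr rfl h4, Finset.sum_const, hfib, nsmul_eq_mul]
    rw [h3] at h2
    have h4 : ∑ c : G ⧸ N, β (r c) = 0 := by
      rcases mul_eq_zero.mp h2 with h5 | h5
      · exfalso
        have : (Fintype.card N : ℂ) ≠ 0 := by exact_mod_cast Fintype.card_pos.ne'
        exact this h5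
      · exact h5
    have h5 : MemLocalIdeal M (∑ c : G ⧸ N, (β (r c) / β 1 - 1)) :=
      memLocalIdeal_sum _ _ fun c _ => hβw _ (hrW c)
    rw [Finset.sum_sub_distrib, ← Finset.sum_div, h4] at h5
    simp only [zero_div, Finset.sum_const, Finset.card_univ, nsmul_eq_mul, mul_one, zero_sub] at h5
    have h6 := memLocalIdeal_neg h5
    rw [neg_neg, memLocalIdeal_natCast_iff hM] at h6
    apply hidx
    rw [Subgroup.index_eq_card]
    rwa [Nat.card_eq_fintype_card]
  rw [hmul, hβone]
  funext g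
  show (1 : ℂ) * R₁.character g = R₁.character g
  rw [one_mul]

end Main

section WExist

variable {G : Type u} [Group G] [Finite G] {p : ℕ} [hp : Fact p.Prime]

/-- A Sylow subgroup lies in every normal subgroup of index prime to `p`. -/
theorem sylow_le_of_not_dvd (N : Subgroup G) [hN : N.Normal] (hidx : ¬ p ∣ N.index) (P : Sylow p G) :
    (P : Subgroup G) ≤ N := by
  rw [← Subgroup.relIndex_eq_one]
  have h1 : N.relIndex (P : Subgroup G) ∣ N.index := Subgroup.relIndex_dvd_index_of_normal N _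
  have h2 : N.relIndex (P : Subgroup G) ∣ Nat.card (P : Subgroup G) := Subgroup.relIndex_dvd_card _ _
  obtain ⟨n, hn⟩ := IsPGroup.iff_card.mp P.isPGroup'
  rw [hn] at h2
  obtain ⟨j, -, hj⟩ := (Nat.dvd_prime_pow hp.out).mp h2
  rcases Nat.eq_zero_or_pos j with rfl | hjpos
  · rw [hj, pow_zero]
  · exfalso
    apply hidx
    rw [hj] at h1
    exact (dvd_pow_self p hjpos.ne').trans h1

/-- **The `p'`-supplement inside the centralizer.** -/
theorem exists_W (N : Subgroup G) [hN : N.Normal] (hidx : ¬ p ∣ N.index) (P : Sylow p G)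
    (hsup : N ⊔ Subgroup.centralizer ((P : Subgroup G) : Set G) = ⊤) :
    ∃ W : Subgroup G, (∀ w ∈ W, ∀ u ∈ (P : Subgroup G), w * u = u * w) ∧ ¬ p ∣ Nat.card W ∧
      ∀ g : G, ∃ n ∈ N, ∃ w ∈ W, g = n * w := by
  have hPN := sylow_le_of_not_dvd N hidx P
  let C : Subgroup G := Subgroup.centralizer ((P : Subgroup G) : Set G)
  have hCcomm : ∀ c ∈ C, ∀ u ∈ (P : Subgroup G), u * c = c * u := by
    intro c hc u hu
    exact (Subgroup.mem_centralizer_iff.mp hc) u hu
  let Z : Subgroup C := (P : Subgroup G).subgroupOf C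
  haveI hZn : Z.Normal := by
    constructor
    intro z hz c
    rw [Subgroup.mem_subgroupOf] at hz ⊢
    have h1 := hCcomm c c.2 z hz
    have h2 : ((c * z * c⁻¹ : C) : G) = z := by
      simp only [Subgroup.coe_mul, Subgroup.coe_inv]
      rw [← h1]
      group
    rw [h2]
    exact hz
  have hZp : IsPGroup p Z := P.isPGroup'.comap_of_injective C.subtype C.subtype_injective
  have hZi : ¬ p ∣ Z.index := by
    obtain ⟨Q⟩ : Nonempty (Sylow p C) := inferInstance
    have hQ : (Q : Subgroup C) ≤ Z := by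
      let Q' : Subgroup G := (Q : Subgroup C).map C.subtype
      have hQ'p : IsPGroup p Q' := Q.isPGroup'.map C.subtype
      have hQ'C : Q' ≤ C := by
        rintro _ ⟨c, -, rfl⟩
        exact c.2
      have hQ'N : Q' ≤ Subgroup.normalizer ((P : Subgroup G) : Set G) := by
        refine hQ'C.trans ?_
        exact Subgroup.centralizer_le_normalizer _
      have h1 := P.is_maximal' (hQ'p.to_sup_of_normal_right' P.isPGroup' hQ'N) le_sup_right
      have h2 : Q' ≤ (P : Subgroup G) := by
        rw [← h1]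
        exact le_sup_left
      intro c hc
      rw [Subgroup.mem_subgroupOf]
      exact h2 ⟨c, hc, rfl⟩
    exact fun h => Q.not_dvd_index (h.trans (Subgroup.index_dvd_of_le hQ))
  have hcop : Nat.Coprime (Nat.card Z) Z.index := by
    obtain ⟨n, hn⟩ := IsPGroup.iff_card.mp hZp
    rw [hn]
    exact Nat.Coprime.pow_left n ((Nat.Prime.coprime_iff_not_dvd hp.out).mpr hZi)
  obtain ⟨W₀, hW₀⟩ := Subgroup.exists_right_complement'_of_coprime hcop
  refine ⟨W₀.map C.subtype, ?_, ?_, ?_⟩
  · rintro _ ⟨c, -, rfl⟩ u hu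
    exact (hCcomm c c.2 u hu).symm
  · rw [Nat.card_congr (W₀.equivMapOfInjective _ C.subtype_injective).toEquiv.symm,
      ← hW₀.symm.index_eq_card]
    exact hZi
  · intro g
    have hg : g ∈ ((N ⊔ C : Subgroup G) : Set G) := by
      rw [hsup]
      trivial
    rw [Subgroup.normal_mul N C] at hg
    obtain ⟨n, hn, c, hc, rfl⟩ := hg
    obtain ⟨⟨a, b⟩, hab, -⟩ := hW₀.existsUnique ⟨c, hc⟩
    have hab' : ((a : C) : G) * ((b : C) : G) = c := congrArg Subtype.val hab
    refine ⟨n * ((a : C) : G), N.mul_mem hn (hPN a.2), ((b : C) : G), ⟨b, b.2, rfl⟩, ?_⟩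
    rw [mul_assoc, hab']

end WExist

/-- Let N be a normal subgroup of the finite group G of index prime to p, P a Sylow p-subgroup of G with G = N·C_G(P), and M a maximal ideal of the algebraic integers containing p. Then restriction to N is a bijection from the principal p-block of G onto the principal p-block of N: every member of the principal block of G restricts to a member of the principal block of N, and every member of the principal block of N is the restriction of exactly one member of the principal block of G. -/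
theorem result {G : Type*} [Group G] [Finite G] (p : ℕ) [Fact p.Prime] (M : Ideal Cfsg.AlgInt) (hM : Cfsg.IsPModular p M) (N : Subgroup G) [N.Normal] (hidx : ¬ p ∣ N.index) (P : Sylow p G) (hsup : N ⊔ Subgroup.centralizer ((P : Subgroup G) : Set G) = ⊤) : (∀ χ ∈ Cfsg.principalBlock M G, ∃ θ ∈ Cfsg.principalBlock M ↥N, ∀ n : N, (χ : G → ℂ) n = (θ : N → ℂ) n) ∧ ∀ θ ∈ Cfsg.principalBlock M ↥N, ∃! χ : Cfsg.IrrCharacter G, χ ∈ Cfsg.principalBlock M G ∧ ∀ n : N, (χ : G → ℂ) n = (θ : N → ℂ) n := by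
  letI : Fintype G := Fintype.ofFinite G
  letI : Fintype N := Fintype.ofFinite N
  haveI := isPrime_of_isPModular hM
  obtain ⟨W, hWP, hWp, hNW⟩ := exists_W N hidx P hsup
  have hPN := sylow_le_of_not_dvd N hidx P
  let P₀ : Subgroup N := (P : Subgroup G).subgroupOf N
  have hP₀ : ¬ p ∣ P₀.index := by
    have h1 : P₀.index ∣ (P : Subgroup G).index := by
      have h2 := Subgroup.relIndex_mul_index hPN
      exact Dvd.intro _ h2
    exact fun h => P.not_dvd_index (h.trans h1)
  have hWP₀ : ∀ w ∈ W, ∀ u ∈ P₀, w * (u : G) = u * w := fun w hw u hu => hWP w hw u hu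
  have hCw : ∀ w ∈ W, ¬ p ∣ (Subgroup.centralizer ({w} : Set G)).index := by
    intro w hw
    have h1 : (P : Subgroup G) ≤ Subgroup.centralizer ({w} : Set G) := by
      intro u hu
      rw [Subgroup.mem_centralizer_singleton_iff]
      exact (hWP w hw u hu).symm
    exact fun h => P.not_dvd_index (h.trans (Subgroup.index_dvd_of_le h1))
  -- the data attached to a member of the principal block of `N`
  have hext : ∀ θ : IrrCharacter N, θ ∈ principalBlock M N → ∃ χh : IrrCharacter G,
      χh ∈ principalBlock M G ∧ (∀ n : N, (χh : G → ℂ) n = (θ : N → ℂ) n) ∧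
      ∀ χ : IrrCharacter G, χ ∈ principalBlock M G →
        classInner (fun n : N => (χ : G → ℂ) n) (θ : N → ℂ) ≠ 0 → χ = χh := by
    rintro ⟨_, k, ρ, hρ, rfl⟩ hθ
    have hk : 0 < k := by
      have hV : Nontrivial (Fin k → ℂ) := ((isIrreducible_iff ρ).mp hρ).1
      rcases Nat.eq_zero_or_pos k with h0 | h0
      · subst h0
        exact absurd (Subsingleton.elim _ _) (exists_pair_ne (Fin 0 → ℂ)).choose_spec.choose_spec
      · exact h0
    obtain ⟨R₁, hR₁, hW⟩ := exists_extension hM hk hρ hθ hP₀ hWP₀ hWp hNW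
    have hirr : R₁.IsIrreducible := isIrreducible_of_restrict N ρ R₁ hρ hR₁
    refine ⟨⟨R₁.character, ⟨k, R₁, hirr, rfl⟩⟩, ?_, ?_, ?_⟩
    · exact sameBlock_ext hM hk hρ hθ hP₀ hWP₀ hNW hR₁ hW
    · intro n
      show LinearMap.trace ℂ _ (R₁ n) = LinearMap.trace ℂ _ (ρ n)
      rw [hR₁]
    · intro χ hχ hc
      apply Subtype.ext
      exact eq_of_good_ext hM hk hρ hNW hR₁ hW χ.2 hχ hc hidx hCw
  refine ⟨?_, ?_⟩
  · intro χ hχ
    obtain ⟨ψ, hψ⟩ := exists_constituent (N := N) χ
    have hψB := Cfsg.Agent.S4708.mem_principal_of_constituent χ hχ ψ hψ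
    refine ⟨ψ, hψB, ?_⟩
    obtain ⟨χh, -, hres, huniq⟩ := hext ψ hψB
    rw [huniq χ hχ hψ]
    exact hres
  · intro θ hθ
    obtain ⟨χh, hB, hres, huniq⟩ := hext θ hθ
    refine ⟨χh, ⟨hB, hres⟩, ?_⟩
    rintro χ ⟨hχ, hχres⟩
    apply huniq χ hχ
    have h1 : (fun n : N => (χ : G → ℂ) n) = (θ : N → ℂ) := funext hχres
    rw [h1, classInner_irr_self θ.2]
    exact one_ne_zero

end Cfsg.Agent.S4551
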