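import Mathlib
import Cfsg.Statements.S4573
import Cfsg.Agent.Lib.CharBasic
import Cfsg.Agent.Lib.CharInd
import Cfsg.Agent.Lib.CharKernel
import Cfsg.Agent.Lib.CharInduction
import Cfsg.Agent.Lib.CosetAvg
import Cfsg.Agent.Lib.CharAvg
import Cfsg.Agent.Lib.LinearExt
import Cfsg.Agent.Lib.QuatBS
import Cfsg.Agent.S4468

/-!
# Dade: every finite solvable group embeds in an M-group

Wreath products of an M-group with a group without proper nontrivial subgroups are M-groups, and a
solvable group embeds in an iterated such wreath product.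
-/

set_option autoImplicit false
set_option linter.unusedSectionVars false

open Cfsg
open scoped ComplexConjugate RegularWreathProduct commutatorElement

namespace Cfsg.Agent.S4573

open Cfsg.Agent.Lib.CharBasic Cfsg.Agent.Lib.CharInd Cfsg.Agent.Lib.CharKernel
  Cfsg.Agent.Lib.CharInduction

universe u

/-! ### Characters of powers -/

section Pi

variable {Q : Type u} [Fintype Q] [DecidableEq Q] {M : Type u} [Group M] [Fintype M]

/-- The product of functions on the coordinates. -/
def prodFun (χ : Q → M → ℂ) : (Q → M) → ℂ := fun f => ∏ q, χ q (f q)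

theorem classInner_prodFun (χ χ' : Q → M → ℂ) :
    classInner (prodFun χ) (prodFun χ') = ∏ q, classInner (χ q) (χ' q) := by
  unfold classInner prodFun
  rw [Finset.prod_mul_distrib]
  congr 1
  · rw [Nat.card_pi]
    simp
  · rw [Finset.prod_univ_sum]
    simp only [Fintype.piFinset_univ]
    refine Finset.sum_congr rfl fun f _ => ?_
    rw [map_prod, Finset.prod_mul_distrib]

theorem isCharacter_prodFun {χ : Q → M → ℂ} (h : ∀ q, IsCharacter M (χ q)) :
    IsCharacter (Q → M) (prodFun χ) := by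
  classical
  have key : ∀ s : Finset Q, IsCharacter (Q → M) (fun f => ∏ q ∈ s, χ q (f q)) := by
    intro s
    induction s using Finset.induction_on with
    | empty => simpa using isCharacter_one
    | insert a s ha ih =>
      have h1 := isCharacter_mul (isCharacter_comp (Pi.evalMonoidHom (fun _ : Q => M) a) (h a)) ih
      convert h1 using 1
      funext f
      simp [Finset.prod_insert ha]
  exact key Finset.univ

theorem isIrr_prodFun {χ : Q → M → ℂ} (h : ∀ q, IsIrrCharacter M (χ q)) :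
    IsIrrCharacter (Q → M) (prodFun χ) := by
  apply isIrrCharacter_of_norm_one (isCharacter_prodFun fun q => IsIrrCharacter.isCharacter (h q))
  rw [classInner_prodFun]
  simp [classInner_irr_self (h _)]

theorem prodFun_injective {χ χ' : Q → M → ℂ} (h : ∀ q, IsIrrCharacter M (χ q))
    (h' : ∀ q, IsIrrCharacter M (χ' q)) (he : prodFun χ = prodFun χ') : χ = χ' := by
  have h1 := classInner_irr_self (isIrr_prodFun h)
  have h2 : classInner (prodFun χ) (prodFun χ') = 1 := by
    rw [← he]; exact h1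
  rw [classInner_prodFun] at h2
  funext q
  by_contra hne
  have h3 := classInner_irr_ne (h q) (h' q) hne
  rw [Finset.prod_eq_zero (Finset.mem_univ q) h3] at h2
  exact zero_ne_one h2

theorem charDegree_prodFun {χ : Q → M → ℂ} (h : ∀ q, IsCharacter M (χ q)) :
    charDegree (prodFun χ) = ∏ q, charDegree (χ q) := by
  have h1 := one_eq_charDegree (isCharacter_prodFun h)
  have h2 : prodFun χ 1 = ∏ q, χ q 1 := rfl
  rw [h2, Finset.prod_congr rfl fun q _ => one_eq_charDegree (h q)] at h1
  have h3 : ((∏ q, charDegree (χ q) : ℕ) : ℂ) = ((charDegree (prodFun χ) : ℕ) : ℂ) := by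
    push_cast
    exact h1
  exact (Nat.cast_injective h3).symm

/-- Every irreducible character of a power is a product. -/
theorem exists_prodFun {θ : (Q → M) → ℂ} (hθ : IsIrrCharacter (Q → M) θ) :
    ∃ χ : Q → M → ℂ, (∀ q, IsIrrCharacter M (χ q)) ∧ θ = prodFun χ := by
  classical
  by_contra hno
  push Not at hno
  let f : (Q → IrrCharacter M) → IrrCharacter (Q → M) := fun x =>
    ⟨prodFun fun q => (x q).1, isIrr_prodFun fun q => (x q).2⟩
  have hf : Function.Injective f := by
    intro a b h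
    have h1 := congrArg Subtype.val h
    have h2 := prodFun_injective (fun q => (a q).2) (fun q => (b q).2) h1
    funext q
    exact Subtype.ext (congrFun h2 q)
  have hsumM := sum_charDegree_sq (G := M)
  have hsum := sum_charDegree_sq (G := Q → M)
  let x0 : IrrCharacter (Q → M) := ⟨θ, hθ⟩
  have hnot : x0 ∉ Finset.univ.image f := by
    intro h
    obtain ⟨y, -, hy⟩ := Finset.mem_image.mp h
    exact hno (fun q => (y q).1) (fun q => (y q).2) (congrArg Subtype.val hy).symm
  have himg : ∑ y ∈ Finset.univ.image f, charDegree (y : (Q → M) → ℂ) ^ 2 = Nat.card (Q → M) := by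
    rw [Finset.sum_image (fun a _ b _ h => hf h), Nat.card_pi]
    have h1 : ∏ _q : Q, Nat.card M = ∏ _q : Q, ∑ χ : IrrCharacter M, charDegree (χ : M → ℂ) ^ 2 := by
      rw [hsumM]
    rw [h1, Finset.prod_univ_sum, Fintype.piFinset_univ]
    refine Finset.sum_congr rfl fun a _ => ?_
    show charDegree (prodFun fun q => (a q).1) ^ 2 = _
    rw [charDegree_prodFun fun q => IsIrrCharacter.isCharacter (a q).2, Finset.prod_pow]
  have hle : ∑ y ∈ insert x0 (Finset.univ.image f), charDegree (y : (Q → M) → ℂ) ^ 2 ≤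
      ∑ y : IrrCharacter (Q → M), charDegree (y : (Q → M) → ℂ) ^ 2 :=
    Finset.sum_le_sum_of_subset (Finset.subset_univ _)
  rw [Finset.sum_insert hnot, himg, hsum] at hle
  have h0 : 0 < charDegree (x0 : (Q → M) → ℂ) := charDegree_pos hθ
  have h1 : 0 < charDegree (x0 : (Q → M) → ℂ) ^ 2 := by positivity
  omega

end Pi

/-! ### Wreath products -/

section Wreath

variable {M Q : Type u} [Group M] [Group Q] [Fintype M] [Fintype Q] [DecidableEq Q]

/-- The base group of the wreath product. -/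
def base : (Q → M) →* M ≀ᵣ Q where
  toFun f := ⟨f, 1⟩
  map_one' := rfl
  map_mul' f g := by
    ext <;> simp

theorem base_injective : Function.Injective (base : (Q → M) →* M ≀ᵣ Q) := by
  intro f g h
  exact congrArg RegularWreathProduct.left h

theorem base_left_of_right {w : M ≀ᵣ Q} (h : w.right = 1) : base w.left = w := by
  ext <;> simp [base, h]

theorem conj_base (b n : Q → M) (σ : Q) :
    (⟨b, σ⟩ : M ≀ᵣ Q)⁻¹ * base n * ⟨b, σ⟩ =
      base fun y => (b (σ * y))⁻¹ * n (σ * y) * b (σ * y) := by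
  ext y
  · simp [base, RegularWreathProduct.mul_left, RegularWreathProduct.inv_left]
  · simp [base]

theorem conj_right (x w : M ≀ᵣ Q) : (x⁻¹ * w * x).right = x.right⁻¹ * w.right * x.right := by
  simp

variable [Fintype (M ≀ᵣ Q)]

theorem card_wreath_complex :
    (Nat.card (M ≀ᵣ Q) : ℂ) = (Nat.card (Q → M) : ℂ) * Nat.card Q := by
  rw [RegularWreathProduct.card, Nat.card_pi]
  simp

theorem sum_wreath (F : M ≀ᵣ Q → ℂ) :
    ∑ x, F x = ∑ σ : Q, ∑ b : Q → M, F ⟨b, σ⟩ := by
  rw [← Fintype.sum_prod_type_right']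
  exact Fintype.sum_equiv (RegularWreathProduct.equivProd M Q) _ _ fun x => rfl

/-- Summing a product over all functions, with the variable shifted. -/
theorem sum_shift (σ : Q) (G : Q → M → ℂ) :
    ∑ b : Q → M, ∏ y, G y (b (σ * y)) = ∏ y, ∑ m, G y m := by
  rw [Finset.prod_univ_sum, Fintype.piFinset_univ]
  refine Fintype.sum_equiv ((Equiv.mulLeft σ⁻¹).arrowCongr (Equiv.refl M)) _ _ fun b => ?_
  refine Finset.prod_congr rfl fun y _ => ?_
  simp [Equiv.arrowCongr]

/-- The function induced from the base group. -/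
noncomputable def psi (c : Q → M → ℂ) : M ≀ᵣ Q → ℂ := fun w =>
  if w.right = 1 then ∑ σ : Q, ∏ y, c y (w.left (σ * y)) else 0

theorem psi_base (c : Q → M → ℂ) (f : Q → M) :
    psi c (base f) = ∑ σ : Q, ∏ y, c y (f (σ * y)) := by
  simp [psi, base]

theorem psi_of_ne (c : Q → M → ℂ) {w : M ≀ᵣ Q} (h : w.right ≠ 1) : psi c w = 0 := by
  simp [psi, h]

theorem conj_inl (χ : M ≀ᵣ Q → ℂ) (hχ : IsClassFunction (M ≀ᵣ Q) χ) (σ : Q) (b : Q → M) :
    χ (base fun y => b (σ * y)) = χ (base b) := by
  have h1 : χ ((⟨1, σ⟩ : M ≀ᵣ Q)⁻¹ * base b * (⟨1, σ⟩ : M ≀ᵣ Q)⁻¹⁻¹) = χ (base b) :=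
    hχ (base b) (⟨1, σ⟩ : M ≀ᵣ Q)⁻¹
  have h2 := conj_base (1 : Q → M) b σ
  simp only [Pi.one_apply, inv_one, one_mul, mul_one] at h2
  rw [inv_inv, h2] at h1
  exact h1

/-- The Frobenius reciprocity formula for `psi`. -/
theorem classInner_psi (c : Q → M → ℂ) (χ : M ≀ᵣ Q → ℂ) (hχ : IsClassFunction (M ≀ᵣ Q) χ) :
    classInner (psi c) χ = classInner (prodFun c) (χ ∘ base) := by
  unfold classInner
  rw [sum_wreath, Finset.sum_eq_single (1 : Q)]
  · have h1 : ∀ b : Q → M, psi c (⟨b, 1⟩ : M ≀ᵣ Q) * conj (χ ⟨b, 1⟩) =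
        ∑ σ : Q, (∏ y, c y (b (σ * y))) * conj (χ (base fun y => b (σ * y))) := by
      intro b
      have h2 := psi_base c b
      have h3 : (⟨b, 1⟩ : M ≀ᵣ Q) = base b := rfl
      rw [h3, h2, Finset.sum_mul]
      refine Finset.sum_congr rfl fun σ _ => ?_
      rw [conj_inl χ hχ]
    simp only [h1]
    rw [Finset.sum_comm]
    have h4 : ∀ σ : Q, ∑ b : Q → M, (∏ y, c y (b (σ * y))) *
        conj (χ (base fun y => b (σ * y))) =
        ∑ b : Q → M, (∏ y, c y (b y)) * conj (χ (base b)) := by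
      intro σ
      refine Fintype.sum_equiv ((Equiv.mulLeft σ⁻¹).arrowCongr (Equiv.refl M)) _ _ fun b => ?_
      have hb : ((Equiv.mulLeft σ⁻¹).arrowCongr (Equiv.refl M)) b = fun y => b (σ * y) := by
        funext y
        simp [Equiv.arrowCongr]
      rw [hb]
    simp only [h4, Finset.sum_const, Finset.card_univ, nsmul_eq_mul]
    rw [card_wreath_complex, Fintype.card_eq_nat_card]
    have hQ : (Nat.card Q : ℂ) ≠ 0 := by exact_mod_cast Nat.card_pos.ne'
    unfold prodFun
    simp only [Function.comp]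
    field_simp
  · intro σ _ hσ
    refine Finset.sum_eq_zero fun b _ => ?_
    rw [psi_of_ne c (show (⟨b, σ⟩ : M ≀ᵣ Q).right ≠ 1 from hσ), zero_mul]
  · intro h
    exact absurd (Finset.mem_univ _) h

/-- The stabilizer of a family. -/
def famStab (c : Q → M → ℂ) : Subgroup Q where
  carrier := {σ | ∀ y, c (σ * y) = c y}
  mul_mem' := by
    intro a b ha hb y
    rw [mul_assoc, ha, hb]
  one_mem' := by
    intro y
    rw [one_mul]
  inv_mem' := by
    intro a ha y
    have := ha (a⁻¹ * y)
    rw [mul_inv_cancel_left] at this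
    exact this.symm

theorem mem_famStab {c : Q → M → ℂ} {σ : Q} : σ ∈ famStab c ↔ ∀ y, c (σ * y) = c y := Iff.rfl

/-- Norm one if the family has trivial stabilizer. -/
theorem classInner_psi_self {c : Q → M → ℂ} (hc : ∀ q, IsIrrCharacter M (c q))
    (hcl : IsClassFunction (M ≀ᵣ Q) (psi c)) (hS : famStab c = ⊥) :
    classInner (psi c) (psi c) = 1 := by
  classical
  rw [classInner_psi c _ hcl]
  have h1 : psi c ∘ base = ∑ σ : Q, prodFun (fun y => c (σ * y)) := by
    funext f
    rw [Function.comp, psi_base, Finset.sum_apply]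
    rw [← Equiv.sum_comp (Equiv.inv Q)]
    refine Finset.sum_congr rfl fun σ _ => ?_
    unfold prodFun
    simp only [Equiv.inv_apply]
    exact Fintype.prod_equiv (Equiv.mulLeft σ⁻¹) _ _ fun y => by simp
  rw [h1, classInner_sum_right, Finset.sum_eq_single (1 : Q)]
  · rw [classInner_prodFun]
    simp [classInner_irr_self (hc _)]
  · intro σ _ hσ
    rw [classInner_prodFun]
    have hne : σ ∉ famStab c := by
      rw [hS]
      simpa using hσ
    rw [mem_famStab] at hne
    push Not at hne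
    obtain ⟨y, hy⟩ := hne
    apply Finset.prod_eq_zero (Finset.mem_univ y)
    exact classInner_irr_ne (hc y) (hc _) (Ne.symm hy)
  · intro h
    exact absurd (Finset.mem_univ _) h

end Wreath

section Induced

variable {M Q : Type u} [Group M] [Group Q] [Fintype M] [Fintype Q] [DecidableEq Q]
  [Fintype (M ≀ᵣ Q)]

/-- A product of subgroups in the base group. -/
def sub1 (A : Q → Subgroup M) : Subgroup (M ≀ᵣ Q) where
  carrier := {w | w.right = 1 ∧ ∀ q, w.left q ∈ A q}
  mul_mem' := by
    rintro a b ⟨ha1, ha2⟩ ⟨hb1, hb2⟩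
    refine ⟨by simp [ha1, hb1], fun q => ?_⟩
    have h1 : (a * b).left q = a.left q * b.left (a.right⁻¹ * q) := rfl
    rw [h1, ha1, inv_one, one_mul]
    exact mul_mem (ha2 q) (hb2 q)
  one_mem' := ⟨rfl, fun q => one_mem _⟩
  inv_mem' := by
    rintro a ⟨ha1, ha2⟩
    refine ⟨by simp [ha1], fun q => ?_⟩
    have h1 : (a⁻¹).left q = (a.left (a.right * q))⁻¹ := rfl
    rw [h1, ha1, one_mul]
    exact inv_mem (ha2 q)

/-- The product of linear characters. -/
def mu1 (A : Q → Subgroup M) (μ : ∀ q, A q →* ℂˣ) : sub1 A →* ℂˣ where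
  toFun w := ∏ q, μ q ⟨w.1.left q, w.2.2 q⟩
  map_one' := by
    refine Finset.prod_eq_one fun q _ => ?_
    exact map_one (μ q)
  map_mul' a b := by
    rw [← Finset.prod_mul_distrib]
    refine Finset.prod_congr rfl fun q _ => ?_
    rw [← map_mul]
    congr 1
    apply Subtype.ext
    show a.1.left q * b.1.left (a.1.right⁻¹ * q) = _
    have h1 : a.1.right⁻¹ * q = q := by
      rw [a.2.1, inv_one, one_mul]
    rw [h1]
    rfl

theorem ext_sub1 (A : Q → Subgroup M) (μ : ∀ q, A q →* ℂˣ) (f : Q → M) :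
    extendByZero (sub1 A) (fun h => ((mu1 A μ h : ℂˣ) : ℂ)) (base f) =
      ∏ y, extendByZero (A y) (fun h => ((μ y h : ℂˣ) : ℂ)) (f y) := by
  by_cases h : ∀ y, f y ∈ A y
  · have hmem : base f ∈ sub1 A := ⟨rfl, h⟩
    rw [extendByZero_of_mem _ _ hmem]
    rw [Finset.prod_congr rfl fun y _ => extendByZero_of_mem _ _ (h y)]
    show ((∏ q, μ q ⟨f q, _⟩ : ℂˣ) : ℂ) = _
    rw [Units.coe_prod]
  · push Not at h
    obtain ⟨y, hy⟩ := h
    have hmem : base f ∉ sub1 A := fun hm => hy (hm.2 y)
    rw [extendByZero_of_not_mem _ _ hmem]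
    symm
    apply Finset.prod_eq_zero (Finset.mem_univ y)
    exact extendByZero_of_not_mem _ _ hy

theorem card_sub1 (A : Q → Subgroup M) : Nat.card (sub1 A) = ∏ y, Nat.card (A y) := by
  rw [← Nat.card_pi]
  refine Nat.card_congr
    { toFun := fun w q => ⟨w.1.left q, w.2.2 q⟩
      invFun := fun f => ⟨⟨fun q => f q, 1⟩, rfl, fun q => (f q).2⟩
      left_inv := ?_
      right_inv := ?_ }
  · rintro ⟨⟨l, r⟩, h1, h2⟩
    apply Subtype.ext
    ext <;> simp at h1 ⊢ <;> simp [h1]
  · intro f
    rfl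

/-- The function `psi` of a monomial family is monomial. -/
theorem indFun_sub1 (A : Q → Subgroup M) (μ : ∀ q, A q →* ℂˣ) :
    indFun (sub1 A) (fun h => ((mu1 A μ h : ℂˣ) : ℂ)) =
      psi fun q => indFun (A q) (fun h => ((μ q h : ℂˣ) : ℂ)) := by
  funext w
  rw [indFun_apply]
  by_cases hw : w.right = 1
  · have hwb := base_left_of_right hw
    rw [← hwb, psi_base, sum_wreath]
    set f := w.left with hf
    have h1 : ∀ (σ : Q), ∑ b : Q → M, extendByZero (sub1 A) (fun h => ((mu1 A μ h : ℂˣ) : ℂ))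
        ((⟨b, σ⟩ : M ≀ᵣ Q)⁻¹ * base f * ⟨b, σ⟩) =
        ∏ y, ((Nat.card (A y) : ℂ) * indFun (A y) (fun h => ((μ y h : ℂˣ) : ℂ)) (f (σ * y))) := by
      intro σ
      have h2 : ∀ b : Q → M, extendByZero (sub1 A) (fun h => ((mu1 A μ h : ℂˣ) : ℂ))
          ((⟨b, σ⟩ : M ≀ᵣ Q)⁻¹ * base f * ⟨b, σ⟩) =
          ∏ y, (fun y m => extendByZero (A y) (fun h => ((μ y h : ℂˣ) : ℂ))
            (m⁻¹ * f (σ * y) * m)) y (b (σ * y)) := by
        intro b
        rw [conj_base, ext_sub1]
      refine (Finset.sum_congr rfl fun b _ => h2 b).trans ((sum_shift σ (fun y m =>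
        extendByZero (A y) (fun h => ((μ y h : ℂˣ) : ℂ)) (m⁻¹ * f (σ * y) * m))).trans ?_)
      refine Finset.prod_congr rfl fun y _ => ?_
      rw [indFun_apply, mul_inv_cancel_left₀ (natCard_subgroup_ne_zero (A y))]
    simp only [h1]
    rw [card_sub1]
    push_cast
    rw [Finset.mul_sum]
    refine Finset.sum_congr rfl fun σ _ => ?_
    have hne : ∀ y, (Nat.card (A y) : ℂ) ≠ 0 := fun y => natCard_subgroup_ne_zero (A y)
    rw [Finset.prod_mul_distrib, ← mul_assoc, inv_mul_cancel₀
      (Finset.prod_ne_zero_iff.mpr fun y _ => hne y), one_mul]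
  · rw [psi_of_ne _ hw]
    apply mul_eq_zero_of_right
    refine Finset.sum_eq_zero fun x _ => ?_
    apply extendByZero_of_not_mem
    intro hmem
    apply hw
    have h1 : (x⁻¹ * w * x).right = 1 := hmem.1
    rw [conj_right] at h1
    have h2 : w.right = x.right * (x.right⁻¹ * w.right * x.right) * x.right⁻¹ := by group
    rw [h2, h1]
    simp

/-- The subgroup `A₀ ≀ Q`. -/
def sub2 (A₀ : Subgroup M) : Subgroup (M ≀ᵣ Q) where
  carrier := {w | ∀ q, w.left q ∈ A₀}
  mul_mem' := by
    intro a b ha hb q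
    exact mul_mem (ha q) (hb _)
  one_mem' := fun q => one_mem _
  inv_mem' := by
    intro a ha q
    exact inv_mem (ha _)

/-- The linear character of `A₀ ≀ Q`. -/
def mu2 (A₀ : Subgroup M) (μ₀ : A₀ →* ℂˣ) : sub2 (Q := Q) A₀ →* ℂˣ where
  toFun w := ∏ q, μ₀ ⟨w.1.left q, w.2 q⟩
  map_one' := by
    refine Finset.prod_eq_one fun q _ => ?_
    exact map_one μ₀
  map_mul' a b := by
    have h1 : ∀ q, μ₀ ⟨(a * b).1.left q, (a * b).2 q⟩ =
        μ₀ ⟨a.1.left q, a.2 q⟩ * μ₀ ⟨b.1.left (a.1.right⁻¹ * q), b.2 _⟩ := by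
      intro q
      rw [← map_mul]
      rfl
    simp only [h1]
    rw [Finset.prod_mul_distrib]
    congr 1
    exact Fintype.prod_equiv (Equiv.mulLeft a.1.right⁻¹) _ _ fun q => rfl

theorem ext_sub2 (A₀ : Subgroup M) (μ₀ : A₀ →* ℂˣ) (f : Q → M) :
    extendByZero (sub2 A₀) (fun h => ((mu2 A₀ μ₀ h : ℂˣ) : ℂ)) (base f) =
      ∏ y, extendByZero A₀ (fun h => ((μ₀ h : ℂˣ) : ℂ)) (f y) := by
  by_cases h : ∀ y, f y ∈ A₀
  · have hmem : base f ∈ sub2 A₀ := h
    rw [extendByZero_of_mem _ _ hmem]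
    rw [Finset.prod_congr rfl fun y _ => extendByZero_of_mem _ _ (h y)]
    show ((∏ q, μ₀ ⟨f q, _⟩ : ℂˣ) : ℂ) = _
    rw [Units.coe_prod]
  · push Not at h
    obtain ⟨y, hy⟩ := h
    have hmem : base f ∉ sub2 A₀ := fun hm => hy (hm y)
    rw [extendByZero_of_not_mem _ _ hmem]
    symm
    apply Finset.prod_eq_zero (Finset.mem_univ y)
    exact extendByZero_of_not_mem _ _ hy

theorem card_sub2 (A₀ : Subgroup M) :
    Nat.card (sub2 (Q := Q) A₀) = Nat.card A₀ ^ Fintype.card Q * Nat.card Q := by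
  have h1 : Nat.card (sub2 (Q := Q) A₀) = Nat.card ((Q → A₀) × Q) := by
    refine Nat.card_congr
      { toFun := fun w => (fun q => ⟨w.1.left q, w.2 q⟩, w.1.right)
        invFun := fun f => ⟨⟨fun q => f.1 q, f.2⟩, fun q => (f.1 q).2⟩
        left_inv := fun w => rfl
        right_inv := fun f => rfl }
  rw [h1, Nat.card_prod, Nat.card_pi]
  simp

/-- The induced function from `A₀ ≀ Q` restricts to the tensor power. -/
theorem indFun_sub2_base (A₀ : Subgroup M) (μ₀ : A₀ →* ℂˣ) (f : Q → M) :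
    indFun (sub2 A₀) (fun h => ((mu2 A₀ μ₀ h : ℂˣ) : ℂ)) (base f) =
      prodFun (fun _ => indFun A₀ (fun h => ((μ₀ h : ℂˣ) : ℂ))) f := by
  rw [indFun_apply, sum_wreath]
  set c := indFun A₀ (fun h => ((μ₀ h : ℂˣ) : ℂ)) with hc
  have h1 : ∀ (σ : Q), ∑ b : Q → M, extendByZero (sub2 A₀) (fun h => ((mu2 A₀ μ₀ h : ℂˣ) : ℂ))
      ((⟨b, σ⟩ : M ≀ᵣ Q)⁻¹ * base f * ⟨b, σ⟩) =
      (Nat.card A₀ : ℂ) ^ Fintype.card Q * prodFun (fun _ => c) f := by
    intro σ
    have h2 : ∀ b : Q → M, extendByZero (sub2 A₀) (fun h => ((mu2 A₀ μ₀ h : ℂˣ) : ℂ))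
        ((⟨b, σ⟩ : M ≀ᵣ Q)⁻¹ * base f * ⟨b, σ⟩) =
        ∏ y, (fun y m => extendByZero A₀ (fun h => ((μ₀ h : ℂˣ) : ℂ))
          (m⁻¹ * f (σ * y) * m)) y (b (σ * y)) := by
      intro b
      rw [conj_base, ext_sub2]
    refine (Finset.sum_congr rfl fun b _ => h2 b).trans ((sum_shift σ (fun y m =>
      extendByZero A₀ (fun h => ((μ₀ h : ℂˣ) : ℂ)) (m⁻¹ * f (σ * y) * m))).trans ?_)
    have h3 : ∀ y, ∑ m : M, extendByZero A₀ (fun h => ((μ₀ h : ℂˣ) : ℂ)) (m⁻¹ * f (σ * y) * m) =
        (Nat.card A₀ : ℂ) * c (f (σ * y)) := by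
      intro y
      rw [hc, indFun_apply, mul_inv_cancel_left₀ (natCard_subgroup_ne_zero A₀)]
    simp only [h3]
    rw [Finset.prod_mul_distrib, Finset.prod_const, Finset.card_univ]
    congr 1
    exact Fintype.prod_equiv (Equiv.mulLeft σ) _ _ fun y => rfl
  simp only [h1]
  rw [Finset.sum_const, Finset.card_univ, nsmul_eq_mul, card_sub2]
  have hne := natCard_subgroup_ne_zero A₀
  have hQ : (Fintype.card Q : ℂ) ≠ 0 := by
    rw [← Nat.card_eq_fintype_card]
    exact_mod_cast Nat.card_pos.ne'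
  rw [Nat.card_eq_fintype_card (α := Q)]
  push_cast
  field_simp

/-- M-groups. -/
def IsMG (M : Type u) [Group M] [Fintype M] : Prop :=
  ∀ χ : M → ℂ, IsIrrCharacter M χ →
    ∃ (H : Subgroup M) (lam : H →* ℂˣ), χ = indFun H (fun h => ((lam h : ℂˣ) : ℂ))

/-- **The wreath product of an M-group with a group without proper subgroups is an M-group.** -/
theorem wreath_isMG (hM : IsMG M) (hQ : ∀ S : Subgroup Q, S = ⊥ ∨ S = ⊤)
    (hab : ∀ a b : Q, a * b = b * a) : IsMG (M ≀ᵣ Q) := by
  classical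
  intro χ hχ
  have hχc := IsIrrCharacter.isCharacter hχ
  have hχcl := isClassFunction_of_isCharacter hχc
  -- a constituent on the base
  have hres : IsCharacter (Q → M) (χ ∘ base) := isCharacter_comp base hχc
  obtain ⟨m, hm⟩ := exists_nat_decomp hres
  have hexy : ∃ y, m y ≠ 0 := by
    by_contra hcon
    push Not at hcon
    have h0 : (χ ∘ base) 1 = 0 := by
      rw [hm]
      simp [hcon]
    have h1 : χ 1 = 0 := by
      simpa using h0
    exact Cfsg.Agent.Lib.CharAvg.irr_one_ne_zero hχ h1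
  obtain ⟨y, hy⟩ := hexy
  obtain ⟨c, hc, hyc⟩ := exists_prodFun y.2
  have hin : classInner (prodFun c) (χ ∘ base) ≠ 0 := by
    have h1 : classInner (χ ∘ base) (y : (Q → M) → ℂ) = m y := by
      rw [hm]
      exact classInner_nat_decomp m y y.2
    intro h0
    apply hy
    have h2 := classInner_conj_symm (prodFun c) (χ ∘ base)
    rw [h0, map_zero, ← hyc, h1] at h2
    exact_mod_cast h2.symm
  choose A lam hAl using fun q => hM (c q) (hc q)
  rcases hQ (famStab c) with hS | hS
  · -- trivial stabilizer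
    have hpsi : psi c = indFun (sub1 A) (fun h => ((mu1 A lam h : ℂˣ) : ℂ)) := by
      rw [indFun_sub1]
      congr 1
      funext q
      exact hAl q
    have hpc : IsCharacter (M ≀ᵣ Q) (psi c) := by
      rw [hpsi]
      exact indFun_isCharacter _ (Cfsg.Agent.Lib.LinearExt.isCharacter_of_hom _)
    have hpcl := isClassFunction_of_isCharacter hpc
    have hirr := isIrrCharacter_of_norm_one hpc (classInner_psi_self hc hpcl hS)
    have hin2 : classInner (psi c) χ ≠ 0 := by
      rw [classInner_psi c χ hχcl]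
      exact hin
    have heq : psi c = χ := by
      by_contra hne
      exact hin2 (classInner_irr_ne hirr hχ hne)
    exact ⟨sub1 A, mu1 A lam, by rw [← heq]; exact hpsi⟩
  · -- constant family
    have hconst : ∀ q, c q = c 1 := by
      intro q
      have h1 : q ∈ famStab c := by rw [hS]; trivial
      have h2 := h1 1
      rwa [mul_one] at h2
    let ϑ : M ≀ᵣ Q → ℂ := indFun (sub2 (A 1)) (fun h => ((mu2 (A 1) (lam 1) h : ℂˣ) : ℂ))
    have hϑc : IsCharacter (M ≀ᵣ Q) ϑ :=
      indFun_isCharacter _ (Cfsg.Agent.Lib.LinearExt.isCharacter_of_hom _)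
    have hϑb : ∀ f, ϑ (base f) = prodFun c f := by
      intro f
      show indFun (sub2 (A 1)) (fun h => ((mu2 (A 1) (lam 1) h : ℂˣ) : ℂ)) (base f) = _
      rw [indFun_sub2_base, ← hAl 1]
      congr 1
      funext q
      exact (hconst q).symm
    -- Gallagher: the sum over the characters of `Q`
    have hsum : ∑ i : IrrCharacter Q, (i : Q → ℂ) 1 *
        classInner (fun w : M ≀ᵣ Q => ϑ w * (i : Q → ℂ) w.right) χ =
        classInner (prodFun c) (χ ∘ base) := by
      have h1 : ∀ i : IrrCharacter Q, (i : Q → ℂ) 1 *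
          classInner (fun w : M ≀ᵣ Q => ϑ w * (i : Q → ℂ) w.right) χ =
          (Nat.card (M ≀ᵣ Q) : ℂ)⁻¹ * ∑ w : M ≀ᵣ Q,
            ((i : Q → ℂ) 1 * (i : Q → ℂ) w.right) * (ϑ w * conj (χ w)) := by
        intro i
        unfold classInner
        rw [mul_left_comm, Finset.mul_sum]
        congr 1
        refine Finset.sum_congr rfl fun w _ => ?_
        ring
      simp only [h1]
      rw [← Finset.mul_sum, Finset.sum_comm]
      simp only [← Finset.sum_mul]
      have h2 : ∀ w : M ≀ᵣ Q, ∑ i : IrrCharacter Q, (i : Q → ℂ) 1 * (i : Q → ℂ) w.right =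
          if w.right = 1 then (Nat.card Q : ℂ) else 0 := fun w => by
        convert sum_irr_deg_mul w.right
      simp only [h2]
      rw [sum_wreath, Finset.sum_eq_single (1 : Q)]
      · have h3 : ∀ b : Q → M, ((if (⟨b, 1⟩ : M ≀ᵣ Q).right = 1 then (Nat.card Q : ℂ) else 0) *
            (ϑ ⟨b, 1⟩ * conj (χ ⟨b, 1⟩))) =
            (Nat.card Q : ℂ) * (prodFun c b * conj ((χ ∘ base) b)) := by
          intro b
          rw [if_pos rfl]
          have h4 : (⟨b, 1⟩ : M ≀ᵣ Q) = base b := rfl
          rw [h4, hϑb]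
          rfl
        rw [Finset.sum_congr rfl fun b _ => h3 b]
        rw [← Finset.mul_sum, ← mul_assoc, card_wreath_complex]
        unfold classInner
        congr 1
        have hQne : (Nat.card Q : ℂ) ≠ 0 := by exact_mod_cast Nat.card_pos.ne'
        field_simp
      · intro σ _ hσ
        refine Finset.sum_eq_zero fun b _ => ?_
        rw [if_neg (show (⟨b, σ⟩ : M ≀ᵣ Q).right ≠ 1 from hσ), zero_mul]
      · intro h
        exact absurd (Finset.mem_univ _) h
    have hexi : ∃ i : IrrCharacter Q,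
        classInner (fun w : M ≀ᵣ Q => ϑ w * (i : Q → ℂ) w.right) χ ≠ 0 := by
      by_contra hcon
      push Not at hcon
      apply hin
      rw [← hsum]
      exact Finset.sum_eq_zero fun i _ => by rw [hcon i, mul_zero]
    obtain ⟨i, hi⟩ := hexi
    -- `i` is linear
    have hcomm : commutator Q ≤ charKer (IsIrrCharacter.isCharacter i.2) := by
      rw [commutator_def, Subgroup.commutator_le]
      intro a _ b _
      have h1 : a * b * a⁻¹ * b⁻¹ = 1 := by
        rw [hab a b]
        group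
      rw [commutatorElement_def, h1]
      exact one_mem _
    have hi1 : (i : Q → ℂ) 1 = 1 :=
      Cfsg.Agent.Lib.QuatBS.degree_one_of_commutator_le i.2 hcomm
    obtain ⟨g, hg⟩ := exists_hom_of_degree_one (IsIrrCharacter.isCharacter i.2) hi1
    -- the twist
    let τ : M ≀ᵣ Q → ℂ := fun w => (i : Q → ℂ) w.right
    have hτc : IsCharacter (M ≀ᵣ Q) τ :=
      isCharacter_comp RegularWreathProduct.rightHom (IsIrrCharacter.isCharacter i.2)
    have hψc : IsCharacter (M ≀ᵣ Q) (ϑ * τ) := isCharacter_mul hϑc hτc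
    -- the base as a subgroup
    let Y : Subgroup (M ≀ᵣ Q) := (base : (Q → M) →* M ≀ᵣ Q).range
    let leftY : Y →* (Q → M) :=
      { toFun := fun t => t.1.left
        map_one' := rfl
        map_mul' := by
          rintro ⟨_, a, rfl⟩ ⟨_, b, rfl⟩
          show a * (fun x => b ((1 : Q)⁻¹ * x)) = a * b
          simp }
    have hleft : Function.Surjective leftY := fun f => ⟨⟨base f, f, rfl⟩, rfl⟩
    have hψirr : IsIrrCharacter (M ≀ᵣ Q) (ϑ * τ) := by
      apply Cfsg.Agent.S4468.irr_of_restrict Y hψc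
      have h1 : (fun t : Y => (ϑ * τ) t) = prodFun c ∘ leftY := by
        funext t
        obtain ⟨_, f, rfl⟩ := t
        show ϑ (base f) * (i : Q → ℂ) (1 : Q) = prodFun c f
        rw [hϑb, hi1, mul_one]
      rw [h1]
      exact isIrrCharacter_comp_of_surjective leftY hleft (isIrr_prodFun hc)
    have heq : ϑ * τ = χ := by
      by_contra hne
      exact hi (classInner_irr_ne hψirr hχ hne)
    -- the monomial form
    let H := sub2 (Q := Q) (A 1)
    let lam' : H →* ℂˣ := mu2 (A 1) (lam 1) * (g.comp (RegularWreathProduct.rightHom.comp H.subtype))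
    refine ⟨H, lam', ?_⟩
    have h2 := indFun_mul_restrict H (fun h => ((mu2 (A 1) (lam 1) h : ℂˣ) : ℂ))
      (isClassFunction_of_isCharacter hτc)
    rw [← heq]
    refine Eq.trans h2.symm ?_
    congr 1
    funext h
    show ((mu2 (A 1) (lam 1) h : ℂˣ) : ℂ) * (i : Q → ℂ) h.1.right = _
    rw [hg]
    rfl

end Induced

section Embed

variable {G : Type u} [Group G]

theorem embed_mem (N : Subgroup G) [N.Normal] (g : G) (x : G ⧸ N) :
    (x.out)⁻¹ * g * (((g : G ⧸ N)⁻¹ * x).out) ∈ N := by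
  rw [← QuotientGroup.eq_one_iff]
  simp [QuotientGroup.mk_mul, QuotientGroup.mk_inv, QuotientGroup.out_eq']

/-- The Krasner--Kaloujnine embedding. -/
noncomputable def embedHom (N : Subgroup G) [N.Normal] {M : Type u} [Group M] (f : N →* M) :
    G →* M ≀ᵣ (G ⧸ N) where
  toFun g := ⟨fun x => f ⟨(x.out)⁻¹ * g * (((g : G ⧸ N)⁻¹ * x).out), embed_mem N g x⟩, (g : G ⧸ N)⟩
  map_one' := by
    ext x
    · have h1 : (⟨(x.out)⁻¹ * 1 * ((((1 : G) : G ⧸ N)⁻¹ * x).out), embed_mem N 1 x⟩ : N) = 1 := by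
        apply Subtype.ext
        simp
      show f _ = 1
      rw [h1, map_one]
    · rfl
  map_mul' g h := by
    ext x
    · show f _ = f _ * f _
      rw [← map_mul]
      congr 1
      apply Subtype.ext
      have h1 : (((g * h : G) : G ⧸ N))⁻¹ * x = (h : G ⧸ N)⁻¹ * ((g : G ⧸ N)⁻¹ * x) := by
        rw [QuotientGroup.mk_mul, mul_inv_rev, mul_assoc]
      show (x.out)⁻¹ * (g * h) * ((((g * h : G) : G ⧸ N))⁻¹ * x).out =
        (x.out)⁻¹ * g * (((g : G ⧸ N)⁻¹ * x).out) *
          ((((g : G ⧸ N)⁻¹ * x).out)⁻¹ * h * (((h : G ⧸ N)⁻¹ * ((g : G ⧸ N)⁻¹ * x)).out))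
      rw [h1]
      group
    · rfl

theorem embedHom_injective (N : Subgroup G) [N.Normal] {M : Type u} [Group M] (f : N →* M)
    (hf : Function.Injective f) : Function.Injective (embedHom N f) := by
  rw [injective_iff_map_eq_one]
  intro g hg
  have h1 : (g : G ⧸ N) = 1 := congrArg RegularWreathProduct.right hg
  have h2 := congrFun (congrArg RegularWreathProduct.left hg) 1
  have h3 : f ⟨((1 : G ⧸ N).out)⁻¹ * g * (((g : G ⧸ N)⁻¹ * 1).out), embed_mem N g 1⟩ = 1 := h2
  rw [← map_one f] at h3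
  have h4 := congrArg Subtype.val (hf h3)
  have h5 : ((1 : G ⧸ N).out)⁻¹ * g * (((g : G ⧸ N)⁻¹ * 1).out) = 1 := h4
  rw [h1] at h5
  simp only [inv_one, mul_one] at h5
  have h6 : g = (1 : G ⧸ N).out * (((1 : G ⧸ N).out)⁻¹ * g * (1 : G ⧸ N).out) *
      ((1 : G ⧸ N).out)⁻¹ := by group
  rw [h6, h5]
  simp

theorem normal_of_commutator_le {N : Subgroup G} (h : commutator G ≤ N) : N.Normal := by
  constructor
  intro n hn g
  have h1 : ⁅g, n⁆ ∈ commutator G :=
    Subgroup.commutator_mem_commutator (Subgroup.mem_top g) (Subgroup.mem_top n)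
  have h2 : g * n * g⁻¹ = ⁅g, n⁆ * n := by
    rw [commutatorElement_def]
    group
  rw [h2]
  exact N.mul_mem (h h1) hn

end Embed

/-- The induction. -/
theorem main (c : ℕ) : ∀ (G : Type u) [Group G] [Finite G], Nat.card G = c → Group.IsSolvable G →
    ∃ (M : Type u) (_ : Group M) (_ : Fintype M), IsMG M ∧ ∃ f : G →* M, Function.Injective f := by
  induction c using Nat.strong_induction_on with
  | _ c ih =>
    intro G _ _ hc hsolv
    classical
    rcases subsingleton_or_nontrivial G with hsub | hnt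
    · -- the trivial group
      letI : Fintype G := Fintype.ofFinite G
      refine ⟨G, inferInstance, inferInstance, ?_, MonoidHom.id G, Function.injective_id⟩
      intro χ hχ
      refine ⟨⊤, 1, ?_⟩
      have h1 : charDegree χ ∣ Nat.card G := charDegree_dvd_card hχ
      rw [Nat.card_of_subsingleton (1 : G)] at h1
      have h2 : χ 1 = 1 := by
        rw [one_eq_charDegree (IsIrrCharacter.isCharacter hχ), Nat.dvd_one.mp h1]
        simp
      funext g
      rw [indFun_top]
      · rw [Subsingleton.elim g 1, h2]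
        simp
      · intro x y
        simp
    · -- a normal subgroup of prime index
      have hlt : commutator G ≠ ⊤ := (Group.IsSolvable.commutator_lt_top_of_nontrivial G).ne
      obtain ⟨N, hN, hcomm⟩ := (eq_top_or_exists_le_coatom (commutator G)).resolve_left hlt
      haveI hNn : N.Normal := normal_of_commutator_le hcomm
      have hNlt : Nat.card N < c := by
        rw [← hc]
        exact lt_of_le_of_ne (Nat.card_le_card_of_injective _ Subtype.val_injective)
          (fun h => hN.1 (Subgroup.eq_top_of_card_eq _ h))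
      obtain ⟨M, instM, instF, hMG, f, hf⟩ := ih _ hNlt N rfl inferInstance
      letI : Fintype (G ⧸ N) := Fintype.ofFinite _
      letI : Fintype (M ≀ᵣ (G ⧸ N)) := Fintype.ofFinite _
      have hQ : ∀ S : Subgroup (G ⧸ N), S = ⊥ ∨ S = ⊤ := by
        intro S
        have h1 : N ≤ S.comap (QuotientGroup.mk' N) := by
          intro x hx
          show (x : G ⧸ N) ∈ S
          rw [(QuotientGroup.eq_one_iff x).mpr hx]
          exact one_mem _
        rcases hN.le_iff.mp h1 with h2 | h2
        · right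
          rw [eq_top_iff]
          intro y _
          obtain ⟨z, rfl⟩ := QuotientGroup.mk_surjective y
          have : z ∈ S.comap (QuotientGroup.mk' N) := by rw [h2]; trivial
          exact this
        · left
          rw [eq_bot_iff]
          intro y hy
          obtain ⟨z, rfl⟩ := QuotientGroup.mk_surjective y
          have h3 : z ∈ S.comap (QuotientGroup.mk' N) := hy
          rw [h2] at h3
          rw [Subgroup.mem_bot]
          exact (QuotientGroup.eq_one_iff z).mpr h3
      have hab : ∀ a b : G ⧸ N, a * b = b * a := by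
        intro a b
        obtain ⟨x, rfl⟩ := QuotientGroup.mk_surjective a
        obtain ⟨y, rfl⟩ := QuotientGroup.mk_surjective b
        rw [← QuotientGroup.mk_mul, ← QuotientGroup.mk_mul, QuotientGroup.eq]
        apply hcomm
        have h1 : ⁅y⁻¹, x⁻¹⁆ ∈ commutator G :=
          Subgroup.commutator_mem_commutator (Subgroup.mem_top _) (Subgroup.mem_top _)
        convert h1 using 1
        rw [commutatorElement_def]
        group
      exact ⟨M ≀ᵣ (G ⧸ N), inferInstance, inferInstance, wreath_isMG hMG hQ hab, embedHom N f,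
        embedHom_injective N f hf⟩

theorem result {G : Type u} [Group G] [Finite G] (hsolv : Group.IsSolvable G) : ∃ (M : Type u) (_ : Group M) (_ : Fintype M), (∀ χ : M → ℂ, Cfsg.IsIrrCharacter M χ → (∃ (H : Subgroup M) (lam : ↥H →* ℂˣ), χ = Cfsg.indFun H (fun h => (lam h : ℂ)))) ∧ ∃ f : G →* M, Function.Injective f :=
  main _ G rfl hsolv

end Cfsg.Agent.S4573
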