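import Mathlib
import Cfsg.Agent.Lib.SolRoG
import Cfsg.Statements.S4581

set_option autoImplicit false
open Cfsg

namespace Cfsg.Agent.S4581

/-- Let G be a finite solvable group, P a Sylow 2-subgroup and N its normalizer. Then G and N have the same number of real-valued irreducible characters of odd degree; and every odd-degree irreducible character of G is real-valued exactly when the derived subgroup of P equals the Frattini subgroup of P and P is its own normalizer in G. -/
theorem result {G : Type*} [Group G] [Finite G] [Group.IsSolvable G] (P : Sylow 2 G) :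
    Nat.card {χ : Cfsg.IrrCharacter G // (∀ g : G, ((χ : G → ℂ) g).im = 0) ∧ Odd (Cfsg.charDegree (χ : G → ℂ))} =
      Nat.card {ψ : Cfsg.IrrCharacter (Subgroup.normalizer ((P : Subgroup G) : Set G)) // (∀ g, ((ψ : Subgroup.normalizer ((P : Subgroup G) : Set G) → ℂ) g).im = 0) ∧ Odd (Cfsg.charDegree (ψ : Subgroup.normalizer ((P : Subgroup G) : Set G) → ℂ))} ∧
    ((∀ χ : Cfsg.IrrCharacter G, Odd (Cfsg.charDegree (χ : G → ℂ)) → ∀ g : G, ((χ : G → ℂ) g).im = 0) ↔
      (commutator (P : Subgroup G) = frattini (P : Subgroup G) ∧ Subgroup.normalizer ((P : Subgroup G) : Set G) = (P : Subgroup G))) := by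
  
  classical
  letI fX : ∀ X : Subgroup G, Fintype X := fun _ => Fintype.ofFinite _
  haveI : Fact (Nat.Prime 2) := ⟨Nat.prime_two⟩
  have h2 : IsPGroup 2 (P : Subgroup G) := P.isPGroup'
  have hodd : Odd (P : Subgroup G).index := by
    have h3 := P.not_dvd_index
    exact Nat.not_even_iff_odd.mp (fun h => h3 h.two_dvd)
  have hs : Group.IsSolvable G := inferInstance
  let e : G ≃* (⊤ : Subgroup G) := Subgroup.topEquiv.symm
  let E := Cfsg.Agent.Lib.SolRo.irrEqv e
  have hE : ∀ (χ : Cfsg.IrrCharacter G) (g : (⊤ : Subgroup G)),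
      (E χ : (⊤ : Subgroup G) → ℂ) g = (χ : G → ℂ) g := fun χ g => rfl
  have hdeg : ∀ χ : Cfsg.IrrCharacter G,
      Cfsg.charDegree (E χ : (⊤ : Subgroup G) → ℂ) = Cfsg.charDegree (χ : G → ℂ) := by
    intro χ
    unfold Cfsg.charDegree
    rw [hE]
    rfl
  have hconj : ∀ {X : Type _} (f : X → ℂ), (∀ x, (starRingEnd ℂ) (f x) = f x) ↔ ∀ x, (f x).im = 0 :=
    fun f => forall_congr' fun x => Complex.conj_eq_iff_im
  refine ⟨?_, ?_⟩
  · have h1 := Cfsg.Agent.Lib.SolRo.part1 h2 hodd hs
    calc _ = Nat.card {χ : Cfsg.IrrCharacter (⊤ : Subgroup G) //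
          Cfsg.Agent.Lib.SolRo.RO (χ : (⊤ : Subgroup G) → ℂ)} := by
          refine Nat.card_congr (E.subtypeEquiv (fun χ => ?_))
          unfold Cfsg.Agent.Lib.SolRo.RO
          rw [hdeg, hconj]
          constructor
          · rintro ⟨h3, h4⟩
            exact ⟨fun g => h3 _, h4⟩
          · rintro ⟨h3, h4⟩
            exact ⟨fun g => h3 (e g), h4⟩
      _ = _ := h1
      _ = _ := by
          refine Nat.card_congr (Equiv.subtypeEquivRight (fun ψ => ?_))
          unfold Cfsg.Agent.Lib.SolRo.RO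
          rw [hconj]
  · rw [← Cfsg.Agent.Lib.SolRo.part2 h2 hodd hs]
    constructor
    · intro h χ hχ
      rw [hconj]
      intro g
      obtain ⟨χ₀, rfl⟩ := E.surjective χ
      rw [hdeg] at hχ
      exact h χ₀ hχ _
    · intro h χ hχ g
      have h3 := h (E χ) (by rw [hdeg]; exact hχ)
      rw [hconj] at h3
      exact h3 (e g)


end Cfsg.Agent.S4581
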