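import Cfsg.Statements.S4937
import Cfsg.Agent.S4551
import Cfsg.Agent.Lib.BlkDefect
import Cfsg.Agent.Lib.DetChar

set_option autoImplicit false
set_option linter.style.haveILetI false
set_option linter.unusedVariables false
set_option linter.unusedSectionVars false

open Cfsg

namespace Cfsg.Agent.S4937

open Cfsg.Agent.Lib.CharBasic Cfsg.Agent.Lib.CharInd Cfsg.Agent.Lib.CharInduction
open Cfsg.Agent.Lib.CentralExt Cfsg.Agent.Lib.ImplGroup Cfsg.Agent.Lib.CosetAvg
open Cfsg.Agent.Lib.BlockLocal Cfsg.Agent.Lib.BlockIdem Cfsg.Agent.Lib.AlperinDade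
open Cfsg.Agent.Lib.AlperinDade2 Cfsg.Agent.Lib.AlperinDade3 Cfsg.Agent.Lib.AlperinDade4
open Cfsg.Agent.Lib.FongExt Cfsg.Agent.Lib.BlockNormal Cfsg.Agent.Lib.BlkNormalSub
open Cfsg.Agent.S4551
open Module
open scoped ComplexConjugate Classical Pointwise

universe u

/-- A representation with the character of an irreducible one is irreducible. -/
theorem isIrreducible_of_character_eq {N : Type u} [Group N] [Finite N] {k k' : ℕ}
    (ρ' : Representation ℂ N (Fin k' → ℂ)) (ρ : Representation ℂ N (Fin k → ℂ))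
    (hρ' : ρ'.IsIrreducible) (h : ρ'.character = ρ.character) : ρ.IsIrreducible := by
  obtain ⟨E⟩ := Cfsg.Agent.Lib.CharEquiv.equiv_of_character_eq (G := N) (finrank ℂ (Fin k' → ℂ))
    (Fin k' → ℂ) (Fin k → ℂ) ρ' ρ rfl h
  obtain ⟨e, hE⟩ : ∃ e : (Fin k' → ℂ) ≃ₗ[ℂ] (Fin k → ℂ), ∀ (n : N) (v : Fin k' → ℂ),
      e (ρ' n v) = ρ n (e v) :=
    ⟨E.toLinearEquiv, fun n v => E.toIntertwiningMap.isIntertwining _ _ n v⟩
  rw [isIrreducible_iff] at hρ' ⊢
  haveI := hρ'.1
  refine ⟨e.symm.toEquiv.nontrivial, fun U hU => ?_⟩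
  have h1 := hρ'.2 (U.comap e.toLinearMap) (by
    intro n v hv
    simp only [Submodule.mem_comap, LinearEquiv.coe_coe] at hv ⊢
    rw [hE]
    exact hU n _ hv)
  rcases h1 with h1 | h1
  · left
    rw [eq_bot_iff]
    intro u hu
    have h2 : e.symm u ∈ U.comap e.toLinearMap := by simpa using hu
    rw [h1, Submodule.mem_bot] at h2
    have h3 := congrArg e h2
    simpa using h3
  · right
    rw [eq_top_iff]
    intro u _
    have h2 : e.symm u ∈ U.comap e.toLinearMap := by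
      rw [h1]
      trivial
    simpa using h2

section Main

variable {G : Type u} [Group G] [Fintype G] {p : ℕ} [hp : Fact p.Prime]
  {M : Ideal AlgInt} (hM : IsPModular p M) {N : Subgroup G} [hN : N.Normal] [Fintype N] {k : ℕ}
  (hk : 0 < k)
  {ρ : Representation ℂ N (Fin k → ℂ)} (hρ : ρ.IsIrreducible)
  (hθ : (⟨ρ.character, ⟨k, ρ, hρ, rfl⟩⟩ : IrrCharacter N) ∈ principalBlock M N)
  {W : Subgroup G} {P₀ : Subgroup N} (hP₀ : ¬ p ∣ P₀.index)
  (hWP : ∀ w ∈ W, ∀ u ∈ P₀, w * (u : G) = u * w)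
  (hNW : ∀ g : G, ∃ n ∈ N, ∃ w ∈ W, g = n * w)
  {R : Representation ℂ G (Fin k → ℂ)} (hR : ∀ n : N, R n = ρ n)

include hM hk hρ hθ hP₀ hWP hNW hR in
/-- **The twisting character**: `ψ(w)/ψ(1)` is multiplicative modulo `M` on the centralizer, and
its `p'`-lift extends to a linear character of `G` trivial on `N`. -/
theorem exists_twist : ∃ β : G →* ℂˣ, (∀ n : N, β n = 1) ∧
    ∀ w ∈ W, MemLocalIdeal M (R.character w / k * ((β w : ℂˣ) : ℂ) - 1) := by
  haveI := isPrime_of_isPModular hM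
  have hπhat : ∀ n : N, (MonoidHom.id G) (N.subtype n) = n := fun n => rfl
  have hRhat : ∀ n : N, R (N.subtype n) = ρ n := hR
  have hA : (N.subtype).range.Normal := by
    rw [Subgroup.range_subtype]
    exact hN
  have hloc : ∀ w ∈ W, MemLocalRing M (tt R w) := fun w hw =>
    tt_local hM hk hρ hπhat hRhat hA hP₀ hWP hw
  have hmul : ∀ a ∈ W, ∀ b ∈ W, MemLocalIdeal M (tt R (a * b) - tt R a * tt R b) := fun a ha b hb =>
    tt_mul hM hk hρ hθ hπhat hRhat hA hP₀ hWP ha hb
  have hpow : ∀ w ∈ W, ∀ j : ℕ, MemLocalIdeal M (tt R (w ^ j) - tt R w ^ j) := fun w hw j =>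
    tt_pow hM hk hρ hθ hπhat hRhat hA hP₀ hWP hw j
  have htN : ∀ w ∈ W, w ∈ N → MemLocalIdeal M (tt R w - 1) := by
    intro w hw hwN
    have h1 := tt_triple hM hk hρ hθ hπhat hRhat hA hP₀ hWP (y₁ := w) (y₂ := 1) (y₃ := 1) hw
      (by simp only [MonoidHom.id_apply]; exact W.one_mem)
      (by simp only [MonoidHom.id_apply]; exact W.one_mem)
      (by rw [Subgroup.range_subtype]; simpa using hwN)
    rwa [tt_one hk, mul_one, mul_one] at h1
  -- the exponent
  set a := (Nat.card G).factorization p with ha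
  set m := ordCompl[p] (Nat.card G) with hm
  have hcard : p ^ a * m = Nat.card G := Nat.ordProj_mul_ordCompl_eq_self _ _
  have hm0 : 0 < m := Nat.ordCompl_pos _ Nat.card_pos.ne'
  have hmp : ¬ p ∣ m := Nat.not_dvd_ordCompl hp.out Nat.card_pos.ne'
  have hroot : ∀ w ∈ W, ∃ ζ : ℂ, ζ ^ m = 1 ∧ MemLocalIdeal M (tt R w - ζ) := by
    intro w hw
    have h1 := hpow w hw (Nat.card G)
    rw [pow_card_eq_one', tt_one hk] at h1
    have h2 : MemLocalIdeal M ((tt R w ^ m) ^ p ^ a - 1 ^ p ^ a) := by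
      have h3 := memLocalIdeal_neg h1
      rw [neg_sub, ← hcard, mul_comm (p ^ a) m, pow_mul] at h3
      simpa using h3
    have h4 := Cfsg.Agent.Lib.BlkDefect.memLocalIdeal_of_pow_sub_pow hM
      (memLocalRing_pow (hloc w hw) m) (memLocalRing_one (M := M)) a h2
    exact exists_root_congr hm0 (hloc w hw) h4
  choose! ζ hζ1 hζ2 using hroot
  -- uniqueness of the lift
  have huniq : ∀ c d : ℂ, c ^ m = 1 → d ^ m = 1 → MemLocalIdeal M (c - d) → c = d := by
    intro c d hc hd hcd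
    have hd0 : d ≠ 0 := by
      rintro rfl
      rw [zero_pow hm0.ne'] at hd
      exact zero_ne_one hd
    have hdinv : MemLocalRing M d⁻¹ := by
      refine memLocalRing_of_isIntegral ?_
      refine IsIntegral.of_pow hm0 ?_
      rw [inv_pow, hd, inv_one]
      exact isIntegral_one
    have h1 : (c * d⁻¹) ^ m = 1 := by rw [mul_pow, inv_pow, hc, hd, inv_one, one_mul]
    have h2 : MemLocalIdeal M (c * d⁻¹ - 1) := by
      have h3 : c * d⁻¹ - 1 = (c - d) * d⁻¹ := by
        field_simp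
      rw [h3]
      exact memLocalIdeal_mul_right hcd hdinv
    have h3 := eq_one_of_congr hM hmp h1 h2
    field_simp at h3
    exact h3
  have hint : ∀ c : ℂ, c ^ m = 1 → MemLocalRing M c := by
    intro c hc
    refine memLocalRing_of_isIntegral (IsIntegral.of_pow hm0 ?_)
    rw [hc]
    exact isIntegral_one
  have hζmul : ∀ a ∈ W, ∀ b ∈ W, ζ (a * b) = ζ a * ζ b := by
    intro a ha b hb
    refine huniq _ _ (hζ1 _ (W.mul_mem ha hb)) (by rw [mul_pow, hζ1 a ha, hζ1 b hb, one_mul]) ?_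
    have h1 := hζ2 _ (W.mul_mem ha hb)
    have h2 := hmul a ha b hb
    have h3 : ζ (a * b) - ζ a * ζ b = -(tt R (a * b) - ζ (a * b)) + (tt R (a * b) - tt R a * tt R b) +
        ((tt R a - ζ a) * tt R b + ζ a * (tt R b - ζ b)) := by ring
    rw [h3]
    exact memLocalIdeal_add (memLocalIdeal_add (memLocalIdeal_neg h1) h2)
      (memLocalIdeal_add (memLocalIdeal_mul_right (hζ2 a ha) (hloc b hb))
        (memLocalIdeal_mul_left (hint _ (hζ1 a ha)) (hζ2 b hb)))
  have hζN : ∀ w ∈ W, w ∈ N → ζ w = 1 := by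
    intro w hw hwN
    refine huniq _ _ (hζ1 w hw) (one_pow _) ?_
    have h3 : ζ w - 1 = -(tt R w - ζ w) + (tt R w - 1) := by ring
    rw [h3]
    exact memLocalIdeal_add (memLocalIdeal_neg (hζ2 w hw)) (htN w hw hwN)
  have hζ0 : ∀ w ∈ W, ζ w ≠ 0 := by
    intro w hw h0
    have := hζ1 w hw
    rw [h0, zero_pow hm0.ne'] at this
    exact zero_ne_one this
  -- representatives
  choose nn hnn ww hww hg using hNW
  have hkey : ∀ g n' w', n' ∈ N → w' ∈ W → g = n' * w' → ζ (ww g) = ζ w' := by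
    intro g n' w' hn' hw' he
    have h1 : ww g * w'⁻¹ ∈ W := W.mul_mem (hww g) (W.inv_mem hw')
    have h2 : ww g * w'⁻¹ ∈ N := by
      have h3 : ww g * w'⁻¹ = (nn g)⁻¹ * n' := by
        have h4 : nn g * ww g = n' * w' := by rw [← hg g, ← he]
        calc ww g * w'⁻¹ = (nn g)⁻¹ * (nn g * ww g) * w'⁻¹ := by group
          _ = (nn g)⁻¹ * (n' * w') * w'⁻¹ := by rw [h4]
          _ = (nn g)⁻¹ * n' := by group
      rw [h3]
      exact N.mul_mem (N.inv_mem (hnn g)) hn'
    have h3 := hζmul _ h1 w' hw'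
    rw [hζN _ h1 h2, one_mul, inv_mul_cancel_right] at h3
    exact h3
  let βf : G → ℂˣ := fun g => (Units.mk0 (ζ (ww g)) (hζ0 _ (hww g)))⁻¹
  have hβmul : ∀ a b, βf (a * b) = βf a * βf b := by
    intro a b
    have h1 : a * b = (nn a * (ww a * nn b * (ww a)⁻¹)) * (ww a * ww b) := by
      conv_lhs => rw [hg a, hg b]
      group
    have h2 := hkey (a * b) _ (ww a * ww b)
      (N.mul_mem (hnn a) (hN.conj_mem _ (hnn b) _)) (W.mul_mem (hww a) (hww b)) h1
    rw [hζmul _ (hww a) _ (hww b)] at h2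
    apply Units.ext
    simp only [βf, Units.val_mul, Units.val_inv_eq_inv_val, Units.val_mk0]
    rw [h2, mul_inv]
  let β : G →* ℂˣ := MonoidHom.mk' βf hβmul
  have hβW : ∀ w ∈ W, ((β w : ℂˣ) : ℂ) = (ζ w)⁻¹ := by
    intro w hw
    show ((βf w : ℂˣ) : ℂ) = _
    simp only [βf, Units.val_inv_eq_inv_val, Units.val_mk0]
    rw [hkey w 1 w N.one_mem hw (one_mul w).symm]
  refine ⟨β, ?_, ?_⟩
  · intro n
    apply Units.ext
    have h1 : ζ (ww (n : G)) = ζ 1 := hkey _ (n : G) 1 n.2 W.one_mem (mul_one _).symm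
    show ((βf n : ℂˣ) : ℂ) = 1
    simp only [βf, Units.val_inv_eq_inv_val, Units.val_mk0]
    rw [h1, hζN 1 W.one_mem N.one_mem, inv_one]
  · intro w hw
    rw [hβW w hw]
    have hlin : MemLocalRing M (ζ w)⁻¹ := by
      have h1 : ((ζ w)⁻¹) ^ m = 1 := by rw [inv_pow, hζ1 w hw, inv_one]
      exact hint _ h1
    have h3 : R.character w / k * (ζ w)⁻¹ - 1 = (tt R w - ζ w) * (ζ w)⁻¹ := by
      have := hζ0 w hw
      unfold tt
      field_simp
    rw [h3]
    exact memLocalIdeal_mul_right (hζ2 w hw) hlin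

include hM hk hρ hθ hP₀ hWP hNW in
/-- A good extension restricts into the principal block of every `J ≥ N`. -/
theorem sameBlock_restrict {R₁ : Representation ℂ G (Fin k → ℂ)} (hR₁ : ∀ n : N, R₁ n = ρ n)
    (hW : ∀ w ∈ W, MemLocalIdeal M (R₁.character w / k - 1)) (J : Subgroup G) [Fintype J]
    (hNJ : N ≤ J) :
    SameBlock M (fun _ : J => (1 : ℂ)) (fun y : J => R₁.character y) := by
  intro g
  haveI := isPrime_of_isPModular hM
  have hk0 : (k : ℂ) ≠ 0 := by exact_mod_cast hk.ne'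
  letI : Fintype (G ⧸ N) := Fintype.ofFinite _
  let K : Finset G := Cl J.subtype (g : G)
  have hcard : K.card = (Subgroup.centralizer ({g} : Set J)).index := by
    have h1 := card_Cl_eq J.subtype (g : G)
    have h2 : (Subgroup.centralizer ({(g : G)} : Set G)).comap J.subtype =
        Subgroup.centralizer ({g} : Set J) := by
      ext y
      simp only [Subgroup.mem_comap, Subgroup.mem_centralizer_singleton_iff,
        Subgroup.subtype_apply]
      exact (Subtype.ext_iff (a1 := y * g) (a2 := g * y)).symm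
    rwa [h2] at h1
  have h1 : centralChar (fun _ : J => (1 : ℂ)) g - centralChar (fun y : J => R₁.character y) g =
      -(tauS R₁ K - (K.card : ℂ)) := by
    have h2 : tauS R₁ K = (K.card : ℂ) * (R₁.character g / k) := tauS_Cl R₁ (g : G)
    unfold centralChar
    have h3 : R₁.character ((1 : J) : G) = k := by
      simpa using char_one_eq_rep R₁
    have h4 : (fun y : J => R₁.character y) 1 = k := h3
    rw [h2, hcard, h4]
    simp only [mul_one, div_one]
    ring
  rw [h1]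
  apply memLocalIdeal_neg
  have h3 : tauS R₁ K - (K.card : ℂ) = ∑ c : G ⧸ N, (tauS R₁ (K.filter fun u : G => (u : G ⧸ N) = c) -
      ((K.filter fun u : G => (u : G ⧸ N) = c).card : ℂ)) := by
    have h4 : ∀ S : Finset G, tauS R₁ S - (S.card : ℂ) = ∑ u ∈ S, (R₁.character u / k - 1) := by
      intro S
      unfold tauS
      rw [Finset.sum_sub_distrib, Finset.sum_div]
      simp
    rw [h4]
    simp_rw [h4]
    exact (Finset.sum_fiberwise K (fun u : G => (u : G ⧸ N)) _).symm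
  rw [h3]
  refine memLocalIdeal_sum _ _ fun c _ => ?_
  obtain ⟨g₀, rfl⟩ := QuotientGroup.mk_surjective c
  obtain ⟨n, hn, w, hw, rfl⟩ := hNW g₀
  have hc : ((n * w : G) : G ⧸ N) = (w : G ⧸ N) := by
    rw [QuotientGroup.mk_mul, (QuotientGroup.eq_one_iff n).mpr hn, one_mul]
  refine congr_fiber hM hk hρ hθ hP₀ hWP hR₁ hW ?_ hw ?_
  · intro m u hu
    rw [Finset.mem_filter] at hu ⊢
    constructor
    · have h5 := stable_Cl J.subtype (g : G) ⟨(m : G), hNJ m.2⟩ u hu.1
      exact h5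
    · rw [← hu.2]
      simp only [Subgroup.subtype_apply]
      rw [QuotientGroup.mk_mul, QuotientGroup.mk_mul, QuotientGroup.mk_inv,
        (QuotientGroup.eq_one_iff (m : G)).mpr m.2]
      simp
  · intro u hu
    rw [(Finset.mem_filter.mp hu).2, hc]

end Main

/-- Let G be a finite group, p a prime, M a maximal ideal of the algebraic integers containing p, N a normal subgroup of G and P a Sylow p-subgroup of N such that G = N·C_G(P). Let θ be an irreducible character in the principal p-block of N that is the restriction of some irreducible character of G. Then θ is the restriction of an irreducible character χ of G lying in the principal p-block of G such that, for every subgroup J of G containing N, the restriction of χ to J is an irreducible character of J lying in the principal p-block of J. -/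
theorem result {G : Type*} [Group G] [Finite G] (p : ℕ) [Fact p.Prime] (M : Ideal Cfsg.AlgInt) (hM : Cfsg.IsPModular p M) (N : Subgroup G) [N.Normal] (P : Sylow p ↥N)
    (hcov : N ⊔ Subgroup.centralizer (((P : Subgroup ↥N).map N.subtype : Subgroup G) : Set G) = ⊤)
    (θ : Cfsg.IrrCharacter ↥N) (hθ : θ ∈ Cfsg.principalBlock M ↥N)
    (hext : ∃ ψ : Cfsg.IrrCharacter G, ∀ x : ↥N, (ψ : G → ℂ) x = (θ : ↥N → ℂ) x) :
    ∃ χ : Cfsg.IrrCharacter G, χ ∈ Cfsg.principalBlock M G ∧ (∀ x : ↥N, (χ : G → ℂ) x = (θ : ↥N → ℂ) x) ∧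
      ∀ J : Subgroup G, N ≤ J → ∃ ξ : Cfsg.IrrCharacter ↥J, ξ ∈ Cfsg.principalBlock M ↥J ∧ ∀ y : ↥J, (ξ : ↥J → ℂ) y = (χ : G → ℂ) y := by
  letI : Fintype G := Fintype.ofFinite G
  letI : Fintype N := Fintype.ofFinite N
  haveI := isPrime_of_isPModular hM
  obtain ⟨⟨ψ, k, R, hRirr, rfl⟩, hψ⟩ := hext
  obtain ⟨θ, k', ρ', hρ', rfl⟩ := θ
  let ρ : Representation ℂ N (Fin k → ℂ) := R.comp N.subtype
  have hR : ∀ n : N, R n = ρ n := fun n => rfl
  have hchar : ρ'.character = ρ.character := by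
    funext n
    exact (hψ n).symm
  have hρ : ρ.IsIrreducible := isIrreducible_of_character_eq ρ' ρ hρ' hchar
  have hk : 0 < k := by
    have h1 := ((isIrreducible_iff ρ).mp hρ).1
    have h2 : 0 < Module.finrank ℂ (Fin k → ℂ) := Module.finrank_pos
    simpa using h2
  have hθ' : (⟨ρ.character, ⟨k, ρ, hρ, rfl⟩⟩ : IrrCharacter N) ∈ principalBlock M N := by
    have h1 : (⟨ρ.character, ⟨k, ρ, hρ, rfl⟩⟩ : IrrCharacter N) = ⟨ρ'.character, ⟨k', ρ', hρ', rfl⟩⟩ :=
      Subtype.ext hchar.symm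
    rw [h1]
    exact hθ
  let W : Subgroup G := Subgroup.centralizer (((P : Subgroup ↥N).map N.subtype : Subgroup G) : Set G)
  have hWP : ∀ w ∈ W, ∀ u ∈ (P : Subgroup N), w * (u : G) = u * w := by
    intro w hw u hu
    exact ((Subgroup.mem_centralizer_iff.mp hw) (u : G) ⟨u, hu, rfl⟩).symm
  have hP₀ : ¬ p ∣ (P : Subgroup N).index := P.not_dvd_index
  have hNW : ∀ g : G, ∃ n ∈ N, ∃ w ∈ W, g = n * w := by
    intro g
    have hg : g ∈ ((N ⊔ W : Subgroup G) : Set G) := by
      rw [hcov]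
      trivial
    rw [Subgroup.normal_mul N W] at hg
    obtain ⟨n, hn, w, hw, rfl⟩ := hg
    exact ⟨n, hn, w, hw, rfl⟩
  obtain ⟨β, hβN, hβW⟩ := exists_twist hM hk hρ hθ' hP₀ hWP hNW hR
  let R₁ : Representation ℂ G (Fin k → ℂ) := Cfsg.Agent.Lib.DetChar.twist β R
  have hR₁apply : ∀ g, R₁ g = ((β g : ℂˣ) : ℂ) • R g := fun g => rfl
  have hR₁char : ∀ g, R₁.character g = ((β g : ℂˣ) : ℂ) * R.character g := by
    intro g
    show LinearMap.trace ℂ _ (((β g : ℂˣ) : ℂ) • R g) = _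
    rw [map_smul]
    rfl
  have hR₁N : ∀ n : N, R₁ n = ρ n := by
    intro n
    rw [hR₁apply, hβN n]
    simp [hR]
  have hW₁ : ∀ w ∈ W, MemLocalIdeal M (R₁.character w / k - 1) := by
    intro w hw
    have h1 := hβW w hw
    rwa [show R.character w / k * ((β w : ℂˣ) : ℂ) = R₁.character w / k by
      rw [hR₁char]; ring] at h1
  have hirrJ : ∀ J : Subgroup G, N ≤ J → IsIrrCharacter J (fun y : J => R₁.character y) := by
    intro J hJ
    let RJ : Representation ℂ J (Fin k → ℂ) := R₁.comp J.subtype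
    have h1 : RJ.IsIrreducible := by
      rw [isIrreducible_iff] at hρ ⊢
      refine ⟨hρ.1, fun U hU => hρ.2 U fun n v hv => ?_⟩
      rw [← hR₁N]
      exact hU ⟨n, hJ n.2⟩ v hv
    exact ⟨k, _, h1, rfl⟩
  have hirrG : IsIrrCharacter G R₁.character := by
    refine ⟨k, R₁, ?_, rfl⟩
    rw [isIrreducible_iff] at hρ ⊢
    refine ⟨hρ.1, fun U hU => hρ.2 U fun n v hv => ?_⟩
    rw [← hR₁N]
    exact hU n v hv
  refine ⟨⟨R₁.character, hirrG⟩, ?_, ?_, ?_⟩
  · exact sameBlock_ext hM hk hρ hθ' hP₀ hWP hNW hR₁N hW₁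
  · intro x
    show R₁.character x = _
    show LinearMap.trace ℂ _ (R₁ x) = LinearMap.trace ℂ _ (ρ' x)
    rw [hR₁N]
    exact congrFun hchar.symm x
  · intro J hJ
    letI : Fintype J := Fintype.ofFinite _
    exact ⟨⟨_, hirrJ J hJ⟩, sameBlock_restrict hM hk hρ hθ' hP₀ hWP hNW hR₁N hW₁ J hJ, fun y => rfl⟩

end Cfsg.Agent.S4937
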