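import Cfsg.Statements.S4750
import Cfsg.Agent.Lib.PermModule
import Cfsg.Agent.Lib.BlockResidue
import Cfsg.Agent.Lib.CharTable
import Cfsg.Agent.Lib.CharDecomp
import Cfsg.Agent.S4937

set_option autoImplicit false
open scoped Pointwise
open Cfsg

namespace Cfsg.Agent.S4750

open IsLocalRing

section kP

variable {P : Type*} [Group P] [Fintype P] {p : ℕ} [Fact p.Prime] {k : Type*} [Field k] [CharP k p]

/-- left translation on functions -/
def transl (k : Type*) [Field k] (P : Type*) [Group P] : Representation k P (P → k) where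
  toFun u :=
    { toFun := fun f w => f (u⁻¹ * w)
      map_add' := fun _ _ => rfl
      map_smul' := fun _ _ => rfl }
  map_one' := by
    ext f w
    simp
  map_mul' u v := by
    ext f w
    simp [mul_assoc]

theorem exists_combo (hP : IsPGroup p P) (f : P → k) (hf : f ≠ 0) :
    ∃ (a : P → k) (b : k), b ≠ 0 ∧ ∀ w, ∑ u, a u * f (u⁻¹ * w) = b := by
  classical
  let W : Submodule k (P → k) := Submodule.span k (Set.range fun u : P => transl k P u f)
  have hfW : f ∈ W := by
    apply Submodule.subset_span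
    exact ⟨1, by simp⟩
  have hW : ∀ g, ∀ v ∈ W, transl k P g v ∈ W := by
    intro g v hv
    induction hv using Submodule.span_induction with
    | mem x hx =>
      obtain ⟨u, rfl⟩ := hx
      apply Submodule.subset_span
      exact ⟨g * u, by simp⟩
    | zero => simp
    | add x y _ _ hx hy =>
      rw [map_add]
      exact W.add_mem hx hy
    | smul c x _ hx =>
      rw [map_smul]
      exact W.smul_mem c hx
  obtain ⟨g, hgW, hg0, hgfix⟩ := Cfsg.Agent.Lib.PermModule.exists_fixed_vector hP (transl k P) W hW hfW hf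
  have hconst : ∀ w, g w = g 1 := by
    intro w
    have := congrFun (hgfix w) w
    have h2 : (transl k P w g) w = g (w⁻¹ * w) := rfl
    rw [h2, inv_mul_cancel] at this
    exact this.symm
  have hb : g 1 ≠ 0 := by
    intro h
    apply hg0
    funext w
    rw [hconst w, h]
    rfl
  obtain ⟨a, ha⟩ := (Submodule.mem_span_range_iff_exists_fun k).mp hgW
  refine ⟨a, g 1, hb, fun w => ?_⟩
  rw [← hconst w, ← ha]
  simp only [Finset.sum_apply, Pi.smul_apply, smul_eq_mul]
  rfl

end kP

section sigma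

variable {P : Type*} [Group P] [Fintype P] {p : ℕ} [hpf : Fact p.Prime]
  (R : ValuationSubring ℂ) {n : ℕ}

theorem charP_residue (hpR : (p : ℂ) ∈ R.nonunits) : CharP (ResidueField R) p := by
  obtain ⟨c, hc⟩ := CharP.exists (ResidueField R)
  have h1 : ((p : ℕ) : ResidueField R) = 0 := by
    have h2 : (p : ℂ) ∈ R := by
      exact natCast_mem R p
    have h3 : residue R ⟨(p : ℂ), h2⟩ = 0 := by
      rw [Cfsg.Agent.Lib.BlockResidue.residue_eq_zero_iff']
      exact hpR
    have h4 : (⟨(p : ℂ), h2⟩ : R) = ((p : ℕ) : R) := by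
      apply Subtype.ext
      simp
    rw [h4, map_natCast] at h3
    exact h3
  have h5 := (CharP.cast_eq_zero_iff (ResidueField R) c p).mp h1
  rcases (Nat.Prime.eq_one_or_self_of_dvd hpf.out c h5) with h6 | h6
  · subst h6
    exact absurd rfl (CharP.char_ne_one (ResidueField R) 1)
  · subst h6
    exact hc

/-- `σ = ∑_{u ∈ P} u` maps `Λ` to `𝔪 Λ` if orbits are dependent. -/
theorem sigma_mem (hpR : (p : ℂ) ∈ R.nonunits) (hP : IsPGroup p P)
    (ρ : Representation ℂ P (Fin n → ℂ)) (Λ : Submodule R (Fin n → ℂ))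
    (hΛ : ∀ u, ∀ x ∈ Λ, ρ u x ∈ Λ) {x : Fin n → ℂ} (hx : x ∈ Λ)
    (hdep : ¬ LinearIndependent ℂ (fun u : P => ρ u x)) :
    ∑ u : P, ρ u x ∈ (maximalIdeal R) • Λ := by
  classical
  haveI := charP_residue R hpR
  rw [Fintype.not_linearIndependent_iff] at hdep
  obtain ⟨g, hg0, i, hi⟩ := hdep
  obtain ⟨d, c', j₀, hd, hc', hj₀⟩ := Cfsg.Agent.Lib.BlockResidue.exists_scale R g ⟨i, hi⟩
  have hsum : ∑ u : P, (c' u : ℂ) • ρ u x = 0 := by
    simp only [hc', mul_smul]
    rw [← Finset.smul_sum, hg0, smul_zero]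
  let f : P → ResidueField R := fun u => residue R (c' u)
  have hf : f ≠ 0 := by
    intro h
    have := congrFun h j₀
    simp only [f, hj₀, map_one, Pi.zero_apply] at this
    exact one_ne_zero this
  obtain ⟨a, b, hb, hab⟩ := exists_combo hP f hf
  obtain ⟨a', ha'⟩ : ∃ a' : P → R, ∀ u, residue R (a' u) = a u :=
    ⟨fun u => Classical.choose (residue_surjective (a u)),
      fun u => Classical.choose_spec (residue_surjective (a u))⟩
  obtain ⟨b', hb'⟩ := residue_surjective b
  let e : P → R := fun w => ∑ u, a' u * c' (u⁻¹ * w)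
  have he : ∀ w, residue R (e w) = b := by
    intro w
    simp only [e, map_sum, map_mul, ha']
    exact hab w
  have hmem : ∀ w, b' - e w ∈ maximalIdeal R := by
    intro w
    rw [← residue_eq_zero_iff, map_sub, he, hb', sub_self]
  -- the identity
  have hid : ∑ w : P, (e w : ℂ) • ρ w x = 0 := by
    have h1 : ∀ w : P, (e w : ℂ) • ρ w x =
        ∑ u : P, (a' u : ℂ) • ρ u ((c' (u⁻¹ * w) : ℂ) • ρ (u⁻¹ * w) x) := by
      intro w
      have h2 : ((e w : R) : ℂ) = ∑ u, (a' u : ℂ) * (c' (u⁻¹ * w) : ℂ) := by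
        simp [e]
      rw [h2, Finset.sum_smul]
      refine Finset.sum_congr rfl fun u _ => ?_
      rw [map_smul, mul_smul, ← Module.End.mul_apply, ← map_mul, mul_inv_cancel_left]
    simp only [h1]
    rw [Finset.sum_comm]
    refine Finset.sum_eq_zero fun u _ => ?_
    rw [← Finset.smul_sum, ← map_sum]
    have h3 : ∑ w : P, (c' (u⁻¹ * w) : ℂ) • ρ (u⁻¹ * w) x = 0 := by
      rw [← hsum]
      exact Fintype.sum_equiv (Equiv.mulLeft u⁻¹) _ _ fun w => rfl
    rw [h3, map_zero, smul_zero]
  -- conclusion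
  have hb'x : (b' : R) • ∑ u : P, ρ u x ∈ (maximalIdeal R) • Λ := by
    have h1 : (b' : R) • ∑ u : P, ρ u x = ∑ w : P, (b' - e w) • ρ w x := by
      have h2 : ∑ w : P, (b' - e w) • ρ w x = ∑ w : P, ((b' : ℂ) • ρ w x - (e w : ℂ) • ρ w x) := by
        refine Finset.sum_congr rfl fun w _ => ?_
        rw [sub_smul]
        rfl
      rw [h2, Finset.sum_sub_distrib, hid, sub_zero, ← Finset.smul_sum]
      rfl
    rw [h1]
    refine Submodule.sum_mem _ fun w _ => ?_
    exact Submodule.smul_mem_smul (hmem w) (hΛ w x hx)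
  have hunit : IsUnit b' := by
    by_contra hnu
    apply hb
    rw [← hb']
    exact (residue_eq_zero_iff _).mpr ((mem_maximalIdeal _).mpr hnu)
  obtain ⟨w, hw⟩ := hunit
  have h9 : ((↑w⁻¹ : R)) • (b' : R) • ∑ u : P, ρ u x ∈ (maximalIdeal R) • Λ :=
    Submodule.smul_mem _ _ hb'x
  rw [← hw, smul_smul, Units.inv_mul, one_smul] at h9
  exact h9

end sigma

section main

variable {G : Type*} [Group G] [Fintype G] {p : ℕ} [hpf : Fact p.Prime]

/-- TI: a nontrivial element of `P` conjugated into `H ≥ N(P)` forces the conjugator into `H`. -/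
theorem mem_of_conj_mem (P : Sylow p G)
    (hTI : ∀ g : G, g ∉ Subgroup.normalizer ((P : Subgroup G) : Set G) →
      (P : Subgroup G) ⊓ (MulAut.conj g • (P : Subgroup G)) = ⊥)
    (H : Subgroup G) (hH : Subgroup.normalizer ((P : Subgroup G) : Set G) ≤ H)
    {u g : G} (hu : u ∈ (P : Subgroup G)) (hu1 : u ≠ 1) (hg : g⁻¹ * u * g ∈ H) : g ∈ H := by
  classical
  have hPH : (P : Subgroup G) ≤ H := Subgroup.le_normalizer.trans hH
  let S : Sylow p H := P.subtype hPH
  let y : H := ⟨g⁻¹ * u * g, hg⟩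
  have hyp : IsPGroup p (Subgroup.zpowers y) := by
    rw [IsPGroup.iff_card]
    obtain ⟨k, hk⟩ := (IsPGroup.iff_orderOf (p := p)).mp P.isPGroup' ⟨u, hu⟩
    refine ⟨k, ?_⟩
    rw [Nat.card_zpowers]
    have h1 : orderOf y = orderOf (g⁻¹ * u * g) := (Subgroup.orderOf_coe y).symm
    rw [h1]
    have h2 : g⁻¹ * u * g = MulAut.conj g⁻¹ u := by simp
    rw [h2, MulEquiv.orderOf_eq, ← hk, Subgroup.orderOf_mk]
  obtain ⟨Q, hQ⟩ := hyp.exists_le_sylow
  obtain ⟨h, hh⟩ := MulAction.exists_smul_eq H S Q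
  have hyQ : y ∈ (Q : Subgroup H) := hQ (Subgroup.mem_zpowers y)
  rw [← hh] at hyQ
  have hyQ' : y ∈ MulAut.conj h • (S : Subgroup H) := hyQ
  rw [Subgroup.mem_pointwise_smul_iff_inv_smul_mem] at hyQ'
  have h3 : (h⁻¹ * y * h) ∈ (S : Subgroup H) := by
    have : (MulAut.conj h)⁻¹ • y = h⁻¹ * y * h := by simp [MulAut.smul_def]
    rwa [this] at hyQ'
  have h4 : ((h : G)⁻¹ * (g⁻¹ * u * g) * h) ∈ (P : Subgroup G) := by
    have h5 : (h⁻¹ * y * h) ∈ (P : Subgroup G).subgroupOf H := by
      rw [← P.coe_subtype hPH]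
      exact h3
    exact h5
  by_contra hgH
  have hgh : g * h ∉ H := fun e => hgH (by
    have : g = g * h * (h : G)⁻¹ := by group
    rw [this]
    exact H.mul_mem e (H.inv_mem h.2))
  have hgN : g * h ∉ Subgroup.normalizer ((P : Subgroup G) : Set G) := fun e => hgh (hH e)
  have h6 := hTI _ hgN
  apply hu1
  have h7 : u ∈ (P : Subgroup G) ⊓ (MulAut.conj (g * (h : G)) • (P : Subgroup G)) := by
    refine ⟨hu, ?_⟩
    show u ∈ MulAut.conj (g * (h : G)) • (P : Subgroup G)
    rw [Subgroup.mem_pointwise_smul_iff_inv_smul_mem]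
    have : (MulAut.conj (g * (h : G)))⁻¹ • u = (h : G)⁻¹ * (g⁻¹ * u * g) * h := by
      simp [MulAut.smul_def, mul_assoc]
    rw [this]
    exact h4
  rw [h6] at h7
  exact h7

variable (R : ValuationSubring ℂ) {n : ℕ}

/-- Sum over a `P`-`H`-invariant set off `H`. -/
theorem sum_Y (P : Sylow p G)
    (hTI : ∀ g : G, g ∉ Subgroup.normalizer ((P : Subgroup G) : Set G) →
      (P : Subgroup G) ⊓ (MulAut.conj g • (P : Subgroup G)) = ⊥)
    (H : Subgroup G) [Fintype H] (hH : Subgroup.normalizer ((P : Subgroup G) : Set G) ≤ H)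
    [Fintype (P : Subgroup G)]
    (τ : Representation ℂ G (Fin n → ℂ)) {v : Fin n → ℂ} (hv : ∀ h ∈ H, τ h v = v)
    (N : Submodule R (Fin n → ℂ))
    (hσ : ∀ y : G, ∑ u : (P : Subgroup G), τ u (τ y v) ∈ N) :
    ∀ Y : Finset G, (∀ y ∈ Y, y ∉ H) →
      (∀ y ∈ Y, ∀ u ∈ (P : Subgroup G), ∀ h ∈ H, u * y * h ∈ Y) →
      ∃ m ∈ N, ∑ g ∈ Y, τ g v = (Nat.card H : ℂ) • m := by
  classical
  intro Y
  induction Y using Finset.strongInduction with
  | H Y ih =>
    intro hY hinv
    by_cases hne : Y.Nonempty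
    · obtain ⟨y, hy⟩ := hne
      let φ : ↥(P : Subgroup G) × ↥H → G := fun a => (a.1 : G) * y * (a.2 : G)
      have hφ : Function.Injective φ := by
        rintro ⟨⟨u, hu⟩, ⟨h, hh⟩⟩ ⟨⟨u', hu'⟩, ⟨h', hh'⟩⟩ e
        have e' : u * y * h = u' * y * h' := e
        have h1 : y⁻¹ * (u'⁻¹ * u) * y = h' * h⁻¹ := by
          have : u * y = u' * y * h' * h⁻¹ := by
            rw [← e']; group
          calc y⁻¹ * (u'⁻¹ * u) * y = y⁻¹ * u'⁻¹ * (u * y) := by group
            _ = y⁻¹ * u'⁻¹ * (u' * y * h' * h⁻¹) := by rw [this]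
            _ = h' * h⁻¹ := by group
        have h2 : u'⁻¹ * u = 1 := by
          by_contra hne1
          have h3 : y⁻¹ * (u'⁻¹ * u) * y ∈ H := by
            rw [h1]
            exact H.mul_mem hh' (H.inv_mem hh)
          exact hY y hy (mem_of_conj_mem P hTI H hH
            ((P : Subgroup G).mul_mem ((P : Subgroup G).inv_mem hu') hu) hne1 h3)
        have h4 : u = u' := by
          have := inv_mul_eq_one.mp h2
          exact this.symm
        subst h4
        have h5 : h = h' := mul_left_cancel e'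
        subst h5
        rfl
      let D : Finset G := Finset.univ.image φ
      have hDY : D ⊆ Y := by
        intro x hx
        obtain ⟨a, -, rfl⟩ := Finset.mem_image.mp hx
        exact hinv y hy _ a.1.2 _ a.2.2
      have hyD : y ∈ D := by
        apply Finset.mem_image.mpr
        refine ⟨(1, 1), Finset.mem_univ _, ?_⟩
        simp [φ]
      have hlt : Y \ D ⊂ Y := by
        refine Finset.ssubset_iff_subset_ne.mpr ⟨Finset.sdiff_subset, ?_⟩
        intro e
        have : y ∈ Y \ D := by rw [e]; exact hy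
        exact (Finset.mem_sdiff.mp this).2 hyD
      obtain ⟨m, hm, hsum⟩ := ih _ hlt (fun z hz => hY z (Finset.mem_sdiff.mp hz).1) (by
        intro z hz u hu h hh
        rw [Finset.mem_sdiff] at hz ⊢
        refine ⟨hinv z hz.1 u hu h hh, ?_⟩
        intro hmem
        obtain ⟨a, -, ha⟩ := Finset.mem_image.mp hmem
        apply hz.2
        apply Finset.mem_image.mpr
        refine ⟨(⟨u⁻¹ * a.1, (P : Subgroup G).mul_mem ((P : Subgroup G).inv_mem hu) a.1.2⟩,
          ⟨a.2 * h⁻¹, H.mul_mem a.2.2 (H.inv_mem hh)⟩), Finset.mem_univ _, ?_⟩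
        have ha' : (a.1 : G) * y * (a.2 : G) = u * z * h := ha
        show u⁻¹ * (a.1 : G) * y * ((a.2 : G) * h⁻¹) = z
        calc u⁻¹ * (a.1 : G) * y * ((a.2 : G) * h⁻¹) = u⁻¹ * ((a.1 : G) * y * (a.2 : G)) * h⁻¹ := by group
          _ = u⁻¹ * (u * z * h) * h⁻¹ := by rw [ha']
          _ = z := by group)
      refine ⟨m + ∑ u : (P : Subgroup G), τ u (τ y v), N.add_mem hm (hσ y), ?_⟩
      rw [← Finset.sum_sdiff hDY, hsum, smul_add]
      congr 1
      rw [Finset.sum_image (fun a _ b _ e => hφ e), Fintype.sum_prod_type_right]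
      have h1 : ∀ b : H, ∑ a : (P : Subgroup G), τ (φ (a, b)) v = ∑ u : (P : Subgroup G), τ u (τ y v) := by
        intro b
        refine Finset.sum_congr rfl fun a _ => ?_
        show τ ((a : G) * y * (b : G)) v = _
        rw [map_mul, map_mul]
        show τ a (τ y (τ b v)) = _
        rw [hv _ b.2]
      simp only [h1]
      rw [Finset.sum_const, Finset.card_univ, ← Nat.card_eq_fintype_card, ← Nat.cast_smul_eq_nsmul ℂ]
    · rw [Finset.not_nonempty_iff_eq_empty] at hne
      subst hne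
      exact ⟨0, N.zero_mem, by simp⟩

/-- The key claim. -/
theorem eq_zero_of_sum (P : Sylow p G)
    (hTI : ∀ g : G, g ∉ Subgroup.normalizer ((P : Subgroup G) : Set G) →
      (P : Subgroup G) ⊓ (MulAut.conj g • (P : Subgroup G)) = ⊥)
    (H : Subgroup G) [Fintype H] (hH : Subgroup.normalizer ((P : Subgroup G) : Set G) ≤ H)
    [Fintype (P : Subgroup G)]
    (τ : Representation ℂ G (Fin n → ℂ))
    (hpR : (p : ℂ) ∈ R.nonunits)
    (hdep : ∀ x : Fin n → ℂ, ¬ LinearIndependent ℂ (fun u : (P : Subgroup G) => τ u x))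
    {v : Fin n → ℂ} (hv : ∀ h ∈ H, τ h v = v) (hsum : ∑ g : G, τ g v = 0) : v = 0 := by
  classical
  let Λ : Submodule R (Fin n → ℂ) := Submodule.span R (Set.range fun g : G => τ g v)
  have hgen : ∀ g : G, τ g v ∈ Λ := fun g => Submodule.subset_span ⟨g, rfl⟩
  have hvΛ : v ∈ Λ := by
    have := hgen 1
    simpa using this
  have hτR : ∀ (g : G) (r : R) (x : Fin n → ℂ), τ g (r • x) = r • τ g x := by
    intro g r x
    have h1 : r • x = (r : ℂ) • x := rfl
    have h2 : r • τ g x = (r : ℂ) • τ g x := rfl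
    rw [h1, h2, map_smul]
  have hΛG : ∀ (g : G), ∀ x ∈ Λ, τ g x ∈ Λ := by
    intro g x hx
    induction hx using Submodule.span_induction with
    | mem x hx =>
      obtain ⟨h, rfl⟩ := hx
      have : τ g (τ h v) = τ (g * h) v := by rw [map_mul]; rfl
      rw [this]
      exact hgen _
    | zero => simp
    | add x y _ _ hx hy =>
      rw [map_add]
      exact Λ.add_mem hx hy
    | smul r x _ hx =>
      rw [hτR]
      exact Λ.smul_mem r hx
  set N : Submodule R (Fin n → ℂ) := (maximalIdeal R) • Λ with hN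
  have hNG : ∀ (g : G), ∀ x ∈ N, τ g x ∈ N := by
    intro g x hx
    induction hx using Submodule.smul_induction_on' with
    | smul r hr y hy =>
      rw [hτR]
      exact Submodule.smul_mem_smul hr (hΛG g y hy)
    | add a _ b _ ha hb =>
      rw [map_add]
      exact N.add_mem ha hb
  have hσ : ∀ y : G, ∑ u : (P : Subgroup G), τ u (τ y v) ∈ N := by
    intro y
    exact sigma_mem R hpR P.isPGroup' (τ.comp (P : Subgroup G).subtype) Λ
      (fun u x hx => hΛG u x hx) (hgen y) (hdep _)
  -- split the sum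
  let Y : Finset G := Finset.univ.filter (fun g => g ∉ H)
  obtain ⟨m, hm, hYsum⟩ := sum_Y R P hTI H hH τ hv N hσ Y
    (fun y hy => (Finset.mem_filter.mp hy).2) (by
      intro y hy u hu h hh
      rw [Finset.mem_filter] at hy ⊢
      refine ⟨Finset.mem_univ _, ?_⟩
      intro hmem
      apply hy.2
      have hPH : (P : Subgroup G) ≤ H := Subgroup.le_normalizer.trans hH
      have : y = u⁻¹ * (u * y * h) * h⁻¹ := by group
      rw [this]
      exact H.mul_mem (H.mul_mem (H.inv_mem (hPH hu)) hmem) (H.inv_mem hh))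
  have hHsum : ∑ g ∈ Finset.univ.filter (fun g => g ∈ H), τ g v = (Nat.card H : ℂ) • v := by
    have h1 : ∑ g ∈ Finset.univ.filter (fun g => g ∈ H), τ g v =
        ∑ g ∈ Finset.univ.filter (fun g => g ∈ H), v :=
      Finset.sum_congr rfl fun g hg => hv g (Finset.mem_filter.mp hg).2
    rw [h1, Finset.sum_const, ← Nat.cast_smul_eq_nsmul ℂ]
    congr 2
    rw [Nat.card_eq_fintype_card, Fintype.card_subtype]
  have htot := Finset.sum_filter_add_sum_filter_not Finset.univ (fun g => g ∈ H) (fun g => τ g v)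
  rw [hHsum, hYsum, hsum, ← smul_add] at htot
  have hHne : (Nat.card H : ℂ) ≠ 0 := by
    exact_mod_cast (Nat.card_pos (α := H)).ne'
  have hvm : v + m = 0 := by
    rcases smul_eq_zero.mp htot with h | h
    · exact absurd h hHne
    · exact h
  have hvN : v ∈ N := by
    have : v = -m := eq_neg_of_add_eq_zero_left hvm
    rw [this]
    exact N.neg_mem hm
  -- Nakayama
  have hle : Λ ≤ (maximalIdeal R) • Λ := by
    rw [Submodule.span_le]
    rintro _ ⟨g, rfl⟩
    exact hNG g v hvN
  have hfg : Λ.FG := ⟨(Finset.univ.image fun g : G => τ g v), by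
    rw [Finset.coe_image, Finset.coe_univ, Set.image_univ]⟩
  have hΛ0 : Λ = ⊥ := Submodule.eq_bot_of_le_smul_of_le_jacobson_bot (maximalIdeal R) Λ hfg hle
    (maximalIdeal_le_jacobson _)
  rw [hΛ0] at hvΛ
  exact (Submodule.mem_bot R).mp hvΛ

/-- a character whose restriction along a homomorphism is irreducible has norm one -/
theorem norm_one_of_comp {K J : Type*} [Group K] [Finite K] [Group J] [Fintype J] (f : K →* J)
    {ξ : J → ℂ} (hξ : IsCharacter J ξ) (h : IsIrrCharacter K (ξ ∘ f)) : classInner ξ ξ = 1 := by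
  obtain ⟨l, ρ, rfl⟩ := hξ
  obtain ⟨k', ρ', hρ', hchar⟩ := h
  let ρK : Representation ℂ K (Fin l → ℂ) := ρ.comp f
  have hRK : ρK.IsIrreducible := by
    refine Cfsg.Agent.S4937.isIrreducible_of_character_eq ρ' ρK hρ' ?_
    rw [hchar]
    rfl
  apply Cfsg.Agent.Lib.CharBasic.classInner_irr_self
  refine ⟨l, ρ, ?_, rfl⟩
  rw [Cfsg.Agent.Lib.CharBasic.isIrreducible_iff] at hRK ⊢
  refine ⟨hRK.1, fun U hU => hRK.2 U fun n v hv => ?_⟩
  exact hU (f n) v hv

theorem exists_val (p : ℕ) [hpf : Fact p.Prime] : ∃ R : ValuationSubring ℂ, (p : ℂ) ∈ R.nonunits := by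
  let A : Subring ℂ := (Int.castRingHom ℂ).range
  have hpA : (p : ℂ) ∈ A := natCast_mem A p
  let I : Ideal A := Ideal.span {⟨(p : ℂ), hpA⟩}
  have hI : I ≠ ⊤ := by
    intro e
    rw [Ideal.span_singleton_eq_top] at e
    obtain ⟨y, hy⟩ := e.exists_right_inv
    obtain ⟨z, hz⟩ := y.2
    have h1 : ((p : ℂ)) * (y : ℂ) = 1 := congrArg Subtype.val hy
    rw [← hz] at h1
    have h2 : ((p : ℤ) * z : ℤ) = 1 := by
      have : (((p : ℤ) * z : ℤ) : ℂ) = ((1 : ℤ) : ℂ) := by
        push_cast
        simpa using h1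
      exact_mod_cast this
    have h3 : (p : ℤ) ∣ 1 := ⟨z, h2.symm⟩
    have h4 : p ∣ 1 := by exact_mod_cast h3
    exact hpf.out.one_lt.ne' (Nat.dvd_one.mp h4)
  obtain ⟨V, -, hV2⟩ := Ideal.image_subset_nonunits_valuationSubring I hI
  exact ⟨V, hV2 ⟨⟨(p : ℂ), hpA⟩, Ideal.subset_span rfl, rfl⟩⟩

theorem main (P : Sylow p G)
    (hTI : ∀ g : G, g ∉ Subgroup.normalizer ((P : Subgroup G) : Set G) →
      (P : Subgroup G) ⊓ (MulAut.conj g • (P : Subgroup G)) = ⊥)
    (χ : G → ℂ) (hχ : IsCharacter G χ) (hdeg : charDegree χ ^ 2 ≤ Nat.card ↥(P : Subgroup G))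
    (H : Subgroup G) [Fintype ↥H] (hH : Subgroup.normalizer ((P : Subgroup G) : Set G) ≤ H) :
    classInner χ χ = classInner (fun h : ↥H => χ h) (fun h : ↥H => χ h) := by
  classical
  open Cfsg.Agent.Lib.CharBasic Cfsg.Agent.Lib.CharKernel in
  have hPH : (P : Subgroup G) ≤ H := Subgroup.le_normalizer.trans hH
  letI : Fintype (P : Subgroup G) := Fintype.ofFinite _
  let θ : G → ℂ := fun g => χ g * (starRingEnd ℂ) (χ g)
  have hθ : IsCharacter G θ := Cfsg.Agent.Lib.CharBasic.isCharacter_mul hχ (Cfsg.Agent.Lib.CharTable.isCharacter_conj hχ)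
  obtain ⟨n, τ, hτ⟩ := hθ
  have hτv : ∀ g, LinearMap.trace ℂ (Fin n → ℂ) (τ g) = θ g := fun g => congrFun hτ g
  have hn : (n : ℂ) = ((charDegree χ ^ 2 : ℕ) : ℂ) := by
    have h1 : τ.character 1 = n := Cfsg.Agent.Lib.CharBasic.char_one_eq_rep τ
    rw [hτ] at h1
    rw [← h1]
    show χ 1 * (starRingEnd ℂ) (χ 1) = _
    rw [Cfsg.Agent.Lib.CharKernel.one_eq_charDegree hχ]
    simp [sq]
  have hn' : n = charDegree χ ^ 2 := by exact_mod_cast hn
  by_cases hli : ∃ x : Fin n → ℂ, LinearIndependent ℂ (fun u : (P : Subgroup G) => τ u x)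
  · -- the regular case
    obtain ⟨x, hx⟩ := hli
    have hcard : Fintype.card (P : Subgroup G) = Module.finrank ℂ (Fin n → ℂ) := by
      apply le_antisymm hx.fintype_card_le_finrank
      rw [Module.finrank_fin_fun, hn', ← Nat.card_eq_fintype_card]
      exact hdeg
    have hcn : Nat.card (P : Subgroup G) = n := by
      rw [Nat.card_eq_fintype_card, hcard, Module.finrank_fin_fun]
    haveI : Nonempty (P : Subgroup G) := ⟨1⟩
    let b := basisOfLinearIndependentOfCardEqFinrank hx hcard
    have hb : ∀ u, b u = τ u x := fun u => by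
      simp [b]
    have hzero : ∀ v : (P : Subgroup G), v ≠ 1 → χ v = 0 := by
      intro v hv
      have h1 : LinearMap.trace ℂ (Fin n → ℂ) (τ v) = 0 := by
        rw [LinearMap.trace_eq_matrix_trace ℂ b, Matrix.trace]
        refine Finset.sum_eq_zero fun u _ => ?_
        rw [Matrix.diag_apply, LinearMap.toMatrix_apply]
        have h2 : τ v (b u) = b (v * u) := by
          rw [hb, hb]
          push_cast
          rw [map_mul]
          rfl
        rw [h2, Module.Basis.repr_self, Finsupp.single_apply, if_neg]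
        intro e
        exact hv (mul_eq_right.mp e)
      rw [hτv] at h1
      have h3 : χ v * (starRingEnd ℂ) (χ v) = 0 := h1
      rcases mul_eq_zero.mp h3 with h4 | h4
      · exact h4
      · exact (map_eq_zero _).mp h4
    have hPnorm : classInner (fun u : (P : Subgroup G) => χ u) (fun u : (P : Subgroup G) => χ u) = 1 := by
      unfold classInner
      rw [Finset.sum_eq_single (1 : (P : Subgroup G))]
      · have h1 : (χ ((1 : (P : Subgroup G)) : G)) = charDegree χ := by
          rw [Subgroup.coe_one, Cfsg.Agent.Lib.CharKernel.one_eq_charDegree hχ]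
        beta_reduce
        rw [h1]
        simp only [Complex.conj_natCast]
        rw [hcn]
        have h2 : ((charDegree χ : ℂ)) * (charDegree χ : ℂ) = n := by
          rw [hn]
          push_cast
          ring
        rw [h2]
        have hn0 : (n : ℂ) ≠ 0 := by
          rw [← hcn]
          exact_mod_cast (Nat.card_pos (α := (P : Subgroup G))).ne'
        field_simp
      · intro u _ hu
        beta_reduce
        rw [hzero u hu, zero_mul]
      · intro h
        exact absurd (Finset.mem_univ _) h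
    have hPirr : IsIrrCharacter (P : Subgroup G) (fun u : (P : Subgroup G) => χ u) :=
      Cfsg.Agent.Lib.CharBasic.isIrrCharacter_of_norm_one
        (Cfsg.Agent.Lib.CharBasic.isCharacter_restrict _ hχ) hPnorm
    have h1 : classInner χ χ = 1 :=
      norm_one_of_comp (P : Subgroup G).subtype hχ hPirr
    have h2 : classInner (fun h : ↥H => χ h) (fun h : ↥H => χ h) = 1 :=
      norm_one_of_comp (Subgroup.inclusion hPH)
        (Cfsg.Agent.Lib.CharBasic.isCharacter_restrict H hχ) hPirr
    rw [h1, h2]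
  · -- the main case
    push Not at hli
    obtain ⟨R, hpR⟩ := exists_val p
    have hGne : (Nat.card G : ℂ) ≠ 0 := by exact_mod_cast (Nat.card_pos (α := G)).ne'
    have hHne : (Nat.card H : ℂ) ≠ 0 := by exact_mod_cast (Nat.card_pos (α := H)).ne'
    let eG : (Fin n → ℂ) →ₗ[ℂ] (Fin n → ℂ) := (Nat.card G : ℂ)⁻¹ • ∑ g : G, τ g
    let eH : (Fin n → ℂ) →ₗ[ℂ] (Fin n → ℂ) := (Nat.card H : ℂ)⁻¹ • ∑ h : H, τ h
    have heG : ∀ x, eG x = (Nat.card G : ℂ)⁻¹ • ∑ g : G, τ g x := fun x => by
      simp [eG, LinearMap.sum_apply]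
    have heH : ∀ x, eH x = (Nat.card H : ℂ)⁻¹ • ∑ h : H, τ h x := fun x => by
      simp [eH, LinearMap.sum_apply]
    have hG1 : ∀ (g : G) x, τ g (eG x) = eG x := by
      intro g x
      rw [heG, map_smul, map_sum]
      congr 1
      refine Fintype.sum_equiv (Equiv.mulLeft g) _ _ fun y => ?_
      simp [map_mul]
    have hG2 : ∀ (g : G) x, eG (τ g x) = eG x := by
      intro g x
      rw [heG, heG]
      congr 1
      refine Fintype.sum_equiv (Equiv.mulRight g) _ _ fun y => ?_
      simp [map_mul]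
    have hH1 : ∀ h ∈ H, ∀ x, τ h (eH x) = eH x := by
      intro h hh x
      rw [heH, map_smul, map_sum]
      congr 1
      refine Fintype.sum_equiv (Equiv.mulLeft (⟨h, hh⟩ : H)) _ _ fun y => ?_
      simp [map_mul]
    -- `H`-fixed vectors are `G`-fixed
    have hfix : ∀ v, (∀ h ∈ H, τ h v = v) → eG v = v := by
      intro v hv
      have hw : ∀ h ∈ H, τ h (v - eG v) = v - eG v := by
        intro h hh
        rw [map_sub, hv h hh, hG1]
      have hsum : ∑ g : G, τ g (v - eG v) = 0 := by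
        have h1 : ∑ g : G, τ g (v - eG v) = ∑ g : G, τ g v - ∑ g : G, eG v := by
          rw [← Finset.sum_sub_distrib]
          refine Finset.sum_congr rfl fun g _ => ?_
          rw [map_sub, hG1]
        have h2 : ∑ g : G, eG v = ∑ g : G, τ g v := by
          rw [Finset.sum_const, Finset.card_univ, ← Nat.card_eq_fintype_card,
            ← Nat.cast_smul_eq_nsmul ℂ, heG, smul_smul, mul_inv_cancel₀ hGne, one_smul]
        rw [h1, h2, sub_self]
      have h3 := eq_zero_of_sum R P hTI H hH τ hpR hli hw hsum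
      exact (sub_eq_zero.mp h3).symm
    have heq : eG = eH := by
      refine LinearMap.ext fun x => ?_
      have h1 : eG (eH x) = eH x := hfix _ (fun h hh => hH1 h hh x)
      have h2 : eG (eH x) = eG x := by
        rw [heH, map_smul, map_sum]
        simp only [hG2]
        rw [Finset.sum_const, Finset.card_univ, ← Nat.card_eq_fintype_card,
          ← Nat.cast_smul_eq_nsmul ℂ, smul_smul, inv_mul_cancel₀ hHne, one_smul]
      rw [← h2, h1]
    have ht1 : classInner χ χ = LinearMap.trace ℂ (Fin n → ℂ) eG := by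
      unfold classInner
      simp only [eG, map_smul, map_sum, hτv, smul_eq_mul]
      rfl
    have ht2 : classInner (fun h : ↥H => χ h) (fun h : ↥H => χ h) = LinearMap.trace ℂ (Fin n → ℂ) eH := by
      unfold classInner
      simp only [eH, map_smul, map_sum, hτv, smul_eq_mul]
      rfl
    rw [ht1, ht2, heq]

end main

/-- Let P be a Sylow p-subgroup of the finite group G that meets each conjugate g P g⁻¹ with g outside N_G(P) trivially, χ a character of G with χ(1)² ≤ |P|, and H a subgroup of G containing N_G(P). Then the inner product of χ with itself over G equals the inner product over H of the restriction of χ to H. -/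
theorem result {G : Type*} [Group G] [Fintype G] [DecidableEq G] (p : ℕ) [Fact p.Prime] (P : Sylow p G) (hTI : ∀ g : G, g ∉ Subgroup.normalizer ((P : Subgroup G) : Set G) → (P : Subgroup G) ⊓ (MulAut.conj g • (P : Subgroup G)) = ⊥) (χ : G → ℂ) (hχ : Cfsg.IsCharacter G χ) (hdeg : Cfsg.charDegree χ ^ 2 ≤ Nat.card ↥(P : Subgroup G)) (H : Subgroup G) [Fintype ↥H] (hH : Subgroup.normalizer ((P : Subgroup G) : Set G) ≤ H) : Cfsg.classInner χ χ = Cfsg.classInner (fun h : ↥H => χ h) (fun h : ↥H => χ h) :=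
  main P hTI χ hχ hdeg H hH

end Cfsg.Agent.S4750
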