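import Mathlib
import Cfsg.Statements.S4763
import Cfsg.Agent.Lib.CharTwist
import Cfsg.Agent.Lib.CharProduct
import Cfsg.Agent.Lib.CharTable
import Cfsg.Agent.Lib.CharIntegrality
import Cfsg.Agent.Lib.PComplement
import Cfsg.Agent.Lib.Derangement
import Cfsg.Agent.Lib.GenChar

set_option autoImplicit false
set_option linter.style.haveILetI false

open Cfsg

namespace Cfsg.Agent.S4763

open Cfsg.Agent.Lib.CharBasic Cfsg.Agent.Lib.CharInd Cfsg.Agent.Lib.CharKernel
  Cfsg.Agent.Lib.CharCentral Cfsg.Agent.Lib.CharProduct Cfsg.Agent.Lib.CharTwist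
  Cfsg.Agent.Lib.CharDecomp Cfsg.Agent.Lib.CharInduction Cfsg.Agent.Lib.CharClifford
  Cfsg.Agent.Lib.CharAvg
open scoped ComplexConjugate Pointwise commutatorElement

universe u

section Jordan

/-- A finite group is not the union of the conjugates of a proper subgroup. -/
theorem exists_not_conj {H : Type*} [Group H] [Finite H] (D : Subgroup H) (hD : D ≠ ⊤) :
    ∃ x : H, ∀ a : H, a * x * a⁻¹ ∉ D := by
  classical
  letI := Fintype.ofFinite H
  by_contra hno
  push Not at hno
  have h1 := Cfsg.Agent.Lib.Derangement.burnside H (H ⧸ D)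
  have h2 := Cfsg.Agent.Lib.Derangement.card_quotient_of_pretransitive H (H ⧸ D)
  rw [h2, one_mul] at h1
  have hfix : ∀ g : H, 1 ≤ Nat.card (MulAction.fixedBy (H ⧸ D) g) := by
    intro g
    obtain ⟨a, ha⟩ := hno g
    have hmem : ((QuotientGroup.mk a⁻¹ : H ⧸ D)) ∈ MulAction.fixedBy (H ⧸ D) g := by
      rw [MulAction.mem_fixedBy]
      show (QuotientGroup.mk (g * a⁻¹) : H ⧸ D) = QuotientGroup.mk a⁻¹
      rw [QuotientGroup.eq]
      have h3 : (g * a⁻¹)⁻¹ * a⁻¹ = (a * g * a⁻¹)⁻¹ := by group
      rw [h3]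
      exact D.inv_mem ha
    haveI : Nonempty (MulAction.fixedBy (H ⧸ D) g) := ⟨⟨_, hmem⟩⟩
    exact Nat.one_le_iff_ne_zero.mpr (Nat.card_pos).ne'
  have hidx : 2 ≤ D.index := by
    have h3 : D.index ≠ 0 := Subgroup.index_ne_zero_of_finite
    have h4 : D.index ≠ 1 := fun h => hD (Subgroup.index_eq_one.mp h)
    omega
  have h1' := Finset.add_sum_erase Finset.univ (fun g : H => Nat.card (MulAction.fixedBy (H ⧸ D) g))
    (Finset.mem_univ (1 : H))
  have h5 : Nat.card (MulAction.fixedBy (H ⧸ D) (1 : H)) = D.index := by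
    have h6 : MulAction.fixedBy (H ⧸ D) (1 : H) = Set.univ := by
      ext x
      simp
    rw [h6]
    simp [Subgroup.index]
  have h7 : (Finset.univ.erase (1 : H)).card ≤
      ∑ g ∈ Finset.univ.erase (1 : H), Nat.card (MulAction.fixedBy (H ⧸ D) g) := by
    rw [Finset.card_eq_sum_ones]
    exact Finset.sum_le_sum fun g _ => hfix g
  have h8 : (Finset.univ.erase (1 : H)).card + 1 = Nat.card H := by
    rw [Finset.card_erase_add_one (Finset.mem_univ _), Finset.card_univ, Nat.card_eq_fintype_card]
  have h9 : ∑ g : H, Nat.card (MulAction.fixedBy (H ⧸ D) g) = Nat.card H := h1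
  rw [h5, h9] at h1'
  omega

end Jordan

section GroupLemmas

variable {G : Type*} [Group G] [Finite G] {p : ℕ} [hp : Fact p.Prime] {N : Subgroup G} [hNn : N.Normal]

/-- Elements of order prime to `p` lie in a normal subgroup of `p`-power index. -/
theorem mem_of_coprime_order {k : ℕ} (hk : N.index = p ^ k) {b : G}
    (hb : Nat.Coprime (orderOf b) p) : b ∈ N := by
  have h1 : orderOf (b : G ⧸ N) ∣ orderOf b := orderOf_map_dvd (QuotientGroup.mk' N) b
  have h2 : orderOf (b : G ⧸ N) ∣ p ^ k := by
    rw [← hk]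
    exact orderOf_dvd_natCard _
  have h3 : Nat.Coprime (orderOf b) (p ^ k) := Nat.Coprime.pow_right k hb
  have h4 := Nat.Coprime.eq_one_of_dvd (Nat.Coprime.coprime_dvd_left h1 h3) h2
  have h5 : (b : G ⧸ N) = 1 := orderOf_eq_one_iff.mp h4
  exact (QuotientGroup.eq_one_iff b).mp h5

/-- If `x` and `y` commute and have coprime orders, then `x` is a power of `x * y`. -/
theorem exists_pow_eq_of_commute {x y : G} {m : ℕ} (hc : Commute x y) (hy : y ^ m = 1)
    (hcop : Nat.Coprime (orderOf x) m) : ∃ r : ℕ, (x * y) ^ r = x := by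
  obtain ⟨r, hr1, hr2⟩ := Nat.chineseRemainder hcop 1 0
  refine ⟨r, ?_⟩
  rw [hc.mul_pow]
  have h1 : x ^ r = x := by
    conv_rhs => rw [← pow_one x]
    exact pow_eq_pow_iff_modEq.mpr hr1
  have h2 : y ^ r = 1 := by
    have h3 : m ∣ r := (Nat.modEq_zero_iff_dvd).mp hr2
    obtain ⟨c, rfl⟩ := h3
    rw [pow_mul, hy, one_pow]
  rw [h1, h2, mul_one]

/-- The key lemma: an element of `N` commuting with an element outside `N`, when the elements
outside `N` have centralizers of order divisible by the `p`-part. -/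
theorem conj_of_commute {k : ℕ} (hNp : (Nat.card N).Coprime p) (hk : N.index = p ^ k)
    (hF : ∀ g, g ∉ N → p ^ k ∣ Nat.card (Subgroup.centralizer ({g} : Set G)))
    {x w : G} (hx : x ∈ N) (hw : w ∉ N) (hc : w * x = x * w) :
    ∀ a : G, ∃ n ∈ N, a * x * a⁻¹ = n * x * n⁻¹ := by
  classical
  obtain ⟨a₀, b₀, hab, ha₀, hb₀, ⟨j, hj⟩, hbc⟩ := Cfsg.Agent.Lib.PComplement.exists_decomp p w
  have hbN : b₀ ∈ N := mem_of_coprime_order hk hbc
  have haN : a₀ ∉ N := by
    intro h
    exact hw (hab ▸ N.mul_mem h hbN)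
  -- `a₀` commutes with `x`
  have hcomm : Commute x a₀ := by
    obtain ⟨i, rfl⟩ := Subgroup.mem_zpowers_iff.mp ha₀
    exact (Commute.zpow_right (show Commute x w from hc.symm) i)
  have hxord : Nat.Coprime (orderOf x) (p ^ j) := by
    apply Nat.Coprime.pow_right
    have : orderOf x ∣ Nat.card N := by
      have := Subgroup.orderOf_dvd_natCard N hx
      exact this
    exact Nat.Coprime.coprime_dvd_left this hNp
  obtain ⟨r, hr⟩ := exists_pow_eq_of_commute hcomm hj hxord
  have hg : x * a₀ ∉ N := by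
    intro h
    apply haN
    have : a₀ = x⁻¹ * (x * a₀) := by group
    rw [this]
    exact N.mul_mem (N.inv_mem hx) h
  have hdvd1 := hF _ hg
  -- centralizer containment
  have hle : Subgroup.centralizer ({x * a₀} : Set G) ≤ Subgroup.centralizer ({x} : Set G) := by
    intro z hz
    rw [Subgroup.mem_centralizer_singleton_iff] at hz ⊢
    have h2 : Commute z (x * a₀) := hz
    have h3 : Commute z x := by
      have := h2.pow_right r
      rwa [hr] at this
    exact h3
  set C := Subgroup.centralizer ({x} : Set G) with hC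
  have hdvd2 : p ^ k ∣ Nat.card C := hdvd1.trans (Subgroup.card_dvd_of_le hle)
  -- `N ⊔ C = ⊤`
  have hsup : N ⊔ C = ⊤ := by
    rw [← Subgroup.index_eq_one]
    have h1 : (N ⊔ C).index ∣ p ^ k := by
      rw [← hk]
      exact Subgroup.index_dvd_of_le le_sup_left
    have h2 : (N ⊔ C).index ∣ C.index := Subgroup.index_dvd_of_le le_sup_right
    have h3 : C.index ∣ Nat.card N := by
      obtain ⟨c, hc'⟩ := hdvd2
      have h4 := Subgroup.card_mul_index C
      have h5 := Subgroup.card_mul_index N
      rw [hk] at h5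
      rw [← h5, hc'] at h4
      have h6 : p ^ k * (c * C.index) = p ^ k * Nat.card N := by
        rw [← mul_assoc, h4, mul_comm]
      have h7 := Nat.eq_of_mul_eq_mul_left (pow_pos hp.out.pos k) h6
      exact ⟨c, by rw [← h7]; ring⟩
    have h4 : Nat.Coprime (N ⊔ C).index (p ^ k) :=
      Nat.Coprime.pow_right k (Nat.Coprime.coprime_dvd_left (h2.trans h3) hNp)
    exact Nat.Coprime.eq_one_of_dvd h4 h1
  intro a
  have ha : a ∈ ((N ⊔ C : Subgroup G) : Set G) := by
    rw [hsup]
    trivial
  rw [Subgroup.normal_mul] at ha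
  obtain ⟨n, hn, c, hc', rfl⟩ := Set.mem_mul.mp ha
  refine ⟨n, hn, ?_⟩
  have h5 : c * x = x * c := by
    have h6 : c ∈ Subgroup.centralizer ({x} : Set G) := hc'
    exact Subgroup.mem_centralizer_singleton_iff.mp h6
  calc n * c * x * (n * c)⁻¹ = n * (c * x) * c⁻¹ * n⁻¹ := by group
    _ = n * (x * c) * c⁻¹ * n⁻¹ := by rw [h5]
    _ = n * x * n⁻¹ := by group

/-- The class size in terms of the centralizer. -/
theorem card_carrier_mk (x : G) :
    Nat.card (ConjClasses.mk x).carrier = Nat.card {y : G // IsConj x y} := by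
  apply Nat.card_congr
  apply Equiv.subtypeEquivRight
  intro y
  rw [ConjClasses.mem_carrier_iff_mk_eq, ConjClasses.mk_eq_mk_iff_isConj]
  exact ⟨fun h => h.symm, fun h => h.symm⟩

theorem card_class_mul (x : G) :
    Nat.card (ConjClasses.mk x).carrier * Nat.card (Subgroup.centralizer ({x} : Set G)) =
      Nat.card G := by
  letI := Fintype.ofFinite G
  rw [card_carrier_mk]
  exact card_conj_mul_card_centralizer x

/-- Conjugation on the classes of `N`. -/
noncomputable def cmap (hN : N.Normal) (u : G) : ConjClasses N → ConjClasses N :=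
  ConjClasses.map (conjAut N hN u).toMonoidHom

theorem cmap_mk (hN : N.Normal) (u : G) (n : N) :
    cmap hN u (ConjClasses.mk n) = ConjClasses.mk (conjAut N hN u n) := rfl

theorem cmap_cmap (hN : N.Normal) (a b : G) (K : ConjClasses N) :
    cmap hN a (cmap hN b K) = cmap hN (a * b) K := by
  obtain ⟨n, rfl⟩ := ConjClasses.mk_surjective K
  rw [cmap_mk, cmap_mk, cmap_mk]
  congr 1
  apply Subtype.ext
  simp only [conjAut_apply]
  group

theorem cmap_one (hN : N.Normal) (K : ConjClasses N) : cmap hN 1 K = K := by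
  obtain ⟨n, rfl⟩ := ConjClasses.mk_surjective K
  rw [cmap_mk]
  congr 1
  apply Subtype.ext
  simp [conjAut_apply]

/-- A class of `N` fixed by an element outside `N` is `G`-invariant. -/
theorem fixed_of_fixed (hN : N.Normal) {k : ℕ} (hNp : (Nat.card N).Coprime p) (hk : N.index = p ^ k)
    (hF : ∀ g, g ∉ N → p ^ k ∣ Nat.card (Subgroup.centralizer ({g} : Set G)))
    {K : ConjClasses N} {v : G} (hv : v ∉ N) (hK : cmap hN v K = K) (a : G) : cmap hN a K = K := by
  obtain ⟨n, rfl⟩ := ConjClasses.mk_surjective K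
  rw [cmap_mk, ConjClasses.mk_eq_mk_iff_isConj] at hK
  obtain ⟨m, hm⟩ := isConj_iff.mp hK
  have hm' : (m : G) * (v * n * v⁻¹) * (m : G)⁻¹ = n := congrArg Subtype.val hm
  have hw : (m : G) * v ∉ N := by
    intro h
    apply hv
    have : v = (m : G)⁻¹ * ((m : G) * v) := by group
    rw [this]
    exact N.mul_mem (N.inv_mem m.2) h
  have hc : (m : G) * v * n = n * ((m : G) * v) := by
    conv_rhs => rw [← hm']
    group
  obtain ⟨n', hn', h⟩ := conj_of_commute hNp hk hF n.2 hw hc a
  rw [cmap_mk, ConjClasses.mk_eq_mk_iff_isConj]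
  apply IsConj.symm
  rw [isConj_iff]
  refine ⟨⟨n', hn'⟩, ?_⟩
  apply Subtype.ext
  simp only [Subgroup.coe_mul, InvMemClass.coe_inv, conjAut_apply]
  exact h.symm

/-- Classes outside `N` have size prime to `p`. -/
theorem not_dvd_class_of_not_mem {k : ℕ} (hNp : (Nat.card N).Coprime p) (hk : N.index = p ^ k)
    (hF : ∀ g, g ∉ N → p ^ k ∣ Nat.card (Subgroup.centralizer ({g} : Set G))) {g : G} (hg : g ∉ N) :
    ¬ p ∣ Nat.card (ConjClasses.mk g).carrier := by
  intro hd
  have h1 := card_class_mul g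
  have h2 := Subgroup.card_mul_index N
  rw [hk] at h2
  obtain ⟨c, hc⟩ := hF g hg
  rw [hc, ← h2] at h1
  have h3 : p ^ k * (Nat.card (ConjClasses.mk g).carrier * c) = p ^ k * Nat.card N := by
    rw [mul_comm (p ^ k) (Nat.card N), ← h1]
    ring
  have h4 := Nat.eq_of_mul_eq_mul_left (pow_pos hp.out.pos k) h3
  have h5 : p ∣ Nat.card N := by
    rw [← h4]
    exact hd.mul_right _
  have h6 := Nat.Coprime.eq_one_of_dvd hNp.symm h5
  exact hp.out.one_lt.ne' h6

/-- Invariant classes of `N` have size prime to `p`. -/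
theorem not_dvd_class_of_fixed (hN : N.Normal) (hNp : (Nat.card N).Coprime p) (n : N)
    (hfix : ∀ a, cmap hN a (ConjClasses.mk n) = ConjClasses.mk n) :
    ¬ p ∣ Nat.card (ConjClasses.mk (n : G)).carrier := by
  classical
  intro hd
  letI := Fintype.ofFinite N
  have h1 := card_conj_mul_card_centralizer n
  have h2 : Nat.card (ConjClasses.mk (n : G)).carrier = Nat.card {y : N // IsConj n y} := by
    rw [card_carrier_mk]
    symm
    apply Nat.card_congr
    refine Equiv.ofBijective (fun y : {y : N // IsConj n y} =>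
      (⟨(y.1 : G), ?_⟩ : {y : G // IsConj (n : G) y})) ⟨?_, ?_⟩
    · exact MonoidHom.map_isConj N.subtype y.2
    · rintro ⟨a, ha⟩ ⟨b, hb⟩ h
      have h' := congrArg Subtype.val h
      apply Subtype.ext
      apply Subtype.ext
      exact h'
    · rintro ⟨y, hy⟩
      obtain ⟨a, rfl⟩ := isConj_iff.mp hy
      have h3 := hfix a
      rw [cmap_mk, ConjClasses.mk_eq_mk_iff_isConj] at h3
      exact ⟨⟨conjAut N hN a n, h3.symm⟩, rfl⟩
  rw [h2] at hd
  have h5 : p ∣ Nat.card N := by
    rw [← h1]
    exact hd.mul_right _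
  have h6 := Nat.Coprime.eq_one_of_dvd hNp.symm h5
  exact hp.out.one_lt.ne' h6

/-- The final count: exactly one class has size divisible by `p`. -/
theorem final_count (hN : N.Normal) {k : ℕ} (hNp : (Nat.card N).Coprime p) (hk : N.index = p ^ k)
    (hk0 : k ≠ 0)
    (hF : ∀ g, g ∉ N → p ^ k ∣ Nat.card (Subgroup.centralizer ({g} : Set G)))
    (hM : ∀ u, u ∉ N → Nat.card {K : ConjClasses N // cmap hN u K ≠ K} = p ^ k) :
    Nat.card {C : ConjClasses G // p ∣ Nat.card C.carrier} = 1 := by
  classical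
  have hpk : 1 < p ^ k := Nat.one_lt_pow hk0 hp.out.one_lt
  -- some element outside `N`
  obtain ⟨u, hu⟩ : ∃ u, u ∉ N := by
    by_contra hno
    push Not at hno
    have : N = ⊤ := by
      rw [eq_top_iff]
      intro x _
      exact hno x
    rw [this, Subgroup.index_top] at hk
    omega
  have hcardM := hM u hu
  have hne : Nonempty {K : ConjClasses N // cmap hN u K ≠ K} := by
    haveI : Finite {K : ConjClasses N // cmap hN u K ≠ K} := inferInstance
    apply (Nat.card_pos_iff.mp _).1
    omega
  obtain ⟨⟨K₁, hK₁⟩⟩ := hne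
  obtain ⟨n₁, rfl⟩ := ConjClasses.mk_surjective K₁
  -- non-invariance
  have hnotfix : ∀ v, v ∉ N → cmap hN v (ConjClasses.mk n₁) ≠ ConjClasses.mk n₁ := by
    intro v hv h
    exact hK₁ (fixed_of_fixed hN hNp hk hF hv h u)
  -- the class has size divisible by `p`
  have hdvd₁ : p ∣ Nat.card (ConjClasses.mk (n₁ : G)).carrier := by
    have hle : Subgroup.centralizer ({(n₁ : G)} : Set G) ≤ N := by
      intro c hc
      by_contra hcN
      apply hnotfix c hcN
      rw [cmap_mk, ConjClasses.mk_eq_mk_iff_isConj]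
      have h5 : conjAut N hN c n₁ = n₁ := by
        apply Subtype.ext
        rw [conjAut_apply]
        have h6 : c * n₁ = n₁ * c := Subgroup.mem_centralizer_singleton_iff.mp hc
        rw [h6]
        group
      rw [h5]
    obtain ⟨r, hr⟩ := Subgroup.card_dvd_of_le hle
    have h1 := card_class_mul (n₁ : G)
    have h2 := Subgroup.card_mul_index N
    rw [hk, hr, ← h1] at h2
    have h3 : 0 < Nat.card (Subgroup.centralizer ({(n₁ : G)} : Set G)) := Nat.card_pos
    have h4 : Nat.card (ConjClasses.mk (n₁ : G)).carrier = r * p ^ k := by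
      apply Nat.eq_of_mul_eq_mul_right h3
      rw [← h2]
      ring
    rw [h4]
    exact Dvd.dvd.mul_left (dvd_pow_self p hk0) _
  rw [Nat.card_eq_one_iff_unique]
  refine ⟨⟨?_⟩, ⟨⟨ConjClasses.mk (n₁ : G), hdvd₁⟩⟩⟩
  -- uniqueness: everything equals the class of `n₁`
  suffices key : ∀ C : {C : ConjClasses G // p ∣ Nat.card C.carrier},
      C = ⟨ConjClasses.mk (n₁ : G), hdvd₁⟩ by
    intro a b
    rw [key a, key b]
  rintro ⟨C, hC⟩
  apply Subtype.ext
  show C = ConjClasses.mk (n₁ : G)
  obtain ⟨g₂, rfl⟩ := ConjClasses.mk_surjective C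
  have hg₂ : g₂ ∈ N := by
    by_contra h
    exact not_dvd_class_of_not_mem hNp hk hF h hC
  set n₂ : N := ⟨g₂, hg₂⟩ with hn₂
  have hK₂ : cmap hN u (ConjClasses.mk n₂) ≠ ConjClasses.mk n₂ := by
    intro h
    exact not_dvd_class_of_fixed hN hNp n₂ (fun a => fixed_of_fixed hN hNp hk hF hu h a) hC
  -- the orbit map
  let f : G ⧸ N → {K : ConjClasses N // cmap hN u K ≠ K} := fun c =>
    ⟨cmap hN (Quotient.out c) (ConjClasses.mk n₁), by
      intro h
      have hconj : (Quotient.out c)⁻¹ * u * Quotient.out c ∉ N := by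
        intro h2
        apply hu
        have h3 := hNn.conj_mem _ h2 (Quotient.out c)
        simpa [mul_assoc] using h3
      apply hnotfix _ hconj
      have h4 := congrArg (cmap hN (Quotient.out c)⁻¹) h
      rw [cmap_cmap, cmap_cmap, cmap_cmap, inv_mul_cancel, cmap_one] at h4
      exact h4⟩
  have hfinj : Function.Injective f := by
    intro c d h
    have h1 : cmap hN (Quotient.out c) (ConjClasses.mk n₁) =
        cmap hN (Quotient.out d) (ConjClasses.mk n₁) := congrArg Subtype.val h
    have h2 := congrArg (cmap hN (Quotient.out d)⁻¹) h1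
    rw [cmap_cmap, cmap_cmap, inv_mul_cancel, cmap_one] at h2
    by_contra hne'
    have h3 : (Quotient.out d)⁻¹ * Quotient.out c ∉ N := by
      intro hmem
      apply hne'
      rw [← Quotient.out_eq c, ← Quotient.out_eq d]
      exact (QuotientGroup.eq.mpr hmem).symm
    exact hnotfix _ h3 h2
  have hbij := hfinj.bijective_of_nat_card_le (by
    rw [hcardM]
    exact hk.symm.le)
  obtain ⟨c, hc⟩ := hbij.2 ⟨ConjClasses.mk n₂, hK₂⟩
  have h5 : cmap hN (Quotient.out c) (ConjClasses.mk n₁) = ConjClasses.mk n₂ :=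
    congrArg Subtype.val hc
  rw [cmap_mk, ConjClasses.mk_eq_mk_iff_isConj] at h5
  have h6 : IsConj ((conjAut N hN (Quotient.out c) n₁ : N) : G) (n₂ : G) := MonoidHom.map_isConj N.subtype h5
  rw [conjAut_apply] at h6
  have h7 : IsConj (n₁ : G) (Quotient.out c * n₁ * (Quotient.out c)⁻¹) :=
    isConj_iff.mpr ⟨_, rfl⟩
  rw [ConjClasses.mk_eq_mk_iff_isConj]
  exact (h7.trans h6).symm

end GroupLemmas

section CharLemmas

variable {G : Type*} [Group G] [Finite G]

/-- A character vanishing off the identity on a subgroup has degree divisible by its order. -/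
theorem card_dvd_degree_of_vanish (H : Subgroup G) {χ : G → ℂ} (hχ : IsCharacter G χ)
    (hvan : ∀ h ∈ H, h ≠ 1 → χ h = 0) : Nat.card H ∣ charDegree χ := by
  classical
  letI := Fintype.ofFinite H
  obtain ⟨m, hm⟩ := classInner_char_irr (isCharacter_restrict H hχ) (isIrrCharacter_one (G := H))
  unfold classInner at hm
  have h1 : ∑ h : H, χ (h : G) * conj (1 : ℂ) = χ 1 := by
    rw [Finset.sum_eq_single (1 : H)]
    · simp
    · intro b _ hb
      rw [hvan b b.2 (fun h => hb (Subtype.ext h))]
      simp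
    · intro h
      exact absurd (Finset.mem_univ _) h
  rw [h1, one_eq_charDegree hχ] at hm
  have hH : (Nat.card H : ℂ) ≠ 0 := natCard_ne_zero'
  have h2 : ((charDegree χ : ℕ) : ℂ) = ((m * Nat.card H : ℕ) : ℂ) := by
    push_cast
    rw [← hm]
    field_simp
  have h3 : charDegree χ = m * Nat.card H := by exact_mod_cast h2
  rw [h3]
  exact dvd_mul_left _ _

variable (N : Subgroup G) [Fintype N]

/-- Existence of constituents of the restriction. -/
theorem exists_constituent {φ : G → ℂ} (hφ : IsIrrCharacter G φ) :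
    ∃ ψ : IrrCharacter N, classInner (fun n : N => φ n) (ψ : N → ℂ) ≠ 0 := by
  classical
  have hc := IsIrrCharacter.isCharacter hφ
  obtain ⟨m, hm⟩ := exists_nat_decomp (isCharacter_restrict N hc)
  have hex : ∃ i : IrrCharacter N, m i ≠ 0 := by
    by_contra hall
    push Not at hall
    have h0 : (fun h : N => φ h) = 0 := by
      rw [hm]
      simp [hall]
    have := congrFun h0 1
    simp only [OneMemClass.coe_one, Pi.zero_apply] at this
    exact Cfsg.Agent.Lib.CharAvg.irr_one_ne_zero hφ this
  obtain ⟨i, hi⟩ := hex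
  refine ⟨i, ?_⟩
  rw [hm, classInner_nat_decomp m i i.2]
  exact_mod_cast hi

/-- Every irreducible character of a subgroup lies under an irreducible character of the group. -/
theorem exists_over [Fintype G] {ψ : N → ℂ} (hψ : IsIrrCharacter N ψ) :
    ∃ φ : IrrCharacter G, classInner (fun n : N => (φ : G → ℂ) n) ψ ≠ 0 := by
  classical
  have hc := IsIrrCharacter.isCharacter hψ
  have hind := indFun_isCharacter N hc
  obtain ⟨m, hm⟩ := exists_nat_decomp hind
  have hex : ∃ i : IrrCharacter G, m i ≠ 0 := by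
    by_contra hall
    push Not at hall
    have h0 : indFun N ψ = 0 := by
      rw [hm]
      simp [hall]
    have h1 := congrFun h0 1
    rw [indFun_one] at h1
    simp only [Pi.zero_apply, mul_eq_zero] at h1
    rcases h1 with h1 | h1
    · have : N.index = 0 := by exact_mod_cast h1
      exact Subgroup.index_ne_zero_of_finite this
    · exact Cfsg.Agent.Lib.CharAvg.irr_one_ne_zero hψ h1
  obtain ⟨i, hi⟩ := hex
  refine ⟨i, ?_⟩
  have h2 : classInner (indFun N ψ) (i : G → ℂ) ≠ 0 := by
    rw [hm, classInner_nat_decomp m i i.2]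
    exact_mod_cast hi
  rw [frobenius N ψ (isClassFunction_of_isCharacter (IsIrrCharacter.isCharacter i.2))] at h2
  intro h0
  apply h2
  have := classInner_conj_symm (fun n : N => (i : G → ℂ) n) ψ
  rw [h0] at this
  simpa using this.symm

end CharLemmas

/-- Subtype complement count. -/
theorem card_compl {α : Type*} [Finite α] (P : α → Prop) :
    Nat.card {x // ¬ P x} + Nat.card {x // P x} = Nat.card α := by
  classical
  rw [add_comm, ← Nat.card_sum]
  exact Nat.card_congr (Equiv.sumCompl P)

section Structure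

variable {G : Type*} [Group G] [Finite G] {p : ℕ} [hp : Fact p.Prime] {N : Subgroup G}

/-- The character theoretic part, for an abelian quotient. -/
theorem abelian_structure {Q : Type*} [CommGroup Q] [Finite Q] (π : G →* Q)
    (hπ : Function.Surjective π) (hker : ∀ g, π g = 1 ↔ g ∈ N) (hN : N.Normal) {k : ℕ}
    (hNp : (Nat.card N).Coprime p) (hk : N.index = p ^ k) (hQ : Nat.card Q = p ^ k)
    {χ : IrrCharacter G} (hχ : p ∣ charDegree (χ : G → ℂ))
    (huniq : ∀ ψ : IrrCharacter G, p ∣ charDegree (ψ : G → ℂ) → ψ = χ) :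
    k ≠ 0 ∧ (∀ g, g ∉ N → p ^ k ∣ Nat.card (Subgroup.centralizer ({g} : Set G))) ∧
      (∀ u, u ∉ N → Nat.card {K : ConjClasses N // cmap hN u K ≠ K} = p ^ k) := by
  classical
  letI := Fintype.ofFinite G
  letI := Fintype.ofFinite N
  letI : Fintype (Q →* ℂˣ) := Fintype.ofFinite _
  have hpp := hp.out
  have hχc := IsIrrCharacter.isCharacter χ.2
  -- (a) the twists fix `χ`
  have htw : ∀ l : Q →* ℂˣ, twist π (χ : G → ℂ) l = χ := by
    intro l
    have := huniq ⟨twist π (χ : G → ℂ) l, isIrrCharacter_twist π χ.2 l⟩ (by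
      show p ∣ charDegree (twist π (χ : G → ℂ) l)
      rw [charDegree_twist]
      exact hχ)
    exact congrArg Subtype.val this
  have hvan : ∀ g, g ∉ N → (χ : G → ℂ) g = 0 := by
    intro g hg
    have h1 : π g ≠ 1 := fun h => hg ((hker g).mp h)
    obtain ⟨l, hl⟩ := exists_hom_ne_one h1
    have h2 := congrFun (htw l) g
    rw [twist_apply] at h2
    by_contra h3
    have h4 : ((l (π g) : ℂˣ) : ℂ) = 1 := by
      apply mul_left_cancel₀ h3
      rw [h2, mul_one]
    exact hl (Units.ext h4)
  have hnorm : classInner (fun n : N => (χ : G → ℂ) n) (fun n : N => (χ : G → ℂ) n) = ((p ^ k : ℕ) : ℂ) := by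
    rw [← card_twistStab π hπ N hker χ.2]
    congr 1
    have h1 : twistStab π (χ : G → ℂ) = ⊤ := by
      rw [eq_top_iff]
      intro l _
      exact htw l
    rw [h1, Subgroup.card_top, card_hom, hQ]
  -- (b) the `p`-part of the degree
  have hcardG : Nat.card G = Nat.card N * p ^ k := by
    rw [← hk]
    exact (Subgroup.card_mul_index N).symm
  have hpN : ¬ p ∣ Nat.card N := (Nat.Prime.coprime_iff_not_dvd hpp).mp hNp.symm
  have hfac : (Nat.card G).factorization p = k := by
    rw [hcardG, Nat.factorization_mul Nat.card_pos.ne' (pow_pos hpp.pos k).ne', Finsupp.add_apply,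
      Nat.factorization_eq_zero_of_not_dvd hpN, Nat.Prime.factorization_pow hpp]
    simp
  have hqdvd : p ^ k ∣ charDegree (χ : G → ℂ) := by
    obtain ⟨S⟩ : Nonempty (Sylow p G) := inferInstance
    have hS : Nat.card (S : Subgroup G) = p ^ k := by
      rw [Sylow.card_eq_multiplicity, hfac]
    rw [← hS]
    apply card_dvd_degree_of_vanish _ hχc
    intro h hh h1
    apply hvan
    intro hhN
    apply h1
    have h2 : orderOf h ∣ Nat.card N := Subgroup.orderOf_dvd_natCard N hhN
    have h3 : orderOf h ∣ p ^ k := by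
      rw [← hS]
      exact Subgroup.orderOf_dvd_natCard _ hh
    have h4 := Nat.Coprime.eq_one_of_dvd
      (Nat.Coprime.pow_right k (Nat.Coprime.coprime_dvd_left h2 hNp)) h3
    exact orderOf_eq_one_iff.mp h4
  -- (c) a constituent of the restriction of `χ`
  obtain ⟨θ, hθ⟩ := exists_constituent N χ.2
  obtain ⟨e, he0, heinner, hdeg, hnorm2⟩ := clifford_numeric N hN χ.2 θ.2 hθ
  set O := Finset.univ.image (fun g : G => conjBy N hN g (θ : N → ℂ)) with hO
  have hnum : e ^ 2 * O.card = p ^ k := by
    rw [hnorm] at hnorm2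
    exact_mod_cast hnorm2.symm
  have ht0 : O.card ≠ 0 := by
    intro h
    rw [h, mul_zero] at hnum
    exact (pow_pos hpp.pos k).ne' hnum.symm
  have hθdvd : charDegree (θ : N → ℂ) ∣ Nat.card N := charDegree_dvd_card θ.2
  have he1 : e = 1 := by
    have h1 : e * O.card * e ∣ e * O.card * charDegree (θ : N → ℂ) := by
      rw [← hdeg]
      have : e * O.card * e = p ^ k := by rw [← hnum]; ring
      rw [this]
      exact hqdvd
    have h2 := Nat.dvd_of_mul_dvd_mul_left (Nat.pos_of_ne_zero (mul_ne_zero he0 ht0)) h1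
    have h3 : e ∣ p ^ k := by
      rw [← hnum]
      exact ⟨e * O.card, by ring⟩
    obtain ⟨j, -, hj⟩ := (Nat.dvd_prime_pow hpp).mp h3
    by_contra hne
    have hj0 : j ≠ 0 := by
      rintro rfl
      exact hne (by simpa using hj)
    apply hpN
    have h4 : p ∣ e := by rw [hj]; exact dvd_pow_self p hj0
    exact (h4.trans h2).trans hθdvd
  have htq : O.card = p ^ k := by
    rw [he1] at hnum
    simpa using hnum
  rw [he1, htq, one_mul] at hdeg
  have hk0 : k ≠ 0 := by
    rintro rfl
    rw [pow_zero, one_mul] at hdeg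
    rw [hdeg] at hχ
    exact hpN (hχ.trans hθdvd)
  refine ⟨hk0, ?_, ?_⟩
  · -- (g) the centralizer orders
    intro g hg
    have hfree : ∀ x : {φ : IrrCharacter G // φ ≠ χ}, twistStab π ((x.1 : IrrCharacter G) : G → ℂ) = ⊥ := by
      intro x
      have h1 : ¬ p ∣ charDegree ((x.1 : IrrCharacter G) : G → ℂ) := fun h => x.2 (huniq _ h)
      have h2 := norm_restrict_eq_one N hN π hπ hker hpp hQ x.1.2 h1
      exact Subgroup.eq_bot_of_card_eq _ h2
    letI : MulAction (Q →* ℂˣ) {φ : IrrCharacter G // φ ≠ χ} :=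
      { smul := fun l x => ⟨⟨twist π ((x.1 : IrrCharacter G) : G → ℂ) l, isIrrCharacter_twist π x.1.2 l⟩, by
          intro h
          apply x.2
          apply Subtype.ext
          have h1 := congrArg Subtype.val h
          have h2 : twist π (twist π ((x.1 : IrrCharacter G) : G → ℂ) l) l⁻¹ = twist π (χ : G → ℂ) l⁻¹ :=
            congrArg (fun f => twist π f l⁻¹) h1
          rw [twist_twist, htw] at h2
          have h3 : l * l⁻¹ = 1 := by
            ext y
            simp
          rw [h3, twist_one] at h2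
          exact h2⟩
        one_smul := by
          intro x
          apply Subtype.ext
          apply Subtype.ext
          exact twist_one π _
        mul_smul := by
          intro a b x
          apply Subtype.ext
          apply Subtype.ext
          show twist π ((x.1 : IrrCharacter G) : G → ℂ) (a * b) =
            twist π (twist π ((x.1 : IrrCharacter G) : G → ℂ) b) a
          have h3 : a * b = b * a := by
            ext y
            simp [mul_comm]
          rw [twist_twist, h3] }
    have hsmul : ∀ (l : Q →* ℂˣ) (x : {φ : IrrCharacter G // φ ≠ χ}),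
        (((l • x : {φ : IrrCharacter G // φ ≠ χ}).1 : IrrCharacter G) : G → ℂ) =
          twist π ((x.1 : IrrCharacter G) : G → ℂ) l := fun _ _ => rfl
    obtain ⟨s, hs, hsum⟩ := Cfsg.Agent.Lib.CharTwist.exists_sum_eq_card_mul
      (Λ := Q →* ℂˣ) (X := {φ : IrrCharacter G // φ ≠ χ})
      (by
        intro a x hax
        have h1 : a ∈ twistStab π ((x.1 : IrrCharacter G) : G → ℂ) := by
          rw [mem_twistStab, ← hsmul, hax]
        rw [hfree x] at h1
        exact Subgroup.mem_bot.mp h1)
      (fun x => ((x.1 : IrrCharacter G) : G → ℂ) g * conj (((x.1 : IrrCharacter G) : G → ℂ) g))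
      (by
        intro a x
        simp only [hsmul, twist_apply, map_mul]
        have h := hom_mul_conj (a.comp π) g
        simp only [MonoidHom.comp_apply] at h
        linear_combination (((x.1 : IrrCharacter G) : G → ℂ) g *
          conj (((x.1 : IrrCharacter G) : G → ℂ) g)) * h)
      (by
        intro x
        have hxc := IsIrrCharacter.isCharacter x.1.2
        rw [char_conj_eq_inv hxc]
        exact (Cfsg.Agent.Lib.GenChar.char_isIntegral hxc g).mul
          (Cfsg.Agent.Lib.GenChar.char_isIntegral hxc g⁻¹))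
    have hall := sum_irr_mul_conj g g
    rw [if_pos (IsConj.refl g), Fintype.sum_eq_add_sum_subtype_ne _ χ, hvan g hg] at hall
    simp only [zero_mul, zero_add] at hall
    rw [hsum, ← Nat.card_eq_fintype_card, card_hom, hQ] at hall
    have hq0 : p ^ k ≠ 0 := (pow_pos hpp.pos k).ne'
    apply Cfsg.Agent.Lib.CharIntegrality.dvd_of_isIntegral_div hq0
    rw [← hall]
    have hq0' : ((p ^ k : ℕ) : ℂ) ≠ 0 := by exact_mod_cast hq0
    rw [mul_div_cancel_left₀ _ hq0']
    exact hs
  · -- (e), (f) the moved classes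
    intro u hu
    have hθc := IsIrrCharacter.isCharacter θ.2
    have hindeq : indFun N (θ : N → ℂ) = χ := by
      apply eq_of_inner_ne_zero_of_le (indFun_isCharacter N hθc) χ.2
      · rw [frobenius N _ (isClassFunction_of_isCharacter hχc)]
        intro h0
        apply hθ
        have := classInner_conj_symm (θ : N → ℂ) (fun n : N => (χ : G → ℂ) n)
        rw [h0] at this
        simpa using this.symm
      · have h1 := one_eq_charDegree (indFun_isCharacter N hθc)
        rw [indFun_one, one_eq_charDegree hθc, hk] at h1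
        have h2 : charDegree (indFun N (θ : N → ℂ)) = p ^ k * charDegree (θ : N → ℂ) := by
          exact_mod_cast h1.symm
        rw [h2, hdeg]
    have hstabcard := natCard_mul_classInner_indFun_self N hN (θ : N → ℂ) θ.2
    rw [hindeq, classInner_irr_self χ.2, mul_one] at hstabcard
    have hstabcard' : Nat.card N = Nat.card {g : G // conjBy N hN g (θ : N → ℂ) = θ} := by
      exact_mod_cast hstabcard
    have hstab : ∀ g : G, conjBy N hN g (θ : N → ℂ) = θ → g ∈ N := by
      intro g hg
      let f : N → {g : G // conjBy N hN g (θ : N → ℂ) = θ} := fun n =>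
        ⟨n, by
          funext m
          rw [conjBy_apply]
          exact isClassFunction_of_isCharacter hθc m n⟩
      have hf : Function.Injective f := by
        intro a b hab
        have := congrArg Subtype.val hab
        exact Subtype.ext this
      have hbij := hf.bijective_of_nat_card_le (by rw [← hstabcard'])
      obtain ⟨n, hn⟩ := hbij.2 ⟨g, hg⟩
      have h2 : (n : G) = g := congrArg Subtype.val hn
      rw [← h2]
      exact n.2
    have hstab2 : ∀ a v : G, conjBy N hN v (conjBy N hN a (θ : N → ℂ)) = conjBy N hN a (θ : N → ℂ) →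
        v ∈ N := by
      intro a v h
      rw [conjBy_conjBy] at h
      have h2 := congrArg (conjBy N hN a⁻¹) h
      rw [conjBy_conjBy, conjBy_conjBy, mul_inv_cancel, conjBy_one] at h2
      have h3 := hstab _ h2
      have h4 := hN.conj_mem _ h3 a⁻¹
      simpa [mul_assoc] using h4
    -- (d) all other characters are invariant
    have hinv : ∀ ψ : IrrCharacter N, (ψ : N → ℂ) ∉ O → ∀ g : G, conjBy N hN g ψ = ψ := by
      intro ψ hψ g
      obtain ⟨φ, hφ⟩ := exists_over N ψ.2
      have hφc := IsIrrCharacter.isCharacter φ.2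
      have hne : φ ≠ χ := by
        rintro rfl
        obtain ⟨g', hg'⟩ := exists_conj_of_constituents N hN φ.2 θ.2 ψ.2 hθ hφ
        exact hψ (Finset.mem_image.mpr ⟨g', Finset.mem_univ _, hg'.symm⟩)
      have h1 : ¬ p ∣ charDegree (φ : G → ℂ) := fun h => hne (huniq _ h)
      have h2 := norm_restrict_eq_one N hN π hπ hker hpp hQ φ.2 h1
      have h3 := card_twistStab π hπ N hker φ.2
      rw [h2] at h3
      have hirr : IsIrrCharacter N (fun n : N => (φ : G → ℂ) n) :=
        isIrrCharacter_of_norm_one (isCharacter_restrict N hφc) (by rw [← h3]; simp)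
      have h4 : (fun n : N => (φ : G → ℂ) n) = ψ := by
        by_contra hne2
        exact hφ (classInner_irr_ne hirr ψ.2 hne2)
      rw [← h4]
      exact conjBy_restrict N hN g (isClassFunction_of_isCharacter hφc)
    -- (e) the moved characters
    let σ : IrrCharacter N → IrrCharacter N := fun ψ =>
      ⟨conjBy N hN u ψ, isIrrCharacter_conjBy N hN u ψ.2⟩
    have hσ : ∀ ψ : IrrCharacter N, σ ψ = ψ ↔ (ψ : N → ℂ) ∉ O := by
      intro ψ
      constructor
      · intro h hmem
        obtain ⟨a, -, ha⟩ := Finset.mem_image.mp hmem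
        apply hu
        apply hstab2 a
        have h2 : conjBy N hN u (ψ : N → ℂ) = ψ := congrArg Subtype.val h
        rw [ha]
        exact h2
      · intro h
        apply Subtype.ext
        exact hinv ψ h u
    have hOirr : ∀ a ∈ O, IsIrrCharacter N a := by
      intro a ha
      obtain ⟨g, -, rfl⟩ := Finset.mem_image.mp ha
      exact isIrrCharacter_conjBy N hN g θ.2
    have hmoved : Nat.card {ψ : IrrCharacter N // ¬ σ ψ = ψ} = p ^ k := by
      rw [← htq, ← Nat.card_eq_finsetCard]
      apply Nat.card_congr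
      exact
        { toFun := fun x => ⟨(x.1 : N → ℂ), by
            have := x.2
            rw [hσ] at this
            exact not_not.mp this⟩
          invFun := fun a => ⟨⟨a.1, hOirr a.1 a.2⟩, by
            rw [hσ]
            exact not_not.mpr a.2⟩
          left_inv := fun x => rfl
          right_inv := fun a => rfl }
    -- (f) Brauer's permutation lemma
    have hb := Cfsg.Agent.Lib.CharTable.card_fixed_irr_eq_card_fixed_class σ (cmap hN u) (by
      intro ψ n
      rw [cmap_mk]
      exact (Cfsg.Agent.Lib.CharTable.char_eq_of_isConj (IsIrrCharacter.isCharacter ψ.2)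
        (Cfsg.Agent.Lib.CharTable.isConj_out_mk (conjAut N hN u n))).symm)
    have c1 := card_compl (fun ψ : IrrCharacter N => σ ψ = ψ)
    have c2 := card_compl (fun K : ConjClasses N => cmap hN u K = K)
    have c3 := card_irr_eq_card_conjClasses (G := N)
    show Nat.card {K : ConjClasses N // ¬ cmap hN u K = K} = p ^ k
    omega

/-- A nonabelian quotient is impossible. -/
theorem quotient_comm (hN : N.Normal) (hnil : ¬ Group.IsNilpotent G) {k : ℕ}
    (hNp : (Nat.card N).Coprime p) (hk : N.index = p ^ k)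
    {χ : IrrCharacter G} (hχ : p ∣ charDegree (χ : G → ℂ))
    (huniq : ∀ ψ : IrrCharacter G, p ∣ charDegree (ψ : G → ℂ) → ψ = χ) :
    ∀ a b : G ⧸ N, a * b = b * a := by
  classical
  letI := Fintype.ofFinite G
  letI := Fintype.ofFinite N
  have hpp := hp.out
  have hpN : ¬ p ∣ Nat.card N := (Nat.Prime.coprime_iff_not_dvd hpp).mp hNp.symm
  by_contra hab
  push Not at hab
  obtain ⟨a, b, hab⟩ := hab
  have hQp : IsPGroup p (G ⧸ N) := IsPGroup.of_card (n := k) hk
  have hcomm : commutator (G ⧸ N) ≠ ⊥ := by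
    intro h
    apply hab
    have h1 : ⁅a, b⁆ ∈ commutator (G ⧸ N) := by
      rw [commutator_def]
      exact Subgroup.commutator_mem_commutator (Subgroup.mem_top _) (Subgroup.mem_top _)
    rw [h, Subgroup.mem_bot] at h1
    exact commutatorElement_eq_one_iff_mul_comm.mp h1
  have hsum := pGroup_sum hQp
  have hidx : (commutator (G ⧸ N)).index < Nat.card (G ⧸ N) := by
    have h1 := Subgroup.card_mul_index (commutator (G ⧸ N))
    have h2 : 1 < Nat.card (commutator (G ⧸ N)) := by
      have h3 : Nat.card (commutator (G ⧸ N)) ≠ 1 := by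
        intro h
        exact hcomm (Subgroup.eq_bot_of_card_eq _ h)
      have h4 : 0 < Nat.card (commutator (G ⧸ N)) := Nat.card_pos
      omega
    have h5 : 0 < (commutator (G ⧸ N)).index := Nat.pos_of_ne_zero Subgroup.index_ne_zero_of_finite
    rw [← h1]
    exact lt_mul_of_one_lt_left h5 h2
  have hne : (Finset.univ.filter (fun χ : IrrCharacter (G ⧸ N) =>
      p ∣ charDegree (χ : G ⧸ N → ℂ))).Nonempty := by
    by_contra hemp
    rw [Finset.not_nonempty_iff_eq_empty] at hemp
    rw [hemp, Finset.sum_empty, zero_add] at hsum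
    omega
  obtain ⟨β, hβ⟩ := hne
  have hβp : p ∣ charDegree (β : G ⧸ N → ℂ) := by simpa using hβ
  let π : G →* G ⧸ N := QuotientGroup.mk' N
  have hπ : Function.Surjective π := QuotientGroup.mk'_surjective N
  have hβ' : IsIrrCharacter G ((β : G ⧸ N → ℂ) ∘ π) :=
    isIrrCharacter_comp_of_surjective π hπ β.2
  have hdeg' : charDegree ((β : G ⧸ N → ℂ) ∘ π) = charDegree (β : G ⧸ N → ℂ) := by
    simp [charDegree]
  have heq : ((β : G ⧸ N → ℂ) ∘ π) = χ := by
    have := huniq ⟨_, hβ'⟩ (by
      show p ∣ charDegree ((β : G ⧸ N → ℂ) ∘ π)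
      rw [hdeg']
      exact hβp)
    exact congrArg Subtype.val this
  have hχker : ∀ n : N, (χ : G → ℂ) n = (χ : G → ℂ) 1 := by
    intro n
    rw [← heq]
    simp only [Function.comp_apply, map_one]
    have h0 : π (n : G) = 1 := (QuotientGroup.eq_one_iff (n : G)).mpr n.2
    rw [h0]
  -- all characters of `N` are invariant
  have hinv : ∀ (ψ : IrrCharacter N) (g : G), conjBy N hN g (ψ : N → ℂ) = ψ := by
    intro ψ g
    have hψc := IsIrrCharacter.isCharacter ψ.2
    by_cases hψ1 : (ψ : N → ℂ) = fun _ => 1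
    · rw [hψ1]
      rfl
    obtain ⟨φ, hφ⟩ := exists_over N ψ.2
    have hne : φ ≠ χ := by
      rintro rfl
      apply hφ
      have h1 : (fun n : N => (φ : G → ℂ) n) = ((φ : G → ℂ) 1) • (fun _ : N => (1 : ℂ)) := by
        funext n
        rw [hχker n]
        simp
      rw [h1, classInner_smul_left, classInner_irr_ne isIrrCharacter_one ψ.2 (Ne.symm hψ1), mul_zero]
    have h1 : ¬ p ∣ charDegree (φ : G → ℂ) := fun h => hne (huniq _ h)
    obtain ⟨e, he0, -, hdeg, -⟩ := clifford_numeric N hN φ.2 ψ.2 hφ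
    have hdvd := card_orbit_dvd_index N hN hψc
    rw [hk] at hdvd
    obtain ⟨j, -, hj⟩ := (Nat.dvd_prime_pow hpp).mp hdvd
    have hj0 : j = 0 := by
      by_contra hj0
      apply h1
      rw [hdeg, hj]
      exact Dvd.dvd.mul_right (Dvd.dvd.mul_left (dvd_pow_self p hj0) _) _
    rw [hj0, pow_zero] at hj
    have hmem1 : (ψ : N → ℂ) ∈ Finset.univ.image (fun g : G => conjBy N hN g (ψ : N → ℂ)) :=
      Finset.mem_image.mpr ⟨1, Finset.mem_univ _, conjBy_one N hN _⟩
    have hmem2 : conjBy N hN g (ψ : N → ℂ) ∈ Finset.univ.image (fun g : G => conjBy N hN g (ψ : N → ℂ)) :=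
      Finset.mem_image.mpr ⟨g, Finset.mem_univ _, rfl⟩
    exact (Finset.card_le_one.mp hj.le) _ hmem2 _ hmem1
  -- all classes of `N` are invariant
  have hfix : ∀ (a : G) (n : N), cmap hN a (ConjClasses.mk n) = ConjClasses.mk n := by
    intro a n
    rw [cmap_mk, ConjClasses.mk_eq_mk_iff_isConj]
    apply isConj_of_forall_irr
    intro ψ
    exact congrFun (hinv ψ a) n
  -- a Sylow subgroup, complementing `N`
  obtain ⟨S⟩ : Nonempty (Sylow p G) := inferInstance
  have hcardG : Nat.card G = Nat.card N * p ^ k := by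
    rw [← hk]
    exact (Subgroup.card_mul_index N).symm
  have hfac : (Nat.card G).factorization p = k := by
    rw [hcardG, Nat.factorization_mul Nat.card_pos.ne' (pow_pos hpp.pos k).ne', Finsupp.add_apply,
      Nat.factorization_eq_zero_of_not_dvd hpN, Nat.Prime.factorization_pow hpp]
    simp
  have hS : Nat.card (S : Subgroup G) = p ^ k := by
    rw [Sylow.card_eq_multiplicity, hfac]
  have hcomp : (S : Subgroup G).IsComplement' N := by
    apply Subgroup.isComplement'_of_coprime
    · rw [hS, hcardG, mul_comm]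
    · rw [hS]
      exact (Nat.Coprime.pow_right k hNp).symm
  -- every element of `N` is conjugate to one centralized by `S`
  have hconjC : ∀ n : N, ∃ m : N, ∀ y ∈ (S : Subgroup G), y * ((m : G) * n * (m : G)⁻¹) =
      ((m : G) * n * (m : G)⁻¹) * y := by
    intro n
    set C := Subgroup.centralizer ({(n : G)} : Set G) with hC
    have h1 := not_dvd_class_of_fixed hN hNp n (fun a => hfix a n)
    have h2 : C.index = Nat.card (ConjClasses.mk (n : G)).carrier := by
      have h3 := card_class_mul (n : G)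
      have h4 := Subgroup.card_mul_index C
      have h5 : 0 < Nat.card C := Nat.card_pos
      apply Nat.eq_of_mul_eq_mul_left h5
      rw [h4, ← h3, mul_comm]
    have hfp := IsPGroup.card_modEq_card_fixedPoints S.isPGroup' (G ⧸ C)
    have h6 : Nat.card (MulAction.fixedPoints (S : Subgroup G) (G ⧸ C)) ≠ 0 := by
      intro h0
      rw [h0] at hfp
      apply h1
      rw [← h2]
      exact (Nat.modEq_zero_iff_dvd).mp hfp
    haveI : Finite (G ⧸ C) := inferInstance
    obtain ⟨⟨x, hx⟩⟩ := (Nat.card_pos_iff.mp (Nat.pos_of_ne_zero h6)).1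
    obtain ⟨g, rfl⟩ := QuotientGroup.mk_surjective x
    obtain ⟨⟨y₀, m₀⟩, hg⟩ := (Subgroup.isComplement'_def.mp hcomp).2 g
    have hg' : (y₀ : G) * (m₀ : G) = g := hg
    refine ⟨m₀, ?_⟩
    intro y hy
    have hyy : (y₀ : G) * y * (y₀ : G)⁻¹ ∈ (S : Subgroup G) :=
      (S : Subgroup G).mul_mem ((S : Subgroup G).mul_mem y₀.2 hy) ((S : Subgroup G).inv_mem y₀.2)
    have h7 := hx ⟨_, hyy⟩
    have h8 : (QuotientGroup.mk (((y₀ : G) * y * (y₀ : G)⁻¹) * g) : G ⧸ C) = QuotientGroup.mk g := h7
    rw [QuotientGroup.eq] at h8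
    have h9 : (((y₀ : G) * y * (y₀ : G)⁻¹) * g)⁻¹ * g = (m₀ : G)⁻¹ * y⁻¹ * (m₀ : G) := by
      rw [← hg']
      group
    rw [h9] at h8
    have h10 := Subgroup.mem_centralizer_singleton_iff.mp h8
    have h11 : (m₀ : G)⁻¹ * y⁻¹ * (m₀ : G) * n = n * ((m₀ : G)⁻¹ * y⁻¹ * (m₀ : G)) := h10
    -- conjugate back
    have h12 : y⁻¹ * ((m₀ : G) * n * (m₀ : G)⁻¹) = ((m₀ : G) * n * (m₀ : G)⁻¹) * y⁻¹ := by
      have h13 : (m₀ : G) * ((m₀ : G)⁻¹ * y⁻¹ * (m₀ : G) * n) * (m₀ : G)⁻¹ =
          (m₀ : G) * (n * ((m₀ : G)⁻¹ * y⁻¹ * (m₀ : G))) * (m₀ : G)⁻¹ := by rw [h11]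
      have h14 : (m₀ : G) * ((m₀ : G)⁻¹ * y⁻¹ * (m₀ : G) * n) * (m₀ : G)⁻¹ =
          y⁻¹ * ((m₀ : G) * n * (m₀ : G)⁻¹) := by group
      have h15 : (m₀ : G) * (n * ((m₀ : G)⁻¹ * y⁻¹ * (m₀ : G))) * (m₀ : G)⁻¹ =
          ((m₀ : G) * n * (m₀ : G)⁻¹) * y⁻¹ := by group
      rw [h14, h15] at h13
      exact h13
    have h16 : Commute y⁻¹ ((m₀ : G) * n * (m₀ : G)⁻¹) := h12
    have h17 : Commute y ((m₀ : G) * n * (m₀ : G)⁻¹) := by
      simpa using h16.inv_left
    exact h17
  -- `S` centralizes `N`
  have hcent : ∀ x ∈ (S : Subgroup G), ∀ y ∈ N, x * y = y * x := by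
    let D : Subgroup N := (Subgroup.centralizer ((S : Subgroup G) : Set G)).subgroupOf N
    have hD : D = ⊤ := by
      by_contra hD
      obtain ⟨x, hx⟩ := exists_not_conj D hD
      obtain ⟨m, hm⟩ := hconjC x
      apply hx m
      rw [Subgroup.mem_subgroupOf, Subgroup.mem_centralizer_iff]
      intro y hy
      exact hm y hy
    intro x hx y hy
    have h1 : (⟨y, hy⟩ : N) ∈ D := by rw [hD]; trivial
    rw [Subgroup.mem_subgroupOf, Subgroup.mem_centralizer_iff] at h1
    exact h1 x hx
  -- hence `N` is trivial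
  obtain ⟨θ, μ, hθ, hμ, hχ2⟩ := exists_factor hcent hcomp χ.2
  have hone : (χ : G → ℂ) 1 = θ 1 * μ 1 := by
    have := hχ2 1 1
    simpa using this
  have hdegs : charDegree (χ : G → ℂ) = charDegree θ * charDegree μ := by
    have h1 := one_eq_charDegree (IsIrrCharacter.isCharacter χ.2)
    have h2 := one_eq_charDegree (IsIrrCharacter.isCharacter hθ)
    have h3 := one_eq_charDegree (IsIrrCharacter.isCharacter hμ)
    rw [h1, h2, h3] at hone
    exact_mod_cast hone
  have hμdvd : charDegree μ ∣ Nat.card N := charDegree_dvd_card hμ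
  have hpμ : ¬ p ∣ charDegree μ := fun h => hpN (h.trans hμdvd)
  have hpθ : p ∣ charDegree θ := by
    rw [hdegs] at hχ
    exact (hpp.dvd_mul.mp hχ).resolve_right hpμ
  have hallμ : ∀ μ' : IrrCharacter N, (μ' : N → ℂ) = μ := by
    intro μ'
    obtain ⟨χ', hχ', hχ'2⟩ := exists_of_factors hcent hcomp hθ μ'.2
    have hone' : χ' 1 = θ 1 * (μ' : N → ℂ) 1 := by
      have := hχ'2 1 1
      simpa using this
    have hdegs' : charDegree χ' = charDegree θ * charDegree (μ' : N → ℂ) := by
      have h1 := one_eq_charDegree (IsIrrCharacter.isCharacter hχ')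
      have h2 := one_eq_charDegree (IsIrrCharacter.isCharacter hθ)
      have h3 := one_eq_charDegree (IsIrrCharacter.isCharacter μ'.2)
      rw [h1, h2, h3] at hone'
      exact_mod_cast hone'
    have h4 : (⟨χ', hχ'⟩ : IrrCharacter G) = χ := huniq _ (by
      show p ∣ charDegree χ'
      rw [hdegs']
      exact hpθ.mul_right _)
    have h5 : χ' = (χ : G → ℂ) := congrArg Subtype.val h4
    funext y
    have h6 := hχ'2 1 y
    have h7 := hχ2 1 y
    rw [h5, h7] at h6
    exact (mul_left_cancel₀ (Cfsg.Agent.Lib.CharAvg.irr_one_ne_zero hθ) h6).symm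
  have hN1 : Nat.card N = 1 := by
    have h := sum_charDegree_sq (G := N)
    have hsub : Subsingleton (IrrCharacter N) :=
      ⟨fun a b => Subtype.ext ((hallμ a).trans (hallμ b).symm)⟩
    let one : IrrCharacter N := ⟨fun _ => 1, isIrrCharacter_one⟩
    rw [Fintype.sum_subsingleton _ one] at h
    have h8 : charDegree ((one : IrrCharacter N) : N → ℂ) = 1 := by
      simp [charDegree, one]
    rw [h8] at h
    simpa using h.symm
  apply hnil
  rw [hN1, one_mul] at hcardG
  have hGp : IsPGroup p G := IsPGroup.of_card hcardG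
  exact hGp.isNilpotent

end Structure

/-- The statement. -/
theorem result {G : Type*} [Group G] [Finite G] (p : ℕ) [Fact p.Prime] (hnil : ¬ Group.IsNilpotent G) (N : Subgroup G) [N.Normal] (hN : (Nat.card N).Coprime p) (hidx : ∃ k : ℕ, N.index = p ^ k) (hone : Nat.card {χ : Cfsg.IrrCharacter G // p ∣ Cfsg.charDegree (χ : G → ℂ)} = 1) : Nat.card {C : ConjClasses G // p ∣ Nat.card C.carrier} = 1 := by
  classical
  obtain ⟨k, hk⟩ := hidx
  obtain ⟨hsub, ⟨⟨χ, hχ⟩⟩⟩ := Nat.card_eq_one_iff_unique.mp hone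
  have huniq : ∀ ψ : IrrCharacter G, p ∣ charDegree (ψ : G → ℂ) → ψ = χ := by
    intro ψ hψ
    have := hsub.elim ⟨ψ, hψ⟩ ⟨χ, hχ⟩
    exact congrArg Subtype.val this
  have hNn : N.Normal := inferInstance
  have hab := quotient_comm hNn hnil hN hk hχ huniq
  letI inst : CommGroup (G ⧸ N) := { (inferInstance : Group (G ⧸ N)) with mul_comm := hab }
  obtain ⟨hk0, hF, hM⟩ := abelian_structure (Q := G ⧸ N) (QuotientGroup.mk' N)
    (QuotientGroup.mk'_surjective N) (fun g => QuotientGroup.eq_one_iff g) hNn hN hk hk hχ huniq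
  exact final_count hNn hN hk hk0 hF hM

end Cfsg.Agent.S4763
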