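import Mathlib
import Cfsg.Statements.S4756
import Cfsg.Agent.Lib.CharAvg
import Cfsg.Agent.Lib.CharKernel
import Cfsg.Agent.Lib.CharCodegP
import Cfsg.Agent.Lib.CharNormal
import Cfsg.Agent.Lib.FpfGeneral
import Cfsg.Agent.S4763
import Cfsg.Agent.S0154

set_option autoImplicit false
set_option linter.style.haveILetI false
set_option linter.unusedSectionVars false
open Cfsg

namespace Cfsg.Agent.S4756

open Cfsg.Agent.Lib.CharBasic Cfsg.Agent.Lib.CharInd Cfsg.Agent.Lib.CharAvg
  Cfsg.Agent.Lib.CharKernel Cfsg.Agent.Lib.CharCodegP Cfsg.Agent.Lib.CharNormal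
open scoped commutatorElement ComplexConjugate

universe u

variable {G : Type u} [Group G] [Finite G]

/-! ### Linear characters -/

theorem lin_mul {χ : G → ℂ} (hχ : IsCharacter G χ) (h1 : χ 1 = 1) (x y : G) :
    χ (x * y) = χ x * χ y := by
  obtain ⟨f, hf⟩ := exists_hom_of_degree_one hχ h1
  rw [hf, hf, hf, map_mul]
  simp

theorem lin_commutator {χ : G → ℂ} (hχ : IsCharacter G χ) (h1 : χ 1 = 1) {x : G}
    (hx : x ∈ commutator G) : χ x = 1 := by
  obtain ⟨f, hf⟩ := exists_hom_of_degree_one hχ h1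
  have h2 : x ∈ f.ker := Abelianization.commutator_subset_ker f hx
  rw [hf, MonoidHom.mem_ker.mp h2]
  simp

theorem lin_norm {χ : G → ℂ} (hχ : IsCharacter G χ) (h1 : χ 1 = 1) (x : G) :
    χ x * conj (χ x) = 1 := by
  rw [char_conj_eq_inv hχ, ← lin_mul hχ h1, mul_inv_cancel, h1]

/-- All irreducible characters linear forces commutativity. -/
theorem comm_of_all_linear (h : ∀ χ : IrrCharacter G, (χ : G → ℂ) 1 = 1) (x y : G) :
    x * y = y * x := by
  classical
  letI := Fintype.ofFinite G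
  have hg : ⁅x, y⁆ ∈ commutator G := Subgroup.commutator_mem_commutator (Subgroup.mem_top x) (Subgroup.mem_top y)
  have h1 := sum_irr_deg_mul ⁅x, y⁆
  have h2 : ∑ χ : IrrCharacter G, (χ : G → ℂ) 1 * (χ : G → ℂ) ⁅x, y⁆ =
      ((Finset.univ : Finset (IrrCharacter G)).card : ℂ) := by
    rw [Finset.card_eq_sum_ones]
    push_cast
    refine Finset.sum_congr rfl fun χ _ => ?_
    rw [h χ, lin_commutator (IsIrrCharacter.isCharacter χ.2) (h χ) hg, one_mul]
  rw [h2] at h1
  have h3 : ((Finset.univ : Finset (IrrCharacter G)).card : ℂ) ≠ 0 := by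
    have : (Finset.univ : Finset (IrrCharacter G)).card ≠ 0 :=
      Finset.card_ne_zero.mpr ⟨⟨fun _ => 1, isIrrCharacter_one⟩, Finset.mem_univ _⟩
    exact_mod_cast this
  by_cases he : ⁅x, y⁆ = 1
  · exact commutatorElement_eq_one_iff_mul_comm.mp he
  · rw [if_neg he] at h1
    exact absurd h1 h3

/-! ### The implication from the structure -/

/-- A coset of a normal subgroup on which conjugation acts transitively. -/
theorem coset_vanish {χ : G → ℂ} (hχ : IsIrrCharacter G χ) (D : Subgroup G) [D.Normal]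
    (hD : ∃ x ∈ D, χ x ≠ χ 1) (u : G) (hu : ∀ d ∈ D, d * u = u * d → d = 1) {d : G} (hd : d ∈ D) :
    χ (u * d) = 0 := by
  classical
  letI : Fintype D := Fintype.ofFinite D
  have hcl := isClassFunction_of_isCharacter (IsIrrCharacter.isCharacter hχ)
  -- the map `e ↦ u⁻¹ e u e⁻¹` on `D`
  let φ : D → D := fun e => ⟨u⁻¹ * e * u * (e : G)⁻¹, by
    have h1 : u⁻¹ * (e : G) * u ∈ D := by
      have := Subgroup.Normal.conj_mem ‹D.Normal› (e : G) e.2 u⁻¹
      simpa using this
    exact D.mul_mem h1 (D.inv_mem e.2)⟩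
  have hφ : Function.Injective φ := by
    intro e f h
    have h1 : u⁻¹ * (e : G) * u * (e : G)⁻¹ = u⁻¹ * (f : G) * u * (f : G)⁻¹ :=
      congrArg Subtype.val h
    have h2 : ((f : G)⁻¹ * e) * u = u * ((f : G)⁻¹ * e) := by
      have h3 : (e : G) * u * (e : G)⁻¹ = (f : G) * u * (f : G)⁻¹ := by
        have := congrArg (fun z => u * z) h1
        simpa [mul_assoc] using this
      have h4 : (e : G) * u = (f : G) * u * (f : G)⁻¹ * e := by
        rw [← h3]
        group
      rw [mul_assoc, h4]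
      group
    have h5 := hu _ (D.mul_mem (D.inv_mem f.2) e.2) h2
    apply Subtype.ext
    have h6 : (f : G)⁻¹ * e = 1 := h5
    rw [inv_mul_eq_one] at h6
    exact h6.symm
  have hφs : Function.Surjective φ := Finite.surjective_of_injective hφ
  have key : ∀ e : D, χ (u * e) = χ u := by
    intro e
    obtain ⟨f, hf⟩ := hφs e
    have h1 : (e : G) = u⁻¹ * f * u * (f : G)⁻¹ := (congrArg Subtype.val hf).symm
    have h2 : u * e = f * u * (f : G)⁻¹ := by
      rw [h1]
      group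
    rw [h2]
    exact hcl u f
  have hs := sum_mul_normal_eq_zero hχ D hD u
  simp only [key, Finset.sum_const, Finset.card_univ, nsmul_eq_mul] at hs
  have h0 : (Fintype.card D : ℂ) ≠ 0 := by
    have : Fintype.card D ≠ 0 := Fintype.card_ne_zero
    exact_mod_cast this
  rw [key ⟨d, hd⟩] at *
  exact (mul_eq_zero.mp hs).resolve_left h0

/-- Elements with products in a normal subgroup. -/
theorem mem_of_mul_mem {P : Subgroup G} [P.Normal] {x y : G} {r s a b : ℕ} (hrs : Nat.Coprime r s)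
    (hx : orderOf x = r ^ a) (hy : orderOf y = s ^ b) (h : x * y ∈ P) : x ∈ P ∧ y ∈ P := by
  have h1 : (x : G ⧸ P) * (y : G ⧸ P) = 1 := by
    rw [← QuotientGroup.mk_mul]
    exact (QuotientGroup.eq_one_iff _).mpr h
  have h2 : orderOf (x : G ⧸ P) ∣ r ^ a := by
    rw [← hx]
    exact orderOf_map_dvd (QuotientGroup.mk' P) x
  have h3 : orderOf (y : G ⧸ P) ∣ s ^ b := by
    rw [← hy]
    exact orderOf_map_dvd (QuotientGroup.mk' P) y
  have h4 : orderOf (x : G ⧸ P) = orderOf (y : G ⧸ P) := by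
    rw [eq_inv_of_mul_eq_one_left h1, orderOf_inv]
  have h5 : Nat.Coprime (r ^ a) (s ^ b) := Nat.Coprime.pow a b hrs
  have h6 : orderOf (x : G ⧸ P) = 1 := by
    apply Nat.eq_one_of_dvd_coprimes h5 h2
    rw [h4]
    exact h3
  have h7 : (x : G ⧸ P) = 1 := orderOf_eq_one_iff.mp h6
  have hxP : x ∈ P := (QuotientGroup.eq_one_iff _).mp h7
  exact ⟨hxP, by
    have := P.mul_mem (P.inv_mem hxP) h
    simpa using this⟩

/-- The implication from the structure to the character identity, third case. -/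
theorem of_structure (p : ℕ) [Fact p.Prime] (P : Sylow p G) (A : Subgroup G)
    (hPn : (P : Subgroup G).Normal) (hAc : IsCyclic A) (hAp : (Nat.card A).Coprime p)
    (hAP : A ⊔ (P : Subgroup G) = ⊤)
    (hCab : IsMulCommutative ↥((P : Subgroup G) ⊓ Subgroup.centralizer (A : Set G)))
    (hDn : (⁅A, (P : Subgroup G)⁆).Normal)
    (hCD : ((P : Subgroup G) ⊓ Subgroup.centralizer (A : Set G)) ⊔ ⁅A, (P : Subgroup G)⁆ =
      (P : Subgroup G))
    (hfpf : ∀ a ∈ A, a ≠ 1 → ∀ d ∈ ⁅A, (P : Subgroup G)⁆, a * d = d * a → d = 1)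
    (x y : G) (χ : IrrCharacter G) (hx : x ≠ 1) (hy : y ≠ 1)
    (hxy : ∃ p q a b : ℕ, p.Prime ∧ q.Prime ∧ p ≠ q ∧ orderOf x = p ^ a ∧ orderOf y = q ^ b) :
    (χ : G → ℂ) (x * y) = (χ : G → ℂ) x * (χ : G → ℂ) y := by
  classical
  set D := ⁅A, (P : Subgroup G)⁆ with hD
  set C := (P : Subgroup G) ⊓ Subgroup.centralizer (A : Set G) with hC
  have hp : p.Prime := Fact.out
  haveI : (P : Subgroup G).Normal := hPn
  haveI : D.Normal := hDn
  have hDP : D ≤ (P : Subgroup G) := by
    rw [← hCD]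
    exact le_sup_right
  -- decomposition of elements
  have hdec : ∀ g : G, ∃ a ∈ A, ∃ c ∈ C, ∃ d ∈ D, g = a * c * d := by
    intro g
    have h1 : g ∈ A ⊔ (P : Subgroup G) := by
      rw [hAP]
      exact Subgroup.mem_top g
    have h1' : g ∈ ((A ⊔ (P : Subgroup G) : Subgroup G) : Set G) := h1
    rw [Subgroup.mul_normal] at h1'
    obtain ⟨a, ha, q, hq, rfl⟩ := Set.mem_mul.mp h1'
    have hq' : q ∈ ((C ⊔ D : Subgroup G) : Set G) := by
      rw [hCD]
      exact hq
    rw [Subgroup.mul_normal] at hq'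
    obtain ⟨c, hc, d, hd, rfl⟩ := Set.mem_mul.mp hq'
    exact ⟨a, ha, c, hc, d, hd, by group⟩
  have hAcomm : ∀ a ∈ A, ∀ b ∈ A, a * b = b * a := by
    intro a ha b hb
    have : IsMulCommutative A := IsCyclic.isMulCommutative
    have := (IsMulCommutative.is_comm (M := ↥A)).comm (⟨a, ha⟩ : A) ⟨b, hb⟩
    exact congrArg Subtype.val this
  have hCcomm : ∀ a ∈ C, ∀ b ∈ C, a * b = b * a := by
    intro a ha b hb
    have := (IsMulCommutative.is_comm (M := ↥C)).comm (⟨a, ha⟩ : C) ⟨b, hb⟩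
    exact congrArg Subtype.val this
  have hACcomm : ∀ a ∈ A, ∀ c ∈ C, a * c = c * a := by
    intro a ha c hc
    have := Subgroup.mem_centralizer_iff.mp hc.2 a ha
    exact this
  by_cases h1 : (χ : G → ℂ) 1 = 1
  · exact lin_mul (IsIrrCharacter.isCharacter χ.2) h1 x y
  -- `χ` is not trivial on `D`
  have hχD : ∃ z ∈ D, (χ : G → ℂ) z ≠ (χ : G → ℂ) 1 := by
    by_contra hcon
    push Not at hcon
    obtain ⟨χ', h2, h3⟩ := exists_quotient_irr D χ.2 hcon
    have hcomm : ∀ u v : G ⧸ D, u * v = v * u := by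
      intro u v
      obtain ⟨g, rfl⟩ := QuotientGroup.mk_surjective u
      obtain ⟨g', rfl⟩ := QuotientGroup.mk_surjective v
      obtain ⟨a, ha, c, hc, d, hd, rfl⟩ := hdec g
      obtain ⟨a', ha', c', hc', d', hd', rfl⟩ := hdec g'
      have e1 : ((a * c * d : G) : G ⧸ D) = (a : G ⧸ D) * (c : G ⧸ D) := by
        rw [QuotientGroup.mk_mul, QuotientGroup.mk_mul, (QuotientGroup.eq_one_iff d).mpr hd, mul_one]
      have e2 : ((a' * c' * d' : G) : G ⧸ D) = (a' : G ⧸ D) * (c' : G ⧸ D) := by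
        rw [QuotientGroup.mk_mul, QuotientGroup.mk_mul, (QuotientGroup.eq_one_iff d').mpr hd', mul_one]
      rw [e1, e2, ← QuotientGroup.mk_mul, ← QuotientGroup.mk_mul, ← QuotientGroup.mk_mul,
        ← QuotientGroup.mk_mul]
      congr 1
      calc a * c * (a' * c') = a * (c * a') * c' := by group
        _ = a * (a' * c) * c' := by rw [hACcomm a' ha' c hc]
        _ = (a * a') * (c * c') := by group
        _ = (a' * a) * (c' * c) := by rw [hAcomm a ha a' ha', hCcomm c hc c' hc']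
        _ = a' * (a * c') * c := by group
        _ = a' * (c' * a) * c := by rw [hACcomm a ha c' hc']
        _ = a' * c' * (a * c) := by group
    have h4 := irr_one_of_comm hcomm h2
    have h5 := h3 1
    rw [QuotientGroup.mk_one, h4] at h5
    exact h1 h5.symm
  -- vanishing off `P`
  have hvan : ∀ g : G, g ∉ (P : Subgroup G) → (χ : G → ℂ) g = 0 := by
    intro g hg
    obtain ⟨a, ha, c, hc, d, hd, rfl⟩ := hdec g
    have ha1 : a ≠ 1 := by
      rintro rfl
      apply hg
      rw [one_mul]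
      exact (P : Subgroup G).mul_mem hc.1 (hDP hd)
    refine coset_vanish χ.2 D hχD (a * c) ?_ hd
    intro e he h2
    -- `a` is a power of `a * c`
    have h3 : Commute a c := hACcomm a ha c hc
    obtain ⟨k, hk⟩ : ∃ k, c ^ (p ^ k) = 1 := P.2 ⟨c, hc.1⟩ |>.imp fun k h => by
      have := congrArg Subtype.val h
      simpa using this
    have hcop : Nat.Coprime (orderOf a) (p ^ k) := by
      apply Nat.Coprime.pow_right
      apply Nat.Coprime.coprime_dvd_left _ hAp
      have := Subgroup.orderOf_dvd_natCard A ha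
      exact this
    obtain ⟨r, hr⟩ := Cfsg.Agent.S4763.exists_pow_eq_of_commute h3 hk hcop
    have h4 : Commute e (a * c) := h2
    have h5 : Commute e a := by
      have := h4.pow_right r
      rwa [hr] at this
    exact hfpf a ha ha1 e he h5.symm
  obtain ⟨r, s, i, j, hr, hs, hrs, hxo, hyo⟩ := hxy
  have hrs' : Nat.Coprime r s := (Nat.coprime_primes hr hs).mpr hrs
  have hP : (P : Subgroup G).Normal := hPn
  have hxyP : x * y ∉ (P : Subgroup G) ∨ (x ∈ (P : Subgroup G) ∧ y ∈ (P : Subgroup G)) := by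
    by_cases h2 : x * y ∈ (P : Subgroup G)
    · exact Or.inr (mem_of_mul_mem hrs' hxo hyo h2)
    · exact Or.inl h2
  -- elements of `P` are `p`-elements
  have hmem : ∀ {z : G} {t n : ℕ}, t.Prime → z ≠ 1 → orderOf z = t ^ n → z ∈ (P : Subgroup G) → t = p := by
    intro z t n ht hz hzo hzP
    obtain ⟨k, hk⟩ := P.2 ⟨z, hzP⟩
    have h2 : z ^ (p ^ k) = 1 := by
      have := congrArg Subtype.val hk
      simpa using this
    have h3 : t ^ n ∣ p ^ k := by
      rw [← hzo]
      exact orderOf_dvd_of_pow_eq_one h2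
    have hn : n ≠ 0 := by
      rintro rfl
      rw [pow_zero] at hzo
      exact hz (orderOf_eq_one_iff.mp hzo)
    have h4 : t ∣ p ^ k := (dvd_pow_self t hn).trans h3
    exact (Nat.prime_dvd_prime_iff_eq ht hp).mp (ht.dvd_of_dvd_pow h4)
  by_cases hrp : r = p
  · -- then `s ≠ p`
    have hsp : s ≠ p := fun e => hrs (hrp.trans e.symm)
    have hyP : y ∉ (P : Subgroup G) := fun h => hsp (hmem hs hy hyo h)
    have hxyP' : x * y ∉ (P : Subgroup G) := by
      intro h
      exact hyP (mem_of_mul_mem hrs' hxo hyo h).2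
    rw [hvan _ hxyP', hvan _ hyP, mul_zero]
  · have hxP : x ∉ (P : Subgroup G) := fun h => hrp (hmem hr hx hxo h)
    have hxyP' : x * y ∉ (P : Subgroup G) := by
      intro h
      exact hxP (mem_of_mul_mem hrs' hxo hyo h).1
    rw [hvan _ hxyP', hvan _ hxP, zero_mul]

/-! ### The implication to the structure -/

/-- The character vanishes on all nontrivial `q`-elements. -/
def Zq (χ : IrrCharacter G) (q : ℕ) : Prop :=
  ∀ x : G, x ≠ 1 → (∃ b, orderOf x = q ^ b) → (χ : G → ℂ) x = 0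

section Forward

variable (H : ∀ (x y : G) (χ : Cfsg.IrrCharacter G), x ≠ 1 → y ≠ 1 → (∃ p q a b : ℕ, p.Prime ∧ q.Prime ∧ p ≠ q ∧ orderOf x = p ^ a ∧ orderOf y = q ^ b) → (χ : G → ℂ) (x * y) = (χ : G → ℂ) x * (χ : G → ℂ) y)

include H

theorem prod_zero (χ : IrrCharacter G) (h1 : (χ : G → ℂ) 1 ≠ 1) {x y : G} {r s i j : ℕ}
    (hx : x ≠ 1) (hy : y ≠ 1) (hr : r.Prime) (hs : s.Prime) (hrs : r ≠ s)
    (hxo : orderOf x = r ^ i) (hyo : orderOf y = s ^ j) :
    (χ : G → ℂ) x * (χ : G → ℂ) y = 0 := by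
  have hc : ∀ b : G, (χ : G → ℂ) (x * (b * y * b⁻¹)) = (χ : G → ℂ) x * (χ : G → ℂ) y := by
    intro b
    have hne : b * y * b⁻¹ ≠ 1 := by
      intro h
      apply hy
      have : y = b⁻¹ * (b * y * b⁻¹) * b := by group
      rw [this, h]
      group
    have ho : orderOf (b * y * b⁻¹) = s ^ j := by
      rw [← hyo]
      exact (MulAut.conj b).orderOf_eq y
    rw [H x _ χ hx hne ⟨r, s, i, j, hr, hs, hrs, hxo, ho⟩,
      isClassFunction_of_isCharacter (IsIrrCharacter.isCharacter χ.2) y b]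
  have h2 := irr_mul_of_const χ.2 x y _ hc
  have h3 : ((χ : G → ℂ) 1 - 1) * ((χ : G → ℂ) x * (χ : G → ℂ) y) = 0 := by
    linear_combination h2
  exact (mul_eq_zero.mp h3).resolve_left (sub_ne_zero.mpr h1)

theorem Zq_or (χ : IrrCharacter G) (h1 : (χ : G → ℂ) 1 ≠ 1) {r s : ℕ} (hr : r.Prime) (hs : s.Prime)
    (hrs : r ≠ s) : Zq χ r ∨ Zq χ s := by
  by_contra hcon
  push Not at hcon
  obtain ⟨h2, h3⟩ := hcon
  unfold Zq at h2 h3
  push Not at h2 h3
  obtain ⟨x, hx, ⟨i, hi⟩, hx0⟩ := h2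
  obtain ⟨y, hy, ⟨j, hj⟩, hy0⟩ := h3
  have := prod_zero H χ h1 hx hy hr hs hrs hi hj
  exact (mul_ne_zero hx0 hy0) this

omit H in
theorem pow_dvd_of_Zq (χ : IrrCharacter G) {q : ℕ} (hq : q.Prime) (hZ : Zq χ q) :
    q ^ (Nat.card G).factorization q ∣ charDegree (χ : G → ℂ) := by
  haveI : Fact q.Prime := ⟨hq⟩
  obtain ⟨P⟩ : Nonempty (Sylow q G) := inferInstance
  rw [← Sylow.card_eq_multiplicity P]
  refine Cfsg.Agent.S4763.card_dvd_degree_of_vanish (P : Subgroup G)
    (IsIrrCharacter.isCharacter χ.2) ?_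
  intro h hh hne
  refine hZ h hne ?_
  obtain ⟨k, hk⟩ := P.2 ⟨h, hh⟩
  have h2 : h ^ (q ^ k) = 1 := by
    have := congrArg Subtype.val hk
    simpa using this
  obtain ⟨i, -, hi⟩ := (Nat.dvd_prime_pow hq).mp (orderOf_dvd_of_pow_eq_one h2)
  exact ⟨i, hi⟩

omit H in
theorem ordCompl_dvd (χ : IrrCharacter G) {p : ℕ} (hall : ∀ q : ℕ, q.Prime → q ≠ p → Zq χ q) :
    ordCompl[p] (Nat.card G) ∣ charDegree (χ : G → ℂ) := by
  have hn : Nat.card G ≠ 0 := Nat.card_pos.ne'
  rw [← Nat.factorization_prime_le_iff_dvd (Nat.ordCompl_pos p hn).ne' (charDegree_ne_zero χ.2)]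
  intro q hq
  rw [Nat.factorization_ordCompl]
  by_cases hqp : q = p
  · subst hqp
    simp
  · rw [Finsupp.erase_ne hqp]
    exact (Nat.Prime.pow_dvd_iff_le_factorization hq (charDegree_ne_zero χ.2)).mp
      (pow_dvd_of_Zq χ hq (hall q hq hqp))

omit H in
theorem ordCompl_lt (χ : IrrCharacter G) (h1 : (χ : G → ℂ) 1 ≠ 1) {p : ℕ}
    (hall : ∀ q : ℕ, q.Prime → q ≠ p → Zq χ q) :
    ordCompl[p] (Nat.card G) < ordProj[p] (Nat.card G) := by
  have hn : Nat.card G ≠ 0 := Nat.card_pos.ne'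
  have h2 := Nat.le_of_dvd (charDegree_pos χ.2) (ordCompl_dvd χ hall)
  have h3 := deg_sq_lt_card χ.2 (fun e => h1 (by rw [e]))
  have h4 := Nat.ordProj_mul_ordCompl_eq_self (Nat.card G) p
  have h5 : 0 < ordCompl[p] (Nat.card G) := Nat.ordCompl_pos p hn
  by_contra hcon
  push Not at hcon
  have h6 : ordProj[p] (Nat.card G) * ordCompl[p] (Nat.card G) ≤
      ordCompl[p] (Nat.card G) * ordCompl[p] (Nat.card G) := Nat.mul_le_mul_right _ hcon
  have h7 : ordCompl[p] (Nat.card G) * ordCompl[p] (Nat.card G) ≤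
      charDegree (χ : G → ℂ) * charDegree (χ : G → ℂ) := Nat.mul_le_mul h2 h2
  rw [h4] at h6
  nlinarith

omit H in
theorem ordProj_le_ordCompl {p r n : ℕ} (hn : n ≠ 0) (hp : p.Prime) (hr : r.Prime) (hne : p ≠ r) :
    ordProj[r] n ≤ ordCompl[p] n := by
  apply Nat.le_of_dvd (Nat.ordCompl_pos p hn)
  have h1 : ordProj[r] n ∣ ordProj[p] n * ordCompl[p] n := by
    rw [Nat.ordProj_mul_ordCompl_eq_self]
    exact Nat.ordProj_dvd n r
  have h2 : Nat.Coprime (ordProj[r] n) (ordProj[p] n) :=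
    Nat.Coprime.pow _ _ ((Nat.coprime_primes hr hp).mpr hne.symm)
  exact h2.dvd_of_dvd_mul_left h1

theorem exists_prime_all (χ₀ : IrrCharacter G) (h0 : (χ₀ : G → ℂ) 1 ≠ 1) :
    ∃ p : ℕ, p.Prime ∧ ∀ χ : IrrCharacter G, (χ : G → ℂ) 1 ≠ 1 → ∀ q : ℕ, q.Prime → q ≠ p → Zq χ q := by
  have hn : Nat.card G ≠ 0 := Nat.card_pos.ne'
  have hex : ∀ χ : IrrCharacter G, (χ : G → ℂ) 1 ≠ 1 →
      ∃ p : ℕ, p.Prime ∧ ∀ q : ℕ, q.Prime → q ≠ p → Zq χ q := by
    intro χ h1
    by_cases hc : ∃ q₀ : ℕ, q₀.Prime ∧ ¬ Zq χ q₀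
    · obtain ⟨q₀, hq₀, hZ⟩ := hc
      refine ⟨q₀, hq₀, fun q hq hne => ?_⟩
      exact (Zq_or H χ h1 hq hq₀ hne).resolve_right hZ
    · push Not at hc
      exact ⟨2, Nat.prime_two, fun q hq _ => hc q hq⟩
  obtain ⟨p, hp, hall⟩ := hex χ₀ h0
  refine ⟨p, hp, fun χ h1 => ?_⟩
  obtain ⟨r, hr, hall2⟩ := hex χ h1
  by_cases hrp : r = p
  · subst hrp
    exact hall2
  · exfalso
    have h2 := ordCompl_lt χ₀ h0 hall
    have h3 := ordCompl_lt χ h1 hall2
    have h4 := ordProj_le_ordCompl hn hp hr (Ne.symm hrp)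
    have h5 := ordProj_le_ordCompl hn hr hp hrp
    omega

omit H in
theorem pGroup_commutator {p : ℕ} (hp : p.Prime)
    (hall : ∀ χ : IrrCharacter G, (χ : G → ℂ) 1 ≠ 1 → ∀ q : ℕ, q.Prime → q ≠ p → Zq χ q) :
    IsPGroup p (commutator G) := by
  classical
  letI := Fintype.ofFinite G
  haveI : Fact p.Prime := ⟨hp⟩
  apply IsPGroup.of_card (n := (Nat.card (commutator G)).primeFactorsList.length)
  apply Nat.eq_prime_pow_of_unique_prime_dvd Nat.card_pos.ne'
  intro d hd hdvd
  by_contra hne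
  haveI : Fact d.Prime := ⟨hd⟩
  obtain ⟨x, hx⟩ := exists_prime_orderOf_dvd_card' d hdvd
  have hxo : orderOf (x : G) = d := by
    rw [Subgroup.orderOf_coe, hx]
  have hx1 : (x : G) ≠ 1 := by
    intro h
    rw [h, orderOf_one] at hxo
    exact hd.one_lt.ne hxo
  have h1 := sum_irr_deg_mul (x : G)
  rw [if_neg hx1] at h1
  have h2 : ∀ χ : IrrCharacter G, (χ : G → ℂ) 1 * (χ : G → ℂ) x =
      if (χ : G → ℂ) 1 = 1 then 1 else 0 := by
    intro χ
    by_cases h3 : (χ : G → ℂ) 1 = 1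
    · rw [if_pos h3, h3, lin_commutator (IsIrrCharacter.isCharacter χ.2) h3 x.2, one_mul]
    · rw [if_neg h3, hall χ h3 d hd hne x hx1 ⟨1, by rw [hxo, pow_one]⟩, mul_zero]
  simp only [h2, Finset.sum_boole] at h1
  have h3 : (Finset.univ.filter (fun χ : IrrCharacter G => (χ : G → ℂ) 1 = 1)).card = 0 := by
    exact_mod_cast h1
  rw [Finset.card_eq_zero] at h3
  have h4 : (⟨fun _ => 1, isIrrCharacter_one⟩ : IrrCharacter G) ∈
      Finset.univ.filter (fun χ : IrrCharacter G => (χ : G → ℂ) 1 = 1) := by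
    simp
  rw [h3] at h4
  simp at h4

omit H in
theorem card_centralizer {p : ℕ}
    (hall : ∀ χ : IrrCharacter G, (χ : G → ℂ) 1 ≠ 1 → ∀ q : ℕ, q.Prime → q ≠ p → Zq χ q)
    {a : G} {q b : ℕ} (ha : a ≠ 1) (hq : q.Prime) (hqp : q ≠ p) (hao : orderOf a = q ^ b) :
    Nat.card (Subgroup.centralizer ({a} : Set G)) = (commutator G).index := by
  classical
  letI := Fintype.ofFinite G
  have h1 := sum_irr_mul_conj a a
  rw [if_pos (IsConj.refl a)] at h1
  have h2 : ∀ χ : IrrCharacter G, (χ : G → ℂ) a * conj ((χ : G → ℂ) a) =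
      if (χ : G → ℂ) 1 = 1 then 1 else 0 := by
    intro χ
    by_cases h3 : (χ : G → ℂ) 1 = 1
    · rw [if_pos h3, lin_norm (IsIrrCharacter.isCharacter χ.2) h3]
    · rw [if_neg h3, hall χ h3 q hq hqp a ha ⟨b, hao⟩, zero_mul]
  simp only [h2, Finset.sum_boole] at h1
  have h3 : (Finset.univ.filter (fun χ : IrrCharacter G => (χ : G → ℂ) 1 = 1)).card =
      Nat.card (Subgroup.centralizer ({a} : Set G)) := by
    exact_mod_cast h1
  rw [← h3, ← Cfsg.Agent.S0154.result]
  symm
  exact Nat.subtype_card _ (by simp)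

omit H in
/-- The class of `a` is the full coset of the commutator subgroup. -/
theorem isConj_mul {a : G} (hc : Nat.card (Subgroup.centralizer ({a} : Set G)) = (commutator G).index)
    {g : G} (hg : g ∈ commutator G) : IsConj a (g * a) := by
  classical
  letI := Fintype.ofFinite G
  have h1 := card_conj_mul_card_centralizer a
  have h2 := Subgroup.card_mul_index (commutator G)
  rw [hc, ← h2] at h1
  have hidx : 0 < (commutator G).index := Nat.pos_of_ne_zero Subgroup.index_ne_zero_of_finite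
  have h3 : Nat.card {x : G // IsConj a x} = Nat.card (commutator G) :=
    Nat.eq_of_mul_eq_mul_right hidx h1
  let φ : {x : G // IsConj a x} → commutator G := fun x => ⟨x.1 * a⁻¹, by
    obtain ⟨c, hc⟩ := isConj_iff.mp x.2
    have : x.1 * a⁻¹ = ⁅c, a⁆ := by
      rw [← hc, commutatorElement_def]
    rw [this]
    exact Subgroup.commutator_mem_commutator (Subgroup.mem_top c) (Subgroup.mem_top a)⟩
  have hφ : Function.Injective φ := by
    intro x y h
    have h4 : x.1 * a⁻¹ = y.1 * a⁻¹ := congrArg Subtype.val h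
    exact Subtype.ext (mul_right_cancel h4)
  have hb : Function.Bijective φ := hφ.bijective_of_nat_card_le h3.ge
  obtain ⟨x, hx⟩ := hb.2 ⟨g, hg⟩
  have h4 : x.1 * a⁻¹ = g := congrArg Subtype.val hx
  have h5 : x.1 = g * a := by
    rw [← h4]
    group
  rw [← h5]
  exact x.2

omit H in
/-- `a` acts without fixed points on the commutator subgroup. -/
theorem fpf_of_isConj {p q b : ℕ} (hp : p.Prime) (hq : q.Prime) (hqp : q ≠ p) {a : G}
    (hao : orderOf a = q ^ b) (hG' : IsPGroup p (commutator G))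
    (hconj : ∀ g ∈ commutator G, IsConj a (g * a)) {g : G} (hg : g ∈ commutator G)
    (hga : g * a = a * g) : g = 1 := by
  obtain ⟨c, hc⟩ := isConj_iff.mp (hconj g hg)
  have h1 : orderOf (g * a) = orderOf a := by
    rw [← hc]
    exact (MulAut.conj c).orderOf_eq a
  obtain ⟨k, hk⟩ := hG' ⟨g, hg⟩
  have h2 : g ^ (p ^ k) = 1 := by
    have := congrArg Subtype.val hk
    simpa using this
  obtain ⟨i, -, hi⟩ := (Nat.dvd_prime_pow hp).mp (orderOf_dvd_of_pow_eq_one h2)
  have hcop : Nat.Coprime (orderOf g) (orderOf a) := by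
    rw [hi, hao]
    exact Nat.Coprime.pow _ _ ((Nat.coprime_primes hp hq).mpr hqp.symm)
  have h3 : Commute g a := hga
  rw [h3.orderOf_mul_eq_mul_orderOf_of_coprime hcop] at h1
  have h4 : orderOf g = 1 :=
    Nat.eq_of_mul_eq_mul_right (orderOf_pos a) (by rw [h1, one_mul])
  exact orderOf_eq_one_iff.mp h4

end Forward

theorem forward
    (H : ∀ (x y : G) (χ : Cfsg.IrrCharacter G), x ≠ 1 → y ≠ 1 → (∃ p q a b : ℕ, p.Prime ∧ q.Prime ∧ p ≠ q ∧ orderOf x = p ^ a ∧ orderOf y = q ^ b) → (χ : G → ℂ) (x * y) = (χ : G → ℂ) x * (χ : G → ℂ) y)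
    (hnp : ¬ ∃ p : ℕ, p.Prime ∧ IsPGroup p G) (hna : ¬ IsMulCommutative G) :
    ∃ (p : ℕ) (_ : Fact p.Prime) (P : Sylow p G) (A : Subgroup G), (P : Subgroup G).Normal ∧ IsCyclic ↥A ∧ A ≠ ⊥ ∧ (Nat.card ↥A).Coprime p ∧ A ⊔ (P : Subgroup G) = ⊤ ∧ IsMulCommutative ↥((P : Subgroup G) ⊓ Subgroup.centralizer (A : Set G)) ∧ (⁅A, (P : Subgroup G)⁆).Normal ∧ ((P : Subgroup G) ⊓ Subgroup.centralizer (A : Set G)) ⊔ ⁅A, (P : Subgroup G)⁆ = (P : Subgroup G) ∧ ((P : Subgroup G) ⊓ Subgroup.centralizer (A : Set G)) ⊓ ⁅A, (P : Subgroup G)⁆ = ⊥ ∧ ∀ a ∈ A, a ≠ 1 → ∀ d ∈ ⁅A, (P : Subgroup G)⁆, a * d = d * a → d = 1 := by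
  classical
  have hncomm : ¬ ∀ x y : G, x * y = y * x := fun h => hna ⟨⟨h⟩⟩
  obtain ⟨χ₀, h0⟩ : ∃ χ : IrrCharacter G, (χ : G → ℂ) 1 ≠ 1 := by
    by_contra hcon
    push Not at hcon
    exact hncomm (comm_of_all_linear hcon)
  obtain ⟨p, hp, hall⟩ := exists_prime_all H χ₀ h0
  haveI : Fact p.Prime := ⟨hp⟩
  have hG' := pGroup_commutator hp hall
  obtain ⟨P, hGP⟩ := hG'.exists_le_sylow
  have hPn : (P : Subgroup G).Normal := by
    constructor
    intro n hn g
    have h1 : g * n * g⁻¹ = ⁅g, n⁆ * n := by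
      rw [commutatorElement_def]
      group
    rw [h1]
    exact (P : Subgroup G).mul_mem
      (hGP (Subgroup.commutator_mem_commutator (Subgroup.mem_top g) (Subgroup.mem_top n))) hn
  haveI := hPn
  obtain ⟨A, hA⟩ := Subgroup.exists_right_complement'_of_coprime P.card_coprime_index
  have hAP : A ⊔ (P : Subgroup G) = ⊤ := by
    rw [sup_comm]
    exact hA.sup_eq_top
  have hdisj : Disjoint (P : Subgroup G) A := hA.disjoint
  have hAcomm : ∀ a ∈ A, ∀ b ∈ A, a * b = b * a := by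
    intro a ha b hb
    have h1 : ⁅a, b⁆ ∈ (P : Subgroup G) :=
      hGP (Subgroup.commutator_mem_commutator (Subgroup.mem_top a) (Subgroup.mem_top b))
    have h2 : ⁅a, b⁆ ∈ A := by
      rw [commutatorElement_def]
      exact A.mul_mem (A.mul_mem (A.mul_mem ha hb) (A.inv_mem ha)) (A.inv_mem hb)
    have h3 : ⁅a, b⁆ = 1 := Subgroup.disjoint_def.mp hdisj h1 h2
    exact commutatorElement_eq_one_iff_mul_comm.mp h3
  have hAp : (Nat.card A).Coprime p := by
    rw [← hA.symm.index_eq_card]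
    exact ((Nat.Prime.coprime_iff_not_dvd hp).mpr P.not_dvd_index).symm
  have hAne : A ≠ ⊥ := by
    rintro rfl
    have h1 : (P : Subgroup G) = ⊤ := by
      have := hA.sup_eq_top
      rwa [sup_bot_eq] at this
    apply hnp
    refine ⟨p, hp, fun g => ?_⟩
    have h2 : g ∈ (P : Subgroup G) := by
      rw [h1]
      exact Subgroup.mem_top g
    obtain ⟨k, hk⟩ := P.2 ⟨g, h2⟩
    refine ⟨k, ?_⟩
    have := congrArg Subtype.val hk
    simpa using this
  -- good elements: prime order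
  let Good : G → Prop := fun a => a ∈ A ∧ a ≠ 1 ∧ ∃ q : ℕ, q.Prime ∧ q ≠ p ∧ orderOf a = q
  have hgood : ∀ a ∈ A, a ≠ 1 → ∃ k : ℕ, Good (a ^ k) := by
    intro a ha ha1
    set q := (orderOf a).minFac with hq
    have hne1 : orderOf a ≠ 1 := fun h => ha1 (orderOf_eq_one_iff.mp h)
    have hqp : q.Prime := Nat.minFac_prime hne1
    have hqd : q ∣ orderOf a := Nat.minFac_dvd _
    have hord : orderOf (a ^ (orderOf a / q)) = q :=
      orderOf_pow_orderOf_div (orderOf_pos a).ne' hqd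
    refine ⟨orderOf a / q, A.pow_mem ha _, ?_, q, hqp, ?_, hord⟩
    · intro h
      rw [h, orderOf_one] at hord
      exact hqp.one_lt.ne hord
    · intro h
      have h2 : p ∣ Nat.card A := by
        rw [← h]
        exact hqd.trans (Subgroup.orderOf_dvd_natCard A ha)
      have h3 := Nat.Coprime.eq_one_of_dvd hAp.symm h2
      exact hp.one_lt.ne' h3
  have hconj : ∀ a, Good a → ∀ g ∈ commutator G, IsConj a (g * a) := by
    rintro a ⟨-, ha1, q, hq, hqp, hao⟩ g hg
    exact isConj_mul (card_centralizer hall (b := 1) ha1 hq hqp (by rw [hao, pow_one])) hg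
  have hfpf' : ∀ a, Good a → ∀ g ∈ commutator G, g * a = a * g → g = 1 := by
    intro a ha g hg hga
    obtain ⟨-, -, q, hq, hqp, hao⟩ := id ha
    exact fpf_of_isConj (b := 1) hp hq hqp (by rw [hao, pow_one]) hG' (hconj a ha) hg hga
  -- a fixed good element
  obtain ⟨a₁, ha₁, ha₁1⟩ := A.bot_or_exists_ne_one.resolve_left hAne
  obtain ⟨k₁, hk₁⟩ := hgood a₁ ha₁ ha₁1
  set a₀ := a₁ ^ k₁ with ha₀
  have hgood₀ : Good a₀ := hk₁
  have ha₀A : a₀ ∈ A := hgood₀.1
  -- the commutator of `A` and `P`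
  have hD : ⁅A, (P : Subgroup G)⁆ = commutator G := by
    apply le_antisymm
    · exact Subgroup.commutator_mono le_top le_top
    · intro g hg
      obtain ⟨c, hc⟩ := isConj_iff.mp (hconj a₀ hgood₀ g hg)
      have h1 : c ∈ (((P : Subgroup G) ⊔ A : Subgroup G) : Set G) := by
        rw [hA.sup_eq_top]
        exact Subgroup.mem_top c
      rw [Subgroup.normal_mul] at h1
      obtain ⟨x, hx, b, hb, rfl⟩ := Set.mem_mul.mp h1
      have h2 : b * a₀ * b⁻¹ = a₀ := by
        rw [hAcomm b hb a₀ ha₀A]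
        group
      have h3 : g = ⁅x, a₀⁆ := by
        have h4 : x * b * a₀ * (x * b)⁻¹ = x * (b * a₀ * b⁻¹) * x⁻¹ := by group
        rw [h4, h2] at hc
        rw [commutatorElement_def, hc]
        group
      rw [h3, Subgroup.commutator_comm]
      exact Subgroup.commutator_mem_commutator hx ha₀A
  have hCa : ∀ x ∈ (P : Subgroup G), x * a₀ = a₀ * x → x ∈ Subgroup.centralizer (A : Set G) := by
    intro x _ hxa
    rw [Subgroup.mem_centralizer_iff]
    intro b hb
    have h1 : ⁅x, b⁆ ∈ commutator G :=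
      Subgroup.commutator_mem_commutator (Subgroup.mem_top x) (Subgroup.mem_top b)
    have h2 : ⁅x, b⁆ * a₀ = a₀ * ⁅x, b⁆ := by
      have c1 : Commute x a₀ := hxa
      have c2 : Commute b a₀ := hAcomm b hb a₀ ha₀A
      have c3 : Commute ⁅x, b⁆ a₀ := by
        rw [commutatorElement_def]
        exact ((c1.mul_left c2).mul_left c1.inv_left).mul_left c2.inv_left
      exact c3
    have h3 := hfpf' a₀ hgood₀ _ h1 h2
    exact (commutatorElement_eq_one_iff_mul_comm.mp h3).symm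
  have hCmem : ∀ x ∈ (P : Subgroup G) ⊓ Subgroup.centralizer (A : Set G), x * a₀ = a₀ * x := by
    intro x hx
    exact (Subgroup.mem_centralizer_iff.mp hx.2 a₀ ha₀A).symm
  refine ⟨p, inferInstance, P, A, hPn, ?_, hAne, hAp, hAP, ?_, ?_, ?_, ?_, ?_⟩
  · -- cyclic
    refine Cfsg.Agent.Lib.FpfGeneral.isCyclic_of_fpf A (commutator G) ?_ ?_ ?_
      (Or.inl ⟨⟨fun a b => Subtype.ext (hAcomm a a.2 b b.2)⟩⟩)
    · intro h
      apply hncomm
      intro x y
      have h1 : ⁅x, y⁆ ∈ commutator G :=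
        Subgroup.commutator_mem_commutator (Subgroup.mem_top x) (Subgroup.mem_top y)
      rw [h, Subgroup.mem_bot] at h1
      exact commutatorElement_eq_one_iff_mul_comm.mp h1
    · intro a _
      rw [Subgroup.mem_normalizer_iff]
      intro x
      haveI : (commutator G).Normal := inferInstance
      exact ⟨fun h => Subgroup.Normal.conj_mem inferInstance x h a, fun h => by
        have := Subgroup.Normal.conj_mem (inferInstance : (commutator G).Normal) _ h a⁻¹
        simpa [mul_assoc] using this⟩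
    · intro a ha ha1
      rw [eq_bot_iff]
      rintro d ⟨hd1, hd2⟩
      obtain ⟨k, hk⟩ := hgood a ha ha1
      have h1 : Commute d a := by
        have := Subgroup.mem_centralizer_iff.mp hd2 a (by simp)
        exact this.symm
      have h2 : Commute d (a ^ k) := h1.pow_right k
      exact hfpf' _ hk d hd1 h2
  · -- `C` abelian
    refine ⟨⟨fun x y => Subtype.ext ?_⟩⟩
    have hx := hCmem x x.2
    have hy := hCmem y y.2
    have h1 : ⁅(x : G), (y : G)⁆ ∈ commutator G :=
      Subgroup.commutator_mem_commutator (Subgroup.mem_top _) (Subgroup.mem_top _)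
    have c1 : Commute (x : G) a₀ := hx
    have c2 : Commute (y : G) a₀ := hy
    have c3 : Commute ⁅(x : G), (y : G)⁆ a₀ := by
      rw [commutatorElement_def]
      exact ((c1.mul_left c2).mul_left c1.inv_left).mul_left c2.inv_left
    have h3 := hfpf' a₀ hgood₀ _ h1 c3
    exact commutatorElement_eq_one_iff_mul_comm.mp h3
  · rw [hD]
    infer_instance
  · -- `C ⊔ D = P`
    rw [hD]
    apply le_antisymm
    · exact sup_le inf_le_left hGP
    · intro x hx
      -- the commutator map on `G'`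
      let ψ : commutator G → commutator G := fun e => ⟨⁅(e : G), a₀⁆,
        Subgroup.commutator_mem_commutator (Subgroup.mem_top _) (Subgroup.mem_top _)⟩
      have hψ : Function.Injective ψ := by
        intro e f h
        have h1 : ⁅(e : G), a₀⁆ = ⁅(f : G), a₀⁆ := congrArg Subtype.val h
        rw [commutatorElement_def, commutatorElement_def] at h1
        have h2 : (e : G) * a₀ * (e : G)⁻¹ = (f : G) * a₀ * (f : G)⁻¹ := mul_right_cancel h1
        have h3 : ((f : G)⁻¹ * e) * a₀ = a₀ * ((f : G)⁻¹ * e) := by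
          have h4 : (e : G) * a₀ = (f : G) * a₀ * (f : G)⁻¹ * e := by
            rw [← h2]
            group
          rw [mul_assoc, h4]
          group
        have h5 := hfpf' a₀ hgood₀ _ ((commutator G).mul_mem ((commutator G).inv_mem f.2) e.2) h3
        rw [inv_mul_eq_one] at h5
        exact Subtype.ext h5.symm
      have hψs : Function.Surjective ψ := Finite.surjective_of_injective hψ
      obtain ⟨e, he⟩ := hψs ⟨⁅x, a₀⁆,
        Subgroup.commutator_mem_commutator (Subgroup.mem_top _) (Subgroup.mem_top _)⟩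
      have h1 : ⁅(e : G), a₀⁆ = ⁅x, a₀⁆ := congrArg Subtype.val he
      rw [commutatorElement_def, commutatorElement_def] at h1
      have h2 : (e : G) * a₀ * (e : G)⁻¹ = x * a₀ * x⁻¹ := mul_right_cancel h1
      have h3 : ((e : G)⁻¹ * x) * a₀ = a₀ * ((e : G)⁻¹ * x) := by
        have h4 : x * a₀ = (e : G) * a₀ * (e : G)⁻¹ * x := by
          rw [h2]
          group
        rw [mul_assoc, h4]
        group
      have h5 : (e : G)⁻¹ * x ∈ (P : Subgroup G) :=
        (P : Subgroup G).mul_mem ((P : Subgroup G).inv_mem (hGP e.2)) hx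
      have h6 : (e : G)⁻¹ * x ∈ (P : Subgroup G) ⊓ Subgroup.centralizer (A : Set G) :=
        ⟨h5, hCa _ h5 h3⟩
      have h7 : x = (e : G) * ((e : G)⁻¹ * x) := by group
      rw [h7, sup_comm]
      exact Subgroup.mul_mem_sup e.2 h6
  · -- `C ⊓ D = ⊥`
    rw [hD, eq_bot_iff]
    rintro d ⟨hd1, hd2⟩
    exact hfpf' a₀ hgood₀ d hd2 (hCmem d hd1)
  · -- fixed-point-freeness
    intro a ha ha1 d hd had
    rw [hD] at hd
    obtain ⟨k, hk⟩ := hgood a ha ha1
    have h1 : Commute d a := Commute.symm had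
    exact hfpf' _ hk d hd (h1.pow_right k)

/-- For a finite group G the following are equivalent. (1) χ(x y) = χ(x) χ(y) for every irreducible character χ and all non-identity elements x, y of prime power orders for two different primes. (2) G is a p-group for some prime p, or G is abelian, or for some prime p: G = A P with P a normal Sylow p-subgroup and A a nontrivial cyclic subgroup of order prime to p such that, with C = C_P(A) and D = [A, P], one has P = C D, C abelian, D normal in G, C ∩ D = 1, and A acts fixed-point-freely on D (no non-identity element of A centralizes a non-identity element of D). -/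
theorem result {G : Type*} [Group G] [Finite G] : (∀ (x y : G) (χ : Cfsg.IrrCharacter G), x ≠ 1 → y ≠ 1 → (∃ p q a b : ℕ, p.Prime ∧ q.Prime ∧ p ≠ q ∧ orderOf x = p ^ a ∧ orderOf y = q ^ b) → (χ : G → ℂ) (x * y) = (χ : G → ℂ) x * (χ : G → ℂ) y) ↔ ((∃ p : ℕ, p.Prime ∧ IsPGroup p G) ∨ IsMulCommutative G ∨ ∃ (p : ℕ) (_ : Fact p.Prime) (P : Sylow p G) (A : Subgroup G), (P : Subgroup G).Normal ∧ IsCyclic ↥A ∧ A ≠ ⊥ ∧ (Nat.card ↥A).Coprime p ∧ A ⊔ (P : Subgroup G) = ⊤ ∧ IsMulCommutative ↥((P : Subgroup G) ⊓ Subgroup.centralizer (A : Set G)) ∧ (⁅A, (P : Subgroup G)⁆).Normal ∧ ((P : Subgroup G) ⊓ Subgroup.centralizer (A : Set G)) ⊔ ⁅A, (P : Subgroup G)⁆ = (P : Subgroup G) ∧ ((P : Subgroup G) ⊓ Subgroup.centralizer (A : Set G)) ⊓ ⁅A, (P : Subgroup G)⁆ = ⊥ ∧ ∀ a ∈ A, a ≠ 1 → ∀ d ∈ ⁅A, (P : Subgroup G)⁆, a * d = d * a → d = 1) := by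
  constructor
  · intro H
    by_cases hnp : ∃ p : ℕ, p.Prime ∧ IsPGroup p G
    · exact Or.inl hnp
    by_cases hna : IsMulCommutative G
    · exact Or.inr (Or.inl hna)
    exact Or.inr (Or.inr (forward H hnp hna))
  · rintro (⟨p, hp, hG⟩ | hc | ⟨p, hf, P, A, hPn, hAc, -, hAp, hAP, hCab, hDn, hCD, -, hfpf⟩)
      x y χ hx hy hxy
    · exfalso
      obtain ⟨r, s, i, j, hr, hs, hrs, hxo, hyo⟩ := hxy
      have key : ∀ {z : G} {t n : ℕ}, t.Prime → z ≠ 1 → orderOf z = t ^ n → t = p := by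
        intro z t n ht hz hzo
        obtain ⟨k, hk⟩ := hG z
        have h3 : t ^ n ∣ p ^ k := by
          rw [← hzo]
          exact orderOf_dvd_of_pow_eq_one hk
        have hn : n ≠ 0 := by
          rintro rfl
          rw [pow_zero] at hzo
          exact hz (orderOf_eq_one_iff.mp hzo)
        have h4 : t ∣ p ^ k := (dvd_pow_self t hn).trans h3
        exact (Nat.prime_dvd_prime_iff_eq ht hp).mp (ht.dvd_of_dvd_pow h4)
      exact hrs ((key hr hx hxo).trans (key hs hy hyo).symm)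
    · have h1 := irr_one_of_comm (fun a b : G => (IsMulCommutative.is_comm (M := G)).comm a b) χ.2
      exact lin_mul (IsIrrCharacter.isCharacter χ.2) h1 x y
    · exact of_structure p P A hPn hAc hAp hAP hCab hDn hCD hfpf x y χ hx hy hxy

end Cfsg.Agent.S4756
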