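import Cfsg.Statements.S4758
import Cfsg.Agent.Lib.UFour9E

set_option autoImplicit false
open Cfsg

namespace Cfsg.Agent.S4758

/-- Let u ≠ 1 be an element of the finite group G such that every non-principal irreducible character χ satisfies χ(1) − χ(u) = 4 or χ(u) = 0. Then O(G), the largest normal subgroup of odd order, is abelian, and either G ⧸ O(G) ≅ PSL₂(5) and u is an involution, or G ⧸ O(G) ≅ SL₂(5) and u has order 4. -/
theorem result {G : Type*} [Group G] [Finite G] (u : G) (hu : u ≠ 1) (hyp : ∀ χ : Cfsg.IrrCharacter G, (χ : G → ℂ) ≠ (fun _ => (1 : ℂ)) → ((χ : G → ℂ) 1 - (χ : G → ℂ) u = 4 ∨ (χ : G → ℂ) u = 0)) : IsMulCommutative ↥(Cfsg.oddCore G) ∧ ((Nonempty (G ⧸ Cfsg.oddCore G ≃* Matrix.ProjectiveSpecialLinearGroup (Fin 2) (ZMod 5)) ∧ orderOf u = 2) ∨ (Nonempty (G ⧸ Cfsg.oddCore G ≃* Matrix.SpecialLinearGroup (Fin 2) (ZMod 5)) ∧ orderOf u = 4)) := by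
  classical
  have h : Cfsg.Agent.Lib.UFour9.Hyp u := hyp
  obtain ⟨X, _, _, π, hπ, hA5, hu1, hu2, hC, hconj, hS, hS4⟩ :=
    Cfsg.Agent.Lib.UFour9D.main_data h hu
  have hperf := h.perfect hu
  have huC : u ∈ Subgroup.centralizer ({u} : Set G) := by
    rw [Subgroup.mem_centralizer_singleton_iff]
  have ho : orderOf u ∣ 4 := by
    rw [← hC]
    exact Subgroup.orderOf_dvd_natCard _ huC
  have hcases : orderOf u ∈ Nat.divisors 4 := by simp [ho]
  have h4 : Nat.divisors 4 = {1, 2, 4} := by decide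
  rw [h4] at hcases
  simp only [Finset.mem_insert, Finset.mem_singleton] at hcases
  rcases hcases with h1 | h2 | h4'
  · exact absurd (orderOf_eq_one_iff.mp h1) hu
  · have huu : u * u = 1 := by
      have := pow_orderOf_eq_one u
      rwa [h2, sq] at this
    obtain ⟨hab, hiso⟩ :=
      Cfsg.Agent.Lib.UFour9E.case_two π hπ hA5 huu hu1 hC hconj hS hS4
    exact ⟨hab, Or.inl ⟨hiso, h2⟩⟩
  · obtain ⟨hab, hiso⟩ :=
      Cfsg.Agent.Lib.UFour9E.case_four hperf π hπ hA5 h4' hu1 hC hconj hS hS4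
    exact ⟨hab, Or.inr ⟨hiso, h4'⟩⟩

end Cfsg.Agent.S4758
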