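import Mathlib
import Cfsg.Statements.S4781
import Cfsg.Agent.Lib.NoDiv17F

set_option autoImplicit false
set_option linter.style.haveILetI false
set_option linter.unusedVariables false
open Cfsg

namespace Cfsg.Agent.S4781

open Cfsg.Agent.Lib.CharBasic Cfsg.Agent.Lib.CharInd Cfsg.Agent.Lib.CharKernel
open Cfsg.Agent.Lib.Clifford Cfsg.Agent.Lib.CliffDvd Cfsg.Agent.Lib.TwoDeg
open Cfsg.Agent.Lib.ThreeDeg31 Cfsg.Agent.Lib.CoprimeDeg Cfsg.Agent.Lib.NoDiv17
open scoped commutatorElement

/-- Let G be a finite solvable group in which no irreducible complex character degree a with 1 < a divides a larger irreducible character degree, and suppose the character degree graph of G (primes dividing some degree, distinct primes adjacent when their product divides a degree) has exactly two connected components. Then G has exactly three distinct irreducible character degrees. -/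
theorem result {G : Type*} [Group G] [Finite G] [Group.IsSolvable G] (hnd : ∀ a ∈ Cfsg.charDegrees G, ∀ b ∈ Cfsg.charDegrees G, 1 < a → a < b → ¬ a ∣ b) (htwo : Nat.card ((Cfsg.degreeGraph G).induce (Cfsg.degreePrimes G)).ConnectedComponent = 2) : Nat.card ↥(Cfsg.charDegrees G) = 3 := by
  classical
  haveI : Fintype G := Fintype.ofFinite G
  have hsol : Group.IsSolvable G := inferInstance
  have hnot := not_all_reach (G := G) htwo
  have hnd' : NoDivD G := by
    intro θ θ' hθ h
    by_contra hne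
    have h0 : charDegree (θ : G → ℂ) ≠ 0 := charDegree_ne_zero θ.2
    have h0' : charDegree (θ' : G → ℂ) ≠ 0 := charDegree_ne_zero θ'.2
    have h1 : charDegree (θ : G → ℂ) ≤ charDegree (θ' : G → ℂ) :=
      Nat.le_of_dvd (Nat.pos_of_ne_zero h0') h
    exact hnd _ ⟨θ, rfl⟩ _ ⟨θ', rfl⟩ (by omega) (by omega) h
  have hGne : commutator G ≠ ⊥ := by
    intro h
    apply hnot
    rintro ⟨v, hv, d, ⟨χ, rfl⟩, hvd⟩
    have h1 : charDegree (χ : G → ℂ) = 1 :=
      charDegree_of_one (by
        rw [Cfsg.Agent.Lib.CharCodegP.irr_one_of_comm (comm_of_commutator_eq_bot h) χ.2]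
        simp)
    rw [h1] at hvd
    exact absurd (Nat.dvd_one.mp hvd) hv.one_lt.ne'
  let S : Set (Subgroup G) := {N | N.Normal ∧ ¬ commutator G ≤ N}
  have hS : S.Nonempty := ⟨⊥, ⟨inferInstance, fun h => hGne (le_bot_iff.mp h)⟩⟩
  obtain ⟨N, hNmax⟩ := S.toFinite.exists_maximal hS
  haveI hNn : N.Normal := hNmax.prop.1
  let q : G →* G ⧸ N := QuotientGroup.mk' N
  have hq : Function.Surjective q := QuotientGroup.mk'_surjective N
  haveI hHsol : Group.IsSolvable (G ⧸ N) := Group.isSolvable_of_surjective hq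
  have hne : commutator (G ⧸ N) ≠ ⊥ := by
    intro h
    apply hNmax.prop.2
    rw [commutator_def, Subgroup.commutator_le]
    intro a _ b _
    have h1 := mem_commutator (q a) (q b)
    rw [h, Subgroup.mem_bot] at h1
    have h2 : q ⁅a, b⁆ = 1 := by
      rw [commutatorElement_def, map_mul, map_mul, map_mul, map_inv, map_inv]
      exact h1
    exact (QuotientGroup.eq_one_iff _).mp h2
  have hU : ∀ L : Subgroup (G ⧸ N), L.Normal → L ≠ ⊥ → commutator (G ⧸ N) ≤ L := by
    intro L hL hLne
    haveI := hL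
    have h1 : commutator G ≤ L.comap q := by
      by_contra h2
      have h3 : L.comap q ∈ S := ⟨inferInstance, h2⟩
      have h4 : N ≤ L.comap q := by
        intro x hx
        show q x ∈ L
        have : q x = 1 := (QuotientGroup.eq_one_iff x).mpr hx
        rw [this]
        exact L.one_mem
      have h5 := hNmax.le_of_ge h3 h4
      apply hLne
      rw [eq_bot_iff]
      intro y hy
      obtain ⟨x, rfl⟩ := hq y
      exact Subgroup.mem_bot.mpr ((QuotientGroup.eq_one_iff x).mpr (h5 hy))
    rw [commutator_def, Subgroup.commutator_le]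
    intro a _ b _
    obtain ⟨a', rfl⟩ := hq a
    obtain ⟨b', rfl⟩ := hq b
    have h2 := h1 (mem_commutator a' b')
    have h3 : q (a' * b' * a'⁻¹ * b'⁻¹) ∈ L := h2
    rw [commutatorElement_def]
    simpa only [map_mul, map_inv] using h3
  have hab := commutator_abelian hHsol hU
  have hHnt : Nontrivial (G ⧸ N) := by
    by_contra h
    rw [not_nontrivial_iff_subsingleton] at h
    exact hne (Subsingleton.elim _ _)
  have htop : commutator (G ⧸ N) ≠ ⊤ :=
    (Group.IsSolvable.commutator_lt_top_of_nontrivial (G ⧸ N)).ne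
  by_cases hcent : commutator (G ⧸ N) ≤ Subgroup.center (G ⧸ N)
  · -- the nilpotent case
    exfalso
    haveI hnil : Group.IsNilpotent (G ⧸ N) := by
      rw [Subgroup.nilpotent_iff_lowerCentralSeries]
      refine ⟨2, ?_⟩
      show ⁅commutator (G ⧸ N), (⊤ : Subgroup (G ⧸ N))⁆ = ⊥
      rw [Subgroup.commutator_eq_bot_iff_le_centralizer, Subgroup.coe_top,
        Subgroup.centralizer_univ]
      exact hcent
    obtain ⟨p, hp, hpd⟩ := Nat.exists_prime_and_dvd (Finite.one_lt_card (α := G ⧸ N)).ne'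
    haveI : Fact p.Prime := ⟨hp⟩
    have hHp : IsPGroup p (G ⧸ N) := by
      apply IsPGroup.of_card (n := (Nat.card (G ⧸ N)).primeFactorsList.length)
      apply Nat.eq_prime_pow_of_unique_prime_dvd Nat.card_pos.ne'
      intro q' hq' hq'd
      haveI : Fact q'.Prime := ⟨hq'⟩
      by_contra hqp
      obtain ⟨Sp⟩ : Nonempty (Sylow p (G ⧸ N)) := inferInstance
      obtain ⟨Sq⟩ : Nonempty (Sylow q' (G ⧸ N)) := inferInstance
      have hSp : (Sp : Subgroup (G ⧸ N)) ≠ ⊥ := Sp.ne_bot_of_dvd_card hpd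
      have hSq : (Sq : Subgroup (G ⧸ N)) ≠ ⊥ := Sq.ne_bot_of_dvd_card hq'd
      have h1 := hU _ inferInstance hSp
      have h2 := hU _ inferInstance hSq
      apply hne
      rw [eq_bot_iff]
      have h3 := IsPGroup.disjoint_of_ne q' p hqp _ _ Sq.isPGroup' Sp.isPGroup'
      exact (le_inf h2 h1).trans h3.le_bot
    obtain ⟨β, e, hβ, he, hmul⟩ := exists_mul_irr hp N hHp hcent hne hU
    -- every nonlinear degree is divisible by `p`
    have hall : ∀ χ : IrrCharacter G, charDegree (χ : G → ℂ) ≠ 1 → p ∣ charDegree (χ : G → ℂ) := by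
      intro χ hχ
      by_contra h
      obtain ⟨χ', hχ'⟩ := hmul χ h
      have hβ1 : charDegree (β : G → ℂ) ≠ 1 := by
        rw [hβ]
        exact (Nat.one_lt_pow he hp.one_lt).ne'
      have h1 := hnd' β χ' hβ1 (by rw [hβ, hχ']; exact Dvd.intro _ rfl)
      rw [hβ, hχ'] at h1
      have h2 : 0 < p ^ e := pow_pos hp.pos e
      exact hχ (Nat.eq_of_mul_eq_mul_left h2 (by rw [← h1, mul_one])).symm
    have hpv : p ∈ Cfsg.degreePrimes G := by
      refine ⟨hp, _, ⟨β, rfl⟩, ?_⟩
      rw [hβ]
      exact dvd_pow_self p he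
    apply hnot
    have hreach : ∀ v : ↥(Cfsg.degreePrimes G), (Gam G).Reachable v ⟨p, hpv⟩ := by
      rintro ⟨v, hv, d, ⟨χ, rfl⟩, hvd⟩
      have h1 : charDegree (χ : G → ℂ) ≠ 1 := by
        intro h1
        rw [h1] at hvd
        exact hv.one_lt.ne' (Nat.dvd_one.mp hvd)
      exact reach_of_common ⟨χ, rfl⟩ hvd (hall χ h1)
    intro v w
    exact (hreach v).trans (hreach w).symm
  · obtain ⟨y₀, hy₀, hy₀c⟩ := SetLike.not_le_iff_exists.mp hcent
    rw [Subgroup.mem_center_iff] at hy₀c
    push Not at hy₀c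
    obtain ⟨g₀, hg₀⟩ := hy₀c
    have hg₀' : ∃ y ∈ commutator (G ⧸ N), g₀ * y * g₀⁻¹ * y⁻¹ ≠ 1 := by
      refine ⟨y₀, hy₀, fun h => hg₀ ?_⟩
      calc g₀ * y₀ = g₀ * y₀ * g₀⁻¹ * y₀⁻¹ * (y₀ * g₀) := by group
        _ = y₀ * g₀ := by rw [h, one_mul]
    have hfree : ∀ h, h ∉ commutator (G ⧸ N) → ∀ y ∈ commutator (G ⧸ N),
        ∃ z ∈ commutator (G ⧸ N), h * z * h⁻¹ * z⁻¹ = y := by
      intro h hh
      apply com_surj hab hU
      by_contra hno
      push Not at hno
      apply hh
      apply mem_of_centralizes hab hU hne g₀ hg₀'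
      intro y hy
      have := hno y hy
      calc h * y = h * y * h⁻¹ * y⁻¹ * (y * h) := by group
        _ = y * h := by rw [this, one_mul]
    exact frob_three hnd' hnot N hab hU hne htop hfree

end Cfsg.Agent.S4781
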