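import Mathlib
import Cfsg.Statements.S4783
import Cfsg.Agent.Lib.GarrH

set_option autoImplicit false
set_option linter.style.haveILetI false
open Cfsg

namespace Cfsg.Agent.S4783

open Cfsg.Agent.Lib.CharBasic Cfsg.Agent.Lib.CharKernel Cfsg.Agent.Lib.GarrB
open Cfsg.Agent.Lib.Clifford Cfsg.Agent.Lib.CliffDvd Cfsg.Agent.Lib.TwoDeg Cfsg.Agent.Lib.CharInd

/-- A finite solvable group with exactly four distinct irreducible complex character degrees has trivial fourth derived subgroup (derived length at most 4). -/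
theorem result {G : Type*} [Group G] [Finite G] [Group.IsSolvable G] (hcd : Nat.card ↥(Cfsg.charDegrees G) = 4) : derivedSeries G 4 = ⊥ := by
  classical
  have hfin : (Cfsg.charDegrees G).Finite := by
    apply Set.finite_coe_iff.mp
    exact Nat.finite_of_card_ne_zero (by rw [hcd]; norm_num)
  have hS : hfin.toFinset.card = 4 := by
    rw [← Set.ncard_eq_toFinset_card _ hfin, ← Nat.card_coe_set_eq, hcd]
  have h1 : (1 : ℕ) ∈ hfin.toFinset := by
    rw [Set.Finite.mem_toFinset]
    refine ⟨⟨fun _ => 1, isIrrCharacter_one⟩, ?_⟩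
    exact charDegree_of_one (by simp)
  have h3 : (hfin.toFinset.erase 1).card = 3 := by
    rw [Finset.card_erase_of_mem h1, hS]
  obtain ⟨x, y, z, -, -, -, hxyz⟩ := Finset.card_eq_three.mp h3
  refine Cfsg.Agent.Lib.GarrH.garrison_aux _ G rfl inferInstance x y z ?_
  intro χ
  by_cases hd : charDegree (χ : G → ℂ) = 1
  · exact Or.inl hd
  right
  have h2 : charDegree (χ : G → ℂ) ∈ hfin.toFinset.erase 1 := by
    rw [Finset.mem_erase]
    refine ⟨hd, ?_⟩
    rw [Set.Finite.mem_toFinset]
    exact ⟨χ, rfl⟩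
  rw [hxyz] at h2
  simpa using h2

end Cfsg.Agent.S4783
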