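import Mathlib
import Cfsg.Statements.S4805
import Cfsg.Agent.Lib.S4805A
import Cfsg.Agent.Lib.S4805C6
import Cfsg.Agent.Lib.GH4
import Cfsg.Agent.Lib.Kegel

set_option autoImplicit false
open Cfsg

namespace Cfsg.Agent.S4805

open Cfsg.Agent.Lib.S4805A
open Cfsg.Agent.Lib.CharKernel

/-- Let G be a finite group, g an element outside the centre of G, and χ an irreducible complex character of degree greater than one with χ(g) ≠ 0 such that every other irreducible character of degree greater than one vanishes at g. Then g lies in the derived subgroup G′ and χ(g) = −[G : G′]/χ(1); G′ is the union of the kernel of χ (the elements where χ takes the value χ(1)) and the conjugacy class of g, and χ vanishes outside G′; every irreducible character of degree greater than one whose kernel contains that of χ equals χ; and G is solvable. -/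
theorem result {G : Type*} [Group G] [Finite G] (g : G) (hg : g ∉ Subgroup.center G) (χ : Cfsg.IrrCharacter G) (hχ1 : Cfsg.charDegree (χ : G → ℂ) ≠ 1) (hχg : (χ : G → ℂ) g ≠ 0) (hother : ∀ ψ : Cfsg.IrrCharacter G, Cfsg.charDegree (ψ : G → ℂ) ≠ 1 → ψ ≠ χ → (ψ : G → ℂ) g = 0) : g ∈ commutator G ∧ (χ : G → ℂ) g = -(((commutator G).index : ℂ) / (χ : G → ℂ) 1) ∧ ((commutator G : Set G) = {x : G | (χ : G → ℂ) x = (χ : G → ℂ) 1} ∪ {h : G | IsConj g h}) ∧ (∀ x : G, x ∉ commutator G → (χ : G → ℂ) x = 0) ∧ (∀ ψ : Cfsg.IrrCharacter G, Cfsg.charDegree (ψ : G → ℂ) ≠ 1 → (∀ x : G, (χ : G → ℂ) x = (χ : G → ℂ) 1 → (ψ : G → ℂ) x = (ψ : G → ℂ) 1) → ψ = χ) ∧ Group.IsSolvable G := by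
  classical
  letI : Fintype G := Fintype.ofFinite G
  have hmem := g_mem g hg χ hχ1 hχg hother
  refine ⟨hmem, chi_g g hg χ hχ1 hχg hother, comm_eq g hg χ hχ1 hχg hother,
    chi_off g hg χ hχ1 hχg hother, fun ψ hψ hker => eq_chi g hg χ hχ1 hχg hother ψ hψ hker, ?_⟩
  set K : Subgroup G := kerOf χ with hKdef
  haveI hKn : K.Normal := charKer_normal _
  have hKM : K ≤ commutator G := ker_le g hg χ hχ1 hχg hother
  have hgK : g ∉ K := g_not_ker g hg χ hχ1 hχg hother
  have hconj : ∀ x ∈ commutator G, x ∉ K → IsConj g x := conj_of_not_ker g hg χ hχ1 hχg hother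
  obtain ⟨r, e, hr, hord, hM⟩ := order_facts (commutator G) K g hmem hgK hconj
  have hgpow : g ^ (r ^ e) = 1 := by
    rw [← hord]
    exact pow_orderOf_eq_one g
  obtain ⟨Q, hQn, hQK, hQc, e', he'⟩ := exists_complement g hg χ hχ1 hχg hother hr hgpow hM
  haveI : Fact r.Prime := ⟨hr⟩
  haveI := hQn
  have hcases := Cfsg.Agent.Lib.S4805C.pow_cases K hKM g hmem hgK hconj
    (fun x hx m hm => camina g hg χ hχ1 hχg hother x hx m hm) hM
  -- `g` acts on `Q` without fixed points
  let σ : MulAut Q := MulAut.conjNormal g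
  have hσapp : ∀ c : Q, ((σ c : Q) : G) = g * c * g⁻¹ := fun _ => rfl
  have hfix : ∀ c : Q, σ c = c → c = 1 := by
    intro c hc
    have h1 : g * (c : G) * g⁻¹ = c := by
      rw [← hσapp, hc]
    have h2 : g * (c : G) = c * g := by
      rwa [mul_inv_eq_iff_eq_mul] at h1
    have hcK : (c : G) ∈ K := hQK c.2
    have h3 : g * (c : G) ∉ K := fun h => hgK (by
      have h4 := K.mul_mem h (K.inv_mem hcK)
      simpa using h4)
    have h4 : g * (c : G) ∈ commutator G := (commutator G).mul_mem hmem (hKM hcK)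
    obtain ⟨d, hd⟩ := isConj_iff.mp (hconj _ h4 h3)
    have h5 : (g * (c : G)) ^ (r ^ e) = 1 := by
      rw [← hd, conj_pow, hgpow]
      group
    rw [(show Commute g (c : G) from h2).mul_pow, hgpow, one_mul] at h5
    have h6 : (c : G) ^ Nat.card Q = 1 := by
      have h7 : c ^ Nat.card Q = 1 := pow_card_eq_one'
      have h8 := congrArg Subtype.val h7
      rwa [Subgroup.coe_pow] at h8
    have h9 := pow_gcd_eq_one.mpr ⟨h6, h5⟩
    rw [Nat.Coprime.pow_right e hQc, pow_one] at h9
    exact Subtype.ext h9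
  have hσpow : ∀ (n : ℕ) (c : Q), (((σ ^ n) c : Q) : G) = g ^ n * c * (g ^ n)⁻¹ := by
    intro n c
    induction n with
    | zero => simp
    | succ n ih =>
      rw [pow_succ', MulAut.mul_apply, hσapp, ih, pow_succ']
      group
  have hQs : Group.IsSolvable Q := by
    rcases hcases with h1 | ⟨h1, h2⟩
    · have hσr : σ ^ r = 1 := by
        ext c
        rw [hσpow, h1]
        simp
      haveI := Cfsg.Agent.Lib.Kegel.nilpotent_of_fpf σ hfix hr hσr
      infer_instance
    · subst h1
      have hσ4 : σ ^ 4 = 1 := by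
        ext c
        rw [hσpow, h2]
        simp
      have hodd : Odd (Nat.card Q) := by
        rw [← Nat.not_even_iff_odd, even_iff_two_dvd]
        intro h3
        have h4 := Nat.dvd_gcd h3 (dvd_refl 2)
        rw [hQc] at h4
        omega
      exact Cfsg.Agent.Lib.GH4.solvable_of_fpf4 σ hσ4 hfix hodd
  exact solvable_of_chain hr Q K hQK hKM hQs he' hM

end Cfsg.Agent.S4805
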