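import Cfsg.Statements.S4811
import Cfsg.Agent.Lib.RelDeg2

set_option autoImplicit false
open Cfsg

namespace Cfsg.Agent.S4811

open Cfsg.Agent.Lib.RelDeg Cfsg.Agent.Lib.RelDeg2

universe u

variable {G : Type u} [Group G] [Finite G]

theorem rel_of_one_lt (χ : IrrCharacter G) (h : 1 < charDegree (χ : G → ℂ)) :
    charDegree (χ : G → ℂ) ∈ relCharDegrees (commutator G) := by
  refine ⟨χ, ?_, rfl⟩
  by_contra hno
  push Not at hno
  have h1 := charDegree_eq_one_of_comm χ.2 (fun a b => hno _ (by
    have h2 := Subgroup.commutator_mem_commutator (Subgroup.mem_top a) (Subgroup.mem_top b)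
    have h3 : a * b * a⁻¹ * b⁻¹ ∈ ⁅(⊤ : Subgroup G), (⊤ : Subgroup G)⁆ := by
      simpa [commutatorElement_def] using h2
    exact h3))
  omega

theorem adj_or_eq {p q d : ℕ} (hp : p ∈ degreePrimes G) (hq : q ∈ degreePrimes G)
    (hd : d ∈ charDegrees G) (hpd : p ∣ d) (hqd : q ∣ d) :
    ((degreeGraph G).induce (degreePrimes G)).Reachable ⟨p, hp⟩ ⟨q, hq⟩ := by
  by_cases hpq : p = q
  · subst hpq
    exact SimpleGraph.Reachable.refl _
  · apply SimpleGraph.Adj.reachable
    refine ⟨hpq, hp.1, hq.1, d, hd, ?_⟩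
    exact Nat.Coprime.mul_dvd_of_dvd_of_dvd ((Nat.coprime_primes hp.1 hq.1).mpr hpq) hpd hqd

theorem rel_sub {N : Subgroup G} {d : ℕ} (h : d ∈ relCharDegrees N) : d ∈ charDegrees G := by
  obtain ⟨χ, -, hχ⟩ := h
  exact ⟨χ, hχ⟩

theorem reach_of_reach {N : Subgroup G} {u v : ↥(relCharDegrees N)}
    (h : (commonDivisorGraph.induce (relCharDegrees N)).Reachable u v) :
    ∀ (p q : ℕ) (hp : p ∈ degreePrimes G) (hq : q ∈ degreePrimes G), p ∣ u.1 → q ∣ v.1 →
      ((degreeGraph G).induce (degreePrimes G)).Reachable ⟨p, hp⟩ ⟨q, hq⟩ := by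
  obtain ⟨w⟩ := h
  induction w with
  | nil =>
    intro p q hp hq hpu hqu
    exact adj_or_eq hp hq (rel_sub (Subtype.property _)) hpu hqu
  | @cons a b c hadj w ih =>
    intro p q hp hq hpu hqc
    have hg : 1 < Nat.gcd a.1 b.1 := hadj.2
    have ht := Nat.minFac_prime (n := Nat.gcd a.1 b.1) (by omega)
    have htd := Nat.minFac_dvd (Nat.gcd a.1 b.1)
    have hta : (Nat.gcd a.1 b.1).minFac ∣ a.1 := htd.trans (Nat.gcd_dvd_left _ _)
    have htb : (Nat.gcd a.1 b.1).minFac ∣ b.1 := htd.trans (Nat.gcd_dvd_right _ _)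
    have htm : (Nat.gcd a.1 b.1).minFac ∈ degreePrimes G := ⟨ht, a.1, rel_sub a.2, hta⟩
    exact (adj_or_eq hp htm (rel_sub a.2) hpu hta).trans (ih _ _ htm hq htb hqc)

/-- For every finite solvable group G the character degree graph of G (vertices: the primes dividing some irreducible complex character degree; edges: distinct primes whose product divides some degree) has at most two connected components. -/
theorem result {G : Type*} [Group G] [Finite G] [Group.IsSolvable G] : Nat.card ((Cfsg.degreeGraph G).induce (Cfsg.degreePrimes G)).ConnectedComponent ≤ 2 := by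
  by_cases hG : commutator G = ⊥
  · have hE : IsEmpty ↥(degreePrimes G) := by
      constructor
      rintro ⟨p, hp, d, ⟨χ, rfl⟩, hd⟩
      have h1 := charDegree_eq_one_of_comm χ.2 (fun a b => by
        have h2 := Subgroup.commutator_mem_commutator (Subgroup.mem_top a) (Subgroup.mem_top b)
        have h3 : a * b * a⁻¹ * b⁻¹ ∈ ⁅(⊤ : Subgroup G), (⊤ : Subgroup G)⁆ := by
          simpa [commutatorElement_def] using h2
        have h4 : a * b * a⁻¹ * b⁻¹ ∈ commutator G := h3
        rw [hG, Subgroup.mem_bot] at h4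
        rw [h4])
      rw [h1] at hd
      exact hp.one_lt.ne' (Nat.dvd_one.mp hd)
    have hE' : IsEmpty ((degreeGraph G).induce (degreePrimes G)).ConnectedComponent := by
      constructor
      intro c
      exact hE.false (Quot.out c)
    rw [Nat.card_of_isEmpty]
    omega
  · have hN' : ⁅commutator G, commutator G⁆ < commutator G := Group.IsSolvable.commutator_lt_of_ne_bot hG
    have hmain := (main (N := commutator G) hN' le_rfl).1
    have hchoice : ∀ p : ↥(degreePrimes G), ∃ d : ↥(relCharDegrees (commutator G)), p.1 ∣ d.1 := by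
      rintro ⟨p, hp, d, ⟨χ, rfl⟩, hd⟩
      have h0 := charDegree_ne_zero χ
      have h1 : 1 < charDegree (χ : G → ℂ) :=
        lt_of_lt_of_le hp.one_lt (Nat.le_of_dvd (Nat.pos_of_ne_zero h0) hd)
      exact ⟨⟨_, rel_of_one_lt χ h1⟩, hd⟩
    choose f hf using hchoice
    have hfin : Finite ↥(relCharDegrees (commutator G)) := by
      have h1 : (relCharDegrees (commutator G)) ⊆ Set.range (fun χ : IrrCharacter G => charDegree (χ : G → ℂ)) := by
        rintro d ⟨χ, -, hχ⟩
        exact ⟨χ, hχ⟩
      exact Set.Finite.to_subtype ((Set.finite_range _).subset h1)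
    let g : ((degreeGraph G).induce (degreePrimes G)).ConnectedComponent →
        (commonDivisorGraph.induce (relCharDegrees (commutator G))).ConnectedComponent :=
      fun c => (commonDivisorGraph.induce (relCharDegrees (commutator G))).connectedComponentMk (f (Quot.out c))
    have hg : Function.Injective g := by
      intro c₁ c₂ h
      have h1 := SimpleGraph.ConnectedComponent.exact h
      have h2 := reach_of_reach h1 _ _ (Quot.out c₁).2 (Quot.out c₂).2 (hf _) (hf _)
      have hc₁ : ((degreeGraph G).induce (degreePrimes G)).connectedComponentMk (Quot.out c₁) = c₁ :=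
        Quot.out_eq c₁
      have hc₂ : ((degreeGraph G).induce (degreePrimes G)).connectedComponentMk (Quot.out c₂) = c₂ :=
        Quot.out_eq c₂
      rw [← hc₁, ← hc₂]
      exact SimpleGraph.ConnectedComponent.eq.mpr h2
    exact (Nat.card_le_card_of_injective g hg).trans hmain

end Cfsg.Agent.S4811
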