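import Mathlib
import Cfsg.Statements.S4839
import Cfsg.Agent.Lib.CaminaFrob

set_option autoImplicit false
open Cfsg

namespace Cfsg.Agent.S4839

open Cfsg.Agent.Lib.Gagola Cfsg.Agent.Lib.CaminaFrob

/-- Let G be a finite group of order greater than 2 with an irreducible character χ nonzero on exactly two conjugacy classes, and let N be the normal p-subgroup of elements where χ is nonzero. Then N is the whole p-core O_p(G) if and only if G is a doubly transitive Frobenius group with kernel N: G has a Frobenius complement H whose Frobenius kernel is N and whose order is one less than that of N. -/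
theorem result {G : Type*} [Group G] [Finite G] (hG : 2 < Nat.card G) (χ : Cfsg.IrrCharacter G) (hχ : Nat.card {C : ConjClasses G // ∃ g ∈ C.carrier, (χ : G → ℂ) g ≠ 0} = 2) (p : ℕ) [Fact p.Prime] (N : Subgroup G) [N.Normal] (hN : ∀ g : G, g ∈ N ↔ (χ : G → ℂ) g ≠ 0) (hNp : IsPGroup p N) (hN1 : N ≠ ⊥) :
    N = Cfsg.pCore p G ↔ ∃ H : Subgroup G, Cfsg.IsFrobeniusComplement H ∧ Cfsg.frobeniusKernel H = (N : Set G) ∧ Nat.card H + 1 = Nat.card N := by
  classical
  haveI : Fintype G := Fintype.ofFinite G
  constructor
  · intro hcore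
    have hcore' : ∀ K : Subgroup G, K.Normal → IsPGroup p K → K ≤ N := by
      intro K hK hKp
      rw [hcore]
      exact Cfsg.Agent.Lib.PCore.le_pCore hK hKp
    obtain ⟨N₀, D₀⟩ := exists_data hG χ.2 hχ
    have hNN : N = N₀ := by
      ext g
      rw [hN, D₀.mem]
    subst hNN
    have D := D₀
    obtain ⟨p', hp', hNp', hexp⟩ := D.exists_prime
    have hpp : p' = p := by
      obtain ⟨x, hx, hx1⟩ : ∃ x ∈ N, x ≠ 1 := by
        by_contra h
        push Not at h
        exact hN1 ((Subgroup.eq_bot_iff_forall N).mpr h)
      haveI : Fact p'.Prime := ⟨hp'⟩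
      have h1 : orderOf x = p' := orderOf_eq_prime (hexp x hx) hx1
      obtain ⟨m, hm⟩ := hNp ⟨x, hx⟩
      have h2 : x ^ p ^ m = 1 := by simpa using congrArg Subtype.val hm
      have h3 : p' ∣ p ^ m := by
        rw [← h1]
        exact orderOf_dvd_of_pow_eq_one h2
      exact (Nat.prime_dvd_prime_iff_eq hp' Fact.out).mp (hp'.dvd_of_dvd_pow h3)
    subst hpp
    have hcomm := D.comm
    have C : Cam p' N :=
      { prime := hp'
        normal := inferInstance
        comm := fun a ha b hb => by
          have := hcomm.is_comm.comm ⟨a, ha⟩ ⟨b, hb⟩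
          exact congrArg Subtype.val this
        expo := hexp
        trans := D.isConj
        cam := fun x hx a ha => camina_of_card (Cfsg.Agent.Lib.Gagola3.card_centralizer_quotient D hx) a ha
        ne_bot := hN1 }
    exact C.exists_frobenius (C.not_dvd_index hcore') hG
  · rintro ⟨H, hH, hk, hc⟩
    exact eq_pCore_of_frobenius hNp hN1 hH hk hc

end Cfsg.Agent.S4839
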