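import Cfsg.Statements.S4892
import Cfsg.Agent.S4937
import Cfsg.Agent.Lib.CanonExt
import Cfsg.Agent.Lib.PRational
import Cfsg.Agent.Lib.CharDet
import Cfsg.Agent.Lib.CharPow
import Cfsg.Agent.Lib.CharGalois
import Cfsg.Agent.Lib.BlkDefect

set_option autoImplicit false
set_option linter.style.haveILetI false
set_option linter.unusedVariables false
set_option linter.unusedSectionVars false

open Cfsg

namespace Cfsg.Agent.S4892

open Cfsg.Agent.Lib.CharBasic Cfsg.Agent.Lib.CharInd Cfsg.Agent.Lib.CharInduction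
open Cfsg.Agent.Lib.ImplGroup Cfsg.Agent.Lib.BlockLocal Cfsg.Agent.Lib.BlockIdem
open Cfsg.Agent.Lib.DetChar Cfsg.Agent.Lib.CanonExt Cfsg.Agent.Lib.PRational
open Cfsg.Agent.Lib.AlperinDade Cfsg.Agent.Lib.AlperinDade2 Cfsg.Agent.Lib.AlperinDade3
open Cfsg.Agent.Lib.AlperinDade4 Cfsg.Agent.S4937 Cfsg.Agent.S4551
open Cfsg.Agent.Lib.BlkNormalSub

universe u

section Rational

variable {G : Type u} [Group G] [Finite G] {p : ℕ} [hp : Fact p.Prime]

/-- The `p'`-part of a number divides a number prime to `p` only through its `p'`-part. -/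
theorem gcd_dvd_ordCompl {n m : ℕ} (hpm : ¬ p ∣ m) (hn : n ≠ 0) :
    Nat.gcd n m ∣ ordCompl[p] n := by
  have h1 : Nat.gcd n m ∣ p ^ n.factorization p * ordCompl[p] n := by
    rw [Nat.ordProj_mul_ordCompl_eq_self]
    exact Nat.gcd_dvd_left n m
  have h2 : Nat.Coprime (Nat.gcd n m) (p ^ n.factorization p) := by
    refine Nat.Coprime.pow_right _ ?_
    refine Nat.Coprime.symm ((Nat.Prime.coprime_iff_not_dvd hp.out).mpr ?_)
    intro h
    exact hpm (h.trans (Nat.gcd_dvd_right n m))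
  exact h2.dvd_of_dvd_mul_left h1

/-- A `p`-rational character is fixed by the substitutions `g ↦ g ^ k` for `k ≡ 1` modulo the
`p'`-part of `|G|`. -/
theorem pow_eq_of_rational {χ : G → ℂ} (hχ : IsCharacter G χ) {m : ℕ} (hpm : ¬ p ∣ m)
    (hrat : ∀ g, χ g ∈ IntermediateField.adjoin ℚ
      ({Complex.exp (2 * Real.pi * Complex.I / m)} : Set ℂ)) {k : ℕ} (hk : k.Coprime (Nat.card G))
    (hk1 : k ≡ 1 [MOD ordCompl[p] (Nat.card G)]) (g : G) : χ (g ^ k) = χ g := by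
  obtain ⟨l, μ, h1, h2⟩ := Cfsg.Agent.Lib.CharGalois.exists_roots hχ g
  have hg1 : χ g = ∑ i, μ i := by
    have := h2 1
    simpa using this
  have hm0 : m ≠ 0 := by
    rintro rfl
    exact hpm (dvd_zero p)
  rw [h2, hg1]
  refine sum_pow_eq_of_mem_adjoin μ Nat.card_pos.ne' hm0 h1 hk ?_ ?_
  · exact hk1.of_dvd (gcd_dvd_ordCompl hpm Nat.card_pos.ne')
  · rw [← hg1]
    exact hrat g

/-- A `p`-rational character has determinant of order prime to `p`, for `p` odd. -/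
theorem detP'_of_rational (hp2 : p ≠ 2) {χ : G → ℂ} (hχ : IsCharacter G χ) {m : ℕ} (hpm : ¬ p ∣ m)
    (hrat : ∀ g, χ g ∈ IntermediateField.adjoin ℚ
      ({Complex.exp (2 * Real.pi * Complex.I / m)} : Set ℂ)) : DetP' p χ := by
  classical
  letI : Fintype G := Fintype.ofFinite G
  set a := (Nat.card G).factorization p with ha
  set n' := ordCompl[p] (Nat.card G) with hn'
  have hcard : p ^ a * n' = Nat.card G := Nat.ordProj_mul_ordCompl_eq_self _ _
  have hn'p : ¬ p ∣ n' := Nat.not_dvd_ordCompl hp.out Nat.card_pos.ne'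
  have hn'0 : n' ≠ 0 := fun h => hn'p (h ▸ dvd_zero p)
  have hcop : Nat.Coprime (p ^ a) n' :=
    Nat.Coprime.pow_left a ((Nat.Prime.coprime_iff_not_dvd hp.out).mpr hn'p)
  -- `k ≡ 2 mod p^a` and `k ≡ 1 mod n'`
  obtain ⟨k₀, hk₁, hk₂⟩ := Nat.chineseRemainder hcop 2 1
  let k := k₀ + Nat.card G
  have hkp : k ≡ 2 [MOD p ^ a] := by
    have h1 : k ≡ k₀ + 0 [MOD p ^ a] := Nat.ModEq.add_left _ (by
      rw [← hcard]
      exact (Nat.modEq_zero_iff_dvd.mpr (dvd_mul_right _ _)))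
    exact h1.trans hk₁
  have hkn : k ≡ 1 [MOD n'] := by
    have h1 : k ≡ k₀ + 0 [MOD n'] := Nat.ModEq.add_left _ (by
      rw [← hcard]
      exact (Nat.modEq_zero_iff_dvd.mpr (dvd_mul_left _ _)))
    exact h1.trans hk₂
  have hk1 : 1 ≤ k := by
    have := Nat.card_pos (α := G)
    omega
  have h2p : Nat.Coprime 2 p := (Nat.coprime_primes Nat.prime_two hp.out).mpr (Ne.symm hp2)
  have hkcop : k.Coprime (Nat.card G) := by
    rw [← hcard]
    refine Nat.Coprime.mul_right ?_ ?_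
    · have := Nat.ModEq.gcd_eq hkp
      rw [Nat.Coprime, this]
      exact Nat.Coprime.pow_right a h2p
    · have := Nat.ModEq.gcd_eq hkn
      rw [Nat.Coprime, this]
      simp
  have hfix : ∀ g, χ (g ^ k) = χ g := pow_eq_of_rational hχ hpm hrat hkcop hkn
  obtain ⟨D, hD⟩ := exists_detHom hχ
  have hdet : ∀ g, D g ^ k = D g := by
    intro g
    have h1 := Cfsg.Agent.Lib.CharDet.detChar_pow_conj hχ hχ (k := k) (fun g => (hfix g).symm) g
    apply Units.ext
    push_cast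
    rw [← hD, ← h1]
  refine ⟨n', hn'p, fun g => ?_⟩
  rw [hD]
  -- `v = D g ^ n'`
  have hv1 : (D g ^ n') ^ p ^ a = 1 := by
    rw [← pow_mul, mul_comm, hcard, ← map_pow, pow_card_eq_one', map_one]
  -- `k - 1 = n' * j`
  obtain ⟨j, hj⟩ : n' ∣ k - 1 := (Nat.modEq_iff_dvd' hk1).mp hkn.symm
  have hv2 : (D g ^ n') ^ j = 1 := by
    rw [← pow_mul, ← hj]
    have h3 : D g ^ (k - 1) * D g = 1 * D g := by
      rw [← pow_succ, Nat.sub_add_cancel hk1, hdet, one_mul]
    exact mul_right_cancel h3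
  rcases Nat.eq_zero_or_pos a with ha0 | hapos
  · have hv : D g ^ n' = 1 := by
      rw [ha0, pow_zero, pow_one] at hv1
      exact hv1
    have := congrArg (fun u : ℂˣ => (u : ℂ)) hv
    simpa using this
  have hpj : ¬ p ∣ j := by
    intro h
    have h1 : p ∣ k - 1 := by
      rw [hj]
      exact h.trans (dvd_mul_left _ _)
    have hkmod : k - 1 ≡ 1 [MOD p ^ a] := by
      have h2 : (k - 1) + 1 ≡ 1 + 1 [MOD p ^ a] := by
        rw [Nat.sub_add_cancel hk1]
        exact hkp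
      exact Nat.ModEq.add_right_cancel' 1 h2
    have h3 : k - 1 ≡ 1 [MOD p] := hkmod.of_dvd (dvd_pow_self p hapos.ne')
    have h4 : p ∣ 1 := (Nat.ModEq.dvd_iff h3 (dvd_refl p)).mp h1
    exact hp.out.one_lt.ne' (Nat.dvd_one.mp h4)
  have hv := unit_eq_one_of_coprime (p := p) hv1 hv2 hpj
  have := congrArg (fun u : ℂˣ => (u : ℂ)) hv
  simpa using this

end Rational

section Transport

variable {A B : Type u} [Group A] [Group B]

theorem centralChar_equiv (e : A ≃* B) (χ : B → ℂ) (a : A) :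
    centralChar (χ ∘ e) a = centralChar χ (e a) := by
  have h1 : Subgroup.centralizer ({a} : Set A) =
      (Subgroup.centralizer ({e a} : Set B)).comap e.toMonoidHom := by
    ext x
    rw [Subgroup.mem_comap, Subgroup.mem_centralizer_singleton_iff,
      Subgroup.mem_centralizer_singleton_iff]
    constructor
    · intro h
      show e x * e a = e a * e x
      rw [← map_mul, ← map_mul, h]
    · intro h
      apply e.injective
      rw [map_mul, map_mul]
      exact h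
  unfold centralChar
  rw [h1, Subgroup.index_comap_of_surjective _ e.surjective]
  simp

theorem sameBlock_equiv (e : A ≃* B) {M : Ideal AlgInt} {χ ψ : B → ℂ} (h : SameBlock M χ ψ) :
    SameBlock M (χ ∘ e) (ψ ∘ e) := by
  intro a
  rw [centralChar_equiv, centralChar_equiv]
  exact h (e a)

end Transport

section Abstract

variable {H : Type u} [Group H] [Finite H] {p : ℕ} [hp : Fact p.Prime] {M : Ideal AlgInt}
  (hM : IsPModular p M) (N₁ : Subgroup H) [hN₁ : N₁.Normal] {W₁ : Subgroup H} {P₀ : Subgroup N₁}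

/-- Goodness of a character on a subgroup. -/
def Good (M : Ideal AlgInt) (W₁ : Subgroup H) (χ : H → ℂ) : Prop :=
  ∀ w ∈ W₁, MemLocalIdeal M (χ w / χ 1 - 1)

/-- Restriction of a representation to the normal subgroup. -/
noncomputable abbrev resRep {k : ℕ} (R : Representation ℂ H (Fin k → ℂ)) :
    Representation ℂ N₁ (Fin k → ℂ) := R.comp N₁.subtype

theorem rep_of_char {χ : H → ℂ} (hχ : IsIrrCharacter H χ)
    (hres : IsIrrCharacter N₁ (fun n : N₁ => χ n))
    (hB : SameBlock M (fun _ : N₁ => (1 : ℂ)) (fun n : N₁ => χ n)) :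
    ∃ (k : ℕ) (R : Representation ℂ H (Fin k → ℂ)), χ = R.character ∧ 0 < k ∧
      ∃ hρ : (resRep N₁ R).IsIrreducible,
        (⟨(resRep N₁ R).character, ⟨k, _, hρ, rfl⟩⟩ : IrrCharacter N₁) ∈ principalBlock M N₁ := by
  obtain ⟨k, R, hR, rfl⟩ := hχ
  obtain ⟨k', ρ', hρ', hchar⟩ := hres
  have hρ : (resRep N₁ R).IsIrreducible := by
    refine isIrreducible_of_character_eq ρ' (resRep N₁ R) hρ' ?_
    rw [hchar]
    rfl
  have hk : 0 < k := by
    have h1 := ((isIrreducible_iff (resRep N₁ R)).mp hρ).1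
    have h2 : 0 < Module.finrank ℂ (Fin k → ℂ) := Module.finrank_pos
    simpa using h2
  exact ⟨k, R, rfl, hk, hρ, hB⟩

variable {N₁}

include hM in
theorem exists_good_twist (hP₀ : ¬ p ∣ P₀.index) (hWP : ∀ w ∈ W₁, ∀ u ∈ P₀, w * (u : H) = u * w)
    (hNW : ∀ g : H, ∃ n ∈ N₁, ∃ w ∈ W₁, g = n * w) {χ : H → ℂ} (hχ : IsIrrCharacter H χ)
    (hres : IsIrrCharacter N₁ (fun n : N₁ => χ n))
    (hB : SameBlock M (fun _ : N₁ => (1 : ℂ)) (fun n : N₁ => χ n)) :
    ∃ β : H →* ℂˣ, (∀ n : N₁, β n = 1) ∧ Good M W₁ ((fun g => ((β g : ℂˣ) : ℂ)) * χ) := by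
  letI : Fintype H := Fintype.ofFinite H
  letI : Fintype N₁ := Fintype.ofFinite N₁
  obtain ⟨k, R, rfl, hk, hρ, hθ⟩ := rep_of_char N₁ hχ hres hB
  obtain ⟨β, hβN, hβW⟩ := exists_twist hM hk hρ hθ hP₀ hWP hNW (R := R) (fun n => rfl)
  refine ⟨β, hβN, fun w hw => ?_⟩
  have h1 := hβW w hw
  have h2 : ((fun g => ((β g : ℂˣ) : ℂ)) * R.character) w / ((fun g => ((β g : ℂˣ) : ℂ)) * R.character) 1 =
      R.character w / k * ((β w : ℂˣ) : ℂ) := by
    simp only [Pi.mul_apply, map_one, Units.val_one, one_mul]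
    rw [char_one_eq_rep R]
    ring
  rw [h2]
  exact h1

include hM in
theorem sameBlock_of_good (hP₀ : ¬ p ∣ P₀.index) (hWP : ∀ w ∈ W₁, ∀ u ∈ P₀, w * (u : H) = u * w)
    (hNW : ∀ g : H, ∃ n ∈ N₁, ∃ w ∈ W₁, g = n * w) {χ : H → ℂ} (hχ : IsIrrCharacter H χ)
    (hres : IsIrrCharacter N₁ (fun n : N₁ => χ n))
    (hB : SameBlock M (fun _ : N₁ => (1 : ℂ)) (fun n : N₁ => χ n))
    (hgood : Good M W₁ χ) : SameBlock M (fun _ : H => (1 : ℂ)) χ := by
  letI : Fintype H := Fintype.ofFinite H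
  letI : Fintype N₁ := Fintype.ofFinite N₁
  obtain ⟨k, R, rfl, hk, hρ, hθ⟩ := rep_of_char N₁ hχ hres hB
  refine sameBlock_ext hM hk hρ hθ hP₀ hWP hNW (R₁ := R) (fun n => rfl) fun w hw => ?_
  have h1 := hgood w hw
  rwa [char_one_eq_rep R] at h1

include hM in
/-- A root of unity congruent to one has `p`-power order. -/
theorem pow_eq_one_of_congr {u : ℂˣ} (hu : (u : ℂ) ^ Nat.card H = 1)
    (hc : MemLocalIdeal M ((u : ℂ) - 1)) : u ^ p ^ (Nat.card H).factorization p = 1 := by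
  haveI := isPrime_of_isPModular hM
  set a := (Nat.card H).factorization p with ha
  set n' := ordCompl[p] (Nat.card H) with hn'
  have hcard : p ^ a * n' = Nat.card H := Nat.ordProj_mul_ordCompl_eq_self _ _
  have hn'p : ¬ p ∣ n' := Nat.not_dvd_ordCompl hp.out Nat.card_pos.ne'
  have hloc : MemLocalRing M (u : ℂ) := by
    refine memLocalRing_of_isIntegral (IsIntegral.of_pow (Nat.card_pos (α := H)) ?_)
    rw [hu]
    exact isIntegral_one
  have hpow : ∀ j : ℕ, MemLocalIdeal M ((u : ℂ) ^ j - 1) := by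
    intro j
    induction j with
    | zero =>
      simpa using memLocalIdeal_zero (M := M)
    | succ j ih =>
      have e : (u : ℂ) ^ (j + 1) - 1 = ((u : ℂ) ^ j - 1) * (u : ℂ) + ((u : ℂ) - 1) := by ring
      rw [e]
      exact memLocalIdeal_add (memLocalIdeal_mul_right ih hloc) hc
  have h1 : ((u : ℂ) ^ p ^ a) ^ n' = 1 := by
    rw [← pow_mul, hcard, hu]
  have h2 := eq_one_of_congr hM hn'p h1 (hpow (p ^ a))
  apply Units.ext
  push_cast
  exact h2

include hM in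
/-- **Uniqueness of the good extension.** -/
theorem eq_of_good (hNW : ∀ g : H, ∃ n ∈ N₁, ∃ w ∈ W₁, g = n * w) {η χ : H → ℂ}
    (hη : IsIrrCharacter H η) (hηN : IsIrrCharacter N₁ (fun n : N₁ => η n))
    (hχ : IsIrrCharacter H χ) (hres : ∀ n : N₁, χ n = η n) {d : ℕ} (hd : η 1 = d) (hpd : ¬ p ∣ d)
    (hgη : Good M W₁ η) (hgχ : Good M W₁ χ) (h1 : DetP' p η) (h2 : DetP' p χ) : χ = η := by
  classical
  haveI := isPrime_of_isPModular hM
  obtain ⟨β, hβN, hχeq⟩ := exists_eq_mul_of_extends N₁ hη hηN hχ hres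
  have hroot : ∀ g, ((β g : ℂˣ) : ℂ) ^ Nat.card H = 1 := by
    intro g
    have h3 : β g ^ Nat.card H = 1 := by
      rw [← map_pow, pow_card_eq_one', map_one]
    have := congrArg (fun u : ℂˣ => (u : ℂ)) h3
    simpa using this
  have hloc : ∀ g, MemLocalRing M ((β g : ℂˣ) : ℂ) := by
    intro g
    refine memLocalRing_of_isIntegral (IsIntegral.of_pow (Nat.card_pos (α := H)) ?_)
    rw [hroot]
    exact isIntegral_one
  have hcw : ∀ w ∈ W₁, MemLocalIdeal M (((β w : ℂˣ) : ℂ) - 1) := by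
    intro w hw
    have h3 := hgη w hw
    have h4 := hgχ w hw
    set t := η w / η 1 with ht
    have hl : MemLocalRing M t := by
      have := memLocalRing_add (memLocalRing_of_memLocalIdeal h3) (memLocalRing_one (M := M))
      simpa using this
    have hnot : ¬ MemLocalIdeal M t := by
      intro h5
      apply not_memLocalIdeal_one (M := M)
      have := memLocalIdeal_sub h5 h3
      simpa using this
    have e1 : χ w / χ 1 = ((β w : ℂˣ) : ℂ) * t := by
      rw [hχeq]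
      simp only [Pi.mul_apply, map_one, Units.val_one, one_mul]
      rw [ht]
      ring
    rw [e1] at h4
    refine memLocalIdeal_cancel hl hnot ?_
    have e4 : (((β w : ℂˣ) : ℂ) - 1) * t = (((β w : ℂˣ) : ℂ) * t - 1) - (t - 1) := by ring
    rw [e4]
    exact memLocalIdeal_sub h4 h3
  have hcg : ∀ g, MemLocalIdeal M (((β g : ℂˣ) : ℂ) - 1) := by
    intro g
    obtain ⟨n, hn, w, hw, rfl⟩ := hNW g
    have h3 : β (n * w) = β w := by
      rw [map_mul, hβN ⟨n, hn⟩, one_mul]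
    rw [h3]
    exact hcw w hw
  have hβ1 : ∀ g, β g = 1 := by
    refine hom_eq_one_of_detP' (IsIrrCharacter.isCharacter hη) β
      (s := (Nat.card H).factorization p) ?_ hχeq hd hpd h1 h2
    intro g
    exact pow_eq_one_of_congr hM (hroot g) (hcg g)
  rw [hχeq]
  funext g
  simp [hβ1 g]

end Abstract

section Main

variable {G : Type u} [Group G] [Finite G] {p : ℕ} [hp : Fact p.Prime] {M : Ideal AlgInt}
  (hM : IsPModular p M) {N : Subgroup G} [hN : N.Normal]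

omit [Finite G] hp in
theorem exists_of_mem_sup {K : Subgroup G} {g : G} (hg : g ∈ N ⊔ K) :
    ∃ n ∈ N, ∃ k ∈ K, g = n * k := by
  have h : g ∈ ((N ⊔ K : Subgroup G) : Set G) := hg
  rw [Subgroup.normal_mul N K] at h
  obtain ⟨n, hn, k, hk, rfl⟩ := h
  exact ⟨n, hn, k, hk, rfl⟩

omit hp in
theorem relIndex_sup_dvd {R C : Subgroup G} (hRC : R ≤ C) :
    (N ⊔ R).relIndex (N ⊔ C) ∣ R.relIndex C := by
  have h1 : N.relIndex R * (N ⊔ R).relIndex (N ⊔ C) = N.relIndex C := by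
    have h2 := Subgroup.relIndex_mul_relIndex N (N ⊔ R) (N ⊔ C) le_sup_left
      (sup_le_sup_left hRC N)
    rwa [Subgroup.relIndex_sup_left, Subgroup.relIndex_sup_left] at h2
  have h3 : (N ⊓ R).relIndex R * R.relIndex C = (N ⊓ R).relIndex (N ⊓ C) * (N ⊓ C).relIndex C := by
    rw [Subgroup.relIndex_mul_relIndex _ _ _ inf_le_right hRC,
      Subgroup.relIndex_mul_relIndex _ _ _ (inf_le_inf_left N hRC) inf_le_right]
  rw [Subgroup.inf_relIndex_right, Subgroup.inf_relIndex_right, ← h1] at h3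
  have hA : 0 < N.relIndex R := Nat.pos_of_ne_zero Subgroup.index_ne_zero_of_finite
  have h4 : R.relIndex C = (N ⊓ R).relIndex (N ⊓ C) * (N ⊔ R).relIndex (N ⊔ C) := by
    apply Nat.eq_of_mul_eq_mul_left hA
    rw [h3]
    ring
  rw [h4]
  exact dvd_mul_left _ _

include hM in
/-- The good local extension over a `p'`-group. -/
theorem exists_local_ext {k : ℕ} (hk : 0 < k) {ρ : Representation ℂ N (Fin k → ℂ)}
    (hρ : ρ.IsIrreducible)
    (hθ : (⟨ρ.character, ⟨k, ρ, hρ, rfl⟩⟩ : IrrCharacter N) ∈ principalBlock M N)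
    {Q : Subgroup N} (hQ : ¬ p ∣ Q.index) {R : Subgroup G} (hRp : ¬ p ∣ Nat.card R)
    (hRQ : ∀ w ∈ R, ∀ u ∈ Q, w * (u : G) = u * w) :
    ∃ η : ↥(N ⊔ R) → ℂ, IsCharacter ↥(N ⊔ R) η ∧
      ∀ n : N, η ⟨n, (le_sup_left : N ≤ N ⊔ R) n.2⟩ = ρ.character n := by
  classical
  let J : Subgroup G := N ⊔ R
  have hNJ : N ≤ J := le_sup_left
  have hRJ : R ≤ J := le_sup_right
  letI : Fintype J := Fintype.ofFinite J
  let N₀ : Subgroup J := N.subgroupOf J
  haveI hN₀ : N₀.Normal := Subgroup.Normal.subgroupOf hN J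
  letI : Fintype N₀ := Fintype.ofFinite N₀
  let e : N₀ ≃* N := Subgroup.subgroupOfEquivOfLe hNJ
  let ρ₀ : Representation ℂ N₀ (Fin k → ℂ) := ρ.comp e.toMonoidHom
  have hρ₀ : ρ₀.IsIrreducible := by
    rw [isIrreducible_iff] at hρ ⊢
    refine ⟨hρ.1, fun U hU => hρ.2 U fun g v hv => ?_⟩
    obtain ⟨h, rfl⟩ := e.surjective g
    exact hU h v hv
  have hθ₀ : (⟨ρ₀.character, ⟨k, ρ₀, hρ₀, rfl⟩⟩ : IrrCharacter N₀) ∈ principalBlock M N₀ :=
    sameBlock_equiv e hθ
  let P₀ : Subgroup N₀ := Q.comap e.toMonoidHom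
  have hP₀ : ¬ p ∣ P₀.index := by
    rw [Subgroup.index_comap_of_surjective _ e.surjective]
    exact hQ
  let W : Subgroup J := R.subgroupOf J
  have hWp : ¬ p ∣ Nat.card W := by
    rw [Nat.card_congr (Subgroup.subgroupOfEquivOfLe hRJ).toEquiv]
    exact hRp
  have hWP : ∀ w ∈ W, ∀ u ∈ P₀, w * ((u : J)) = u * w := by
    intro w hw u hu
    apply Subtype.ext
    exact hRQ (w : G) hw (e u) hu
  have hNW : ∀ g : J, ∃ n ∈ N₀, ∃ w ∈ W, g = n * w := by
    intro g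
    obtain ⟨n, hn, r, hr, hg⟩ := exists_of_mem_sup g.2
    refine ⟨⟨n, hNJ hn⟩, hn, ⟨r, hRJ hr⟩, hr, ?_⟩
    apply Subtype.ext
    exact hg
  obtain ⟨R₁, hR₁, -⟩ := exists_extension hM hk hρ₀ hθ₀ hP₀ hWP hWp hNW
  refine ⟨R₁.character, isCharacter_of_rep' R₁, fun n => ?_⟩
  have h1 := hR₁ ⟨⟨(n : G), hNJ n.2⟩, n.2⟩
  show LinearMap.trace ℂ _ (R₁ ⟨(n : G), hNJ n.2⟩) = LinearMap.trace ℂ _ (ρ n)
  rw [h1]
  rfl

/-- The extension on a `p`-power index overgroup. -/
theorem exists_p_ext {k : ℕ} {ϑ : N → ℂ} (hϑ : IsIrrCharacter N ϑ)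
    (hinv : ∀ (g : G) (n : N), ϑ ⟨g * n * g⁻¹, hN.conj_mem (n : G) n.2 g⟩ = ϑ n)
    (hd : ϑ 1 = k) (hpd : ¬ p ∣ k) (hdet : DetP' p ϑ) (S : Sylow p G) :
    ∃ η : ↥(N ⊔ (S : Subgroup G)) → ℂ, IsCharacter ↥(N ⊔ (S : Subgroup G)) η ∧
      ∀ n : N, η ⟨n, (le_sup_left : N ≤ N ⊔ (S : Subgroup G)) n.2⟩ = ϑ n := by
  classical
  let J : Subgroup G := N ⊔ (S : Subgroup G)
  have hNJ : N ≤ J := le_sup_left
  let N₀ : Subgroup J := N.subgroupOf J
  haveI hN₀ : N₀.Normal := Subgroup.Normal.subgroupOf hN J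
  let e : N₀ ≃* N := Subgroup.subgroupOfEquivOfLe hNJ
  let ϑ₀ : N₀ → ℂ := ϑ ∘ e.toMonoidHom
  have hϑ₀ : IsIrrCharacter N₀ ϑ₀ := isIrrCharacter_comp_of_surjective e.toMonoidHom e.surjective hϑ
  have hidx : ∃ s, N₀.index = p ^ s := by
    have h1 : N₀.index = N.relIndex J := rfl
    rw [h1, Subgroup.relIndex_sup_left]
    have h2 : N.relIndex (S : Subgroup G) ∣ Nat.card (S : Subgroup G) :=
      Subgroup.relIndex_dvd_card _ _
    obtain ⟨n, hn⟩ := IsPGroup.iff_card.mp S.isPGroup'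
    rw [hn] at h2
    obtain ⟨j, -, hj⟩ := (Nat.dvd_prime_pow hp.out).mp h2
    exact ⟨j, hj⟩
  obtain ⟨s, hs⟩ := hidx
  have hinv₀ : ∀ (g : J) (n : N₀), ϑ₀ ⟨g * n * g⁻¹, hN₀.conj_mem (n : J) n.2 g⟩ = ϑ₀ n := by
    intro g n
    exact hinv (g : G) (e n)
  have hdet₀ : DetP' p ϑ₀ := by
    obtain ⟨m, hm, hdm⟩ := hdet
    refine ⟨m, hm, fun y => ?_⟩
    have h2 : detChar ϑ₀ y = detChar ϑ (e y) :=
      detChar_comp e.toMonoidHom (IsIrrCharacter.isCharacter hϑ) y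
    rw [h2]
    exact hdm _
  have hd₀ : ϑ₀ 1 = k := by
    show ϑ (e 1) = k
    rw [map_one, hd]
  obtain ⟨χ, hχ, hres, -⟩ := exists_ext_detP' s N₀ hN₀ hs hϑ₀ hinv₀ hd₀ hpd hdet₀
  refine ⟨χ, IsIrrCharacter.isCharacter hχ, fun n => ?_⟩
  exact hres ⟨⟨(n : G), hNJ n.2⟩, n.2⟩

include hM in
/-- **`θ` extends to `G`.** -/
theorem exists_extension_G {k : ℕ} (hk : 0 < k) {ρ : Representation ℂ N (Fin k → ℂ)}
    (hρ : ρ.IsIrreducible)
    (hθ : (⟨ρ.character, ⟨k, ρ, hρ, rfl⟩⟩ : IrrCharacter N) ∈ principalBlock M N)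
    (hinv : ∀ (g : G) (n : N),
      ρ.character ⟨g * n * g⁻¹, hN.conj_mem (n : G) n.2 g⟩ = ρ.character n)
    (hpd : ¬ p ∣ k) (hdet : DetP' p ρ.character)
    {Q : Subgroup N} (hQ : ¬ p ∣ Q.index) {C : Subgroup G}
    (hCQ : ∀ w ∈ C, ∀ u ∈ Q, w * (u : G) = u * w) {a : ℕ} (hidx : (N ⊔ C).index = p ^ a) :
    ∃ χ : G → ℂ, IsIrrCharacter G χ ∧ ∀ n : N, χ n = ρ.character n := by
  classical
  refine exists_ext_of_local N ⟨k, ρ, hρ, rfl⟩ hinv fun r hr => ?_
  by_cases hrp : r = p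
  · subst hrp
    obtain ⟨S⟩ : Nonempty (Sylow r G) := inferInstance
    obtain ⟨η, hη, hres⟩ := exists_p_ext (ϑ := ρ.character) ⟨k, ρ, hρ, rfl⟩ hinv
      (char_one_eq_rep ρ) hpd hdet S
    refine ⟨N ⊔ (S : Subgroup G), le_sup_left, η, ?_, hη, hres⟩
    refine ((Nat.Prime.coprime_iff_not_dvd hr).mpr ?_).symm
    intro h
    exact S.not_dvd_index (h.trans (Subgroup.index_dvd_of_le le_sup_right))
  · haveI : Fact r.Prime := ⟨hr⟩
    obtain ⟨R⟩ : Nonempty (Sylow r C) := inferInstance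
    let R' : Subgroup G := (R : Subgroup C).map C.subtype
    have hR'C : R' ≤ C := by
      rintro _ ⟨c, -, rfl⟩
      exact c.2
    have hR'card : Nat.card R' = Nat.card (R : Subgroup C) :=
      Nat.card_congr ((R : Subgroup C).equivMapOfInjective _ C.subtype_injective).toEquiv.symm
    have hRp : ¬ p ∣ Nat.card R' := by
      rw [hR'card]
      obtain ⟨j, hj⟩ := IsPGroup.iff_card.mp R.isPGroup'
      rw [hj]
      intro h
      have := (Nat.prime_dvd_prime_iff_eq hp.out hr).mp (hp.out.dvd_of_dvd_pow h)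
      exact hrp this.symm
    obtain ⟨η, hη, hres⟩ := exists_local_ext hM hk hρ hθ hQ hRp
      (fun w hw u hu => hCQ w (hR'C hw) u hu)
    refine ⟨N ⊔ R', le_sup_left, η, ?_, hη, hres⟩
    have h1 : (N ⊔ R').relIndex (N ⊔ C) * (N ⊔ C).index = (N ⊔ R').index :=
      Subgroup.relIndex_mul_index (sup_le_sup_left hR'C N)
    rw [← h1, hidx]
    have h2 : (N ⊔ R').relIndex (N ⊔ C) ∣ R'.relIndex C := relIndex_sup_dvd hR'C
    have h3 : R'.relIndex C = (R : Subgroup C).index := by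
      show ((R : Subgroup C).map C.subtype).relIndex C = _
      rw [Subgroup.relIndex, Subgroup.subgroupOf, Subgroup.comap_map_eq_self_of_injective
        C.subtype_injective]
    rw [h3] at h2
    refine Nat.Coprime.mul_left ?_ ?_
    · refine ((Nat.Prime.coprime_iff_not_dvd hr).mpr ?_).symm
      intro h
      exact R.not_dvd_index (h.trans h2)
    · refine Nat.Coprime.pow_left a ?_
      exact (Nat.coprime_primes hp.out hr).mpr (Ne.symm hrp)

/-- Restrictions between subgroups keep irreducibility. -/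
theorem isIrr_restrict_of_restrict {K J : Subgroup G} (hKJ : K ≤ J) {χ : G → ℂ}
    (hχ : IsIrrCharacter G χ) (hK : IsIrrCharacter K (fun x : K => χ x)) :
    IsIrrCharacter J (fun x : J => χ x) := by
  obtain ⟨l, R, hR, rfl⟩ := hχ
  obtain ⟨k', ρ', hρ', hchar⟩ := hK
  let RK : Representation ℂ K (Fin l → ℂ) := R.comp K.subtype
  have hRK : RK.IsIrreducible := by
    refine isIrreducible_of_character_eq ρ' RK hρ' ?_
    rw [hchar]
    rfl
  let RJ : Representation ℂ J (Fin l → ℂ) := R.comp J.subtype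
  refine ⟨l, RJ, ?_, rfl⟩
  rw [isIrreducible_iff] at hRK ⊢
  refine ⟨hRK.1, fun U hU => hRK.2 U fun n v hv => ?_⟩
  exact hU ⟨(n : G), hKJ n.2⟩ v hv

end Main

/-- Let p be an odd prime, M a maximal ideal of the algebraic integers containing p, N a normal subgroup of the finite group G, and θ an irreducible character of N that is G-invariant, of degree prime to p, p-rational (values in the field generated over ℚ by a root of unity of order prime to p) and lies in the principal p-block of N. Let Q be a Sylow p-subgroup of N and suppose the index of N·C_G(Q) in G is a power of p. Then θ extends to a p-rational irreducible character of G lying in the principal p-block of G. -/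
theorem result {G : Type*} [Group G] [Finite G] (p : ℕ) [Fact p.Prime] (hp : p ≠ 2) (M : Ideal Cfsg.AlgInt) (hM : Cfsg.IsPModular p M) (N : Subgroup G) [N.Normal] (θ : Cfsg.IrrCharacter ↥N) (hinv : ∀ g : G, ∀ n n' : ↥N, (n' : G) = g * (n : G) * g⁻¹ → (θ : ↥N → ℂ) n' = (θ : ↥N → ℂ) n) (hdeg : ¬ p ∣ Cfsg.charDegree (θ : ↥N → ℂ)) (hrat : ∃ m : ℕ, ¬ p ∣ m ∧ ∀ n : ↥N, (θ : ↥N → ℂ) n ∈ IntermediateField.adjoin ℚ ({Complex.exp (2 * Real.pi * Complex.I / m)} : Set ℂ)) (hB : θ ∈ Cfsg.principalBlock M ↥N) (Q : Sylow p ↥N) (hidx : ∃ a : ℕ, (N ⊔ Subgroup.centralizer (((Q : Subgroup ↥N).map N.subtype : Subgroup G) : Set G)).index = p ^ a) : ∃ χ : Cfsg.IrrCharacter G, χ ∈ (Cfsg.principalBlock M G) ∧ (∃ n : ℕ, ¬ p ∣ n ∧ ∀ g : G, (χ : G → ℂ) g ∈ IntermediateField.adjoin ℚ ({Complex.exp (2 * Real.pi * Complex.I / n)} : Set ℂ)) ∧ ∀ n : ↥N, (χ : G → ℂ) n = (θ : ↥N → ℂ) n := by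
  classical
  haveI hpp := isPrime_of_isPModular hM
  rename_i hpf hNn
  obtain ⟨_, k, ρ, hρ, rfl⟩ := θ
  simp only at hinv hdeg hrat hB ⊢
  have hk : 0 < k := by
    have h1 := ((isIrreducible_iff ρ).mp hρ).1
    have h2 : 0 < Module.finrank ℂ (Fin k → ℂ) := Module.finrank_pos
    simpa using h2
  have hpd : ¬ p ∣ k := by
    have h1 : charDegree ρ.character = k := by
      unfold charDegree
      rw [char_one_eq_rep]
      simp
    rwa [h1] at hdeg
  obtain ⟨m, hpm, hratm⟩ := hrat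
  have hdet : DetP' p ρ.character := detP'_of_rational hp (isCharacter_of_rep' ρ) hpm hratm
  obtain ⟨a, hidx⟩ := hidx
  let Q' : Subgroup G := (Q : Subgroup N).map N.subtype
  let C : Subgroup G := Subgroup.centralizer (Q' : Set G)
  have hCQ : ∀ w ∈ C, ∀ u ∈ (Q : Subgroup N), w * (u : G) = u * w := by
    intro w hw u hu
    exact ((Subgroup.mem_centralizer_iff.mp hw) (u : G) ⟨u, hu, rfl⟩).symm
  have hinv' : ∀ (g : G) (n : N),
      ρ.character ⟨g * n * g⁻¹, hNn.conj_mem (n : G) n.2 g⟩ = ρ.character n :=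
    fun g n => hinv g n _ rfl
  obtain ⟨χ₀, hχ₀, hχ₀res⟩ := exists_extension_G hM hk hρ hB hinv' hpd hdet Q.not_dvd_index hCQ hidx
  -- Frattini
  have hfr : ∀ g : G, ∃ c ∈ Subgroup.normalizer (Q' : Set G), ∃ n ∈ N, g = c * n := by
    intro g
    have h1 : g ∈ ((Subgroup.normalizer (Q' : Set G) ⊔ N : Subgroup G) : Set G) := by
      rw [Sylow.normalizer_sup_eq_top Q]
      trivial
    rw [Subgroup.mul_normal] at h1
    obtain ⟨c, hc, n, hn, rfl⟩ := h1
    exact ⟨c, hc, n, hn, rfl⟩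
  have hnormC : ∀ c ∈ Subgroup.normalizer (Q' : Set G), ∀ w ∈ C, c * w * c⁻¹ ∈ C := by
    intro c hc w hw
    rw [Subgroup.mem_centralizer_iff] at hw ⊢
    intro u hu
    have hu' : c⁻¹ * u * c ∈ Q' := by
      have h1 := (Subgroup.mem_normalizer_iff.mp hc) (c⁻¹ * u * c)
      apply h1.mpr
      have e : c * (c⁻¹ * u * c) * c⁻¹ = u := by group
      rw [e]
      exact hu
    have h2 := hw _ hu'
    calc u * (c * w * c⁻¹) = c * ((c⁻¹ * u * c) * w) * c⁻¹ := by group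
      _ = c * (w * (c⁻¹ * u * c)) * c⁻¹ := by rw [h2]
      _ = c * w * c⁻¹ * u := by group
  let W₀ : Subgroup G := N ⊔ C
  have hNW₀ : N ≤ W₀ := le_sup_left
  have hCW₀ : C ≤ W₀ := le_sup_right
  have hW₀ : W₀.Normal := by
    constructor
    intro x hx g
    obtain ⟨c, hc, n, hn, rfl⟩ := hfr g
    have h1 : n * x * n⁻¹ ∈ W₀ :=
      W₀.mul_mem (W₀.mul_mem (hNW₀ hn) hx) (W₀.inv_mem (hNW₀ hn))
    obtain ⟨a', ha', w, hw, hxe⟩ := exists_of_mem_sup h1
    have h2 : c * n * x * (c * n)⁻¹ = (c * a' * c⁻¹) * (c * w * c⁻¹) := by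
      have e : c * n * x * (c * n)⁻¹ = c * (n * x * n⁻¹) * c⁻¹ := by group
      rw [e, hxe]
      group
    rw [h2]
    exact W₀.mul_mem (hNW₀ (hNn.conj_mem _ ha' c)) (hCW₀ (hnormC c hc w hw))
  haveI := hW₀
  -- the relative setting on `W₀`
  let N₀ : Subgroup W₀ := N.subgroupOf W₀
  haveI hN₀ : N₀.Normal := Subgroup.Normal.subgroupOf hNn W₀
  let e : N₀ ≃* N := Subgroup.subgroupOfEquivOfLe hNW₀
  let W₁ : Subgroup W₀ := C.subgroupOf W₀
  let P₀ : Subgroup N₀ := (Q : Subgroup N).comap e.toMonoidHom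
  have hP₀ : ¬ p ∣ P₀.index := by
    rw [Subgroup.index_comap_of_surjective _ e.surjective]
    exact Q.not_dvd_index
  have hWP : ∀ w ∈ W₁, ∀ u ∈ P₀, w * ((u : W₀)) = u * w := by
    intro w hw u hu
    apply Subtype.ext
    exact hCQ (w : G) hw (e u) hu
  have hNW : ∀ g : W₀, ∃ n ∈ N₀, ∃ w ∈ W₁, g = n * w := by
    intro g
    obtain ⟨n, hn, r, hr, hg⟩ := exists_of_mem_sup g.2
    refine ⟨⟨n, hNW₀ hn⟩, hn, ⟨r, hCW₀ hr⟩, hr, ?_⟩
    apply Subtype.ext
    exact hg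
  let ϑ₀ : N₀ → ℂ := ρ.character ∘ e.toMonoidHom
  have hϑ₀ : IsIrrCharacter N₀ ϑ₀ :=
    isIrrCharacter_comp_of_surjective e.toMonoidHom e.surjective ⟨k, ρ, hρ, rfl⟩
  have hϑ₀B : SameBlock M (fun _ : N₀ => (1 : ℂ)) ϑ₀ := sameBlock_equiv e hB
  -- the restriction of the extension
  let η₀ : W₀ → ℂ := fun x => χ₀ x
  have hχ₀N : IsIrrCharacter N (fun n : N => χ₀ n) := by
    have : (fun n : N => χ₀ n) = ρ.character := funext hχ₀res
    rw [this]
    exact ⟨k, ρ, hρ, rfl⟩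
  have hη₀ : IsIrrCharacter W₀ η₀ := isIrr_restrict_of_restrict hNW₀ hχ₀ hχ₀N
  have hη₀res : ∀ n : N₀, η₀ n = ϑ₀ n := fun n => hχ₀res (e n)
  have hη₀N : IsIrrCharacter N₀ (fun n : N₀ => η₀ n) := by
    have : (fun n : N₀ => η₀ n) = ϑ₀ := funext hη₀res
    rw [this]
    exact hϑ₀
  have hη₀B : SameBlock M (fun _ : N₀ => (1 : ℂ)) (fun n : N₀ => η₀ n) := by
    have : (fun n : N₀ => η₀ n) = ϑ₀ := funext hη₀res
    rw [this]
    exact hϑ₀B
  obtain ⟨β₁, hβ₁N, hβ₁good⟩ := exists_good_twist hM hP₀ hWP hNW hη₀ hη₀N hη₀B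
  let η₁ : W₀ → ℂ := (fun g => ((β₁ g : ℂˣ) : ℂ)) * η₀
  have hη₁ : IsIrrCharacter W₀ η₁ := isIrr_mul_hom β₁ hη₀
  have hη₁res : ∀ n : N₀, η₁ n = ϑ₀ n := by
    intro n
    show ((β₁ n : ℂˣ) : ℂ) * η₀ n = _
    rw [hβ₁N, hη₀res]
    simp
  have hϑ₀1 : ϑ₀ 1 = k := by
    show ρ.character (e 1) = k
    rw [map_one, char_one_eq_rep]
  have hη₁1 : η₁ 1 = k := by
    have := hη₁res 1
    rwa [hϑ₀1] at this
  obtain ⟨m', hm', hdm'⟩ := hdet
  have hη₁det : ∀ n : N₀, detChar η₁ n ^ m' = 1 := by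
    intro n
    have h1 := detChar_restrict N₀ (IsIrrCharacter.isCharacter hη₁) n
    have h2 : (fun x : N₀ => η₁ x) = ϑ₀ := funext hη₁res
    rw [h2] at h1
    rw [← h1]
    have h3 : detChar ϑ₀ n = detChar ρ.character (e n) :=
      detChar_comp e.toMonoidHom (isCharacter_of_rep' ρ) n
    rw [h3]
    exact hdm' _
  obtain ⟨β₂, hβ₂N, hβ₂p, hβ₂det⟩ := exists_twist_detP' N₀ hη₁ hη₁1 hpd hm' hη₁det
  let η : W₀ → ℂ := (fun g => ((β₂ g : ℂˣ) : ℂ)) * η₁
  have hη : IsIrrCharacter W₀ η := isIrr_mul_hom β₂ hη₁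
  have hηres : ∀ n : N₀, η n = ϑ₀ n := by
    intro n
    show ((β₂ n : ℂˣ) : ℂ) * η₁ n = _
    rw [hβ₂N, hη₁res]
    simp
  have hη1 : η 1 = k := by
    have := hηres 1
    rwa [hϑ₀1] at this
  have hηN : IsIrrCharacter N₀ (fun n : N₀ => η n) := by
    have : (fun n : N₀ => η n) = ϑ₀ := funext hηres
    rw [this]
    exact hϑ₀
  have hηB₀ : SameBlock M (fun _ : N₀ => (1 : ℂ)) (fun n : N₀ => η n) := by
    have : (fun n : N₀ => η n) = ϑ₀ := funext hηres
    rw [this]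
    exact hϑ₀B
  have hgood : Good M W₁ η := by
    intro w hw
    set b := (Nat.card W₀).factorization p with hb
    have h1 := hβ₁good w hw
    have hk0 : (k : ℂ) ≠ 0 := by exact_mod_cast hk.ne'
    set t := ((fun g => ((β₁ g : ℂˣ) : ℂ)) * η₀) w / ((fun g => ((β₁ g : ℂˣ) : ℂ)) * η₀) 1 with ht
    have hu : (((β₂ w : ℂˣ) : ℂ)) ^ p ^ b = 1 := by
      have := congrArg (fun u : ℂˣ => (u : ℂ)) (hβ₂p w)
      simpa using this
    have hloc : MemLocalRing M ((β₂ w : ℂˣ) : ℂ) := by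
      refine memLocalRing_of_isIntegral (IsIntegral.of_pow (pow_pos hpf.out.pos b) ?_)
      rw [hu]
      exact isIntegral_one
    have hcon : MemLocalIdeal M (((β₂ w : ℂˣ) : ℂ) - 1) := by
      refine Cfsg.Agent.Lib.BlkDefect.memLocalIdeal_of_pow_sub_pow hM hloc (memLocalRing_one (M := M)) b ?_
      rw [hu, one_pow, sub_self]
      exact memLocalIdeal_zero
    have hl : MemLocalRing M t := by
      have := memLocalRing_add (memLocalRing_of_memLocalIdeal h1) (memLocalRing_one (M := M))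
      simpa using this
    have e1 : η w / η 1 = ((β₂ w : ℂˣ) : ℂ) * t := by
      have e2 : η 1 = η₁ 1 := by rw [hη1, hη₁1]
      rw [e2]
      show ((β₂ w : ℂˣ) : ℂ) * η₁ w / η₁ 1 = _
      rw [ht]
      show _ = ((β₂ w : ℂˣ) : ℂ) * (η₁ w / η₁ 1)
      ring
    rw [e1]
    have e3 : ((β₂ w : ℂˣ) : ℂ) * t - 1 = (((β₂ w : ℂˣ) : ℂ) - 1) * t + (t - 1) := by ring
    rw [e3]
    exact memLocalIdeal_add (memLocalIdeal_mul_right hcon hl) h1
  -- values on `N`
  have hηval : ∀ (x : W₀) (hx : (x : G) ∈ N), η x = ρ.character ⟨x, hx⟩ := by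
    intro x hx
    exact hηres ⟨x, hx⟩
  -- goodness of conjugates
  have hconj : ∀ c ∈ Subgroup.normalizer (Q' : Set G), conjBy W₀ hW₀ c η = η := by
    intro c hc
    refine eq_of_good hM hNW hη hηN (isIrrCharacter_conjBy W₀ hW₀ c hη) ?_ hη1 hpd hgood ?_ hβ₂det ?_
    · intro n
      have hmem : c * (((n : W₀) : G)) * c⁻¹ ∈ N := hNn.conj_mem _ n.2 c
      rw [hηres n]
      show η ⟨c * ((n : W₀) : G) * c⁻¹, _⟩ = ρ.character (e n)
      rw [hηval _ hmem]
      exact hinv' c (e n)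
    · intro w hw
      have h1 : c * (((w : W₀)) : G) * c⁻¹ ∈ C := hnormC c hc _ hw
      have hone : conjBy W₀ hW₀ c η 1 = η 1 := by
        show η ⟨c * ((1 : W₀) : G) * c⁻¹, _⟩ = _
        congr 1
        apply Subtype.ext
        simp
      rw [hone]
      exact hgood ⟨c * ((w : W₀) : G) * c⁻¹, hCW₀ h1⟩ h1
    · obtain ⟨m₂, hm₂, hdm₂⟩ := hβ₂det
      refine ⟨m₂, hm₂, fun y => ?_⟩
      have h2 := detChar_comp (Cfsg.Agent.Lib.CharInduction.conjAut W₀ hW₀ c).toMonoidHom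
        (IsIrrCharacter.isCharacter hη) y
      have h3 : detChar (conjBy W₀ hW₀ c η) y =
        detChar η (Cfsg.Agent.Lib.CharInduction.conjAut W₀ hW₀ c y) := h2
      rw [h3]
      exact hdm₂ _
  have hinvη : ∀ (g : G) (x : W₀), η ⟨g * x * g⁻¹, hW₀.conj_mem (x : G) x.2 g⟩ = η x := by
    intro g x
    obtain ⟨c, hc, n, hn, rfl⟩ := hfr g
    have h1 : n * (x : G) * n⁻¹ ∈ W₀ := hW₀.conj_mem _ x.2 n
    have h2 := congrFun (hconj c hc) ⟨n * (x : G) * n⁻¹, h1⟩
    have h3 : η ⟨n * (x : G) * n⁻¹, h1⟩ = η x :=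
      isClassFunction_of_isCharacter (IsIrrCharacter.isCharacter hη) x ⟨n, hNW₀ hn⟩
    rw [← h3, ← h2]
    show _ = η ⟨c * (n * (x : G) * n⁻¹) * c⁻¹, _⟩
    congr 1
    apply Subtype.ext
    show c * n * (x : G) * (c * n)⁻¹ = c * (n * (x : G) * n⁻¹) * c⁻¹
    group
  obtain ⟨χ, hχ, hχres, hχdet⟩ := exists_ext_detP' a W₀ hW₀ hidx hη hinvη hη1 hpd hβ₂det
  -- the block
  have hηB : SameBlock M (fun _ : W₀ => (1 : ℂ)) η :=
    sameBlock_of_good hM hP₀ hWP hNW hη hηN hηB₀ hgood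
  have hχB : SameBlock M (fun _ : G => (1 : ℂ)) χ := by
    letI : Fintype G := Fintype.ofFinite _
    letI : Fintype W₀ := Fintype.ofFinite _
    have h1 : classInner (fun n : W₀ => ((⟨fun _ => (1 : ℂ), isIrrCharacter_one⟩ : IrrCharacter G) :
        G → ℂ) n) ((⟨fun _ => (1 : ℂ), isIrrCharacter_one⟩ : IrrCharacter W₀) : W₀ → ℂ) ≠ 0 := by
      have := classInner_irr_self (isIrrCharacter_one (G := W₀))
      show classInner (fun _ : W₀ => (1 : ℂ)) (fun _ : W₀ => (1 : ℂ)) ≠ 0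
      rw [this]
      exact one_ne_zero
    have h2 : classInner (fun n : W₀ => ((⟨χ, hχ⟩ : IrrCharacter G) : G → ℂ) n)
        ((⟨η, hη⟩ : IrrCharacter W₀) : W₀ → ℂ) ≠ 0 := by
      have h3 : (fun n : W₀ => χ n) = η := funext hχres
      show classInner (fun n : W₀ => χ n) η ≠ 0
      rw [h3, classInner_irr_self hη]
      exact one_ne_zero
    exact sameBlock_of_covers_of_index hM hW₀ ⟨a, hidx⟩ (χ₁ := ⟨fun _ => (1 : ℂ), isIrrCharacter_one⟩)
      (χ₂ := ⟨χ, hχ⟩) (θ₁ := ⟨fun _ => (1 : ℂ), isIrrCharacter_one⟩) (θ₂ := ⟨η, hη⟩) hηB h1 h2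
  -- rationality
  set q := p ^ (Nat.card G).factorization p with hq
  set m₀ := ordCompl[p] (Nat.card G) with hm₀
  have hcard : q * m₀ = Nat.card G := Nat.ordProj_mul_ordCompl_eq_self _ _
  have hm₀p : ¬ p ∣ m₀ := Nat.not_dvd_ordCompl hpf.out Nat.card_pos.ne'
  have hm₀0 : m₀ ≠ 0 := fun h => hm₀p (h ▸ dvd_zero p)
  have hq0 : q ≠ 0 := (pow_pos hpf.out.pos _).ne'
  have hχpow : ∀ t : ℕ, t.Coprime (q * m₀) → t ≡ 1 [MOD m₀] → ∀ g, χ (g ^ t) = χ g := by
    intro t ht ht1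
    have htG : (Nat.card G).Coprime t := by
      rw [← hcard]
      exact ht.symm
    have htW : (Nat.card W₀).Coprime t :=
      Nat.Coprime.coprime_dvd_left (Subgroup.card_subgroup_dvd_card W₀) htG
    letI : Fintype W₀ := Fintype.ofFinite _
    have htN : t.Coprime (Nat.card N) :=
      (Nat.Coprime.coprime_dvd_left (Subgroup.card_subgroup_dvd_card N) htG).symm
    have ht1N : t ≡ 1 [MOD ordCompl[p] (Nat.card N)] :=
      ht1.of_dvd (Nat.ordCompl_dvd_ordCompl_of_dvd (Subgroup.card_subgroup_dvd_card N) p)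
    have hηt : (fun x : W₀ => η (x ^ t)) = η := by
      refine eq_of_good hM hNW hη hηN (Cfsg.Agent.Lib.CharPow.isIrr_pow hη htW) ?_ hη1 hpd hgood ?_
        hβ₂det ?_
      · intro n
        have hmem : (((((n : W₀) ^ t : W₀)) : G)) ∈ N := by
          have h1 : ((n : W₀) : G) ∈ N := n.2
          have h2 := N.pow_mem h1 t
          simpa using h2
        show η ((n : W₀) ^ t) = η n
        rw [hηval _ hmem, hηres n]
        have h2 := pow_eq_of_rational (isCharacter_of_rep' ρ) hpm hratm htN ht1N (e n)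
        have h3 : (⟨(((n : W₀) ^ t : W₀) : G), hmem⟩ : N) = (e n) ^ t := by
          apply Subtype.ext
          rfl
        rw [h3]
        exact h2
      · intro w hw
        show MemLocalIdeal M (η (w ^ t) / η (1 ^ t) - 1)
        rw [one_pow]
        exact hgood _ (W₁.pow_mem hw t)
      · obtain ⟨m₂, hm₂, hdm₂⟩ := hβ₂det
        refine ⟨m₂, hm₂, fun y => ?_⟩
        have h2 := Cfsg.Agent.Lib.CharDet.detChar_pow_conj (IsIrrCharacter.isCharacter hη)
          (IsIrrCharacter.isCharacter (Cfsg.Agent.Lib.CharPow.isIrr_pow hη htW)) (k := t)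
          (fun g => rfl) y
        rw [h2, ← pow_mul, mul_comm, pow_mul, hdm₂, one_pow]
    have hχt : (fun g : G => χ (g ^ t)) = χ := by
      letI : Fintype G := Fintype.ofFinite _
      have hχW : IsIrrCharacter W₀ (fun x : W₀ => χ x) := by
        have : (fun x : W₀ => χ x) = η := funext hχres
        rw [this]
        exact hη
      have hχ1 : χ 1 = k := by
        have := hχres 1
        rwa [hη1] at this
      refine eq_of_detP' W₀ hidx hχ hχW (Cfsg.Agent.Lib.CharPow.isIrr_pow hχ htG) ?_ hχ1 hpd hχdet ?_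
      · intro x
        have h1 := congrFun hηt x
        have h2 := hχres (x ^ t)
        have h3 := hχres x
        show χ ((x : G) ^ t) = χ x
        rw [h3, ← h1, ← h2]
        simp
      · obtain ⟨m₂, hm₂, hdm₂⟩ := hχdet
        refine ⟨m₂, hm₂, fun y => ?_⟩
        have h2 := Cfsg.Agent.Lib.CharDet.detChar_pow_conj (IsIrrCharacter.isCharacter hχ)
          (IsIrrCharacter.isCharacter (Cfsg.Agent.Lib.CharPow.isIrr_pow hχ htG)) (k := t)
          (fun g => rfl) y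
        rw [h2, ← pow_mul, mul_comm, pow_mul, hdm₂, one_pow]
    exact congrFun hχt
  refine ⟨⟨χ, hχ⟩, hχB, ⟨m₀, hm₀p, fun g => ?_⟩, fun n => ?_⟩
  · obtain ⟨l, μ, h1, h2⟩ := Cfsg.Agent.Lib.CharGalois.exists_roots (IsIrrCharacter.isCharacter hχ) g
    have hg1 : χ g = ∑ i, μ i := by
      have := h2 1
      simpa using this
    show χ g ∈ _
    rw [hg1]
    refine mem_adjoin_of_sum_pow_eq μ hq0 hm₀0 (fun i => ?_) (fun t ht ht1 => ?_)
    · rw [hcard]
      exact h1 i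
    · rw [← h2, ← hg1]
      exact hχpow t ht ht1 g
  · have h1 := hχres ⟨(n : G), hNW₀ n.2⟩
    have h2 := hηres ⟨⟨(n : G), hNW₀ n.2⟩, n.2⟩
    exact h1.trans h2

end Cfsg.Agent.S4892
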