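import Mathlib
import Cfsg.Statements.S4997
import Cfsg.Agent.Lib.NVChar
import Cfsg.Agent.Lib.Glauberman
import Cfsg.Agent.Lib.FrobCompl

set_option autoImplicit false
set_option linter.unusedSectionVars false
set_option linter.unusedVariables false
set_option linter.style.haveILetI false
open Cfsg

namespace Cfsg.Agent.S4997

open Cfsg.Agent.Lib.NVChar Cfsg.Agent.Lib.PCore Cfsg.Agent.Lib.CharBasic
open scoped commutatorElement

/-- `a` is a power of `a * b` when `a`, `b` commute and have coprime orders. -/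
theorem mem_zpowers_mul_of_coprime {G : Type*} [Group G] [Finite G] {a b : G} (hc : a * b = b * a)
    (hcop : (orderOf a).Coprime (orderOf b)) : a ∈ Subgroup.zpowers (a * b) := by
  have hbez := Nat.gcd_eq_gcd_ab (orderOf b) (orderOf a)
  rw [Nat.Coprime.symm hcop] at hbez
  set A := (orderOf b).gcdA (orderOf a)
  set B := (orderOf b).gcdB (orderOf a)
  refine Subgroup.mem_zpowers_iff.2 ⟨(orderOf b : ℤ) * A, ?_⟩
  have hcm : Commute a b := hc
  rw [hcm.mul_zpow]
  have h1 : b ^ ((orderOf b : ℤ) * A) = 1 := by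
    rw [zpow_mul, zpow_natCast, pow_orderOf_eq_one, one_zpow]
  have h2 : a ^ ((orderOf b : ℤ) * A) = a := by
    have h3 : (orderOf b : ℤ) * A = 1 - (orderOf a : ℤ) * B := by
      push_cast at hbez
      linarith
    rw [h3, zpow_sub, zpow_one, zpow_mul, zpow_natCast, pow_orderOf_eq_one, one_zpow, inv_one, mul_one]
  rw [h1, h2, mul_one]

/-- Let p be an odd prime and G a finite solvable group with exactly one conjugacy class consisting of vanishing elements (elements at which some irreducible complex character is zero) of order divisible by p. Let P be a Sylow p-subgroup of G. Then the order of P is at most p times the order of the largest normal p-subgroup of G. -/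
theorem result {G : Type*} [Group G] [Finite G] (hsolv : Group.IsSolvable G) (p : ℕ) [Fact p.Prime] (hp : p ≠ 2) (h1 : Set.ncard {C : ConjClasses G | (∀ g ∈ C.carrier, ∃ χ : Cfsg.IrrCharacter G, (χ : G → ℂ) g = 0) ∧ ∃ g ∈ C.carrier, p ∣ orderOf g} = 1) (P : Sylow p G) : Nat.card ↥(P : Subgroup G) ≤ p * Nat.card ↥(Cfsg.pCore p G) := by
  classical
  have hpp : p.Prime := Fact.out
  haveI := hsolv
  haveI hOn : (pCore p G).Normal := inferInstance
  obtain ⟨C₀, hC₀⟩ := Set.ncard_eq_one.1 h1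
  -- elements whose `p`-part is outside `O_p(G)` lie in the class
  have hA : ∀ x y : G, y ∈ Subgroup.zpowers x → (∃ k : ℕ, y ^ (p ^ k) = 1) → y ∉ pCore p G →
      ConjClasses.mk x = C₀ := by
    intro x y hy hyk hyO
    have hmem : ConjClasses.mk x ∈ {C : ConjClasses G | (∀ g ∈ C.carrier, ∃ χ : Cfsg.IrrCharacter G,
        (χ : G → ℂ) g = 0) ∧ ∃ g ∈ C.carrier, p ∣ orderOf g} := by
      refine ⟨?_, x, ConjClasses.mem_carrier_mk, ?_⟩
      · intro g hg
        obtain ⟨χ, hχ⟩ := exists_irr_zero' hp hy hyk hyO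
        refine ⟨χ, ?_⟩
        rw [ConjClasses.mem_carrier_iff_mk_eq, ConjClasses.mk_eq_mk_iff_isConj] at hg
        obtain ⟨c, hc⟩ := isConj_iff.1 hg
        have h2 := isClassFunction_of_isCharacter (IsIrrCharacter.isCharacter χ.2) g c
        rw [← h2, hc, hχ]
      · have hy1 : y ≠ 1 := fun h => hyO (h ▸ (pCore p G).one_mem)
        obtain ⟨k, hk⟩ := hyk
        have h2 : orderOf y ∣ p ^ k := orderOf_dvd_of_pow_eq_one hk
        obtain ⟨m, -, hm⟩ := (Nat.dvd_prime_pow hpp).1 h2
        have hm0 : m ≠ 0 := by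
          rintro rfl
          exact hy1 (orderOf_eq_one_iff.1 (by simpa using hm))
        have h3 : p ∣ orderOf y := by
          rw [hm]
          exact dvd_pow_self p hm0
        exact h3.trans (orderOf_dvd_of_mem_zpowers hy)
    rw [hC₀] at hmem
    exact hmem
  have hConj : ∀ x y x' y' : G, y ∈ Subgroup.zpowers x → (∃ k : ℕ, y ^ (p ^ k) = 1) → y ∉ pCore p G →
      y' ∈ Subgroup.zpowers x' → (∃ k : ℕ, y' ^ (p ^ k) = 1) → y' ∉ pCore p G → orderOf x = orderOf x' := by
    intro x y x' y' h1 h2 h3 h4 h5 h6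
    have h7 := (hA x y h1 h2 h3).trans (hA x' y' h4 h5 h6).symm
    rw [ConjClasses.mk_eq_mk_iff_isConj] at h7
    obtain ⟨c, hc⟩ := isConj_iff.1 h7
    rw [← hc]
    exact (orderOf_injective (MulAut.conj c).toMonoidHom (MulAut.conj c).injective x).symm
  -- commuting `p'`-elements are trivial
  have hC : ∀ c m : G, (∃ k : ℕ, c ^ (p ^ k) = 1) → c ∉ pCore p G → c * m = m * c →
      (orderOf m).Coprime p → m = 1 := by
    intro c m hck hcO hcomm hmcop
    obtain ⟨k, hk⟩ := hck
    have hcop : (orderOf c).Coprime (orderOf m) := by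
      have h2 : orderOf c ∣ p ^ k := orderOf_dvd_of_pow_eq_one hk
      exact Nat.Coprime.coprime_dvd_left h2 (Nat.Coprime.pow_left k hmcop.symm)
    have h3 := mem_zpowers_mul_of_coprime hcomm hcop
    have h4 := hConj (c * m) c c c h3 ⟨k, hk⟩ hcO (Subgroup.mem_zpowers c) ⟨k, hk⟩ hcO
    have h5 : Commute c m := hcomm
    rw [h5.orderOf_mul_eq_mul_orderOf_of_coprime hcop] at h4
    have hpos : 0 < orderOf c := orderOf_pos c
    have h6 : orderOf m = 1 := by
      have : orderOf c * orderOf m = orderOf c * 1 := by rw [h4, mul_one]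
      exact Nat.eq_of_mul_eq_mul_left hpos this
    exact orderOf_eq_one_iff.1 h6
  have hOP : pCore p G ≤ (P : Subgroup G) := pCore_le_sylow p P
  by_cases hPO : (P : Subgroup G) ≤ pCore p G
  · have h2 : Nat.card (P : Subgroup G) ≤ Nat.card (pCore p G) := Subgroup.card_le_of_le hPO
    have h3 : 0 < Nat.card (pCore p G) := Nat.card_pos
    nlinarith [hpp.one_lt]
  -- elements of `P`
  have hPk : ∀ g ∈ (P : Subgroup G), ∃ k : ℕ, g ^ (p ^ k) = 1 := by
    intro g hg
    obtain ⟨k, hk⟩ := P.isPGroup' ⟨g, hg⟩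
    exact ⟨k, by simpa using congrArg Subtype.val hk⟩
  have hD : ∀ g ∈ (P : Subgroup G), g ∉ pCore p G → g ^ p ∈ pCore p G := by
    intro g hg hgO
    by_contra hn
    obtain ⟨k, hk⟩ := hPk g hg
    have h2 := hConj g g (g ^ p) (g ^ p) (Subgroup.mem_zpowers g) ⟨k, hk⟩ hgO (Subgroup.mem_zpowers _)
      ⟨k, by rw [← pow_mul, mul_comm, pow_mul, hk, one_pow]⟩ hn
    have hg1 : g ≠ 1 := fun h => hgO (h ▸ (pCore p G).one_mem)
    have h3 : p ∣ orderOf g := by
      have h4 : orderOf g ∣ p ^ k := orderOf_dvd_of_pow_eq_one hk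
      obtain ⟨m, -, hm⟩ := (Nat.dvd_prime_pow hpp).1 h4
      have hm0 : m ≠ 0 := by
        rintro rfl
        exact hg1 (orderOf_eq_one_iff.1 (by simpa using hm))
      rw [hm]
      exact dvd_pow_self p hm0
    rw [orderOf_pow_of_dvd hpp.ne_zero h3] at h2
    have hpos : 0 < orderOf g := orderOf_pos g
    have h5 : orderOf g / p < orderOf g := Nat.div_lt_self hpos hpp.one_lt
    omega
  -- the quotient
  let π := QuotientGroup.mk' (pCore p G)
  have hπsurj : Function.Surjective π := QuotientGroup.mk'_surjective _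
  have hπ1 : ∀ g : G, π g = 1 ↔ g ∈ pCore p G := fun g => QuotientGroup.eq_one_iff g
  let Pb : Subgroup (G ⧸ pCore p G) := (P : Subgroup G).map π
  have hPbp : IsPGroup p Pb := P.isPGroup'.map π
  have hOb : pCore p (G ⧸ pCore p G) = ⊥ := pCore_quotient_pCore p
  have hexp : ∀ a ∈ Pb, a ^ p = 1 := by
    rintro _ ⟨g, hg, rfl⟩
    by_cases hgO : g ∈ pCore p G
    · rw [(hπ1 g).2 hgO, one_pow]
    · rw [← map_pow, hπ1]
      exact hD g hg hgO
  -- a nontrivial abelian normal subgroup of the quotient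
  obtain ⟨x₀, hx₀P, hx₀O⟩ : ∃ x ∈ (P : Subgroup G), x ∉ pCore p G := by
    by_contra hn
    push Not at hn
    exact hPO hn
  have hGnt : (⊤ : Subgroup (G ⧸ pCore p G)) ≠ ⊥ := by
    intro h
    have h2 : π x₀ ∈ (⊤ : Subgroup (G ⧸ pCore p G)) := trivial
    rw [h, Subgroup.mem_bot, hπ1] at h2
    exact hx₀O h2
  obtain ⟨M, hMn, hMbot, -, hMab⟩ := exists_abelian_normal_le (⊤ : Subgroup (G ⧸ pCore p G))
    inferInstance hGnt
  haveI := hMn
  have hMcomm : ∀ a ∈ M, ∀ b ∈ M, a * b = b * a := by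
    intro a ha b hb
    have h2 : ⁅a, b⁆ ∈ ⁅M, M⁆ := Subgroup.commutator_mem_commutator ha hb
    rw [hMab, Subgroup.mem_bot] at h2
    exact commutatorElement_eq_one_iff_mul_comm.1 h2
  have hMcop : (Nat.card M).Coprime p := coprime_card_of_abelian_normal M hMn hMcomm hOb
  -- fixed-point-free action
  have hfpf : ∀ a ∈ Pb, a ≠ 1 → M ⊓ Subgroup.centralizer {a} = ⊥ := by
    rintro _ ⟨x, hxP, rfl⟩ ha1
    rw [eq_bot_iff]
    rintro mb ⟨hmb, hmbc⟩
    rw [Subgroup.mem_bot]
    have hmbc' : mb * π x = π x * mb := by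
      have hmbc'' : mb ∈ Subgroup.centralizer {π x} := hmbc
      rw [Subgroup.mem_centralizer_singleton_iff] at hmbc''
      exact hmbc''
    have hxO : x ∉ pCore p G := fun h => ha1 ((hπ1 x).2 h)
    -- a lift of `mb` of order prime to `p`
    obtain ⟨m₁, hm₁⟩ := hπsurj mb
    have hmbord : (orderOf mb).Coprime p := by
      have h2 : orderOf mb = orderOf (⟨mb, hmb⟩ : M) := (Subgroup.orderOf_mk _ _).symm
      rw [h2]
      exact Nat.Coprime.coprime_dvd_left (orderOf_dvd_natCard _) hMcop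
    obtain ⟨m₀, hm₀π, hm₀c⟩ : ∃ m₀ : G, π m₀ = mb ∧ (orderOf m₀).Coprime p := by
      -- write the order of `m₁` as `p ^ a * b`
      obtain ⟨a, b, hb, hab⟩ := Nat.exists_eq_pow_mul_and_not_dvd (orderOf_pos m₁).ne' p hpp.ne_one
      have hcop1 : (p ^ a).Coprime (orderOf mb) := (Nat.Coprime.pow_left a hmbord.symm)
      have hbez := Nat.gcd_eq_gcd_ab (p ^ a) (orderOf mb)
      rw [hcop1] at hbez
      set A := (p ^ a).gcdA (orderOf mb)
      set B := (p ^ a).gcdB (orderOf mb)
      refine ⟨m₁ ^ (((p ^ a : ℕ) : ℤ) * A), ?_, ?_⟩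
      · rw [map_zpow, hm₁]
        have h3 : ((p ^ a : ℕ) : ℤ) * A = 1 - (orderOf mb : ℤ) * B := by
          push_cast at hbez ⊢
          linarith
        rw [h3, zpow_sub, zpow_one, zpow_mul, zpow_natCast, pow_orderOf_eq_one, one_zpow, inv_one,
          mul_one]
      · have h4 : (m₁ ^ (((p ^ a : ℕ) : ℤ) * A)) ^ b = 1 := by
          rw [← zpow_natCast, ← zpow_mul, mul_comm, ← mul_assoc]
          have h5 : ((b : ℤ) * ((p ^ a : ℕ) : ℤ)) = (orderOf m₁ : ℤ) := by
            rw [hab]
            push_cast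
            ring
          rw [h5, zpow_mul, zpow_natCast, pow_orderOf_eq_one, one_zpow]
        have h6 : orderOf (m₁ ^ (((p ^ a : ℕ) : ℤ) * A)) ∣ b := orderOf_dvd_of_pow_eq_one h4
        exact Nat.Coprime.coprime_dvd_left h6 ((Nat.Prime.coprime_iff_not_dvd hpp).2 hb).symm
    -- the coprime action
    let A : Subgroup G := Subgroup.zpowers m₀
    let K : Subgroup G := pCore p G ⊔ Subgroup.zpowers x
    have hxk : IsPGroup p (Subgroup.zpowers x) := by
      rw [IsPGroup.iff_card, Nat.card_zpowers]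
      obtain ⟨k, hk⟩ := hPk x hxP
      obtain ⟨m, -, hm⟩ := (Nat.dvd_prime_pow hpp).1 (orderOf_dvd_of_pow_eq_one hk)
      exact ⟨m, hm⟩
    have hKp : IsPGroup p K := (isPGroup_pCore p).to_sup_of_normal_left hxk
    obtain ⟨j, hj⟩ := IsPGroup.iff_card.1 hKp
    have hAK : (Nat.card A).Coprime (Nat.card K) := by
      rw [hj, Nat.card_zpowers]
      exact Nat.Coprime.pow_right j hm₀c
    have hnorm : ∀ S : Subgroup G, S ≤ Subgroup.normalizer ((pCore p G : Subgroup G) : Set G) := by
      intro S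
      rw [Subgroup.normalizer_eq_top]
      exact le_top
    have hfix : ∀ a ∈ A, a * x * a⁻¹ * x⁻¹ ∈ pCore p G := by
      intro a ha
      obtain ⟨i, rfl⟩ := Subgroup.mem_zpowers_iff.1 ha
      rw [← hπ1]
      simp only [map_mul, map_inv, map_zpow, hm₀π]
      have hcm : Commute mb (π x) := hmbc'
      have h7 : mb ^ i * π x = π x * mb ^ i := (hcm.zpow_left i).eq
      rw [h7]
      group
    obtain ⟨c, ⟨hcK, hcA⟩, hxc⟩ := Cfsg.Agent.Lib.Glauberman.exists_mem_centralizer_of_coset_fixed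
      hAK (Or.inr inferInstance) (le_sup_left : pCore p G ≤ K) (hnorm K) (hnorm A) x
      (Subgroup.mem_sup_right (Subgroup.mem_zpowers x)) hfix
    have hcO : c ∉ pCore p G := by
      intro h
      apply hxO
      have h8 : x = c * (x⁻¹ * c)⁻¹ := by group
      rw [h8]
      exact (pCore p G).mul_mem h ((pCore p G).inv_mem hxc)
    have hck : ∃ k : ℕ, c ^ (p ^ k) = 1 := by
      obtain ⟨k, hk⟩ := hKp ⟨c, hcK⟩
      exact ⟨k, by simpa using congrArg Subtype.val hk⟩
    have hcomm : c * m₀ = m₀ * c := by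
      have h9 : c ∈ Subgroup.centralizer (A : Set G) := hcA
      rw [Subgroup.mem_centralizer_iff] at h9
      exact (h9 m₀ (Subgroup.mem_zpowers m₀)).symm
    have hm01 := hC c m₀ hck hcO hcomm hm₀c
    rw [← hm₀π, hm01, map_one]
  -- `Pb` is cyclic
  haveI : Nontrivial M := (Subgroup.nontrivial_iff_ne_bot M).2 hMbot
  letI instM : CommGroup M :=
    { (inferInstance : Group M) with mul_comm := fun a b => Subtype.ext (hMcomm a a.2 b b.2) }
  have hPbM : Pb ≤ Subgroup.normalizer (M : Set (G ⧸ pCore p G)) := by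
    rw [Subgroup.normalizer_eq_top]
    exact le_top
  have hcyc : IsCyclic Pb := by
    rcases Cfsg.Agent.Lib.FrobCompl.cyclic_or_quaternion_of_fpf hPbp
      (Cfsg.Agent.Lib.FpfNorm.conjHom_fpf Pb M hPbM hfpf) with h | h
    · exact h
    · exact absurd h.1 hp
  have hcardPb : Nat.card Pb ≤ p := by
    obtain ⟨g, hg⟩ := hcyc.exists_generator
    rw [← orderOf_eq_card_of_forall_mem_zpowers hg]
    have h2 : g ^ p = 1 := Subtype.ext (by simpa using hexp g g.2)
    exact Nat.le_of_dvd hpp.pos (orderOf_dvd_of_pow_eq_one h2)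
  -- counting
  let f : (P : Subgroup G) →* (G ⧸ pCore p G) := π.comp (P : Subgroup G).subtype
  have hrange : f.range = Pb := by
    rw [MonoidHom.range_comp, Subgroup.range_subtype]
  have hker : Nat.card f.ker ≤ Nat.card (pCore p G) := by
    refine Nat.card_le_card_of_injective (fun k : f.ker => (⟨(k : (P : Subgroup G)), ?_⟩ : pCore p G)) ?_
    · have h2 : f k = 1 := k.2
      exact (hπ1 _).1 h2
    · intro a b hab
      apply Subtype.ext
      apply Subtype.ext
      exact congrArg (fun z : pCore p G => (z : G)) hab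
  have h3 := Subgroup.card_mul_index f.ker
  rw [Subgroup.index_ker, hrange] at h3
  rw [← h3, mul_comm]
  exact Nat.mul_le_mul hcardPb hker

end Cfsg.Agent.S4997
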