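import Mathlib
import Cfsg.Statements.S5150
import Cfsg.Agent.Lib.FusionCompC

set_option autoImplicit false
open Cfsg
open Cfsg.Agent.Lib.FusionCore

namespace Cfsg.Agent.S5150

/-- Let F be a saturated fusion system over a finite p-group S and E its layer (over T). Then O_p(F), the largest subgroup normal in F, centralizes E: every map of E extends to a map of F on the subgroup generated by its source and O_p(F) that fixes O_p(F) elementwise (so E is a subsystem of the centralizer system of O_p(F), and T commutes with O_p(F)). -/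
theorem result {Ω : Type*} [Group Ω] {S : Subgroup Ω} [Finite S] (p : ℕ) [Fact p.Prime] (hS : IsPGroup p S) (F : Cfsg.FusionSystem S) (hF : F.IsSaturated p) {T : Subgroup Ω} (E : Cfsg.FusionSystem T) (hE : E.IsLayerOf F p) (P : Subgroup Ω) : E.Hom P ⊆ F.centralizerHom F.core P := by
  classical
  intro φ hφ
  have hQ : F.IsNormal F.core := Cfsg.Agent.S5145.result F
  obtain ⟨D₀, hD₀⟩ := exists_centralizerSystem (F := F) hQ.1
  have hn := Cfsg.Agent.Lib.FusionCompA.cent_isNormalIn hS hF hQ hD₀
  have hall : ∀ (U : Subgroup Ω) (C : FusionSystem U), C.IsComponentIn F p → C.IsSubsystemOf D₀ := by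
    intro U C hC R ψ hψ
    rw [hD₀ R]
    obtain ⟨h1, h2⟩ := Cfsg.Agent.Lib.FusionCompA.comp_cext hC.1 inferInstance inferInstance hS hF hC.2 F.core hQ
    have hUS : U ≤ S := Cfsg.Agent.Lib.FusionCompIso.subnormal_le hC.1
    have hCF : C.IsSubsystemOf F := Cfsg.Agent.Lib.FusionCompIso.subnormal_sub hC.1
    have hXR : F.core ≤ Cfsg.FusionSystem.centralizerIn S U := fun x hx => mem_centralizerIn.2 ⟨hQ.1 hx, fun t ht =>
      ((mem_centralizerIn.1 (h2 ht)).2 x hx).symm⟩
    exact Cfsg.Agent.Lib.AschCore.mem_centralizerHom hCF hUS hXR hψ (h1 (Maps.of_mem hψ))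
  have hsub := hE.2.2 _ D₀ hn hall
  have := hsub P hφ
  rwa [hD₀ P] at this

end Cfsg.Agent.S5150
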