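import Mathlib
import Cfsg.Statements.S5191

set_option autoImplicit false
open Cfsg

namespace Cfsg.Agent.S5191

/-- Fusion in a finite group G and in its quotient by O_{p'}(G) agree. Let S be a Sylow p-subgroup of G, N = O_{p'}(G) and P ≤ S. If an element of G/N conjugates the image of P into the image of S, then some element g of G conjugates P into S and induces the same map on P modulo N. (Together with the injectivity of S → G/N this says that g ↦ gN induces an isomorphism of the fusion system of G on S with that of G/N on SN/N.) -/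
theorem result {G : Type*} [Group G] [Finite G] {p : ℕ} [Fact p.Prime]
    [hN : (Cfsg.pPrimeCore p G).Normal] (S : Sylow p G) (P : Subgroup G) (hP : P ≤ (S : Subgroup G))
    (γ : G ⧸ Cfsg.pPrimeCore p G)
    (hγ : ∀ x ∈ P, γ * QuotientGroup.mk x * γ⁻¹ ∈ ((S : Subgroup G).map (QuotientGroup.mk' (Cfsg.pPrimeCore p G)))) :
    ∃ g : G, ∀ x ∈ P, g * x * g⁻¹ ∈ S ∧
      (QuotientGroup.mk (g * x * g⁻¹) : G ⧸ Cfsg.pPrimeCore p G) = γ * QuotientGroup.mk x * γ⁻¹ := by
  obtain ⟨h, rfl⟩ := QuotientGroup.mk_surjective γ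
  set N := Cfsg.pPrimeCore p G with hNdef
  set L : Subgroup G := (S : Subgroup G) ⊔ N with hL
  have hSL : (S : Subgroup G) ≤ L := le_sup_left
  -- the conjugate of `P` by `h` lies in `L`
  have hQL : ∀ x ∈ P, h * x * h⁻¹ ∈ L := by
    intro x hx
    obtain ⟨s, hs, hsx⟩ := hγ x hx
    have h1 : (QuotientGroup.mk s : G ⧸ N) = QuotientGroup.mk (h * x * h⁻¹) := by
      simpa using hsx
    have h2 : s⁻¹ * (h * x * h⁻¹) ∈ N := QuotientGroup.eq.mp h1
    have h3 : h * x * h⁻¹ = s * (s⁻¹ * (h * x * h⁻¹)) := by group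
    rw [h3]
    exact L.mul_mem (hSL hs) ((le_sup_right : N ≤ L) h2)
  let Q : Subgroup G := P.map (MulAut.conj h).toMonoidHom
  have hQLe : Q ≤ L := by
    rintro _ ⟨x, hx, rfl⟩
    exact hQL x hx
  have hQp : IsPGroup p Q := by
    have hPS : IsPGroup p P := IsPGroup.to_le (S.isPGroup') hP
    exact hPS.map _
  -- pass to the group L
  let S' : Sylow p L := S.subtype hSL
  have hQ' : IsPGroup p (Q.subgroupOf L) := by
    have : IsPGroup p (Q.subgroupOf L) := by
      have e := Subgroup.subgroupOfEquivOfLe hQLe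
      exact IsPGroup.of_equiv hQp e.symm
    exact this
  obtain ⟨R, hR⟩ := hQ'.exists_le_sylow
  obtain ⟨y, hy⟩ := MulAction.exists_smul_eq L R S'
  -- `y` conjugates `Q` into `S`
  have hyQ : ∀ q ∈ Q, (y : G) * q * (y : G)⁻¹ ∈ (S : Subgroup G) := by
    intro q hq
    have hq' : (⟨q, hQLe hq⟩ : L) ∈ (R : Subgroup L) := hR (Subgroup.mem_subgroupOf.mpr hq)
    have h4 : y * (⟨q, hQLe hq⟩ : L) * y⁻¹ ∈ (S' : Subgroup L) := by
      rw [← hy]
      exact Subgroup.mem_map_of_mem _ hq'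
    have h5 : y * (⟨q, hQLe hq⟩ : L) * y⁻¹ ∈ ((S : Subgroup G).subgroupOf L) := by
      have : (S' : Subgroup L) = (S : Subgroup G).subgroupOf L := Sylow.coe_subtype S hSL
      rw [← this]; exact h4
    simpa using Subgroup.mem_subgroupOf.mp h5
  obtain ⟨s, hs, n, hn, hsn⟩ := Subgroup.mem_sup_of_normal_right.mp y.2
  refine ⟨n * h, fun x hx => ?_⟩
  have hq : h * x * h⁻¹ ∈ Q := ⟨x, hx, rfl⟩
  have h6 := hyQ _ hq
  rw [← hsn] at h6
  constructor
  · have h7 : n * h * x * (n * h)⁻¹ = s⁻¹ * (s * n * (h * x * h⁻¹) * (s * n)⁻¹) * s := by group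
    rw [h7]
    exact S.toSubgroup.mul_mem (S.toSubgroup.mul_mem (S.toSubgroup.inv_mem hs) h6) hs
  · have h8 : (QuotientGroup.mk n : G ⧸ N) = 1 := (QuotientGroup.eq_one_iff n).mpr hn
    have h9 : (QuotientGroup.mk (n * h * x * (n * h)⁻¹) : G ⧸ N) =
        (QuotientGroup.mk n) * QuotientGroup.mk h * QuotientGroup.mk x *
          ((QuotientGroup.mk n) * QuotientGroup.mk h)⁻¹ := rfl
    rw [h9, h8, one_mul]

end Cfsg.Agent.S5191
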