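import Mathlib
import Cfsg.Agent.S5193
import Cfsg.Agent.Lib.FusionTrfApps
import Cfsg.Statements.S5194

set_option autoImplicit false
open Cfsg

namespace Cfsg.Agent.S5194

open Cfsg.Agent.Lib.FusionCore Cfsg.Agent.Lib.FusionCentralElt Cfsg.FusionSystem

universe u

theorem main {Ω : Type u} [Group Ω] {S : Subgroup Ω} [Finite S] (p : ℕ) [Fact p.Prime] (hS : IsPGroup p S) (F : Cfsg.FusionSystem S) (hF : F.IsSaturated p) (hp : p ≠ 2 ∨ F.IsSectionFree p (Equiv.Perm (Fin 4))) (hC : ∀ C : Cfsg.FusionSystem (Cfsg.FusionSystem.centralizerIn S (S ⊓ Subgroup.centralizer (S : Set Ω))), F.IsCentralizerSystem (S ⊓ Subgroup.centralizer (S : Set Ω)) C → ∀ P : Subgroup Ω, C.Hom P = (Cfsg.innerFusionSystem (Cfsg.FusionSystem.centralizerIn S (S ⊓ Subgroup.centralizer (S : Set Ω)))).Hom P) (hN : ∀ N : Cfsg.FusionSystem (Cfsg.FusionSystem.normalizerIn S (Cfsg.thompsonSubgroupAOf S)), F.IsNormalizerSystem (Cfsg.thompsonSubgroupAOf S) N → ∀ P : Subgroup Ω, N.Hom P = (Cfsg.innerFusionSystem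 (Cfsg.FusionSystem.normalizerIn S (Cfsg.thompsonSubgroupAOf S))).Hom P) : ∀ P : Subgroup Ω, F.Hom P = (Cfsg.innerFusionSystem S).Hom P := by
  have hZS : S ⊓ Subgroup.centralizer (S : Set Ω) ≤ S := inf_le_left
  have hJS : Cfsg.thompsonSubgroupAOf S ≤ S := Subgroup.map_subtype_le _
  obtain ⟨N, hN₀⟩ := exists_normalizerSystem (F := F) hJS
  have hcenter := (Cfsg.Agent.S5193.result p hS F hF N hN₀).2 hp
  have hW2 := Cfsg.Agent.S5193.hW2'.{u} (p := p)
  have hSN : S ≤ normalizerIn S (Cfsg.thompsonSubgroupAOf S) :=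
    S_le_norm (W := fun (Q : Type u) [Group Q] => thompsonSubgroupA Q) hW2 hS
  have hNs : N.IsSaturated p :=
    Cfsg.Agent.Lib.FusionSatNorm.saturated_normalizer hS hF
      (fullyNormalized_W (W := fun (Q : Type u) [Group Q] => thompsonSubgroupA Q) hW2 hS) hN₀
  have hZN : S ⊓ Subgroup.centralizer (S : Set Ω) ≤ N.center := by
    refine le_sSup ((Cfsg.Agent.Lib.FusionCore3.isCentral_iff_conjElt hNs).2 ⟨hZS.trans hSN, fun x hx y hy => ?_⟩)
    obtain ⟨φ, hφ, rfl⟩ := hy
    rw [hN N hN₀] at hφ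
    obtain ⟨-, g, hg, hgφ⟩ := hφ
    rw [hgφ]
    have h1 := Subgroup.mem_centralizer_iff.1 hx.2 g hg.1
    show g * x * g⁻¹ = x
    rw [h1]
    group
  have hZc : F.IsCentral (S ⊓ Subgroup.centralizer (S : Set Ω)) := by
    refine (Cfsg.Agent.Lib.FusionCore3.isCentral_iff_conjElt hF).2 ⟨hZS, fun x hx y hy => ?_⟩
    have h1 : x ∈ F.center := by
      rw [← hcenter]
      exact hZN hx
    exact ((Cfsg.Agent.Lib.FusionCore3.isCentral_iff_conjElt hF).1 Cfsg.Agent.Lib.FusionTrfApps.isCentral_center).2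
      x h1 y hy
  obtain ⟨C, hC₀⟩ := exists_centralizerSystem (F := F) hZS
  have hSC : S ≤ centralizerIn S (S ⊓ Subgroup.centralizer (S : Set Ω)) := by
    intro s hs
    refine mem_centralizerIn.2 ⟨hs, fun z hz => ?_⟩
    exact (Subgroup.mem_centralizer_iff.1 hz.2 s hs).symm
  intro P
  ext φ
  constructor
  · intro hφ
    obtain ⟨hPS, hφS⟩ := F.le_of_mem hφ
    obtain ⟨ψ, hψ, h1, h2⟩ := hZc.2 P φ hφ
    have hφC : φ ∈ C.Hom P := by
      rw [hC₀]
      exact ⟨hφ, hPS.trans hSC, fun x => hSC (hφS x), ψ, hψ, h1, h2⟩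
    rw [hC C hC₀] at hφC
    obtain ⟨-, g, hg, hgφ⟩ := hφC
    exact ⟨hPS, g, (mem_centralizerIn.1 hg).1, hgφ⟩
  · rintro ⟨hPS, g, hg, hgφ⟩
    have : φ = conjHom P g := MonoidHom.ext (fun x => hgφ x)
    rw [this]
    exact F.conj_mem hPS hg

/-- Thompson's normal p-complement Theorem for fusion systems. Let F be a saturated fusion system over a finite p-group S such that p is odd or F is S₄-free (the symmetric group of degree 4 is not involved in any model of the normalizer system of a fully normalized F-centric subgroup), and let J(S) be the subgroup generated by the abelian subgroups of S of largest order. If the centralizer fusion system of Z(S) in F is the inner fusion system of C_S(Z(S)) = S and the normalizer fusion system of J(S) in F is the inner fusion system of N_S(J(S)) = S, then F is the inner fusion system of S. -/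
theorem result {Ω : Type*} [Group Ω] {S : Subgroup Ω} [Finite S] (p : ℕ) [Fact p.Prime] (hS : IsPGroup p S) (F : Cfsg.FusionSystem S) (hF : F.IsSaturated p) (hp : p ≠ 2 ∨ F.IsSectionFree p (Equiv.Perm (Fin 4))) (hC : ∀ C : Cfsg.FusionSystem (Cfsg.FusionSystem.centralizerIn S (S ⊓ Subgroup.centralizer (S : Set Ω))), F.IsCentralizerSystem (S ⊓ Subgroup.centralizer (S : Set Ω)) C → ∀ P : Subgroup Ω, C.Hom P = (Cfsg.innerFusionSystem (Cfsg.FusionSystem.centralizerIn S (S ⊓ Subgroup.centralizer (S : Set Ω)))).Hom P) (hN : ∀ N : Cfsg.FusionSystem (Cfsg.FusionSystem.normalizerIn S (Cfsg.thompsonSubgroupAOf S)), F.IsNormalizerSystem (Cfsg.thompsonSubgroupAOf S) N → ∀ P : Subgroup Ω, N.Hom P = (Cfsg.innerFusionSystem (Cfsg.FusionSystem.normalizerIn S (Cfsg.thompsonSubgroupAOf S))).Hom P) : ∀ P : Subgroup Ω, F.Hom P = (Cfsg.innerFusionSystem S).Hom P := by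
  exact main p hS F hF hp hC hN
end Cfsg.Agent.S5194
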