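import Mathlib
import Cfsg.Agent.Lib.FusionCentralElt
import Cfsg.Statements.S5196

set_option autoImplicit false
universe u
open Cfsg

namespace Cfsg.Agent.S5196

open Cfsg.Agent.Lib.FusionCore Cfsg.Agent.Lib.FusionCentralElt Cfsg.FusionSystem



/-- Let p be an odd prime and W a positive characteristic p-functor: W assigns to every finite p-group Q (in a fixed universe) a subgroup W(Q), nontrivial when Q is, carried to W(R) by every isomorphism Q ≅ R; assume also Z(Q) ≤ W(Q) for every finite p-group Q. Suppose W satisfies the local condition: for every finite group G with Sylow p-subgroup P, O_p(G) ∩ Z(G) = O_p(G) ∩ Z(N_G(W(P))). Then W controls weak closure of elements in every saturated fusion system F over a finite p-group S: the centre of the normalizer fusion system of W(S) in F equals the centre of F. (For p = 2 no functor satisfies the local condition, so p is taken odd.) -/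
theorem result {p : ℕ} [Fact p.Prime] (hp : p ≠ 2) (W : ∀ (Q : Type u) [Group Q], Subgroup Q) (hW1 : ∀ (Q : Type u) [Group Q] [Finite Q], IsPGroup p Q → Nontrivial Q → W Q ≠ ⊥) (hW2 : ∀ (Q R : Type u) [Group Q] [Group R] [Finite Q], IsPGroup p Q → ∀ φ : Q ≃* R, (W Q).map φ.toMonoidHom = W R) (hWZ : ∀ (Q : Type u) [Group Q] [Finite Q], IsPGroup p Q → Subgroup.center Q ≤ W Q) (hC : ∀ (G : Type u) [Group G] [Finite G] (P : Sylow p G), Cfsg.pCore p G ⊓ Subgroup.center G = Cfsg.pCore p G ⊓ (Subgroup.center ↥(Subgroup.normalizer (((W ↥(P : Subgroup G)).map (P : Subgroup G).subtype : Subgroup G) : Set G))).map (Subgroup.normalizer (((W ↥(P : Subgroup G)).map (P : Subgroup G).subtype : Subgroup G) : Set G)).subtype) {Ω : Type u} [Group Ω] {S : Subgroup Ω} [Finite S] (hS : IsPGroup p S) (F : Cfsg.FusionSystem S) (hF : F.IsSaturated p) (N : Cfsg.FusionSystem (Cfsg.FusionSystem.normalizerIn S ((W ↥S).map S.subtype))) (hN : F.IsNormalizerSystem ((W ↥S).map S.subtype) N) : N.center = F.center := by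
  have hSN := S_le_norm hW2 hS
  have hNs : N.IsSaturated p :=
    Cfsg.Agent.Lib.FusionSatNorm.saturated_normalizer hS hF (fullyNormalized_W hW2 hS) hN
  have hLocal : ∀ (L : Type u) [Group L] [Finite L] (P : Sylow p L) (v : L), v ∈ pCore p L →
      v ∈ (P : Subgroup L) → (∀ x ∈ (P : Subgroup L), x * v = v * x) →
      (∀ g ∈ Subgroup.normalizer (((W ↥(P : Subgroup L)).map (P : Subgroup L).subtype : Subgroup L) : Set L),
        g * v ^ 1 * g⁻¹ = v ^ 1) → ∀ g : L, g * v ^ 1 * g⁻¹ = v ^ 1 := by
    intro L _ _ P v hv hvP hvc hg g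
    simp only [pow_one] at hg ⊢
    have hvN : v ∈ Subgroup.normalizer (((W ↥(P : Subgroup L)).map (P : Subgroup L).subtype : Subgroup L) : Set L) := by
      apply mem_normalizer_of_conj_eq
      intro z hz
      have hzP : z ∈ (P : Subgroup L) := Subgroup.map_subtype_le _ hz
      rw [← hvc z hzP]
      group
    have hmem : v ∈ pCore p L ⊓ (Subgroup.center ↥(Subgroup.normalizer (((W ↥(P : Subgroup L)).map (P : Subgroup L).subtype : Subgroup L) : Set L))).map (Subgroup.normalizer (((W ↥(P : Subgroup L)).map (P : Subgroup L).subtype : Subgroup L) : Set L)).subtype := by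
      refine ⟨hv, ⟨v, hvN⟩, ?_, rfl⟩
      rw [SetLike.mem_coe, Subgroup.mem_center_iff]
      intro n
      apply Subtype.ext
      have h1 := hg n n.2
      show (n : L) * v = v * n
      calc (n : L) * v = (n * v * (n : L)⁻¹) * n := by group
        _ = v * n := by rw [h1]
    rw [← hC L P] at hmem
    have h2 := (Subgroup.mem_center_iff.1 hmem.2) g
    rw [h2]
    group
  have hfix : ∀ x ∈ N.center, ∀ (R : Subgroup Ω) (f : Ω → Ω), Maps F R f → x ∈ R → f x = x := by
    intro x hx R f hf hxR
    obtain ⟨h1, h2⟩ := of_mem_center hW2 hWZ hS hF hN hx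
    have h3 : ∀ γ ∈ F.autGroup ((W ↥S).map S.subtype), afn γ (x ^ 1) = x ^ 1 := by
      intro γ hγ
      rw [pow_one]
      exact h2 γ hγ
    have h4 := fixed_all hS hF hW2 hWZ h1 1 h3 hLocal R f hf x hxR
    rw [pow_one] at h4
    exact h4.2 rfl
  apply le_antisymm
  · refine le_sSup (isCentral_of_forall hF ?_ hfix)
    intro x hx
    exact (of_mem_center hW2 hWZ hS hF hN hx).1.1
  · refine sSup_le (fun Q hQ => le_sSup ?_)
    refine (Cfsg.Agent.Lib.FusionCore3.isCentral_iff_conjElt hNs).2 ⟨hQ.1.trans hSN, fun x hx y hy => ?_⟩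
    refine ((Cfsg.Agent.Lib.FusionCore3.isCentral_iff_conjElt hF).1 hQ).2 x hx y ?_
    obtain ⟨φ, hφ, rfl⟩ := hy
    rw [hN _] at hφ
    exact ⟨φ, hφ.1, rfl⟩
end Cfsg.Agent.S5196
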