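import Mathlib
import Cfsg.Statements.S5200
import Cfsg.Agent.Lib.AschOddFin

set_option autoImplicit false
set_option linter.style.haveILetI false
open Cfsg

namespace Cfsg.Agent.S5200

/-- Let F be a saturated fusion system over a finite p-group S and E a normal subsystem of F over T whose centralizer in S lies in T: every subgroup Y of C_S(T) such that E is contained in the centralizer fusion system of Y in F satisfies Y ≤ T. Then T·C_S(T)/T is abelian (the commutator subgroup of T·C_S(T) lies in T), and if p is odd then C_S(T) ≤ T. -/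
theorem result {Ω : Type*} [Group Ω] {S : Subgroup Ω} [Finite S] (p : ℕ) [Fact p.Prime] (hS : IsPGroup p S) (F : Cfsg.FusionSystem S) (hF : F.IsSaturated p) {T : Subgroup Ω} (E : Cfsg.FusionSystem T) (hE : E.IsNormalIn F p) (hCE : ∀ Y : Subgroup Ω, Y ≤ Cfsg.FusionSystem.centralizerIn S T → (∀ C : Cfsg.FusionSystem (Cfsg.FusionSystem.centralizerIn S Y), F.IsCentralizerSystem Y C → E.IsSubsystemOf C) → Y ≤ T) : ⁅T ⊔ Cfsg.FusionSystem.centralizerIn S T, T ⊔ Cfsg.FusionSystem.centralizerIn S T⁆ ≤ T ∧ (p ≠ 2 → Cfsg.FusionSystem.centralizerIn S T ≤ T) := by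
  have hEF := hE.1.2.2.1
  have hTS := hE.1.2.2.2.1.1
  have hCC : Cfsg.Agent.Lib.AschCore.CC F E ≤ T := by
    obtain ⟨h1, h2⟩ := (Cfsg.Agent.Lib.AschCore.fam_iff hEF hTS).1 (Cfsg.Agent.Lib.AschCore.CC_fam hS hF hE)
    refine hCE _ h1 (fun C hC P φ hφ => ?_)
    rw [hC P]
    exact h2 P hφ
  exact ⟨Cfsg.Agent.Lib.AschOdd.comm_le_of_CC hS hF hE hCC, fun hp2 => Cfsg.Agent.Lib.AschOdd.centralizer_le_of_odd hp2 hS hF hE hCC⟩

end Cfsg.Agent.S5200
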