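import Mathlib
import Cfsg.Statements.S5201
import Cfsg.Agent.Lib.FusionEnv4

set_option autoImplicit false
open Cfsg

namespace Cfsg.Agent.S5201

open Cfsg.FusionSystem Cfsg.Agent.Lib.FusionEnv Cfsg.Agent.Lib.FusionInvariant
open Cfsg.Agent.Lib.AschCore (CC CC_fam CC_le fam_iff focal_le_CC)

/-- A reduction to normal subsystems. Let F be a saturated fusion system over a finite p-group S and E a normal subsystem of F over T whose centralizer in S lies in T (every subgroup Y of C_S(T) with E contained in the centralizer fusion system of Y in F satisfies Y ≤ T), and suppose Aut_F(T)/Aut_E(T) is p-solvable. Then F and E have the same residual limit: if F∞ is the residual limit of F (reached by alternately passing to the p-residual and the p'-residual subsystem until nothing changes) and E∞ that of E, then F∞ and E∞ have the same maps. -/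
theorem result {Ω : Type*} [Group Ω] {S : Subgroup Ω} [Finite S] (p : ℕ) [Fact p.Prime] (hS : IsPGroup p S) (F : Cfsg.FusionSystem S) (hF : F.IsSaturated p) {T : Subgroup Ω} (E : Cfsg.FusionSystem T) (hE : E.IsNormalIn F p) (hCE : ∀ Y : Subgroup Ω, Y ≤ Cfsg.FusionSystem.centralizerIn S T → (∀ C : Cfsg.FusionSystem (Cfsg.FusionSystem.centralizerIn S Y), F.IsCentralizerSystem Y C → E.IsSubsystemOf C) → Y ≤ T) [hn : ((E.autGroup T).subgroupOf (F.autGroup T)).Normal] (hsolv : Cfsg.IsPSolvable p (↥(F.autGroup T) ⧸ (E.autGroup T).subgroupOf (F.autGroup T))) {U V : Subgroup Ω} (Finf : Cfsg.FusionSystem U) (hFinf : Finf.IsResidualLimitOf F p) (Einf : Cfsg.FusionSystem V) (hEinf : Einf.IsResidualLimitOf E p) : ∀ P : Subgroup Ω, Finf.Hom P = Einf.Hom P := by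
  obtain ⟨⟨hEs, -, hEi⟩, -⟩ := id hE
  obtain ⟨hEF, hst, hinv, hfr⟩ := isInvariantIn_iff.1 hEi
  have C : Cx F E p := ⟨hS, hF, hEs, hEF, hst, fun {P f} => hinv, fun {P f} => hfr⟩
  have hTS := hst.1
  have hCCT : CC F E ≤ T := hCE _ CC_le (fun C' hC' P φ hφ => by
    rw [hC' P]
    exact ((fam_iff hEF hTS).1 (CC_fam hS hF hE)).2 P hφ)
  have hfoc : ∀ D₀ : Cfsg.FusionSystem (centralizerIn S T), F.IsCentralizerSystem T D₀ → D₀.focalSubgroup ≤ T :=
    fun D₀ hD₀ => (focal_le_CC hS hF hE hD₀).trans hCCT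
  obtain ⟨F₀, h₀, he, hlim⟩ := main_ind C hsolv _ S F (env_top C) rfl
  have hi := pPower_of_terminal C hE hfoc h₀ he
  have hUS := Env.hUS C h₀
  have : Finite ↥(T ⊔ centralizerIn S T) := Cfsg.Agent.Lib.FusionCore.finite_of_le hUS
  obtain ⟨_, L₀, hL₀⟩ := Cfsg.Agent.Lib.FusionLimit.exists_limit' (Env.hUp C h₀) h₀.sat
  intro P
  rw [← hlim L₀ Finf hL₀ hFinf P]
  exact Cfsg.Agent.Lib.FusionLimit.limit_pPower (Env.hUp C h₀) h₀.sat (Env.hTU C h₀)
    (Cfsg.Agent.Lib.FusionLimit.normal_of_conj (Env.hTU C h₀) (fun _ hs _ hx => Env.hn C h₀ _ hs _ hx)) hEs hi hL₀ hEinf P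

end Cfsg.Agent.S5201
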