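import Mathlib
import Cfsg.Statements.S5202
import Cfsg.Agent.Lib.FusionEnv3

set_option autoImplicit false
open Cfsg

namespace Cfsg.Agent.S5202

open Cfsg.FusionSystem Cfsg.Agent.Lib.FusionEnv Cfsg.Agent.Lib.FusionInvariant

/-- Let F be a saturated fusion system over a finite p-group S and E a normal subsystem of F over T such that Aut_F(T)/Aut_E(T) is p-solvable. Then there is a normal subsystem F₀ of F over T·C_S(T) containing E, with Aut_{F₀}(T) = Aut_E(T), containing every residual limit of F, and whose residual limits have the same maps as those of F. -/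
theorem result {Ω : Type*} [Group Ω] {S : Subgroup Ω} [Finite S] (p : ℕ) [Fact p.Prime] (hS : IsPGroup p S) (F : Cfsg.FusionSystem S) (hF : F.IsSaturated p) {T : Subgroup Ω} (E : Cfsg.FusionSystem T) (hE : E.IsNormalIn F p) [hn : ((E.autGroup T).subgroupOf (F.autGroup T)).Normal] (hsolv : Cfsg.IsPSolvable p (↥(F.autGroup T) ⧸ (E.autGroup T).subgroupOf (F.autGroup T))) : ∃ F₀ : Cfsg.FusionSystem (T ⊔ Cfsg.FusionSystem.centralizerIn S T), F₀.IsNormalIn F p ∧ E.IsSubsystemOf F₀ ∧ F₀.autGroup T = E.autGroup T ∧ ∀ {U : Subgroup Ω} (Finf : Cfsg.FusionSystem U), Finf.IsResidualLimitOf F p → Finf.IsSubsystemOf F₀ ∧ ∀ {V : Subgroup Ω} (L : Cfsg.FusionSystem V), L.IsResidualLimitOf F₀ p → ∀ P : Subgroup Ω, L.Hom P = Finf.Hom P := by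
  obtain ⟨⟨hEs, -, hEi⟩, -⟩ := hE
  obtain ⟨hEF, hst, hinv, hfr⟩ := isInvariantIn_iff.1 hEi
  have C : Cx F E p := ⟨hS, hF, hEs, hEF, hst, fun {P f} => hinv, fun {P f} => hfr⟩
  obtain ⟨F₀, h₀, he, hlim⟩ := main_ind C hsolv _ S F (env_top C) rfl
  refine ⟨F₀, normal_of_env C h₀ (cent_le C h₀), h₀.hED, he, fun {U} Finf hFinf => ⟨fun P => ?_, fun {V} L hL P => hlim L Finf hL hFinf P⟩⟩
  have hTS := hst.1
  have hUS := Env.hUS C h₀
  haveI : Finite ↥(T ⊔ centralizerIn S T) := Cfsg.Agent.Lib.FusionCore.finite_of_le hUS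
  obtain ⟨_, L₀, hL₀⟩ := Cfsg.Agent.Lib.FusionLimit.exists_limit' (Env.hUp C h₀) h₀.sat
  rw [← hlim L₀ Finf hL₀ hFinf P]
  exact limit_le hL₀ P

end Cfsg.Agent.S5202
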