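import Mathlib
import Cfsg.Statements.S5235
import Cfsg.Agent.Lib.FusionMetaPure
import Cfsg.Agent.Lib.FusionMetaStab
import Cfsg.Agent.Lib.FusionNormal
import Cfsg.Agent.Lib.MetaTwo
import Cfsg.Agent.Lib.Frat
import Cfsg.Statements.S5235

set_option autoImplicit false
open Cfsg

namespace Cfsg.Agent.S5235

open Cfsg.FusionSystem Cfsg.Agent.Lib.FusionCore Cfsg.Agent.Lib.FusionCore2 Cfsg.Agent.Lib.FusionCore3 Cfsg.Agent.Lib.FusionMetaStab Cfsg.Agent.Lib.FusionMetaPure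

theorem le_of_essential {Ω : Type*} [Group Ω] {S : Subgroup Ω} [Finite S] [Fact (Nat.Prime 2)] (hS : IsPGroup 2 S)
    (F : Cfsg.FusionSystem S) (P : Subgroup Ω) (hP : F.StronglyClosed P)
    (hm : Cfsg.IsMetacyclic ↥P) (hd : ¬ ∃ m : ℕ, Nonempty (↥P ≃* DihedralGroup m))
    (hq : ¬ ∃ m : ℕ, Nonempty (↥P ≃* QuaternionGroup m)) (hsd : ¬ Cfsg.IsQuasiDihedral ↥P)
    (Q : Subgroup Ω) (hQ : F.IsEssential 2 Q) : P ≤ Q := by
  by_contra hPQ
  have hc : F.IsCentric Q := hQ.1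
  have hr := radical_of_essential hS hQ
  have hQS : Q ≤ S := hc.1
  have hPS : P ≤ S := hP.1
  have hPN : S ≤ Subgroup.normalizer (P : Set Ω) := StronglyClosed.normalizes hP
  haveI := finite_of_le hPS
  haveI := finite_of_le hQS
  obtain ⟨t, htP, htN, htQ⟩ :=
    Cfsg.Agent.Lib.FusionNormal.exists_mem_normalizer_not_mem hS hPS hQS (hQS.trans hPN) hPQ
  set R := P ⊓ Q with hRd
  have hRP : R ≤ P := inf_le_left
  have hRQ : R ≤ Q := inf_le_right
  haveI : Finite R := finite_of_le (hRP.trans hPS)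
  have hRinv : ∀ α ∈ F.autGroup Q, ∀ x ∈ R, afn α x ∈ R := by
    intro α hα x hx
    have hαm := Maps_of_mem_autGroup hQS hα
    exact ⟨StronglyClosed.maps hP inf_le_left (hαm.restrict hRQ) hx, afn_mem α (hRQ hx)⟩
  have hcommR : ∀ y ∈ P, y ∈ Subgroup.normalizer (Q : Set Ω) → ∀ x ∈ Q, x⁻¹ * (y * x * y⁻¹) ∈ R := by
    intro y hyP hyN x hx
    constructor
    · have h1 : x⁻¹ * y * x⁻¹⁻¹ ∈ P :=
        (Subgroup.mem_normalizer_iff.1 (hPN (S.inv_mem (hQS hx))) y).1 hyP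
      have e : x⁻¹ * (y * x * y⁻¹) = (x⁻¹ * y * x⁻¹⁻¹) * y⁻¹ := by group
      rw [e]
      exact P.mul_mem h1 (P.inv_mem hyP)
    · exact Q.mul_mem (Q.inv_mem hx) ((Subgroup.mem_normalizer_iff.1 hyN x).1 hx)
  have htS : t ∈ S := hPS htP
  have htNI : t ∈ normalizerIn S Q := ⟨htS, htN⟩
  have hA : ¬ IsPGroup 2 (MulAut R) := by
    intro hA
    apply htQ
    refine mem_of_stab (R := R) (B := R) hS hc hr hRQ le_rfl hRinv hRinv ?_ htNI (hcommR t htP htN)
      (fun x hx => hcommR t htP htN x (hRQ hx))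
    intro α hα _ _
    obtain ⟨τ, hτ⟩ := exists_resAut hRQ α (hRinv α hα)
    obtain ⟨k, hk⟩ := hA τ
    refine ⟨k, fun x hx => ?_⟩
    have := hτ (2 ^ k) ⟨x, hx⟩
    rw [hk] at this
    simpa using this.symm
  have hRm : Cfsg.IsMetacyclic ↥R :=
    metacyclic_of_injective (Subgroup.inclusion hRP) (Subgroup.inclusion_injective _) hm
  have hR2 : IsPGroup 2 R := hS.to_le (hRP.trans hPS)
  have hshape : HRType ↥R := by
    rcases Cfsg.Agent.Lib.MetaTwo.main hR2 hRm hA with ⟨⟨e⟩⟩ | ⟨n, ⟨e⟩⟩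
    · exact hrType_quat.of_equiv e.symm
    · exact (hrType_homo n).of_equiv e.symm
  set B : Subgroup Ω := (frattini R).map R.subtype with hBd
  have hBR : B ≤ R := by
    rintro _ ⟨x, _, rfl⟩
    exact x.2
  have hBinv : ∀ α ∈ F.autGroup Q, ∀ x ∈ B, afn α x ∈ B := by
    rintro α hα _ ⟨x, hx, rfl⟩
    obtain ⟨τ, hτ⟩ := exists_resAut hRQ α (hRinv α hα)
    have h1 := hτ 1 x
    rw [pow_one, pow_one] at h1
    refine ⟨τ x, ?_, h1⟩
    exact (Subgroup.characteristic_iff_le_comap.1 (frattini_characteristic (G := R))) τ hx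
  have hstarQ : ∀ y ∈ P, y ∈ Subgroup.normalizer (Q : Set Ω) → (∀ x ∈ R, x⁻¹ * (y * x * y⁻¹) ∈ B) → y ∈ Q := by
    intro y hyP hyN h
    refine mem_of_stab (R := R) (B := B) hS hc hr hRQ hBR hRinv hBinv ?_ ⟨hPS hyP, hyN⟩ (hcommR y hyP hyN) h
    intro α hα _ h2
    obtain ⟨τ, hτ⟩ := exists_resAut hRQ α (hRinv α hα)
    obtain ⟨k, hk⟩ := pow_of_trivial_frattini hR2 τ (fun q => by
      have h3 := h2 q q.2
      have h4 : ((τ q : R) : Ω) = afn α q := by simpa using hτ 1 q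
      obtain ⟨b, hb, hbe⟩ := h3
      have h5 : q⁻¹ * τ q = b := Subtype.ext (by
        rw [← h4] at hbe
        simpa using hbe.symm)
      have e : τ q * q⁻¹ = q * (q⁻¹ * τ q) * q⁻¹ := by group
      rw [e, h5]
      exact (inferInstance : (frattini R).Normal).conj_mem b hb q)
    refine ⟨k, fun x hx => ?_⟩
    have := hτ (2 ^ k) ⟨x, hx⟩
    rw [hk] at this
    simpa using this.symm
  obtain ⟨K, hKn, hKc, hQc⟩ := hm
  haveI := hKn
  have hP2 : IsPGroup 2 P := hS.to_le hPS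
  have hconcl : Cfsg.Agent.Lib.CycMax2.Concl ↥P := by
    refine pure_concl' hP2 K hKc hQc (R.subgroupOf P) ((Subgroup.normalizer (Q : Set Ω)).subgroupOf P)
      (B.subgroupOf P) ?_ ?_ ?_ ?_ ?_ (t := ⟨t, htP⟩) ?_ ?_ ?_
    · intro x hx
      exact Subgroup.mem_subgroupOf.2 (Subgroup.le_normalizer (hRQ (Subgroup.mem_subgroupOf.1 hx)))
    · intro y hy r hr
      exact Subgroup.mem_subgroupOf.2 ⟨(y * r * y⁻¹).2,
        (Subgroup.mem_normalizer_iff.1 (Subgroup.mem_subgroupOf.1 hy) r).1 (hRQ (Subgroup.mem_subgroupOf.1 hr))⟩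
    · intro x hx
      apply Subgroup.mem_subgroupOf.2
      have hx' : (x : Ω) ∈ R := Subgroup.mem_subgroupOf.1 hx
      refine ⟨⟨x, hx'⟩ * ⟨x, hx'⟩, ?_, rfl⟩
      have := Cfsg.Agent.Lib.Frat.pow_mem_frattini hR2 ⟨x, hx'⟩
      rwa [pow_two] at this
    · intro y hy b hb
      apply Subgroup.mem_subgroupOf.2
      have hbB : (b : Ω) ∈ B := Subgroup.mem_subgroupOf.1 hb
      let yb : normalizerIn S Q := ⟨y, hPS y.2, Subgroup.mem_subgroupOf.1 hy⟩
      have h1 := hBinv _ (conjA (F := F) hQS yb).2 b hbB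
      have h2 : afn ((conjA (F := F) hQS yb : F.autGroup Q) : MulAut Q) b = y * b * (y : Ω)⁻¹ :=
        afn_conjN yb (hRQ (hBR hbB))
      rw [h2] at h1
      exact h1
    · intro y hy h
      have hyQ := hstarQ y y.2 (Subgroup.mem_subgroupOf.1 hy) (fun x hx => by
        have h1 := h ⟨x⁻¹, hRP (R.inv_mem hx)⟩ (Subgroup.mem_subgroupOf.2 (R.inv_mem hx))
        have h2 := Subgroup.mem_subgroupOf.1 h1
        have e : x⁻¹ * ((y : Ω) * x * (y : Ω)⁻¹) =
            ((⟨x⁻¹, hRP (R.inv_mem hx)⟩ * y * (⟨x⁻¹, hRP (R.inv_mem hx)⟩ : P)⁻¹ * y⁻¹ : P) : Ω) := by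
          simp [mul_assoc]
        rw [e]
        exact h2)
      exact Subgroup.mem_subgroupOf.2 ⟨y.2, hyQ⟩
    · exact Subgroup.mem_subgroupOf.2 htN
    · intro h
      exact htQ (hRQ (Subgroup.mem_subgroupOf.1 h))
    · exact hshape.of_equiv (Subgroup.subgroupOfEquivOfLe hRP).symm
  rcases concl_contra hconcl with h | h | h
  · exact hd h
  · exact hq h
  · exact hsd h

/-- Let F be a saturated fusion system over a finite 2-group S (p = 2) and P a metacyclic subgroup of S strongly closed in F that is not dihedral, not semidihedral and not generalized quaternion (here the group of order 2, the Klein four-group and the cyclic group of order 4 also count as excluded). Then P is normal in F. -/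
theorem result {Ω : Type*} [Group Ω] {S : Subgroup Ω} [Finite S] (p : ℕ) [Fact p.Prime] (hS : IsPGroup p S) (F : Cfsg.FusionSystem S) (hF : F.IsSaturated p) (P : Subgroup Ω) (hP : F.StronglyClosed P) (hp : p = 2) (hm : Cfsg.IsMetacyclic ↥P) (hd : ¬ ∃ m : ℕ, Nonempty (↥P ≃* DihedralGroup m)) (hq : ¬ ∃ m : ℕ, Nonempty (↥P ≃* QuaternionGroup m)) (hsd : ¬ Cfsg.IsQuasiDihedral ↥P) : F.IsNormal P := by
  subst hp
  apply isNormal_of_AG hS hF
  intro Q hQ
  have hQS : Q ≤ S := by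
    rcases hQ with rfl | hQ
    · exact le_rfl
    · exact hQ.1.1
  have hPQ : P ≤ Q := by
    rcases hQ with rfl | hQ
    · exact hP.1
    · exact le_of_essential hS F P hP hm hd hq hsd Q hQ
  exact ⟨hPQ, fun α hα => StronglyClosed.img_eq hP hPQ (Maps_of_mem_autGroup hQS hα)⟩
end Cfsg.Agent.S5235
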