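import Mathlib
import Cfsg.Statements.S5212
import Cfsg.Agent.S5235
import Cfsg.Agent.Lib.FusionAbelianDecomp
import Cfsg.Agent.Lib.FusionAbEss
import Cfsg.Statements.S5212

set_option autoImplicit false
open Cfsg

namespace Cfsg.Agent.S5212

open Cfsg.FusionSystem Cfsg.Agent.Lib.FusionCore Cfsg.Agent.Lib.FusionCore2 Cfsg.Agent.Lib.FusionCore3

/-- Two copies of an additive group, as functions on `Fin 2`. -/
def prodEquivFin (A : Type*) [AddCommGroup A] : Multiplicative A × Multiplicative A ≃* Multiplicative (Fin 2 → A) where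
  toFun p := Multiplicative.ofAdd ![Multiplicative.toAdd p.1, Multiplicative.toAdd p.2]
  invFun f := (Multiplicative.ofAdd (Multiplicative.toAdd f 0), Multiplicative.ofAdd (Multiplicative.toAdd f 1))
  left_inv p := by
    rcases p with ⟨a, b⟩
    rfl
  right_inv f := by
    apply Multiplicative.toAdd.injective
    funext i
    fin_cases i <;> rfl
  map_mul' p q := by
    apply Multiplicative.toAdd.injective
    funext i
    fin_cases i <;> rfl

/-- Let S be a finite metacyclic 2-group that is not homocyclic abelian (a direct product of cyclic groups of one common order), not dihedral, not semidihedral and not generalized quaternion. Then every saturated fusion system over S is the inner fusion system of S. -/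
theorem result {Ω : Type*} [Group Ω] {S : Subgroup Ω} [Finite S] (hS : IsPGroup 2 S) (F : Cfsg.FusionSystem S) (hF : F.IsSaturated 2) (hm : Cfsg.IsMetacyclic ↥S) (hh : ¬ ∃ n k : ℕ, Nonempty (↥S ≃* Multiplicative (Fin k → ZMod (2 ^ n)))) (hd : ¬ ∃ m : ℕ, Nonempty (↥S ≃* DihedralGroup m)) (hq : ¬ ∃ m : ℕ, Nonempty (↥S ≃* QuaternionGroup m)) (hsd : ¬ Cfsg.IsQuasiDihedral ↥S) : ∀ P : Subgroup Ω, F.Hom P = (Cfsg.innerFusionSystem S).Hom P := by
  haveI : Fact (Nat.Prime 2) := ⟨Nat.prime_two⟩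
  have hN : F.IsNormal S := Cfsg.Agent.S5235.result 2 hS F hF S
    ⟨le_rfl, fun R _ φ hφ x => (F.le_of_mem hφ).2 x⟩ rfl hm hd hq hsd
  have hauto : IsPGroup 2 (MulAut S) := by
    by_contra hA
    rcases Cfsg.Agent.Lib.MetaTwo.main hS hm hA with ⟨⟨e⟩⟩ | ⟨n, ⟨e⟩⟩
    · exact hq ⟨2, ⟨e⟩⟩
    · exact hh ⟨n, 2, ⟨e.trans (prodEquivFin _)⟩⟩
  have hfa := Cfsg.Agent.Lib.FusionAbelianDecomp.fullyAutomized_top hF (F := F)
  have hK : IsPGroup 2 (F.autGroup S) := hauto.to_subgroup _
  have hInn : autInducedBy S S ≤ F.autGroup S := autInducedBy_le_autGroup le_rfl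
  have heq := Cfsg.Agent.Lib.FusionAbEss.eq_autS_of_pgroup hfa hK le_rfl hInn
  intro P
  ext φ
  constructor
  · intro hφ
    have hf := Maps.of_mem hφ
    have hPS := hf.le
    refine ⟨hPS, ?_⟩
    obtain ⟨-, hNn⟩ := isNormal_iff.1 hN
    obtain ⟨g, hg, h1, h2⟩ := hNn P _ hf
    have hsup : P ⊔ S = S := sup_eq_right.2 hPS
    rw [hsup] at hg
    have hαm : hg.toAut h2 ∈ F.autGroup S := hg.toAut_mem h2
    rw [heq, mem_autInducedBy] at hαm
    obtain ⟨k, hkS, hk⟩ := hαm
    refine ⟨k, hkS, fun x => ?_⟩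
    have h3 := hk x (hPS x.2)
    rw [hg.afn_toAut h2 (hPS x.2), h1 x x.2, fn_coe] at h3
    exact h3
  · rintro ⟨hPS, g, hgS, hg⟩
    exact (Maps.conj hPS hgS).mem_hom (fun x => hg x)
end Cfsg.Agent.S5212
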