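import Mathlib
import Cfsg.Agent.Lib.FusionZ2E4
import Cfsg.Agent.S1137
import Cfsg.Agent.S1138
import Cfsg.Statements.S5214

set_option autoImplicit false
open Cfsg

namespace Cfsg.Agent.S5214

open Cfsg.FusionSystem Cfsg.Agent.Lib.FusionCore Cfsg.Agent.Lib.FusionCore2 Cfsg.Agent.Lib.FusionCore3

/-- Let S be a Suzuki 2-group (a finite nonabelian 2-group with more than one involution admitting a cyclic group of automorphisms permuting its involutions regularly). Then S is normal in every saturated fusion system over S (such a group is resistant). -/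
theorem result {Ω : Type*} [Group Ω] {S : Subgroup Ω} [Finite S] (hS : IsPGroup 2 S) (F : Cfsg.FusionSystem S) (hF : F.IsSaturated 2) (hsz : Cfsg.IsSuzukiTwoGroup ↥S) : F.IsNormal S := by
  classical
  have hS1137 := Cfsg.Agent.S1137.result hsz
  have hS1138 := Cfsg.Agent.S1138.result hsz
  set Z : Subgroup Ω := centralizerIn S S with hZdef
  have memZ : ∀ {x : Ω}, x ∈ Z ↔ x ∈ S ∧ ∀ y ∈ S, y * x = x * y := mem_centralizerIn
  have hinv : ∀ x ∈ S, x ≠ 1 → x * x = 1 → x ∈ Z := by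
    intro x hx h1 h2
    have h3 : (⟨x, hx⟩ : S) ≠ 1 := fun h => h1 (congrArg Subtype.val h)
    have h4 : (⟨x, hx⟩ : S) * ⟨x, hx⟩ = 1 := Subtype.ext h2
    have h5 := ((hS1137.1 ⟨x, hx⟩).1 ⟨h3, h4⟩).1
    refine memZ.2 ⟨hx, fun y hy => ?_⟩
    have h6 := Subgroup.mem_center_iff.1 h5 ⟨y, hy⟩
    exact congrArg Subtype.val h6
  have hZ2 : ∀ z ∈ Z, z * z = 1 := by
    intro z hz
    have h1 : (⟨z, (memZ.1 hz).1⟩ : S) ∈ Subgroup.center S :=
      Subgroup.mem_center_iff.2 fun y => Subtype.ext ((memZ.1 hz).2 y y.2)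
    exact congrArg Subtype.val (hS1137.2 _ h1)
  have hcomm : ∀ x ∈ S, ∀ y ∈ S, x⁻¹ * y⁻¹ * x * y ∈ Z := by
    intro x hx y hy
    have h1 := hS1138.2.1 ⟨x, hx⟩ ⟨y, hy⟩
    refine memZ.2 ⟨S.mul_mem (S.mul_mem (S.mul_mem (S.inv_mem hx) (S.inv_mem hy)) hx) hy, fun w hw => ?_⟩
    have h6 := Subgroup.mem_center_iff.1 h1 ⟨w, hw⟩
    exact congrArg Subtype.val h6
  apply isNormal_of_AG hS hF
  rintro P (rfl | hP)
  · exact ⟨le_rfl, fun α _ => afn_img α⟩
  by_cases hne : P = S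
  · subst hne
    exact ⟨le_rfl, fun α _ => afn_img α⟩
  exfalso
  have hc := hP.1
  have hr := radical_of_essential hS hP
  have hPS := hc.1
  haveI := finite_mulAut hPS
  have hZP : Z ≤ P := by
    intro z hz
    apply IsCentric_self hc
    exact mem_centralizerIn.2 ⟨(memZ.1 hz).1, fun y hy => ((memZ.1 hz).2 y (hPS hy))⟩
  have hZS : Z ≤ S := hZP.trans hPS
  have hKinv : ∀ γ : MulAut P, ∀ z ∈ Z, afn γ z ∈ Z := by
    intro γ z hz
    by_cases h1 : z = 1
    · rw [h1, Cfsg.Agent.Lib.FusionZ2E.afn_map_one]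
      exact Z.one_mem
    have hzP := hZP hz
    apply hinv _ (hPS (afn_mem γ hzP))
    · intro h2
      apply h1
      have h3 : afn γ z = afn γ 1 := by rw [h2, Cfsg.Agent.Lib.FusionZ2E.afn_map_one]
      exact Cfsg.Agent.Lib.FusionZ2E.afn_inj γ hzP P.one_mem h3
    · rw [← Cfsg.Agent.Lib.FusionZ2E.afn_map_mul γ hzP hzP, hZ2 z hz, Cfsg.Agent.Lib.FusionZ2E.afn_map_one]
  have hPlt : P < S := lt_of_le_of_ne hPS hne
  obtain ⟨t, ht1, ht2⟩ := SetLike.exists_of_lt (Cfsg.Agent.Lib.FusionAlperin.lt_normalizerIn hS hPlt)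
  let A := F.autGroup P
  let D : Subgroup A :=
    { carrier := {α | (∀ z ∈ Z, afn (α : MulAut P) z = z) ∧ ∀ e ∈ P, e⁻¹ * afn (α : MulAut P) e ∈ Z}
      mul_mem' := by
        rintro α β ⟨h1, h2⟩ ⟨h3, h4⟩
        refine ⟨fun z hz => ?_, fun e he => ?_⟩
        · show afn ((α : MulAut P) * (β : MulAut P)) z = z
          rw [afn_mul _ _ (hZP hz), h3 z hz, h1 z hz]
        · show e⁻¹ * afn ((α : MulAut P) * (β : MulAut P)) e ∈ Z
          rw [afn_mul _ _ he]
          have e1 : e⁻¹ * afn (α : MulAut P) (afn (β : MulAut P) e)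
              = (e⁻¹ * afn (β : MulAut P) e) * ((afn (β : MulAut P) e)⁻¹ * afn (α : MulAut P) (afn (β : MulAut P) e)) := by
            group
          rw [e1]
          exact Z.mul_mem (h4 e he) (h2 _ (afn_mem _ he))
      one_mem' := by
        refine ⟨fun z hz => afn_one (hZP hz), fun e he => ?_⟩
        show e⁻¹ * afn (1 : MulAut P) e ∈ Z
        rw [afn_one he]
        simp [Z.one_mem]
      inv_mem' := by
        rintro α ⟨h1, h2⟩
        refine ⟨fun z hz => ?_, fun e he => ?_⟩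
        · show afn (α : MulAut P)⁻¹ z = z
          conv_lhs => rw [← h1 z hz]
          exact afn_inv_afn _ (hZP hz)
        · show e⁻¹ * afn (α : MulAut P)⁻¹ e ∈ Z
          have h3 := Z.inv_mem (h2 _ (afn_mem (α : MulAut P)⁻¹ he))
          rw [afn_afn_inv _ he] at h3
          have e1 : ((afn (α : MulAut P)⁻¹ e)⁻¹ * e)⁻¹ = e⁻¹ * afn (α : MulAut P)⁻¹ e := by group
          rwa [e1] at h3 }
  have hDn : D.Normal := by
    constructor
    rintro α ⟨h1, h2⟩ γ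
    refine ⟨fun z hz => ?_, fun e he => ?_⟩
    · show afn ((γ : MulAut P) * (α : MulAut P) * (γ : MulAut P)⁻¹) z = z
      have h3 := hKinv (γ : MulAut P)⁻¹ z hz
      rw [afn_mul _ _ (hZP hz), afn_mul _ _ (afn_mem _ (hZP hz)), h1 _ h3, afn_afn_inv _ (hZP hz)]
    · show e⁻¹ * afn ((γ : MulAut P) * (α : MulAut P) * (γ : MulAut P)⁻¹) e ∈ Z
      have he₁ : afn (γ : MulAut P)⁻¹ e ∈ P := afn_mem _ he
      rw [afn_mul _ _ he, afn_mul _ _ he₁]
      set e₁ := afn (γ : MulAut P)⁻¹ e with he₁def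
      have h3 := h2 e₁ he₁
      have h4 : afn (α : MulAut P) e₁ = e₁ * (e₁⁻¹ * afn (α : MulAut P) e₁) := by group
      rw [h4, Cfsg.Agent.Lib.FusionZ2E.afn_map_mul _ he₁ (hZP h3), he₁def, afn_afn_inv _ he, inv_mul_cancel_left]
      exact hKinv _ _ h3
  have hDp : IsPGroup 2 D := by
    rintro ⟨α, h1, h2⟩
    have h3 := isPGroup_zpowers_of_stab hS hPS (β := (α : MulAut P)) hZP h1 h2
    obtain ⟨k, hk⟩ := h3 ⟨(α : MulAut P), Subgroup.mem_zpowers _⟩
    have hk' : (α : MulAut P) ^ (2 ^ k) = 1 := congrArg Subtype.val hk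
    refine ⟨k, Subtype.ext (Subtype.ext hk')⟩
  have hDle : D ≤ Cfsg.pCore 2 A := Cfsg.Agent.Lib.PCore.le_pCore hDn hDp
  let tb : normalizerIn S P := ⟨t, ht1⟩
  have hmem : conjA (F := F) hPS tb ∈ D := by
    refine ⟨fun z hz => ?_, fun e he => ?_⟩
    · show afn (conjN S P tb) z = z
      rw [afn_conjN _ (hZP hz), (memZ.1 hz).2 _ ht1.1]
      simp [tb]
    · show e⁻¹ * afn (conjN S P tb) e ∈ Z
      rw [afn_conjN _ he]
      have h1 := hcomm e (hPS he) t⁻¹ (S.inv_mem ht1.1)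
      have e1 : e⁻¹ * (t⁻¹)⁻¹ * e * t⁻¹ = e⁻¹ * (t * e * t⁻¹) := by group
      rw [e1] at h1
      exact h1
  have h3 := hDle hmem
  have h4 : (conjA (F := F) hPS tb : MulAut P) ∈ Cfsg.Inn P := by
    rw [← hr.2]
    exact ⟨_, h3, rfl⟩
  exact ht2 ((conjA_mem_innA_iff hc tb).1 (Subgroup.mem_subgroupOf.2 h4))

end Cfsg.Agent.S5214
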