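import Mathlib
import Cfsg.Agent.Lib.FusionAgemoJ
import Cfsg.Statements.S5220

set_option autoImplicit false
open Cfsg

namespace Cfsg.Agent.S5220

open Cfsg.FusionSystem Cfsg.Agent.Lib.FusionCore Cfsg.Agent.Lib.FusionCentralElt Cfsg.Agent.Lib.FusionJLocal Cfsg.Agent.Lib.FusionAgemoJ

/-- Let F be a saturated fusion system over a nontrivial finite p-group S, let J(S) be the subgroup generated by the abelian subgroups of S of largest order, and let V be the subgroup generated by the p-th powers of the elements of Z(S). Then F is generated by the centralizer fusion system of V and the normalizer fusion system of J(S): every fusion system over S containing the maps of both contains every map of F. -/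
theorem result {Ω : Type*} [Group Ω] {S : Subgroup Ω} [Finite S] (p : ℕ) [Fact p.Prime] (hS : IsPGroup p S) (F : Cfsg.FusionSystem S) (hF : F.IsSaturated p) (hS1 : S ≠ ⊥) (C : Cfsg.FusionSystem (Cfsg.FusionSystem.centralizerIn S (Cfsg.powerClosure p 1 (S ⊓ Subgroup.centralizer (S : Set Ω))))) (hC : F.IsCentralizerSystem (Cfsg.powerClosure p 1 (S ⊓ Subgroup.centralizer (S : Set Ω))) C) (N : Cfsg.FusionSystem (Cfsg.FusionSystem.normalizerIn S (Cfsg.thompsonSubgroupAOf S))) (hN : F.IsNormalizerSystem (Cfsg.thompsonSubgroupAOf S) N) (E : Cfsg.FusionSystem S) (hCE : C.IsSubsystemOf E) (hNE : N.IsSubsystemOf E) : F.IsSubsystemOf E := by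
  have hW2 := Cfsg.Agent.S5193.hW2' (p := p)
  change F.IsNormalizerSystem (JJ S) N at hN
  have hSN : S ≤ normalizerIn S (JJ S) :=
    S_le_norm (W := fun (Q : Type _) [Group Q] => thompsonSubgroupA Q) hW2 hS
  have hcent : ∀ x ∈ S, x ∈ centralizerIn S (VV S p) := by
    intro x hx
    refine mem_centralizerIn.2 ⟨hx, fun v hv => ?_⟩
    exact (Subgroup.mem_centralizer_iff.1 (VV_le hv).2 x hx).symm
  have h := main hS hF E (fun R f hm hfix => ?_) (fun R f hm hi => ?_)
  · exact fun P => h P
  · have hm' : Maps F R f := hm.restrict le_sup_left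
    have hφ : hm'.hom ∈ C.Hom R := by
      rw [hC R]
      refine ⟨hm'.hom_mem, fun x hx => hcent x (hm'.le hx), fun x => ?_, hm.hom, hm.hom_mem, fun x => ?_, fun x => ?_⟩
      · rw [hm'.hom_apply]
        exact hcent _ (hm'.mem x.2)
      · rw [hm.hom_apply, hm'.hom_apply]
        rfl
      · rw [hm.hom_apply]
        exact hfix x x.2
    exact ⟨hm'.hom, hCE R hφ, hm'.hom_apply⟩
  · have hm' : Maps F R f := hm.restrict le_sup_left
    have h1 : Maps N R f := (Cfsg.Agent.Lib.FusionGT.maps_norm_iff hN).2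
      ⟨hm', fun x hx => hSN (hm'.le hx), fun x hx => hSN (hm'.mem hx), f, hm, fun _ _ => rfl, hi⟩
    obtain ⟨φ, hφ, hf⟩ := h1
    exact ⟨φ, hNE R hφ, hf⟩

end Cfsg.Agent.S5220
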