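import Mathlib
import Cfsg.Agent.Lib.FusionCentSec
import Cfsg.Statements.S5221

set_option autoImplicit false
open Cfsg

namespace Cfsg.Agent.S5221

open Cfsg.FusionSystem Cfsg.Agent.Lib.FusionCore Cfsg.Agent.Lib.FusionCore3 Cfsg.Agent.Lib.FusionGT
open Cfsg.Agent.Lib.FusionSparse Cfsg.Agent.Lib.FusionCentSec

/-- A characteristic subgroup of a normalized subgroup is normalized. -/
lemma normalizes_of_char {Ω : Type*} [Group Ω] {C Q : Subgroup Ω} (hQC : Q ≤ C)
    (hchar : (Q.subgroupOf C).Characteristic) {s : Ω} (hs : s ∈ Subgroup.normalizer (C : Set Ω)) :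
    s ∈ Subgroup.normalizer (Q : Set Ω) := by
  have hmemC : ∀ t ∈ Subgroup.normalizer (C : Set Ω), ∀ x ∈ C, t * x * t⁻¹ ∈ C := fun t ht x hx =>
    (Subgroup.mem_normalizer_iff.1 ht x).1 hx
  let ϕ : C →* C := ((MulAut.conj s).toMonoidHom.comp C.subtype).codRestrict C (fun x => hmemC s hs x x.2)
  let ϕ' : C →* C := ((MulAut.conj s⁻¹).toMonoidHom.comp C.subtype).codRestrict C
    (fun x => hmemC s⁻¹ (Subgroup.inv_mem _ hs) x x.2)
  have h1 : ϕ.comp ϕ' = MonoidHom.id C := by
    ext x
    show s * (s⁻¹ * (x : Ω) * s⁻¹⁻¹) * s⁻¹ = x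
    group
  have h2 : ϕ'.comp ϕ = MonoidHom.id C := by
    ext x
    show s⁻¹ * (s * (x : Ω) * s⁻¹) * s⁻¹⁻¹ = x
    group
  let e : C ≃* C := MonoidHom.toMulEquiv ϕ ϕ' h2 h1
  have hfix : (Q.subgroupOf C).comap e.toMonoidHom = Q.subgroupOf C := hchar.fixed e
  refine Subgroup.mem_normalizer_iff.2 fun x => ?_
  constructor
  · intro hx
    have h3 : (⟨x, hQC hx⟩ : C) ∈ (Q.subgroupOf C).comap e.toMonoidHom := by
      rw [hfix]
      exact Subgroup.mem_subgroupOf.2 hx
    exact h3
  · intro hx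
    have hxC : s * x * s⁻¹ ∈ C := hQC hx
    have hxC' : x ∈ C := (Subgroup.mem_normalizer_iff.1 hs x).2 hxC
    have h3 : (⟨x, hxC'⟩ : C) ∈ (Q.subgroupOf C).comap e.toMonoidHom := hx
    rw [hfix] at h3
    exact h3


/-- Let F be a sparse fusion system over a finite p-group S: a saturated fusion system, not the inner fusion system of S, whose only saturated fusion systems over S contained in it are F itself and the inner one. If p is odd, or F is S₄-free (the symmetric group of degree 4 is not involved in any model of the normalizer system of a fully normalized F-centric subgroup), then F is constrained. -/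
theorem result {Ω : Type*} [Group Ω] {S : Subgroup Ω} [Finite S] (p : ℕ) [Fact p.Prime] (hS : IsPGroup p S) (F : Cfsg.FusionSystem S) (hF : F.IsSaturated p) (hsp : ¬ (∀ P : Subgroup Ω, F.Hom P = (Cfsg.innerFusionSystem S).Hom P) ∧ ∀ E : Cfsg.FusionSystem S, E.IsSaturated p → E.IsSubsystemOf F → (∀ P : Subgroup Ω, E.Hom P = F.Hom P) ∨ (∀ P : Subgroup Ω, E.Hom P = (Cfsg.innerFusionSystem S).Hom P)) (hp : p ≠ 2 ∨ F.IsSectionFree p (Equiv.Perm (Fin 4))) : F.IsConstrained p := by
  obtain ⟨hne, hdich⟩ := hsp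
  have hRN : F.IsNormal F.core := Cfsg.Agent.S5145.result F
  obtain ⟨R, hR⟩ : ∃ R, R = F.core := ⟨_, rfl⟩
  rw [← hR] at hRN
  have hRS : R ≤ S := hRN.1
  have hRn : F.IsFullyNormalized R := ⟨hRS, fun Q' hQ' => by rw [conj_eq_of_isNormal hRN hQ']⟩
  obtain ⟨hfc, hfa⟩ := of_fullyNormalized hS hF hRn
  obtain ⟨D, hD⟩ := exists_centralizerSystem (F := F) hRS
  have hDs : D.IsSaturated p := Cfsg.Agent.Lib.FusionSatNorm.saturated_centralizer hS hF hfc hD
  have hCS : centralizerIn S R ≤ S := inf_le_left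
  haveI : Finite ↥(centralizerIn S R) := finite_of_le hCS
  have hC : IsPGroup p ↥(centralizerIn S R) := hS.to_le hCS
  have hpD : p ≠ 2 ∨ D.IsSectionFree p (Equiv.Perm (Fin 4)) := by
    rcases hp with h | h
    · exact Or.inl h
    · exact Or.inr (isSectionFree_cent hS hF hRN hD hDs h)
  have hCsc := stronglyClosed_cent hRN
  have hSNC : S ≤ Subgroup.normalizer (centralizerIn S R : Set Ω) := StronglyClosed.normalizes hCsc
  have hin : ∀ P, D.Hom P = (Cfsg.innerFusionSystem (centralizerIn S R)).Hom P := by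
    refine Cfsg.Agent.S5195.result p hC D hDs hpD (fun Q hQC hQne hQchar => ?_)
    have hQS : Q ≤ S := hQC.trans hCS
    have hSN : S ≤ Subgroup.normalizer (Q : Set Ω) := fun s hs => normalizes_of_char hQC hQchar (hSNC hs)
    have heq : normalizerIn S Q = S := le_antisymm inf_le_left (le_inf le_rfl hSN)
    have hQfn : F.IsFullyNormalized Q := ⟨hQS, fun Q' hQ' => by
      rw [heq]
      exact Subgroup.card_le_of_le inf_le_left⟩
    obtain ⟨N, hN⟩ := exists_normalizerSystem (F := F) hQS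
    have hNs := Cfsg.Agent.Lib.FusionSatNorm.saturated_normalizer hS hF hQfn hN
    obtain ⟨E, hEN, hEs⟩ := exists_system_of_eq heq N p hNs
    have hEsub : E.IsSubsystemOf F := fun P φ hφ => by
      rw [hEN P, hN P] at hφ
      exact hφ.1
    rcases hdich E hEs hEsub with hEF | hEin
    · have hQN : F.IsNormal Q := by
        refine isNormal_iff.2 ⟨hQS, fun P f hf => ?_⟩
        have hm : Maps N P f := by
          obtain ⟨φ, hφ, hfφ⟩ := hf
          exact ⟨φ, by rw [← hEN P, hEF P]; exact hφ, hfφ⟩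
        exact ((maps_norm_iff hN).1 hm).2.2.2
      have hQR : Q ≤ R := by
        rw [hR]
        exact le_sSup hQN
      rintro ⟨α, hα⟩
      have hm := Maps_of_mem_autGroup hQC hα
      obtain ⟨hmF, -, -, g, hg, h1, h2⟩ := (maps_cent_iff hD).1 hm
      have hα1 : α = 1 := afn_ext fun x hx => by rw [afn_one hx, ← h1 x hx, h2 x (hQR hx)]
      subst hα1
      exact ⟨0, by simp⟩
    · have hle : D.autGroup Q ≤ autInducedBy S Q := by
        intro α hα
        have hm := Maps_of_mem_autGroup hQC hα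
        obtain ⟨hmF, -, -, -⟩ := (maps_cent_iff hD).1 hm
        have hNm : Maps N Q (afn α) := (maps_norm_iff hN).2 ⟨hmF, by rw [heq]; exact hQS,
          fun x hx => by rw [heq]; exact hQS (afn_mem α hx), afn α, by rwa [sup_idem], fun _ _ => rfl, afn_img α⟩
        obtain ⟨φ, hφ, hfφ⟩ := hNm
        rw [← hEN Q, hEin Q] at hφ
        obtain ⟨-, s, hs, hsφ⟩ := hφ
        exact mem_autInducedBy.2 ⟨s, hs, fun x hx => by rw [← hfφ ⟨x, hx⟩, hsφ]⟩
      exact IsPGroup.to_le (isPGroup_autInducedBy hS) hle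
  have hCR := cent_le_core_of_inner hS hF hRN hD hin
  rw [← hR] at hCR
  exact ⟨hF, R, hRN, hRS, fun Q hQ => by rw [conj_eq_of_isNormal hRN hQ]; exact hCR⟩

end Cfsg.Agent.S5221
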