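import Mathlib
import Cfsg.Agent.Lib.FusionTateQ2
import Cfsg.Statements.S5222

set_option autoImplicit false
open Cfsg

namespace Cfsg.Agent.S5222

open Cfsg.FusionSystem Cfsg.Agent.Lib.FusionCore Cfsg.Agent.Lib.FusionGT
open scoped commutatorElement

theorem aux {Ω : Type*} [Group Ω] {T S Q : Subgroup Ω} (h : T = S) (hc : (commutator S).map S.subtype ≤ Q)
    (hf : Q ≤ (frattini S).map S.subtype) :
    (commutator T).map T.subtype ≤ Q ∧ Q ≤ (frattini T).map T.subtype := by
  subst h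
  exact ⟨hc, hf⟩


/-- Let F be a saturated fusion system over a finite p-group S whose normalizer fusion system of S is the inner fusion system of S (Aut_F(S) is a p-group). Then for every subgroup Q of S with [S, S] ≤ Q ≤ Φ(S), the normalizer fusion system of Q in F is the inner fusion system of N_S(Q) = S. -/
theorem result {Ω : Type*} [Group Ω] {S : Subgroup Ω} [Finite S] (p : ℕ) [Fact p.Prime] (hS : IsPGroup p S) (F : Cfsg.FusionSystem S) (hF : F.IsSaturated p) (hN : ∀ N : Cfsg.FusionSystem (Cfsg.FusionSystem.normalizerIn S S), F.IsNormalizerSystem S N → ∀ P : Subgroup Ω, N.Hom P = (Cfsg.innerFusionSystem (Cfsg.FusionSystem.normalizerIn S S)).Hom P) (Q : Subgroup Ω) (h1 : (commutator ↥S).map S.subtype ≤ Q) (h2 : Q ≤ (frattini ↥S).map S.subtype) : ∀ N : Cfsg.FusionSystem (Cfsg.FusionSystem.normalizerIn S Q), F.IsNormalizerSystem Q N → ∀ P : Subgroup Ω, N.Hom P = (Cfsg.innerFusionSystem (Cfsg.FusionSystem.normalizerIn S Q)).Hom P := by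
  intro E hE P
  have hQS : Q ≤ S := h2.trans (Subgroup.map_subtype_le _)
  -- `S` normalizes `Q`
  have hcm : ∀ x ∈ S, ∀ t ∈ S, x⁻¹ * (t * x * t⁻¹) ∈ Q := by
    intro x hx t ht
    apply h1
    refine ⟨⁅(⟨x, hx⟩ : S)⁻¹, (⟨t, ht⟩ : S)⁆, Subgroup.commutator_mem_commutator (Subgroup.mem_top _) (Subgroup.mem_top _), ?_⟩
    simp [commutatorElement_def, mul_assoc]
  have hSN : S ≤ Subgroup.normalizer (Q : Set Ω) := by
    intro t ht
    haveI : Finite Q := finite_of_le hQS
    refine mem_normalizer_of_conj_mem (fun x hx => ?_)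
    have h3 := Q.mul_mem hx (hcm x (hQS hx) t ht)
    simpa using h3
  have hT : normalizerIn S Q = S := le_antisymm inf_le_left (fun x hx => ⟨hx, hSN hx⟩)
  have hfn : F.IsFullyNormalized Q := by
    refine ⟨hQS, fun Q' _ => ?_⟩
    rw [hT]
    haveI : Finite (normalizerIn S Q') := finite_of_le inf_le_left
    exact Subgroup.card_le_of_le inf_le_left
  have hEs : E.IsSaturated p := Cfsg.Agent.Lib.FusionSatNorm.saturated_normalizer hS hF hfn hE
  have hEN : E.IsNormal Q := Cfsg.Agent.Lib.FusionGT.isNormal_normalizerSystem hQS hE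
  obtain ⟨hc', hf'⟩ := aux hT h1 h2
  haveI : Finite (normalizerIn S Q) := finite_of_le inf_le_left
  have hTp : IsPGroup p (normalizerIn S Q) := hS.to_le inf_le_left
  refine Cfsg.Agent.Lib.FusionTateQ.inner_of_frattini hTp hEs hEN hc' hf' (fun f hm => ?_) P
  obtain ⟨hmF, -, -, -⟩ := (maps_norm_iff hE).1 hm
  have hgen : ∀ U : Subgroup Ω, U = S → Maps F U f → Maps F S f := fun U hU h => hU ▸ h
  have hmS : Maps F S f := hgen _ hT hmF
  obtain ⟨N₀, hN₀⟩ := exists_normalizerSystem (F := F) (le_refl S)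
  have hin := hN N₀ hN₀
  have hvS : ∀ x ∈ S, f x ∈ S := fun x hx => hmS.mem hx
  have himg : img f S = S := img_eq_of_card hmS le_rfl le_rfl hvS le_rfl
  have hSS : S ≤ normalizerIn S S := le_normalizerIn le_rfl
  have hm₀ : Maps N₀ S f := by
    refine (maps_norm_iff hN₀).2 ⟨hmS, hSS, fun x hx => hSS (hvS x hx), ?_⟩
    have hsup : S ⊔ S = S := sup_idem S
    have hm' : Maps F (S ⊔ S) f := by
      rw [hsup]
      exact hmS
    exact ⟨f, hm', fun _ _ => rfl, himg⟩
  obtain ⟨φ, hφ, hfφ⟩ := hm₀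
  rw [hin] at hφ
  obtain ⟨-, s, hs, hsφ⟩ := hφ
  refine ⟨s, ?_, fun x hx => ?_⟩
  · rw [hT]
    exact hs.1
  · have hxS : x ∈ S := hT ▸ hx
    rw [← hfφ ⟨x, hxS⟩, ← hsφ ⟨x, hxS⟩]

end Cfsg.Agent.S5222
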