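import Mathlib
import Cfsg.Agent.Lib.FusionGenExtra
import Cfsg.Statements.S5233

set_option autoImplicit false
open Cfsg

namespace Cfsg.Agent.S5233

open Cfsg.FusionSystem Cfsg.Agent.Lib.FusionCore
open scoped commutatorElement



/-- Let F be a saturated fusion system over a finite p-group S and P a subgroup of S strongly closed in F that is generalized extraspecial (its Frattini subgroup equals its commutator subgroup and has order p) and not isomorphic to E × A with A elementary abelian and E dihedral of order 8 (p = 2) or extraspecial of order p³ and exponent p (p odd). Then P is normal in F. -/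
theorem result {Ω : Type*} [Group Ω] {S : Subgroup Ω} [Finite S] (p : ℕ) [Fact p.Prime] (hS : IsPGroup p S) (F : Cfsg.FusionSystem S) (hF : F.IsSaturated p) (P : Subgroup Ω) (hP : F.StronglyClosed P) (hge : frattini ↥P = commutator ↥P ∧ Nat.card ↥(commutator ↥P) = p) (h2 : p = 2 → ¬ ∃ (A : Type) (_ : CommGroup A), (∀ a : A, a ^ 2 = 1) ∧ Nonempty (↥P ≃* DihedralGroup 4 × A)) (hodd : p ≠ 2 → ¬ ∃ (E : Type) (_ : Group E) (A : Type) (_ : CommGroup A), Cfsg.IsExtraspecial p E ∧ Nat.card E = p ^ 3 ∧ Monoid.exponent E = p ∧ (∀ a : A, a ^ p = 1) ∧ Nonempty (↥P ≃* E × A)) : F.IsNormal P := by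
  classical
  have hpp := (inferInstance : Fact p.Prime).out
  have hPS : P ≤ S := hP.1
  haveI hfP : Finite P := Cfsg.Agent.Lib.FusionCore.finite_of_le hPS
  have hPp : IsPGroup p P := IsPGroup.to_le hS hPS
  obtain ⟨hfrat, hcardc⟩ := hge
  let Z : Subgroup Ω := (commutator ↥P).map P.subtype
  have hZP : Z ≤ P := by
    rintro _ ⟨x, -, rfl⟩
    exact x.2
  have hZS : Z ≤ S := hZP.trans hPS
  have hZmem : ∀ x : P, (x : Ω) ∈ Z ↔ x ∈ commutator ↥P := by
    intro x
    constructor
    · rintro ⟨y, hy, hyx⟩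
      have : y = x := Subtype.ext hyx
      rwa [← this]
    · intro hx
      exact ⟨x, hx, rfl⟩
  have hcardZ : Nat.card Z = p := by
    rw [← hcardc]
    exact Nat.card_congr ((commutator ↥P).equivMapOfInjective P.subtype P.subtype_injective).symm.toEquiv
  haveI hfZ : Finite Z := Cfsg.Agent.Lib.FusionCore.finite_of_le hZS
  have hF1 : ∀ x ∈ P, ∀ y ∈ P, ⁅x, y⁆ ∈ Z := by
    intro x hx y hy
    exact ⟨⁅(⟨x, hx⟩ : P), (⟨y, hy⟩ : P)⁆, Subgroup.commutator_mem_commutator (Subgroup.mem_top _) (Subgroup.mem_top _), rfl⟩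
  have hF2 : ∀ x ∈ P, x ^ p ∈ Z := by
    intro x hx
    have h1 := Cfsg.Agent.Lib.Frat.pow_mem_frattini hPp (⟨x, hx⟩ : P)
    rw [hfrat] at h1
    exact ⟨_, h1, rfl⟩
  have hZexp : ∀ x ∈ Z, x ^ p = 1 := by
    intro x hx
    have h1 : (⟨x, hx⟩ : Z) ^ Nat.card Z = 1 := pow_card_eq_one'
    rw [hcardZ] at h1
    exact congrArg Subtype.val h1
  have hZeq : ∀ w ∈ Z, w ≠ 1 → Subgroup.zpowers w = Z := by
    intro w hw hw1
    apply Subgroup.eq_of_le_of_card_ge (Subgroup.zpowers_le.mpr hw)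
    rw [Nat.card_zpowers, orderOf_eq_prime (hZexp w hw) hw1, hcardZ]
  -- `Z` is central in `S`
  have hconjZ : ∀ g ∈ S, ∀ x ∈ Z, g * x * g⁻¹ ∈ Z := by
    intro g hg x hx
    have hxP : x ∈ P := hZP hx
    have hgN : g ∈ Subgroup.normalizer (P : Set Ω) := by
      apply mem_normalizer_of_conj_mem
      intro y hy
      exact hP.2 P le_rfl (conjHom P g) (F.conj_mem hPS hg) ⟨y, hy⟩
    let α : MulAut P := conjN S P ⟨g, hg, hgN⟩
    have hα : ∀ y : P, ((α y : P) : Ω) = g * y * g⁻¹ := by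
      intro y
      have := afn_conjN (K := S) (P := P) ⟨g, hg, hgN⟩ y.2
      rw [afn_coe] at this
      exact this
    have h1 : (⟨x, hxP⟩ : P) ∈ commutator ↥P := (hZmem _).mp hx
    have h2 : α ⟨x, hxP⟩ ∈ commutator ↥P := by
      have h3 := (inferInstance : (commutator ↥P).Characteristic).fixed α
      rw [← h3] at h1
      exact h1
    rw [← hα ⟨x, hxP⟩]
    exact (hZmem _).mpr h2
  have hZc : ∀ x ∈ Z, ∀ g ∈ S, g * x * g⁻¹ = x := by
    letI act : MulAction S Z :=
      { smul := fun s v => ⟨s * v * (s : Ω)⁻¹, hconjZ s s.2 v v.2⟩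
        one_smul := fun v => Subtype.ext (by
          show ((1 : S) : Ω) * v * ((1 : S) : Ω)⁻¹ = v
          simp)
        mul_smul := fun a b v => Subtype.ext (by
          show ((a * b : S) : Ω) * v * ((a * b : S) : Ω)⁻¹ = a * (b * v * (b : Ω)⁻¹) * (a : Ω)⁻¹
          push_cast
          group) }
    have hact : ∀ (s : S) (v : Z), ((s • v : Z) : Ω) = s * v * (s : Ω)⁻¹ := fun _ _ => rfl
    have h0fix : (1 : Z) ∈ MulAction.fixedPoints S Z := by
      intro s
      apply Subtype.ext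
      rw [hact]
      simp
    obtain ⟨v, hv, hne⟩ := hS.exists_fixed_point_of_prime_dvd_card_of_fixed_point Z (by rw [hcardZ]) h0fix
    have hv1 : (v : Ω) ≠ 1 := fun h => hne (Subtype.ext h).symm
    intro x hx g hg
    have h1 : x ∈ Subgroup.zpowers (v : Ω) := by
      rw [hZeq v v.2 hv1]
      exact hx
    obtain ⟨i, rfl⟩ := Subgroup.mem_zpowers_iff.mp h1
    have h2 := congrArg Subtype.val (hv ⟨g, hg⟩)
    rw [hact] at h2
    rw [← conj_zpow]
    congr 1
  have hnonab : ∃ x ∈ P, ∃ y ∈ P, ⁅x, y⁆ ≠ 1 := by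
    by_contra hcon
    push Not at hcon
    have h1 : Z = ⊥ := by
      rw [eq_bot_iff]
      rintro _ ⟨x, hx, rfl⟩
      rw [Subgroup.mem_bot]
      have h2 : commutator ↥P ≤ ⊥ := by
        rw [commutator_def, Subgroup.commutator_le]
        intro a _ b _
        rw [Subgroup.mem_bot]
        exact Subtype.ext (hcon a a.2 b b.2)
      have := h2 hx
      rw [Subgroup.mem_bot] at this
      rw [this]
      rfl
    rw [h1] at hcardZ
    simp at hcardZ
    exact hpp.ne_one hcardZ.symm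
  have hwc : F.WeaklyClosed Z := by
    refine ⟨hZS, fun φ hφ => ?_⟩
    by_contra hne
    exact Cfsg.Agent.Lib.FusionGenExtra.core hS hF hP hZP hZeq hZc hF1 hF2 hZexp hnonab h2 hodd hφ hne
  have hbot : F.WeaklyClosed (⊥ : Subgroup Ω) := by
    refine ⟨bot_le, fun φ hφ => ?_⟩
    rw [eq_bot_iff]
    rintro _ ⟨x, rfl⟩
    have : x = 1 := Subtype.ext x.2
    rw [this, map_one]
    exact Subgroup.one_mem _
  refine (Cfsg.Agent.S5226.result p hS F hF P).mpr ⟨hP, 2, ![⊥, Z, P], rfl, rfl, ?_, ?_, ?_⟩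
  · rw [Fin.monotone_iff_le_succ]
    intro i
    fin_cases i
    · exact bot_le
    · exact hZP
  · intro i
    fin_cases i
    · show ⁅Z, P⁆ ≤ ⊥
      rw [Subgroup.commutator_le]
      intro a ha b hb
      have h1 := hZc a ha b (hPS hb)
      rw [commutatorElement_def, Subgroup.mem_bot, mul_assoc a, mul_assoc a]
      rw [show b * a⁻¹ * b⁻¹ = (b * a * b⁻¹)⁻¹ by group, h1]
      group
    · show ⁅P, P⁆ ≤ Z
      rw [Subgroup.commutator_le]
      intro a ha b hb
      exact hF1 a ha b hb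
  · intro i
    fin_cases i
    · exact hbot
    · exact hwc
end Cfsg.Agent.S5233
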