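import Mathlib
import Cfsg.Agent.Lib.FusionRankTwo
import Cfsg.Agent.Lib.MetacyclicOmega
import Cfsg.Statements.S5234

set_option autoImplicit false
open Cfsg

namespace Cfsg.Agent.S5234





/-- Let p be an odd prime, F a saturated fusion system over a finite p-group S and P a metacyclic subgroup of S strongly closed in F. Then P is normal in F. -/
theorem result {Ω : Type*} [Group Ω] {S : Subgroup Ω} [Finite S] (p : ℕ) [Fact p.Prime] (hS : IsPGroup p S) (F : Cfsg.FusionSystem S) (hF : F.IsSaturated p) (P : Subgroup Ω) (hP : F.StronglyClosed P) (hp : p ≠ 2) (hm : Cfsg.IsMetacyclic ↥P) : F.IsNormal P := by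
  classical
  have hpp := (inferInstance : Fact p.Prime).out
  have hPS : P ≤ S := hP.1
  haveI hfP : Finite P := Cfsg.Agent.Lib.FusionCore.finite_of_le hPS
  have hPp : IsPGroup p P := IsPGroup.to_le hS hPS
  obtain ⟨z, x, hzp, hxp, hzx, hall⟩ := Cfsg.Agent.Lib.MetacyclicOmega.exists_omega_gens hPp hp hm
  have hzp' : (z : Ω) ^ p = 1 := congrArg Subtype.val hzp
  have hxp' : (x : Ω) ^ p = 1 := congrArg Subtype.val hxp
  have hc : Commute (z : Ω) (x : Ω) := congrArg Subtype.val hzx
  have hnf : ∀ v ∈ Cfsg.omegaOne p P, ∃ i j : ℤ, v = (z : Ω) ^ i * (x : Ω) ^ j := by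
    intro v hv
    induction hv using Subgroup.closure_induction with
    | mem v hv =>
      obtain ⟨i, j, hij⟩ := hall ⟨v, hv.1⟩ (Subtype.ext hv.2)
      refine ⟨i, j, ?_⟩
      have := congrArg Subtype.val hij
      simpa using this
    | one => exact ⟨0, 0, by simp⟩
    | mul a b _ _ ha hb =>
      obtain ⟨i, j, rfl⟩ := ha
      obtain ⟨k, l, rfl⟩ := hb
      refine ⟨i + k, j + l, ?_⟩
      have h1 : Commute ((x : Ω) ^ j) ((z : Ω) ^ k) := (hc.zpow_zpow k j).symm
      rw [zpow_add, zpow_add, mul_assoc, ← mul_assoc ((x : Ω) ^ j), h1.eq]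
      group
    | inv a _ ha =>
      obtain ⟨i, j, rfl⟩ := ha
      refine ⟨-i, -j, ?_⟩
      rw [mul_inv_rev, zpow_neg, zpow_neg]
      exact ((hc.zpow_zpow i j).inv_inv).symm.eq
  have hcomm : ∀ a ∈ Cfsg.omegaOne p P, ∀ b ∈ Cfsg.omegaOne p P, a * b = b * a := by
    intro a ha b hb
    obtain ⟨i, j, rfl⟩ := hnf a ha
    obtain ⟨k, l, rfl⟩ := hnf b hb
    have h1 : Commute ((z : Ω) ^ i * (x : Ω) ^ j) ((z : Ω) ^ k * (x : Ω) ^ l) := by
      apply Commute.mul_left
      · exact Commute.mul_right ((Commute.refl (z : Ω)).zpow_zpow i k) (hc.zpow_zpow i l)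
      · exact Commute.mul_right (hc.zpow_zpow k j).symm ((Commute.refl (x : Ω)).zpow_zpow j l)
    exact h1.eq
  have hexp : ∀ a ∈ Cfsg.omegaOne p P, a ^ p = 1 := by
    intro a ha
    obtain ⟨i, j, rfl⟩ := hnf a ha
    rw [(hc.zpow_zpow i j).mul_pow, ← zpow_natCast, ← zpow_natCast, ← zpow_mul, ← zpow_mul, mul_comm i, mul_comm j,
      zpow_mul, zpow_mul, zpow_natCast, zpow_natCast, hzp', hxp', one_zpow, one_zpow, one_mul]
  have hcard : Nat.card (Cfsg.omegaOne p P) ≤ p ^ 2 := by
    choose I J hIJ using fun v : Cfsg.omegaOne p P => hnf v v.2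
    have hzI : ∀ {a b : ℤ}, (a : ZMod p) = (b : ZMod p) → (z : Ω) ^ a = (z : Ω) ^ b := by
      intro a b hab
      rw [ZMod.intCast_eq_intCast_iff_dvd_sub] at hab
      obtain ⟨c, hc⟩ := hab
      have : b = a + p * c := by linarith
      rw [this, zpow_add, zpow_mul, zpow_natCast, hzp', one_zpow, mul_one]
    have hxI : ∀ {a b : ℤ}, (a : ZMod p) = (b : ZMod p) → (x : Ω) ^ a = (x : Ω) ^ b := by
      intro a b hab
      rw [ZMod.intCast_eq_intCast_iff_dvd_sub] at hab
      obtain ⟨c, hc⟩ := hab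
      have : b = a + p * c := by linarith
      rw [this, zpow_add, zpow_mul, zpow_natCast, hxp', one_zpow, mul_one]
    let e : Cfsg.omegaOne p P → ZMod p × ZMod p := fun v => ((I v : ZMod p), (J v : ZMod p))
    have he : Function.Injective e := by
      intro a b hab
      apply Subtype.ext
      rw [hIJ a, hIJ b]
      have h1 := congrArg Prod.fst hab
      have h2 := congrArg Prod.snd hab
      rw [hzI h1, hxI h2]
    have := Nat.card_le_card_of_injective e he
    rw [Nat.card_prod, Nat.card_zmod, ← pow_two] at this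
    exact this
  exact Cfsg.Agent.Lib.FusionRankTwo.isNormal_of_omega hS hF hp hP hcomm hexp hcard
end Cfsg.Agent.S5234
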