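import Mathlib
import Cfsg.Statements.S5252
import Cfsg.Agent.Lib.FusionFocalCtl
import Cfsg.Agent.S1971
import Cfsg.Agent.S1984

set_option autoImplicit false
open Cfsg

namespace Cfsg.Agent.S5252


open Cfsg.FusionSystem Cfsg.Agent.Lib.FusionCore Cfsg.Agent.Lib.FusionCore2 Cfsg.Agent.Lib.FusionGT
open Cfsg.Agent.Lib.FusionMono Cfsg.Agent.Lib.PCore Cfsg.Agent.Lib.FusionFocalCtl

open scoped commutatorElement

universe u

/-- The local hypothesis for the lower K-infinity functor. -/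
theorem lt_kInf {p : ℕ} [hp : Fact p.Prime] (hp5 : 5 ≤ p) : LT.{u} p kInfLower := by
  intro G _ _ P _
  have h := Cfsg.Agent.Lib.KInfLocal.ft_of_five hp5 kInfLower (Or.inl rfl) G P
  rw [Cfsg.Agent.Lib.TransferRed.TT_singleton] at h
  rw [Subgroup.map_subtype_commutator]
  apply le_antisymm
  · rintro x ⟨hx1, hx2⟩
    exact ⟨hx1, (h ⟨pCore_le_sylow p P hx1, hx2⟩).2⟩
  · rintro x ⟨hx1, hx2⟩
    exact ⟨hx1, Subgroup.commutator_mono le_top le_top hx2⟩

lemma aut_pgroup_cast {Ω : Type*} [Group Ω] {p : ℕ} {T S : Subgroup Ω} (h : T = S) {N : FusionSystem T} {F : FusionSystem S}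
    (hNF : ∀ (P : Subgroup Ω) (f : Ω → Ω), Maps N P f → Maps F P f) (haut : IsPGroup p ↥(F.autGroup S)) :
    IsPGroup p ↥(N.autGroup T) := by
  subst h
  exact haut.to_le (fun α hα => (mem_autGroup_iff le_rfl).2 (hNF _ _ ((mem_autGroup_iff le_rfl).1 hα)))

/-- The constrained case. -/
theorem focal_lt_constrained {Ω : Type u} [Group Ω] {T : Subgroup Ω} [Finite T] {E : FusionSystem T} {p : ℕ}
    [hp : Fact p.Prime] (hp5 : 5 ≤ p) (hT : IsPGroup p T) (hE : E.IsSaturated p) {Q : Subgroup Ω} (hQN : E.IsNormal Q)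
    (hQC : E.IsCentric Q) (hne : T ≠ ⊥) (haut : IsPGroup p ↥(E.autGroup T)) : E.focalSubgroup < T := by
  classical
  obtain ⟨L, instL, ι, hM⟩ := Cfsg.Agent.Lib.FusionModel.exists_model hT hE hQN hQC
  obtain ⟨hLf, hι, ⟨T₀, hT₀⟩, hcent⟩ := id hM
  have hN : ∀ g ∈ Subgroup.normalizer (((T₀ : Subgroup L) : Subgroup L) : Set L), (orderOf g).Coprime p →
      g ∈ Subgroup.centralizer ((T₀ : Subgroup L) : Set L) := by
    intro g hg hco
    have hran : ∀ x (hx : x ∈ T), g * ι ⟨x, hx⟩ * g⁻¹ ∈ ι.range := by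
      intro x hx
      rw [← hT₀]
      apply (Subgroup.mem_normalizer_iff.1 hg _).1
      rw [hT₀]
      exact ⟨_, rfl⟩
    have hm : Maps E T (cf ι g) := maps_cf hι le_rfl g hran
    have himg : img (cf ι g) T = T := img_eq_of_card hm le_rfl le_rfl (fun x hx => cf_mem g hx) le_rfl
    have hα := hm.toAut_mem himg
    set α : MulAut T := hm.toAut himg with hαdef
    have hαv : ∀ x (hx : x ∈ T), ι ⟨afn α x, afn_mem α hx⟩ = g * ι ⟨x, hx⟩ * g⁻¹ := by
      intro x hx
      have h1 : afn α x = cf ι g x := hm.afn_toAut himg hx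
      have h2 := ι_cf (ι := ι) g hx (hran x hx)
      rw [← h2]
      congr 2
    have hpow : ∀ (m : ℕ) x (hx : x ∈ T), ι ⟨afn (α ^ m) x, afn_mem (α ^ m) hx⟩ = g ^ m * ι ⟨x, hx⟩ * (g ^ m)⁻¹ := by
      intro m
      induction m with
      | zero =>
        intro x hx
        have e : (⟨afn (α ^ 0) x, afn_mem (α ^ 0) hx⟩ : T) = ⟨x, hx⟩ := Subtype.ext (by
          rw [pow_zero]
          exact afn_one hx)
        rw [e]
        simp
      | succ m ih =>
        intro x hx
        have e : (⟨afn (α ^ (m + 1)) x, afn_mem (α ^ (m + 1)) hx⟩ : T) =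
            ⟨afn α (afn (α ^ m) x), afn_mem α (afn_mem (α ^ m) hx)⟩ := Subtype.ext (by
          show afn (α ^ (m + 1)) x = afn α (afn (α ^ m) x)
          rw [pow_succ', afn_mul _ _ hx])
        rw [e, hαv _ (afn_mem (α ^ m) hx), ih x hx]
        group
    have hone1 : α ^ orderOf g = 1 := by
      refine afn_ext (fun x hx => ?_)
      have h1 := hpow (orderOf g) x hx
      rw [pow_orderOf_eq_one] at h1
      simp only [inv_one, one_mul, mul_one] at h1
      have h2 := hι.1 h1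
      rw [afn_one hx]
      exact congrArg Subtype.val h2
    obtain ⟨k, hk⟩ := haut ⟨α, hα⟩
    have hone2 : α ^ p ^ k = 1 := congrArg Subtype.val hk
    have hα1 : α = 1 := Cfsg.Agent.Lib.PResid.eq_one_of_pow_eq_one_of_coprime hone2 hone1 hco
    rw [Subgroup.mem_centralizer_iff]
    intro y hy
    have hy' : y ∈ ι.range := by
      rw [← hT₀]
      exact hy
    obtain ⟨t, rfl⟩ := hy'
    have h1 := hαv t t.2
    have h2 : (⟨afn α t, afn_mem α t.2⟩ : T) = t := Subtype.ext (by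
      rw [hα1]
      exact afn_one t.2)
    rw [h2] at h1
    have h3 : g * ι t * g⁻¹ = ι t := h1.symm
    calc ι t * g = g * ι t * g⁻¹ * g := by rw [h3]
      _ = g * ι t := by group
  have hT₀ne : (T₀ : Subgroup L) ≠ ⊥ := by
    rw [hT₀]
    intro h
    apply hne
    rw [MonoidHom.range_eq_bot_iff] at h
    refine (Subgroup.eq_bot_iff_forall _).2 (fun x hx => ?_)
    have h1 : ι ⟨x, hx⟩ = 1 := by rw [h]; rfl
    have h2 : (⟨x, hx⟩ : T) = 1 := hι.1 (by rw [h1, map_one])
    exact congrArg Subtype.val h2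
  obtain ⟨K, hKn, hKi⟩ := Cfsg.Agent.S1971.result kInfLower Cfsg.Agent.Lib.KInf.isCharPFunctor_kInfLower
    (fun K R _ => Cfsg.Agent.S1984.result hp5) T₀ hT₀ne hN
  have hcomm : commutator L ≤ K := by
    haveI := hKn
    have hfp : Fact (Nat.card (L ⧸ K)).Prime := by
      rw [← Subgroup.index_eq_card, hKi]
      exact hp
    haveI : IsCyclic (L ⧸ K) := isCyclic_of_prime_card rfl
    have hc : IsMulCommutative (L ⧸ K) := IsCyclic.isMulCommutative
    exact (Subgroup.Normal.quotient_commutative_iff_commutator_le).1 hc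
  have hnot : ¬ (T₀ : Subgroup L) ≤ K := by
    intro h
    have h1 : K.index ∣ (T₀ : Subgroup L).index := Subgroup.index_dvd_of_le h
    rw [hKi] at h1
    exact T₀.not_dvd_index h1
  obtain ⟨y, hyT, hyK⟩ := SetLike.not_le_iff_exists.1 hnot
  have hy' : y ∈ ι.range := by
    rw [← hT₀]
    exact hyT
  obtain ⟨t, rfl⟩ := hy'
  have hle : E.focalSubgroup ≤ ((commutator L).comap ι).map T.subtype := by
    refine focal_le_of (fun R f hf x hx => ?_)
    obtain ⟨g, hg⟩ := real_of_maps hι hf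
    have hxS : x ∈ T := hf.le hx
    refine ⟨⟨x⁻¹ * f x, T.mul_mem (T.inv_mem hxS) (hf.mem hx)⟩, ?_, rfl⟩
    have e1 : (⟨x⁻¹ * f x, T.mul_mem (T.inv_mem hxS) (hf.mem hx)⟩ : ↥T) = (⟨x, hxS⟩ : ↥T)⁻¹ * ⟨f x, hf.mem hx⟩ := rfl
    show ι _ ∈ commutator L
    rw [e1, map_mul, map_inv, hg x hx]
    have e2 : (ι ⟨x, hxS⟩)⁻¹ * (g * ι ⟨x, hf.le hx⟩ * g⁻¹) = ⁅(ι ⟨x, hxS⟩)⁻¹, g⁆ := by
      rw [commutatorElement_def, inv_inv]
      simp only [mul_assoc]
    rw [e2]
    exact Subgroup.commutator_mem_commutator (Subgroup.mem_top _) (Subgroup.mem_top _)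
  refine lt_of_le_of_ne Cfsg.Agent.Lib.FusionTrfApps.focal_le (fun h => hyK ?_)
  have ht : (t : Ω) ∈ E.focalSubgroup := by
    rw [h]
    exact t.2
  obtain ⟨s, hs, hst⟩ := hle ht
  have hst' : s = t := Subtype.ext hst
  rw [hst'] at hs
  exact hcomm hs

/-- Let p ≥ 5 be a prime and F a saturated fusion system over a nontrivial finite p-group S such that Aut_F(S) is a p-group. Then the focal subgroup of F is a proper subgroup of S. -/
theorem result {Ω : Type*} [Group Ω] {S : Subgroup Ω} [Finite S] (p : ℕ) [Fact p.Prime] (hS : IsPGroup p S) (F : Cfsg.FusionSystem S) (hF : F.IsSaturated p) (hp : 5 ≤ p) (hS1 : S ≠ ⊥) (haut : IsPGroup p ↥(F.autGroup S)) : F.focalSubgroup < S := by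
  have G : PF p kInfLower := ⟨Cfsg.Agent.Lib.KInf.isCharPFunctor_kInfLower.1, Cfsg.Agent.Lib.KInf.isCharPFunctor_kInfLower.2⟩
  have hVS : WW kInfLower S ≤ S := WW_le S
  have hSV : S ≤ Subgroup.normalizer (WW kInfLower S : Set Ω) := le_normalizer_WW G hS
  have hTS : normalizerIn S (WW kInfLower S) = S := inf_eq_left.2 hSV
  haveI hTfin : Finite ↥(normalizerIn S (WW kInfLower S)) := finite_of_le inf_le_left
  obtain ⟨N, hN⟩ := exists_normalizerSystem (F := F) hVS
  have hfoc := focal_eq G (lt_kInf hp) hS hF hN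
  have hNs := Cfsg.Agent.Lib.FusionSatNorm.saturated_normalizer hS hF
    (Cfsg.Agent.Lib.FusionGlaub3.fullyNormalized_of_le_normalizer hVS hSV) hN
  have hQN : N.IsNormal (WW kInfLower S) := isNormal_normalizerSystem hVS hN
  have hQC : N.IsCentric (WW kInfLower S) := by
    refine ⟨le_normalizerIn hVS, fun Q' hQ' => ?_⟩
    rw [conj_eq_of_isNormal hQN hQ']
    intro c hc
    obtain ⟨hc1, hc2⟩ := mem_centralizerIn.1 hc
    have hcS : c ∈ S := (inf_le_left : normalizerIn S (WW kInfLower S) ≤ S) hc1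
    have h1 : (⟨c, hcS⟩ : ↥S) ∈ Subgroup.centralizer (kInfLower ↥S : Set ↥S) := by
      rw [Subgroup.mem_centralizer_iff]
      intro y hy
      exact Subtype.ext (hc2 y ⟨y, hy, rfl⟩)
    exact ⟨_, Cfsg.Agent.Lib.KInf.centralizer_kInfLower_le hS h1, rfl⟩
  have hTp : IsPGroup p ↥(normalizerIn S (WW kInfLower S)) := hS.to_le inf_le_left
  have hTne : normalizerIn S (WW kInfLower S) ≠ ⊥ := by
    rw [hTS]
    exact hS1
  have haut' := aut_pgroup_cast hTS (fun P f h => ((maps_norm_iff hN).1 h).1) haut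
  have h := focal_lt_constrained hp hTp hNs hQN hQC hTne haut'
  rw [hfoc] at h
  exact lt_of_lt_of_le h inf_le_left

end Cfsg.Agent.S5252
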