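import Mathlib
import Cfsg.Agent.Lib.FusionCentralElt
import Cfsg.Agent.Lib.FusionLocalPow
import Cfsg.Statements.S5253

set_option autoImplicit false
universe u
open Cfsg

namespace Cfsg.Agent.S5253

open Cfsg.Agent.Lib.FusionCore Cfsg.Agent.Lib.FusionCentralElt Cfsg.FusionSystem



/-- Let p be a prime and W a positive characteristic p-functor with Z(Q) ≤ W(Q): W assigns to every finite p-group Q (in a fixed universe) a subgroup W(Q), nontrivial when Q is, carried to W(R) by every isomorphism Q ≅ R, and containing the centre of Q. Suppose that for every finite group G with Sylow p-subgroup P in which W(P) is not normal there is g ∈ P outside O_p(G) with [Z(O_p(G)), g, g] = 1. Then for every saturated fusion system F over a finite p-group S and every normalizer fusion system N of W(S) in F, every p-th power of an element of Z(S) that lies in the centre of N lies in the centre of F. -/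
theorem result {p : ℕ} [Fact p.Prime] (W : ∀ (Q : Type u) [Group Q], Subgroup Q) (hW1 : ∀ (Q : Type u) [Group Q] [Finite Q], IsPGroup p Q → Nontrivial Q → W Q ≠ ⊥) (hW2 : ∀ (Q R : Type u) [Group Q] [Group R] [Finite Q], IsPGroup p Q → ∀ φ : Q ≃* R, (W Q).map φ.toMonoidHom = W R) (hWZ : ∀ (Q : Type u) [Group Q] [Finite Q], IsPGroup p Q → Subgroup.center Q ≤ W Q) (hq : ∀ (G : Type u) [Group G] [Finite G] (P : Sylow p G), ¬ (((W ↥(P : Subgroup G)).map (P : Subgroup G).subtype : Subgroup G)).Normal → ∃ g : G, g ∈ (P : Subgroup G) ∧ g ∉ Cfsg.pCore p G ∧ ⁅⁅Subgroup.center ↥(Cfsg.pCore p G) |>.map (Cfsg.pCore p G).subtype, Subgroup.zpowers g⁆, Subgroup.zpowers g⁆ = ⊥) {Ω : Type u} [Group Ω] {S : Subgroup Ω} [Finite S] (hS : IsPGroup p S) (F : Cfsg.FusionSystem S) (hF : F.IsSaturated p) (N : Cfsg.FusionSystem (Cfsg.FusionSystem.normalizerIn S ((W ↥S).map S.subtype))) (hN : F.IsNormalizerSystem ((W ↥S).map S.subtype) N) : Subgroup.closure ((fun z => z ^ p) '' ((S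 ⊓ Subgroup.centralizer (S : Set Ω) : Subgroup Ω) : Set Ω)) ⊓ N.center ≤ F.center := by
  have hpow : ∀ y ∈ Subgroup.closure ((fun z => z ^ p) '' ((S ⊓ Subgroup.centralizer (S : Set Ω) : Subgroup Ω) : Set Ω)),
      ∃ w, IsZ S w ∧ y = w ^ p := by
    intro y hy
    induction hy using Subgroup.closure_induction with
    | mem x hx =>
      obtain ⟨z, hz, rfl⟩ := hx
      exact ⟨z, ⟨hz.1, Subgroup.mem_centralizer_iff.1 hz.2⟩, rfl⟩
    | one => exact ⟨1, ⟨S.one_mem, fun g _ => by simp⟩, by simp⟩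
    | mul a b _ _ ha hb =>
      obtain ⟨w₁, h1, rfl⟩ := ha
      obtain ⟨w₂, h2, rfl⟩ := hb
      refine ⟨w₁ * w₂, ⟨S.mul_mem h1.1 h2.1, fun g hg => ?_⟩, ?_⟩
      · calc g * (w₁ * w₂) = (g * w₁) * w₂ := by group
          _ = (w₁ * g) * w₂ := by rw [h1.2 g hg]
          _ = w₁ * (g * w₂) := by group
          _ = w₁ * (w₂ * g) := by rw [h2.2 g hg]
          _ = _ := by group
      · have hc : Commute w₁ w₂ := (h2.2 w₁ h1.1)
        rw [hc.mul_pow]
    | inv a _ ha =>
      obtain ⟨w, h, rfl⟩ := ha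
      refine ⟨w⁻¹, ⟨S.inv_mem h.1, fun g hg => ?_⟩, by simp⟩
      have hc : Commute g w := h.2 g hg
      exact (hc.inv_right).eq
  rintro y ⟨hy1, hyN⟩
  obtain ⟨w, hw, rfl⟩ := hpow y hy1
  have hcent : F.IsCentral (Subgroup.zpowers (w ^ p)) := by
    refine isCentral_of_forall hF (Subgroup.zpowers_le.2 (S.pow_mem hw.1 p)) ?_
    intro x hx R f hf hxR
    have hxN : x ∈ N.center := (Subgroup.zpowers_le.2 hyN) hx
    obtain ⟨n, rfl⟩ := Subgroup.mem_zpowers_iff.1 hx
    have hxe : (w ^ p) ^ n = (w ^ n) ^ p := by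
      rw [← zpow_natCast, ← zpow_natCast, ← zpow_mul, ← zpow_mul, mul_comm]
    have hZn : IsZ S (w ^ n) := by
      refine ⟨S.zpow_mem hw.1 n, fun g hg => ?_⟩
      have hc : Commute g w := hw.2 g hg
      exact (hc.zpow_right n).eq
    rw [hxe] at hxN hxR ⊢
    have h3 : ∀ γ ∈ F.autGroup ((W ↥S).map S.subtype), afn γ ((w ^ n) ^ p) = (w ^ n) ^ p :=
      (of_mem_center hW2 hWZ hS hF hN hxN).2
    have h4 := fixed_all hS hF hW2 hWZ hZn p h3
      (fun L _ _ P v h5 h6 h7 h8 => Cfsg.Agent.Lib.FusionLocalPow.local_pow W hW2 hq _ L rfl P v h5 h6 h7 h8)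
      R f hf _ hxR
    exact h4.2 rfl
  have hle : Subgroup.zpowers (w ^ p) ≤ F.center := le_sSup hcent
  exact hle (Subgroup.mem_zpowers _)
end Cfsg.Agent.S5253
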