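import Mathlib
import Cfsg.Agent.Lib.FusionMaxC
import Cfsg.Statements.S5270

set_option autoImplicit false
open Cfsg

namespace Cfsg.Agent.S5270

open Cfsg Cfsg.FusionSystem Cfsg.Agent.Lib.FusionCore Cfsg.Agent.Lib.FusionCore2 Cfsg.Agent.Lib.FusionAbIdx Cfsg.Agent.Lib.FusionAbEss Cfsg.Agent.Lib.FusionMaxC

section Aux

variable {Ω : Type*} [Group Ω] {S : Subgroup Ω} [Finite S] {F : FusionSystem S}

theorem fn_of_normal {Q : Subgroup Ω} (hQS : Q ≤ S) (h : S ≤ Subgroup.normalizer (Q : Set Ω)) :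
    F.IsFullyNormalized Q := by
  refine ⟨hQS, fun R hR => ?_⟩
  have e : normalizerIn S Q = S := le_antisymm inf_le_left (le_inf le_rfl h)
  rw [e]
  exact Subgroup.card_le_of_le inf_le_left

theorem central_iff {k : Ω → Ω} (hk : Maps F S k) {x : Ω} (hx : x ∈ S) : x ∈ Zc S ↔ k x ∈ Zc S := by
  have himg : img k S = S := img_eq_of_card hk le_rfl le_rfl (fun y hy => hk.mem hy) le_rfl
  constructor
  · intro hz
    refine mem_Zc.2 ⟨hk.mem hx, fun g hg => ?_⟩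
    rw [← himg] at hg
    obtain ⟨g', hg', rfl⟩ := hk.mem_img.1 hg
    rw [← hk.map_mul hg' hx, ← hk.map_mul hx hg', (mem_Zc.1 hz).2 g' hg']
  · intro hz
    refine mem_Zc.2 ⟨hx, fun g hg => ?_⟩
    apply hk.inj (S.mul_mem hg hx) (S.mul_mem hx hg)
    rw [hk.map_mul hg hx, hk.map_mul hx hg]
    exact (mem_Zc.1 hz).2 _ (hk.mem hg)

end Aux

/-- Let p ≥ 5 be a prime, S a finite p-group of maximal class of order p^n with n ≥ 4, and F a saturated fusion system over S. If some map of F defined on the second centre Z₂(S) with image Z₂(S) does not carry Z(S) into itself, then the centralizer C_S(Z₂(S)) is an F-essential subgroup. -/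
theorem result {Ω : Type*} [Group Ω] {S : Subgroup Ω} [Finite S] (p : ℕ) [Fact p.Prime] (hS : IsPGroup p ↥S) (n : ℕ) (hn : Nat.card S = p ^ n) (h4 : 4 ≤ n) (hmax : Subgroup.lowerCentralSeries S (n - 2) ≠ ⊥) (F : Cfsg.FusionSystem S) (hF : F.IsSaturated p) (hp : 5 ≤ p) (φ : ↥((Subgroup.upperCentralSeries ↥S 2).map S.subtype) →* Ω) (hφ : φ ∈ F.Hom ((Subgroup.upperCentralSeries ↥S 2).map S.subtype)) (hφZ : φ.range = ((Subgroup.upperCentralSeries ↥S 2).map S.subtype)) (hmove : ∃ (z : Ω) (hz : z ∈ ((Subgroup.upperCentralSeries ↥S 2).map S.subtype)), z ∈ ((Subgroup.center ↥S).map S.subtype) ∧ φ ⟨z, hz⟩ ∉ ((Subgroup.center ↥S).map S.subtype)) : F.IsEssential p (S ⊓ Subgroup.centralizer (((Subgroup.upperCentralSeries ↥S 2).map S.subtype) : Set Ω)) := by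
  have hZ₂S : Z2c S ≤ S := fun y hy => (mem_Z2c.1 hy).1
  haveI := finite_of_le hZ₂S
  have hZS : Zc S ≤ S := inf_le_left
  set C : Subgroup Ω := S ⊓ Subgroup.centralizer ((Z2c S : Subgroup Ω) : Set Ω) with hC
  have hCS : C ≤ S := inf_le_left
  haveI := finite_of_le hCS
  have hZZ₂ : Zc S ≤ Z2c S := by
    intro z hz
    refine mem_Z2c.2 ⟨hz.1, fun g hg => ?_⟩
    have : z * g * z⁻¹ * g⁻¹ = 1 := by
      rw [← (mem_Zc.1 hz).2 g hg]
      group
    rw [this]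
    exact Subgroup.one_mem _
  have hZ₂norm : S ≤ Subgroup.normalizer ((Z2c S : Subgroup Ω) : Set Ω) := by
    intro g hg
    apply mem_normalizer_of_conj_mem
    intro y hy
    obtain ⟨hyS, hy2⟩ := mem_Z2c.1 hy
    have h1 := (Zc S).inv_mem (hy2 g hg)
    have e : g * y * g⁻¹ = (y * g * y⁻¹ * g⁻¹)⁻¹ * y := by group
    rw [e]
    exact (Z2c S).mul_mem (hZZ₂ h1) hy
  have hmemC : ∀ c, c ∈ C ↔ c ∈ S ∧ ∀ y ∈ Z2c S, y * c = c * y := fun c =>
    ⟨fun h => ⟨h.1, fun y hy => Subgroup.mem_centralizer_iff.1 h.2 y hy⟩,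
      fun h => ⟨h.1, Subgroup.mem_centralizer_iff.2 h.2⟩⟩
  have hCnorm : S ≤ Subgroup.normalizer (C : Set Ω) := by
    intro g hg
    apply mem_normalizer_of_conj_mem
    intro c hc
    obtain ⟨hcS, hcc⟩ := (hmemC c).1 hc
    refine (hmemC _).2 ⟨S.mul_mem (S.mul_mem hg hcS) (S.inv_mem hg), fun y hy => ?_⟩
    have hy' : g⁻¹ * y * g⁻¹⁻¹ ∈ Z2c S :=
      (Subgroup.mem_normalizer_iff.1 (hZ₂norm (S.inv_mem hg)) y).1 hy
    have h1 := hcc _ hy'
    calc y * (g * c * g⁻¹) = g * ((g⁻¹ * y * g⁻¹⁻¹) * c) * g⁻¹ := by group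
      _ = g * (c * (g⁻¹ * y * g⁻¹⁻¹)) * g⁻¹ := by rw [h1]
      _ = _ := by group
  obtain ⟨z, hzZ₂, hzZ, hφz⟩ := hmove
  have hmc : (Subgroup.center ↥S).map S.subtype = Zc S := map_center_eq
  rw [hmc] at hzZ hφz
  have hm₀ : Maps F (Z2c S) (fn φ) := Maps.of_mem hφ
  have hfnφ : ∀ x : ↥(Z2c S), φ x = fn φ x := fun x => (fn_of_mem φ x.2).symm
  have himg₀ : img (fn φ) (Z2c S) = Z2c S := by
    rw [img_eq_range φ hfnφ, hφZ]
  have hR₀ : F.IsReceptive (Z2c S) :=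
    receptive_of_fullyCentralized hS hF (of_fullyNormalized hS hF (fn_of_normal hZ₂S hZ₂norm)).1
  obtain ⟨k, hk, hkφ⟩ := IsReceptive.ext hR₀ hm₀ himg₀
  have hCN : C ≤ Nf S (Z2c S) (fn φ) := by
    intro c hc
    obtain ⟨hcS, hcc⟩ := (hmemC c).1 hc
    refine mem_Nf.2 ⟨hcS, hZ₂norm hcS, 1, S.one_mem, fun x hx => ?_⟩
    have : c * x * c⁻¹ = x := by
      rw [← hcc x hx]
      group
    rw [this]
    simp
  have hZ₂N : Z2c S ≤ Nf S (Z2c S) (fn φ) := le_Nf hm₀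
  have hkC := hk.restrict hCN
  have hkCC : ∀ c ∈ C, k c ∈ C := by
    intro c hc
    refine (hmemC _).2 ⟨hkC.mem hc, fun y hy => ?_⟩
    rw [← himg₀] at hy
    obtain ⟨y', hy', rfl⟩ := hm₀.mem_img.1 hy
    rw [← hkφ y' hy', ← hk.map_mul (hZ₂N hy') (hCN hc), ← hk.map_mul (hCN hc) (hZ₂N hy'),
      ((hmemC c).1 hc).2 y' hy']
  have himgC : img k C = C := img_eq_of_card hkC hCS hCS hkCC le_rfl
  let ψ : MulAut C := hkC.toAut himgC
  have hψX : ψ ∈ F.autGroup C := hkC.toAut_mem himgC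
  have hzC : z ∈ C := (hmemC z).2 ⟨hzZ.1, fun y hy => (mem_Zc.1 hzZ).2 y (hZ₂S hy)⟩
  have hψz : afn ψ z ∉ Zc S := by
    rw [hkC.afn_toAut himgC hzC, hkφ z hzZ₂, fn_of_mem φ hzZ₂]
    exact hφz
  -- an element of `Z₂` outside `Z`
  set z' := afn ψ z with hz'
  have hz'Z₂ : z' ∈ Z2c S := by
    rw [hz', hkC.afn_toAut himgC hzC, hkφ z hzZ₂, ← himg₀]
    exact hm₀.mem_img_of_mem hzZ₂
  have hne : C ≠ S := by
    intro e
    apply hψz
    refine mem_Zc.2 ⟨hZ₂S hz'Z₂, fun g hg => ?_⟩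
    rw [← e] at hg
    exact (((hmemC g).1 hg).2 z' hz'Z₂).symm
  have hpS : ∀ y ∈ Z2c S, ∀ g ∈ S, g * y * g⁻¹ * y⁻¹ ∈ Zc S := by
    intro y hy g hg
    have h1 := (Zc S).inv_mem ((mem_Z2c.1 hy).2 g hg)
    convert h1 using 1
    group
  have hidx := index_Z2 hS hn h4 hmax
  have hZc := card_Zc hS hn (by omega) hmax
  have hgenZ₂ : ∀ y ∈ Z2c S, ∃ w ∈ Zc S, ∃ i : ℕ, y = w * z' ^ i :=
    fun y hy => gen_of_index (hS.to_le hZ₂S) hidx hz'Z₂ hψz y hy
  haveI : Finite (Zc S) := finite_of_le hZS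
  let f : ↥S → ↥(Zc S) := fun g => ⟨(g : Ω) * z' * (g : Ω)⁻¹ * z'⁻¹, hpS z' hz'Z₂ g g.2⟩
  have hCidx : (C.subgroupOf S).index = p := by
    apply index_eq_of_le hS
    · intro e
      rw [Subgroup.index_eq_one] at e
      apply hne
      apply le_antisymm hCS
      intro g hg
      have : (⟨g, hg⟩ : S) ∈ C.subgroupOf S := by rw [e]; trivial
      exact Subgroup.mem_subgroupOf.1 this
    · rw [← hZc]
      apply index_le_of_fun f
      rintro ⟨a, ha⟩ ⟨b, hb⟩ e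
      have e1 : a * z' * a⁻¹ * z'⁻¹ = b * z' * b⁻¹ * z'⁻¹ := congrArg Subtype.val e
      apply Subgroup.mem_subgroupOf.2
      show a⁻¹ * b ∈ C
      have e2 : a * z' * a⁻¹ = b * z' * b⁻¹ := mul_right_cancel e1
      have hk1 : z' * (a⁻¹ * b) = (a⁻¹ * b) * z' := by
        calc z' * (a⁻¹ * b) = a⁻¹ * (a * z' * a⁻¹) * b := by group
          _ = a⁻¹ * (b * z' * b⁻¹) * b := by rw [e2]
          _ = _ := by group
      refine (hmemC _).2 ⟨S.mul_mem (S.inv_mem ha) hb, fun y hy => ?_⟩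
      obtain ⟨w, hw, i, rfl⟩ := hgenZ₂ y hy
      have c1 : Commute w (a⁻¹ * b) := ((mem_Zc.1 hw).2 _ (S.mul_mem (S.inv_mem ha) hb)).symm
      have c2 : Commute (z' ^ i) (a⁻¹ * b) := (show Commute z' (a⁻¹ * b) from hk1).pow_left i
      exact (c1.mul_left c2).eq
  -- the dichotomy
  have hlt : C < S := lt_of_le_of_ne hCS hne
  rcases dichotomy hS hF hlt (fn_of_normal hCS hCnorm) (H := Subgroup.closure (extAuts F C)) rfl with ⟨-, hH⟩ | ⟨h, -⟩
  · exfalso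
    let U : Subgroup (MulAut C) :=
      { carrier := {α | ∀ x ∈ C, x ∈ Zc S ↔ afn α x ∈ Zc S}
        mul_mem' := by
          intro a b ha hb x hx
          rw [afn_mul _ _ hx, hb x hx, ha _ (afn_mem b hx)]
        one_mem' := by
          intro x hx
          rw [afn_one hx]
        inv_mem' := by
          intro a ha x hx
          have h1 := ha _ (afn_mem a⁻¹ hx)
          rw [afn_afn_inv a hx] at h1
          exact h1.symm }
    have hext : extAuts F C ⊆ U := by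
      rintro α ⟨Q, hCQ, φ', hφ', hα⟩
      have hm' : Maps F Q (fn φ') := Maps.of_mem hφ'
      have hQS : Q ≤ S := hm'.le
      obtain ⟨g, hgQ, hgC⟩ := SetLike.exists_of_lt hCQ
      have hSQ : S ≤ Q := by
        intro s hs
        obtain ⟨c, hc, i, rfl⟩ := gen_of_index hS hCidx (hQS hgQ) hgC s hs
        exact Q.mul_mem (hCQ.le hc) (Q.pow_mem hgQ i)
      have hmS : Maps F S (fn φ') := hm'.restrict hSQ
      intro x hx
      have e1 : afn α x = fn φ' x := by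
        rw [afn_of_mem α hx, fn_of_mem φ' (hCQ.le hx)]
        exact (hα ⟨x, hx⟩).symm
      rw [e1]
      exact central_iff hmS (hCS hx)
    have hle : Subgroup.closure (extAuts F C) ≤ U := (Subgroup.closure_le _).2 hext
    have hψU : ψ ∈ U := hle (hH ▸ hψX)
    exact hψz ((hψU z hzC).1 hzZ)
  · exact h
end Cfsg.Agent.S5270
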