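import Mathlib
import Cfsg.Agent.Lib.AxGT
import Cfsg.Agent.Lib.FusionGT3
import Cfsg.Statements.S5272

set_option autoImplicit false
open Cfsg

namespace Cfsg.Agent.S5272

open Cfsg.FusionSystem Cfsg.Agent.Lib.FusionCore Cfsg.Agent.Lib.FusionIso Cfsg.Agent.Lib.FusionGT
open Cfsg.Agent.Lib.FusionNormalSub Cfsg.Agent.Lib.PComplement Cfsg.Agent.Lib.AxZJ Cfsg.Agent.Lib.AxGT
open scoped commutatorElement

universe u v

section Group

variable {G : Type u} [Group G] [Finite G] {p : ℕ} [hpp : Fact p.Prime]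

/-- A nontrivial `p'`-automorphism forbids a normal `p`-complement. -/
lemma not_npc_of_hasAut (T : Sylow p G) (hA : HasAut (groupFusionSystem (T : Subgroup G)) p) :
    ¬ HasNormalPComplement p G := by
  intro hc
  obtain ⟨X, χ, hm, hne, hcop⟩ := hA
  obtain ⟨hXT, hv, g, hg⟩ := maps_group.1 hm
  obtain ⟨m, hm1, hm2⟩ := exists_pprime_pow p g (orderOf_pos g) (orderOf_dvd_of_conj hg) hcop
  have hgN : g ∈ Subgroup.normalizer (X : Set G) := mem_normalizer_of_afn hg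
  have h1 := hasNormalPComplement_iff_forall.1 hc X (T.isPGroup'.to_le hXT) (g ^ m)
    (Subgroup.pow_mem _ hgN m) hm1
  apply hne
  apply afn_ext
  intro x hx
  have e1 : χ ^ m = χ ^ 1 := pow_eq_pow_iff_modEq.2 hm2
  rw [pow_one] at e1
  rw [← e1, afn_pow_conj hg m x hx, afn_one hx]
  have h2 := Subgroup.mem_centralizer_iff.1 h1 x hx
  rw [← h2]
  group

/-- From the failure of a normal complement in the normalizer to `HasN`. -/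
theorem hasN_of_not_npc (T : Sylow p G) {Z : Subgroup G} (hZT : Z ≤ (T : Subgroup G))
    (hTZ : (T : Subgroup G) ≤ Subgroup.normalizer (Z : Set G))
    (hH : ¬ HasNormalPComplement p (Subgroup.normalizer (Z : Set G))) :
    HasN (groupFusionSystem (T : Subgroup G)) p Z := by
  classical
  let T' : Sylow p (Subgroup.normalizer (Z : Set G)) := T.subtype hTZ
  rw [Cfsg.Agent.Lib.TransferEval.hasNormalPComplement_iff T', frobenius_criterion T'] at hH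
  push Not at hH
  obtain ⟨Q, hQ, g, hgN, hgc, hgC⟩ := hH
  -- work in `G`
  let X : Subgroup G := Q.map (Subgroup.normalizer (Z : Set G)).subtype
  have hXT : X ≤ (T : Subgroup G) := by
    rintro _ ⟨q, hq, rfl⟩
    have h0 : q ∈ ((T.subtype hTZ : Sylow p _) : Subgroup (Subgroup.normalizer (Z : Set G))) := hQ hq
    rw [Sylow.coe_subtype] at h0
    exact Subgroup.mem_subgroupOf.1 h0
  let g₁ : G := (g : G)
  have hg₁Z : g₁ ∈ Subgroup.normalizer (Z : Set G) := g.2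
  have hg₁X : g₁ ∈ Subgroup.normalizer (X : Set G) := by
    rw [Subgroup.mem_normalizer_iff]
    intro y
    constructor
    · rintro ⟨q, hq, rfl⟩
      exact ⟨g * q * g⁻¹, (Subgroup.mem_normalizer_iff.1 hgN q).1 hq, rfl⟩
    · rintro ⟨q, hq, hqy⟩
      refine ⟨g⁻¹ * q * g, ?_, ?_⟩
      · have := (Subgroup.mem_normalizer_iff.1 (Subgroup.inv_mem _ hgN) q).1 hq
        simpa using this
      · have e : (q : G) = g₁ * y * g₁⁻¹ := hqy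
        show ((g⁻¹ * q * g : Subgroup.normalizer (Z : Set G)) : G) = y
        simp only [Subgroup.coe_mul, Subgroup.coe_inv]
        rw [e]
        show g₁⁻¹ * (g₁ * y * g₁⁻¹) * g₁ = y
        group
  let Y : Subgroup G := X ⊔ Z
  have hYT : Y ≤ (T : Subgroup G) := sup_le hXT hZT
  have hg₁Y : g₁ ∈ Subgroup.normalizer (Y : Set G) := by
    rw [Subgroup.mem_normalizer_iff_map_conj_eq] at hg₁X hg₁Z ⊢
    show (X ⊔ Z).map _ = X ⊔ Z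
    rw [Subgroup.map_sup, hg₁X, hg₁Z]
  have hvals : ∀ x ∈ Y, g₁ * x * g₁⁻¹ ∈ Y := fun x hx => (Subgroup.mem_normalizer_iff.1 hg₁Y x).1 hx
  have hm : Maps (groupFusionSystem (T : Subgroup G)) Y (fun x => g₁ * x * g₁⁻¹) :=
    maps_group.2 ⟨hYT, fun x hx => hYT (hvals x hx), g₁, fun _ _ => rfl⟩
  haveI : Finite (T : Subgroup G) := inferInstance
  have himg := img_eq_of_card hm hYT hYT hvals le_rfl
  have hγ : ∀ x ∈ Y, afn (hm.toAut himg) x = g₁ * x * g₁⁻¹ := fun x hx => hm.afn_toAut himg hx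
  refine ⟨Y, hm.toAut himg, le_sup_right, ?_, (mem_autGroup_iff hYT).1 (hm.toAut_mem himg), ?_, ?_, ?_⟩
  · intro x hx
    exact ⟨hYT hx, hTZ (hYT hx)⟩
  · intro h1
    apply hgC
    rw [Subgroup.mem_centralizer_iff]
    intro q hq
    have hqY : ((q : Subgroup.normalizer (Z : Set G)) : G) ∈ Y :=
      Subgroup.mem_sup_left ⟨q, hq, rfl⟩
    have h2 := hγ _ hqY
    rw [h1, afn_one hqY] at h2
    apply Subtype.ext
    show (q : G) * g₁ = g₁ * (q : G)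
    calc (q : G) * g₁ = (g₁ * (q : G) * g₁⁻¹) * g₁ := by rw [← h2]
      _ = g₁ * (q : G) := by group
  · have h1 := orderOf_dvd_of_conj hγ
    have h2 : orderOf g₁ = orderOf g := Subgroup.orderOf_coe g
    rw [h2] at h1
    exact Nat.Coprime.coprime_dvd_left h1 hgc
  · intro x hx
    rw [hγ x (Subgroup.mem_sup_right hx)]
    exact (Subgroup.mem_normalizer_iff.1 hg₁Z x).1 hx

end Group

section Iso

variable {Ω : Type u} [Group Ω] {S : Subgroup Ω} {Ω' : Type v} [Group Ω'] {S' : Subgroup Ω'}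
  {F : FusionSystem S} {F' : FusionSystem S'}

lemma map_commElt (I : Iso F F') {x y : Ω} (hx : x ∈ S) (hy : y ∈ S) : I.e ⁅x, y⁆ = ⁅I.e x, I.e y⁆ := by
  simp only [commutatorElement_def]
  rw [I.map_mul _ (S.mul_mem (S.mul_mem hx hy) (S.inv_mem hx)) _ (S.inv_mem hy), I.map_conj hx hy, I.map_inv hy]

lemma comm_im (I : Iso F F') {A B : Subgroup Ω} (hA : A ≤ S) (hB : B ≤ S) : ⁅im I.e A, im I.e B⁆ = im I.e ⁅A, B⁆ := by
  have hAB : ⁅A, B⁆ ≤ S := (Subgroup.commutator_mono hA hB).trans (comm_le_of_le le_rfl)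
  apply le_antisymm
  · rw [Subgroup.commutator_le]
    intro a ha b hb
    obtain ⟨x, hx, rfl⟩ := (I.mem_im hA).1 ha
    obtain ⟨y, hy, rfl⟩ := (I.mem_im hB).1 hb
    rw [← map_commElt I (hA hx) (hB hy)]
    exact I.mem_im_of_mem (Subgroup.commutator_mem_commutator hx hy)
  · have hle : ⁅A, B⁆ ≤ im I.e' ⁅im I.e A, im I.e B⁆ := by
      rw [Subgroup.commutator_le]
      intro a ha b hb
      have h1 := map_commElt I.symm (I.mem a (hA ha)) (I.mem b (hB hb))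
      change I.e' ⁅I.e a, I.e b⁆ = ⁅I.e' (I.e a), I.e' (I.e b)⁆ at h1
      rw [I.left a (hA ha), I.left b (hB hb)] at h1
      rw [← h1]
      exact I.symm.mem_im_of_mem (Subgroup.commutator_mem_commutator (I.mem_im_of_mem ha) (I.mem_im_of_mem hb))
    intro y hy
    obtain ⟨x, hx, rfl⟩ := (I.mem_im hAB).1 hy
    have h2 := hle hx
    have hS' : ⁅im I.e A, im I.e B⁆ ≤ S' :=
      (Subgroup.commutator_mono (I.im_le hA) (I.im_le hB)).trans (comm_le_of_le le_rfl)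
    obtain ⟨w, hw, hwe⟩ := (I.symm.mem_im hS').1 h2
    have e1 : I.e x = w := by
      have e2 : I.e' w = x := hwe
      rw [← e2]
      exact I.right w (hS' hw)
    rw [e1]
    exact hw

lemma im_bot (I : Iso F F') : im I.e (⊥ : Subgroup Ω) = ⊥ := by
  rw [eq_bot_iff]
  intro y hy
  obtain ⟨x, hx, rfl⟩ := (I.mem_im bot_le).1 hy
  rw [Subgroup.mem_bot] at hx ⊢
  rw [hx]
  exact I.map_one

lemma im_mono (I : Iso F F') {A B : Subgroup Ω} (hAB : A ≤ B) (hB : B ≤ S) : im I.e A ≤ im I.e B := by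
  intro y hy
  obtain ⟨x, hx, rfl⟩ := (I.mem_im (hAB.trans hB)).1 hy
  exact I.mem_im_of_mem (hAB hx)

end Iso

section Core

variable {Ω : Type u} [Group Ω] {S : Subgroup Ω} [Finite S] {p : ℕ} [hpp : Fact p.Prime]

/-- The constrained case, through the model. -/
theorem core (hp : p ≠ 2) (hS : IsPGroup p S) {E : FusionSystem S} (hEC : E.IsConstrained p) (hEA : HasAut E p)
    (𝒜 : Set (Subgroup Ω)) (hle : ∀ A ∈ 𝒜, A ≤ S) (hab : ∀ A ∈ 𝒜, ∀ x ∈ A, ∀ y ∈ A, x * y = y * x)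
    (hne : 𝒜.Nonempty)
    (hinv : ∀ Q : Subgroup Ω, Q ≤ S → (∃ A ∈ 𝒜, A ≤ Q) → ∀ f : Ω → Ω, Maps E Q f → (∀ x ∈ Q, f x ∈ Q) →
      ∀ x ∈ Ifam 𝒜 Q, f x ∈ Ifam 𝒜 Q)
    (hrep : ∀ B : Subgroup Ω, B ≤ S → ⁅⁅B, B⁆, B⁆ = ⊥ → (∃ A ∈ 𝒜, ⁅B, B⁆ ≤ A ∧ ¬ B ≤ A) →
      ∃ A ∈ 𝒜, ⁅B, B⁆ ≤ A ∧ ¬ B ≤ A ∧ B ≤ Subgroup.normalizer (A : Set Ω)) :
    HasN E p (sInf 𝒜) := by
  obtain ⟨hF, Q, hQN, hQC⟩ := hEC
  obtain ⟨G, _, ι, hfin, hreal, ⟨T, hT⟩, -⟩ := Cfsg.Agent.Lib.FusionModel.exists_model hS hF hQN hQC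
  obtain ⟨I, hI⟩ := exists_iso_of_realized hreal hT
  have hIS : sInf 𝒜 ≤ S := by
    obtain ⟨A, hA⟩ := hne
    exact (sInf_le hA).trans (hle A hA)
  let 𝒜' : Set (Subgroup G) := (fun A => im I.e A) '' 𝒜
  have hax : AxFam (T : Subgroup G) 𝒜' := by
    refine ⟨?_, ?_, ?_, ?_, ?_⟩
    · obtain ⟨A, hA⟩ := hne
      exact ⟨_, A, hA, rfl⟩
    · rintro _ ⟨A, hA, rfl⟩
      exact I.im_le (hle A hA)
    · rintro _ ⟨A, hA, rfl⟩ x hx y hy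
      obtain ⟨a, ha, rfl⟩ := (I.mem_im (hle A hA)).1 hx
      obtain ⟨b, hb, rfl⟩ := (I.mem_im (hle A hA)).1 hy
      rw [← I.map_mul _ (hle A hA ha) _ (hle A hA hb), ← I.map_mul _ (hle A hA hb) _ (hle A hA ha),
        hab A hA a ha b hb]
    · rintro Q' hQ' ⟨_, ⟨A₀, hA₀, rfl⟩, hA₀Q⟩ g hg x' hx'
      have hQS : im I.e' Q' ≤ S := I.symm.im_le hQ'
      have hm : Maps (groupFusionSystem (T : Subgroup G)) Q' (fun y => g * y * g⁻¹) :=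
        maps_group.2 ⟨hQ', fun y hy => hQ' (hg y hy), g, fun _ _ => rfl⟩
      have hm' := I.maps' hm
      have hval : ∀ x ∈ im I.e' Q', (I.e' ∘ (fun y => g * y * g⁻¹) ∘ I.e) x ∈ im I.e' Q' := by
        intro x hx
        obtain ⟨q, hq, rfl⟩ := (I.mem_im' hQ').1 hx
        show I.e' (g * I.e (I.e' q) * g⁻¹) ∈ _
        rw [I.right q (hQ' hq)]
        exact I.symm.mem_im_of_mem (hg q hq)
      have hle' : ∀ A ∈ 𝒜, im I.e A ≤ Q' → A ≤ im I.e' Q' := by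
        intro A hA hAQ x hx
        have h1 : I.e x ∈ Q' := hAQ (I.mem_im_of_mem hx)
        have h2 := I.symm.mem_im_of_mem h1
        change I.e' (I.e x) ∈ _ at h2
        rwa [I.left x (hle A hA hx)] at h2
      have hle2 : ∀ A ∈ 𝒜, A ≤ im I.e' Q' → im I.e A ≤ Q' := by
        intro A hA hAQ y hy
        obtain ⟨a, ha, rfl⟩ := (I.mem_im (hle A hA)).1 hy
        obtain ⟨q, hq, rfl⟩ := (I.mem_im' hQ').1 (hAQ ha)
        show I.e (I.e' q) ∈ Q'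
        rw [I.right q (hQ' hq)]
        exact hq
      have hxI : I.e' x' ∈ Ifam 𝒜 (im I.e' Q') := by
        rw [mem_Ifam]
        intro A hA hAQ
        have h1 := (mem_Ifam.1 hx') _ ⟨A, hA, rfl⟩ (hle2 A hA hAQ)
        obtain ⟨a, ha, rfl⟩ := (I.mem_im (hle A hA)).1 h1
        rw [I.left a (hle A hA ha)]
        exact ha
      have h1 := hinv _ hQS ⟨A₀, hA₀, hle' A₀ hA₀ hA₀Q⟩ _ hm' hval _ hxI
      have hx'Q : x' ∈ Q' := hA₀Q ((mem_Ifam.1 hx') _ ⟨A₀, hA₀, rfl⟩ hA₀Q)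
      rw [mem_Ifam]
      rintro _ ⟨A, hA, rfl⟩ hAQ
      have h2 := (mem_Ifam.1 h1) A hA (hle' A hA hAQ)
      have e1 : (I.e' ∘ (fun y => g * y * g⁻¹) ∘ I.e) (I.e' x') = I.e' (g * x' * g⁻¹) := by
        show I.e' (g * I.e (I.e' x') * g⁻¹) = _
        rw [I.right x' (hQ' hx'Q)]
      rw [e1] at h2
      have h3 := I.mem_im_of_mem h2
      rwa [I.right _ (hQ' (hg x' hx'Q))] at h3
    · rintro B' hB' - hB2 _ ⟨U, hU, rfl⟩ hBU hBnU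
      have hBS : im I.e' B' ≤ S := I.symm.im_le hB'
      have hB'm : im I.e (im I.e' B') = B' := I.im_symm' hB'
      have hcm : ⁅B', B'⁆ = im I.e ⁅im I.e' B', im I.e' B'⁆ := by
        rw [← comm_im I hBS hBS, hB'm]
      have hB'B : ⁅B', B'⁆ ≤ (T : Subgroup G) := comm_le_of_le hB'
      have hBB : ⁅im I.e' B', im I.e' B'⁆ ≤ S := comm_le_of_le hBS
      have hB2' : ⁅⁅im I.e' B', im I.e' B'⁆, im I.e' B'⁆ = ⊥ := by
        have h1 := comm_im I.symm hB' hB'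
        have h2 := comm_im I.symm hB'B hB'
        change ⁅im I.e' B', im I.e' B'⁆ = im I.e' ⁅B', B'⁆ at h1
        change ⁅im I.e' ⁅B', B'⁆, im I.e' B'⁆ = im I.e' ⁅⁅B', B'⁆, B'⁆ at h2
        rw [h1, h2, hB2]
        exact im_bot I.symm
      have hleU : ⁅im I.e' B', im I.e' B'⁆ ≤ U := by
        intro y hy
        have h1 : I.e y ∈ ⁅B', B'⁆ := by
          rw [hcm]
          exact I.mem_im_of_mem hy
        exact (I.mem_iff (hle U hU) (hBB hy)).1 (hBU h1)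
      have hnle : ¬ im I.e' B' ≤ U := by
        intro h
        apply hBnU
        rw [← hB'm]
        exact im_mono I h (hle U hU)
      obtain ⟨A, hA, h1, h2, h3⟩ := hrep _ hBS hB2' ⟨U, hU, hleU, hnle⟩
      refine ⟨im I.e A, ⟨A, hA, rfl⟩, ?_, ?_, ?_⟩
      · rw [hcm]
        exact im_mono I h1 (hle A hA)
      · intro h4
        apply h2
        intro x hx
        have h5 : I.e x ∈ B' := by
          rw [← hB'm]
          exact I.mem_im_of_mem hx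
        exact (I.mem_iff (hle A hA) (hBS hx)).1 (h4 h5)
      · intro b' hb'
        have h5 : b' = I.e (I.e' b') := (I.right b' (hB' hb')).symm
        rw [h5]
        exact I.mem_normalizer_im (hle A hA) (hBS (I.symm.mem_im_of_mem hb'))
          (h3 (I.symm.mem_im_of_mem hb'))
  have hsInf : sInf 𝒜' = im I.e (sInf 𝒜) := by
    ext y
    rw [I.mem_im hIS, Subgroup.mem_sInf]
    constructor
    · intro h
      obtain ⟨A₀, hA₀⟩ := hne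
      obtain ⟨x, hx, rfl⟩ := (I.mem_im (hle A₀ hA₀)).1 (h _ ⟨A₀, hA₀, rfl⟩)
      refine ⟨x, Subgroup.mem_sInf.2 (fun A hA => ?_), rfl⟩
      exact (I.mem_iff (hle A hA) (hle A₀ hA₀ hx)).1 (h _ ⟨A, hA, rfl⟩)
    · rintro ⟨x, hx, rfl⟩ _ ⟨A, hA, rfl⟩
      exact I.mem_im_of_mem (Subgroup.mem_sInf.1 hx A hA)
  have hA₀ := hEA.iso I
  have hG := not_npc_of_hasAut T hA₀
  have hH : ¬ HasNormalPComplement p (Subgroup.normalizer ((sInf 𝒜' : Subgroup G) : Set G)) :=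
    fun h => hG (npc_ax hp T hax h)
  have hZT : sInf 𝒜' ≤ (T : Subgroup G) := by
    rw [hsInf]
    exact I.im_le hIS
  have hTZ : (T : Subgroup G) ≤ Subgroup.normalizer ((sInf 𝒜' : Subgroup G) : Set G) := by
    intro t ht
    apply Cfsg.Agent.Lib.AlperinControl.mem_NN_of_forall
    intro x hx
    rw [← Ifam_eq_sInf hax.le] at hx ⊢
    obtain ⟨A₀, hA₀⟩ := hax.ne
    exact hax.inv _ le_rfl ⟨A₀, hA₀, hax.le A₀ hA₀⟩ t (fun y hy => (T : Subgroup G).mul_mem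
      ((T : Subgroup G).mul_mem ht hy) ((T : Subgroup G).inv_mem ht)) x hx
  have hN₀ := hasN_of_not_npc T hZT hTZ hH
  rw [hsInf] at hN₀
  have h5 := hN₀.iso I.symm (I.im_le hIS)
  have h6 : im I.symm.e (im I.e (sInf 𝒜)) = sInf 𝒜 := I.im_symm hIS
  rwa [h6] at h5

theorem cast_case (hp : p ≠ 2) (hS : IsPGroup p S) {T₀ : Subgroup Ω} (h : T₀ = S) (E : FusionSystem T₀) (F : FusionSystem S)
    (hleF : ∀ P, E.Hom P ⊆ F.Hom P) (hEC : E.IsConstrained p) (hEA : HasAut E p)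
    (𝒜 : Set (Subgroup Ω)) (hle : ∀ A ∈ 𝒜, A ≤ S) (hab : ∀ A ∈ 𝒜, ∀ x ∈ A, ∀ y ∈ A, x * y = y * x)
    (hne : 𝒜.Nonempty)
    (hinv : ∀ Q : Subgroup Ω, Q ≤ S → (∃ A ∈ 𝒜, A ≤ Q) → ∀ f : Ω → Ω, Maps F Q f → (∀ x ∈ Q, f x ∈ Q) →
      ∀ x ∈ Ifam 𝒜 Q, f x ∈ Ifam 𝒜 Q)
    (hrep : ∀ B : Subgroup Ω, B ≤ S → ⁅⁅B, B⁆, B⁆ = ⊥ → (∃ A ∈ 𝒜, ⁅B, B⁆ ≤ A ∧ ¬ B ≤ A) →
      ∃ A ∈ 𝒜, ⁅B, B⁆ ≤ A ∧ ¬ B ≤ A ∧ B ≤ Subgroup.normalizer (A : Set Ω)) :
    HasN F p (sInf 𝒜) := by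
  subst h
  have hmono : ∀ (Q : Subgroup Ω) (f : Ω → Ω), Maps E Q f → Maps F Q f := by
    rintro Q f ⟨φ, hφ, hf⟩
    exact ⟨φ, hleF Q hφ, hf⟩
  obtain ⟨X, χ, hX⟩ := core hp hS hEC hEA 𝒜 hle hab hne
    (fun Q hQ h1 f hf => hinv Q hQ h1 f (hmono Q f hf)) hrep
  exact ⟨X, χ, hX.le, hX.le_norm, hmono _ _ hX.maps, hX.ne, hX.cop, hX.pres⟩

/-- The main step. -/
theorem main_step (hp : p ≠ 2) (hS : IsPGroup p S) {F : FusionSystem S} (hF : F.IsSaturated p) (hA : HasAut F p)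
    (𝒜 : Set (Subgroup Ω)) (hle : ∀ A ∈ 𝒜, A ≤ S) (hab : ∀ A ∈ 𝒜, ∀ x ∈ A, ∀ y ∈ A, x * y = y * x)
    (hne : 𝒜.Nonempty)
    (hinv : ∀ Q : Subgroup Ω, Q ≤ S → (∃ A ∈ 𝒜, A ≤ Q) → ∀ f : Ω → Ω, Maps F Q f → (∀ x ∈ Q, f x ∈ Q) →
      ∀ x ∈ Ifam 𝒜 Q, f x ∈ Ifam 𝒜 Q)
    (hrep : ∀ B : Subgroup Ω, B ≤ S → ⁅⁅B, B⁆, B⁆ = ⊥ → (∃ A ∈ 𝒜, ⁅B, B⁆ ≤ A ∧ ¬ B ≤ A) →
      ∃ A ∈ 𝒜, ⁅B, B⁆ ≤ A ∧ ¬ B ≤ A ∧ B ≤ Subgroup.normalizer (A : Set Ω)) :
    HasN F p (sInf 𝒜) := by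
  have hS1 : S ≠ ⊥ := by
    intro h
    obtain ⟨X, χ, hm, hχ, -⟩ := hA
    apply hχ
    apply afn_ext
    intro x hx
    rw [afn_one hx]
    have h1 := hm.mem hx
    have h2 := hm.le hx
    rw [h, Subgroup.mem_bot] at h1 h2
    rw [h1, h2]
  have hSC : F.StronglyClosed S := ⟨le_rfl, fun R _ φ hφ x => (F.le_of_mem hφ).2 x⟩
  have IH : IHU.{u} p (Nat.card S) := fun h1 F' h2 D' h3 _ h5 => gt_main hp _ h1 F' h2 D' h3 rfl h5
  obtain ⟨Q, hQS, hNS, E, hE, hEC, hEA⟩ := exists_constrained hS hF hSC hS1 IH hA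
  refine cast_case hp hS hNS E F (fun P φ hφ => ?_) hEC hEA 𝒜 hle hab hne hinv hrep
  rw [hE P] at hφ
  exact hφ.1

end Core

/-- An axiomatic Glauberman–Thompson nilpotency criterion for fusion systems. -/
theorem result {Ω : Type*} [Group Ω] {S : Subgroup Ω} [Finite S] (p : ℕ) [Fact p.Prime] (hS : IsPGroup p ↥S) (F : Cfsg.FusionSystem S) (hF : F.IsSaturated p) (hp : p ≠ 2) (𝒜 : Set (Subgroup Ω)) (h𝒜 : ∀ A ∈ 𝒜, A ≤ S ∧ IsMulCommutative ↥A) (hne : 𝒜.Nonempty) (hinv : ∀ Q : Subgroup Ω, Q ≤ S → (∃ A ∈ 𝒜, A ≤ Q) → ∀ α ∈ F.autGroup Q, ∀ x : ↥Q, (x : Ω) ∈ (⨅ A ∈ {A : Subgroup Ω | A ∈ 𝒜 ∧ A ≤ Q}, A) → (((α : MulAut ↥Q) x : ↥Q) : Ω) ∈ (⨅ A ∈ {A : Subgroup Ω | A ∈ 𝒜 ∧ A ≤ Q}, A)) (hrep : ∀ B : Subgroup Ω, B ≤ S → ⁅⁅B, B⁆, B⁆ = ⊥ → (∃ A ∈ 𝒜, ⁅B, B⁆ ≤ A ∧ ¬ B ≤ A) → ∃ A ∈ 𝒜, ⁅B, B⁆ ≤ A ∧ ¬ B ≤ A ∧ B ≤ Subgroup.normalizer (A : Set Ω)) : (∀ P : Subgroup Ω, F.Hom P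 = (Cfsg.innerFusionSystem S).Hom P) ↔ ∀ N : Cfsg.FusionSystem (Cfsg.FusionSystem.normalizerIn S (⨅ A ∈ 𝒜, A)), F.IsNormalizerSystem (⨅ A ∈ 𝒜, A) N → ∀ P : Subgroup Ω, N.Hom P = (Cfsg.innerFusionSystem (Cfsg.FusionSystem.normalizerIn S (⨅ A ∈ 𝒜, A))).Hom P := by
  have e0 : (⨅ A ∈ 𝒜, A) = sInf 𝒜 := sInf_eq_iInf.symm
  rw [e0]
  have hle : ∀ A ∈ 𝒜, A ≤ S := fun A hA => (h𝒜 A hA).1
  have hab : ∀ A ∈ 𝒜, ∀ x ∈ A, ∀ y ∈ A, x * y = y * x := by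
    intro A hA x hx y hy
    have := (h𝒜 A hA).2
    exact congrArg Subtype.val (mul_comm' (⟨x, hx⟩ : A) ⟨y, hy⟩)
  have hIfam : ∀ Q : Subgroup Ω, (⨅ A ∈ {A : Subgroup Ω | A ∈ 𝒜 ∧ A ≤ Q}, A) = Ifam 𝒜 Q := fun Q => sInf_eq_iInf.symm
  have hinv' : ∀ Q : Subgroup Ω, Q ≤ S → (∃ A ∈ 𝒜, A ≤ Q) → ∀ f : Ω → Ω, Maps F Q f → (∀ x ∈ Q, f x ∈ Q) →
      ∀ x ∈ Ifam 𝒜 Q, f x ∈ Ifam 𝒜 Q := by
    intro Q hQ hex f hm hval x hx
    have himg := img_eq_of_card hm hQ hQ hval le_rfl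
    have hxQ : x ∈ Q := by
      obtain ⟨A, hA, hAQ⟩ := hex
      exact hAQ ((mem_Ifam.1 hx) A hA hAQ)
    have h1 := hinv Q hQ hex (hm.toAut himg) (hm.toAut_mem himg) ⟨x, hxQ⟩ (by rw [hIfam]; exact hx)
    rw [hIfam] at h1
    rw [← hm.afn_toAut himg hxQ, afn_of_mem _ hxQ]
    exact h1
  have hIS : sInf 𝒜 ≤ S := by
    obtain ⟨A, hA⟩ := hne
    exact (sInf_le hA).trans (hle A hA)
  have hSI : ∀ g ∈ S, g ∈ Subgroup.normalizer ((sInf 𝒜 : Subgroup Ω) : Set Ω) := by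
    intro g hg
    haveI : Finite (sInf 𝒜 : Subgroup Ω) := finite_of_le hIS
    apply mem_normalizer_of_conj_mem
    intro x hx
    rw [← Ifam_eq_sInf hle] at hx ⊢
    obtain ⟨A₀, hA₀⟩ := hne
    exact hinv' S le_rfl ⟨A₀, hA₀, hle A₀ hA₀⟩ (fun y => g * y * g⁻¹)
      ⟨conjHom S g, F.conj_mem le_rfl hg, fun _ => rfl⟩
      (fun y hy => S.mul_mem (S.mul_mem hg hy) (S.inv_mem hg)) x hx
  have hT : IsPGroup p (normalizerIn S (sInf 𝒜)) := hS.to_le inf_le_left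
  haveI : Finite (normalizerIn S (sInf 𝒜)) := finite_of_le inf_le_left
  constructor
  · intro hin N hN P
    apply Set.Subset.antisymm
    · intro φ hφ
      have hφ' := hφ
      rw [hN P] at hφ'
      obtain ⟨h1, h2, -, -⟩ := hφ'
      rw [hin P] at h1
      obtain ⟨-, g, hg, hgφ⟩ := h1
      exact ⟨h2, g, ⟨hg, hSI g hg⟩, hgφ⟩
    · exact Cfsg.Agent.Lib.FusionAlperin.inner_le N P
  · intro h
    by_contra hne'
    have hA := hasAut_of_not_inner hS hF hne'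
    have hN := main_step hp hS hF hA 𝒜 hle hab hne hinv' hrep
    obtain ⟨E, hE⟩ := exists_normalizerSystem (F := F) hIS
    exact not_hasAut_of_inner hT (h E hE) ((hasAut_iff_hasN hIS hE).2 hN)

end Cfsg.Agent.S5272
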