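import Mathlib
import Cfsg.Statements.S5276
import Cfsg.Agent.Lib.FusionFocalPhi
import Cfsg.Agent.Lib.FusionAlperin

set_option autoImplicit false
open Cfsg
open Cfsg.Agent.Lib.FusionCore

namespace Cfsg.Agent.S5276

/-- Let p be a prime and F a saturated fusion system over a finite p-group S. Then F is the inner fusion system of S if and only if the normalizer fusion system of S itself in F is the inner fusion system (equivalently, Aut_F(S) is induced by S) and the Frattini subgroup Φ(S) is strongly closed in F. -/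
theorem result {Ω : Type*} [Group Ω] {S : Subgroup Ω} [Finite S] (p : ℕ) [Fact p.Prime] (hS : IsPGroup p ↥S) (F : Cfsg.FusionSystem S) (hF : F.IsSaturated p) : (∀ P : Subgroup Ω, F.Hom P = (Cfsg.innerFusionSystem S).Hom P) ↔ (∀ N : Cfsg.FusionSystem (Cfsg.FusionSystem.normalizerIn S S), F.IsNormalizerSystem S N → ∀ P : Subgroup Ω, N.Hom P = (Cfsg.innerFusionSystem (Cfsg.FusionSystem.normalizerIn S S)).Hom P) ∧ F.StronglyClosed ((frattini ↥S).map S.subtype) := by
  have hDS : (frattini ↥S).map S.subtype ≤ S := Subgroup.map_subtype_le _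
  have hDn : ∀ g ∈ S, ∀ x ∈ (frattini ↥S).map S.subtype, g * x * g⁻¹ ∈ (frattini ↥S).map S.subtype := by
    rintro g hg _ ⟨x, hx, rfl⟩
    have h1 : (⟨g, hg⟩ : ↥S) * x * (⟨g, hg⟩ : ↥S)⁻¹ ∈ frattini ↥S := (inferInstance : (frattini ↥S).Normal).conj_mem _ hx _
    exact ⟨_, h1, rfl⟩
  have hSN : S ≤ Cfsg.FusionSystem.normalizerIn S S := le_normalizerIn le_rfl
  constructor
  · intro hin
    refine ⟨fun N hN P => ?_, hDS, fun R hR φ hφ x => ?_⟩
    · rw [hN P]
      ext φ
      constructor
      · rintro ⟨h1, h2, -, -⟩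
        rw [hin P] at h1
        obtain ⟨-, g, hg, hφ⟩ := h1
        exact ⟨h2, g, hSN hg, hφ⟩
      · rintro ⟨hP, g, hg, hφ⟩
        have hgS : g ∈ S := hg.1
        have hPS : P ≤ S := hP.trans inf_le_left
        refine ⟨?_, hP, fun x => ?_, ?_⟩
        · rw [hin P]
          exact ⟨hPS, g, hgS, hφ⟩
        · rw [hφ]
          exact Subgroup.mul_mem _ (Subgroup.mul_mem _ hg (hP x.2)) (Subgroup.inv_mem _ hg)
        · have hPSS : P ⊔ S ≤ S := sup_le hPS le_rfl
          refine ⟨conjHom (P ⊔ S) g, F.conj_mem hPSS hgS, fun x => ?_, ?_⟩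
          · rw [hφ]
            rfl
          · ext y
            constructor
            · rintro ⟨z, hz, rfl⟩
              exact S.mul_mem (S.mul_mem hgS hz) (S.inv_mem hgS)
            · intro hy
              refine ⟨⟨g⁻¹ * y * g, Subgroup.mem_sup_right (S.mul_mem (S.mul_mem (S.inv_mem hgS) hy) hgS)⟩,
                S.mul_mem (S.mul_mem (S.inv_mem hgS) hy) hgS, ?_⟩
              show g * (g⁻¹ * y * g) * g⁻¹ = y
              group
    · rw [hin R] at hφ
      obtain ⟨-, g, hg, h1⟩ := hφ
      rw [h1]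
      exact hDn g hg _ (hR x.2)
  · rintro ⟨hN, hsc⟩
    obtain ⟨N, hNs⟩ := Cfsg.Agent.Lib.FusionCore.exists_normalizerSystem (F := F) (le_refl S)
    have haut : ∀ f, Maps F S f → ∃ s ∈ S, ∀ x ∈ S, f x = s * x * s⁻¹ := by
      intro f hf
      have himg : ∀ y ∈ S, ∃ x ∈ S, f x = y := by
        have h1 : img f S = S := img_eq_of_card hf le_rfl le_rfl (fun x hx => hf.mem hx) le_rfl
        intro y hy
        rw [← h1] at hy
        exact hf.mem_img.1 hy
      have hmem : hf.hom ∈ N.Hom S := by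
        rw [hNs S]
        refine ⟨hf.hom_mem, hSN, fun x => ?_, ?_⟩
        · rw [hf.hom_apply]
          exact hSN (hf.mem x.2)
        · have hsup : Maps F (S ⊔ S) f := hf.restrict (sup_le le_rfl le_rfl)
          refine ⟨hsup.hom, hsup.hom_mem, fun x => ?_, ?_⟩
          · rw [hsup.hom_apply, hf.hom_apply]
            rfl
          · ext y
            constructor
            · rintro ⟨z, -, rfl⟩
              rw [hsup.hom_apply]
              exact hf.mem ((sup_le le_rfl le_rfl : S ⊔ S ≤ S) z.2)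
            · intro hy
              obtain ⟨x, hx, rfl⟩ := himg y hy
              refine ⟨⟨x, le_sup_left (a := S) hx⟩, hx, ?_⟩
              rw [hsup.hom_apply]
      rw [hN N hNs S] at hmem
      obtain ⟨-, g, hg, h1⟩ := hmem
      refine ⟨g, hg.1, fun x hx => ?_⟩
      rw [← h1 ⟨x, hx⟩, hf.hom_apply]
    have hcomm : ⁅S, S⁆ ≤ (frattini ↥S).map S.subtype := by
      have h1 := Subgroup.map_mono (f := S.subtype) (Cfsg.Agent.Lib.Frat.commutator_le_frattini (G := ↥S) hS)
      rwa [commutator_def, Subgroup.map_commutator, ← MonoidHom.range_eq_map, Subgroup.range_subtype] at h1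
    have hfoc := Cfsg.Agent.Lib.FusionFocalPhi.focal_le_of_stronglyClosed hS hF hcomm hsc haut
    have hinS := Cfsg.Agent.Lib.FusionNormalCrit.inner_isSaturated hS
    have hHF : (innerFusionSystem S).IsSubsystemOf F := fun P => Cfsg.Agent.Lib.FusionAlperin.inner_le F P
    have hfoci : (innerFusionSystem S).focalSubgroup ≤ (frattini ↥S).map S.subtype :=
      Cfsg.Agent.Lib.FusionFocalPhi.focal_le_of_stronglyClosed hS hinS hcomm
        ⟨hDS, fun R hR φ hφ x => by
          obtain ⟨-, g, hg, h1⟩ := hφ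
          rw [h1]
          exact hDn g hg _ (hR x.2)⟩
        (fun f hf => by
          obtain ⟨g, hg, h1⟩ := Cfsg.Agent.Lib.FusionSplit.maps_inner hf
          exact ⟨g, hg, h1⟩)
    have h1 := Cfsg.Agent.Lib.FusionSplit.focal_eq_of_frattini hS hF hHF (by
      rw [sup_eq_left.2 hfoc, sup_eq_left.2 hfoci])
    have h2 := Cfsg.Agent.Lib.FusionSplit.hyp_eq_of_focal hS hF hinS hHF h1
    rw [Cfsg.Agent.Lib.FusionFocalPhi.hyp_inner hS] at h2
    exact Cfsg.Agent.Lib.FusionFocalPhi.inner_of_hyp_eq_bot hS hF h2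

end Cfsg.Agent.S5276
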