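import Mathlib
import Cfsg.Statements.S5281
import Cfsg.Agent.Lib.FusionPStable
import Cfsg.Statements.S5281

set_option autoImplicit false
open Cfsg

namespace Cfsg.Agent.S5281

open Cfsg.FusionSystem Cfsg.Agent.Lib.FusionCore Cfsg.Agent.Lib.FusionCore2 Cfsg.Agent.Lib.FusionCore3 Cfsg.Agent.Lib.FusionPStable



/-- Let p be an odd prime and F a saturated fusion system over a finite p-group S. Call a fusion system E (over any subgroup) p-stable when, for every fully E-normalized subgroup Q and every χ in Aut_E(Q) with χ(a⁻¹)·a·χ(a⁻¹)·χ(χ(a)) = 1 for all a in Q (χ acts quadratically), χ lies in O_p(Aut_E(Q)). Then F is p-stable if and only if the normalizer fusion system of R in F is p-stable for every fully F-normalized, F-centric, F-radical subgroup R of S. -/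
theorem result {Ω : Type*} [Group Ω] {S : Subgroup Ω} [Finite S] (p : ℕ) [Fact p.Prime] (hS : IsPGroup p ↥S) (F : Cfsg.FusionSystem S) (hF : F.IsSaturated p) (hp : p ≠ 2) : (∀ Q : Subgroup Ω, F.IsFullyNormalized Q → ∀ χ : MulAut ↥Q, χ ∈ F.autGroup Q → (∀ a : ↥Q, (χ a⁻¹) * a * (χ a⁻¹) * (χ (χ a)) = 1) → χ ∈ ((Cfsg.pCore p ↥(F.autGroup Q)).map (F.autGroup Q).subtype : Subgroup (MulAut ↥Q))) ↔ ∀ R : Subgroup Ω, F.IsFullyNormalized R → F.IsCentric R → F.IsRadical p R → ∀ N : Cfsg.FusionSystem (Cfsg.FusionSystem.normalizerIn S R), F.IsNormalizerSystem R N → (∀ Q : Subgroup Ω, N.IsFullyNormalized Q → ∀ χ : MulAut ↥Q, χ ∈ N.autGroup Q → (∀ a : ↥Q, (χ a⁻¹) * a * (χ a⁻¹) * (χ (χ a)) = 1) → χ ∈ ((Cfsg.pCore p ↥(N.autGroup Q)).map (N.autGroup Q).subtype : Subgroup (MulAut ↥Q))) := by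
  constructor
  · intro hst R _ _ _ N hN Q hQ χ hχ hq
    have hQN : Q ≤ normalizerIn S R := hQ.1
    have hRQ : Q ≤ S := hQN.trans inf_le_left
    haveI := finite_mulAut hRQ
    obtain ⟨Q', ψ, hconj, hA, hRc, hψ, -, himg⟩ := exists_sat_conj hS hF hRQ
    have hQ'fn : F.IsFullyNormalized Q' := fullyNormalized_of_automized_receptive hS hA hRc
    have hψQ := hψ.restrict (le_normalizerIn hRQ)
    have hStab : Stable F p Q := stable_conj hψQ himg (fun χ' hχ' hq' => hst Q' hQ'fn χ' hχ' hq')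
    have hle : N.autGroup Q ≤ F.autGroup Q := by
      intro α hα
      have h1 := Maps_of_mem_autGroup hQN hα
      rw [maps_normalizer_iff hN] at h1
      obtain ⟨-, -, g, hg, hg1, -⟩ := h1
      rw [mem_autGroup_iff hRQ]
      exact (hg.restrict le_sup_left).congr hg1
    have h2 := hStab χ (hle hχ) hq
    obtain ⟨D, hDA, hDp, hDn, hχD⟩ := (mem_op_iff (p := p) _ _).1 h2
    refine (mem_op_iff _ _).2 ⟨D ⊓ N.autGroup Q, inf_le_right, hDp.to_le inf_le_left, ?_, hχD, hχ⟩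
    intro β hβ δ hδ
    exact ⟨hDn β (hle hβ) δ hδ.1, (N.autGroup Q).mul_mem ((N.autGroup Q).mul_mem hβ hδ.2) ((N.autGroup Q).inv_mem hβ)⟩
  · intro hst Q hQ χ hχ hq
    exact stable_of_good hS hF (fun R h1 h2 h3 N hN Q' hQ' χ' hχ' hq' => hst R h1 h2 h3 N hN Q' hQ' χ' hχ' hq')
      _ Q _ le_rfl hQ (good_start hS hF hQ) χ hχ hq
end Cfsg.Agent.S5281
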