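import Mathlib
import Cfsg.Statements.S5294
import Cfsg.Agent.S5144
import Cfsg.Agent.S5145
import Cfsg.Agent.S5290
import Cfsg.Agent.Lib.FusionCore
import Cfsg.Agent.Lib.FusionNormal

set_option autoImplicit false
open Cfsg

namespace Cfsg.Agent.S5294

section trace

variable {A V : Type*} [Group A] [CommGroup V] (act : A →* Monoid.End V) (B : Subgroup A)

/-- Fixed points of a subgroup. -/
def fixS (B : Subgroup A) : Subgroup V where
  carrier := {v | ∀ b ∈ B, act b v = v}
  mul_mem' := fun {x y} hx hy b hb => by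
    show (act b : V →* V) (x * y) = x * y
    rw [map_mul]
    exact congrArg₂ (· * ·) (hx b hb) (hy b hb)
  one_mem' := fun b _ => (act b : V →* V).map_one
  inv_mem' := fun {x} hx b hb => by
    show (act b : V →* V) x⁻¹ = x⁻¹
    rw [map_inv]
    exact congrArg _ (hx b hb)

variable [Finite (A ⧸ B)]

/-- The trace map. -/
noncomputable def tr : V →* V :=
  letI := Fintype.ofFinite (A ⧸ B)
  MonoidHom.mk' (fun v => ∏ c : A ⧸ B, (act (Quotient.out c) : V →* V) v) (fun x y => by
    simp only [map_mul, Finset.prod_mul_distrib])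

lemma tr_apply (v : V) : 
    letI := Fintype.ofFinite (A ⧸ B)
    tr act B v = ∏ c : A ⧸ B, (act (Quotient.out c) : V →* V) v := rfl

lemma tr_fixed {v : V} (hv : v ∈ fixS act B) (a : A) : (act a : V →* V) (tr act B v) = tr act B v := by
  letI := Fintype.ofFinite (A ⧸ B)
  rw [tr_apply, map_prod]
  refine Fintype.prod_equiv (MulAction.toPerm a) _ _ (fun c => ?_)
  have h1 : ((a * Quotient.out c : A) : A ⧸ B) = a • c := by
    conv_rhs => rw [← QuotientGroup.out_eq' c]
    rfl
  have h2 : (Quotient.out (a • c))⁻¹ * (a * Quotient.out c) ∈ B := by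
    rw [← QuotientGroup.eq, QuotientGroup.out_eq', h1]
  set b := (Quotient.out (a • c))⁻¹ * (a * Quotient.out c) with hb
  have h3 : a * Quotient.out c = Quotient.out (a • c) * b := by
    rw [hb]; group
  have h4 : (act a : V →* V) ((act (Quotient.out c) : V →* V) v) =
      (act (a * Quotient.out c) : V →* V) v := by
    rw [map_mul]; rfl
  rw [h4, h3, map_mul]
  show (act (Quotient.out (a • c)) : V →* V) ((act b : V →* V) v) = _
  rw [show (act b : V →* V) v = v from hv b h2]
  rfl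

lemma tr_of_fixed {z : V} (hz : ∀ a, (act a : V →* V) z = z) : tr act B z = z ^ B.index := by
  letI := Fintype.ofFinite (A ⧸ B)
  rw [tr_apply]
  simp only [hz, Finset.prod_const, Finset.card_univ]
  rw [Subgroup.index, Nat.card_eq_fintype_card]

theorem decomp {p : ℕ} [Fact p.Prime] [Finite V] (hV : IsPGroup p V) (hB : ¬ p ∣ B.index) :
    ∃ K : Subgroup V, K ≤ fixS act B ∧ (∀ z, (∀ a, (act a : V →* V) z = z) → z ∈ K → z = 1) ∧
      ∀ v ∈ fixS act B, ∃ z, (∀ a, (act a : V →* V) z = z) ∧ ∃ k ∈ K, v = z * k := by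
  have hco : Nat.Coprime (Nat.card V) B.index := by
    obtain ⟨k, hk⟩ := hV.exists_card_eq
    rw [hk]
    exact Nat.Coprime.pow_left _ ((Nat.Prime.coprime_iff_not_dvd Fact.out).2 hB)
  have hinj : ∀ x y : V, x ^ B.index = y ^ B.index → x = y := fun x y h =>
    (powCoprime hco).injective h
  have hsur : ∀ t : V, ∃ z : V, z ^ B.index = t := fun t => (powCoprime hco).surjective t
  refine ⟨(tr act B).ker ⊓ fixS act B, inf_le_right, fun z hz hzK => ?_, fun v hv => ?_⟩
  · have h1 : tr act B z = 1 := hzK.1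
    rw [tr_of_fixed act B hz] at h1
    exact hinj z 1 (by rw [h1, one_pow])
  · obtain ⟨z, hz⟩ := hsur (tr act B v)
    have hfz : ∀ a, (act a : V →* V) z = z := by
      intro a
      apply hinj
      rw [← map_pow, hz, tr_fixed act B hv]
    refine ⟨z, hfz, z⁻¹ * v, ⟨?_, ?_⟩, by group⟩
    · show tr act B (z⁻¹ * v) = 1
      rw [map_mul, map_inv, tr_of_fixed act B hfz, hz, inv_mul_cancel]
    · refine (fixS act B).mul_mem ((fixS act B).inv_mem ?_) hv
      intro b _
      exact hfz b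

end trace

/-- The commutative group structure on the centre. -/
abbrev centerComm (Q : Type*) [Group Q] : CommGroup (Subgroup.center Q) :=
  { (Subgroup.center Q).toGroup with
    mul_comm := fun a b => Subtype.ext (Subgroup.mem_center_iff.1 b.2 a) }

/-- The action of the automorphism group on the centre. -/
def actC (Q : Type*) [Group Q] : MulAut Q →* Monoid.End (Subgroup.center Q) where
  toFun a := { 
    toFun := fun v => ⟨a v, by
      rw [Subgroup.mem_center_iff]
      intro g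
      have := Subgroup.mem_center_iff.1 v.2 (a⁻¹ g)
      have h2 := congrArg a this
      simpa using h2⟩
    map_one' := by ext; simp
    map_mul' := fun x y => by ext; simp }
  map_one' := by ext; rfl
  map_mul' := fun a b => by ext; rfl

universe u

open Cfsg.FusionSystem Cfsg.Agent.Lib.FusionCore

theorem result {Ω : Type u} [Group Ω] {S : Subgroup Ω} [Finite S] (p : ℕ) [Fact p.Prime] (hS : IsPGroup p S)
    (F : Cfsg.FusionSystem S) (hF : F.IsSaturated p) (hZ : (S ⊓ Subgroup.centralizer (S : Set Ω)) ≤ F.core) :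
    ∃ K : Subgroup Ω, K ≤ (S ⊓ Subgroup.centralizer (S : Set Ω)) ∧ F.center ⊓ K = ⊥ ∧ F.center ⊔ K = (S ⊓ Subgroup.centralizer (S : Set Ω)) := by
  set Q := F.core with hQdef
  have hQn : F.IsNormal Q := Cfsg.Agent.S5145.result F
  have hQS : Q ≤ S := hQn.1
  have hnorm : S ≤ Subgroup.normalizer (Q : Set Ω) := Cfsg.Agent.Lib.FusionNormal.IsNormal.le_normalizer hQn
  have hsc := Cfsg.Agent.S5290.stronglyClosed_of_isNormal hQn
  haveI : Finite Q := finite_of_le hQS
  -- fully automized
  have hFA : F.IsFullyAutomized p Q := by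
    obtain ⟨Q', hc, hfa, -⟩ := hF Q hQS
    have hQQ' : Q' = Q := by
      obtain ⟨f, hf, himg⟩ := isConj_iff.1 hc
      haveI : Finite Q' := finite_of_le (IsConj_le' hc)
      apply Subgroup.eq_of_le_of_card_ge
      · rw [← himg]
        obtain ⟨φ, hφ, hfφ⟩ := hf
        rw [img_eq_range φ hfφ]
        rintro _ ⟨x, rfl⟩
        exact hsc.2 Q le_rfl φ hφ x
      · exact (IsConj_card hc).le
    rwa [hQQ'] at hfa
  haveI : Finite (MulAut Q) := finite_mulAut hQS
  set A := F.autGroup Q with hA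
  let act : A →* Monoid.End (Subgroup.center Q) := (actC Q).comp A.subtype
  let B : Subgroup A := (autInducedBy S Q).subgroupOf A
  have hB : ¬ p ∣ B.index := (isFullyAutomized_iff hS hQS).1 hFA
  have hV : IsPGroup p (Subgroup.center Q) := ((hS.to_le hQS)).to_subgroup _
  letI := centerComm Q
  obtain ⟨K, hK1, hK2, hK3⟩ := decomp (V := Subgroup.center Q) act B hV hB
  let e : Subgroup.center Q →* Ω := Q.subtype.comp (Subgroup.center Q).subtype
  have he : Function.Injective e := Q.subtype_injective.comp (Subgroup.center Q).subtype_injective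
  have heQ : ∀ v, e v ∈ Q := fun v => (v : Q).2
  have hcoe : ∀ (a : A) v, e ((act a : _ →* _) v) = afn (a : MulAut Q) (e v) := fun a v => 
    (afn_of_mem _ (heQ v)).symm
  -- the description of `Z(S)`
  have hfix1 : ∀ v ∈ fixS act B, e v ∈ S ⊓ Subgroup.centralizer (S : Set Ω) := by
    intro v hv
    refine ⟨hQS (heQ v), Subgroup.mem_centralizer_iff.2 fun s hs => ?_⟩
    have hsN : s ∈ normalizerIn S Q := ⟨hs, hnorm hs⟩
    have hαA : conjN S Q ⟨s, hsN⟩ ∈ autInducedBy S Q := by
      rw [← conjN_range]; exact ⟨_, rfl⟩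
    have hαA' : conjN S Q ⟨s, hsN⟩ ∈ A := autInducedBy_le_autGroup hQS hαA
    have h1 := hv ⟨_, hαA'⟩ (Subgroup.mem_subgroupOf.2 hαA)
    have h2 := hcoe ⟨_, hαA'⟩ v
    rw [show ((act ⟨_, hαA'⟩ : _ →* _) v) = v from h1, afn_conjN _ (heQ v)] at h2
    show s * e v = e v * s
    conv_rhs => rw [h2]
    simp
  have hfix2 : ∀ x ∈ S ⊓ Subgroup.centralizer (S : Set Ω), ∃ v ∈ fixS act B, e v = x := by
    intro x hx
    have hxQ : x ∈ Q := hZ hx
    have hcent : ∀ s ∈ S, s * x = x * s := fun s hs => Subgroup.mem_centralizer_iff.1 hx.2 s hs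
    have hxc : (⟨x, hxQ⟩ : Q) ∈ Subgroup.center Q := by
      rw [Subgroup.mem_center_iff]
      intro g
      exact Subtype.ext (hcent g (hQS g.2))
    refine ⟨⟨⟨x, hxQ⟩, hxc⟩, fun b hb => ?_, rfl⟩
    apply he
    have h1 := hcoe b ⟨⟨x, hxQ⟩, hxc⟩
    obtain ⟨g, hg, hgx⟩ := mem_autInducedBy.1 (Subgroup.mem_subgroupOf.1 hb)
    refine h1.trans ?_
    show afn _ x = x
    rw [hgx x hxQ, hcent g hg, mul_inv_cancel_right]
  have hCent : F.IsCentral F.center := Cfsg.Agent.S5144.result F
  have hCent' := (isCentral_iff.1 hCent).2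
  have hCZ : F.center ≤ S ⊓ Subgroup.centralizer (S : Set Ω) := by
    intro x hx
    have hxS : x ∈ S := hCent.1 hx
    refine ⟨hxS, Subgroup.mem_centralizer_iff.2 fun s hs => ?_⟩
    obtain ⟨g, -, h1, h2⟩ := hCent' S _ (Maps.conj (F := F) le_rfl hs)
    have h3 := h1 x hxS
    rw [h2 x hx] at h3
    show s * x = x * s
    have h4 : s * x * s⁻¹ = x := h3.symm
    calc s * x = s * x * s⁻¹ * s := by group
      _ = x * s := by rw [h4]
  have hc1 : ∀ x ∈ F.center, ∃ v, (∀ a, (act a : _ →* _) v = v) ∧ e v = x := by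
    intro x hx
    obtain ⟨v, -, hvx⟩ := hfix2 x (hCZ hx)
    refine ⟨v, fun a => ?_, hvx⟩
    apply he
    rw [hcoe, hvx]
    obtain ⟨g, -, h1, h2⟩ := hCent' Q _ (Maps_of_mem_autGroup hQS a.2)
    have h3 := h1 x (hvx ▸ heQ v)
    rw [h2 x hx] at h3
    exact h3.symm
  have hc2 : ∀ v, (∀ a, (act a : _ →* _) v = v) → e v ∈ F.center := by
    intro v hv
    let W : Subgroup Ω := (fixS act ⊤).map e
    have hWQ : W ≤ Q := by
      rintro _ ⟨u, -, rfl⟩
      exact heQ u
    have hW : F.IsCentral W := by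
      refine isCentral_iff.2 ⟨hWQ.trans hQS, fun P f hf => ?_⟩
      obtain ⟨g, hg, hg1, hg2⟩ := (isNormal_iff.1 hQn).2 P f hf
      have hgQ : Maps F Q g := hg.restrict le_sup_right
      refine ⟨g, hg.restrict (sup_le_sup_left hWQ P), hg1, ?_⟩
      rintro _ ⟨u, hu, rfl⟩
      have h1 := hgQ.afn_toAut hg2 (heQ u)
      have h2 := hcoe ⟨_, hgQ.toAut_mem hg2⟩ u
      rw [show ((act ⟨_, hgQ.toAut_mem hg2⟩ : _ →* _) u) = u from hu _ (Subgroup.mem_top _)] at h2
      rw [← h1]
      exact h2.symm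
    exact (le_sSup hW : W ≤ F.center) ⟨v, fun a _ => hv a, rfl⟩
  refine ⟨K.map e, ?_, ?_, ?_⟩
  · rintro _ ⟨k, hk, rfl⟩
    exact hfix1 k (hK1 hk)
  · rw [eq_bot_iff]
    rintro x ⟨hx1, k, hk, rfl⟩
    obtain ⟨v, hv, hvx⟩ := hc1 _ hx1
    have : v = k := he hvx
    subst this
    rw [hK2 v hv hk, map_one]
    exact Subgroup.one_mem _
  · apply le_antisymm
    · refine sup_le hCZ ?_
      rintro _ ⟨k, hk, rfl⟩
      exact hfix1 k (hK1 hk)
    · intro x hx
      obtain ⟨v, hv, rfl⟩ := hfix2 x hx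
      obtain ⟨z, hz, k, hk, rfl⟩ := hK3 v hv
      rw [map_mul]
      exact Subgroup.mul_mem_sup (hc2 z hz) ⟨k, hk, rfl⟩

end Cfsg.Agent.S5294
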