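import Mathlib
import Cfsg.Statements.S5296
import Cfsg.Agent.Lib.FusionSmallExp

set_option autoImplicit false
universe u
open Cfsg
open Cfsg.Agent.Lib.FusionCore

namespace Cfsg.Agent.S5296

/-- Small-exponent abelian subgroups of the hyperfocal subgroup control fusion. Let E and F be saturated fusion systems over the same finite p-group S with E contained in F. Suppose that E and F have the same maps between A and B for all subgroups A, B of the hyperfocal subgroup of F that are elementary abelian when p is odd, respectively abelian of exponent dividing 4 when p = 2. Then E = F. -/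
theorem result {Ω : Type u} [Group Ω] {S : Subgroup Ω} [Finite S] (p : ℕ) [Fact p.Prime] (hS : IsPGroup p S)
    (E F : Cfsg.FusionSystem S) (hE : E.IsSaturated p) (hF : F.IsSaturated p) (hEF : E.IsSubsystemOf F)
    (hodd : p ≠ 2 → ∀ A B : Subgroup Ω, A ≤ (F.hyperfocalSubgroup p) → B ≤ (F.hyperfocalSubgroup p) →
      Cfsg.IsElementaryAbelian p A → Cfsg.IsElementaryAbelian p B → E.homSet A B = F.homSet A B)
    (htwo : p = 2 → ∀ A B : Subgroup Ω, A ≤ (F.hyperfocalSubgroup p) → B ≤ (F.hyperfocalSubgroup p) →
      IsMulCommutative ↥A → IsMulCommutative ↥B → (∀ a ∈ A, a ^ 4 = 1) → (∀ b ∈ B, b ^ 4 = 1) → E.homSet A B = F.homSet A B) :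
    ∀ P : Subgroup Ω, E.Hom P = F.Hom P := by
  classical
  have hHsc := Cfsg.Agent.Lib.FusionHyperfocal.hyperfocal_stronglyClosed hS hF
  have key : F ≤ E := by
    refine Cfsg.Agent.Lib.FusionSmallExp.small_exp hS hF hE (fun P φ hφ => hEF P hφ) (fun A hA hSm f hf => ?_)
    have hB : img f A ≤ F.hyperfocalSubgroup p := by
      intro y hy
      obtain ⟨x, hx, rfl⟩ := hf.mem_img.1 hy
      have := hHsc.2 A hA hf.hom hf.hom_mem ⟨x, hx⟩
      rwa [hf.hom_apply] at this
    have hSmB := hSm.img hf
    have hcomm : ∀ {X : Subgroup Ω}, Cfsg.Agent.Lib.FusionSmallExp.Sm p X → IsMulCommutative ↥X := fun h =>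
      ⟨⟨fun a b => Subtype.ext (h.1 a a.2 b b.2)⟩⟩
    have hmem : hf.hom ∈ F.homSet A (img f A) := by
      refine ⟨hf.hom_mem, fun x => ?_⟩
      rw [hf.hom_apply]
      exact hf.mem_img_of_mem x.2
    have heq : E.homSet A (img f A) = F.homSet A (img f A) := by
      by_cases hp : p = 2
      · refine htwo hp A _ hA hB (hcomm hSm) (hcomm hSmB) ?_ ?_
        · intro a ha
          have := hSm.2 a ha
          simpa [Cfsg.Agent.Lib.FusionSmallExp.expo, hp] using this
        · intro a ha
          have := hSmB.2 a ha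
          simpa [Cfsg.Agent.Lib.FusionSmallExp.expo, hp] using this
      · refine hodd hp A _ hA hB ⟨hcomm hSm, ?_⟩ ⟨hcomm hSmB, ?_⟩
        · intro a ha
          have := hSm.2 a ha
          simpa [Cfsg.Agent.Lib.FusionSmallExp.expo, hp] using this
        · intro a ha
          have := hSmB.2 a ha
          simpa [Cfsg.Agent.Lib.FusionSmallExp.expo, hp] using this
    rw [← heq] at hmem
    exact ⟨hf.hom, hmem.1, hf.hom_apply⟩
  intro P
  exact Set.Subset.antisymm (hEF P) (key P)

end Cfsg.Agent.S5296
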