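import Mathlib
import Cfsg.Statements.S5299

set_option autoImplicit false
universe u
open Cfsg

namespace Cfsg.Agent.S5299

/-- `Q` is a quotient of a subgroup of `G`. -/
theorem involves_of_surj {G Q : Type*} [Group G] [Group Q] (K : Subgroup G) (f : K →* Q)
    (hf : Function.Surjective f) : Involves Q G := by
  have h : (f.ker.map K.subtype).subgroupOf K = f.ker :=
    Subgroup.comap_map_eq_self_of_injective K.subtype_injective _
  have hn : ((f.ker.map K.subtype).subgroupOf K).Normal := by rw [h]; infer_instance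
  refine ⟨K, f.ker.map K.subtype, hn, ⟨?_⟩⟩
  exact (QuotientGroup.quotientMulEquivOfEq h).trans (QuotientGroup.quotientKerEquivOfSurjective f hf)

/-- A section of `L` isomorphic to `H` gives, for each `p`-subgroup `Q` of `H`, a `p`-subgroup of `L` mapping onto `Q`. -/
theorem exists_pSubgroup_surj {L H : Type*} [Group L] [Finite L] [Group H] (p : ℕ) [Fact p.Prime]
    (hI : Involves H L) (Q : Subgroup H) (hQ : IsPGroup p Q) :
    ∃ (A : Subgroup L) (f : A →* Q), IsPGroup p A ∧ Function.Surjective f := by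
  obtain ⟨K, R, hn, ⟨e⟩⟩ := hI
  let π : K →* H := e.toMonoidHom.comp (QuotientGroup.mk' (R.subgroupOf K))
  have hπ : Function.Surjective π := e.surjective.comp (QuotientGroup.mk'_surjective _)
  let K₀ : Subgroup K := Q.comap π
  let π₀ : K₀ →* Q := π.subgroupComap Q
  have hπ₀ : Function.Surjective π₀ := π.subgroupComap_surjective_of_surjective Q hπ
  obtain ⟨A₀⟩ : Nonempty (Sylow p K₀) := inferInstance
  -- the image of `A₀` in `Q` is all of `Q`
  have htop : (A₀ : Subgroup K₀).map π₀ = ⊤ := by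
    have h1 : ((A₀.mapSurjective hπ₀ : Sylow p Q) : Subgroup Q) = (A₀ : Subgroup K₀).map π₀ :=
      Sylow.coe_mapSurjective hπ₀ A₀
    rw [← h1]
    exact ((A₀.mapSurjective hπ₀).is_maximal' (hQ.to_subgroup ⊤) le_top).symm
  let g : K₀ →* L := K.subtype.comp K₀.subtype
  have hg : Function.Injective g := K.subtype_injective.comp K₀.subtype_injective
  let e₁ := (A₀ : Subgroup K₀).equivMapOfInjective g hg
  refine ⟨(A₀ : Subgroup K₀).map g, (π₀.comp (A₀ : Subgroup K₀).subtype).comp e₁.symm.toMonoidHom,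
    A₀.isPGroup'.map g, ?_⟩
  intro y
  have hy : y ∈ (A₀ : Subgroup K₀).map π₀ := by rw [htop]; trivial
  obtain ⟨a, ha, rfl⟩ := hy
  refine ⟨e₁ ⟨a, ha⟩, ?_⟩
  simp

/-- Let F be a saturated fusion system over a finite p-group S, H a finite group and Q a p-subgroup of H. If Q is not involved in S (no section of S is isomorphic to Q), then F is H-free: H is involved in no model of the normalizer system of a fully normalized centric subgroup. -/
theorem result {Ω : Type u} [Group Ω] {S : Subgroup Ω} [Finite S] (p : ℕ) [Fact p.Prime] (hS : IsPGroup p S)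
    (F : Cfsg.FusionSystem S) (hF : F.IsSaturated p) (H : Type*) [Group H] [Finite H] (Q : Subgroup H) (hQ : IsPGroup p Q)
    (hfree : ¬ Cfsg.Involves (↥Q) (↥S)) : F.IsSectionFree p H := by
  intro R _ _ N _ L _ ι hmodel hI
  obtain ⟨hfin, ⟨hinj, -⟩, ⟨T, hT⟩, -⟩ := hmodel
  obtain ⟨A, f, hAp, hf⟩ := exists_pSubgroup_surj p hI Q hQ
  obtain ⟨T', hT'⟩ := hAp.exists_le_sylow
  obtain ⟨g, hg⟩ := MulAction.exists_smul_eq L T T'
  -- transport along the conjugation by `g`
  have hT'2 : (T' : Subgroup L) = (T : Subgroup L).map (MulAut.conj g).toMonoidHom := by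
    rw [← hg]; rfl
  let γ : ↥(FusionSystem.normalizerIn S R) →* L := (MulAut.conj g).toMonoidHom.comp ι
  have hA : ∀ a : A, ∃ x, γ x = a := by
    intro a
    have h1 := hT' a.2
    rw [hT'2, hT] at h1
    obtain ⟨_, ⟨x, rfl⟩, hx⟩ := h1
    exact ⟨x, hx⟩
  have hγ : Function.Injective γ := (MulAut.conj g).injective.comp hinj
  let A' : Subgroup S := (A.comap γ).map (Subgroup.inclusion (inf_le_left : FusionSystem.normalizerIn S R ≤ S))
  have hincl : Function.Injective (Subgroup.inclusion (inf_le_left : FusionSystem.normalizerIn S R ≤ S)) :=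
    Subgroup.inclusion_injective _
  let e₂ := (A.comap γ).equivMapOfInjective _ hincl
  let f₂ : A' →* Q := (f.comp (γ.subgroupComap A)).comp e₂.symm.toMonoidHom
  apply hfree
  refine involves_of_surj A' f₂ ?_
  intro y
  obtain ⟨a, rfl⟩ := hf y
  obtain ⟨x, hx⟩ := hA a
  have hxA : x ∈ A.comap γ := by
    rw [Subgroup.mem_comap, hx]; exact a.2
  refine ⟨e₂ ⟨x, hxA⟩, ?_⟩
  have : γ.subgroupComap A ⟨x, hxA⟩ = a := Subtype.ext hx
  show f (γ.subgroupComap A (e₂.symm (e₂ ⟨x, hxA⟩))) = f a
  rw [MulEquiv.symm_apply_apply, this]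

end Cfsg.Agent.S5299
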