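import Mathlib
import Cfsg.Statements.S5315
import Cfsg.Agent.S5144
import Cfsg.Agent.S5084
import Cfsg.Agent.Lib.FusionCore
import Cfsg.Agent.Lib.FusionFactor
import Cfsg.Agent.Lib.FusionStrongClosed
import Cfsg.Agent.Lib.FusionFocal
import Cfsg.Agent.Lib.FusionAbelianDecomp

set_option autoImplicit false
open Cfsg

namespace Cfsg.Agent.S5315

open Cfsg.FusionSystem Cfsg.Agent.Lib.FusionCore

section

variable {Ω : Type*} [Group Ω] {S : Subgroup Ω} [Finite S] {F : FusionSystem S}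

lemma fix_center {R : Subgroup Ω} {g : Ω → Ω} (hg : Maps F R g) {z : Ω} (hzR : z ∈ R) (hz : z ∈ F.center) :
    g z = z := by
  obtain ⟨g', -, h1, h2⟩ := (isCentral_iff.1 (Cfsg.Agent.S5144.result F)).2 R g hg
  rw [← h1 z hzR, h2 z hz]

lemma center_le : F.center ≤ S := (Cfsg.Agent.S5144.result F).1

lemma center_comm {z s : Ω} (hz : z ∈ F.center) (hs : s ∈ S) : Commute s z := by
  have h := fix_center (Maps.conj (F := F) (P := S) le_rfl hs) (center_le hz) hz
  show s * z = z * s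
  calc s * z = s * z * s⁻¹ * s := by group
    _ = z * s := by rw [h]

lemma center_stronglyClosed : F.StronglyClosed F.center :=
  ⟨center_le, fun R hR φ hφ x => by
    have := fix_center (Maps.of_mem hφ) x.2 (hR x.2)
    rw [fn_coe] at this
    rw [this]
    exact hR x.2⟩

lemma pow_mem_coprime {X : Type*} [Group X] (C : Subgroup X) {a : X} {m n : ℕ} (hmn : m.Coprime n)
    (h1 : a ^ m ∈ C) (h2 : a ^ n ∈ C) : a ∈ C := by
  have h := Nat.gcd_eq_gcd_ab m n
  rw [hmn.gcd_eq_one, Nat.cast_one] at h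
  have e : a = (a ^ m) ^ (Nat.gcdA m n) * (a ^ n) ^ (Nat.gcdB m n) := by
    rw [← zpow_natCast, ← zpow_natCast, ← zpow_mul, ← zpow_mul, ← zpow_add, ← h, zpow_one]
  rw [e]
  exact C.mul_mem (C.zpow_mem h1 _) (C.zpow_mem h2 _)

lemma aux_conj {G : Type*} [Group G] {a x cu cx d : G} (h2 : Commute cu x) (h3 : Commute cx a)
    (h4 : Commute cu cx) (h : (a * cu) * (x * cx) * (a * cu)⁻¹ = d * x * cx) : a * x * a⁻¹ = d * x := by
  have e1 : cu * (x * cx) * cu⁻¹ = x * cx := by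
    rw [(h2.mul_right h4).eq]; simp
  have e2 : (a * cu) * (x * cx) * (a * cu)⁻¹ = a * x * a⁻¹ * cx := by
    calc (a * cu) * (x * cx) * (a * cu)⁻¹ = a * (cu * (x * cx) * cu⁻¹) * a⁻¹ := by group
      _ = a * (x * cx) * a⁻¹ := by rw [e1]
      _ = a * x * (cx * a⁻¹) := by group
      _ = a * x * (a⁻¹ * cx) := by rw [(h3.inv_right).eq]
      _ = _ := by group
  rw [e2] at h
  exact mul_right_cancel h

variable {Ω' : Type*} [Group Ω'] {S' : Subgroup Ω'} {θ : S →* Ω'} {E : FusionSystem S'} {Q' : Subgroup Ω'}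
variable {p : ℕ} [Fact p.Prime]

theorem key (hS : IsPGroup p S) (hF : F.IsSaturated p) (hE : F.IsFactorSystem F.center θ E)
    (hQ' : E.IsCentral Q') {P : Subgroup Ω} {φ : P →* Ω} (hφ : φ ∈ F.Hom P) :
    ∃ (P₂ : Subgroup Ω) (ψ : Ω → Ω), Maps F P₂ ψ ∧ P ≤ P₂ ∧ preimageAlong θ Q' ≤ P₂ ∧
      (∀ u : P, (φ u)⁻¹ * ψ u ∈ F.center) ∧ ∀ x ∈ preimageAlong θ Q', x⁻¹ * ψ x ∈ F.center := by
  obtain ⟨⟨-, hmor⟩, hr, hsurj⟩ := Cfsg.Agent.Lib.FusionStrongClosed.isSurjectiveMorphism_of_isFactorSystem hS hF center_stronglyClosed hE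
  obtain ⟨-, hker, -, -⟩ := hE
  obtain ⟨φ', hφ', hP, hφS, hP', hind⟩ := hmor P φ hφ
  obtain ⟨hQ'S, hext⟩ := hQ'
  obtain ⟨ψ', hψ', h1, h2⟩ := hext _ φ' hφ'
  have hle := E.le_of_mem hψ'
  obtain ⟨ψ, hψ, hP₂, hψS, hP₂', hind2⟩ := hsurj _ hle.1 ψ' hψ'
  have hPle : P ≤ preimageAlong θ (imageAlong θ P ⊔ Q') := by
    intro u hu
    exact (Cfsg.Agent.Lib.FusionFactor.mem_preimageAlong θ _ u).2 ⟨hP hu, Subgroup.mem_sup_left ⟨⟨u, hP hu⟩, hu, rfl⟩⟩
  have hQle : preimageAlong θ Q' ≤ preimageAlong θ (imageAlong θ P ⊔ Q') := by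
    intro u hu
    obtain ⟨h1, h2⟩ := (Cfsg.Agent.Lib.FusionFactor.mem_preimageAlong θ _ u).1 hu
    exact (Cfsg.Agent.Lib.FusionFactor.mem_preimageAlong θ _ u).2 ⟨h1, Subgroup.mem_sup_right h2⟩
  refine ⟨_, fn ψ, Maps.of_mem hψ, hPle, hQle, fun u => ?_, fun x hx => ?_⟩
  · have hu₂ := hPle u.2
    rw [fn_of_mem ψ hu₂]
    have h3 := hind2 ⟨u, hu₂⟩
    have h4 := hind u
    have h5 := h1 ⟨_, hP' u⟩
    have h6 : θ ⟨φ u, hφS u⟩ = θ ⟨ψ ⟨u, hu₂⟩, hψS _⟩ := by
      rw [← h3, ← h4, ← h5]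
      rfl
    have h7 := (hker (⟨φ u, hφS u⟩⁻¹ * ⟨ψ ⟨u, hu₂⟩, hψS _⟩)).1 (by rw [map_mul, map_inv, h6, inv_mul_cancel])
    exact h7
  · have hx₂ := hQle hx
    rw [fn_of_mem ψ hx₂]
    have h3 := hind2 ⟨x, hx₂⟩
    obtain ⟨hxS, hxQ⟩ := (Cfsg.Agent.Lib.FusionFactor.mem_preimageAlong θ _ x).1 hx
    have h5 := h2 ⟨_, hxQ⟩
    have h6 : θ ⟨x, hxS⟩ = θ ⟨ψ ⟨x, hx₂⟩, hψS _⟩ := by
      rw [← h3]
      exact h5.symm
    have h7 := (hker (⟨x, hxS⟩⁻¹ * ⟨ψ ⟨x, hx₂⟩, hψS _⟩)).1 (by rw [map_mul, map_inv, h6, inv_mul_cancel])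
    exact h7

theorem central_preimage (hS : IsPGroup p S) (hF : F.IsSaturated p) (hperf : F.hyperfocalSubgroup p = S)
    (hE : F.IsFactorSystem F.center θ E) (hQ' : E.IsCentral Q') : F.IsCentral (preimageAlong θ Q') := by
  set Q₂ := preimageAlong θ Q' with hQ₂
  have hQ₂S : Q₂ ≤ S := Cfsg.Agent.Lib.FusionFactor.preimageAlong_le θ Q'
  obtain ⟨-, hker, -, -⟩ := id hE
  have hZQ₂ : ∀ {x c : Ω}, x ∈ Q₂ → c ∈ F.center → x * c ∈ Q₂ := by
    intro x c hx hc
    obtain ⟨hxS, hxQ⟩ := (Cfsg.Agent.Lib.FusionFactor.mem_preimageAlong θ _ x).1 hx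
    refine (Cfsg.Agent.Lib.FusionFactor.mem_preimageAlong θ _ _).2 ⟨S.mul_mem hxS (center_le hc), ?_⟩
    have : θ ⟨x * c, S.mul_mem hxS (center_le hc)⟩ = θ ⟨x, hxS⟩ * θ ⟨c, center_le hc⟩ := by
      rw [← map_mul]; rfl
    rw [this, (hker ⟨c, center_le hc⟩).2 hc, mul_one]
    exact hxQ
  -- reduction modulo `Z`
  have hmodZ : ∀ {P : Subgroup Ω} {φ : P →* Ω}, φ ∈ F.Hom P → ∀ x (hx : x ∈ P), x ∈ Q₂ →
      x⁻¹ * φ ⟨x, hx⟩ ∈ F.center := by
    intro P φ hφ x hx hxQ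
    obtain ⟨P₂, ψ, -, -, -, h1, h2⟩ := key hS hF hE hQ' hφ
    have h3 := h1 ⟨x, hx⟩
    have h4 := h2 x hxQ
    have e : x⁻¹ * φ ⟨x, hx⟩ = (x⁻¹ * ψ x) * ((φ ⟨x, hx⟩)⁻¹ * ψ x)⁻¹ := by group
    rw [e]
    exact F.center.mul_mem h4 (F.center.inv_mem h3)
  have hcomm : ∀ s ∈ S, ∀ x ∈ Q₂, s * x * s⁻¹ * x⁻¹ ∈ F.center := by
    intro s hs x hx
    have h1 : (conjHom S s) ∈ F.Hom S := F.conj_mem le_rfl hs
    have h2 := hmodZ h1 x (hQ₂S hx) hx
    have h3 : (conjHom S s) ⟨x, hQ₂S hx⟩ = s * x * s⁻¹ := rfl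
    rw [h3] at h2
    have h4 := center_comm h2 (hQ₂S hx)
    have e : s * x * s⁻¹ * x⁻¹ = x * (x⁻¹ * (s * x * s⁻¹)) * x⁻¹ := by group
    rw [e, h4.eq]
    simpa using h2
  -- Step 1
  have hstep1 : ∀ {P : Subgroup Ω} {φ : P →* Ω}, φ ∈ F.Hom P → ∀ (u : P), ∀ x ∈ Q₂,
      (φ u) * x * (φ u)⁻¹ = u * x * (u : Ω)⁻¹ := by
    intro P φ hφ u x hx
    obtain ⟨P₂, ψ, hψ, hPP₂, hQP₂, h1, h2⟩ := key hS hF hE hQ' hφ
    have hu₂ := hPP₂ u.2
    have hx₂ := hQP₂ hx
    have hdZ := hcomm u ((F.le_of_mem hφ).1 u.2) x hx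
    set d := (u : Ω) * x * (u : Ω)⁻¹ * x⁻¹ with hd
    have hd₂ : d ∈ P₂ := P₂.mul_mem (P₂.mul_mem (P₂.mul_mem hu₂ hx₂) (P₂.inv_mem hu₂)) (P₂.inv_mem hx₂)
    have hfd := fix_center hψ hd₂ hdZ
    have e1 : (u : Ω) * x * (u : Ω)⁻¹ = d * x := by rw [hd]; group
    have h3 := hψ.map_conj hu₂ hx₂
    rw [e1, hψ.map_mul hd₂ hx₂, hfd] at h3
    have hcu := h1 u
    have hcx := h2 x hx
    set cu := (φ u)⁻¹ * ψ u with hcu'
    set cx := x⁻¹ * ψ x with hcx'
    have hψu : ψ u = φ u * cu := by rw [hcu']; group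
    have hψx : ψ x = x * cx := by rw [hcx']; group
    have hφS : φ u ∈ S := (Maps.of_mem hφ).mem (x := u) u.2 |> fun h => by rwa [fn_coe] at h
    have h5 : (φ u * cu) * (x * cx) * (φ u * cu)⁻¹ = d * x * cx := by
      have h6 : d * x * cx = d * ψ x := by rw [hψx, mul_assoc]
      rw [h6, h3, hψu, hψx]
    rw [e1]
    exact aux_conj (center_comm hcu (hQ₂S hx)).symm (center_comm hcx hφS).symm
      (center_comm hcu (center_le hcx)).symm h5
  -- Step 2
  have hfoc : S ≤ F.focalSubgroup := by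
    rw [Cfsg.Agent.Lib.FusionFocal.focal_eq hS hF, hperf]
    exact le_sup_left
  have hZS : ∀ x ∈ Q₂, ∀ s ∈ S, s * x = x * s := by
    intro x hx s hs
    have hle : F.focalSubgroup ≤ Subgroup.centralizer {x} := by
      rw [FusionSystem.focalSubgroup, Subgroup.closure_le]
      rintro _ ⟨P, φ, u, hφ, rfl⟩
      have h1 := hstep1 hφ u x hx
      refine (Subgroup.mem_centralizer_iff.2 ?_)
      intro g hg
      rw [Set.mem_singleton_iff] at hg
      subst hg
      show g * ((u : Ω)⁻¹ * φ u) = ((u : Ω)⁻¹ * φ u) * g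
      have h2 : φ u * g = (u : Ω) * g * (u : Ω)⁻¹ * φ u := by
        rw [← h1]; group
      calc g * ((u : Ω)⁻¹ * φ u) = (u : Ω)⁻¹ * ((u : Ω) * g * (u : Ω)⁻¹ * φ u) := by group
        _ = (u : Ω)⁻¹ * (φ u * g) := by rw [h2]
        _ = _ := by group
    have := Subgroup.mem_centralizer_iff.1 (hle (hfoc hs)) x rfl
    exact this.symm
  -- Q₂ is stable under Aut_F(S)
  have hXstab : ∀ α ∈ F.autGroup S, ∀ u ∈ Q₂, afn α u ∈ Q₂ ∧ u⁻¹ * afn α u ∈ F.center := by
    intro α hα u hu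
    have hm := Maps_of_mem_autGroup (F := F) (P := S) le_rfl hα
    obtain ⟨φ, hφ, hf⟩ := hm
    have h1 := hmodZ hφ u (hQ₂S hu) hu
    rw [hf] at h1
    refine ⟨?_, h1⟩
    have := hZQ₂ hu h1
    rwa [mul_inv_cancel_left] at this
  -- Step 3c
  have hX : ∀ α ∈ F.autGroup S, ∀ u ∈ Q₂, afn α u = u := by
    let C : Subgroup (F.autGroup S) :=
      { carrier := {α | ∀ u ∈ Q₂, afn (α : MulAut S) u = u}
        mul_mem' := fun {a b} ha hb u hu => by
          have hS' := hQ₂S hu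
          show afn ((a : MulAut S) * (b : MulAut S)) u = u
          rw [afn_mul _ _ hS', hb u hu, ha u hu]
        one_mem' := fun u hu => afn_one (hQ₂S hu)
        inv_mem' := fun {a} ha u hu => by
          have hS' := hQ₂S hu
          show afn ((a : MulAut S)⁻¹) u = u
          have h1 := ha u hu
          have h2 := afn_inv_afn (a : MulAut S) hS'
          rwa [h1] at h2 }
    have hCn : C.Normal := by
      constructor
      intro a ha g u hu
      have hS' := hQ₂S hu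
      have h1 := (hXstab _ (g⁻¹).2 u hu).1
      show afn ((g : MulAut S) * (a : MulAut S) * (g : MulAut S)⁻¹) u = u
      have h2 : afn (g : MulAut S)⁻¹ u ∈ S := afn_mem _ hS'
      rw [afn_mul _ _ hS', afn_mul _ _ h2]
      have h3 := ha _ h1
      have h4 : afn (a : MulAut S) (afn (g : MulAut S)⁻¹ u) = afn (g : MulAut S)⁻¹ u := h3
      rw [h4, afn_afn_inv _ hS']
    have hFA : F.IsFullyAutomized p S := Cfsg.Agent.Lib.FusionAbelianDecomp.fullyAutomized_top hF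
    have hi := (isFullyAutomized_iff hS le_rfl).1 hFA
    have hle : (autInducedBy S S).subgroupOf (F.autGroup S) ≤ C := by
      intro a ha u hu
      obtain ⟨g, hg, hgx⟩ := mem_autInducedBy.1 (Subgroup.mem_subgroupOf.1 ha)
      rw [hgx u (hQ₂S hu), hZS u hu g hg, mul_inv_cancel_right]
    haveI := finite_mulAut (S := S) (P := S) le_rfl
    have hCi : ¬ p ∣ C.index := fun h => hi (h.trans (Subgroup.index_dvd_of_le hle))
    intro α hα u hu
    have hpow : ∀ (a : F.autGroup S) (v : Ω), v ∈ Q₂ → ∀ k : ℕ,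
        afn (((a ^ k : F.autGroup S)) : MulAut S) v = v * (v⁻¹ * afn (a : MulAut S) v) ^ k := by
      intro a v hv k
      have hS' := hQ₂S hv
      induction k with
      | zero => simp [afn_one hS']
      | succ k ih =>
        have hc := (hXstab _ a.2 v hv).2
        set c := v⁻¹ * afn (a : MulAut S) v with hc'
        have h1 : ((a ^ (k + 1) : F.autGroup S) : MulAut S) = (a : MulAut S) * ((a ^ k : F.autGroup S) : MulAut S) := by
          rw [pow_succ']; rfl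
        rw [h1, afn_mul _ _ hS', ih]
        have hm := Maps_of_mem_autGroup (F := F) (P := S) le_rfl a.2
        have hck : c ^ k ∈ F.center := F.center.pow_mem hc k
        rw [hm.map_mul hS' (center_le hck), fix_center hm (center_le hck) hck]
        have : afn (a : MulAut S) v = v * c := by rw [hc']; group
        rw [this, pow_succ', mul_assoc]
    have hm1 : (⟨α, hα⟩ : F.autGroup S) ^ (Nat.card S) ∈ C := by
      intro v hv
      have hc := (hXstab _ hα v hv).2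
      have h2 := hpow ⟨α, hα⟩ v hv (Nat.card S)
      refine h2.trans ?_
      have h3 : (v⁻¹ * afn α v) ^ Nat.card S = 1 := by
        have h4 : (⟨v⁻¹ * afn α v, center_le hc⟩ : S) ^ Nat.card S = 1 := pow_card_eq_one'
        exact congrArg Subtype.val h4
      show v * (v⁻¹ * afn α v) ^ Nat.card S = v
      rw [h3, mul_one]
    have hm2 : (⟨α, hα⟩ : F.autGroup S) ^ C.index ∈ C := Subgroup.pow_index_mem C _
    have hco : (Nat.card S).Coprime C.index := by
      obtain ⟨k, hk⟩ := hS.exists_card_eq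
      rw [hk]
      exact Nat.Coprime.pow_left _ ((Nat.Prime.coprime_iff_not_dvd Fact.out).2 hCi)
    exact pow_mem_coprime C hco hm1 hm2 u hu
  -- final
  refine (Cfsg.Agent.S5084.result p hS F hF _).2 ⟨hQ₂S, fun x hx y hy => ?_⟩
  obtain ⟨φ, hφ, rfl⟩ := hy
  have hPQ : Subgroup.zpowers x ≤ Q₂ := by
    rw [Subgroup.zpowers_le]; exact hx
  have hm : Maps F (Subgroup.zpowers x) (fn φ) := Maps.of_mem hφ
  have hfw : ∀ w ∈ Subgroup.zpowers x, fn φ w ∈ Q₂ := by
    intro w hw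
    have h1 := hmodZ hφ w hw (hPQ hw)
    rw [← fn_of_mem φ hw] at h1
    have := hZQ₂ (hPQ hw) h1
    rwa [mul_inv_cancel_left] at this
  have hYS : img (fn φ) (Subgroup.zpowers x) ≤ S := hm.img_le
  have hcY : centralizerIn S (img (fn φ) (Subgroup.zpowers x)) = S := by
    apply le_antisymm inf_le_left
    intro s hs
    refine mem_centralizerIn.2 ⟨hs, fun t ht => ?_⟩
    obtain ⟨w, hw, rfl⟩ := hm.mem_img.1 ht
    exact (hZS _ (hfw w hw) s hs).symm
  have hYfc : F.IsFullyCentralized (img (fn φ) (Subgroup.zpowers x)) := by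
    refine ⟨hYS, fun R _ => ?_⟩
    rw [hcY]
    exact Nat.card_mono (Set.toFinite _) inf_le_left
  have hrec := receptive_of_fullyCentralized hS hF hYfc
  obtain ⟨g, hg, hgf⟩ := IsReceptive.ext hrec hm rfl
  have hNS : S ≤ Nf S (Subgroup.zpowers x) (fn φ) := by
    refine le_trans ?_ (centralizerIn_le_Nf hm)
    intro s hs
    refine mem_centralizerIn.2 ⟨hs, fun t ht => ?_⟩
    exact (hZS _ (hPQ ht) s hs).symm
  have hgS : Maps F S g := hg.restrict hNS
  have himg : img g S = S := img_eq_of_card hgS le_rfl le_rfl (fun y hy => hgS.mem hy) le_rfl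
  have h1 := hX _ (hgS.toAut_mem himg) x hx
  rw [hgS.afn_toAut himg (hQ₂S hx), hgf x (Subgroup.mem_zpowers x), fn_of_mem φ (Subgroup.mem_zpowers x)] at h1
  exact h1

theorem main (hS : IsPGroup p S) (hF : F.IsSaturated p) (hperf : F.hyperfocalSubgroup p = S)
    (hE : F.IsFactorSystem F.center θ E) : E.center = ⊥ := by
  rw [FusionSystem.center, sSup_eq_bot]
  intro Q' hQ'
  rw [eq_bot_iff]
  intro q hq
  have hcen := central_preimage hS hF hperf hE hQ'
  have hqS : q ∈ S' := hQ'.1 hq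
  obtain ⟨-, hker, hr, -⟩ := hE
  have : q ∈ θ.range := hr ▸ hqS
  obtain ⟨s, rfl⟩ := this
  have hsQ : (s : Ω) ∈ preimageAlong θ Q' :=
    (Cfsg.Agent.Lib.FusionFactor.mem_preimageAlong θ _ _).2 ⟨s.2, hq⟩
  have hsZ : (s : Ω) ∈ F.center := (le_sSup hcen : preimageAlong θ Q' ≤ F.center) hsQ
  rw [(hker s).2 hsZ]
  exact Subgroup.one_mem _

end

/-- An analogue of Grün's lemma for fusion systems. Let F be a saturated fusion system over a finite p-group S that is perfect in the sense that its hyperfocal subgroup is all of S (F coincides with its p-residual subsystem). Then the second centre of F equals its centre: every fusion system over S/(Z(F) ∩ S) that is the factor system of F modulo its centre Z(F), read through the quotient map, has trivial centre. -/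
theorem result {Ω : Type*} [Group Ω] {S : Subgroup Ω} [Finite S] (p : ℕ) [Fact p.Prime] (hS : IsPGroup p S) (F : Cfsg.FusionSystem S) (hF : F.IsSaturated p)
    (hperf : F.hyperfocalSubgroup p = S)
    (E : Cfsg.FusionSystem (⊤ : Subgroup (↥S ⧸ (F.center).subgroupOf S)))
    (hE : F.IsFactorSystem F.center (QuotientGroup.mk' ((F.center).subgroupOf S)) E) : E.center = ⊥ :=
  main hS hF hperf hE

end Cfsg.Agent.S5315
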