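import Mathlib
import Cfsg.Statements.S5316
import Cfsg.Agent.Lib.MaxEss3G
import Cfsg.Agent.S5185
import Cfsg.Agent.Lib.FusionEssP3

set_option autoImplicit false
open Cfsg

namespace Cfsg.Agent.S5316

open Cfsg.FusionSystem Cfsg.Agent.Lib.FusionCore Cfsg.Agent.Lib.FusionCore2 Cfsg.Agent.Lib.MaxEss3A Cfsg.Agent.Lib.MaxEss3C Cfsg.Agent.Lib.MaxEss3G

/-- Let p ≥ 5 be a prime, S a finite p-group of maximal class of order p^n with n ≥ 5 (nilpotency class n − 1), F a saturated fusion system over S, and E an F-essential subgroup that is not a pearl (not elementary abelian of order p² and not extraspecial of order p³ and exponent p). Then E has order at least p⁴. -/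
theorem result {Ω : Type*} [Group Ω] {S : Subgroup Ω} [Finite S] (p : ℕ) [Fact p.Prime] (hp : 5 ≤ p) (hS : IsPGroup p ↥S) (n : ℕ) (hn : Nat.card S = p ^ n) (h5 : 5 ≤ n)
    (hmax : Subgroup.lowerCentralSeries S (n - 2) ≠ ⊥) (F : Cfsg.FusionSystem S) (hF : F.IsSaturated p)
    (E : Subgroup Ω) (hE : F.IsEssential p E)
    (hnp : ¬ ((Nat.card ↥E = p ^ 2 ∧ Cfsg.IsElementaryAbelian p E) ∨ (Nat.card ↥E = p ^ 3 ∧ Cfsg.IsExtraspecial p ↥E ∧ Monoid.exponent ↥E = p))) :
    p ^ 4 ≤ Nat.card ↥E := by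
  classical
  by_contra hlt
  push Not at hlt
  have hpp : p.Prime := Fact.out
  have h := mc_of hS hn h5 hp hmax
  have hES : E ≤ S := hE.1.1
  haveI hfE : Finite E := finite_of_le hES
  have hEp : IsPGroup p E := hS.to_le hES
  obtain ⟨a, ha⟩ := IsPGroup.iff_card.1 hEp
  have ha4 : a < 4 := by
    rw [ha] at hlt
    exact (Nat.pow_lt_pow_iff_right hpp.one_lt).1 hlt
  have hcent : ∀ y ∈ S, (∀ x ∈ E, x * y = y * x) → y ∈ E := fun y hy hc =>
    IsCentric_self hE.1 (mem_centralizerIn.2 ⟨hy, hc⟩)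
  have hZ1E : Gm S (n - 2) ≤ E := fun x hx => hcent x (Gm_le _ hx) (fun y hy => (central h hx (hES hy)).symm)
  have hle : Nat.card (Gm S (n - 2)) ≤ Nat.card E := Subgroup.card_le_of_le hZ1E
  rw [card_Z1 h, ha] at hle
  have ha1 : 1 ≤ a := by
    by_contra hc
    have : a = 0 := by omega
    subst this
    simp at hle
    exact absurd hle (by have := hpp.two_le; omega)
  by_cases ha2 : a = 1
  · exfalso
    subst ha2
    rw [pow_one] at ha
    have hEq : Gm S (n - 2) = E := Subgroup.eq_of_le_of_card_ge hZ1E (by rw [card_Z1 h, ha])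
    have hSE : S ≤ E := fun y hy => hcent y hy (fun x hx => by
      rw [← hEq] at hx
      exact central h hx hy)
    have hl := Subgroup.card_le_of_le hSE
    rw [hn, ha] at hl
    have : p ^ 1 < p ^ n := Nat.pow_lt_pow_right hpp.one_lt (by omega)
    rw [pow_one] at this
    omega
  by_cases ha3 : a = 2
  · exfalso
    subst ha3
    exact hnp (Or.inl ⟨ha, (Cfsg.Agent.S5185.result p hS F hF E hE ha).1⟩)
  have ha3' : a = 3 := by omega
  subst ha3'
  exfalso
  rcases Cfsg.Agent.Lib.FusionEssP3.main hS hE ha with hea | ⟨-, hex, hx⟩ | ⟨h2, -⟩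
  · refine no_elab h hF hE ha (fun x hx y hy => ?_) hea.2
    have := hea.1.is_comm.comm (⟨x, hx⟩ : E) ⟨y, hy⟩
    exact congrArg Subtype.val this
  · refine hnp (Or.inr ⟨ha, hex, ?_⟩)
    have hd : Monoid.exponent ↥E ∣ p := Monoid.exponent_dvd_of_forall_pow_eq_one (fun x => Subtype.ext (by
      simpa using hx x.1 x.2))
    rcases (Nat.dvd_prime hpp).1 hd with h1 | h1
    · exfalso
      rw [Monoid.exp_eq_one_iff] at h1
      have : Nat.card E = 1 := Nat.card_of_subsingleton (1 : E)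
      rw [ha] at this
      have h8 : 1 < p ^ 3 := Nat.one_lt_pow (by norm_num) hpp.one_lt
      omega
    · exact h1
  · omega

end Cfsg.Agent.S5316
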