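import Mathlib
import Cfsg.Agent.Lib.FusionAbelianDecomp
import Cfsg.Statements.S5331

set_option autoImplicit false
open Cfsg

namespace Cfsg.Agent.S5331

open Cfsg.FusionSystem Cfsg.Agent.Lib.FusionAlperin Cfsg.Agent.Lib.FusionNormalSys
open Cfsg.Agent.Lib.FusionAbelianDecomp

theorem pow_smul_eq_zero {b N : ℕ} (h : b ≤ N) (z : ZMod (2 ^ b)) : (2 ^ N) • z = 0 := by
  rw [nsmul_eq_mul]
  have : ((2 ^ N : ℕ) : ZMod (2 ^ b)) = 0 := (ZMod.natCast_eq_zero_iff _ _).mpr (pow_dvd_pow 2 h)
  rw [this, zero_mul]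

theorem two_torsion {b : ℕ} (hb : 1 ≤ b) (z : ZMod (2 ^ b)) (hz : 2 • z = 0) :
    z = 0 ∨ z = ((2 ^ (b - 1) : ℕ) : ZMod (2 ^ b)) := by
  have hne : NeZero (2 ^ b) := ⟨by positivity⟩
  have hval : ((z.val : ℕ) : ZMod (2 ^ b)) = z := ZMod.natCast_zmod_val z
  have h1 : ((2 * z.val : ℕ) : ZMod (2 ^ b)) = 0 := by
    rw [Nat.cast_mul, hval]
    rw [nsmul_eq_mul] at hz
    exact_mod_cast hz
  have h2 : 2 ^ b ∣ 2 * z.val := (ZMod.natCast_eq_zero_iff _ _).mp h1
  obtain ⟨b', rfl⟩ : ∃ b', b = b' + 1 := ⟨b - 1, by omega⟩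
  have h3 : 2 ^ b' ∣ z.val :=
    Nat.dvd_of_mul_dvd_mul_left (k := 2) (by norm_num) ((dvd_of_eq (pow_succ' 2 b').symm).trans h2)
  obtain ⟨c, hc⟩ := h3
  have h4 : z.val < 2 ^ (b' + 1) := ZMod.val_lt z
  have hc2 : c < 2 := by
    rw [hc, pow_succ'] at h4
    have h5 : 0 < 2 ^ b' := by positivity
    by_contra hcon
    push Not at hcon
    have : 2 ^ b' * 2 ≤ 2 ^ b' * c := Nat.mul_le_mul_left _ hcon
    omega
  interval_cases c
  · left
    rw [← hval, hc]
    simp
  · right
    simp only [Nat.add_sub_cancel]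
    rw [← hval, hc, mul_one]

variable {n : ℕ} {a : Fin n → ℕ}

/-- The `k`-th member of the chain in `Ω₁`. -/
def InV (k : ℕ) (x : (i : Fin n) → ZMod (2 ^ a i)) : Prop :=
  2 • x = 0 ∧ ∃ y : (i : Fin n) → ZMod (2 ^ a i), x = 2 ^ k • y

theorem inV_coord {k : ℕ} {x : (i : Fin n) → ZMod (2 ^ a i)} (h : InV k x) {i : Fin n} (hi : a i ≤ k) : x i = 0 := by
  obtain ⟨-, y, rfl⟩ := h
  exact pow_smul_eq_zero hi (y i)

theorem inV_of_coord (ha1 : ∀ i, 1 ≤ a i) {k : ℕ} {x : (i : Fin n) → ZMod (2 ^ a i)} (h2 : 2 • x = 0)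
    (h : ∀ i, a i ≤ k → x i = 0) : InV k x := by
  classical
  refine ⟨h2, fun i => if a i ≤ k then 0 else if x i = 0 then 0 else ((2 ^ (a i - 1 - k) : ℕ) : ZMod (2 ^ a i)), ?_⟩
  funext i
  show x i = 2 ^ k • _
  by_cases hi : a i ≤ k
  · simp [hi, h i hi]
  · simp only [hi, if_false]
    by_cases hx : x i = 0
    · simp [hx]
    · simp only [hx, if_false]
      have h3 : 2 • x i = 0 := congrFun h2 i
      rcases two_torsion (ha1 i) (x i) h3 with h4 | h4
      · exact absurd h4 hx
      · rw [h4, nsmul_eq_mul, ← Nat.cast_mul, ← pow_add]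
        have : k + (a i - 1 - k) = a i - 1 := by omega
        rw [this]

/-- The step lemma: two elements of `V k` outside `V (k+1)` differ by an element of `V (k+1)`. -/
theorem sub_mem_of_not_mem (ha : StrictMono a) (ha1 : ∀ i, 1 ≤ a i) {k : ℕ} {x y : (i : Fin n) → ZMod (2 ^ a i)}
    (hx : InV k x) (hy : InV k y) (hx' : ¬ InV (k + 1) x) (hy' : ¬ InV (k + 1) y) : InV (k + 1) (y - x) := by
  obtain ⟨i, hi, hxi⟩ : ∃ i, a i ≤ k + 1 ∧ x i ≠ 0 := by
    by_contra hcon
    push Not at hcon
    exact hx' (inV_of_coord ha1 hx.1 hcon)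
  obtain ⟨j, hj, hyj⟩ : ∃ j, a j ≤ k + 1 ∧ y j ≠ 0 := by
    by_contra hcon
    push Not at hcon
    exact hy' (inV_of_coord ha1 hy.1 hcon)
  have hi' : a i = k + 1 := by
    by_contra hcon
    exact hxi (inV_coord hx (by omega))
  have hj' : a j = k + 1 := by
    by_contra hcon
    exact hyj (inV_coord hy (by omega))
  have hij : i = j := ha.injective (hi'.trans hj'.symm)
  subst hij
  have h1 : x i = ((2 ^ (a i - 1) : ℕ) : ZMod (2 ^ a i)) := by
    rcases two_torsion (ha1 i) (x i) (congrFun hx.1 i) with h | h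
    · exact absurd h hxi
    · exact h
  have h2 : y i = ((2 ^ (a i - 1) : ℕ) : ZMod (2 ^ a i)) := by
    rcases two_torsion (ha1 i) (y i) (congrFun hy.1 i) with h | h
    · exact absurd h hyj
    · exact h
  refine inV_of_coord ha1 ?_ ?_
  · rw [smul_sub, hx.1, hy.1, sub_zero]
  · intro l hl
    show y l - x l = 0
    by_cases hlk : a l ≤ k
    · rw [inV_coord hx hlk, inV_coord hy hlk, sub_zero]
    · have hl' : a l = a i := by omega
      have hli : l = i := ha.injective hl'
      subst hli
      rw [h1, h2, sub_self]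

/-- An automorphism of odd order of a product of cyclic `2`-groups of distinct orders is trivial. -/
theorem trivial_of_odd (ha : StrictMono a) (ha1 : ∀ i, 1 ≤ a i)
    (f g : ((i : Fin n) → ZMod (2 ^ a i)) →+ ((i : Fin n) → ZMod (2 ^ a i)))
    (hgf : ∀ x, g (f x) = x) (hfg : ∀ x, f (g x) = x) {m : ℕ} (hm : Odd m) (hfm : ∀ x, f^[m] x = x) :
    ∀ x, f x = x := by
  -- the top
  let N : ℕ := ∑ i, a i
  have hN : ∀ i, a i ≤ N := fun i => Finset.single_le_sum (f := a) (fun _ _ => Nat.zero_le _) (Finset.mem_univ i)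
  have hAN : ∀ x : (i : Fin n) → ZMod (2 ^ a i), 2 ^ N • x = 0 := by
    intro x
    funext i
    exact pow_smul_eq_zero (hN i) (x i)
  -- a fixed quotient is trivial
  have hquot : ∀ x, f (f x - x) = f x - x → f x = x := by
    intro x hz
    set z := f x - x with hzdef
    have h1 : f x = x + z := by rw [hzdef]; abel
    have h2 : ∀ k : ℕ, f^[k] x = x + k • z := by
      intro k
      induction k with
      | zero => simp
      | succ k ih =>
        rw [Function.iterate_succ_apply', ih, map_add, h1, map_nsmul, hz, succ_nsmul]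
        abel
    have h3 := h2 m
    rw [hfm] at h3
    have h4 : m • z = 0 := by
      have : x + m • z = x + 0 := by rw [← h3, add_zero]
      exact add_left_cancel this
    have h5 : 2 ^ N • z = 0 := hAN z
    have hcop : Nat.Coprime m (2 ^ N) := Nat.Coprime.pow_right N (Nat.coprime_two_right.mpr hm)
    have h6 : z = 0 := by
      have h7 : addOrderOf z ∣ m := addOrderOf_dvd_of_nsmul_eq_zero h4
      have h8 : addOrderOf z ∣ 2 ^ N := addOrderOf_dvd_of_nsmul_eq_zero h5
      have h9 := Nat.eq_one_of_dvd_coprimes hcop h7 h8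
      exact AddMonoid.addOrderOf_eq_one_iff.mp h9
    rw [h1, h6, add_zero]
  -- invariance of the chain
  have hinv : ∀ (φ : ((i : Fin n) → ZMod (2 ^ a i)) →+ ((i : Fin n) → ZMod (2 ^ a i))) (k : ℕ) (x),
      InV k x → InV k (φ x) := by
    rintro φ k x ⟨h1, y, rfl⟩
    refine ⟨?_, φ y, ?_⟩
    · rw [← map_nsmul, h1, map_zero]
    · rw [map_nsmul]
  -- the chain is fixed
  have hchain : ∀ d k : ℕ, k + d = N → ∀ x, InV k x → f x = x := by
    intro d
    induction d with
    | zero =>
      intro k hk x hx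
      have hk' : k = N := by omega
      subst hk'
      have hx0 : x = 0 := by
        funext i
        exact inV_coord hx (hN i)
      rw [hx0, map_zero]
    | succ d ih =>
      intro k hk x hx
      apply hquot
      apply ih (k + 1) (by omega)
      have hfx := hinv f k x hx
      by_cases hx' : InV (k + 1) x
      · have h1 := hinv f (k + 1) x hx'
        refine ⟨?_, ?_⟩
        · rw [smul_sub, h1.1, hx'.1, sub_zero]
        · obtain ⟨u, hu⟩ := h1.2
          obtain ⟨v, hv⟩ := hx'.2
          refine ⟨u - v, ?_⟩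
          rw [smul_sub, ← hu, ← hv]
      · have hfx' : ¬ InV (k + 1) (f x) := by
          intro hcon
          have h1 := hinv g (k + 1) _ hcon
          rw [hgf] at h1
          exact hx' h1
        exact sub_mem_of_not_mem ha ha1 hx hfx hx' hfx'
  have hom1 : ∀ x, 2 • x = 0 → f x = x := by
    intro x hx
    apply hchain N 0 (by omega) x
    exact ⟨hx, x, by simp⟩
  -- all elements
  have hall : ∀ L : ℕ, ∀ x, 2 ^ L • x = 0 → f x = x := by
    intro L
    induction L with
    | zero =>
      intro x hx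
      have : x = 0 := by simpa using hx
      rw [this, map_zero]
    | succ L ih =>
      intro x hx
      have h1 : f (2 • x) = 2 • x := by
        apply ih
        rw [← mul_nsmul', ← pow_succ]
        exact hx
      apply hquot
      apply hom1
      rw [smul_sub, ← map_nsmul, h1, sub_self]
  exact fun x => hall N x (hAN x)

/-- Let S be a finite abelian 2-group that is a direct product of cyclic groups of pairwise distinct orders 2^{a_1} < 2^{a_2} < ⋯ < 2^{a_n} (all a_i ≥ 1). Then every saturated fusion system over S is the inner one: its maps are exactly the conjugations by elements of S. -/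
theorem result {Ω : Type*} [Group Ω] {S : Subgroup Ω} [Finite S] (n : ℕ) (a : Fin n → ℕ) (ha : StrictMono a) (ha1 : ∀ i, 1 ≤ a i) (e : ↥S ≃* Multiplicative ((i : Fin n) → ZMod (2 ^ a i))) (F : Cfsg.FusionSystem S) (hF : F.IsSaturated 2) (P : Subgroup Ω) : F.Hom P = (Cfsg.innerFusionSystem S).Hom P := by
  have hab : ∀ x ∈ S, ∀ y ∈ S, x * y = y * x := by
    intro x hx y hy
    have h1 : e (⟨x, hx⟩ * ⟨y, hy⟩) = e (⟨y, hy⟩ * ⟨x, hx⟩) := by
      rw [map_mul, map_mul, mul_comm]
    exact congrArg Subtype.val (e.injective h1)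
  have hS : IsPGroup 2 S := by
    let N : ℕ := ∑ i, a i
    have hN : ∀ i, a i ≤ N := fun i => Finset.single_le_sum (f := a) (fun _ _ => Nat.zero_le _) (Finset.mem_univ i)
    refine fun x => ⟨N, e.injective ?_⟩
    rw [map_pow, map_one]
    apply Multiplicative.toAdd.injective
    funext i
    exact pow_smul_eq_zero (hN i) ((e x).toAdd i)
  refine Set.Subset.antisymm (fun φ hφ => ?_) (inner_le F P)
  obtain ⟨α, hα, hαφ⟩ := exists_aut_of_abelian hS hF hab hφ
  -- `α` has odd order
  have hfinA : Finite (MulAut S) := Cfsg.Agent.Lib.FusionSat.finite_mulAut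
  have hcop := card_autGroup_coprime hF hab
  set m := orderOf (⟨α, hα⟩ : F.autGroup S) with hm
  have hαm : α ^ m = 1 := by
    have h1 : (⟨α, hα⟩ : F.autGroup S) ^ m = 1 := pow_orderOf_eq_one _
    have h2 := congrArg (fun a : F.autGroup S => (a : MulAut S)) h1
    simpa using h2
  have hmodd : Odd m := by
    have h1 : m ∣ Nat.card (F.autGroup S) := orderOf_dvd_natCard _
    exact Nat.Coprime.odd_of_right (Nat.Coprime.coprime_dvd_left h1 hcop)
  let f : ((i : Fin n) → ZMod (2 ^ a i)) →+ ((i : Fin n) → ZMod (2 ^ a i)) :=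
    { toFun := fun x => Multiplicative.toAdd (e (α (e.symm (Multiplicative.ofAdd x))))
      map_zero' := by
        have : Multiplicative.ofAdd (0 : (i : Fin n) → ZMod (2 ^ a i)) = 1 := rfl
        rw [this]
        simp
      map_add' := by
        intro x y
        have : Multiplicative.ofAdd (x + y) = Multiplicative.ofAdd x * Multiplicative.ofAdd y := rfl
        rw [this]
        simp }
  let g : ((i : Fin n) → ZMod (2 ^ a i)) →+ ((i : Fin n) → ZMod (2 ^ a i)) :=
    { toFun := fun x => Multiplicative.toAdd (e (α⁻¹ (e.symm (Multiplicative.ofAdd x))))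
      map_zero' := by
        have : Multiplicative.ofAdd (0 : (i : Fin n) → ZMod (2 ^ a i)) = 1 := rfl
        rw [this]
        simp
      map_add' := by
        intro x y
        have : Multiplicative.ofAdd (x + y) = Multiplicative.ofAdd x * Multiplicative.ofAdd y := rfl
        rw [this]
        simp }
  have hgf : ∀ x, g (f x) = x := by
    intro x
    show Multiplicative.toAdd (e (α⁻¹ (e.symm (Multiplicative.ofAdd
      (Multiplicative.toAdd (e (α (e.symm (Multiplicative.ofAdd x))))))))) = x
    simp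
  have hfg : ∀ x, f (g x) = x := by
    intro x
    show Multiplicative.toAdd (e (α (e.symm (Multiplicative.ofAdd
      (Multiplicative.toAdd (e (α⁻¹ (e.symm (Multiplicative.ofAdd x))))))))) = x
    simp
  have hit : ∀ k : ℕ, ∀ x, f^[k] x = Multiplicative.toAdd (e ((α ^ k) (e.symm (Multiplicative.ofAdd x)))) := by
    intro k
    induction k with
    | zero => simp
    | succ k ih =>
      intro x
      rw [Function.iterate_succ_apply', ih, pow_succ']
      show Multiplicative.toAdd (e (α (e.symm (Multiplicative.ofAdd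
        (Multiplicative.toAdd (e ((α ^ k) (e.symm (Multiplicative.ofAdd x))))))))) = _
      simp
  have hfm : ∀ x, f^[m] x = x := by
    intro x
    rw [hit, hαm]
    simp
  have htriv := trivial_of_odd ha ha1 f g hgf hfg hmodd hfm
  have hα1 : ∀ s : S, α s = s := by
    intro s
    have h1 := htriv (Multiplicative.toAdd (e s))
    have h2 : Multiplicative.toAdd (e (α s)) = Multiplicative.toAdd (e s) := by
      have h3 : f (Multiplicative.toAdd (e s)) = Multiplicative.toAdd (e (α (e.symm (Multiplicative.ofAdd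
        (Multiplicative.toAdd (e s)))))) := rfl
      rw [h3] at h1
      simpa using h1
    exact e.injective (Multiplicative.toAdd.injective h2)
  refine ⟨hom_le hφ, 1, S.one_mem, fun x => ?_⟩
  rw [← hαφ x, hα1]
  simp

end Cfsg.Agent.S5331
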