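import Mathlib
import Cfsg.Statements.S5405
import Cfsg.Agent.Lib.H1Bits
import Cfsg.Agent.Lib.OrthoCount

set_option autoImplicit false
set_option linter.unusedSimpArgs false
set_option linter.unusedVariables false
open scoped MatrixGroups
open Cfsg

namespace Cfsg.Agent.S5405

open Module
open Cfsg.Agent.Lib.H1Bits Cfsg.Agent.Lib.OrthGroup Cfsg.Agent.Lib.OrthoCount

theorem sq_self (a : ZMod 2) : a ^ 2 = a := by
  revert a; decide

theorem two_zero : (2 : ZMod 2) = 0 := rfl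

/-! ### The hyperbolic form in dimension eight -/

section Plus8

/-- The form in bits. -/
def qn8 (x : ℕ) : Bool :=
  (x.testBit 0 && x.testBit 4) ^^ (x.testBit 1 && x.testBit 5) ^^ (x.testBit 2 && x.testBit 6) ^^ (x.testBit 3 && x.testBit 7)

/-- The polar form in bits. -/
def pol8 (x y : ℕ) : Bool :=
  (x.testBit 0 && y.testBit 4) ^^ (x.testBit 4 && y.testBit 0) ^^
  (x.testBit 1 && y.testBit 5) ^^ (x.testBit 5 && y.testBit 1) ^^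
  (x.testBit 2 && y.testBit 6) ^^ (x.testBit 6 && y.testBit 2) ^^
  (x.testBit 3 && y.testBit 7) ^^ (x.testBit 7 && y.testBit 3)

/-- The coordinates. -/
def e8 : Fin 4 ⊕ Fin 4 ≃ Fin (4 + 4) := finSumFinEquiv

theorem hq8 (x : ℕ) : qPlus 4 (ZMod 2) (enc e8 x) = phi (qn8 x) := by
  rw [qPlus_apply]
  simp only [Cfsg.quadFormPlus, Fin.sum_univ_four, qn8, phi_xor, phi_and]
  rfl

theorem polar8 (u w : Fin 4 ⊕ Fin 4 → ZMod 2) : B (qPlus 4 (ZMod 2)) u w =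
    u (.inl 0) * w (.inr 0) + u (.inr 0) * w (.inl 0) + u (.inl 1) * w (.inr 1) + u (.inr 1) * w (.inl 1) +
    u (.inl 2) * w (.inr 2) + u (.inr 2) * w (.inl 2) + u (.inl 3) * w (.inr 3) + u (.inr 3) * w (.inl 3) := by
  rw [B_apply, qPlus_apply, qPlus_apply, qPlus_apply]
  simp only [Cfsg.quadFormPlus, Fin.sum_univ_four, Pi.add_apply]
  ring

theorem hpol8 (x y : ℕ) : B (qPlus 4 (ZMod 2)) (enc e8 x) (enc e8 y) = phi (pol8 x y) := by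
  rw [polar8]
  simp only [pol8, phi_xor, phi_and]
  rfl

def R8 : List ℕ := [17, 35, 21, 68, 23, 34, 27, 238]

def L8 : List ℕ := [50, 35, 39, 54, 99, 201, 21, 114, 216, 116, 141, 81, 251, 101, 156, 86, 154, 152, 68, 70, 191, 238, 71, 139, 137, 77, 184, 143, 187, 83, 100, 168, 92, 169, 158, 163, 173, 172, 203, 23, 113, 127, 138, 178, 188, 218, 182, 142, 233, 232, 53, 106, 145, 167, 248, 149, 242, 202, 254, 253, 34, 46, 227, 239, 209, 229, 223, 221, 19, 57, 244, 196, 198, 199, 200, 49, 27, 214, 211, 42, 228, 140, 38, 151, 241, 61, 98, 181, 121, 31, 119, 162, 91, 108, 84, 76, 78, 79, 69, 89, 109, 94, 122, 29, 124, 107, 62, 47, 43, 58, 197, 25, 212, 247, 226, 166, 177, 147, 136]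

theorem chk8a : chk1 (4 + 4) qn8 R8 17 = true := by decide +kernel
theorem chk8b : chk2 (4 + 4) R8.length pol8 (rtOf R8 17) = true := by decide +kernel
theorem chk8c : chk3 (4 + 4) R8.length pol8 (rtOf R8 17) = true := by decide +kernel
theorem chk8d : chk4 (4 + 4) R8.length pol8 qn8 (rtOf R8 17) L8 = true := by decide +kernel
theorem chk8e : chk5 (4 + 4) pol8 = true := by decide +kernel

end Plus8

/-! ### The elliptic form in dimension six -/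

section Minus6

/-- The form in bits. -/
def qn6 (x : ℕ) : Bool :=
  (x.testBit 0 && x.testBit 2) ^^ (x.testBit 1 && x.testBit 3) ^^ x.testBit 4 ^^ (x.testBit 4 && x.testBit 5) ^^ x.testBit 5

/-- The polar form in bits. -/
def pol6 (x y : ℕ) : Bool :=
  (x.testBit 0 && y.testBit 2) ^^ (x.testBit 2 && y.testBit 0) ^^
  (x.testBit 1 && y.testBit 3) ^^ (x.testBit 3 && y.testBit 1) ^^
  (x.testBit 4 && y.testBit 5) ^^ (x.testBit 5 && y.testBit 4)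

/-- The coordinates. -/
def e6 : (Fin 2 ⊕ Fin 2) ⊕ Fin 2 ≃ Fin (2 + 2 + 2) :=
  (Equiv.sumCongr finSumFinEquiv (Equiv.refl _)).trans finSumFinEquiv

theorem hq6 (x : ℕ) : qMinus 2 (1 : ZMod 2) 1 (enc e6 x) = phi (qn6 x) := by
  rw [qMinus_apply]
  simp only [Cfsg.quadFormMinus, Fin.sum_univ_two, qn6, phi_xor, phi_and, sq_self, one_mul, add_assoc]
  rfl

theorem polar6 (u w : (Fin 2 ⊕ Fin 2) ⊕ Fin 2 → ZMod 2) : B (qMinus 2 (1 : ZMod 2) 1) u w =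
    u (.inl (.inl 0)) * w (.inl (.inr 0)) + u (.inl (.inr 0)) * w (.inl (.inl 0)) +
    u (.inl (.inl 1)) * w (.inl (.inr 1)) + u (.inl (.inr 1)) * w (.inl (.inl 1)) +
    u (.inr 0) * w (.inr 1) + u (.inr 1) * w (.inr 0) := by
  rw [B_apply, qMinus_apply, qMinus_apply, qMinus_apply]
  simp only [Cfsg.quadFormMinus, Fin.sum_univ_two, Pi.add_apply]
  linear_combination (u (.inr 0) * w (.inr 0) + u (.inr 1) * w (.inr 1)) * two_zero

theorem hpol6 (x y : ℕ) : B (qMinus 2 (1 : ZMod 2) 1) (enc e6 x) (enc e6 y) = phi (pol6 x y) := by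
  rw [polar6]
  simp only [pol6, phi_xor, phi_and]
  rfl

def R6 : List ℕ := [5, 11, 18, 10, 7, 32]

def L6 : List ℕ := [14, 11, 28, 25, 22, 60, 18, 19, 57, 17, 54, 24, 50, 20, 51, 49, 36, 10, 31, 56, 32, 52, 33, 35, 47, 13, 63, 38, 40, 41, 7, 44, 34, 48, 16]

theorem chk6a : chk1 (2 + 2 + 2) qn6 R6 5 = true := by decide +kernel
theorem chk6b : chk2 (2 + 2 + 2) R6.length pol6 (rtOf R6 5) = true := by decide +kernel
theorem chk6c : chk3 (2 + 2 + 2) R6.length pol6 (rtOf R6 5) = true := by decide +kernel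
theorem chk6d : chk4 (2 + 2 + 2) R6.length pol6 qn6 (rtOf R6 5) L6 = true := by decide +kernel
theorem chk6e : chk5 (2 + 2 + 2) pol6 = true := by decide +kernel

end Minus6

/-! ### The elliptic form in dimension four -/

section Minus4

/-- The form in bits. -/
def qn4 (x : ℕ) : Bool :=
  (x.testBit 0 && x.testBit 1) ^^ x.testBit 2 ^^ (x.testBit 2 && x.testBit 3) ^^ x.testBit 3

/-- The polar form in bits. -/
def pol4 (x y : ℕ) : Bool :=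
  (x.testBit 0 && y.testBit 1) ^^ (x.testBit 1 && y.testBit 0) ^^
  (x.testBit 2 && y.testBit 3) ^^ (x.testBit 3 && y.testBit 2)

/-- The coordinates. -/
def e4 : (Fin 1 ⊕ Fin 1) ⊕ Fin 2 ≃ Fin (1 + 1 + 2) :=
  (Equiv.sumCongr finSumFinEquiv (Equiv.refl _)).trans finSumFinEquiv

theorem hq4 (x : ℕ) : qMinus 1 (1 : ZMod 2) 1 (enc e4 x) = phi (qn4 x) := by
  rw [qMinus_apply]
  simp only [Cfsg.quadFormMinus, Fin.sum_univ_one, qn4, phi_xor, phi_and, sq_self, one_mul, add_assoc]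
  rfl

theorem polar4 (u w : (Fin 1 ⊕ Fin 1) ⊕ Fin 2 → ZMod 2) : B (qMinus 1 (1 : ZMod 2) 1) u w =
    u (.inl (.inl 0)) * w (.inl (.inr 0)) + u (.inl (.inr 0)) * w (.inl (.inl 0)) +
    u (.inr 0) * w (.inr 1) + u (.inr 1) * w (.inr 0) := by
  rw [B_apply, qMinus_apply, qMinus_apply, qMinus_apply]
  simp only [Cfsg.quadFormMinus, Fin.sum_univ_one, Pi.add_apply]
  linear_combination (u (.inr 0) * w (.inr 0) + u (.inr 1) * w (.inr 1)) * two_zero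

theorem hpol4 (x y : ℕ) : B (qMinus 1 (1 : ZMod 2) 1) (enc e4 x) (enc e4 y) = phi (pol4 x y) := by
  rw [polar4]
  simp only [pol4, phi_xor, phi_and]
  rfl

def R4 : List ℕ := [3, 5, 8, 4]

def L4 : List ℕ := [6, 5, 14, 13, 10, 8, 9, 12, 4]

theorem chk4a : chk1 (1 + 1 + 2) qn4 R4 3 = true := by decide +kernel
theorem chk4b : chk2 (1 + 1 + 2) R4.length pol4 (rtOf R4 3) = true := by decide +kernel
theorem chk4c : chk3 (1 + 1 + 2) R4.length pol4 (rtOf R4 3) = true := by decide +kernel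
theorem chk4d : chk4 (1 + 1 + 2) R4.length pol4 qn4 (rtOf R4 3) L4 = true := by decide +kernel
theorem chk4e : chk5 (1 + 1 + 2) pol4 = true := by decide +kernel
theorem chk4f : chk6 (1 + 1 + 2) pol4 qn4 = true := by decide +kernel

end Minus4

/-- Vanishing of first cohomology on the natural module for three small orthogonal groups over the field with two elements: for the commutator subgroup of the isometry group of the elliptic quadratic form in dimension 4, of the elliptic form in dimension 6, and of the hyperbolic form in dimension 8, every crossed homomorphism into the natural module (a map f with f(gh) = f(g) + g·f(h)) is principal (of the form g ↦ g·v − v). -/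
theorem result : (∀ f : ↥(Cfsg.Omega (ZMod 2) (Cfsg.quadFormMinus 1 (ZMod 2) 1 1)) → ((Fin 1 ⊕ Fin 1) ⊕ Fin 2 → ZMod 2), (∀ g h : ↥(Cfsg.Omega (ZMod 2) (Cfsg.quadFormMinus 1 (ZMod 2) 1 1)), f (g * h) = f g + Matrix.mulVec (((g : ↥(Cfsg.isometryGroup (ZMod 2) (Cfsg.quadFormMinus 1 (ZMod 2) 1 1))) : GL ((Fin 1 ⊕ Fin 1) ⊕ Fin 2) (ZMod 2)) : Matrix ((Fin 1 ⊕ Fin 1) ⊕ Fin 2) ((Fin 1 ⊕ Fin 1) ⊕ Fin 2) (ZMod 2)) (f h)) → ∃ v : (Fin 1 ⊕ Fin 1) ⊕ Fin 2 → ZMod 2, ∀ g : ↥(Cfsg.Omega (ZMod 2) (Cfsg.quadFormMinus 1 (ZMod 2) 1 1)), f g = Matrix.mulVec (((g : ↥(Cfsg.isometryGroup (ZMod 2) (Cfsg.quadFormMinus 1 (ZMod 2) 1 1))) : GL ((Fin 1 ⊕ Fin 1) ⊕ Fin 2) (ZMod 2)) : Matrix ((Fin 1 ⊕ Fin 1) ⊕ Fin 2) ((Fin 1 ⊕ Fin 1) ⊕ Fin 2) (ZMod 2)) v - v) ∧ (∀ f : ↥(Cfsg.Omega (ZMod 2) (Cfsg.quadFormMinus 2 (ZMod 2) 1 1)) → ((Fin 2 ⊕ Fin 2) ⊕ Fin 2 → ZMod 2), (∀ g h : ↥(Cfsg.Omega (ZMod 2) (Cfsg.quadFormMinus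 2 (ZMod 2) 1 1)), f (g * h) = f g + Matrix.mulVec (((g : ↥(Cfsg.isometryGroup (ZMod 2) (Cfsg.quadFormMinus 2 (ZMod 2) 1 1))) : GL ((Fin 2 ⊕ Fin 2) ⊕ Fin 2) (ZMod 2)) : Matrix ((Fin 2 ⊕ Fin 2) ⊕ Fin 2) ((Fin 2 ⊕ Fin 2) ⊕ Fin 2) (ZMod 2)) (f h)) → ∃ v : (Fin 2 ⊕ Fin 2) ⊕ Fin 2 → ZMod 2, ∀ g : ↥(Cfsg.Omega (ZMod 2) (Cfsg.quadFormMinus 2 (ZMod 2) 1 1)), f g = Matrix.mulVec (((g : ↥(Cfsg.isometryGroup (ZMod 2) (Cfsg.quadFormMinus 2 (ZMod 2) 1 1))) : GL ((Fin 2 ⊕ Fin 2) ⊕ Fin 2) (ZMod 2)) : Matrix ((Fin 2 ⊕ Fin 2) ⊕ Fin 2) ((Fin 2 ⊕ Fin 2) ⊕ Fin 2) (ZMod 2)) v - v) ∧ (∀ f : ↥(Cfsg.Omega (ZMod 2) (Cfsg.quadFormPlus 4 (ZMod 2))) → (Fin 4 ⊕ Fin 4 → ZMod 2), (∀ g h : ↥(Cfsg.Omega (ZMod 2) (Cfsg.quadFormPlus 4 (ZMod 2))), f (g * h) = f g + Matrix.mulVec (((g : ↥(Cfsg.isometryGroup (ZMod 2) (Cfsg.quadFormPlus 4 (ZMod 2)))) : GL (Fin 4 ⊕ Fin 4) (ZMod 2)) : Matrix (Fin 4 ⊕ Fin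 4) (Fin 4 ⊕ Fin 4) (ZMod 2)) (f h)) → ∃ v : Fin 4 ⊕ Fin 4 → ZMod 2, ∀ g : ↥(Cfsg.Omega (ZMod 2) (Cfsg.quadFormPlus 4 (ZMod 2))), f g = Matrix.mulVec (((g : ↥(Cfsg.isometryGroup (ZMod 2) (Cfsg.quadFormPlus 4 (ZMod 2)))) : GL (Fin 4 ⊕ Fin 4) (ZMod 2)) : Matrix (Fin 4 ⊕ Fin 4) (Fin 4 ⊕ Fin 4) (ZMod 2)) v - v) := by
  refine ⟨?_, ?_, ?_⟩
  · exact final e4 (qMinus 1 (1 : ZMod 2) 1) (q := Cfsg.quadFormMinus 1 (ZMod 2) 1 1) (funext (qMinus_apply 1 1 1)) hq4 hpol4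
      (O_le_G_noTS (nondeg_of_chk5 e4 hpol4 chk4e) (noTS_of_chk6 e4 hq4 hpol4 chk4f)) R4 3 L4 (by decide) chk4a chk4b chk4c chk4d chk4e
  · exact final e6 (qMinus 2 (1 : ZMod 2) 1) (q := Cfsg.quadFormMinus 2 (ZMod 2) 1 1) (funext (qMinus_apply 2 1 1)) hq6 hpol6
      (O_le_G (nondeg_of_chk5 e6 hpol6 chk6e) (Or.inr (by simp))) R6 5 L6 (by decide) chk6a chk6b chk6c chk6d chk6e
  · exact final e8 (qPlus 4 (ZMod 2)) (q := Cfsg.quadFormPlus 4 (ZMod 2)) (funext (qPlus_apply 4)) hq8 hpol8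
      (O_le_G (nondeg_of_chk5 e8 hpol8 chk8e) (Or.inr (by simp))) R8 17 L8 (by decide) chk8a chk8b chk8c chk8d chk8e

end Cfsg.Agent.S5405
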