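import Mathlib
import Cfsg.Statements.S5472
import Cfsg.Agent.Lib.Fi22OuC3
import Cfsg.Agent.Lib.Fi22OuD
import Cfsg.Agent.Lib.Fi22KI

set_option autoImplicit false
set_option maxRecDepth 1000000
set_option linter.all false
open Cfsg

namespace Cfsg.Agent.S5472

open Cfsg.Agent.Lib.Fi22K Cfsg.Agent.Lib.Fi22Ou

universe u

theorem pCore_map_equiv_le' {A B : Type*} [Group A] [Group B] (p : ℕ) (φ : A ≃* B) :
    (Cfsg.pCore p A).map φ.toMonoidHom ≤ Cfsg.pCore p B := by
  rw [Subgroup.map_le_iff_le_comap]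
  refine sSup_le ?_
  rintro N ⟨hN, hNp⟩
  rw [← Subgroup.map_le_iff_le_comap]
  refine le_sSup ⟨?_, ?_⟩
  · exact hN.map _ φ.surjective
  · exact hNp.map _

theorem pCore_map_equiv' {A B : Type*} [Group A] [Group B] (p : ℕ) (φ : A ≃* B) :
    (Cfsg.pCore p A).map φ.toMonoidHom = Cfsg.pCore p B := by
  refine le_antisymm (pCore_map_equiv_le' p φ) ?_
  intro b hb
  refine ⟨φ.symm b, ?_, by simp⟩
  have := pCore_map_equiv_le' p φ.symm ⟨b, hb, rfl⟩
  exact this

section transport

variable {G : Type u} [Group G] (e : Gq ≃* G)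

theorem congr_apply (f : MulAut Gq) (g : G) : MulAut.congr e f g = e (f (e.symm g)) := rfl

theorem congr_conj (x : Gq) : MulAut.congr e (MulAut.conj x) = MulAut.conj (e x) := by
  ext g
  show e (x * e.symm g * x⁻¹) = e x * g * (e x)⁻¹
  simp

theorem fix_iff (f : MulAut Gq) (g : G) : MulAut.congr e f g = g ↔ e.symm g ∈ fixS f := by
  rw [congr_apply, mem_fixS]
  constructor
  · intro h
    have := congrArg e.symm h
    simpa using this
  · intro h
    rw [h]
    simp

theorem mem_map_iff {H : Subgroup Gq} {g : G} : g ∈ H.map e.toMonoidHom ↔ e.symm g ∈ H := by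
  constructor
  · rintro ⟨x, hx, rfl⟩
    simpa using hx
  · intro h
    exact ⟨_, h, by simp⟩

theorem cent_iff (x : Gq) (g : G) : g ∈ Subgroup.centralizer ({e x} : Set G) ↔
    e.symm g ∈ Subgroup.centralizer ({x} : Set Gq) := by
  rw [Subgroup.mem_centralizer_singleton_iff, Subgroup.mem_centralizer_singleton_iff]
  constructor
  · intro h
    apply e.injective
    simpa using h
  · intro h
    have := congrArg e h
    simpa using this

end transport

/-- The statement for an isomorphism. -/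
theorem main {G : Type u} [Group G] [Finite G] {D : Set G} (e : Gq ≃* G) (he : e '' D0 = D) :
    ∃ (s : MulAut G) (a b : G) (Cs : Subgroup G), orderOf s = 2 ∧ s ∉ (MulAut.conj : G →* MulAut G).range ∧ (∀ g : G, g ∈ Cs ↔ s g = g) ∧ Nonempty (↥Cs ≃* MulAut (Cfsg.Omega (ZMod 2) (Cfsg.quadFormPlus 4 (ZMod 2)))) ∧ a ∈ D ∧ b ∈ D ∧ a ≠ b ∧ Commute a b ∧ s a = a ∧ s b = b ∧ (∀ t : MulAut G, orderOf t = 2 → t ∉ (MulAut.conj : G →* MulAut G).range → (IsConj t s ∨ IsConj t (s * MulAut.conj a) ∨ IsConj t (s * MulAut.conj (a * b)))) ∧ ¬ IsConj s (s * MulAut.conj a) ∧ ¬ IsConj s (s * MulAut.conj (a * b)) ∧ ¬ IsConj (s * MulAut.conj a) (s * MulAut.conj (a * b)) ∧ (∀ g : G, (s * MulAut.conj a) g = g ↔ g ∈ Cs ⊓ Subgroup.centralizer ({a} : Set G)) ∧ Nonempty (↥(Cs ⊓ Subgroup.centralizer ({a} : Set G)) ≃* Multiplicative (ZMod 2) × Cfsg.PSp 3 (ZMod 2)) ∧ ∃ Csab O : Subgroup G, (∀ g : G, g ∈ Csab ↔ (s * MulAut.conj (a * b)) g = g) ∧ O = (Cfsg.pCore 2 ↥Csab).map Csab.subtype ∧ Cfsg.IsElementaryAbelian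 2 O ∧ Nat.card O = 64 ∧ ∃ _ : (O.subgroupOf Csab).Normal, Nonempty (↥Csab ⧸ O.subgroupOf Csab ≃* Cfsg.isometryGroup (ZMod 2) (Cfsg.quadFormMinus 2 (ZMod 2) 1 1)) := by
  classical
  haveI : Finite Gq := finGq3
  set τ : MulAut Gq ≃* MulAut G := MulAut.congr e with hτd
  have hinj : Function.Injective e.toMonoidHom := e.injective
  have hsa : τ σ₀ * MulAut.conj (e aa) = τ φ₂ := by
    rw [← congr_conj e aa, ← map_mul]
  have hsab : τ σ₀ * MulAut.conj (e aa * e bb) = τ φ₃ := by
    rw [← map_mul e, ← congr_conj e (aa * bb), ← map_mul]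
  have hord : orderOf σ₀ = 2 := by
    haveI : Fact (Nat.Prime 2) := ⟨Nat.prime_two⟩
    refine orderOf_eq_prime (by rw [pow_two]; exact σ₀_sq) ?_
    intro h
    apply σ₀_not
    rw [h]
    exact Subgroup.one_mem _
  have hinn : ∀ ψ : MulAut Gq, τ ψ ∈ (MulAut.conj : G →* MulAut G).range → ψ ∈ Cfsg.Inn Gq := by
    rintro ψ ⟨g, hg⟩
    refine ⟨e.symm g, ?_⟩
    apply τ.injective
    rw [← hg]
    have := congr_conj e (e.symm g)
    rw [e.apply_symm_apply] at this
    exact this
  have hnc : ∀ {ψ χ : MulAut Gq}, IsConj (τ ψ) (τ χ) → fixA ψ = fixA χ := by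
    intro ψ χ h
    have h1 := isConj_equiv τ.symm h
    simp only [MulEquiv.symm_apply_apply] at h1
    exact fixA_isConj h1
  refine ⟨τ σ₀, e aa, e bb, (fixS σ₀).map e.toMonoidHom, ?_, ?_, ?_, ?_, ?_, ?_, ?_, ?_, ?_, ?_, ?_, ?_, ?_, ?_, ?_, ?_, ?_⟩
  · rw [MulEquiv.orderOf_eq, hord]
  · intro h
    exact σ₀_not (hinn _ h)
  · intro g
    rw [mem_map_iff]
    exact (fix_iff e σ₀ g).symm
  · obtain ⟨E⟩ := Cs_iso
    exact ⟨((fixS σ₀).equivMapOfInjective _ hinj).symm.trans E⟩
  · exact map_mem he (eE_mem (by norm_num))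
  · exact map_mem he (eE_mem (by norm_num))
  · intro h
    exact ne_ab (e.injective h)
  · show e aa * e bb = e bb * e aa
    rw [← map_mul, ← map_mul, comm_ab]
  · show e (σ₀ (e.symm (e aa))) = e aa
    rw [e.symm_apply_apply, σ₀_aa]
  · show e (σ₀ (e.symm (e bb))) = e bb
    rw [e.symm_apply_apply, σ₀_bb]
  · intro t ht hn
    have h2 : τ.symm t * τ.symm t = 1 := by
      rw [← map_mul, ← pow_two, ← ht, pow_orderOf_eq_one, map_one]
    have hn' : τ.symm t ∉ Cfsg.Inn Gq := by
      rintro ⟨x, hx⟩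
      apply hn
      refine ⟨e x, ?_⟩
      rw [← congr_conj e x]
      show τ (MulAut.conj x) = t
      rw [hx]
      simp
    rw [hsa, show MulAut.conj (e aa * e bb) = MulAut.conj (e aa * e bb) from rfl, hsab]
    rcases class_cover' _ h2 hn' with h | h | h
    · left
      have := isConj_equiv τ h
      simpa using this
    · right; left
      have := isConj_equiv τ h
      simpa using this
    · right; right
      have := isConj_equiv τ h
      simpa using this
  · rw [hsa]
    intro h
    have := hnc h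
    rw [fixA0, fixA1] at this
    omega
  · rw [hsab]
    intro h
    have := hnc h
    rw [fixA0, fixA2] at this
    omega
  · rw [hsa, hsab]
    intro h
    have := hnc h
    rw [fixA1, fixA2] at this
    omega
  · intro g
    rw [hsa, fix_iff, Subgroup.mem_inf, mem_map_iff, cent_iff, ← Subgroup.mem_inf, ← Fx2_eq]
  · have hE : (fixS σ₀).map e.toMonoidHom ⊓ Subgroup.centralizer ({e aa} : Set G) = Fx2.map e.toMonoidHom := by
      ext g
      rw [Subgroup.mem_inf, mem_map_iff, cent_iff, mem_map_iff, ← Subgroup.mem_inf, ← Fx2_eq]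
    exact ⟨(MulEquiv.subgroupCongr hE).trans ((Fx2.equivMapOfInjective _ hinj).symm.trans Fx2E)⟩
  · set E3 : ↥Fx3 ≃* ↥(Fx3.map e.toMonoidHom) := Fx3.equivMapOfInjective _ hinj with hE3
    have hE3v : ∀ y : ↥(Fx3.map e.toMonoidHom), e ((E3.symm y : ↥Fx3) : Gq) = y := by
      intro y
      have := congrArg Subtype.val (E3.apply_symm_apply y)
      exact this
    refine ⟨Fx3.map e.toMonoidHom, O0.map e.toMonoidHom, ?_, ?_, ?_, ?_, ?_⟩
    · intro g
      rw [hsab, mem_map_iff]
      exact (fix_iff e φ₃ g).symm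
    · rw [← pCore_map_equiv' 2 E3, Subgroup.map_map, ← pCore_eq, Subgroup.map_map]
      congr 1
    · refine ⟨⟨⟨?_⟩⟩, ?_⟩
      · rintro ⟨_, x, ⟨c, hc, rfl⟩, rfl⟩ ⟨_, y, ⟨d, hd, rfl⟩, rfl⟩
        apply Subtype.ext
        show e (oE c) * e (oE d) = e (oE d) * e (oE c)
        rw [← map_mul, ← map_mul, oE_comm]
      · rintro _ ⟨x, ⟨c, hc, rfl⟩, rfl⟩
        show (e (oE c)) ^ 2 = 1
        rw [pow_two, ← map_mul, oE_sq, map_one]
    · rw [← card_O0]
      exact (Nat.card_congr (O0.equivMapOfInjective _ hinj).toEquiv).symm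
    · set ρ : ↥(Fx3.map e.toMonoidHom) →* ↥(Cfsg.Agent.Lib.OrthGroup.O QM) := rhoZ.comp E3.symm.toMonoidHom with hρ
      have hsurj : Function.Surjective ρ := by
        intro x
        obtain ⟨y, hy⟩ := rhoZ_surj x
        refine ⟨E3 y, ?_⟩
        show rhoZ (E3.symm (E3 y)) = x
        rw [E3.symm_apply_apply, hy]
      have hker : ρ.ker = (O0.map e.toMonoidHom).subgroupOf (Fx3.map e.toMonoidHom) := by
        ext y
        rw [MonoidHom.mem_ker, Subgroup.mem_subgroupOf, mem_map_iff]
        have h1 : ρ y = 1 ↔ E3.symm y ∈ rhoZ.ker := by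
          rw [MonoidHom.mem_ker]
          rfl
        rw [h1, ker_rhoZ, Subgroup.mem_subgroupOf]
        have h2 : ((E3.symm y : ↥Fx3) : Gq) = e.symm y := by
          rw [← hE3v y]
          simp
        rw [h2]
      have hN : ((O0.map e.toMonoidHom).subgroupOf (Fx3.map e.toMonoidHom)).Normal := by
        rw [← hker]
        exact ρ.normal_ker
      refine ⟨hN, ⟨?_⟩⟩
      exact (QuotientGroup.quotientMulEquivOfEq hker.symm).trans
        ((QuotientGroup.quotientKerEquivOfSurjective ρ hsurj).trans isoE)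

/-- Let G be a finite group with trivial centre generated by a conjugation-invariant set D of 3-transpositions on which it acts primitively, such that for some d in D the subgroup generated by the members of D other than d commuting with d has central largest normal 2- and 3-subgroups, and suppose G with D is of type M(22). Then G has a non-inner automorphism s of order 2 whose fixed-point subgroup is isomorphic to the full automorphism group of Ω⁺(8, 2) (the commutator subgroup of the isometry group of the hyperbolic quadratic form in dimension 8 over the field with two elements), together with distinct commuting members a, b of D fixed by s such that: s, s composed with conjugation by a, and s composed with conjugation by a b represent the three classes (under the automorphism group) of non-inner automorphisms of order 2; the elements fixed by the automorphism s composed with conjugation by a are exactly those fixed by s and commuting with a, and they form a group isomorphic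 to the direct product of a group of order 2 and the symplectic group of dimension 6 over the field with two elements; and the elements fixed by the automorphism s composed with conjugation by a b form a group whose largest normal 2-subgroup is elementary abelian of order 64 with quotient isomorphic to the full isometry group of the elliptic quadratic form in dimension 6 over the field with two elements. -/
theorem result {G : Type*} [Group G] [Finite G] {D : Set G} (hD : Cfsg.IsThreeTranspositionGroup D) (hprim : Cfsg.IsPrimitiveUnderConj D) (d₀ : G) (hd₀ : d₀ ∈ D) (h3 : Cfsg.pCore 3 ↥(Subgroup.closure {y : G | y ∈ D ∧ y ≠ d₀ ∧ Commute d₀ y}) ≤ Subgroup.center ↥(Subgroup.closure {y : G | y ∈ D ∧ y ≠ d₀ ∧ Commute d₀ y})) (h2 : Cfsg.pCore 2 ↥(Subgroup.closure {y : G | y ∈ D ∧ y ≠ d₀ ∧ Commute d₀ y}) ≤ Subgroup.center ↥(Subgroup.closure {y : G | y ∈ D ∧ y ≠ d₀ ∧ Commute d₀ y})) (h22 : Cfsg.IsOfTypeM22 G D) : ∃ (s : MulAut G) (a b : G) (Cs : Subgroup G), orderOf s = 2 ∧ s ∉ (MulAut.conj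 : G →* MulAut G).range ∧ (∀ g : G, g ∈ Cs ↔ s g = g) ∧ Nonempty (↥Cs ≃* MulAut (Cfsg.Omega (ZMod 2) (Cfsg.quadFormPlus 4 (ZMod 2)))) ∧ a ∈ D ∧ b ∈ D ∧ a ≠ b ∧ Commute a b ∧ s a = a ∧ s b = b ∧ (∀ t : MulAut G, orderOf t = 2 → t ∉ (MulAut.conj : G →* MulAut G).range → (IsConj t s ∨ IsConj t (s * MulAut.conj a) ∨ IsConj t (s * MulAut.conj (a * b)))) ∧ ¬ IsConj s (s * MulAut.conj a) ∧ ¬ IsConj s (s * MulAut.conj (a * b)) ∧ ¬ IsConj (s * MulAut.conj a) (s * MulAut.conj (a * b)) ∧ (∀ g : G, (s * MulAut.conj a) g = g ↔ g ∈ Cs ⊓ Subgroup.centralizer ({a} : Set G)) ∧ Nonempty (↥(Cs ⊓ Subgroup.centralizer ({a} : Set G)) ≃* Multiplicative (ZMod 2) × Cfsg.PSp 3 (ZMod 2)) ∧ ∃ Csab O : Subgroup G, (∀ g : G, g ∈ Csab ↔ (s * MulAut.conj (a * b)) g = g) ∧ O = (Cfsg.pCore 2 ↥Csab).map Csab.subtype ∧ Cfsg.IsElementaryAbelian 2 O ∧ Nat.card O = 64 ∧ ∃ _ : (O.subgroupOf Csab).Normal, Nonempty (↥Csab ⧸ O.subgroupOf Csab ≃* Cfsg.isometryGroup (ZMod 2) (Cfsg.quadFormMinus 2 (ZMod 2) 1 1)) := by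
  obtain ⟨e, he⟩ := exists_iso hD hprim h22
  exact main e he

end Cfsg.Agent.S5472
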