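import Mathlib
import Cfsg.Statements.S5522
import Cfsg.Agent.Lib.M11Chain

set_option autoImplicit false
open Cfsg

namespace Cfsg.Agent.S5522

open Cfsg.Agent.Lib Cfsg.Agent.Lib.Golay Cfsg.Agent.Lib.M11Chain Cfsg.Spor
open Cfsg.Agent.Lib.M11Data (dod)

/-- One step of the decomposition along the chain. -/
theorem step_decomp {l : List ℕ} {b : ℕ} {Ls T : List ℕ} (hb : b < 24) (hl : ∀ x ∈ l, x < 24)
    (hbl : b ∉ l) (hb0 : b ≠ 0) (hbD : dod.testBit b = true) (hc : coverD l Ls = true)
    (hT : levelM l b Ls T = true) {g : Equiv.Perm GolayPt} (hg : g ∈ MG l) :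
    ∃ c ∈ T, decode c ∈ MG l ∧ (decode c)⁻¹ * g ∈ MG (b :: l) := by
  obtain ⟨hg1, hg2⟩ := mem_MG.1 hg
  have hin : idx (g (pt b)) ∈ Ls := by
    have h1 := mem_dod_smul hg1 hb hbD
    have h2 := idx_ne_zero hg1 hb hb0
    have h3 : idx (g (pt b)) ∉ l := by
      intro h
      have h4 := hg2 _ h
      rw [pt_idx] at h4
      have h5 := g.injective h4
      rw [h5, idx_pt hb] at h
      exact hbl h
    simp only [coverD, List.all_eq_true, Bool.or_eq_true, Bool.not_eq_true', List.contains_iff_mem] at hc
    rcases hc _ (mem_idxL.2 (idx_lt (g (pt b)))) with ((h | h) | h) | h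
    · rw [h1] at h; cases h
    · exact absurd (Nat.eq_of_beq_eq_true h) h2
    · exact absurd h h3
    · exact h
  have hT' := hT
  simp only [levelM, Bool.and_eq_true, List.all_eq_true, List.any_eq_true] at hT'
  obtain ⟨h1, h2⟩ := hT'
  obtain ⟨c, hc', hcq⟩ := h2 _ hin
  have hc1 := h1 c hc'
  have hv := isM11_valid hc1.1
  have hmem : decode c ∈ MG l := by
    refine mem_MG.2 ⟨decode_mem_M11 hc1.1, ?_⟩
    intro x hx
    rw [decode_pt hv (hl x hx), Nat.eq_of_beq_eq_true (hc1.2 x hx)]
  refine ⟨c, hc', hmem, ?_⟩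
  rw [MG_cons, Subgroup.mem_inf]
  refine ⟨mul_mem (inv_mem hmem) hg, ?_⟩
  rw [MulAction.mem_stabilizer_iff, Equiv.Perm.smul_def, Equiv.Perm.mul_apply, Equiv.Perm.inv_eq_iff_eq,
    decode_pt hv hb, Nat.eq_of_beq_eq_true hcq, pt_idx]

/-- Decomposition of an element of `M11` along the chain. -/
theorem decomp {g : Equiv.Perm GolayPt} (hg : g ∈ M11) :
    ∃ a ∈ M11Data.T1, ∃ b ∈ M11Data.T2, ∃ c ∈ M11Data.T3, ∃ d ∈ M11Data.T4, g = decode a * (decode b * (decode c * decode d)) := by
  have hg0 : g ∈ MG [] := by rw [MG_nil]; exact hg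
  obtain ⟨a, ha, -, h1⟩ := step_decomp (b := 1) (Ls := M11Data.L1) (T := M11Data.T1) (by norm_num) (by simp) (by simp) (by norm_num)
    (by decide +kernel) (by decide +kernel) (by decide +kernel) hg0
  obtain ⟨b, hb, -, h2⟩ := step_decomp (b := 2) (Ls := M11Data.L2) (T := M11Data.T2) (by norm_num) (by simp) (by simp) (by norm_num)
    (by decide +kernel) (by decide +kernel) (by decide +kernel) h1
  obtain ⟨c, hc, -, h3⟩ := step_decomp (b := 3) (Ls := M11Data.L3) (T := M11Data.T3) (by norm_num) (by simp) (by simp) (by norm_num)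
    (by decide +kernel) (by decide +kernel) (by decide +kernel) h2
  obtain ⟨d, hd, -, h4⟩ := step_decomp (b := 4) (Ls := M11Data.L4) (T := M11Data.T4) (by norm_num) (by simp) (by simp) (by norm_num)
    (by decide +kernel) (by decide +kernel) (by decide +kernel) h3
  rw [MG_bot, Subgroup.mem_bot] at h4
  refine ⟨a, ha, b, hb, c, hc, d, hd, ?_⟩
  have e4 : (decode c)⁻¹ * ((decode b)⁻¹ * ((decode a)⁻¹ * g)) = decode d := inv_mul_eq_one.1 h4 |>.symm
  have e3 := eq_mul_of_inv_mul_eq e4
  have e2 := eq_mul_of_inv_mul_eq e3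
  exact eq_mul_of_inv_mul_eq e2

/-- The composite of four codes applied to a point. -/
def app (a b c d i : ℕ) : ℕ := ap a (ap b (ap c (ap d i)))

/-- The test on a composite. -/
def chk (a b c d : ℕ) : Bool :=
  idxL.any (fun i => !(dod.testBit i) && Nat.beq (app a b c d i) i) ||
  (!(idxL.all fun i => Nat.beq (app a b c d (app a b c d i)) i) &&
    !(idxL.all fun i => Nat.beq (app a b c d (app a b c d (app a b c d i))) i))

theorem chk_all : (M11Data.T1.all fun a => M11Data.T2.all fun b => M11Data.T3.all fun c => M11Data.T4.all fun d => chk a b c d) = true := by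
  decide +kernel

theorem T_valid : (M11Data.T1.all fun c => valid c) = true ∧ (M11Data.T2.all fun c => valid c) = true ∧
    (M11Data.T3.all fun c => valid c) = true ∧ (M11Data.T4.all fun c => valid c) = true := by
  decide +kernel

theorem dvd_twelve {g : Equiv.Perm GolayPt} (hg : g ∈ M11) (hord : (orderOf g).Prime)
    (hno : ∀ x, x ∉ squareDodecad → g x ≠ x) : orderOf g ∣ 12 := by
  classical
  obtain ⟨-, hD, -⟩ := (mem_M11_iff g).1 hg
  rw [← squareDodecad_eq] at hD
  have hiff : ∀ x, g x ∉ squareDodecad ↔ x ∉ squareDodecad := by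
    intro x
    have : g x ∈ squareDodecad ↔ x ∈ squareDodecad := by
      conv_lhs => rw [← hD]
      rw [← Equiv.Perm.smul_def, Finset.smul_mem_smul_finset_iff]
    rw [this]
  set p := orderOf g with hp
  have : Fact p.Prime := ⟨hord⟩
  let f : Equiv.Perm {x // x ∉ squareDodecad} := g.subtypePerm hiff
  have hfp : f ^ p ^ 1 = 1 := by
    rw [pow_one]
    ext x
    simp only [f, Equiv.Perm.subtypePerm_pow, Equiv.Perm.subtypePerm_apply, Equiv.Perm.coe_one, id_eq]
    rw [hp, pow_orderOf_eq_one]
    rfl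
  have h := Equiv.Perm.card_compl_support_modEq hfp
  have hfix : (f.support)ᶜ = ∅ := by
    rw [Finset.compl_eq_empty_iff, Finset.eq_univ_iff_forall]
    rintro ⟨x, hx⟩
    rw [Equiv.Perm.mem_support]
    intro hfx
    exact hno x hx (congrArg Subtype.val hfx)
  have hcard : Fintype.card {x // x ∉ squareDodecad} = 12 := by
    rw [Fintype.card_subtype_compl, squareDodecad_eq]
    decide +kernel
  rw [hfix, hcard, Finset.card_empty] at h
  exact (Nat.modEq_zero_iff_dvd).1 h.symm

/-- The Mathieu group M₁₁, realised as the stabiliser of one point of the dodecad of squares inside the stabiliser M₁₂ of that dodecad in M₂₄, acts on the twelve coordinate positions outside the dodecad of squares (its 3-transitive action of degree 12); in this action every element of prime order fixes a point, i.e. the action is elusive. -/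
theorem result (g : Equiv.Perm Cfsg.GolayPt) (hg : g ∈ Cfsg.Spor.M11) (hord : (orderOf g).Prime) :
    ∃ x : Cfsg.GolayPt, x ∉ Cfsg.Spor.squareDodecad ∧ g x = x := by
  by_contra hcon
  push Not at hcon
  have hno : ∀ x, x ∉ squareDodecad → g x ≠ x := hcon
  have hd := dvd_twelve hg hord hno
  have hp23 : orderOf g = 2 ∨ orderOf g = 3 := by
    have h12 : (12 : ℕ) = 2 ^ 2 * 3 := by norm_num
    rw [h12] at hd
    rcases (Nat.Prime.dvd_mul hord).1 hd with h | h
    · exact Or.inl ((Nat.prime_dvd_prime_iff_eq hord Nat.prime_two).1 (hord.dvd_of_dvd_pow h))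
    · exact Or.inr ((Nat.prime_dvd_prime_iff_eq hord Nat.prime_three).1 h)
  obtain ⟨a, ha, b, hb, c, hc, d, hd', rfl⟩ := decomp hg
  have hall := chk_all
  simp only [List.all_eq_true] at hall
  have hchk := hall a ha b hb c hc d hd'
  obtain ⟨v1, v2, v3, v4⟩ := T_valid
  simp only [List.all_eq_true] at v1 v2 v3 v4
  have va := v1 a ha
  have vb := v2 b hb
  have vc := v3 c hc
  have vd := v4 d hd'
  set G := decode a * (decode b * (decode c * decode d)) with hG
  have happlt : ∀ i, i < 24 → app a b c d i < 24 := by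
    intro i hi
    exact valid_ap_lt va (valid_ap_lt vb (valid_ap_lt vc (valid_ap_lt vd hi)))
  have hact : ∀ i, i < 24 → G (pt i) = pt (app a b c d i) := by
    intro i hi
    simp only [hG, Equiv.Perm.mul_apply]
    rw [decode_pt vd hi, decode_pt vc (valid_ap_lt vd hi), decode_pt vb (valid_ap_lt vc (valid_ap_lt vd hi)),
      decode_pt va (valid_ap_lt vb (valid_ap_lt vc (valid_ap_lt vd hi)))]
    rfl
  simp only [chk, Bool.or_eq_true, Bool.and_eq_true, List.any_eq_true, Bool.not_eq_true', List.all_eq_false] at hchk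
  rcases hchk with ⟨i, hi, h1, h2⟩ | ⟨⟨i, hi, h1⟩, ⟨j, hj, h2⟩⟩
  · have hi24 := mem_idxL.1 hi
    apply hno (pt i)
    · rw [squareDodecad_eq, mem_ofMask, idx_pt hi24, h1]
      simp
    · rw [hact i hi24, Nat.eq_of_beq_eq_true h2]
  · have hi24 := mem_idxL.1 hi
    have hj24 := mem_idxL.1 hj
    rcases hp23 with h | h
    · apply h1
      have e : G ^ 2 = 1 := by rw [← h, pow_orderOf_eq_one]
      have e2 : G (G (pt i)) = pt i := by
        have := congrArg (fun f : Equiv.Perm GolayPt => f (pt i)) e
        simpa [pow_two] using this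
      rw [hact i hi24, hact _ (happlt i hi24)] at e2
      have := pt_injOn (happlt _ (happlt i hi24)) hi24 e2
      rw [this]
      exact Nat.beq_refl _
    · apply h2
      have e : G ^ 3 = 1 := by rw [← h, pow_orderOf_eq_one]
      have e2 : G (G (G (pt j))) = pt j := by
        have := congrArg (fun f : Equiv.Perm GolayPt => f (pt j)) e
        simpa [pow_succ] using this
      rw [hact j hj24, hact _ (happlt j hj24), hact _ (happlt _ (happlt j hj24))] at e2
      have := pt_injOn (happlt _ (happlt _ (happlt j hj24))) hj24 e2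
      rw [this]
      exact Nat.beq_refl _

end Cfsg.Agent.S5522
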