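import Cfsg.Statements.S5726

set_option autoImplicit false
open Cfsg

namespace Cfsg.Agent.H97

open MulAction in
/-- Orbit-stabilizer with `Nat.card`. -/
theorem natCard_orbit_mul_stabilizer {G Ω : Type*} [Group G] [MulAction G Ω] (ω : Ω) :
    Nat.card (orbit G ω) * Nat.card (stabilizer G ω) = Nat.card G := by
  rw [Nat.card_congr (orbitEquivQuotientStabilizer G ω), mul_comm]
  exact (stabilizer G ω).card_mul_index

open MulAction in
/-- A Sylow p-subgroup of a group acting transitively on p^k points is transitive. -/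
theorem sylow_exists_smul_eq {G Ω : Type*} [Group G] [Finite G] [MulAction G Ω] [Finite Ω]
    (htr : MulAction.IsPretransitive G Ω) (p k : ℕ) [hp : Fact p.Prime] (hΩ : Nat.card Ω = p ^ k)
    (P : Sylow p G) (ω ω' : Ω) : ∃ g ∈ (P : Subgroup G), g • ω = ω' := by
  classical
  -- orbit-stabilizer for G
  have h1 : Nat.card (orbit G ω) * Nat.card (stabilizer G ω) = Nat.card G :=
    natCard_orbit_mul_stabilizer ω
  have horb : orbit G ω = Set.univ := MulAction.orbit_eq_univ G ω
  have h2 : Nat.card (orbit G ω) = p ^ k := by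
    rw [horb, Nat.card_congr (Equiv.Set.univ Ω), hΩ]
  -- orbit-stabilizer for P
  have h3 : Nat.card (orbit (P : Subgroup G) ω) * Nat.card (stabilizer (P : Subgroup G) ω) = Nat.card P :=
    natCard_orbit_mul_stabilizer ω
  -- the stabilizer in P has order dividing the p-part of the stabilizer in G
  set H := stabilizer G ω with hH
  have hHpos : 0 < Nat.card H := Nat.card_pos
  have hGpos : 0 < Nat.card G := Nat.card_pos
  have hP : Nat.card P = p ^ (Nat.card G).factorization p := Sylow.card_eq_multiplicity P
  have hfac : (Nat.card G).factorization p = k + (Nat.card H).factorization p := by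
    rw [← h1, h2, Nat.factorization_mul (pow_ne_zero _ hp.out.ne_zero) hHpos.ne']
    simp [Nat.Prime.factorization_self hp.out]
  -- stabilizer in P embeds in H and is a p-group
  have hstabP : IsPGroup p (stabilizer (P : Subgroup G) ω) := by
    intro x
    obtain ⟨n, hn⟩ := P.2 (⟨x.1, x.1.2⟩ : (P : Subgroup G))
    exact ⟨n, by ext; simpa [Subtype.ext_iff] using hn⟩
  obtain ⟨j, hj⟩ := IsPGroup.iff_card.mp hstabP
  have hdiv : Nat.card (stabilizer (P : Subgroup G) ω) ∣ Nat.card H := by
    let f : stabilizer (P : Subgroup G) ω →* H :=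
      { toFun := fun x => ⟨(x.1 : G), by
          have := x.2
          rw [MulAction.mem_stabilizer_iff] at this
          exact this⟩
        map_one' := rfl
        map_mul' := fun _ _ => rfl }
    have hf : Function.Injective f := by
      intro a b hab
      apply Subtype.ext; apply Subtype.ext
      exact congrArg (fun x : H => (x : G)) hab
    have : Nat.card (f.range) = _ := Nat.card_congr (MonoidHom.ofInjective hf).symm.toEquiv
    rw [← this]
    exact Subgroup.card_subgroup_dvd_card _
  have hjle : j ≤ (Nat.card H).factorization p := by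
    rw [hj] at hdiv
    exact (hp.out.pow_dvd_iff_le_factorization hHpos.ne').mp hdiv
  -- thus the P-orbit is everything
  have horbcard : p ^ k ≤ Nat.card (orbit (P : Subgroup G) ω) := by
    have h4 : Nat.card (orbit (P : Subgroup G) ω) * p ^ j = p ^ (k + (Nat.card H).factorization p) := by
      rw [← hfac, ← hP, ← h3, hj]
    have h5 : p ^ (k + (Nat.card H).factorization p) = p ^ k * p ^ ((Nat.card H).factorization p - j) * p ^ j := by
      rw [mul_assoc, ← pow_add, ← pow_add]
      congr 2
      omega
    rw [h5] at h4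
    have h6 := Nat.eq_of_mul_eq_mul_right (pow_pos hp.out.pos j) h4
    rw [h6]
    exact Nat.le_mul_of_pos_right _ (pow_pos hp.out.pos _)
  have huniv : orbit (P : Subgroup G) ω = Set.univ := by
    apply Set.eq_of_subset_of_ncard_le (Set.subset_univ _)
    · rw [Set.ncard_univ, hΩ]
      exact horbcard
  have hmem : ω' ∈ orbit (P : Subgroup G) ω := by rw [huniv]; trivial
  obtain ⟨g, hg⟩ := hmem
  exact ⟨g.1, g.2, hg⟩

/-- The prime power degree lemma. -/
theorem prime_power_degree_derangement {G Ω : Type*} [Group G] [Finite G] [MulAction G Ω]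
    [FaithfulSMul G Ω] [Fintype Ω] (htr : MulAction.IsPretransitive G Ω)
    (p k : ℕ) (hp : p.Prime) (hk : 1 ≤ k) (hΩ : Fintype.card Ω = p ^ k) :
    ∃ g : G, orderOf g = p ∧ ∀ ω : Ω, g • ω ≠ ω := by
  classical
  have : Fact p.Prime := ⟨hp⟩
  have hΩ' : Nat.card Ω = p ^ k := by rwa [Nat.card_eq_fintype_card]
  have hne : Nonempty Ω := by
    rw [← Fintype.card_pos_iff, hΩ]
    exact pow_pos hp.pos _
  obtain ⟨ω₀⟩ := hne
  obtain ⟨P⟩ : Nonempty (Sylow p G) := inferInstance
  -- p divides |G|
  have hpG : p ∣ Nat.card G := by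
    have h1 : Nat.card (MulAction.orbit G ω₀) * Nat.card (MulAction.stabilizer G ω₀) = Nat.card G :=
      natCard_orbit_mul_stabilizer ω₀
    have horb : MulAction.orbit G ω₀ = Set.univ := MulAction.orbit_eq_univ G ω₀
    have h2 : Nat.card (MulAction.orbit G ω₀) = p ^ k := by
      rw [horb, Nat.card_congr (Equiv.Set.univ Ω), hΩ']
    rw [← h1, h2]
    exact Dvd.dvd.mul_right (dvd_pow_self p (by omega)) _
  have hPnt : Nontrivial P := by
    have : p ∣ Nat.card P := by
      rw [Sylow.card_eq_multiplicity P]
      apply dvd_pow_self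
      have := (hp.dvd_iff_one_le_factorization (Nat.card_pos (α := G)).ne').mp hpG
      omega
    have hcard : 1 < Nat.card P := by
      have := Nat.le_of_dvd Nat.card_pos this
      have := hp.one_lt
      omega
    exact Finite.one_lt_card_iff_nontrivial.mp hcard
  have hcenter : Nontrivial (Subgroup.center (P : Subgroup G)) := P.2.center_nontrivial
  have hpdvd : p ∣ Nat.card (Subgroup.center (P : Subgroup G)) := by
    have hpg : IsPGroup p (Subgroup.center (P : Subgroup G)) := by
      intro x
      obtain ⟨n, hn⟩ := P.2 x.1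
      exact ⟨n, by ext; simpa [Subtype.ext_iff] using hn⟩
    obtain ⟨n, hn⟩ := IsPGroup.iff_card.mp hpg
    have : n ≠ 0 := by
      rintro rfl
      have : Nat.card (Subgroup.center (P : Subgroup G)) = 1 := by simpa using hn
      have := Finite.one_lt_card_iff_nontrivial.mpr hcenter
      omega
    rw [hn]
    exact dvd_pow_self p this
  obtain ⟨z, hz⟩ := exists_prime_orderOf_dvd_card' p hpdvd
  have h' : orderOf z = orderOf ((z.1 : G)) := by
    rw [← Subgroup.orderOf_coe z, ← Subgroup.orderOf_coe z.1]
  refine ⟨(z.1 : G), h' ▸ hz, ?_⟩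
  intro ω hfix
  have hz1 : (z.1 : G) = 1 := by
    apply FaithfulSMul.eq_of_smul_eq_smul (α := Ω)
    intro ω'
    obtain ⟨g, hg, hgω⟩ := sylow_exists_smul_eq htr p k hΩ' P ω ω'
    rw [one_smul, ← hgω]
    have hcomm : (z.1 : G) * g = g * (z.1 : G) := by
      have := (Subgroup.mem_center_iff.mp z.2 ⟨g, hg⟩)
      have := congrArg (fun x : (P : Subgroup G) => (x : G)) this
      simpa using this.symm
    rw [← mul_smul, hcomm, mul_smul, hfix]
  have : orderOf (z.1 : G) = 1 := by rw [hz1]; simp
  rw [h', this] at hz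
  exact hp.one_lt.ne hz

end Cfsg.Agent.H97

namespace Cfsg.Agent.S5726

/-- If a finite group acts faithfully and transitively on a set with p^k elements, p a prime and k ≥ 1, then some element of order p fixes no point. -/
theorem result {G Ω : Type*} [Group G] [Finite G] [MulAction G Ω] [FaithfulSMul G Ω] [Fintype Ω] (htr : MulAction.IsPretransitive G Ω)
    (p k : ℕ) (hp : p.Prime) (hk : 1 ≤ k) (hΩ : Fintype.card Ω = p ^ k) :
    ∃ g : G, orderOf g = p ∧ ∀ ω : Ω, g • ω ≠ ω :=
  Cfsg.Agent.H97.prime_power_degree_derangement htr p k hp hk hΩ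

end Cfsg.Agent.S5726
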