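import Cfsg.Statements.S5727
import Cfsg.Agent.S5726

set_option autoImplicit false
open Cfsg

namespace Cfsg.Agent.H97

open MulAction in
/-- Degree `m * p` with `m < p`. -/
theorem degree_lt_square_derangement {G Ω : Type*} [Group G] [Finite G] [MulAction G Ω]
    [FaithfulSMul G Ω] [Fintype Ω] (htr : MulAction.IsPretransitive G Ω)
    (p m : ℕ) (hp : p.Prime) (hm : 1 ≤ m) (hmp : m < p) (hΩ : Fintype.card Ω = m * p) :
    ∃ g : G, orderOf g = p ∧ ∀ ω : Ω, g • ω ≠ ω := by
  classical
  have : Fact p.Prime := ⟨hp⟩
  have hΩ' : Nat.card Ω = m * p := by rwa [Nat.card_eq_fintype_card]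
  obtain ⟨P⟩ : Nonempty (Sylow p G) := inferInstance
  have hpm : ¬ p ∣ m := fun h => by
    have := Nat.le_of_dvd (by omega) h
    omega
  have hm0 : m ≠ 0 := by omega
  -- each stabilizer in P has index exactly p
  have hindex : ∀ ω : Ω, Nat.card (orbit (P : Subgroup G) ω) = p := by
    intro ω
    have h1 : Nat.card (orbit G ω) * Nat.card (stabilizer G ω) = Nat.card G :=
      natCard_orbit_mul_stabilizer ω
    have horb : orbit G ω = Set.univ := MulAction.orbit_eq_univ G ω
    have h2 : Nat.card (orbit G ω) = m * p := by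
      rw [horb, Nat.card_congr (Equiv.Set.univ Ω), hΩ']
    have h3 : Nat.card (orbit (P : Subgroup G) ω) * Nat.card (stabilizer (P : Subgroup G) ω) = Nat.card P :=
      natCard_orbit_mul_stabilizer ω
    set H := stabilizer G ω with hH
    have hHpos : 0 < Nat.card H := Nat.card_pos
    have hP : Nat.card P = p ^ (Nat.card G).factorization p := Sylow.card_eq_multiplicity P
    have hfac : (Nat.card G).factorization p = 1 + (Nat.card H).factorization p := by
      rw [← h1, h2, Nat.factorization_mul (Nat.mul_ne_zero hm0 hp.ne_zero) hHpos.ne',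
        Nat.factorization_mul hm0 hp.ne_zero]
      simp [Nat.Prime.factorization_self hp, Nat.factorization_eq_zero_of_not_dvd hpm]
    have hstabP : IsPGroup p (stabilizer (P : Subgroup G) ω) := by
      intro x
      obtain ⟨n, hn⟩ := P.2 (⟨x.1, x.1.2⟩ : (P : Subgroup G))
      exact ⟨n, by ext; simpa [Subtype.ext_iff] using hn⟩
    obtain ⟨j, hj⟩ := IsPGroup.iff_card.mp hstabP
    have hdiv : Nat.card (stabilizer (P : Subgroup G) ω) ∣ Nat.card H := by
      let f : stabilizer (P : Subgroup G) ω →* H :=
        { toFun := fun x => ⟨(x.1 : G), by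
            have := x.2
            rw [MulAction.mem_stabilizer_iff] at this
            exact this⟩
          map_one' := rfl
          map_mul' := fun _ _ => rfl }
      have hf : Function.Injective f := by
        intro a b hab
        apply Subtype.ext; apply Subtype.ext
        exact congrArg (fun x : H => (x : G)) hab
      have : Nat.card (f.range) = _ := Nat.card_congr (MonoidHom.ofInjective hf).symm.toEquiv
      rw [← this]
      exact Subgroup.card_subgroup_dvd_card _
    have hjle : j ≤ (Nat.card H).factorization p := by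
      rw [hj] at hdiv
      exact (hp.pow_dvd_iff_le_factorization hHpos.ne').mp hdiv
    -- orbit size is a power of p, at least p, and at most m * p < p ^ 2
    have horbp : Nat.card (orbit (P : Subgroup G) ω) * p ^ j = p ^ (1 + (Nat.card H).factorization p) := by
      rw [← hfac, ← hP, ← h3, hj]
    have hle : Nat.card (orbit (P : Subgroup G) ω) ≤ m * p := by
      have : Nat.card (orbit (P : Subgroup G) ω) ≤ Nat.card Ω := by
        exact Nat.card_le_card_of_injective _ Subtype.val_injective
      rwa [hΩ'] at this
    have hdvd : Nat.card (orbit (P : Subgroup G) ω) ∣ p ^ (1 + (Nat.card H).factorization p) :=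
      ⟨_, horbp.symm⟩
    obtain ⟨a, ha, hoa⟩ := (Nat.dvd_prime_pow hp).mp hdvd
    have hage : 1 ≤ a := by
      by_contra hlt
      have ha0 : a = 0 := by omega
      rw [hoa, ha0] at horbp
      simp only [pow_zero, one_mul] at horbp
      have := Nat.pow_le_pow_iff_right hp.one_lt |>.mp (le_of_eq horbp.symm)
      omega
    have hale : a ≤ 1 := by
      by_contra hlt
      have h2a : 2 ≤ a := by omega
      have h5 : p ^ 2 ≤ p ^ a := Nat.pow_le_pow_right hp.pos h2a
      have h6 : m * p < p ^ 2 := by nlinarith [hp.pos]
      rw [hoa] at hle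
      omega
    have : a = 1 := by omega
    rw [hoa, this, pow_one]
  -- stabilizers in P have index p hence are normal
  have hidx : ∀ ω : Ω, (stabilizer (P : Subgroup G) ω).index = p := by
    intro ω
    rw [index_stabilizer]
    exact hindex ω
  have hPcard : ∃ n, Nat.card P = p ^ n := IsPGroup.iff_card.mp P.2
  obtain ⟨n, hn⟩ := hPcard
  have hnormal : ∀ ω : Ω, (stabilizer (P : Subgroup G) ω).Normal := by
    intro ω
    apply Subgroup.normal_of_index_eq_minFac_card
    rw [hidx ω, hn]
    have hn0 : n ≠ 0 := by
      rintro rfl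
      have h1 := (stabilizer (P : Subgroup G) ω).index_dvd_card
      rw [hidx ω, hn, pow_zero] at h1
      exact hp.one_lt.ne' (Nat.dvd_one.mp h1)
    exact (Nat.Prime.pow_minFac hp hn0).symm
  have hfixall : ∀ (x : (P : Subgroup G)) (ω : Ω), x ∈ stabilizer (P : Subgroup G) ω →
      ∀ y : (P : Subgroup G), x • (y • ω) = y • ω := by
    intro x ω hx y
    have h1 : y⁻¹ * x * y ∈ stabilizer (P : Subgroup G) ω := by
      have := (hnormal ω).conj_mem x hx y⁻¹
      simpa using this
    have h2 : (y⁻¹ * x * y) • ω = ω := h1
    calc x • (y • ω) = y • ((y⁻¹ * x * y) • ω) := by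
          simp only [mul_smul, smul_inv_smul]
      _ = y • ω := by rw [h2]
  -- the orbits
  let Q := Quotient (orbitRel (P : Subgroup G) Ω)
  letI : Fintype Q := Fintype.ofFinite _
  letI : Fintype (P : Subgroup G) := Fintype.ofFinite _
  have hQcard : Fintype.card Q * p = m * p := by
    have e := selfEquivSigmaOrbits (P : Subgroup G) Ω
    have h1 : Nat.card Ω = Nat.card (Σ ω : Q, orbit (P : Subgroup G) ω.out) := by
      exact Nat.card_congr (by simpa using e)
    rw [hΩ', Nat.card_sigma] at h1
    simp only [hindex] at h1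
    simp only [Finset.sum_const, Finset.card_univ, smul_eq_mul] at h1
    exact h1.symm
  have hQm : Fintype.card Q = m := Nat.eq_of_mul_eq_mul_right hp.pos hQcard
  -- the union bound
  have hcardS : ∀ ω : Ω, Nat.card (stabilizer (P : Subgroup G) ω) * p = Nat.card P := by
    intro ω
    have := (stabilizer (P : Subgroup G) ω).card_mul_index
    rwa [hidx ω] at this
  have hexists : ∃ x : (P : Subgroup G), ∀ q : Q, x ∉ stabilizer (P : Subgroup G) (q.out) := by
    by_contra hcon
    push Not at hcon
    have hcover : (Finset.univ : Finset (P : Subgroup G)) ⊆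
        Finset.univ.biUnion (fun q : Q => (Finset.univ.filter (fun x : (P : Subgroup G) => x ∈ stabilizer (P : Subgroup G) (q.out)))) := by
      intro x _
      obtain ⟨q, hq⟩ := hcon x
      simp only [Finset.mem_biUnion, Finset.mem_univ, Finset.mem_filter, true_and]
      exact ⟨q, hq⟩
    have h1 := Finset.card_le_card hcover
    have h2 := Finset.card_biUnion_le (s := (Finset.univ : Finset Q))
      (t := fun q : Q => (Finset.univ.filter (fun x : (P : Subgroup G) => x ∈ stabilizer (P : Subgroup G) (q.out))))
    have h3 : ∀ q : Q, (Finset.univ.filter (fun x : (P : Subgroup G) => x ∈ stabilizer (P : Subgroup G) (q.out))).card * p = Nat.card P := by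
      intro q
      rw [← hcardS q.out, Nat.card_eq_fintype_card (α := stabilizer (P : Subgroup G) (q.out)), Fintype.card_subtype]
    have h4 : (Finset.univ : Finset (P : Subgroup G)).card * p ≤ m * Nat.card P := by
      calc (Finset.univ : Finset (P : Subgroup G)).card * p
          ≤ (∑ q : Q, (Finset.univ.filter (fun x : (P : Subgroup G) => x ∈ stabilizer (P : Subgroup G) (q.out))).card) * p :=
            Nat.mul_le_mul_right _ (h1.trans h2)
        _ = ∑ q : Q, (Finset.univ.filter (fun x : (P : Subgroup G) => x ∈ stabilizer (P : Subgroup G) (q.out))).card * p := by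
            rw [Finset.sum_mul]
        _ = m * Nat.card P := by
            simp only [h3, Finset.sum_const, Finset.card_univ, smul_eq_mul, hQm]
    rw [Finset.card_univ, ← Nat.card_eq_fintype_card] at h4
    have hPpos : 0 < Nat.card P := Nat.card_pos
    have h5 : Nat.card P * p ≤ Nat.card P * m := by
      rw [mul_comm (Nat.card P) m]; exact h4
    have := Nat.le_of_mul_le_mul_left h5 hPpos
    omega
  obtain ⟨x, hx⟩ := hexists
  have hxfix : ∀ ω : Ω, x • ω ≠ ω := by
    intro ω hω
    have hq : (⟦ω⟧ : Q) = ⟦(⟦ω⟧ : Q).out⟧ := (Quotient.out_eq _).symm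
    have hrel : (orbitRel (P : Subgroup G) Ω) ω (⟦ω⟧ : Q).out := Quotient.exact hq
    rw [orbitRel_apply] at hrel
    obtain ⟨y, hy⟩ := hrel
    -- y • rep = ω
    apply hx (⟦ω⟧ : Q)
    rw [mem_stabilizer_iff]
    have hxs : x ∈ stabilizer (P : Subgroup G) ω := hω
    have := hfixall x ω hxs y⁻¹
    have e : y⁻¹ • ω = (⟦ω⟧ : Q).out := by
      rw [inv_smul_eq_iff]; exact hy.symm
    rw [e] at this
    exact this
  refine ⟨(x : G), ?_, ?_⟩
  · have hpow : (x : G) ^ p = 1 := by
      apply FaithfulSMul.eq_of_smul_eq_smul (α := Ω)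
      intro ω
      have h1 : x ^ p ∈ stabilizer (P : Subgroup G) ω := by
        have := hnormal ω
        have := Subgroup.pow_index_mem (stabilizer (P : Subgroup G) ω) x
        rwa [hidx ω] at this
      have h2 : (x ^ p) • ω = ω := h1
      rw [one_smul]
      simpa [Subgroup.smul_def] using h2
    have hne : (x : G) ≠ 1 := by
      intro h1
      have hpos : 0 < Fintype.card Ω := by
        rw [hΩ]; exact Nat.mul_pos (by omega) hp.pos
      obtain ⟨ω⟩ := Fintype.card_pos_iff.mp hpos
      apply hxfix ω
      rw [Subgroup.smul_def]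
      show (x : G) • ω = ω
      rw [h1, one_smul]
    exact orderOf_eq_prime hpow hne
  · intro ω
    exact hxfix ω

end Cfsg.Agent.H97

namespace Cfsg.Agent.S5727

/-- If a finite group acts faithfully and transitively on a set with m·p elements, where p is a prime and 1 ≤ m ≤ p, then some element of order p fixes no point. -/
theorem result {G Ω : Type*} [Group G] [Finite G] [MulAction G Ω] [FaithfulSMul G Ω] [Fintype Ω] (htr : MulAction.IsPretransitive G Ω)
    (p m : ℕ) (hp : p.Prime) (hm : 1 ≤ m) (hmp : m ≤ p) (hΩ : Fintype.card Ω = m * p) :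
    ∃ g : G, orderOf g = p ∧ ∀ ω : Ω, g • ω ≠ ω := by
  rcases hmp.lt_or_eq with h | h
  · exact Cfsg.Agent.H97.degree_lt_square_derangement htr p m hp hm h hΩ
  · subst h
    exact Cfsg.Agent.H97.prime_power_degree_derangement htr m 2 hp (by norm_num) (by rw [hΩ, sq])

end Cfsg.Agent.S5727
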