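import Cfsg.Statements.S5728

set_option autoImplicit false
open Cfsg

namespace Cfsg.Agent.S5728

/-- An elusive transitive action. Let p = 2^s − 1 be a prime and let F be the field with p² elements. Inside the group of affine maps x ↦ a·x + b of F (a ≠ 0), consider the subgroup of maps with both coefficients in the prime field. Then every element of prime order of the affine group is conjugate, within the affine group, to an element of that subgroup; equivalently, in the transitive action of the affine group on the cosets of that subgroup (of degree p(p + 1)) every element of prime order fixes a point. -/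
theorem result (p s : ℕ) [Fact p.Prime] (hs : p = 2 ^ s - 1)
    (g : Equiv.Perm (GaloisField p 2)) (hg : g ∈ Cfsg.affineGroup (GaloisField p 2)) (hord : (orderOf g).Prime) :
    ∃ x ∈ Cfsg.affineGroup (GaloisField p 2), ∃ a b : ZMod p, a ≠ 0 ∧
      ∀ y : GaloisField p 2, (x * g * x⁻¹) y = algebraMap (ZMod p) (GaloisField p 2) a * y + algebraMap (ZMod p) (GaloisField p 2) b := by
  classical
  have hp : p.Prime := Fact.out
  obtain ⟨α, β, hgα⟩ := hg
  have hk : ∀ k : ℕ, ∃ c : GaloisField p 2, ∀ y, (g ^ k) y = (α : GaloisField p 2) ^ k * y + c := by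
    intro k
    induction k with
    | zero => exact ⟨0, fun y => by simp⟩
    | succ k ih =>
      obtain ⟨c, hc⟩ := ih
      refine ⟨(α : GaloisField p 2) ^ k * β + c, fun y => ?_⟩
      rw [pow_succ, Equiv.Perm.coe_mul, Function.comp_apply, hc, hgα]
      ring
  have hr1 := pow_orderOf_eq_one g
  have hαr : (α : GaloisField p 2) ^ orderOf g = 1 := by
    obtain ⟨c, hc⟩ := hk (orderOf g)
    have h0 := hc 0
    have h1 := hc 1
    rw [hr1] at h0 h1
    simp only [Equiv.Perm.coe_one, id_eq, mul_zero, zero_add, mul_one] at h0 h1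
    rw [← h0, add_zero] at h1
    exact h1.symm
  by_cases hα : (α : GaloisField p 2) = 1
  · have hβ : β ≠ 0 := by
      rintro rfl
      have : g = 1 := by
        ext y
        rw [hgα, hα]; simp
      rw [this, orderOf_one] at hord
      exact Nat.not_prime_one hord
    let x : Equiv.Perm (GaloisField p 2) := Equiv.mulLeft₀ β⁻¹ (inv_ne_zero hβ)
    have hxapp : ∀ y, x y = β⁻¹ * y := fun y => rfl
    have hxinv : ∀ y, x⁻¹ y = β * y := by
      intro y
      rw [Equiv.Perm.inv_eq_iff_eq, hxapp, ← mul_assoc, inv_mul_cancel₀ hβ, one_mul]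
    refine ⟨x, ⟨Units.mk0 β⁻¹ (inv_ne_zero hβ), 0, fun y => by simp [hxapp]⟩, 1, 1, one_ne_zero, fun y => ?_⟩
    rw [Equiv.Perm.coe_mul, Equiv.Perm.coe_mul, Function.comp_apply, Function.comp_apply, hxinv, hgα, hα, hxapp]
    simp only [map_one]
    field_simp
  · have h1α : 1 - (α : GaloisField p 2) ≠ 0 := fun h => hα (sub_eq_zero.mp h).symm
    set y₀ : GaloisField p 2 := β / (1 - (α : GaloisField p 2)) with hy₀
    have hy₀eq : (α : GaloisField p 2) * y₀ + β = y₀ := by
      rw [hy₀]; field_simp; ring
    -- p is odd, p + 1 = 2 ^ s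
    have hs1 : p + 1 = 2 ^ s := by
      have : 1 ≤ 2 ^ s := Nat.one_le_two_pow
      have := hp.pos
      omega
    have hs0 : s ≠ 0 := by
      rintro rfl
      have := hp.pos
      omega
    have hpodd : 2 ∣ p - 1 := by
      have h2 : 2 ∣ 2 ^ s := dvd_pow_self 2 hs0
      rw [← hs1] at h2
      have := hp.pos
      omega
    -- the order of α
    have hr : orderOf (α : GaloisField p 2) = orderOf g := by
      have h1 := orderOf_dvd_of_pow_eq_one hαr
      rcases (Nat.dvd_prime hord).mp h1 with h | h
      · exact absurd (orderOf_eq_one_iff.mp h) hα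
      · exact h
    have hcard : Nat.card (GaloisField p 2) = p ^ 2 := GaloisField.card p 2 (by norm_num)
    have hα2 : (α : GaloisField p 2) ^ (p ^ 2 - 1) = 1 := by
      let _ := Fintype.ofFinite (GaloisField p 2)
      rw [Nat.card_eq_fintype_card] at hcard
      rw [← hcard]
      exact FiniteField.pow_card_sub_one_eq_one _ α.ne_zero
    have hdvd : orderOf g ∣ (p - 1) * 2 ^ s := by
      rw [← hr, ← hs1]
      have h3 : (p - 1) * (p + 1) = p ^ 2 - 1 := by
        have := hp.pos
        obtain ⟨q, rfl⟩ : ∃ q, p = q + 1 := ⟨p - 1, by omega⟩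
        simp only [Nat.add_sub_cancel]
        have : (q + 1) ^ 2 - 1 = q * (q + 1 + 1) := by
          have : (q + 1) ^ 2 = q * (q + 1 + 1) + 1 := by ring
          omega
        omega
      rw [h3]
      exact orderOf_dvd_of_pow_eq_one hα2
    have hrp : orderOf g ∣ p - 1 := by
      rcases (Nat.Prime.dvd_mul hord).mp hdvd with h | h
      · exact h
      · have := (Nat.prime_dvd_prime_iff_eq hord Nat.prime_two).mp (hord.dvd_of_dvd_pow h)
        rw [this]; exact hpodd
    have hαp : (α : GaloisField p 2) ^ p = α := by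
      obtain ⟨c, hc⟩ := hrp
      have h1 : (α : GaloisField p 2) ^ (p - 1) = 1 := by
        rw [hc, pow_mul, hαr, one_pow]
      have h2 : (p - 1) + 1 = p := by have := hp.pos; omega
      calc (α : GaloisField p 2) ^ p = (α : GaloisField p 2) ^ ((p - 1) + 1) := by rw [h2]
        _ = α := by rw [pow_succ, h1, one_mul]
    -- α lies in the prime field
    have hbot : (α : GaloisField p 2) ∈ (⊥ : Subfield (GaloisField p 2)) :=
      (Subfield.mem_bot_iff_pow_eq_self (GaloisField p 2) p).mpr hαp
    have hrange : (α : GaloisField p 2) ∈ (algebraMap (ZMod p) (GaloisField p 2)).fieldRange :=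
      (bot_le : (⊥ : Subfield (GaloisField p 2)) ≤ _) hbot
    obtain ⟨a, ha⟩ := RingHom.mem_fieldRange.mp hrange
    let x : Equiv.Perm (GaloisField p 2) := Equiv.addRight (-y₀)
    have hxapp : ∀ y, x y = y + -y₀ := fun y => rfl
    have hxinv : ∀ y, x⁻¹ y = y + y₀ := by
      intro y
      rw [Equiv.Perm.inv_eq_iff_eq, hxapp]
      ring
    refine ⟨x, ⟨1, -y₀, fun y => by simp [hxapp]⟩, a, 0, ?_, fun y => ?_⟩
    · rintro rfl
      rw [map_zero] at ha
      exact α.ne_zero ha.symm
    · rw [Equiv.Perm.coe_mul, Equiv.Perm.coe_mul, Function.comp_apply, Function.comp_apply, hxinv, hgα, hxapp,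
        ha, map_zero, add_zero, mul_add]
      linear_combination hy₀eq

end Cfsg.Agent.S5728
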