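import Mathlib
import Cfsg.Statements.S5742
import Cfsg.Agent.Lib.Tw2E6Fi22.Final
import Cfsg.Agent.TcChain36.Out.Fi22.Main

set_option autoImplicit false
open Cfsg

namespace Cfsg.Agent.S5742

open Cfsg.Agent.Lib.Tw2E6Fi22

/-- The simple group ²E₆(2) (the twisted group of type E₆ over the field with 4 elements) contains at least three pairwise non-conjugate subgroups isomorphic to the Fischer group Fi₂₂. -/
theorem result {K : Type*} [Field K] [Fintype K] (hK : Fintype.card K = 4) :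
    ∃ H : Fin 3 → Subgroup (Cfsg.Lie.twistedE6 K 2),
      (∀ i, Cfsg.Spor.IsoFi22 (H i)) ∧
      (∀ i j, i ≠ j → ∀ g : (Cfsg.Lie.twistedE6 K 2), (H i).map (MulAut.conj g).toMonoidHom ≠ H j) := by
  obtain ⟨f⟩ := exists_fhom hK
  obtain ⟨H, h1, h2⟩ := main_of (phi f) hK (phi_inj f) (phi_mem f)
    (out_sq Cfsg.Agent.TcChain36.Out.Fi22.out_eq)
    (fun D hD y => phi_cent f D (fun x _ => hD _) y)
  exact ⟨H, h1, h2⟩

end Cfsg.Agent.S5742
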