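import Cfsg.Statements.S5743
import Cfsg.Agent.Lib.TwE6F4.Main

set_option autoImplicit false
open Cfsg

namespace Cfsg.Agent.S5743

open Cfsg.Lie Matrix Cfsg.Agent.Lib.Chev Cfsg.Agent.Lib.TwE6F4 Cfsg.Agent.Lib.ChevFix

/-- The simple group ²E₆(2) (the twisted group of type E₆ over the field with 4 elements) contains at least three pairwise non-conjugate subgroups isomorphic to the Chevalley group F₄(2). -/
theorem result {K : Type*} [Field K] [Fintype K] (hK : Fintype.card K = 4) :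
    ∃ H : Fin 3 → Subgroup (Cfsg.Lie.twistedE6 K 2),
      (∀ i, Nonempty ((H i) ≃* Cfsg.Lie.chevF4.group (ZMod 2))) ∧
      (∀ i j, i ≠ j → ∀ g : (Cfsg.Lie.twistedE6 K 2), (H i).map (MulAut.conj g).toMonoidHom ≠ H j) := by
  classical
  have h4 : (4 : K) = 0 := by
    have h := Nat.cast_card_eq_zero K
    rw [hK] at h
    exact_mod_cast h
  have h2 : (2 : K) = 0 := by
    have h : (2 : K) ^ 2 = 0 := by
      rw [← h4]
      norm_num
    exact pow_eq_zero_iff (two_ne_zero) |>.1 h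
  have : CharP K 2 := CharTwo.of_one_ne_zero_of_two_eq_zero one_ne_zero h2
  let ι : ZMod 2 →+* K := ZMod.castHom (dvd_refl 2) K
  have hcard : Fintype.card Kˣ = 3 := by
    rw [Fintype.card_units, hK]
  have hcube : ∀ a : Kˣ, a ^ 3 = 1 := fun a => by
    rw [← hcard]
    exact pow_card_eq_one
  obtain ⟨ω, hω⟩ : ∃ ω : Kˣ, ω ≠ 1 := by
    have : Nontrivial Kˣ := Fintype.one_lt_card_iff_nontrivial.1 (by rw [hcard]; norm_num)
    exact exists_ne 1
  have hG : ∀ g : GL chevE6.Idx K, g ∈ twistedE6 K 2 → g ∈ chevE6.group K := by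
    intro g hg
    have hq : IsPrimePow 2 := Nat.prime_two.isPrimePow
    obtain ⟨f, hf, hf2⟩ := TwE6.exists_frob2 (K := K) hq (by rw [hK]; norm_num)
    rw [← TwE6.G1_eq f hf hf2] at hg
    exact ((TwE6.sc f).G1_le_Fx hg).1
  let X : Fin 3 → Subgroup (GL chevE6.Idx K) :=
    fun i => (H2.map (glM chevE6 ι)).map (MulAut.conj (dv ω i)).toMonoidHom
  have hXmem : ∀ (i : Fin 3) {a : GL chevE6.Idx (ZMod 2)}, a ∈ H2 →
      dv ω i * glM chevE6 ι a * (dv ω i)⁻¹ ∈ X i := fun i a ha =>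
    ⟨_, ⟨a, ha, rfl⟩, rfl⟩
  have hX : ∀ i, X i ≤ twistedE6 K 2 := by
    rintro i _ ⟨_, ⟨a, ha, rfl⟩, rfl⟩
    exact conj_mem ι ω i ha
  refine ⟨fun i => (X i).subgroupOf (twistedE6 K 2), ?_, ?_⟩
  · intro i
    refine ⟨(Subgroup.subgroupOfEquivOfLe (hX i)).trans ?_⟩
    exact ((Subgroup.equivMapOfInjective _ _ (MulEquiv.injective _)).symm).trans
      (((Subgroup.equivMapOfInjective _ _ (glM_injective chevE6 ι)).symm).trans resEquiv)
  · intro i j hij g hmap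
    replace hmap : ((X i).subgroupOf (twistedE6 K 2)).map (MulAut.conj g).toMonoidHom =
        (X j).subgroupOf (twistedE6 K 2) := hmap
    have hne : (i : ℕ) ≠ j := fun h => hij (Fin.ext h)
    refine no_conj ι ω hcube hω i.2 j.2 hne (g := g.1) (hG _ g.2) ?_ ?_
    · intro a ha
      have h1 : (⟨_, hX i (hXmem i ha)⟩ : ↥(twistedE6 K 2)) ∈ (X i).subgroupOf (twistedE6 K 2) :=
        Subgroup.mem_subgroupOf.2 (hXmem i ha)
      have h3 : (MulAut.conj g).toMonoidHom (⟨_, hX i (hXmem i ha)⟩ : ↥(twistedE6 K 2)) ∈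
          (X j).subgroupOf (twistedE6 K 2) := by
        rw [← hmap]
        exact ⟨_, h1, rfl⟩
      obtain ⟨_, ⟨b, hb, rfl⟩, e⟩ := Subgroup.mem_subgroupOf.1 h3
      exact ⟨b, hb, e.symm⟩
    · intro b hb
      have h1 : (⟨_, hX j (hXmem j hb)⟩ : ↥(twistedE6 K 2)) ∈ (X j).subgroupOf (twistedE6 K 2) :=
        Subgroup.mem_subgroupOf.2 (hXmem j hb)
      rw [← hmap] at h1
      obtain ⟨x, hx, e⟩ := h1
      obtain ⟨_, ⟨a, ha, rfl⟩, e2⟩ := Subgroup.mem_subgroupOf.1 hx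
      refine ⟨a, ha, ?_⟩
      have e3 := congrArg Subtype.val e
      have e4 : (g.1 * x.1 * g.1⁻¹ : GL chevE6.Idx K) = dv ω j * glM chevE6 ι b * (dv ω j)⁻¹ := e3
      rw [← e4, ← e2]
      rfl

end Cfsg.Agent.S5743
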