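import Mathlib
import Cfsg.Statements.S5744
import Cfsg.Agent.Lib.Tw2E6Fi22.Final
import Cfsg.Agent.Lib.Fi22O7.Main
import Cfsg.Agent.Lib.AutOrthOutOdd
import Cfsg.Agent.Lib.OmegaOddClasses

set_option autoImplicit false
open Cfsg

namespace Cfsg.Agent.S5744

open Cfsg.Agent.Lib.Tw2E6Fi22 Cfsg.Agent.Lib.Fi22O7

/-- The outer automorphism group of the subgroup. -/
theorem out_P (θ : MulAut (Cfsg.POmega (ZMod 3) (Cfsg.quadFormOdd 3 (ZMod 3)))) :
    ∃ a, ∀ x, θ (θ x) = a * x * a⁻¹ := by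
  have h := Cfsg.Agent.Lib.AutOrthOut.s2604 (F := ZMod 3) (p := 3) (f := 1) (m := 3) (le_refl 1)
    (by rw [ZMod.card]; norm_num) (by norm_num) (le_refl 3)
  obtain ⟨e⟩ := h
  refine out_sq ?_ θ
  rw [Nat.card_congr e.toEquiv]
  have e2 : Nat.card (Multiplicative (ZMod 2 × ZMod 1)) = Nat.card (ZMod 2 × ZMod 1) :=
    Nat.card_congr Multiplicative.toAdd
  rw [e2, Nat.card_prod, Nat.card_zmod, Nat.card_zmod]

theorem center_O : Subgroup.center (Cfsg.Omega (ZMod 3) (Cfsg.quadFormOdd 3 (ZMod 3))) = ⊥ := by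
  have h := Cfsg.Agent.Lib.OmegaOddClasses.center_Omega_odd (F := ZMod 3) (by rw [ZMod.card]; decide) 3 (by norm_num)
  rw [form_eq]
  exact h

theorem of_mem_HS (x : Cfsg.Spor.Fi22.Gen) (hx : x ≠ Cfsg.Spor.Fi22.Gen.a) : PresentedGroup.of x ∈ HS := by
  refine ⟨FreeGroup.of x, Subgroup.subset_closure ?_, rfl⟩
  cases x
  · exact absurd rfl hx
  all_goals simp

/-- The simple group ²E₆(2) (the twisted group of type E₆ over the field with 4 elements) contains at least three pairwise non-conjugate subgroups isomorphic to the orthogonal group Ω₇(3) (the commutator subgroup of the isometry group of x₀² + x₁y₁ + x₂y₂ + x₃y₃ over the field with 3 elements). -/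
theorem result {K : Type*} [Field K] [Fintype K] (hK : Fintype.card K = 4) :
    ∃ H : Fin 3 → Subgroup (Cfsg.Lie.twistedE6 K 2),
      (∀ i, Nonempty ((H i) ≃* Cfsg.Omega (ZMod 3) (Cfsg.quadFormOdd 3 (ZMod 3)))) ∧
      (∀ i j, i ≠ j → ∀ g : (Cfsg.Lie.twistedE6 K 2), (H i).map (MulAut.conj g).toMonoidHom ≠ H j) := by
  obtain ⟨f⟩ := exists_fhom hK
  obtain ⟨e⟩ := main_iso
  let φ : ↥HS →* GL Cfsg.Lie.chevE6.Idx K := (phi f).comp HS.subtype
  have hinj : Function.Injective φ := (phi_inj f).comp HS.subtype_injective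
  obtain ⟨H, h1, h2⟩ := main_of φ hK hinj (fun a => phi_mem f _)
    (out_sq_congr e out_P)
    (fun D hD y => phi_cent f D (fun x hx => hD ⟨_, of_mem_HS x hx⟩) y)
  refine ⟨H, fun i => ?_, h2⟩
  obtain ⟨e1⟩ := h1 i
  exact ⟨e1.trans (e.trans ((QuotientGroup.quotientMulEquivOfEq center_O).trans QuotientGroup.quotientBot))⟩

end Cfsg.Agent.S5744
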