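import Cfsg.Statements.S5823
import Cfsg.Agent.Lib.H97K8

set_option autoImplicit false
open Cfsg

namespace Cfsg.Agent.S5823

/-- Every maximal subgroup of Sp_8(q) is of one of the listed geometric types or lies in the residual class. Let F be a finite field with q elements, f the standard alternating form on F^8 (coordinates Fin 4 ⊕ Fin 4), and H a maximal subgroup of Sp_8(F) (inside GL_8(F)). Then H is the intersection with Sp_8(F) of one of: the stabiliser of a non-zero totally isotropic subspace; the stabiliser of a non-degenerate 2-space; for q ≥ 3, the stabiliser of a decomposition into four mutually orthogonal non-degenerate 2-spaces; of a decomposition into two orthogonal non-degenerate 4-spaces; for q odd, of a decomposition into two totally isotropic 4-spaces; the normaliser of a degree-2 subfield K, self-adjoint with f(k v, v) = 0; for q odd, the normaliser of a degree-2 subfield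 closed under adjoints but not self-adjoint; for q odd, the stabiliser of a tensor decomposition of f into an alternating form on F^2 and a minus-type symmetric form on F^4; a subfield group (|F| = |F₀|^r, r prime) whose F₀-structure carries a non-zero multiple of f; for q = p an odd prime, the normaliser of an absolutely irreducible extraspecial group 2_-^(1+6) of exponent 4 inside the similarity group of f; for q odd, q ≥ 5, the stabiliser of a tensor decomposition of f as a third tensor power of an alternating form on F^2; for q even, the similarity group of a non-degenerate quadratic form polarising to f — or else H lies in the residual class of the symplectic case. -/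
theorem result {F : Type*} [Field F] [Fintype F] (H : Subgroup (Matrix.GeneralLinearGroup (Fin 4 ⊕ Fin 4) F)) (hH : Cfsg.Geo.IsMaximalIn (Cfsg.spGL 4 F) H) :
    (∃ W : Submodule F (Fin 4 ⊕ Fin 4 → F), W ≠ ⊥ ∧ Cfsg.Geo.IsTotallySingularFor (Cfsg.sympForm 4 F) W ∧ H = Cfsg.Geo.subspaceStabilizer W ⊓ Cfsg.spGL 4 F) ∨
    (∃ W : Submodule F (Fin 4 ⊕ Fin 4 → F), W ≠ ⊥ ∧ Cfsg.Geo.IsNondegenerateOn (Cfsg.sympForm 4 F) W ∧ Module.finrank F W < 4 ∧ H = Cfsg.Geo.subspaceStabilizer W ⊓ Cfsg.spGL 4 F) ∨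
    (3 ≤ Fintype.card F ∧ ∃ D : Fin 4 → Submodule F (Fin 4 ⊕ Fin 4 → F), Cfsg.Geo.IsNondegenerateMDecomposition (Cfsg.sympForm 4 F) 2 D ∧ H = Cfsg.Geo.decompositionStabilizer D ⊓ Cfsg.spGL 4 F) ∨
    (∃ D : Fin 2 → Submodule F (Fin 4 ⊕ Fin 4 → F), Cfsg.Geo.IsNondegenerateMDecomposition (Cfsg.sympForm 4 F) 4 D ∧ H = Cfsg.Geo.decompositionStabilizer D ⊓ Cfsg.spGL 4 F) ∨
    (Odd (Fintype.card F) ∧ ∃ D : Fin 2 → Submodule F (Fin 4 ⊕ Fin 4 → F), Cfsg.Geo.IsMDecomposition 4 D ∧ (∀ i, Cfsg.Geo.IsTotallySingularFor (Cfsg.sympForm 4 F) (D i)) ∧ H = Cfsg.Geo.decompositionStabilizer D ⊓ Cfsg.spGL 4 F) ∨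
    (∃ K : Subalgebra F (Matrix (Fin 4 ⊕ Fin 4) (Fin 4 ⊕ Fin 4) F), Cfsg.Geo.IsFieldSubalgebra 2 K ∧ Cfsg.Geo.IsSelfAdjointFor (Cfsg.sympForm 4 F) K ∧ (∀ k ∈ K, ∀ v : (Fin 4 ⊕ Fin 4 → F), (Cfsg.sympForm 4 F) (Matrix.mulVec k v) v = 0) ∧ H = Cfsg.Geo.subalgebraNormalizer K ⊓ Cfsg.spGL 4 F) ∨
    (Odd (Fintype.card F) ∧ ∃ K : Subalgebra F (Matrix (Fin 4 ⊕ Fin 4) (Fin 4 ⊕ Fin 4) F), Cfsg.Geo.IsFieldSubalgebra 2 K ∧ Cfsg.Geo.IsAdjointClosedFor (Cfsg.sympForm 4 F) K ∧ ¬ Cfsg.Geo.IsSelfAdjointFor (Cfsg.sympForm 4 F) K ∧ H = Cfsg.Geo.subalgebraNormalizer K ⊓ Cfsg.spGL 4 F) ∨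
    (Odd (Fintype.card F) ∧ ∃ (e : (Fin 4 ⊕ Fin 4) ≃ Fin 2 × Fin 4) (P : Matrix.GeneralLinearGroup (Fin 4 ⊕ Fin 4) F) (f₁ : (Fin 2 → F) → (Fin 2 → F) → F) (f₂ : (Fin 4 → F) → (Fin 4 → F) → F), Cfsg.Geo.IsSymplecticForm f₁ ∧ Cfsg.Geo.IsSymmetricForm f₂ ∧ ¬ Cfsg.Geo.IsPlusTypeOn (fun v : Fin 4 → F => f₂ v v) ⊤ ∧ Cfsg.Geo.IsTensorFormStructure id (Cfsg.sympForm 4 F) f₁ f₂ e P ∧ H = Cfsg.Geo.tensorProductSubgroup 2 4 e P ⊓ Cfsg.spGL 4 F) ∨
    (∃ (F₀ : Subfield F) (r : ℕ) (P : Matrix.GeneralLinearGroup (Fin 4 ⊕ Fin 4) F) (ζ : F), r.Prime ∧ Fintype.card F = Nat.card F₀ ^ r ∧ ζ ≠ 0 ∧ Cfsg.Geo.IsFormRationalStructure (Cfsg.sympForm 4 F) F₀ ζ P ∧ H = Cfsg.Geo.subfieldSubgroup F₀ P ⊓ Cfsg.spGL 4 F) ∨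
    (∃ (p : ℕ) (R : Subgroup (Matrix.GeneralLinearGroup (Fin 4 ⊕ Fin 4) F)), p.Prime ∧ Odd p ∧ Fintype.card F = p ∧ Cfsg.Geo.IsSymplecticTypeGroup 2 R ∧ Cfsg.Geo.ActsAbsolutelyIrreducibly (Cfsg.Geo.matrixSet R) ∧ R ≤ Cfsg.Geo.similarityGroup (Cfsg.sympForm 4 F) ∧ Nat.card R = 128 ∧ Nat.card (Subgroup.center R) = 2 ∧ Cfsg.Geo.IsOfMinusType 3 R ∧ H = Cfsg.Geo.subgroupNormalizer R ⊓ Cfsg.spGL 4 F) ∨
    (Odd (Fintype.card F) ∧ 5 ≤ Fintype.card F ∧ ∃ (e : (Fin 4 ⊕ Fin 4) ≃ (Fin 3 → Fin 2)) (P : Matrix.GeneralLinearGroup (Fin 4 ⊕ Fin 4) F) (f₁ : (Fin 2 → F) → (Fin 2 → F) → F), Cfsg.Geo.IsSymplecticForm f₁ ∧ Cfsg.Geo.IsTensorPowerFormStructure id (Cfsg.sympForm 4 F) f₁ e P ∧ H = Cfsg.Geo.tensorWreathSubgroup 2 3 e P ⊓ Cfsg.spGL 4 F) ∨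
    (¬ Odd (Fintype.card F) ∧ ∃ Q : (Fin 4 ⊕ Fin 4 → F) → F, Cfsg.Geo.IsNondegenerateQuadraticForm Q ∧ (∀ u v : (Fin 4 ⊕ Fin 4 → F), QuadraticMap.polar Q u v = (Cfsg.sympForm 4 F) u v) ∧ H = Cfsg.Geo.quadSimilarityGroup Q ⊓ Cfsg.spGL 4 F) ∨
    Cfsg.Geo.InSymplecticResidualClass H := by
  classical
  haveI : Nonempty (Fin 4 ⊕ Fin 4) := ⟨Sum.inl ⟨0, by norm_num⟩⟩
  have C := Cfsg.Agent.H97.Asch.sp_ctx (F := F) 4
  have hcardι : Fintype.card (Fin 4 ⊕ Fin 4) = 8 := by simp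
  have hmax := Cfsg.Agent.H97.Asch.Sp.maximal C (by omega) hH
  have hq2 : 2 ≤ Fintype.card F := Fintype.one_lt_card
  rcases hmax with ⟨W, h0, h1, h2⟩ | ⟨W, h0, h1, h2, h3⟩ | ⟨t, k, D, h1, h2⟩ | ⟨k, D, h0, h1, h2, h3⟩ |
    ⟨F₀, r, P, ζ, h0, h1, h2, h3, h4⟩ | ⟨R, p, k, h0, h1, h2, h3, h4, h5, h6, h7, h8, h9, h10, h11⟩ | ⟨Q, h0, h1, h2, h3⟩ |
    ⟨r, K', h0, h1, h2, h3, h4⟩ | ⟨K', h0, h1, h2, h3, h4⟩ | ⟨n₁, n₂, e, P, f₁, f₂, h0, h1, h2, h3, h4, h5⟩ |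
    ⟨k, t, e, P, f₁, h0, h1, h2, h3, h4, h5, h6⟩ | h
  · exact Or.inl ⟨W, h0, h1, h2⟩
  · refine Or.inr <| Or.inl ⟨W, h0, h1, ?_, h3⟩
    rw [hcardι] at h2
    omega
  · have hc := Cfsg.Agent.H97.Asch.card_of_mdecomp h1.decomp
    have ht := h1.decomp.two_le
    have hk := h1.decomp.pos
    rw [hcardι] at hc
    have hev : Even k := by
      have h9 := Cfsg.Agent.H97.Asch.finrank_even_of_nondeg C.ctx.sesq C.alt (h1.nondegenerate ⟨0, by omega⟩)
      rwa [h1.decomp.finrank_eq] at h9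
    have hkle : k ≤ 4 := by nlinarith
    interval_cases k
    · exact absurd hev (by decide)
    · obtain rfl : t = 4 := by omega
      by_cases hq3 : 3 ≤ Fintype.card F
      · exact Or.inr <| Or.inr <| Or.inl ⟨hq3, D, h1, h2⟩
      · have hF2 : Fintype.card F = 2 := by omega
        obtain ⟨Q, hQ1, hQ2, hQ3⟩ := Cfsg.Agent.H97.Asch.SpMax.quad_of_two C (by omega) hF2 h1 hH (h2 ▸ inf_le_left)
        exact Or.inr <| Or.inr <| Or.inr <| Or.inr <| Or.inr <| Or.inr <| Or.inr <| Or.inr <| Or.inr <| Or.inr <| Or.inr <| Or.inl ⟨by rw [hF2]; decide, Q, hQ1, hQ2, hQ3⟩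
    · exact absurd hev (by decide)
    · obtain rfl : t = 2 := by omega
      exact Or.inr <| Or.inr <| Or.inr <| Or.inl ⟨D, h1, h2⟩
  · obtain rfl : k = 4 := by
      have := Cfsg.Agent.H97.Asch.card_of_mdecomp h1
      rw [hcardι] at this
      omega
    exact Or.inr <| Or.inr <| Or.inr <| Or.inr <| Or.inl ⟨h0, D, h1, h2, h3⟩
  · exact Or.inr <| Or.inr <| Or.inr <| Or.inr <| Or.inr <| Or.inr <| Or.inr <| Or.inr <| Or.inl ⟨F₀, r, P, ζ, h0, h1, h2, h3, h4⟩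
  · have hk3 : k = 3 := by
      have h4' : (2 : ℕ) ^ k = 2 ^ 3 := by rw [← h9, hcardι]; norm_num
      exact Nat.pow_right_injective (le_refl 2) h4'
    subst hk3
    exact Or.inr <| Or.inr <| Or.inr <| Or.inr <| Or.inr <| Or.inr <| Or.inr <| Or.inr <| Or.inr <| Or.inl ⟨p, R, h3, h4, h5, h0, h1, h2, by rw [h6]; norm_num, h7, h8, h11⟩
  · exact Or.inr <| Or.inr <| Or.inr <| Or.inr <| Or.inr <| Or.inr <| Or.inr <| Or.inr <| Or.inr <| Or.inr <| Or.inr <| Or.inl ⟨h0, Q, h1, h2, h3⟩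
  · have hd := Cfsg.Agent.H97.Asch.selfadj_dvd C.ctx C.alt h1 h2 h3
    rw [hcardι] at hd
    obtain rfl : r = 2 := by
      have h5 : r ∣ 2 ^ 2 := by
        have h6 : 2 * r ∣ 2 * 4 := by simpa using hd
        simpa using Nat.dvd_of_mul_dvd_mul_left (by norm_num : 0 < 2) h6
      exact (Nat.prime_dvd_prime_iff_eq h0 Nat.prime_two).mp (h0.dvd_of_dvd_pow h5)
    exact Or.inr <| Or.inr <| Or.inr <| Or.inr <| Or.inr <| Or.inl ⟨K', h1, h2, h3, h4⟩
  · exact Or.inr <| Or.inr <| Or.inr <| Or.inr <| Or.inr <| Or.inr <| Or.inl ⟨h0, K', h1, h2, h3, h4⟩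
  · have hc : n₁ * n₂ = 8 := by
      have := Fintype.card_congr e
      rw [hcardι] at this
      simpa [Fintype.card_prod] using this.symm
    have hev : Even n₁ := by simpa using Cfsg.Agent.H97.Asch.IsSymplecticForm.even h2
    have hn₁ : n₁ ≤ 2 := by nlinarith
    interval_cases n₁
    · omega
    · exact absurd hev (by decide)
    · obtain rfl : n₂ = 4 := by omega
      have htwo := Cfsg.Agent.H97.Asch.two_ne_of_odd_card h0
      by_cases hplus : Cfsg.Geo.IsPlusTypeOn (fun v : Fin 4 → F => f₂ v v) ⊤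
      · obtain ⟨e', P', κ, hW⟩ := Cfsg.Agent.H97.Asch.tensor_plus_wreath C.ctx htwo h2 h3 hplus h4
          (fun g hg u v => C.fix g (hH.1.le hg) u v) (h5 ▸ inf_le_left)
        by_cases hq3 : Fintype.card F = 3
        · obtain ⟨R, a1, a2, a3, a4, a5, a6, a7⟩ := Cfsg.Agent.H97.Asch.Sp.cube_q3 C hH hq3 hcardι hW
          exact Or.inr <| Or.inr <| Or.inr <| Or.inr <| Or.inr <| Or.inr <| Or.inr <| Or.inr <| Or.inr <| Or.inl ⟨3, R, Nat.prime_three, by decide, hq3, a1, a2, a3, a4, a5, a6, a7⟩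
        · have hq5 : 5 ≤ Fintype.card F := by
            obtain ⟨j, hj⟩ := h0
            omega
          obtain ⟨a1, a2, a3⟩ := Cfsg.Agent.H97.Asch.Sp.cube_odd C hH htwo hcardι hW
          exact Or.inr <| Or.inr <| Or.inr <| Or.inr <| Or.inr <| Or.inr <| Or.inr <| Or.inr <| Or.inr <| Or.inr <| Or.inl ⟨h0, hq5, e', P', _, a1, a2, a3⟩
      · exact Or.inr <| Or.inr <| Or.inr <| Or.inr <| Or.inr <| Or.inr <| Or.inr <| Or.inl ⟨h0, e, P, f₁, f₂, h2, h3, hplus, h4, h5⟩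
  · have hc : k ^ t = 8 := by
      have := Fintype.card_congr e
      rw [hcardι] at this
      simpa [Fintype.card_fun] using this.symm
    have hev : Even k := by simpa using Cfsg.Agent.H97.Asch.IsSymplecticForm.even h4
    have h27 : 3 ^ 3 ≤ 3 ^ t := Nat.pow_le_pow_right (by norm_num) h2
    have hk2 : k < 3 := by
      by_contra hlt
      have := Nat.pow_le_pow_left (show 3 ≤ k by omega) t
      omega
    interval_cases k
    · rw [zero_pow (by omega)] at hc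
      omega
    · simp at hc
    · obtain rfl : t = 3 := by
        have h4' : (2 : ℕ) ^ t = 2 ^ 3 := by rw [hc]; norm_num
        exact Nat.pow_right_injective (le_refl 2) h4'
      have hq5 : 5 ≤ Fintype.card F := by
        obtain ⟨j, hj⟩ := h0
        have : Fintype.card F ≠ 3 := fun h9 => h3 ⟨h9, rfl⟩
        omega
      exact Or.inr <| Or.inr <| Or.inr <| Or.inr <| Or.inr <| Or.inr <| Or.inr <| Or.inr <| Or.inr <| Or.inr <| Or.inl ⟨h0, hq5, e, P, f₁, h4, h5, h6⟩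
  · exact Or.inr <| Or.inr <| Or.inr <| Or.inr <| Or.inr <| Or.inr <| Or.inr <| Or.inr <| Or.inr <| Or.inr <| Or.inr <| Or.inr <| h

end Cfsg.Agent.S5823
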