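import Cfsg.Statements.S5850
import Cfsg.Agent.Lib.H97M8

set_option autoImplicit false
open Cfsg

namespace Cfsg.Agent.S5850

/-- Every maximal subgroup of Ω_10^-(q) is of one of the listed geometric types or lies in the residual class. Let F be a finite field with q elements (characteristic p), Q a non-degenerate quadratic form on F^10 of minus type (Witt index 4: no totally singular 5-space), Ω the commutator subgroup of its isometry group, and H a maximal subgroup of Ω (inside GL_10(F)). Then H is the intersection with Ω of one of: the stabiliser of a non-zero totally singular subspace; for q odd, the stabiliser of a non-degenerate subspace of odd dimension ≠ 5; the stabiliser of a non-degenerate 2-space of minus type; for q ≥ 4, the stabiliser of a non-degenerate 2-space of plus type; the stabiliser of a non-degenerate 4-space; for q even, the stabiliser of the span of a non-singular vector; for q = p prime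 with p ≡ 3 mod 4, the stabiliser of a decomposition into 10 pairwise orthogonal, pairwise isometric non-degenerate 1-spaces; for q ≠ 3, the stabiliser of a decomposition into 5 pairwise orthogonal, pairwise isometric non-degenerate 2-spaces; for q ≡ 3 mod 4, the stabiliser of a decomposition into 2 pairwise orthogonal, pairwise isometric non-degenerate 5-spaces; for q ≡ 1 mod 4, the stabiliser of a decomposition into two orthogonal, non-isometric non-degenerate 5-spaces; for q odd, the normaliser of a degree-2 subfield of the matrix algebra, self-adjoint for the polar form; the normaliser of a degree-2 subfield K, adjoint-closed but not self-adjoint, acting by similarities of Q; a subfield group (|F| = |F₀|^r, r odd prime) whose F₀-structure carries a non-zero multiple of Q — or else H lies in the residual class of the orthogonal case (modulo scalars H is almost simple, with absolutely irreducible perfect socle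 preimage realisable over no proper subfield and fixing no non-degenerate unitary form). -/
theorem result {F : Type*} [Field F] [Fintype F] (Q : (Fin 10 → F) → F) (hQ : Cfsg.Geo.IsNondegenerateQuadraticForm Q) (hminus : ¬ Cfsg.Geo.IsPlusTypeOn Q ⊤) (H : Subgroup (Matrix.GeneralLinearGroup (Fin 10) F)) (hH : Cfsg.Geo.IsMaximalIn (Cfsg.Geo.omegaGL Q) H) :
    (∃ W : Submodule F (Fin 10 → F), W ≠ ⊥ ∧ Cfsg.Geo.IsTotallySingularQuad Q W ∧ H = Cfsg.Geo.subspaceStabilizer W ⊓ Cfsg.Geo.omegaGL Q) ∨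
    (Odd (Fintype.card F) ∧ ∃ W : Submodule F (Fin 10 → F), W ≠ ⊥ ∧ W ≠ ⊤ ∧ Odd (Module.finrank F W) ∧ 2 * Module.finrank F W ≠ 10 ∧ Cfsg.Geo.IsNondegenerateOn (QuadraticMap.polar Q) W ∧ H = Cfsg.Geo.subspaceStabilizer W ⊓ Cfsg.Geo.omegaGL Q) ∨
    (∃ W : Submodule F (Fin 10 → F), Module.finrank F W = 2 ∧ Cfsg.Geo.IsNondegenerateOn (QuadraticMap.polar Q) W ∧ ¬ Cfsg.Geo.IsPlusTypeOn Q W ∧ H = Cfsg.Geo.subspaceStabilizer W ⊓ Cfsg.Geo.omegaGL Q) ∨
    (4 ≤ Fintype.card F ∧ ∃ W : Submodule F (Fin 10 → F), Module.finrank F W = 2 ∧ Cfsg.Geo.IsNondegenerateOn (QuadraticMap.polar Q) W ∧ Cfsg.Geo.IsPlusTypeOn Q W ∧ H = Cfsg.Geo.subspaceStabilizer W ⊓ Cfsg.Geo.omegaGL Q) ∨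
    (∃ W : Submodule F (Fin 10 → F), Module.finrank F W = 4 ∧ Cfsg.Geo.IsNondegenerateOn (QuadraticMap.polar Q) W ∧ H = Cfsg.Geo.subspaceStabilizer W ⊓ Cfsg.Geo.omegaGL Q) ∨
    (¬ Odd (Fintype.card F) ∧ ∃ v : (Fin 10 → F), Q v ≠ 0 ∧ H = Cfsg.Geo.subspaceStabilizer (Submodule.span F {v}) ⊓ Cfsg.Geo.omegaGL Q) ∨
    ((∃ p : ℕ, p.Prime ∧ Fintype.card F = p ∧ (p % 4 = 3)) ∧ ∃ D : Fin 10 → Submodule F (Fin 10 → F), Cfsg.Geo.IsOrthogonalMDecomposition Q 1 D ∧ H = Cfsg.Geo.decompositionStabilizer D ⊓ Cfsg.Geo.omegaGL Q) ∨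
    (Fintype.card F ≠ 3 ∧ ∃ D : Fin 5 → Submodule F (Fin 10 → F), Cfsg.Geo.IsOrthogonalMDecomposition Q 2 D ∧ H = Cfsg.Geo.decompositionStabilizer D ⊓ Cfsg.Geo.omegaGL Q) ∨
    (Fintype.card F % 4 = 3 ∧ ∃ D : Fin 2 → Submodule F (Fin 10 → F), Cfsg.Geo.IsOrthogonalMDecomposition Q 5 D ∧ H = Cfsg.Geo.decompositionStabilizer D ⊓ Cfsg.Geo.omegaGL Q) ∨
    (Fintype.card F % 4 = 1 ∧ ∃ D : Fin 2 → Submodule F (Fin 10 → F), Cfsg.Geo.IsNondegenerateMDecomposition (QuadraticMap.polar Q) 5 D ∧ ¬ Cfsg.Geo.AreIsometricFor Q (D 0) (D 1) ∧ H = Cfsg.Geo.decompositionStabilizer D ⊓ Cfsg.Geo.omegaGL Q) ∨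
    (Odd (Fintype.card F) ∧ ∃ K : Subalgebra F (Matrix (Fin 10) (Fin 10) F), Cfsg.Geo.IsFieldSubalgebra 2 K ∧ Cfsg.Geo.IsSelfAdjointFor (QuadraticMap.polar Q) K ∧ H = Cfsg.Geo.subalgebraNormalizer K ⊓ Cfsg.Geo.omegaGL Q) ∨
    (∃ K : Subalgebra F (Matrix (Fin 10) (Fin 10) F), Cfsg.Geo.IsFieldSubalgebra 2 K ∧ Cfsg.Geo.IsAdjointClosedFor (QuadraticMap.polar Q) K ∧ ¬ Cfsg.Geo.IsSelfAdjointFor (QuadraticMap.polar Q) K ∧ (∀ k ∈ K, ∃ c : F, ∀ v : (Fin 10 → F), Q (Matrix.mulVec k v) = c * Q v) ∧ H = Cfsg.Geo.subalgebraNormalizer K ⊓ Cfsg.Geo.omegaGL Q) ∨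
    (∃ (F₀ : Subfield F) (r : ℕ) (P : Matrix.GeneralLinearGroup (Fin 10) F) (ζ : F), r.Prime ∧ Odd r ∧ Fintype.card F = Nat.card F₀ ^ r ∧ ζ ≠ 0 ∧ Cfsg.Geo.IsQuadFormRationalStructure (fun v : Fin 10 → F => ζ * Q v) F₀ P ∧ H = Cfsg.Geo.subfieldSubgroup F₀ P ⊓ Cfsg.Geo.omegaGL Q) ∨
    Cfsg.Geo.InOrthogonalResidualClass H := by
  classical
  obtain ⟨Q', rfl⟩ := Cfsg.Agent.Lib.OmCalc.exists_toQF Q hQ
  have C := Cfsg.Agent.H97.Asch.ectx_omega Q' (by simp) hQ
  have hHK : H ≤ Cfsg.Geo.omegaGL ⇑Q' := hH.1.le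
  have hN := Cfsg.Agent.Lib.OmCalc.nondeg_of hQ
  have h7 : 7 ≤ Fintype.card (Fin 10) := by simp
  have hc10 : Fintype.card (Fin 10) = 10 := by simp
  have hc25 : Fintype.card (Fin 10) = 2 * 5 := by simp
  have hND := C.ndtop
  have hstab : ∀ W : Submodule F (Fin 10 → F), W ≠ ⊥ → W ≠ ⊤ → H ≤ Cfsg.Geo.subspaceStabilizer W → H = Cfsg.Geo.subspaceStabilizer W ⊓ Cfsg.Geo.omegaGL ⇑Q' :=
    fun W h0 h1 h => Cfsg.Agent.H97.Asch.maximal_eq' hH h (C.not_le_stab (by simp) h0 h1)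
  have hdec : ∀ {t k : ℕ} {D : Fin t → Submodule F (Fin 10 → F)}, Cfsg.Geo.IsNondegenerateMDecomposition (QuadraticMap.polar ⇑Q') k D → k + 3 ≤ 10 → H ≤ Cfsg.Geo.decompositionStabilizer D →
      H = Cfsg.Geo.decompositionStabilizer D ⊓ Cfsg.Geo.omegaGL ⇑Q' :=
    fun hD hk h => Cfsg.Agent.H97.Asch.maximal_eq' hH h (C.not_le_decomp_orth (by simp) hD (by simpa using hk))
  have hnm : ∀ {t k : ℕ} {D : Fin t → Submodule F (Fin 10 → F)}, Cfsg.Geo.IsOrthogonalMDecomposition ⇑Q' k D → k + 3 ≤ 10 → H ≤ Cfsg.Geo.decompositionStabilizer D →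
      (∃ K₁ : Subgroup (Matrix.GeneralLinearGroup (Fin 10) F), Cfsg.Geo.decompositionStabilizer D ⊓ Cfsg.Geo.omegaGL ⇑Q' < K₁ ∧ K₁ < Cfsg.Geo.omegaGL ⇑Q') → False :=
    fun hD hk h => Cfsg.Agent.H97.Asch.not_max_helper hH h (C.not_le_decomp_orth (by simp) hD.decomp (by simpa using hk))
  have hsub : ∀ (F₀ : Subfield F) (r : ℕ) (P : Matrix.GeneralLinearGroup (Fin 10) F) (ζ : F), r.Prime → Fintype.card F = Nat.card F₀ ^ r → ζ ≠ 0 →
      Cfsg.Geo.IsQuadFormRationalStructure (fun v : Fin 10 → F => ζ * Q' v) F₀ P → H ≤ Cfsg.Geo.subfieldSubgroup F₀ P →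
      (∃ (F₀ : Subfield F) (r : ℕ) (P : Matrix.GeneralLinearGroup (Fin 10) F) (ζ : F), r.Prime ∧ Odd r ∧ Fintype.card F = Nat.card F₀ ^ r ∧ ζ ≠ 0 ∧ Cfsg.Geo.IsQuadFormRationalStructure (fun v : Fin 10 → F => ζ * Q' v) F₀ P ∧ H = Cfsg.Geo.subfieldSubgroup F₀ P ⊓ Cfsg.Geo.omegaGL ⇑Q') := by
    intro F₀ r P ζ hr hF hζ hrat hle
    have hr2 : r ≠ 2 := by
      rintro rfl
      exact hminus (Cfsg.Agent.H97.Asch.rational_two_plus C hc25 hF hζ hrat)
    exact ⟨F₀, r, P, ζ, hr, hr.odd_of_ne_two hr2, hF, hζ, hrat,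
      Cfsg.Agent.H97.Asch.maximal_eq' hH hle (C.not_le_subfield (by simp) (Cfsg.Agent.H97.Asch.subfield_ne_top hF hr) P)⟩
  rcases C.main10 hc10 hHK with ⟨W, h0, h1, h2⟩ | ⟨W, h0, h1, hnd, h2⟩ | ⟨hq, v, hv, h2⟩ | ⟨t, k, D, hD, h2⟩ | ⟨k, D, hD, h1, h2⟩ |
    ⟨hq, K₂, hK, hsa, h2⟩ | ⟨K₂, hK, hadj, hsa, hsim, h2⟩ | ⟨F₀, r, P, ζ, hr, hF, hζ, hrat, h2⟩ | h10'
  · exact Or.inl ⟨W, h0, h1, hstab W h0 (C.ts_ne_top h1) h2⟩
  · obtain ⟨W', h0', h1', hnd', h2', hdim⟩ := C.nondeg_half hHK h0 h1 hnd h2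
    rw [Fintype.card_fin] at hdim
    have hd0 : Module.finrank F W' ≠ 0 := fun h => h0' (Submodule.finrank_eq_zero.mp h)
    by_cases hodd : Odd (Module.finrank F W')
    · have hq := C.odd_of_odd_dim hnd' hodd
      by_cases h5 : Module.finrank F W' = 5
      · have h20 := Cfsg.Agent.H97.Asch.two_ne_of_odd_card hq
        obtain ⟨D, hD, hle⟩ := C.five_block hHK h5 hc10 hnd' h2'
        by_cases hiso : Cfsg.Geo.AreIsometricFor ⇑Q' (D 0) (D 1)
        · have hs : ¬ IsSquare (-1 : F) := fun h => hminus ((Cfsg.Agent.H97.Ty.two_fives_iso hc10 hND h20 hD hiso).mpr h)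
          exact Or.inr <| Or.inr <| Or.inr <| Or.inr <| Or.inr <| Or.inr <| Or.inr <| Or.inr <| Or.inl (⟨Cfsg.Agent.H97.Asch.card_mod_four_of_nonsquare hs, D, Cfsg.Agent.H97.Asch.isOrth_of_two hD hiso, hdec hD (by omega) hle⟩)
        · have hs : IsSquare (-1 : F) := by
            by_contra h
            exact hminus ((Cfsg.Agent.H97.Ty.two_fives_noniso hc10 hND h20 hD hiso).mpr h)
          exact Or.inr <| Or.inr <| Or.inr <| Or.inr <| Or.inr <| Or.inr <| Or.inr <| Or.inr <| Or.inr <| Or.inl (⟨Cfsg.Agent.H97.Asch.card_mod_four_of_square hq hs, D, hD, hiso, hdec hD (by omega) hle⟩)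
      · obtain ⟨c, hc⟩ := hodd
        exact Or.inr <| Or.inl (⟨hq, W', h0', h1', ⟨c, hc⟩, by omega, hnd', hstab W' h0' h1' h2'⟩)
    · have hcases : Module.finrank F W' = 2 ∨ Module.finrank F W' = 4 := by
        rw [Nat.not_odd_iff_even] at hodd
        obtain ⟨c, hc⟩ := hodd
        omega
      rcases hcases with h | h
      · by_cases hp : Cfsg.Geo.IsPlusTypeOn ⇑Q' W'
        · exact Or.inr <| Or.inr <| Or.inr <| Or.inl (⟨Cfsg.Agent.H97.Asch.plane_cases Q' hQ (by simp) hH h hnd' h2' hp, W', h, hnd', hp, hstab W' h0' h1' h2'⟩)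
        · exact Or.inr <| Or.inr <| Or.inl (⟨W', h, hnd', hp, hstab W' h0' h1' h2'⟩)
      · exact Or.inr <| Or.inr <| Or.inr <| Or.inr <| Or.inl (⟨W', h, hnd', hstab W' h0' h1' h2'⟩)
  · have hv0 : v ≠ 0 := by
      rintro rfl
      exact hv C.Q_zero
    have h0' : Submodule.span F {v} ≠ ⊥ := by
      simpa using hv0
    have h1' : Submodule.span F {v} ≠ ⊤ := by
      intro h
      have h3 := finrank_span_singleton (K := F) hv0
      rw [h, finrank_top, Module.finrank_fintype_fun_eq_card, Fintype.card_fin] at h3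
      omega
    exact Or.inr <| Or.inr <| Or.inr <| Or.inr <| Or.inr <| Or.inl (⟨hq, v, hv, hstab _ h0' h1' h2⟩)
  · have hc := Cfsg.Agent.H97.Asch.card_of_mdecomp hD.decomp.decomp
    have hk := hD.decomp.decomp.pos
    have ht := hD.decomp.decomp.two_le
    rw [Fintype.card_fin] at hc
    have hkle : k ≤ 5 := by nlinarith
    interval_cases k
    · obtain rfl : t = 10 := by omega
      have hq : Odd (Fintype.card F) := C.odd_of_odd_dim (hD.decomp.nondegenerate 0) (by rw [hD.decomp.decomp.finrank_eq]; decide)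
      have h2' := Cfsg.Agent.H97.Asch.two_ne_of_odd_card hq
      have hs : ¬ IsSquare (-1 : F) := fun h => hminus ((Cfsg.Agent.H97.Ty.frame_ten_type hc10 hND h2' hD).mpr h)
      by_cases hp : (Fintype.card F).Prime
      · exact Or.inr <| Or.inr <| Or.inr <| Or.inr <| Or.inr <| Or.inr <| Or.inl (⟨⟨Fintype.card F, hp, rfl, Cfsg.Agent.H97.Asch.card_mod_four_of_nonsquare hs⟩, D, hD, hdec hD.decomp (by omega) h2⟩)
      · obtain ⟨F₀, r, P, ζ, hr, hF, hζ, hrat, hle⟩ := C.frame_subfield hD hHK h2 hp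
        exact Or.inr <| Or.inr <| Or.inr <| Or.inr <| Or.inr <| Or.inr <| Or.inr <| Or.inr <| Or.inr <| Or.inr <| Or.inr <| Or.inr <| Or.inl (hsub F₀ r P ζ hr hF hζ hrat hle)
    · obtain rfl : t = 5 := by omega
      by_cases hq3 : Fintype.card F = 3
      · exfalso
        obtain ⟨ε, hε, hB⟩ := Cfsg.Agent.H97.OF1.blk_plane₃ hq3 (hD.decomp.decomp.finrank_eq 0) (hD.decomp.nondegenerate 0)
        exact hnm hD (by omega) h2 (Cfsg.Agent.H97.OF1.frame_decomp hN h7 (Cfsg.Agent.H97.OF1.two_ne₃ hq3) hD (by omega) hε hB)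
      · exact Or.inr <| Or.inr <| Or.inr <| Or.inr <| Or.inr <| Or.inr <| Or.inr <| Or.inl (⟨hq3, D, hD, hdec hD.decomp (by omega) h2⟩)
    · omega
    · omega
    · obtain rfl : t = 2 := by omega
      have hq : Odd (Fintype.card F) := C.odd_of_odd_dim (hD.decomp.nondegenerate 0) (by rw [hD.decomp.decomp.finrank_eq]; decide)
      have h2' := Cfsg.Agent.H97.Asch.two_ne_of_odd_card hq
      have hs : ¬ IsSquare (-1 : F) := fun h => hminus ((Cfsg.Agent.H97.Ty.two_fives_iso hc10 hND h2' hD.decomp (hD.isometric 0 1)).mpr h)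
      exact Or.inr <| Or.inr <| Or.inr <| Or.inr <| Or.inr <| Or.inr <| Or.inr <| Or.inr <| Or.inl (⟨Cfsg.Agent.H97.Asch.card_mod_four_of_nonsquare hs, D, hD, hdec hD.decomp (by omega) h2⟩)
  · exfalso
    have hc := Cfsg.Agent.H97.Asch.card_of_mdecomp hD
    rw [Fintype.card_fin] at hc
    obtain rfl : k = 5 := by omega
    exact Cfsg.Agent.H97.Asch.not_max_helper hH h2 (C.not_le_decomp (by simp) hD (by omega))
      (Cfsg.Agent.H97.OF3.not_max_pair hN h7 (k := 5) (by simp) (by decide) hD h1)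
  · exact Or.inr <| Or.inr <| Or.inr <| Or.inr <| Or.inr <| Or.inr <| Or.inr <| Or.inr <| Or.inr <| Or.inr <| Or.inl (⟨hq, K₂, hK, hsa, Cfsg.Agent.H97.Asch.maximal_eq' hH h2 (C.not_le_field' (by simp) (by omega) hK)⟩)
  · exact Or.inr <| Or.inr <| Or.inr <| Or.inr <| Or.inr <| Or.inr <| Or.inr <| Or.inr <| Or.inr <| Or.inr <| Or.inr <| Or.inl (⟨K₂, hK, hadj, hsa, hsim, Cfsg.Agent.H97.Asch.maximal_eq' hH h2 (C.not_le_field' (by simp) (by omega) hK)⟩)
  · exact Or.inr <| Or.inr <| Or.inr <| Or.inr <| Or.inr <| Or.inr <| Or.inr <| Or.inr <| Or.inr <| Or.inr <| Or.inr <| Or.inr <| Or.inl (hsub F₀ r P ζ hr hF hζ hrat h2)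
  · exact Or.inr <| Or.inr <| Or.inr <| Or.inr <| Or.inr <| Or.inr <| Or.inr <| Or.inr <| Or.inr <| Or.inr <| Or.inr <| Or.inr <| Or.inr <| h10'

end Cfsg.Agent.S5850
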