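import Cfsg.Statements.S5871
import Cfsg.Agent.Lib.H97L14
import Cfsg.Agent.Lib.OmLag

set_option autoImplicit false
open Cfsg

namespace Cfsg.Agent.S5871

/-- Every maximal subgroup of Ω_12^+(q) is of one of the listed geometric types or lies in the residual class. Let F be a finite field with q elements (characteristic p), Q a non-degenerate quadratic form on F^12 of plus type (Witt index 6: some totally singular 6-space), Ω the commutator subgroup of its isometry group, and H a maximal subgroup of Ω (inside GL_12(F)). Then H is the intersection with Ω of one of: the stabiliser of a non-zero totally singular subspace of dimension ≠ 5; for q odd, the stabiliser of a non-degenerate subspace of odd dimension; the stabiliser of a non-degenerate 2-space of minus type; for q ≥ 4, the stabiliser of a non-degenerate 2-space of plus type; the stabiliser of a non-degenerate 4-space; for q even, the stabiliser of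 the span of a non-singular vector; for q = p an odd prime, the stabiliser of a decomposition into 12 pairwise orthogonal, pairwise isometric non-degenerate 1-spaces; for q ≥ 7, the stabiliser of a decomposition into 6 pairwise orthogonal, pairwise isometric non-degenerate 2-spaces of plus type; for q ≠ 3, the stabiliser of a decomposition into 6 pairwise orthogonal, pairwise isometric non-degenerate 2-spaces of minus type; for q odd with q ≥ 5, the stabiliser of a decomposition into 4 pairwise orthogonal, pairwise isometric non-degenerate 3-spaces; for q ≥ 3, the stabiliser of a decomposition into 3 pairwise orthogonal, pairwise isometric non-degenerate 4-spaces; the stabiliser of a decomposition into 2 pairwise orthogonal, pairwise isometric non-degenerate 6-spaces; of a decomposition into two totally singular 6-spaces; the normaliser of a degree-2 subfield of the matrix algebra; the normaliser of a degree-3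 subfield of the matrix algebra; the normaliser of a degree-2 subfield K, adjoint-closed but not self-adjoint, acting by similarities of Q; for q ≥ 3, the stabiliser of a tensor decomposition of Q into alternating forms on F^2 and F^6 (Q vanishing on pure tensors); a subfield group (|F| = |F₀|^r, r prime) whose F₀-structure carries a non-zero multiple of Q — or else H lies in the residual class of the orthogonal case (modulo scalars H is almost simple, with absolutely irreducible perfect socle preimage realisable over no proper subfield and fixing no non-degenerate unitary form). -/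
theorem result {F : Type*} [Field F] [Fintype F] (Q : (Fin 12 → F) → F) (hQ : Cfsg.Geo.IsNondegenerateQuadraticForm Q) (hplus : Cfsg.Geo.IsPlusTypeOn Q ⊤) (H : Subgroup (Matrix.GeneralLinearGroup (Fin 12) F)) (hH : Cfsg.Geo.IsMaximalIn (Cfsg.Geo.omegaGL Q) H) :
    (∃ W : Submodule F (Fin 12 → F), W ≠ ⊥ ∧ Cfsg.Geo.IsTotallySingularQuad Q W ∧ Module.finrank F W ≠ 5 ∧ H = Cfsg.Geo.subspaceStabilizer W ⊓ Cfsg.Geo.omegaGL Q) ∨
    (Odd (Fintype.card F) ∧ ∃ W : Submodule F (Fin 12 → F), W ≠ ⊥ ∧ W ≠ ⊤ ∧ Odd (Module.finrank F W) ∧ 2 * Module.finrank F W ≠ 12 ∧ Cfsg.Geo.IsNondegenerateOn (QuadraticMap.polar Q) W ∧ H = Cfsg.Geo.subspaceStabilizer W ⊓ Cfsg.Geo.omegaGL Q) ∨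
    (∃ W : Submodule F (Fin 12 → F), Module.finrank F W = 2 ∧ Cfsg.Geo.IsNondegenerateOn (QuadraticMap.polar Q) W ∧ ¬ Cfsg.Geo.IsPlusTypeOn Q W ∧ H = Cfsg.Geo.subspaceStabilizer W ⊓ Cfsg.Geo.omegaGL Q) ∨
    (4 ≤ Fintype.card F ∧ ∃ W : Submodule F (Fin 12 → F), Module.finrank F W = 2 ∧ Cfsg.Geo.IsNondegenerateOn (QuadraticMap.polar Q) W ∧ Cfsg.Geo.IsPlusTypeOn Q W ∧ H = Cfsg.Geo.subspaceStabilizer W ⊓ Cfsg.Geo.omegaGL Q) ∨
    (∃ W : Submodule F (Fin 12 → F), Module.finrank F W = 4 ∧ Cfsg.Geo.IsNondegenerateOn (QuadraticMap.polar Q) W ∧ H = Cfsg.Geo.subspaceStabilizer W ⊓ Cfsg.Geo.omegaGL Q) ∨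
    (¬ Odd (Fintype.card F) ∧ ∃ v : (Fin 12 → F), Q v ≠ 0 ∧ H = Cfsg.Geo.subspaceStabilizer (Submodule.span F {v}) ⊓ Cfsg.Geo.omegaGL Q) ∨
    ((∃ p : ℕ, p.Prime ∧ Odd p ∧ Fintype.card F = p) ∧ ∃ D : Fin 12 → Submodule F (Fin 12 → F), Cfsg.Geo.IsOrthogonalMDecomposition Q 1 D ∧ H = Cfsg.Geo.decompositionStabilizer D ⊓ Cfsg.Geo.omegaGL Q) ∨
    (7 ≤ Fintype.card F ∧ ∃ D : Fin 6 → Submodule F (Fin 12 → F), Cfsg.Geo.IsOrthogonalMDecomposition Q 2 D ∧ (∀ i, Cfsg.Geo.IsPlusTypeOn Q (D i)) ∧ H = Cfsg.Geo.decompositionStabilizer D ⊓ Cfsg.Geo.omegaGL Q) ∨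
    (Fintype.card F ≠ 3 ∧ ∃ D : Fin 6 → Submodule F (Fin 12 → F), Cfsg.Geo.IsOrthogonalMDecomposition Q 2 D ∧ (∀ i, ¬ Cfsg.Geo.IsPlusTypeOn Q (D i)) ∧ H = Cfsg.Geo.decompositionStabilizer D ⊓ Cfsg.Geo.omegaGL Q) ∨
    (Odd (Fintype.card F) ∧ 5 ≤ Fintype.card F ∧ ∃ D : Fin 4 → Submodule F (Fin 12 → F), Cfsg.Geo.IsOrthogonalMDecomposition Q 3 D ∧ H = Cfsg.Geo.decompositionStabilizer D ⊓ Cfsg.Geo.omegaGL Q) ∨
    (3 ≤ Fintype.card F ∧ ∃ D : Fin 3 → Submodule F (Fin 12 → F), Cfsg.Geo.IsOrthogonalMDecomposition Q 4 D ∧ H = Cfsg.Geo.decompositionStabilizer D ⊓ Cfsg.Geo.omegaGL Q) ∨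
    (∃ D : Fin 2 → Submodule F (Fin 12 → F), Cfsg.Geo.IsOrthogonalMDecomposition Q 6 D ∧ H = Cfsg.Geo.decompositionStabilizer D ⊓ Cfsg.Geo.omegaGL Q) ∨
    (∃ D : Fin 2 → Submodule F (Fin 12 → F), Cfsg.Geo.IsMDecomposition 6 D ∧ (∀ i, Cfsg.Geo.IsTotallySingularQuad Q (D i)) ∧ H = Cfsg.Geo.decompositionStabilizer D ⊓ Cfsg.Geo.omegaGL Q) ∨
    (∃ K : Subalgebra F (Matrix (Fin 12) (Fin 12) F), Cfsg.Geo.IsFieldSubalgebra 2 K ∧ H = Cfsg.Geo.subalgebraNormalizer K ⊓ Cfsg.Geo.omegaGL Q) ∨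
    (∃ K : Subalgebra F (Matrix (Fin 12) (Fin 12) F), Cfsg.Geo.IsFieldSubalgebra 3 K ∧ H = Cfsg.Geo.subalgebraNormalizer K ⊓ Cfsg.Geo.omegaGL Q) ∨
    (∃ K : Subalgebra F (Matrix (Fin 12) (Fin 12) F), Cfsg.Geo.IsFieldSubalgebra 2 K ∧ Cfsg.Geo.IsAdjointClosedFor (QuadraticMap.polar Q) K ∧ ¬ Cfsg.Geo.IsSelfAdjointFor (QuadraticMap.polar Q) K ∧ (∀ k ∈ K, ∃ c : F, ∀ v : (Fin 12 → F), Q (Matrix.mulVec k v) = c * Q v) ∧ H = Cfsg.Geo.subalgebraNormalizer K ⊓ Cfsg.Geo.omegaGL Q) ∨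
    (3 ≤ Fintype.card F ∧ ∃ (e : Fin 12 ≃ Fin 2 × Fin 6) (P : Matrix.GeneralLinearGroup (Fin 12) F) (f₁ : (Fin 2 → F) → (Fin 2 → F) → F) (f₂ : (Fin 6 → F) → (Fin 6 → F) → F), Cfsg.Geo.IsSymplecticForm f₁ ∧ Cfsg.Geo.IsSymplecticForm f₂ ∧ Cfsg.Geo.IsTensorFormStructure id (QuadraticMap.polar Q) f₁ f₂ e P ∧ (∀ (x₁ : Fin 2 → F) (x₂ : Fin 6 → F), Q (Matrix.mulVec (P : Matrix (Fin 12) (Fin 12) F) ((fun a : Fin 2 × Fin 6 => x₁ a.1 * x₂ a.2) ∘ e)) = 0) ∧ H = Cfsg.Geo.tensorProductSubgroup 2 6 e P ⊓ Cfsg.Geo.omegaGL Q) ∨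
    (∃ (F₀ : Subfield F) (r : ℕ) (P : Matrix.GeneralLinearGroup (Fin 12) F) (ζ : F), r.Prime ∧ Fintype.card F = Nat.card F₀ ^ r ∧ ζ ≠ 0 ∧ Cfsg.Geo.IsQuadFormRationalStructure (fun v : Fin 12 → F => ζ * Q v) F₀ P ∧ H = Cfsg.Geo.subfieldSubgroup F₀ P ⊓ Cfsg.Geo.omegaGL Q) ∨
    Cfsg.Geo.InOrthogonalResidualClass H := by
  classical
  obtain ⟨Q', rfl⟩ := Cfsg.Agent.Lib.OmCalc.exists_toQF Q hQ
  have C := Cfsg.Agent.H97.Asch.ectx_omega Q' (by simp) hQ
  have hHK : H ≤ Cfsg.Geo.omegaGL ⇑Q' := hH.1.le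
  have hN := Cfsg.Agent.Lib.OmCalc.nondeg_of hQ
  have h11 : 11 ≤ Fintype.card (Fin 12) := by simp
  have hstab : ∀ W : Submodule F (Fin 12 → F), W ≠ ⊥ → W ≠ ⊤ → H ≤ Cfsg.Geo.subspaceStabilizer W → H = Cfsg.Geo.subspaceStabilizer W ⊓ Cfsg.Geo.omegaGL ⇑Q' :=
    fun W h0 h1 h => Cfsg.Agent.H97.Asch.maximal_eq' hH h (C.not_le_stab (by simp) h0 h1)
  have hdec : ∀ {t k : ℕ} {D : Fin t → Submodule F (Fin 12 → F)}, Cfsg.Geo.IsOrthogonalMDecomposition ⇑Q' k D → k + 3 ≤ 12 → H ≤ Cfsg.Geo.decompositionStabilizer D →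
      H = Cfsg.Geo.decompositionStabilizer D ⊓ Cfsg.Geo.omegaGL ⇑Q' :=
    fun hD hk h => Cfsg.Agent.H97.Asch.maximal_eq' hH h (C.not_le_decomp_orth (by simp) hD.decomp (by simpa using hk))
  have hnm : ∀ {t k : ℕ} {D : Fin t → Submodule F (Fin 12 → F)}, Cfsg.Geo.IsOrthogonalMDecomposition ⇑Q' k D → k + 3 ≤ 12 → H ≤ Cfsg.Geo.decompositionStabilizer D →
      (∃ K₁ : Subgroup (Matrix.GeneralLinearGroup (Fin 12) F), Cfsg.Geo.decompositionStabilizer D ⊓ Cfsg.Geo.omegaGL ⇑Q' < K₁ ∧ K₁ < Cfsg.Geo.omegaGL ⇑Q') → False :=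
    fun hD hk h => Cfsg.Agent.H97.Asch.not_max_helper hH h (C.not_le_decomp_orth (by simp) hD.decomp (by simpa using hk))
  have hgt2 : 1 < Fintype.card F := Fintype.one_lt_card
  have htensor : ∀ (e : Fin 12 ≃ Fin 2 × Fin 6) (P : Matrix.GeneralLinearGroup (Fin 12) F) (f₁ : (Fin 2 → F) → (Fin 2 → F) → F) (f₂ : (Fin 6 → F) → (Fin 6 → F) → F),
      Cfsg.Geo.IsSymplecticForm f₁ → Cfsg.Geo.IsSymplecticForm f₂ → Cfsg.Geo.IsTensorFormStructure id (QuadraticMap.polar ⇑Q') f₁ f₂ e P →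
      (∀ (x₁ : Fin 2 → F) (x₂ : Fin 6 → F), Q' (Matrix.mulVec (P : Matrix (Fin 12) (Fin 12) F) ((fun a : Fin 2 × Fin 6 => x₁ a.1 * x₂ a.2) ∘ e)) = 0) →
      H ≤ Cfsg.Geo.tensorProductSubgroup 2 6 e P →
      (3 ≤ Fintype.card F ∧ ∃ (e : Fin 12 ≃ Fin 2 × Fin 6) (P : Matrix.GeneralLinearGroup (Fin 12) F) (f₁ : (Fin 2 → F) → (Fin 2 → F) → F) (f₂ : (Fin 6 → F) → (Fin 6 → F) → F), Cfsg.Geo.IsSymplecticForm f₁ ∧ Cfsg.Geo.IsSymplecticForm f₂ ∧ Cfsg.Geo.IsTensorFormStructure id (QuadraticMap.polar ⇑Q') f₁ f₂ e P ∧ (∀ (x₁ : Fin 2 → F) (x₂ : Fin 6 → F), Q' (Matrix.mulVec (P : Matrix (Fin 12) (Fin 12) F) ((fun a : Fin 2 × Fin 6 => x₁ a.1 * x₂ a.2) ∘ e)) = 0) ∧ H = Cfsg.Geo.tensorProductSubgroup 2 6 e P ⊓ Cfsg.Geo.omegaGL ⇑Q') := by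
    intro e P f₁ f₂ hf₁ hf₂ hT hpure hle
    have hnle := C.not_le_tensor_alt (by omega) e P hf₁ hf₂ hT hpure
    refine ⟨?_, e, P, f₁, f₂, hf₁, hf₂, hT, hpure, Cfsg.Agent.H97.Asch.maximal_eq' hH hle hnle⟩
    by_contra hq
    have hq2 : Fintype.card F = 2 := by omega
    exact Cfsg.Agent.H97.Asch.not_max_helper hH hle hnle
      (Cfsg.Agent.Lib.OmTensor2.tensor_two hq2 hN h11 (by omega) e P hf₁ hf₂ hT (fun u w => hpure u w))
  rcases C.main (Or.inr (Or.inr (by simp))) hHK with ⟨W, h0, h1, h2⟩ | ⟨W, h0, h1, hnd, h2⟩ | ⟨hq, v, hv, h2⟩ | ⟨t, k, D, hD, h2⟩ | ⟨k, D, hD, h1, h2⟩ |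
    ⟨ℓ, K', hℓ, hK', -, h2, -⟩ | ⟨d, m, e, P, f₁, f₂, hd, hdm, hf₁, hf₂, hT, hpure, hle⟩ | ⟨d, m, e, P, f₁, f₂, hqo, hd, hdm, hf₁, hf₂, hT, hle⟩ |
    ⟨F₀, r, P, ζ, hr, hF, hζ, hrat, h2⟩ | ⟨h8, -⟩ | h10
  · have hfr : Module.finrank F W ≠ 5 := by
      intro hfr
      exact Cfsg.Agent.H97.Asch.not_max_helper hH h2 (C.not_le_stab (by simp) h0 (C.ts_ne_top h1))
        (Cfsg.Agent.Lib.OmLag.not_max_hyperline hN h11 (m := 6) (by simp) hplus h1 (by omega))
    exact Or.inl ⟨W, h0, h1, hfr, hstab W h0 (C.ts_ne_top h1) h2⟩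
  · obtain ⟨W', h0', h1', hnd', h2', hdim⟩ := C.nondeg_half hHK h0 h1 hnd h2
    rw [Fintype.card_fin] at hdim
    have hd0 : Module.finrank F W' ≠ 0 := fun h => h0' (Submodule.finrank_eq_zero.mp h)
    by_cases hodd : Odd (Module.finrank F W')
    · obtain ⟨c, hc⟩ := hodd
      exact Or.inr <| Or.inl (⟨C.odd_of_odd_dim hnd' ⟨c, hc⟩, W', h0', h1', ⟨c, hc⟩, by omega, hnd', hstab W' h0' h1' h2'⟩)
    · have hcases : Module.finrank F W' = 2 ∨ Module.finrank F W' = 4 ∨ Module.finrank F W' = 6 := by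
        rw [Nat.not_odd_iff_even] at hodd
        obtain ⟨c, hc⟩ := hodd
        omega
      rcases hcases with h | h | h
      · by_cases hp : Cfsg.Geo.IsPlusTypeOn ⇑Q' W'
        · exact Or.inr <| Or.inr <| Or.inr <| Or.inl (⟨Cfsg.Agent.H97.Asch.plane_cases Q' hQ (by simp) hH h hnd' h2' hp, W', h, hnd', hp, hstab W' h0' h1' h2'⟩)
        · exact Or.inr <| Or.inr <| Or.inl (⟨W', h, hnd', hp, hstab W' h0' h1' h2'⟩)
      · exact Or.inr <| Or.inr <| Or.inr <| Or.inr <| Or.inl (⟨W', h, hnd', hstab W' h0' h1' h2'⟩)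
      · obtain ⟨D, hD, hle⟩ := C.half_block (a := 3) hplus hHK (by omega) h (by simp) hnd' h2'
        exact Or.inr <| Or.inr <| Or.inr <| Or.inr <| Or.inr <| Or.inr <| Or.inr <| Or.inr <| Or.inr <| Or.inr <| Or.inr <| Or.inl (⟨D, hD, hdec hD (by omega) hle⟩)
  · have hv0 : v ≠ 0 := by
      rintro rfl
      exact hv C.Q_zero
    have h0' : Submodule.span F {v} ≠ ⊥ := by
      simpa using hv0
    have h1' : Submodule.span F {v} ≠ ⊤ := by
      intro h
      have h3 := finrank_span_singleton (K := F) hv0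
      rw [h, finrank_top, Module.finrank_fintype_fun_eq_card, Fintype.card_fin] at h3
      omega
    exact Or.inr <| Or.inr <| Or.inr <| Or.inr <| Or.inr <| Or.inl (⟨hq, v, hv, hstab _ h0' h1' h2⟩)
  · have hc := Cfsg.Agent.H97.Asch.card_of_mdecomp hD.decomp.decomp
    have hk := hD.decomp.decomp.pos
    have ht := hD.decomp.decomp.two_le
    rw [Fintype.card_fin] at hc
    have hkle : k ≤ 6 := by nlinarith
    interval_cases k
    · obtain rfl : t = 12 := by omega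
      have hq : Odd (Fintype.card F) := C.odd_of_odd_dim (hD.decomp.nondegenerate 0) (by rw [hD.decomp.decomp.finrank_eq]; decide)
      by_cases hp : (Fintype.card F).Prime
      · exact Or.inr <| Or.inr <| Or.inr <| Or.inr <| Or.inr <| Or.inr <| Or.inl (⟨⟨Fintype.card F, hp, hq, rfl⟩, D, hD, hdec hD (by omega) h2⟩)
      · obtain ⟨F₀, r, P, ζ, hr, hF, hζ, hrat, hle⟩ := C.frame_subfield hD hHK h2 hp
        exact Or.inr <| Or.inr <| Or.inr <| Or.inr <| Or.inr <| Or.inr <| Or.inr <| Or.inr <| Or.inr <| Or.inr <| Or.inr <| Or.inr <| Or.inr <| Or.inr <| Or.inr <| Or.inr <| Or.inr <| Or.inl (⟨F₀, r, P, ζ, hr, hF, hζ, hrat,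
          Cfsg.Agent.H97.Asch.maximal_eq' hH hle (C.not_le_subfield (by simp) (Cfsg.Agent.H97.Asch.subfield_ne_top hF hr) P)⟩)
    · obtain rfl : t = 6 := by omega
      rcases Cfsg.Agent.H97.Ty.blocks_even (a := 1) hD with ⟨hP, -⟩ | ⟨hM, -, -⟩
      · by_cases h7 : 7 ≤ Fintype.card F
        · exact Or.inr <| Or.inr <| Or.inr <| Or.inr <| Or.inr <| Or.inr <| Or.inr <| Or.inl (⟨h7, D, hD, hP, hdec hD (by omega) h2⟩)
        · exfalso
          have h6 := Cfsg.Agent.H97.Asch.card_ne_six (F := F)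
          have hcases : Fintype.card F = 2 ∨ Fintype.card F = 3 ∨ Fintype.card F = 4 ∨ Fintype.card F = 5 := by omega
          rcases hcases with hq | hq | hq | hq
          · exact hnm hD (by omega) h2 (Cfsg.Agent.Lib.OmFrame2.not_max_q2 hq hN h11 hD (by omega) hP)
          · obtain ⟨ε, hε, hB⟩ := Cfsg.Agent.Lib.OmFrame.blk_plane₃ hq (hD.decomp.decomp.finrank_eq 0) (hD.decomp.nondegenerate 0)
            exact hnm hD (by omega) h2 (Cfsg.Agent.Lib.OmFrame.frame_decomp hN h11 (Cfsg.Agent.Lib.OmFrame.two_ne₃ hq) hD (by omega) hε hB)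
          · exact hnm hD (by omega) h2 (Cfsg.Agent.Lib.OmFrame2.not_max_q4 hq hN h11 hD (by omega) hP)
          · have h2' : (2 : F) ≠ 0 := Cfsg.Agent.H97.Asch.two_ne_of_odd_card (by rw [hq]; decide)
            have hB := Cfsg.Agent.Lib.OmFrame.blk_plus₅ hq (hD.decomp.decomp.finrank_eq 0) (hD.decomp.nondegenerate 0) (hP 0)
            exact hnm hD (by omega) h2 (Cfsg.Agent.Lib.OmFrame.frame_decomp hN h11 h2' hD (by omega) one_ne_zero hB)
      · by_cases hq : Fintype.card F = 3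
        · exfalso
          obtain ⟨ε, hε, hB⟩ := Cfsg.Agent.Lib.OmFrame.blk_plane₃ hq (hD.decomp.decomp.finrank_eq 0) (hD.decomp.nondegenerate 0)
          exact hnm hD (by omega) h2 (Cfsg.Agent.Lib.OmFrame.frame_decomp hN h11 (Cfsg.Agent.Lib.OmFrame.two_ne₃ hq) hD (by omega) hε hB)
        · exact Or.inr <| Or.inr <| Or.inr <| Or.inr <| Or.inr <| Or.inr <| Or.inr <| Or.inr <| Or.inl (⟨hq, D, hD, fun i => Cfsg.Agent.H97.Ty.Minus.not_plus (hM i) (Cfsg.Agent.H97.Ty.nd_of_on (hD.decomp.nondegenerate i)), hdec hD (by omega) h2⟩)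
    · obtain rfl : t = 4 := by omega
      have hq : Odd (Fintype.card F) := C.odd_of_odd_dim (hD.decomp.nondegenerate 0) (by rw [hD.decomp.decomp.finrank_eq]; decide)
      by_cases hq3 : Fintype.card F = 3
      · exfalso
        obtain ⟨ε, hε, hB⟩ := Cfsg.Agent.Lib.OmFrame.blk_three₃ hq3 (hD.decomp.decomp.finrank_eq 0) (hD.decomp.nondegenerate 0)
        exact hnm hD (by omega) h2 (Cfsg.Agent.Lib.OmFrame.frame_decomp hN h11 (Cfsg.Agent.Lib.OmFrame.two_ne₃ hq3) hD (by omega) hε hB)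
      · have h5 : 5 ≤ Fintype.card F := by
          obtain ⟨c, hc⟩ := hq
          omega
        exact Or.inr <| Or.inr <| Or.inr <| Or.inr <| Or.inr <| Or.inr <| Or.inr <| Or.inr <| Or.inr <| Or.inl (⟨hq, h5, D, hD, hdec hD (by omega) h2⟩)
    · obtain rfl : t = 3 := by omega
      by_cases hq2 : Fintype.card F = 2
      · exfalso
        rcases Cfsg.Agent.H97.Ty.blocks_even (a := 2) hD with ⟨hP, -⟩ | ⟨-, -, hM⟩
        · exact hnm hD (by omega) h2 (Cfsg.Agent.Lib.OmFrame2.not_max_k4 hq2 hN h11 hD hP)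
        · have hND : Cfsg.Agent.Lib.QuadFF.ND (Cfsg.Agent.Lib.QuadFF.restr Q' ⊤) := by
            apply Cfsg.Agent.H97.Ty.nd_restr
            intro w _ hw0
            obtain ⟨y, hy⟩ := C.nd hw0
            exact ⟨y, Submodule.mem_top, hy⟩
          exact Cfsg.Agent.H97.Ty.Minus.not_plus (hM (by decide)) hND hplus
      · exact Or.inr <| Or.inr <| Or.inr <| Or.inr <| Or.inr <| Or.inr <| Or.inr <| Or.inr <| Or.inr <| Or.inr <| Or.inl (⟨by omega, D, hD, hdec hD (by omega) h2⟩)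
    · omega
    · obtain rfl : t = 2 := by omega
      exact Or.inr <| Or.inr <| Or.inr <| Or.inr <| Or.inr <| Or.inr <| Or.inr <| Or.inr <| Or.inr <| Or.inr <| Or.inr <| Or.inl (⟨D, hD, hdec hD (by omega) h2⟩)
  · have hc := Cfsg.Agent.H97.Asch.card_of_mdecomp hD
    rw [Fintype.card_fin] at hc
    obtain rfl : k = 6 := by omega
    exact Or.inr <| Or.inr <| Or.inr <| Or.inr <| Or.inr <| Or.inr <| Or.inr <| Or.inr <| Or.inr <| Or.inr <| Or.inr <| Or.inr <| Or.inl (⟨D, hD, h1, Cfsg.Agent.H97.Asch.maximal_eq' hH h2 (C.not_le_decomp (by simp) hD (by omega))⟩)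
  · have hd : ℓ ∣ 12 := by
      simpa using Cfsg.Agent.H97.Asch.dvd_of_fieldSubalgebra hK'
    have hcases : ℓ = 2 ∨ ℓ = 3 := by
      have hle := Nat.le_of_dvd (by norm_num) hd
      have hl2 := hℓ.two_le
      interval_cases ℓ
      · exact Or.inl rfl
      · exact Or.inr rfl
      · exact absurd hℓ (by norm_num)
      · exact absurd hd (by norm_num)
      · exact absurd hℓ (by norm_num)
      · exact absurd hd (by norm_num)
      · exact absurd hℓ (by norm_num)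
      · exact absurd hℓ (by norm_num)
      · exact absurd hℓ (by norm_num)
      · exact absurd hd (by norm_num)
      · exact absurd hℓ (by norm_num)
    rcases hcases with rfl | rfl
    · exact Or.inr <| Or.inr <| Or.inr <| Or.inr <| Or.inr <| Or.inr <| Or.inr <| Or.inr <| Or.inr <| Or.inr <| Or.inr <| Or.inr <| Or.inr <| Or.inl (⟨K', hK', Cfsg.Agent.H97.Asch.maximal_eq' hH h2 (C.not_le_field' (by simp) (by omega) hK')⟩)
    · exact Or.inr <| Or.inr <| Or.inr <| Or.inr <| Or.inr <| Or.inr <| Or.inr <| Or.inr <| Or.inr <| Or.inr <| Or.inr <| Or.inr <| Or.inr <| Or.inr <| Or.inl (⟨K', hK', Cfsg.Agent.H97.Asch.maximal_eq' hH h2 (C.not_le_field' (by simp) (by omega) hK')⟩)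
  · have hp := Cfsg.Agent.H97.Asch.tensor_dims e
    have hd3 : d ≤ 3 := by nlinarith
    interval_cases d
    · obtain rfl : m = 6 := by omega
      exact Or.inr <| Or.inr <| Or.inr <| Or.inr <| Or.inr <| Or.inr <| Or.inr <| Or.inr <| Or.inr <| Or.inr <| Or.inr <| Or.inr <| Or.inr <| Or.inr <| Or.inr <| Or.inr <| Or.inl (htensor e P f₁ f₂ hf₁ hf₂ hT hpure hle)
    · exact (Cfsg.Agent.H97.Asch.symplectic_odd hf₁ (n := 3) (by simp) (by decide)).elim
  · have hp := Cfsg.Agent.H97.Asch.tensor_dims e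
    have hd3 : d = 3 := by nlinarith
    subst hd3
    obtain rfl : m = 4 := by omega
    have h2' : (2 : F) ≠ 0 := Cfsg.Agent.H97.Asch.two_ne_of_odd_card hqo
    by_cases hp4 : Cfsg.Geo.IsPlusTypeOn (fun v : Fin 4 → F => f₂ v v) ⊤
    · obtain ⟨P', C₀, hT'⟩ := C.tensor34_refine h2' hf₁ hf₂ hp4 hT hHK hle
      obtain ⟨g₁, g₂, a1, a2, a3, a4, a5⟩ := C.tensor_alt_data h2' hT'
      exact Or.inr <| Or.inr <| Or.inr <| Or.inr <| Or.inr <| Or.inr <| Or.inr <| Or.inr <| Or.inr <| Or.inr <| Or.inr <| Or.inr <| Or.inr <| Or.inr <| Or.inr <| Or.inr <| Or.inl (htensor _ _ g₁ g₂ a1 a2 a3 a4 a5)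
    · exact absurd hplus (C.tensor_sym_minus h2' hf₁ hf₂ hT hp4)
  · exact Or.inr <| Or.inr <| Or.inr <| Or.inr <| Or.inr <| Or.inr <| Or.inr <| Or.inr <| Or.inr <| Or.inr <| Or.inr <| Or.inr <| Or.inr <| Or.inr <| Or.inr <| Or.inr <| Or.inr <| Or.inl (⟨F₀, r, P, ζ, hr, hF, hζ, hrat,
      Cfsg.Agent.H97.Asch.maximal_eq' hH h2 (C.not_le_subfield (by simp) (Cfsg.Agent.H97.Asch.subfield_ne_top hF hr) P)⟩)
  · simp at h8
  · exact Or.inr <| Or.inr <| Or.inr <| Or.inr <| Or.inr <| Or.inr <| Or.inr <| Or.inr <| Or.inr <| Or.inr <| Or.inr <| Or.inr <| Or.inr <| Or.inr <| Or.inr <| Or.inr <| Or.inr <| Or.inr <| h10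

end Cfsg.Agent.S5871
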