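import Cfsg.Statements.S5874
import Cfsg.Agent.Lib.H97L13

set_option autoImplicit false
open Cfsg

namespace Cfsg.Agent.S5874

/-- Every maximal subgroup of Ω_12^-(q) is of one of the listed geometric types or lies in the residual class. Let F be a finite field with q elements (characteristic p), Q a non-degenerate quadratic form on F^12 of minus type (Witt index 5: no totally singular 6-space), Ω the commutator subgroup of its isometry group, and H a maximal subgroup of Ω (inside GL_12(F)). Then H is the intersection with Ω of one of: the stabiliser of a non-zero totally singular subspace; for q odd, the stabiliser of a non-degenerate subspace of odd dimension; the stabiliser of a non-degenerate 2-space of minus type; for q ≥ 4, the stabiliser of a non-degenerate 2-space of plus type; the stabiliser of a non-degenerate 4-space; the stabiliser of a non-degenerate 6-space; for q even, the stabiliser of the span of a non-singular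 vector; the stabiliser of a decomposition into 3 pairwise orthogonal, pairwise isometric non-degenerate 4-spaces of minus type; the normaliser of a degree-2 subfield of the matrix algebra; the normaliser of a degree-3 subfield of the matrix algebra; for q odd with q ≥ 5, the stabiliser of a tensor decomposition of the polar form into symmetric forms on F^3 and F^4 (minus type); a subfield group (|F| = |F₀|^r, r odd prime) whose F₀-structure carries a non-zero multiple of Q — or else H lies in the residual class of the orthogonal case (modulo scalars H is almost simple, with absolutely irreducible perfect socle preimage realisable over no proper subfield and fixing no non-degenerate unitary form). -/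
theorem result {F : Type*} [Field F] [Fintype F] (Q : (Fin 12 → F) → F) (hQ : Cfsg.Geo.IsNondegenerateQuadraticForm Q) (hminus : ¬ Cfsg.Geo.IsPlusTypeOn Q ⊤) (H : Subgroup (Matrix.GeneralLinearGroup (Fin 12) F)) (hH : Cfsg.Geo.IsMaximalIn (Cfsg.Geo.omegaGL Q) H) :
    (∃ W : Submodule F (Fin 12 → F), W ≠ ⊥ ∧ Cfsg.Geo.IsTotallySingularQuad Q W ∧ H = Cfsg.Geo.subspaceStabilizer W ⊓ Cfsg.Geo.omegaGL Q) ∨
    (Odd (Fintype.card F) ∧ ∃ W : Submodule F (Fin 12 → F), W ≠ ⊥ ∧ W ≠ ⊤ ∧ Odd (Module.finrank F W) ∧ 2 * Module.finrank F W ≠ 12 ∧ Cfsg.Geo.IsNondegenerateOn (QuadraticMap.polar Q) W ∧ H = Cfsg.Geo.subspaceStabilizer W ⊓ Cfsg.Geo.omegaGL Q) ∨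
    (∃ W : Submodule F (Fin 12 → F), Module.finrank F W = 2 ∧ Cfsg.Geo.IsNondegenerateOn (QuadraticMap.polar Q) W ∧ ¬ Cfsg.Geo.IsPlusTypeOn Q W ∧ H = Cfsg.Geo.subspaceStabilizer W ⊓ Cfsg.Geo.omegaGL Q) ∨
    (4 ≤ Fintype.card F ∧ ∃ W : Submodule F (Fin 12 → F), Module.finrank F W = 2 ∧ Cfsg.Geo.IsNondegenerateOn (QuadraticMap.polar Q) W ∧ Cfsg.Geo.IsPlusTypeOn Q W ∧ H = Cfsg.Geo.subspaceStabilizer W ⊓ Cfsg.Geo.omegaGL Q) ∨
    (∃ W : Submodule F (Fin 12 → F), Module.finrank F W = 4 ∧ Cfsg.Geo.IsNondegenerateOn (QuadraticMap.polar Q) W ∧ H = Cfsg.Geo.subspaceStabilizer W ⊓ Cfsg.Geo.omegaGL Q) ∨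
    (∃ W : Submodule F (Fin 12 → F), Module.finrank F W = 6 ∧ Cfsg.Geo.IsNondegenerateOn (QuadraticMap.polar Q) W ∧ H = Cfsg.Geo.subspaceStabilizer W ⊓ Cfsg.Geo.omegaGL Q) ∨
    (¬ Odd (Fintype.card F) ∧ ∃ v : (Fin 12 → F), Q v ≠ 0 ∧ H = Cfsg.Geo.subspaceStabilizer (Submodule.span F {v}) ⊓ Cfsg.Geo.omegaGL Q) ∨
    (∃ D : Fin 3 → Submodule F (Fin 12 → F), Cfsg.Geo.IsOrthogonalMDecomposition Q 4 D ∧ (∀ i, ¬ Cfsg.Geo.IsPlusTypeOn Q (D i)) ∧ H = Cfsg.Geo.decompositionStabilizer D ⊓ Cfsg.Geo.omegaGL Q) ∨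
    (∃ K : Subalgebra F (Matrix (Fin 12) (Fin 12) F), Cfsg.Geo.IsFieldSubalgebra 2 K ∧ H = Cfsg.Geo.subalgebraNormalizer K ⊓ Cfsg.Geo.omegaGL Q) ∨
    (∃ K : Subalgebra F (Matrix (Fin 12) (Fin 12) F), Cfsg.Geo.IsFieldSubalgebra 3 K ∧ H = Cfsg.Geo.subalgebraNormalizer K ⊓ Cfsg.Geo.omegaGL Q) ∨
    (Odd (Fintype.card F) ∧ 5 ≤ Fintype.card F ∧ ∃ (e : Fin 12 ≃ Fin 3 × Fin 4) (P : Matrix.GeneralLinearGroup (Fin 12) F) (f₁ : (Fin 3 → F) → (Fin 3 → F) → F) (f₂ : (Fin 4 → F) → (Fin 4 → F) → F), Cfsg.Geo.IsSymmetricForm f₁ ∧ Cfsg.Geo.IsSymmetricForm f₂ ∧ ¬ Cfsg.Geo.IsPlusTypeOn (fun v : Fin 4 → F => f₂ v v) ⊤ ∧ Cfsg.Geo.IsTensorFormStructure id (QuadraticMap.polar Q) f₁ f₂ e P ∧ H = Cfsg.Geo.tensorProductSubgroup 3 4 e P ⊓ Cfsg.Geo.omegaGL Q) ∨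
    (∃ (F₀ : Subfield F) (r : ℕ) (P : Matrix.GeneralLinearGroup (Fin 12) F) (ζ : F), r.Prime ∧ Odd r ∧ Fintype.card F = Nat.card F₀ ^ r ∧ ζ ≠ 0 ∧ Cfsg.Geo.IsQuadFormRationalStructure (fun v : Fin 12 → F => ζ * Q v) F₀ P ∧ H = Cfsg.Geo.subfieldSubgroup F₀ P ⊓ Cfsg.Geo.omegaGL Q) ∨
    Cfsg.Geo.InOrthogonalResidualClass H := by
  classical
  obtain ⟨Q', rfl⟩ := Cfsg.Agent.Lib.OmCalc.exists_toQF Q hQ
  have C := Cfsg.Agent.H97.Asch.ectx_omega Q' (by simp) hQ
  have hHK : H ≤ Cfsg.Geo.omegaGL ⇑Q' := hH.1.le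
  have hstab : ∀ W : Submodule F (Fin 12 → F), W ≠ ⊥ → W ≠ ⊤ → H ≤ Cfsg.Geo.subspaceStabilizer W → H = Cfsg.Geo.subspaceStabilizer W ⊓ Cfsg.Geo.omegaGL ⇑Q' :=
    fun W h0 h1 h => Cfsg.Agent.H97.Asch.maximal_eq' hH h (C.not_le_stab (by simp) h0 h1)
  rcases C.main (Or.inr (Or.inr (by simp))) hHK with ⟨W, h0, h1, h2⟩ | ⟨W, h0, h1, hnd, h2⟩ | ⟨hq, v, hv, h2⟩ | ⟨t, k, D, hD, h2⟩ | ⟨k, D, hD, h1, h2⟩ |
    ⟨ℓ, K', hℓ, hK', -, h2, -⟩ | ⟨d, m, e, P, f₁, f₂, hd, hdm, hf₁, -, -, hpure, -⟩ | ⟨d, m, e, P, f₁, f₂, hqo, hd, hdm, hf₁, hf₂, hT, hle⟩ |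
    ⟨F₀, r, P, ζ, hr, hF, hζ, hrat, h2⟩ | ⟨h8, -⟩ | h10
  · exact Or.inl ⟨W, h0, h1, hstab W h0 (C.ts_ne_top h1) h2⟩
  · obtain ⟨W', h0', h1', hnd', h2', hdim⟩ := C.nondeg_half hHK h0 h1 hnd h2
    rw [Fintype.card_fin] at hdim
    have hd0 : Module.finrank F W' ≠ 0 := fun h => h0' (Submodule.finrank_eq_zero.mp h)
    by_cases hodd : Odd (Module.finrank F W')
    · obtain ⟨c, hc⟩ := hodd
      exact Or.inr <| Or.inl (⟨C.odd_of_odd_dim hnd' ⟨c, hc⟩, W', h0', h1', ⟨c, hc⟩, by omega, hnd', hstab W' h0' h1' h2'⟩)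
    · have hcases : Module.finrank F W' = 2 ∨ Module.finrank F W' = 4 ∨ Module.finrank F W' = 6 := by
        rw [Nat.not_odd_iff_even] at hodd
        obtain ⟨c, hc⟩ := hodd
        omega
      rcases hcases with h | h | h
      · by_cases hp : Cfsg.Geo.IsPlusTypeOn ⇑Q' W'
        · exact Or.inr <| Or.inr <| Or.inr <| Or.inl (⟨Cfsg.Agent.H97.Asch.plane_cases Q' hQ (by simp) hH h hnd' h2' hp, W', h, hnd', hp, hstab W' h0' h1' h2'⟩)
        · exact Or.inr <| Or.inr <| Or.inl (⟨W', h, hnd', hp, hstab W' h0' h1' h2'⟩)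
      · exact Or.inr <| Or.inr <| Or.inr <| Or.inr <| Or.inl (⟨W', h, hnd', hstab W' h0' h1' h2'⟩)
      · exact Or.inr <| Or.inr <| Or.inr <| Or.inr <| Or.inr <| Or.inl (⟨W', h, hnd', hstab W' h0' h1' h2'⟩)
  · have hv0 : v ≠ 0 := by
      rintro rfl
      exact hv C.Q_zero
    have h0' : Submodule.span F {v} ≠ ⊥ := by
      simpa using hv0
    have h1' : Submodule.span F {v} ≠ ⊤ := by
      intro h
      have h3 := finrank_span_singleton (K := F) hv0
      rw [h, finrank_top, Module.finrank_fintype_fun_eq_card, Fintype.card_fin] at h3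
      omega
    exact Or.inr <| Or.inr <| Or.inr <| Or.inr <| Or.inr <| Or.inr <| Or.inl (⟨hq, v, hv, hstab _ h0' h1' h2⟩)
  · have hc := Cfsg.Agent.H97.Asch.card_of_mdecomp hD.decomp.decomp
    have hk := hD.decomp.decomp.pos
    have ht := hD.decomp.decomp.two_le
    rw [Fintype.card_fin] at hc
    have hkle : k ≤ 6 := by nlinarith
    interval_cases k
    · exact absurd (Cfsg.Agent.H97.Ty.blocks_pairs (s := 6) hD (by omega) (by decide)) hminus
    · obtain rfl : t = 6 := by omega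
      rcases Cfsg.Agent.H97.Ty.blocks_even (a := 1) hD with ⟨-, h⟩ | ⟨-, h, -⟩
      · exact absurd h hminus
      · exact absurd (h (by decide)) hminus
    · exact absurd (Cfsg.Agent.H97.Ty.blocks_pairs (s := 2) hD (by omega) (by decide)) hminus
    · obtain rfl : t = 3 := by omega
      rcases Cfsg.Agent.H97.Ty.blocks_even (a := 2) hD with ⟨-, h⟩ | ⟨hM, -, -⟩
      · exact absurd h hminus
      · exact Or.inr <| Or.inr <| Or.inr <| Or.inr <| Or.inr <| Or.inr <| Or.inr <| Or.inl (⟨D, hD, fun i => Cfsg.Agent.H97.Ty.Minus.not_plus (hM i) (Cfsg.Agent.H97.Ty.nd_of_on (hD.decomp.nondegenerate i)),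
          Cfsg.Agent.H97.Asch.maximal_eq' hH h2 (C.not_le_decomp_orth (by simp) hD.decomp (by simp))⟩)
    · omega
    · obtain rfl : t = 2 := by omega
      rcases Cfsg.Agent.H97.Ty.blocks_even (a := 3) hD with ⟨-, h⟩ | ⟨-, h, -⟩
      · exact absurd h hminus
      · exact absurd (h (by decide)) hminus
  · exfalso
    have hc := Cfsg.Agent.H97.Asch.card_of_mdecomp hD
    rw [Fintype.card_fin] at hc
    refine hminus ⟨D 0, le_top, h1 0, ?_⟩
    rw [hD.finrank_eq, finrank_top, Module.finrank_fintype_fun_eq_card, Fintype.card_fin]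
    omega
  · have hd : ℓ ∣ 12 := by
      simpa using Cfsg.Agent.H97.Asch.dvd_of_fieldSubalgebra hK'
    have hcases : ℓ = 2 ∨ ℓ = 3 := by
      have hle := Nat.le_of_dvd (by norm_num) hd
      have hl2 := hℓ.two_le
      interval_cases ℓ
      · exact Or.inl rfl
      · exact Or.inr rfl
      · exact absurd hℓ (by norm_num)
      · exact absurd hd (by norm_num)
      · exact absurd hℓ (by norm_num)
      · exact absurd hd (by norm_num)
      · exact absurd hℓ (by norm_num)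
      · exact absurd hℓ (by norm_num)
      · exact absurd hℓ (by norm_num)
      · exact absurd hd (by norm_num)
      · exact absurd hℓ (by norm_num)
    rcases hcases with rfl | rfl
    · exact Or.inr <| Or.inr <| Or.inr <| Or.inr <| Or.inr <| Or.inr <| Or.inr <| Or.inr <| Or.inl (⟨K', hK', Cfsg.Agent.H97.Asch.maximal_eq' hH h2 (C.not_le_field' (by simp) (by omega) hK')⟩)
    · exact Or.inr <| Or.inr <| Or.inr <| Or.inr <| Or.inr <| Or.inr <| Or.inr <| Or.inr <| Or.inr <| Or.inl (⟨K', hK', Cfsg.Agent.H97.Asch.maximal_eq' hH h2 (C.not_le_field' (by simp) (by omega) hK')⟩)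
  · exfalso
    have hp := Cfsg.Agent.H97.Asch.tensor_dims e
    have hd3 : d ≤ 3 := by nlinarith
    interval_cases d
    · exact hminus (Cfsg.Agent.H97.Asch.tensor_alt_plus (by omega) hpure)
    · exact Cfsg.Agent.H97.Asch.symplectic_odd hf₁ (n := 3) (by simp) (by decide)
  · have hp := Cfsg.Agent.H97.Asch.tensor_dims e
    have hd3 : d = 3 := by nlinarith
    subst hd3
    obtain rfl : m = 4 := by omega
    have h2' : (2 : F) ≠ 0 := Cfsg.Agent.H97.Asch.two_ne_of_odd_card hqo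
    by_cases hplus : Cfsg.Geo.IsPlusTypeOn (fun v : Fin 4 → F => f₂ v v) ⊤
    · exact absurd (C.tensor_sym_plus h2' hf₁ hf₂ hT hplus) hminus
    · have hq3 : Fintype.card F ≠ 3 := by
        intro hq3
        exact Cfsg.Agent.H97.Asch.not_max_helper hH hle (C.not_le_tensor_big (by simp) (by omega) (by omega) e P)
          (Cfsg.Agent.Lib.TensorFrame.tensor_omega hq3 (Cfsg.Agent.Lib.OmCalc.nondeg_of hQ) (by simp) (by omega) e P hf₁ hf₂ hT)
      have hq5 : 5 ≤ Fintype.card F := by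
        have h1 : 1 < Fintype.card F := Fintype.one_lt_card
        obtain ⟨c, hc⟩ := hqo
        omega
      exact Or.inr <| Or.inr <| Or.inr <| Or.inr <| Or.inr <| Or.inr <| Or.inr <| Or.inr <| Or.inr <| Or.inr <| Or.inl (⟨hqo, hq5, e, P, f₁, f₂, hf₁, hf₂, hplus, hT, Cfsg.Agent.H97.Asch.maximal_eq' hH hle (C.not_le_tensor_big (by simp) (by omega) (by omega) e P)⟩)
  · rcases hr.eq_two_or_odd' with rfl | hodd
    · exact absurd (Cfsg.Agent.H97.Asch.rational_two_plus C (a := 6) (by simp) hF hζ hrat) hminus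
    · exact Or.inr <| Or.inr <| Or.inr <| Or.inr <| Or.inr <| Or.inr <| Or.inr <| Or.inr <| Or.inr <| Or.inr <| Or.inr <| Or.inl (⟨F₀, r, P, ζ, hr, hodd, hF, hζ, hrat,
        Cfsg.Agent.H97.Asch.maximal_eq' hH h2 (C.not_le_subfield (by simp) (Cfsg.Agent.H97.Asch.subfield_ne_top hF hr) P)⟩)
  · simp at h8
  · exact Or.inr <| Or.inr <| Or.inr <| Or.inr <| Or.inr <| Or.inr <| Or.inr <| Or.inr <| Or.inr <| Or.inr <| Or.inr <| Or.inr h10

end Cfsg.Agent.S5874
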